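import Cfsg.Agent.H8.U6b

/-! H8.U6c: three classes of U4(3) in U6(2): they are different (generated certificate) -/

set_option autoImplicit false
set_option maxRecDepth 200000

set_option linter.all false
open Subgroup 

namespace H8.U6

noncomputable def pDd : Tr ℕ := (.node (nat_lit 1) (.leaf (nat_lit 0x2b4aceb2ac6b0abeaeab6acaaeaaaa6a8a9ea6a96a4a8ea2a86a0a7e9ea769ca6e9aa6698a5e96a5694a4e92a4690a3e8ea368ca2e8aa2688a1e86a1684a0e82a06809fe7e9f67c9ee7a9e6789de769d6749ce729c6709be6e9b66c9ae6a9a66899e669966498e629866097e5e9765c96e5a9665895e569565494e529465093e4e9364c92e4a9264891e469164490e42906408fe3e8f63c8ee3a8e6388de368d6348ce328c6308be2e8b62c8ae2a8a62889e268962488e228862087e1e8761c86e1a8661885e168561484e128461083e0e8360c82e0a8260881e068160480e02806007fdfe7f5fc7edfa7e5f87ddf67d5f47cdf27c5f07bdee7b5ec7adea7a5e879de6795e478de2785e077dde775dc76dda7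65d875dd6755d474dd2745d073dce735cc72dca725c871dc6715c470dc2705c06fdbe6f5bc6edba6e5b86ddb66d5b46cdb26c5b06bdae6b5ac6adaa6a5a869da6695a468da2685a067d9e6759c66d9a6659865d966559464d926459063d8e6358c62d8a6258861d866158460d82605805fd7e5f57c5ed7a5e5785dd765d5745cd725c5705bd6e5b56c5ad6a5a56859d665956458d625856057d5e5755c56d5a5655855d565555454d525455053d4e5354c52d4a5254851d465154450d42505404fd3e4f53c4ed3a4e5384dd364d5344cd324c5304bd2e4b52c4ad2a4a52849d264952448d224852047d1e4751c46d1a4651845d164551444d124451043d0e4350c42d0a4250841d064150440d02405003fcfe3f4fc3ecfa3e4f83dcf63d4f43ccf23c4f03bcee3b4ec3acea3a4e839ce6394e438ce2384e037cde374dc36cda364d835cd6354d434cd2344d033cce334cc32cca324c831cc6314c430cc2304c02fcbe2f4bc2ecba2e4b82dcb62d4b42ccb22c4b02bcae2b4ac2acaa2a4a829ca6294a428ca2284a027c9e2749c26c9a2649825c962549424c922449023c8e2348c22c8a2248821c862148420c82204801fc7e1f47c1ec7a1e4781dc761d4741cc721c4701bc6e1b46c1ac6a1a46819c661946418c621846017c5e1745c16c5a1645815c561545414c521445013c4e1344c12c4a1244811c461144410c42104400fc3e0f43c0ec3a0e4380dc360d4340cc320c4300bc2e0b42c0ac2a0a42809c260942408c220842007c1e0741c06c1a0641805c160541404c120441003c0e0340c02c0a0240801c060140400c0200400))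 (.leaf (nat_lit 0x199960da18c15278c77a67a3c2526125a5c4db79cf19e4fe4b15d061971922c668dc98e8f570891889c744327a1b60b4785052e751d250112ac93341d8f3224d2a5b17744670c8b71e2b4d83a10c4c539bb88961aba36008551fa4169cbf44e9a4fe31aaa6f80a87440d18fc9452d1fa99067193477a106c0160ec4e7f4806f07d004569b5ff394e79097a82105a6d70ad1082306c084f26364c6228034a5b7d0f6484918d4930e474ac0cc0009b455b3801a63a21a6aab32f0a8a5c6d5a0f393a2f7212253414838450284da11f5a18b5024951d52059ea89122729c59014886a23a3a6994697755df8391f070a828c15633c131bc968dc5ba867daa56c8858b3ea8c2b65e0fe250906a4e0cd14d6a86d2f83103660ba95a885f4fb1a49206a120d2750c0330d9d68554585d48741826723894d9e2e01d1948e784c56d5eb8a958400d77927807d5e2402019dee899c078db7549014b60903e7c13e7f7daab2600d1c5644714a6fdef60482170075ee9645e6b309fe35972844ed43e677657609cf787d91180a2430a60aa7290cb09828e2b0b2632a41c9851cc9a041194ee3b6b5f91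454f915bd21c032145f812683023d3b1a28d1ca680b97ca83a89235a57e8b8ce1510b109044c96d0946823e4b598f949cb42ac7f16086a48bd992166a4eb4a53a46d3e72d7882e930f61d6d1e22cdc17b47728011a8d89495534c4d34f1c48a61e545be6b2054a83e2dc1742aac9f9db2bdaf0b0702651815cef920840a1747626930e3e690060c4384453d84e39755433f4e251cde95173569024c0a30707c51008310e065a559d0c97b155a28fc124dd11c9f93d6007a767955f97e8b64dcd7dda18ccc10329d58e71a805d1e59f6029573a6a7f026891df12a4a6e5b27820a5ad0e5bab1918f5641da970a502d3914a4065201351141418a924f86385a1ae982a8bb8f17c3a83c7c60f0494c492065fcd04d5c94de515261c4760d6b9dc1d8d9121ba204449b12b38e9499916a7250696322f8236e22055290a0623588613540e1eca442595436af25c291b8ca91d92a9df39748a71662104f45422d6ad283fead47987088ae2342b19a6e3617981ce610165a95260b8830bc5e3ba1868d759969160e8580d9d37e2831a70a7a8d56661274b606d6f386571e8a10669f9cdea9ed9ba243501037519fb73dcc7ea1456e5975e192c5d36194212de69dccb)))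
noncomputable def pdE : Tr (List ℕ) := (.node (nat_lit 1) (.leaf []) (.leaf [nat_lit 1, nat_lit 9, nat_lit 6, nat_lit 0, nat_lit 9, nat_lit 6, nat_lit 1, nat_lit 8, nat_lit 6, nat_lit 4, nat_lit 8, nat_lit 1, nat_lit 3, nat_lit 7, nat_lit 4, nat_lit 7, nat_lit 5, nat_lit 4, nat_lit 5, nat_lit 2, nat_lit 0]))
theorem pdw_0 : pDd.all2 (fun c w => isProd 693 (nat_lit 10) (nat_lit 1023) U62.T c w) pdE = true := by decide +kernel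
theorem pdw : pDd.all2 (fun c w => isProd 693 (nat_lit 10) (nat_lit 1023) U62.T c w) pdE = true := pdw_0
noncomputable def pPA_0 : Tr (ℕ × List ℕ) := (.node (nat_lit 88) (.node (nat_lit 44) (.node (nat_lit 22) (.node (nat_lit 11) (.node (nat_lit 5) (.node (nat_lit 2) (.node (nat_lit 1) (.leaf ((nat_lit 0), [])) (.leaf ((nat_lit 1), []))) (.node (nat_lit 3) (.leaf ((nat_lit 1), [nat_lit 5, nat_lit 1, nat_lit 7, nat_lit 2])) (.node (nat_lit 4) (.leaf ((nat_lit 1), [nat_lit 5, nat_lit 1, nat_lit 6])) (.leaf ((nat_lit 0), [nat_lit 7, nat_lit 6, nat_lit 7, nat_lit 5, nat_lit 0])))))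
 (.node (nat_lit 8) (.node (nat_lit 6) (.leaf ((nat_lit 1), [nat_lit 2, nat_lit 7, nat_lit 1, nat_lit 7, nat_lit 4])) (.node (nat_lit 7) (.leaf ((nat_lit 1), [nat_lit 7, nat_lit 3, nat_lit 5, nat_lit 7, nat_lit 0])) (.leaf ((nat_lit 1), [nat_lit 5, nat_lit 3, nat_lit 1, nat_lit 6])))) (.node (nat_lit 9) (.leaf ((nat_lit 1), [nat_lit 7, nat_lit 4, nat_lit 7, nat_lit 3])) (.node (nat_lit 10) (.leaf ((nat_lit 1), [nat_lit 6, nat_lit 7, nat_lit 4, nat_lit 3])) (.leaf ((nat_lit 1), [nat_lit 7, nat_lit 0]))))))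
 (.node (nat_lit 16) (.node (nat_lit 13) (.node (nat_lit 12) (.leaf ((nat_lit 1), [nat_lit 0, nat_lit 5, nat_lit 7, nat_lit 0])) (.leaf ((nat_lit 1), [nat_lit 7, nat_lit 3, nat_lit 1, nat_lit 7, nat_lit 0]))) (.node (nat_lit 14) (.leaf ((nat_lit 1), [nat_lit 4, nat_lit 6, nat_lit 2, nat_lit 5, nat_lit 7])) (.node (nat_lit 15) (.leaf ((nat_lit 1), [nat_lit 6, nat_lit 5, nat_lit 3])) (.leaf ((nat_lit 1), [nat_lit 3, nat_lit 7, nat_lit 0, nat_lit 7, nat_lit 6])))))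
 (.node (nat_lit 19) (.node (nat_lit 17) (.leaf ((nat_lit 1), [nat_lit 2, nat_lit 0, nat_lit 7, nat_lit 1])) (.node (nat_lit 18) (.leaf ((nat_lit 1), [nat_lit 6, nat_lit 7])) (.leaf ((nat_lit 1), [nat_lit 4, nat_lit 5, nat_lit 7, nat_lit 4, nat_lit 1])))) (.node (nat_lit 20) (.leaf ((nat_lit 1), [nat_lit 6, nat_lit 1, nat_lit 6, nat_lit 7, nat_lit 0])) (.node (nat_lit 21) (.leaf ((nat_lit 1), [nat_lit 5, nat_lit 6, nat_lit 0, nat_lit 7])) (.leaf ((nat_lit 1), [nat_lit 6, nat_lit 7, nat_lit 2, nat_lit 7, nat_lit 0])))))))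
 (.node (nat_lit 33) (.node (nat_lit 27) (.node (nat_lit 24) (.node (nat_lit 23) (.leaf ((nat_lit 1), [nat_lit 5, nat_lit 4, nat_lit 2, nat_lit 1])) (.leaf ((nat_lit 1), [nat_lit 7, nat_lit 0, nat_lit 5, nat_lit 0]))) (.node (nat_lit 25) (.leaf ((nat_lit 1), [nat_lit 4, nat_lit 3, nat_lit 7, nat_lit 6, nat_lit 7, nat_lit 0])) (.node (nat_lit 26) (.leaf ((nat_lit 1), [nat_lit 7, nat_lit 3, nat_lit 5, nat_lit 6])) (.leaf ((nat_lit 1), [nat_lit 3, nat_lit 6, nat_lit 3])))))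
 (.node (nat_lit 30) (.node (nat_lit 28) (.leaf ((nat_lit 1), [nat_lit 7, nat_lit 0, nat_lit 7, nat_lit 6])) (.node (nat_lit 29) (.leaf ((nat_lit 1), [nat_lit 3, nat_lit 7, nat_lit 6, nat_lit 1, nat_lit 7])) (.leaf ((nat_lit 1), [nat_lit 1, nat_lit 6, nat_lit 5, nat_lit 7, nat_lit 4])))) (.node (nat_lit 31) (.leaf ((nat_lit 1), [nat_lit 7, nat_lit 5, nat_lit 0])) (.node (nat_lit 32) (.leaf ((nat_lit 0), [nat_lit 7, nat_lit 3, nat_lit 0])) (.leaf ((nat_lit 1), [nat_lit 6, nat_lit 7, nat_lit 6, nat_lit 4, nat_lit 5]))))))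
 (.node (nat_lit 38) (.node (nat_lit 35) (.node (nat_lit 34) (.leaf ((nat_lit 1), [nat_lit 7, nat_lit 5, nat_lit 4, nat_lit 3, nat_lit 0])) (.leaf ((nat_lit 1), [nat_lit 2, nat_lit 0, nat_lit 5, nat_lit 0]))) (.node (nat_lit 36) (.leaf ((nat_lit 1), [nat_lit 5, nat_lit 1, nat_lit 5, nat_lit 7, nat_lit 0])) (.node (nat_lit 37) (.leaf ((nat_lit 1), [nat_lit 5, nat_lit 4, nat_lit 2, nat_lit 5])) (.leaf ((nat_lit 1), [nat_lit 4, nat_lit 5, nat_lit 7, nat_lit 6])))))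
 (.node (nat_lit 41) (.node (nat_lit 39) (.leaf ((nat_lit 1), [nat_lit 5, nat_lit 1, nat_lit 6, nat_lit 0])) (.node (nat_lit 40) (.leaf ((nat_lit 0), [nat_lit 7, nat_lit 4, nat_lit 7, nat_lit 2, nat_lit 0])) (.leaf ((nat_lit 1), [nat_lit 7, nat_lit 4, nat_lit 6, nat_lit 2, nat_lit 0])))) (.node (nat_lit 42) (.leaf ((nat_lit 1), [nat_lit 5, nat_lit 7, nat_lit 4, nat_lit 3, nat_lit 0])) (.node (nat_lit 43) (.leaf ((nat_lit 1), [nat_lit 2, nat_lit 1, nat_lit 7, nat_lit 3, nat_lit 0])) (.leaf ((nat_lit 1), [nat_lit 7, nat_lit 1, nat_lit 7, nat_lit 5, nat_lit 3]))))))))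
 (.node (nat_lit 66) (.node (nat_lit 55) (.node (nat_lit 49) (.node (nat_lit 46) (.node (nat_lit 45) (.leaf ((nat_lit 1), [nat_lit 2, nat_lit 7, nat_lit 6, nat_lit 5])) (.leaf ((nat_lit 1), [nat_lit 2, nat_lit 6]))) (.node (nat_lit 47) (.leaf ((nat_lit 1), [nat_lit 7, nat_lit 6, nat_lit 4, nat_lit 0])) (.node (nat_lit 48) (.leaf ((nat_lit 1), [nat_lit 5, nat_lit 0, nat_lit 5, nat_lit 4])) (.leaf ((nat_lit 1), [nat_lit 5, nat_lit 0, nat_lit 7, nat_lit 4])))))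
 (.node (nat_lit 52) (.node (nat_lit 50) (.leaf ((nat_lit 1), [nat_lit 1, nat_lit 7, nat_lit 4, nat_lit 2, nat_lit 0])) (.node (nat_lit 51) (.leaf ((nat_lit 1), [nat_lit 0, nat_lit 6, nat_lit 4, nat_lit 7, nat_lit 0])) (.leaf ((nat_lit 1), [nat_lit 2, nat_lit 7, nat_lit 6])))) (.node (nat_lit 53) (.leaf ((nat_lit 1), [nat_lit 6, nat_lit 7, nat_lit 1, nat_lit 7, nat_lit 0])) (.node (nat_lit 54) (.leaf ((nat_lit 1), [nat_lit 1, nat_lit 5, nat_lit 1, nat_lit 7])) (.leaf ((nat_lit 1), [nat_lit 0, nat_lit 7, nat_lit 6, nat_lit 7, nat_lit 0]))))))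
 (.node (nat_lit 60) (.node (nat_lit 57) (.node (nat_lit 56) (.leaf ((nat_lit 1), [nat_lit 0, nat_lit 6, nat_lit 7, nat_lit 2, nat_lit 0])) (.leaf ((nat_lit 1), [nat_lit 6, nat_lit 0, nat_lit 7, nat_lit 3]))) (.node (nat_lit 58) (.leaf ((nat_lit 1), [nat_lit 1, nat_lit 6, nat_lit 5, nat_lit 3])) (.node (nat_lit 59) (.leaf ((nat_lit 0), [nat_lit 3, nat_lit 1, nat_lit 7, nat_lit 0])) (.leaf ((nat_lit 1), [nat_lit 5, nat_lit 6, nat_lit 2, nat_lit 7])))))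
 (.node (nat_lit 63) (.node (nat_lit 61) (.leaf ((nat_lit 0), [nat_lit 2, nat_lit 1, nat_lit 7, nat_lit 1])) (.node (nat_lit 62) (.leaf ((nat_lit 1), [nat_lit 1, nat_lit 7, nat_lit 0, nat_lit 6, nat_lit 3])) (.leaf ((nat_lit 1), [nat_lit 4, nat_lit 5, nat_lit 4, nat_lit 2])))) (.node (nat_lit 64) (.leaf ((nat_lit 0), [nat_lit 7, nat_lit 2, nat_lit 6, nat_lit 7, nat_lit 0])) (.node (nat_lit 65) (.leaf ((nat_lit 1), [nat_lit 4, nat_lit 0, nat_lit 6])) (.leaf ((nat_lit 1), [nat_lit 6, nat_lit 5, nat_lit 1, nat_lit 7, nat_lit 1])))))))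
 (.node (nat_lit 77) (.node (nat_lit 71) (.node (nat_lit 68) (.node (nat_lit 67) (.leaf ((nat_lit 1), [nat_lit 6, nat_lit 7, nat_lit 4, nat_lit 2, nat_lit 0])) (.leaf ((nat_lit 1), [nat_lit 7, nat_lit 1, nat_lit 7, nat_lit 6, nat_lit 4, nat_lit 0]))) (.node (nat_lit 69) (.leaf ((nat_lit 1), [nat_lit 6, nat_lit 3, nat_lit 7, nat_lit 2])) (.node (nat_lit 70) (.leaf ((nat_lit 1), [nat_lit 7, nat_lit 6, nat_lit 2, nat_lit 1, nat_lit 5])) (.leaf ((nat_lit 1), [nat_lit 6, nat_lit 3, nat_lit 5, nat_lit 1])))))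
 (.node (nat_lit 74) (.node (nat_lit 72) (.leaf ((nat_lit 1), [nat_lit 2, nat_lit 0, nat_lit 6])) (.node (nat_lit 73) (.leaf ((nat_lit 1), [nat_lit 7, nat_lit 6, nat_lit 3, nat_lit 5, nat_lit 7])) (.leaf ((nat_lit 1), [nat_lit 0, nat_lit 5, nat_lit 6, nat_lit 4])))) (.node (nat_lit 75) (.leaf ((nat_lit 1), [nat_lit 3, nat_lit 6, nat_lit 3, nat_lit 7])) (.node (nat_lit 76) (.leaf ((nat_lit 1), [nat_lit 7, nat_lit 4, nat_lit 7, nat_lit 6])) (.leaf ((nat_lit 1), [nat_lit 2, nat_lit 5, nat_lit 2, nat_lit 6]))))))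
 (.node (nat_lit 82) (.node (nat_lit 79) (.node (nat_lit 78) (.leaf ((nat_lit 1), [nat_lit 5, nat_lit 7, nat_lit 5, nat_lit 6])) (.leaf ((nat_lit 0), [nat_lit 0, nat_lit 7, nat_lit 0]))) (.node (nat_lit 80) (.leaf ((nat_lit 0), [nat_lit 1, nat_lit 6, nat_lit 7, nat_lit 0])) (.node (nat_lit 81) (.leaf ((nat_lit 1), [nat_lit 4, nat_lit 2])) (.leaf ((nat_lit 0), [nat_lit 7, nat_lit 4, nat_lit 7, nat_lit 6])))))
 (.node (nat_lit 85) (.node (nat_lit 83) (.leaf ((nat_lit 1), [nat_lit 4, nat_lit 5, nat_lit 7, nat_lit 4])) (.node (nat_lit 84) (.leaf ((nat_lit 1), [nat_lit 3, nat_lit 0, nat_lit 5, nat_lit 0])) (.leaf ((nat_lit 1), [nat_lit 1, nat_lit 7, nat_lit 6, nat_lit 1, nat_lit 7])))) (.node (nat_lit 86) (.leaf ((nat_lit 1), [nat_lit 7, nat_lit 4, nat_lit 5, nat_lit 3, nat_lit 1])) (.node (nat_lit 87) (.leaf ((nat_lit 1), [nat_lit 3, nat_lit 7, nat_lit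 6, nat_lit 5, nat_lit 6])) (.leaf ((nat_lit 1), [nat_lit 6, nat_lit 1, nat_lit 5, nat_lit 7, nat_lit 4])))))))))
 (.node (nat_lit 132) (.node (nat_lit 110) (.node (nat_lit 99) (.node (nat_lit 93) (.node (nat_lit 90) (.node (nat_lit 89) (.leaf ((nat_lit 1), [nat_lit 1, nat_lit 7, nat_lit 6, nat_lit 7])) (.leaf ((nat_lit 1), [nat_lit 6, nat_lit 7, nat_lit 0, nat_lit 6, nat_lit 3]))) (.node (nat_lit 91) (.leaf ((nat_lit 1), [nat_lit 5, nat_lit 3, nat_lit 7, nat_lit 4, nat_lit 2])) (.node (nat_lit 92) (.leaf ((nat_lit 1), [nat_lit 6, nat_lit 2, nat_lit 7, nat_lit 2, nat_lit 5, nat_lit 0])) (.leaf ((nat_lit 1), [nat_lit 2, nat_lit 0, nat_lit 7, nat_lit 2, nat_lit 0])))))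
 (.node (nat_lit 96) (.node (nat_lit 94) (.leaf ((nat_lit 1), [nat_lit 2, nat_lit 6, nat_lit 3, nat_lit 7])) (.node (nat_lit 95) (.leaf ((nat_lit 1), [nat_lit 3, nat_lit 6, nat_lit 1, nat_lit 7])) (.leaf ((nat_lit 1), [nat_lit 2, nat_lit 5, nat_lit 7, nat_lit 5, nat_lit 3])))) (.node (nat_lit 97) (.leaf ((nat_lit 1), [nat_lit 7, nat_lit 0, nat_lit 5, nat_lit 4])) (.node (nat_lit 98) (.leaf ((nat_lit 1), [nat_lit 4, nat_lit 2, nat_lit 7, nat_lit 0])) (.leaf ((nat_lit 1), [nat_lit 7, nat_lit 5, nat_lit 4, nat_lit 7, nat_lit 0]))))))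
 (.node (nat_lit 104) (.node (nat_lit 101) (.node (nat_lit 100) (.leaf ((nat_lit 1), [nat_lit 6, nat_lit 7, nat_lit 2, nat_lit 7, nat_lit 3])) (.leaf ((nat_lit 1), [nat_lit 7, nat_lit 1, nat_lit 6, nat_lit 3, nat_lit 7]))) (.node (nat_lit 102) (.leaf ((nat_lit 1), [nat_lit 3, nat_lit 7, nat_lit 3, nat_lit 1])) (.node (nat_lit 103) (.leaf ((nat_lit 1), [nat_lit 3, nat_lit 7, nat_lit 3, nat_lit 6])) (.leaf ((nat_lit 1), [nat_lit 5, nat_lit 1, nat_lit 7, nat_lit 1])))))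
 (.node (nat_lit 107) (.node (nat_lit 105) (.leaf ((nat_lit 1), [nat_lit 7, nat_lit 5, nat_lit 4, nat_lit 7, nat_lit 3, nat_lit 0])) (.node (nat_lit 106) (.leaf ((nat_lit 1), [nat_lit 7, nat_lit 3, nat_lit 5, nat_lit 0])) (.leaf ((nat_lit 1), [nat_lit 3, nat_lit 1, nat_lit 6, nat_lit 0])))) (.node (nat_lit 108) (.leaf ((nat_lit 1), [nat_lit 2, nat_lit 5, nat_lit 4, nat_lit 7, nat_lit 4])) (.node (nat_lit 109) (.leaf ((nat_lit 1), [nat_lit 0, nat_lit 5, nat_lit 4, nat_lit 5, nat_lit 1])) (.leaf ((nat_lit 1), [nat_lit 7, nat_lit 3, nat_lit 6, nat_lit 0])))))))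
 (.node (nat_lit 121) (.node (nat_lit 115) (.node (nat_lit 112) (.node (nat_lit 111) (.leaf ((nat_lit 1), [nat_lit 2, nat_lit 7])) (.leaf ((nat_lit 1), [nat_lit 7, nat_lit 1, nat_lit 5, nat_lit 1, nat_lit 5]))) (.node (nat_lit 113) (.leaf ((nat_lit 0), [nat_lit 7, nat_lit 3])) (.node (nat_lit 114) (.leaf ((nat_lit 1), [nat_lit 1, nat_lit 5, nat_lit 4, nat_lit 3])) (.leaf ((nat_lit 1), [nat_lit 5, nat_lit 3, nat_lit 7, nat_lit 3, nat_lit 1])))))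
 (.node (nat_lit 118) (.node (nat_lit 116) (.leaf ((nat_lit 1), [nat_lit 4, nat_lit 7, nat_lit 1])) (.node (nat_lit 117) (.leaf ((nat_lit 1), [nat_lit 4, nat_lit 7, nat_lit 4, nat_lit 6])) (.leaf ((nat_lit 1), [nat_lit 0, nat_lit 7, nat_lit 2, nat_lit 1])))) (.node (nat_lit 119) (.leaf ((nat_lit 1), [nat_lit 4, nat_lit 0, nat_lit 7, nat_lit 3, nat_lit 0])) (.node (nat_lit 120) (.leaf ((nat_lit 1), [nat_lit 5, nat_lit 7, nat_lit 0])) (.leaf ((nat_lit 1), [nat_lit 0, nat_lit 5, nat_lit 6, nat_lit 7, nat_lit 1]))))))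
 (.node (nat_lit 126) (.node (nat_lit 123) (.node (nat_lit 122) (.leaf ((nat_lit 1), [nat_lit 7, nat_lit 5, nat_lit 6, nat_lit 4, nat_lit 1])) (.leaf ((nat_lit 1), [nat_lit 3, nat_lit 6, nat_lit 2]))) (.node (nat_lit 124) (.leaf ((nat_lit 1), [nat_lit 1, nat_lit 5, nat_lit 6, nat_lit 7, nat_lit 1])) (.node (nat_lit 125) (.leaf ((nat_lit 1), [nat_lit 3, nat_lit 5, nat_lit 4, nat_lit 6])) (.leaf ((nat_lit 1), [nat_lit 5, nat_lit 7, nat_lit 4, nat_lit 6])))))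
 (.node (nat_lit 129) (.node (nat_lit 127) (.leaf ((nat_lit 1), [nat_lit 5, nat_lit 3, nat_lit 1, nat_lit 7, nat_lit 1])) (.node (nat_lit 128) (.leaf ((nat_lit 1), [nat_lit 3, nat_lit 7, nat_lit 6])) (.leaf ((nat_lit 1), [nat_lit 0, nat_lit 5, nat_lit 0, nat_lit 7])))) (.node (nat_lit 130) (.leaf ((nat_lit 1), [nat_lit 4, nat_lit 0, nat_lit 6, nat_lit 3, nat_lit 7])) (.node (nat_lit 131) (.leaf ((nat_lit 1), [nat_lit 3, nat_lit 5, nat_lit 7, nat_lit 0])) (.leaf ((nat_lit 1), [nat_lit 7, nat_lit 4, nat_lit 7, nat_lit 6, nat_lit 3]))))))))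
 (.node (nat_lit 154) (.node (nat_lit 143) (.node (nat_lit 137) (.node (nat_lit 134) (.node (nat_lit 133) (.leaf ((nat_lit 1), [nat_lit 6, nat_lit 5, nat_lit 6, nat_lit 7, nat_lit 1])) (.leaf ((nat_lit 1), [nat_lit 6, nat_lit 3, nat_lit 1]))) (.node (nat_lit 135) (.leaf ((nat_lit 1), [nat_lit 3, nat_lit 6, nat_lit 2, nat_lit 1])) (.node (nat_lit 136) (.leaf ((nat_lit 1), [nat_lit 3, nat_lit 7, nat_lit 6, nat_lit 5, nat_lit 3])) (.leaf ((nat_lit 1), [nat_lit 7, nat_lit 0, nat_lit 7, nat_lit 6, nat_lit 1])))))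
 (.node (nat_lit 140) (.node (nat_lit 138) (.leaf ((nat_lit 1), [nat_lit 7, nat_lit 6, nat_lit 2, nat_lit 5, nat_lit 0])) (.node (nat_lit 139) (.leaf ((nat_lit 1), [nat_lit 2, nat_lit 1, nat_lit 7, nat_lit 0])) (.leaf ((nat_lit 1), [nat_lit 0, nat_lit 5, nat_lit 1])))) (.node (nat_lit 141) (.leaf ((nat_lit 1), [nat_lit 6, nat_lit 7, nat_lit 1])) (.node (nat_lit 142) (.leaf ((nat_lit 1), [nat_lit 5, nat_lit 6, nat_lit 1, nat_lit 7])) (.leaf ((nat_lit 1), [nat_lit 1, nat_lit 5, nat_lit 6, nat_lit 1]))))))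
 (.node (nat_lit 148) (.node (nat_lit 145) (.node (nat_lit 144) (.leaf ((nat_lit 1), [nat_lit 5, nat_lit 7, nat_lit 6])) (.leaf ((nat_lit 1), [nat_lit 0, nat_lit 7, nat_lit 4]))) (.node (nat_lit 146) (.leaf ((nat_lit 1), [nat_lit 5, nat_lit 3, nat_lit 6, nat_lit 7, nat_lit 1])) (.node (nat_lit 147) (.leaf ((nat_lit 1), [nat_lit 7, nat_lit 5, nat_lit 4, nat_lit 6])) (.leaf ((nat_lit 1), [nat_lit 5, nat_lit 6, nat_lit 4])))))
 (.node (nat_lit 151) (.node (nat_lit 149) (.leaf ((nat_lit 1), [nat_lit 7, nat_lit 6, nat_lit 2, nat_lit 7, nat_lit 0])) (.node (nat_lit 150) (.leaf ((nat_lit 1), [nat_lit 2, nat_lit 5, nat_lit 4])) (.leaf ((nat_lit 1), [nat_lit 4, nat_lit 7, nat_lit 2, nat_lit 5, nat_lit 0])))) (.node (nat_lit 152) (.leaf ((nat_lit 1), [nat_lit 6, nat_lit 1, nat_lit 7, nat_lit 3, nat_lit 1])) (.node (nat_lit 153) (.leaf ((nat_lit 1), [nat_lit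 6, nat_lit 7, nat_lit 6, nat_lit 7, nat_lit 1])) (.leaf ((nat_lit 1), [nat_lit 4, nat_lit 7, nat_lit 2, nat_lit 5, nat_lit 1])))))))
 (.node (nat_lit 165) (.node (nat_lit 159) (.node (nat_lit 156) (.node (nat_lit 155) (.leaf ((nat_lit 1), [nat_lit 0, nat_lit 7, nat_lit 4, nat_lit 1])) (.leaf ((nat_lit 1), [nat_lit 7, nat_lit 6, nat_lit 4, nat_lit 1]))) (.node (nat_lit 157) (.leaf ((nat_lit 1), [nat_lit 7, nat_lit 6, nat_lit 3])) (.node (nat_lit 158) (.leaf ((nat_lit 1), [nat_lit 5, nat_lit 3, nat_lit 6, nat_lit 1])) (.leaf ((nat_lit 1), [nat_lit 1, nat_lit 7, nat_lit 3, nat_lit 1])))))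
 (.node (nat_lit 162) (.node (nat_lit 160) (.leaf ((nat_lit 1), [nat_lit 5, nat_lit 4, nat_lit 2, nat_lit 5, nat_lit 0])) (.node (nat_lit 161) (.leaf ((nat_lit 1), [nat_lit 0, nat_lit 5, nat_lit 7, nat_lit 3, nat_lit 0])) (.leaf ((nat_lit 1), [nat_lit 3, nat_lit 1, nat_lit 7, nat_lit 3])))) (.node (nat_lit 163) (.leaf ((nat_lit 1), [nat_lit 2, nat_lit 5, nat_lit 2, nat_lit 7, nat_lit 0])) (.node (nat_lit 164) (.leaf ((nat_lit 1), [nat_lit 7, nat_lit 3, nat_lit 0, nat_lit 7])) (.leaf ((nat_lit 1), [nat_lit 1, nat_lit 7, nat_lit 1, nat_lit 7]))))))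
 (.node (nat_lit 170) (.node (nat_lit 167) (.node (nat_lit 166) (.leaf ((nat_lit 1), [nat_lit 2, nat_lit 5, nat_lit 3, nat_lit 1])) (.leaf ((nat_lit 1), [nat_lit 4, nat_lit 0, nat_lit 6, nat_lit 2]))) (.node (nat_lit 168) (.leaf ((nat_lit 1), [nat_lit 2, nat_lit 1, nat_lit 7, nat_lit 4, nat_lit 6])) (.node (nat_lit 169) (.leaf ((nat_lit 1), [nat_lit 5, nat_lit 2, nat_lit 0, nat_lit 6])) (.leaf ((nat_lit 1), [nat_lit 1, nat_lit 5, nat_lit 7, nat_lit 4, nat_lit 6])))))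
 (.node (nat_lit 173) (.node (nat_lit 171) (.leaf ((nat_lit 1), [nat_lit 4, nat_lit 7, nat_lit 4, nat_lit 7])) (.node (nat_lit 172) (.leaf ((nat_lit 1), [nat_lit 6, nat_lit 2, nat_lit 1, nat_lit 7])) (.leaf ((nat_lit 1), [nat_lit 5, nat_lit 4, nat_lit 5, nat_lit 7])))) (.node (nat_lit 174) (.leaf ((nat_lit 1), [nat_lit 5, nat_lit 6, nat_lit 3, nat_lit 0])) (.node (nat_lit 175) (.leaf ((nat_lit 1), [nat_lit 5, nat_lit 0, nat_lit 7, nat_lit 4, nat_lit 0])) (.leaf ((nat_lit 1), [nat_lit 4, nat_lit 5, nat_lit 1]))))))))))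
noncomputable def pPA_1 : Tr (ℕ × List ℕ) := (.node (nat_lit 264) (.node (nat_lit 220) (.node (nat_lit 198) (.node (nat_lit 187) (.node (nat_lit 181) (.node (nat_lit 178) (.node (nat_lit 177) (.leaf ((nat_lit 1), [nat_lit 6, nat_lit 1, nat_lit 7, nat_lit 1])) (.leaf ((nat_lit 1), [nat_lit 7, nat_lit 4, nat_lit 3, nat_lit 6]))) (.node (nat_lit 179) (.leaf ((nat_lit 1), [nat_lit 7, nat_lit 2, nat_lit 5, nat_lit 7])) (.node (nat_lit 180) (.leaf ((nat_lit 1), [nat_lit 6, nat_lit 5, nat_lit 6, nat_lit 1])) (.leaf ((nat_lit 0), [nat_lit 7, nat_lit 1, nat_lit 5])))))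
 (.node (nat_lit 184) (.node (nat_lit 182) (.leaf ((nat_lit 1), [nat_lit 2, nat_lit 7, nat_lit 6, nat_lit 4, nat_lit 5])) (.node (nat_lit 183) (.leaf ((nat_lit 1), [nat_lit 0, nat_lit 7, nat_lit 2, nat_lit 5, nat_lit 0])) (.leaf ((nat_lit 1), [nat_lit 5, nat_lit 0, nat_lit 5, nat_lit 6])))) (.node (nat_lit 185) (.leaf ((nat_lit 1), [nat_lit 2, nat_lit 7, nat_lit 6, nat_lit 3])) (.node (nat_lit 186) (.leaf ((nat_lit 1), [nat_lit 5, nat_lit 6, nat_lit 7])) (.leaf ((nat_lit 1), [nat_lit 0, nat_lit 7, nat_lit 0, nat_lit 6]))))))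
 (.node (nat_lit 192) (.node (nat_lit 189) (.node (nat_lit 188) (.leaf ((nat_lit 1), [nat_lit 4, nat_lit 6, nat_lit 3, nat_lit 7])) (.leaf ((nat_lit 1), [nat_lit 7, nat_lit 2, nat_lit 5, nat_lit 0]))) (.node (nat_lit 190) (.leaf ((nat_lit 1), [nat_lit 3, nat_lit 0])) (.node (nat_lit 191) (.leaf ((nat_lit 1), [nat_lit 7, nat_lit 4, nat_lit 2, nat_lit 0])) (.leaf ((nat_lit 1), [nat_lit 4, nat_lit 6, nat_lit 7, nat_lit 4, nat_lit 2])))))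
 (.node (nat_lit 195) (.node (nat_lit 193) (.leaf ((nat_lit 1), [nat_lit 7, nat_lit 0, nat_lit 6, nat_lit 3])) (.node (nat_lit 194) (.leaf ((nat_lit 1), [nat_lit 5, nat_lit 7, nat_lit 5, nat_lit 0, nat_lit 5, nat_lit 0])) (.leaf ((nat_lit 1), [nat_lit 3, nat_lit 7, nat_lit 1, nat_lit 7, nat_lit 6])))) (.node (nat_lit 196) (.leaf ((nat_lit 1), [nat_lit 5, nat_lit 6, nat_lit 0, nat_lit 5, nat_lit 1])) (.node (nat_lit 197) (.leaf ((nat_lit 1), [nat_lit 7, nat_lit 6, nat_lit 1, nat_lit 5, nat_lit 1])) (.leaf ((nat_lit 1), [nat_lit 1, nat_lit 7, nat_lit 3, nat_lit 6, nat_lit 0])))))))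
 (.node (nat_lit 209) (.node (nat_lit 203) (.node (nat_lit 200) (.node (nat_lit 199) (.leaf ((nat_lit 1), [nat_lit 3, nat_lit 6, nat_lit 3, nat_lit 1])) (.leaf ((nat_lit 1), [nat_lit 7, nat_lit 4, nat_lit 3, nat_lit 7, nat_lit 0]))) (.node (nat_lit 201) (.leaf ((nat_lit 1), [nat_lit 3, nat_lit 6, nat_lit 5])) (.node (nat_lit 202) (.leaf ((nat_lit 1), [nat_lit 6, nat_lit 2, nat_lit 1, nat_lit 5])) (.leaf ((nat_lit 1), [nat_lit 0, nat_lit 7, nat_lit 3])))))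
 (.node (nat_lit 206) (.node (nat_lit 204) (.leaf ((nat_lit 1), [nat_lit 5, nat_lit 3, nat_lit 0])) (.node (nat_lit 205) (.leaf ((nat_lit 1), [nat_lit 1, nat_lit 5, nat_lit 7])) (.leaf ((nat_lit 1), [nat_lit 7, nat_lit 0, nat_lit 5, nat_lit 6, nat_lit 0])))) (.node (nat_lit 207) (.leaf ((nat_lit 1), [nat_lit 7, nat_lit 2, nat_lit 7, nat_lit 0])) (.node (nat_lit 208) (.leaf ((nat_lit 1), [nat_lit 6, nat_lit 5, nat_lit 7, nat_lit 2, nat_lit 1])) (.leaf ((nat_lit 1), [nat_lit 0, nat_lit 7, nat_lit 6, nat_lit 3]))))))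
 (.node (nat_lit 214) (.node (nat_lit 211) (.node (nat_lit 210) (.leaf ((nat_lit 1), [nat_lit 5, nat_lit 1, nat_lit 7])) (.leaf ((nat_lit 1), [nat_lit 5, nat_lit 4, nat_lit 3, nat_lit 1]))) (.node (nat_lit 212) (.leaf ((nat_lit 1), [nat_lit 1, nat_lit 5, nat_lit 7, nat_lit 4])) (.node (nat_lit 213) (.leaf ((nat_lit 0), [nat_lit 5, nat_lit 7, nat_lit 6, nat_lit 7, nat_lit 0])) (.leaf ((nat_lit 1), [nat_lit 7, nat_lit 4, nat_lit 1, nat_lit 5, nat_lit 3])))))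
 (.node (nat_lit 217) (.node (nat_lit 215) (.leaf ((nat_lit 1), [nat_lit 4, nat_lit 5, nat_lit 4, nat_lit 1])) (.node (nat_lit 216) (.leaf ((nat_lit 0), [nat_lit 6, nat_lit 7, nat_lit 6, nat_lit 7, nat_lit 0])) (.leaf ((nat_lit 1), [nat_lit 4, nat_lit 3, nat_lit 6])))) (.node (nat_lit 218) (.leaf ((nat_lit 1), [nat_lit 0, nat_lit 6, nat_lit 7, nat_lit 1])) (.node (nat_lit 219) (.leaf ((nat_lit 1), [nat_lit 1, nat_lit 6, nat_lit 4, nat_lit 0])) (.leaf ((nat_lit 1), [nat_lit 7, nat_lit 6, nat_lit 7, nat_lit 0]))))))))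
 (.node (nat_lit 242) (.node (nat_lit 231) (.node (nat_lit 225) (.node (nat_lit 222) (.node (nat_lit 221) (.leaf ((nat_lit 1), [nat_lit 7, nat_lit 1, nat_lit 6, nat_lit 1])) (.leaf ((nat_lit 1), [nat_lit 2, nat_lit 5, nat_lit 6, nat_lit 0]))) (.node (nat_lit 223) (.leaf ((nat_lit 1), [nat_lit 2, nat_lit 0, nat_lit 5, nat_lit 1])) (.node (nat_lit 224) (.leaf ((nat_lit 1), [nat_lit 3, nat_lit 7, nat_lit 3])) (.leaf ((nat_lit 1), [nat_lit 0, nat_lit 5])))))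
 (.node (nat_lit 228) (.node (nat_lit 226) (.leaf ((nat_lit 1), [nat_lit 5, nat_lit 2, nat_lit 7, nat_lit 0])) (.node (nat_lit 227) (.leaf ((nat_lit 1), [nat_lit 0, nat_lit 6, nat_lit 3, nat_lit 7, nat_lit 1])) (.leaf ((nat_lit 0), [nat_lit 1, nat_lit 7, nat_lit 2])))) (.node (nat_lit 229) (.leaf ((nat_lit 1), [nat_lit 5, nat_lit 4, nat_lit 1])) (.node (nat_lit 230) (.leaf ((nat_lit 1), [nat_lit 3, nat_lit 7, nat_lit 6, nat_lit 7, nat_lit 0])) (.leaf ((nat_lit 1), [nat_lit 6, nat_lit 7, nat_lit 0, nat_lit 5, nat_lit 6, nat_lit 4]))))))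
 (.node (nat_lit 236) (.node (nat_lit 233) (.node (nat_lit 232) (.leaf ((nat_lit 1), [nat_lit 7, nat_lit 6])) (.leaf ((nat_lit 1), [nat_lit 2, nat_lit 7, nat_lit 2, nat_lit 7, nat_lit 1]))) (.node (nat_lit 234) (.leaf ((nat_lit 1), [nat_lit 7, nat_lit 3, nat_lit 6, nat_lit 2, nat_lit 1])) (.node (nat_lit 235) (.leaf ((nat_lit 1), [nat_lit 7, nat_lit 2, nat_lit 7, nat_lit 3, nat_lit 1])) (.leaf ((nat_lit 0), [nat_lit 7, nat_lit 6, nat_lit 7, nat_lit 2, nat_lit 0])))))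
 (.node (nat_lit 239) (.node (nat_lit 237) (.leaf ((nat_lit 1), [nat_lit 7, nat_lit 3, nat_lit 6, nat_lit 5, nat_lit 3])) (.node (nat_lit 238) (.leaf ((nat_lit 1), [nat_lit 3, nat_lit 5, nat_lit 4, nat_lit 7, nat_lit 0])) (.leaf ((nat_lit 1), [nat_lit 7, nat_lit 4, nat_lit 6])))) (.node (nat_lit 240) (.leaf ((nat_lit 1), [nat_lit 7, nat_lit 3, nat_lit 5, nat_lit 2, nat_lit 0])) (.node (nat_lit 241) (.leaf ((nat_lit 1), [nat_lit 2, nat_lit 5, nat_lit 2, nat_lit 6, nat_lit 0])) (.leaf ((nat_lit 1), [nat_lit 0, nat_lit 7, nat_lit 6, nat_lit 3, nat_lit 7])))))))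
 (.node (nat_lit 253) (.node (nat_lit 247) (.node (nat_lit 244) (.node (nat_lit 243) (.leaf ((nat_lit 1), [nat_lit 4, nat_lit 2, nat_lit 7, nat_lit 3, nat_lit 0])) (.leaf ((nat_lit 1), [nat_lit 5, nat_lit 6, nat_lit 0]))) (.node (nat_lit 245) (.leaf ((nat_lit 1), [nat_lit 0, nat_lit 6, nat_lit 7])) (.node (nat_lit 246) (.leaf ((nat_lit 1), [nat_lit 7, nat_lit 1, nat_lit 7, nat_lit 5])) (.leaf ((nat_lit 1), [nat_lit 5, nat_lit 6, nat_lit 7, nat_lit 6, nat_lit 7, nat_lit 0])))))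
 (.node (nat_lit 250) (.node (nat_lit 248) (.leaf ((nat_lit 1), [nat_lit 5, nat_lit 4, nat_lit 6])) (.node (nat_lit 249) (.leaf ((nat_lit 1), [nat_lit 5, nat_lit 4, nat_lit 7, nat_lit 4])) (.leaf ((nat_lit 1), [nat_lit 6, nat_lit 7, nat_lit 0, nat_lit 7, nat_lit 6])))) (.node (nat_lit 251) (.leaf ((nat_lit 1), [nat_lit 3, nat_lit 5, nat_lit 2, nat_lit 6])) (.node (nat_lit 252) (.leaf ((nat_lit 1), [nat_lit 4, nat_lit 2, nat_lit 0, nat_lit 5])) (.leaf ((nat_lit 1), [nat_lit 5, nat_lit 0, nat_lit 7, nat_lit 2, nat_lit 5, nat_lit 0]))))))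
 (.node (nat_lit 258) (.node (nat_lit 255) (.node (nat_lit 254) (.leaf ((nat_lit 1), [nat_lit 3, nat_lit 1, nat_lit 7, nat_lit 6, nat_lit 3])) (.leaf ((nat_lit 0), [nat_lit 7, nat_lit 6, nat_lit 7, nat_lit 5]))) (.node (nat_lit 256) (.leaf ((nat_lit 1), [nat_lit 3, nat_lit 7, nat_lit 4, nat_lit 0])) (.node (nat_lit 257) (.leaf ((nat_lit 1), [nat_lit 6, nat_lit 7, nat_lit 3, nat_lit 5, nat_lit 4])) (.leaf ((nat_lit 1), [nat_lit 6, nat_lit 7, nat_lit 6, nat_lit 1])))))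
 (.node (nat_lit 261) (.node (nat_lit 259) (.leaf ((nat_lit 1), [nat_lit 6, nat_lit 7, nat_lit 5, nat_lit 2, nat_lit 1])) (.node (nat_lit 260) (.leaf ((nat_lit 1), [nat_lit 0, nat_lit 7, nat_lit 4, nat_lit 3, nat_lit 6])) (.leaf ((nat_lit 1), [nat_lit 2, nat_lit 5, nat_lit 6, nat_lit 3, nat_lit 0])))) (.node (nat_lit 262) (.leaf ((nat_lit 1), [nat_lit 2, nat_lit 7, nat_lit 2, nat_lit 5, nat_lit 0])) (.node (nat_lit 263) (.leaf ((nat_lit 1), [nat_lit 5, nat_lit 0, nat_lit 7, nat_lit 2])) (.leaf ((nat_lit 1), [nat_lit 0, nat_lit 6, nat_lit 5, nat_lit 4])))))))))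
 (.node (nat_lit 308) (.node (nat_lit 286) (.node (nat_lit 275) (.node (nat_lit 269) (.node (nat_lit 266) (.node (nat_lit 265) (.leaf ((nat_lit 1), [nat_lit 6, nat_lit 3, nat_lit 0])) (.leaf ((nat_lit 1), [nat_lit 7, nat_lit 1, nat_lit 6, nat_lit 7, nat_lit 6, nat_lit 1]))) (.node (nat_lit 267) (.leaf ((nat_lit 1), [nat_lit 4, nat_lit 5, nat_lit 7, nat_lit 0])) (.node (nat_lit 268) (.leaf ((nat_lit 1), [nat_lit 3, nat_lit 5, nat_lit 4, nat_lit 2])) (.leaf ((nat_lit 1), [nat_lit 5, nat_lit 3, nat_lit 6])))))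
 (.node (nat_lit 272) (.node (nat_lit 270) (.leaf ((nat_lit 1), [nat_lit 7, nat_lit 4, nat_lit 1, nat_lit 5, nat_lit 0])) (.node (nat_lit 271) (.leaf ((nat_lit 1), [nat_lit 0, nat_lit 5, nat_lit 7, nat_lit 2, nat_lit 5, nat_lit 0])) (.leaf ((nat_lit 1), [nat_lit 6, nat_lit 5, nat_lit 0, nat_lit 7, nat_lit 1])))) (.node (nat_lit 273) (.leaf ((nat_lit 1), [nat_lit 7, nat_lit 3, nat_lit 1, nat_lit 7, nat_lit 6])) (.node (nat_lit 274) (.leaf ((nat_lit 1), [nat_lit 4, nat_lit 1, nat_lit 5, nat_lit 7])) (.leaf ((nat_lit 1), [nat_lit 0, nat_lit 6, nat_lit 1, nat_lit 7]))))))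
 (.node (nat_lit 280) (.node (nat_lit 277) (.node (nat_lit 276) (.leaf ((nat_lit 1), [nat_lit 7, nat_lit 6, nat_lit 7, nat_lit 2, nat_lit 0])) (.leaf ((nat_lit 1), [nat_lit 4, nat_lit 5, nat_lit 4, nat_lit 7]))) (.node (nat_lit 278) (.leaf ((nat_lit 1), [nat_lit 4, nat_lit 0, nat_lit 7, nat_lit 2])) (.node (nat_lit 279) (.leaf ((nat_lit 1), [nat_lit 4, nat_lit 6, nat_lit 7, nat_lit 1, nat_lit 5, nat_lit 7])) (.leaf ((nat_lit 0), [nat_lit 0, nat_lit 7, nat_lit 3, nat_lit 0])))))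
 (.node (nat_lit 283) (.node (nat_lit 281) (.leaf ((nat_lit 1), [nat_lit 5, nat_lit 6, nat_lit 5, nat_lit 4])) (.node (nat_lit 282) (.leaf ((nat_lit 1), [nat_lit 2, nat_lit 7, nat_lit 6, nat_lit 2, nat_lit 7])) (.leaf ((nat_lit 1), [nat_lit 3, nat_lit 7, nat_lit 3, nat_lit 5, nat_lit 2, nat_lit 0])))) (.node (nat_lit 284) (.leaf ((nat_lit 1), [nat_lit 5, nat_lit 6, nat_lit 4, nat_lit 2])) (.node (nat_lit 285) (.leaf ((nat_lit 1), [nat_lit 4, nat_lit 7, nat_lit 6, nat_lit 5, nat_lit 0])) (.leaf ((nat_lit 1), [nat_lit 4, nat_lit 2, nat_lit 7, nat_lit 3])))))))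
 (.node (nat_lit 297) (.node (nat_lit 291) (.node (nat_lit 288) (.node (nat_lit 287) (.leaf ((nat_lit 1), [nat_lit 7, nat_lit 2, nat_lit 5, nat_lit 0, nat_lit 7])) (.leaf ((nat_lit 1), [nat_lit 3, nat_lit 5, nat_lit 7, nat_lit 2, nat_lit 0]))) (.node (nat_lit 289) (.leaf ((nat_lit 1), [nat_lit 3, nat_lit 7, nat_lit 3, nat_lit 5, nat_lit 0])) (.node (nat_lit 290) (.leaf ((nat_lit 0), [nat_lit 2, nat_lit 6, nat_lit 7, nat_lit 0])) (.leaf ((nat_lit 1), [nat_lit 3, nat_lit 6, nat_lit 7, nat_lit 1])))))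
 (.node (nat_lit 294) (.node (nat_lit 292) (.leaf ((nat_lit 1), [nat_lit 0, nat_lit 7])) (.node (nat_lit 293) (.leaf ((nat_lit 1), [nat_lit 3, nat_lit 5, nat_lit 6])) (.leaf ((nat_lit 1), [nat_lit 2, nat_lit 7, nat_lit 5])))) (.node (nat_lit 295) (.leaf ((nat_lit 1), [nat_lit 5, nat_lit 4, nat_lit 3])) (.node (nat_lit 296) (.leaf ((nat_lit 1), [nat_lit 7, nat_lit 6, nat_lit 7, nat_lit 2, nat_lit 6, nat_lit 0])) (.leaf ((nat_lit 1), [nat_lit 5, nat_lit 7, nat_lit 1, nat_lit 5, nat_lit 7]))))))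
 (.node (nat_lit 302) (.node (nat_lit 299) (.node (nat_lit 298) (.leaf ((nat_lit 1), [nat_lit 2, nat_lit 7, nat_lit 6, nat_lit 7, nat_lit 2, nat_lit 0])) (.leaf ((nat_lit 1), [nat_lit 5, nat_lit 4, nat_lit 2, nat_lit 0]))) (.node (nat_lit 300) (.leaf ((nat_lit 0), [nat_lit 1, nat_lit 7, nat_lit 6, nat_lit 7, nat_lit 6])) (.node (nat_lit 301) (.leaf ((nat_lit 1), [nat_lit 1, nat_lit 5, nat_lit 4, nat_lit 5, nat_lit 4])) (.leaf ((nat_lit 1), [nat_lit 4, nat_lit 6, nat_lit 7, nat_lit 4, nat_lit 3])))))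
 (.node (nat_lit 305) (.node (nat_lit 303) (.leaf ((nat_lit 1), [nat_lit 2, nat_lit 5, nat_lit 4, nat_lit 7, nat_lit 0])) (.node (nat_lit 304) (.leaf ((nat_lit 1), [nat_lit 6, nat_lit 5, nat_lit 3, nat_lit 7, nat_lit 1])) (.leaf ((nat_lit 1), [nat_lit 5, nat_lit 1, nat_lit 7, nat_lit 1, nat_lit 7])))) (.node (nat_lit 306) (.leaf ((nat_lit 1), [nat_lit 5, nat_lit 4, nat_lit 2])) (.node (nat_lit 307) (.leaf ((nat_lit 1), [nat_lit 3, nat_lit 7, nat_lit 3, nat_lit 0])) (.leaf ((nat_lit 1), [nat_lit 4, nat_lit 2, nat_lit 0, nat_lit 7, nat_lit 3]))))))))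
 (.node (nat_lit 330) (.node (nat_lit 319) (.node (nat_lit 313) (.node (nat_lit 310) (.node (nat_lit 309) (.leaf ((nat_lit 1), [nat_lit 5, nat_lit 1, nat_lit 7, nat_lit 4])) (.leaf ((nat_lit 1), [nat_lit 1, nat_lit 5, nat_lit 7, nat_lit 0]))) (.node (nat_lit 311) (.leaf ((nat_lit 1), [nat_lit 1, nat_lit 7, nat_lit 6, nat_lit 4, nat_lit 0])) (.node (nat_lit 312) (.leaf ((nat_lit 1), [nat_lit 6, nat_lit 7, nat_lit 4, nat_lit 3, nat_lit 7])) (.leaf ((nat_lit 1), [nat_lit 0, nat_lit 7, nat_lit 1, nat_lit 6, nat_lit 0])))))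
 (.node (nat_lit 316) (.node (nat_lit 314) (.leaf ((nat_lit 1), [nat_lit 6, nat_lit 1, nat_lit 5, nat_lit 3, nat_lit 0])) (.node (nat_lit 315) (.leaf ((nat_lit 1), [nat_lit 1, nat_lit 7, nat_lit 5, nat_lit 3])) (.leaf ((nat_lit 1), [nat_lit 7, nat_lit 4, nat_lit 5, nat_lit 7, nat_lit 0])))) (.node (nat_lit 317) (.leaf ((nat_lit 1), [nat_lit 0, nat_lit 6, nat_lit 7, nat_lit 0])) (.node (nat_lit 318) (.leaf ((nat_lit 1), [nat_lit 1, nat_lit 7, nat_lit 3, nat_lit 5, nat_lit 4])) (.leaf ((nat_lit 1), [nat_lit 4, nat_lit 7, nat_lit 4, nat_lit 3, nat_lit 0]))))))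
 (.node (nat_lit 324) (.node (nat_lit 321) (.node (nat_lit 320) (.leaf ((nat_lit 1), [nat_lit 3, nat_lit 1, nat_lit 5, nat_lit 7])) (.leaf ((nat_lit 1), [nat_lit 4, nat_lit 3, nat_lit 6, nat_lit 5]))) (.node (nat_lit 322) (.leaf ((nat_lit 1), [nat_lit 0, nat_lit 7, nat_lit 6, nat_lit 1, nat_lit 7])) (.node (nat_lit 323) (.leaf ((nat_lit 1), [nat_lit 5, nat_lit 6, nat_lit 7, nat_lit 4, nat_lit 2])) (.leaf ((nat_lit 0), [nat_lit 2, nat_lit 5, nat_lit 7, nat_lit 1])))))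
 (.node (nat_lit 327) (.node (nat_lit 325) (.leaf ((nat_lit 1), [nat_lit 4, nat_lit 7, nat_lit 1, nat_lit 6])) (.node (nat_lit 326) (.leaf ((nat_lit 1), [nat_lit 3, nat_lit 5, nat_lit 7])) (.leaf ((nat_lit 1), [nat_lit 7, nat_lit 0, nat_lit 7, nat_lit 2])))) (.node (nat_lit 328) (.leaf ((nat_lit 1), [nat_lit 3, nat_lit 6, nat_lit 4])) (.node (nat_lit 329) (.leaf ((nat_lit 1), [nat_lit 7, nat_lit 1, nat_lit 5, nat_lit 4, nat_lit 5, nat_lit 1])) (.leaf ((nat_lit 1), [nat_lit 0, nat_lit 7, nat_lit 5, nat_lit 2, nat_lit 0, nat_lit 6])))))))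
 (.node (nat_lit 341) (.node (nat_lit 335) (.node (nat_lit 332) (.node (nat_lit 331) (.leaf ((nat_lit 1), [nat_lit 5, nat_lit 3, nat_lit 1, nat_lit 7, nat_lit 0])) (.leaf ((nat_lit 1), [nat_lit 1, nat_lit 6, nat_lit 7]))) (.node (nat_lit 333) (.leaf ((nat_lit 1), [nat_lit 6, nat_lit 0, nat_lit 5, nat_lit 7, nat_lit 1])) (.node (nat_lit 334) (.leaf ((nat_lit 1), [nat_lit 3, nat_lit 6, nat_lit 7, nat_lit 3, nat_lit 1])) (.leaf ((nat_lit 1), [nat_lit 5, nat_lit 3, nat_lit 0, nat_lit 7, nat_lit 1])))))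
 (.node (nat_lit 338) (.node (nat_lit 336) (.leaf ((nat_lit 1), [nat_lit 4, nat_lit 6, nat_lit 3, nat_lit 7, nat_lit 0])) (.node (nat_lit 337) (.leaf ((nat_lit 1), [nat_lit 3, nat_lit 0, nat_lit 6, nat_lit 7, nat_lit 0])) (.leaf ((nat_lit 1), [nat_lit 1, nat_lit 7, nat_lit 3, nat_lit 0])))) (.node (nat_lit 339) (.leaf ((nat_lit 0), [nat_lit 0])) (.node (nat_lit 340) (.leaf ((nat_lit 1), [nat_lit 5, nat_lit 4, nat_lit 1, nat_lit 6])) (.leaf ((nat_lit 1), [nat_lit 7, nat_lit 5]))))))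
 (.node (nat_lit 346) (.node (nat_lit 343) (.node (nat_lit 342) (.leaf ((nat_lit 1), [nat_lit 5, nat_lit 7, nat_lit 0, nat_lit 5, nat_lit 0])) (.leaf ((nat_lit 1), [nat_lit 0, nat_lit 5, nat_lit 6, nat_lit 0]))) (.node (nat_lit 344) (.leaf ((nat_lit 1), [nat_lit 7, nat_lit 4, nat_lit 1])) (.node (nat_lit 345) (.leaf ((nat_lit 1), [nat_lit 7, nat_lit 3, nat_lit 6, nat_lit 1, nat_lit 7])) (.leaf ((nat_lit 1), [nat_lit 5, nat_lit 2, nat_lit 6, nat_lit 3])))))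
 (.node (nat_lit 349) (.node (nat_lit 347) (.leaf ((nat_lit 1), [nat_lit 2, nat_lit 7, nat_lit 2, nat_lit 0])) (.node (nat_lit 348) (.leaf ((nat_lit 1), [nat_lit 6, nat_lit 1, nat_lit 6, nat_lit 5])) (.leaf ((nat_lit 1), [nat_lit 5, nat_lit 4, nat_lit 1, nat_lit 5])))) (.node (nat_lit 350) (.leaf ((nat_lit 1), [nat_lit 6, nat_lit 2, nat_lit 5, nat_lit 7])) (.node (nat_lit 351) (.leaf ((nat_lit 1), [nat_lit 7, nat_lit 4, nat_lit 6, nat_lit 5])) (.leaf ((nat_lit 0), [nat_lit 1]))))))))))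
noncomputable def pPA_2 : Tr (ℕ × List ℕ) := (.node (nat_lit 440) (.node (nat_lit 396) (.node (nat_lit 374) (.node (nat_lit 363) (.node (nat_lit 357) (.node (nat_lit 354) (.node (nat_lit 353) (.leaf ((nat_lit 1), [nat_lit 1, nat_lit 6, nat_lit 2, nat_lit 0])) (.leaf ((nat_lit 1), [nat_lit 7, nat_lit 0, nat_lit 5, nat_lit 4, nat_lit 2]))) (.node (nat_lit 355) (.leaf ((nat_lit 1), [nat_lit 4, nat_lit 1, nat_lit 7, nat_lit 1])) (.node (nat_lit 356) (.leaf ((nat_lit 0), [nat_lit 7, nat_lit 0])) (.leaf ((nat_lit 1), [nat_lit 4, nat_lit 0, nat_lit 6, nat_lit 7])))))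
 (.node (nat_lit 360) (.node (nat_lit 358) (.leaf ((nat_lit 1), [nat_lit 6, nat_lit 2, nat_lit 7, nat_lit 4, nat_lit 3])) (.node (nat_lit 359) (.leaf ((nat_lit 1), [nat_lit 4, nat_lit 5, nat_lit 4, nat_lit 6])) (.leaf ((nat_lit 1), [nat_lit 2, nat_lit 7, nat_lit 5, nat_lit 6, nat_lit 2])))) (.node (nat_lit 361) (.leaf ((nat_lit 1), [nat_lit 2, nat_lit 5, nat_lit 4, nat_lit 1])) (.node (nat_lit 362) (.leaf ((nat_lit 1), [nat_lit 5, nat_lit 4, nat_lit 0])) (.leaf ((nat_lit 1), [nat_lit 6, nat_lit 4, nat_lit 7]))))))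
 (.node (nat_lit 368) (.node (nat_lit 365) (.node (nat_lit 364) (.leaf ((nat_lit 1), [nat_lit 3, nat_lit 5, nat_lit 1, nat_lit 5, nat_lit 1])) (.leaf ((nat_lit 1), [nat_lit 2, nat_lit 5, nat_lit 3, nat_lit 0]))) (.node (nat_lit 366) (.leaf ((nat_lit 1), [nat_lit 6, nat_lit 0, nat_lit 7, nat_lit 4, nat_lit 1])) (.node (nat_lit 367) (.leaf ((nat_lit 1), [nat_lit 7, nat_lit 5, nat_lit 3, nat_lit 1, nat_lit 6])) (.leaf ((nat_lit 1), [nat_lit 2, nat_lit 7, nat_lit 1, nat_lit 6, nat_lit 4, nat_lit 0])))))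
 (.node (nat_lit 371) (.node (nat_lit 369) (.leaf ((nat_lit 1), [nat_lit 3, nat_lit 6, nat_lit 4, nat_lit 5])) (.node (nat_lit 370) (.leaf ((nat_lit 1), [nat_lit 3, nat_lit 1, nat_lit 7, nat_lit 6])) (.leaf ((nat_lit 0), [nat_lit 5, nat_lit 4, nat_lit 7, nat_lit 6])))) (.node (nat_lit 372) (.leaf ((nat_lit 1), [nat_lit 4, nat_lit 5, nat_lit 6, nat_lit 0])) (.node (nat_lit 373) (.leaf ((nat_lit 1), [nat_lit 7, nat_lit 0, nat_lit 6, nat_lit 2])) (.leaf ((nat_lit 1), [nat_lit 7, nat_lit 4, nat_lit 2, nat_lit 7, nat_lit 0])))))))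
 (.node (nat_lit 385) (.node (nat_lit 379) (.node (nat_lit 376) (.node (nat_lit 375) (.leaf ((nat_lit 1), [nat_lit 7, nat_lit 3, nat_lit 1])) (.leaf ((nat_lit 1), [nat_lit 7, nat_lit 3, nat_lit 1, nat_lit 7]))) (.node (nat_lit 377) (.leaf ((nat_lit 0), [nat_lit 2, nat_lit 7, nat_lit 1])) (.node (nat_lit 378) (.leaf ((nat_lit 1), [nat_lit 7, nat_lit 5, nat_lit 4, nat_lit 3, nat_lit 1])) (.leaf ((nat_lit 1), [nat_lit 2, nat_lit 0, nat_lit 5, nat_lit 7])))))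
 (.node (nat_lit 382) (.node (nat_lit 380) (.leaf ((nat_lit 1), [nat_lit 2, nat_lit 6, nat_lit 0])) (.node (nat_lit 381) (.leaf ((nat_lit 1), [nat_lit 5, nat_lit 6, nat_lit 7, nat_lit 4, nat_lit 6])) (.leaf ((nat_lit 1), [nat_lit 1, nat_lit 6, nat_lit 3, nat_lit 1])))) (.node (nat_lit 383) (.leaf ((nat_lit 1), [nat_lit 5, nat_lit 6, nat_lit 0, nat_lit 7, nat_lit 2, nat_lit 1])) (.node (nat_lit 384) (.leaf ((nat_lit 1), [nat_lit 7, nat_lit 6, nat_lit 5])) (.leaf ((nat_lit 1), [nat_lit 2, nat_lit 5, nat_lit 7, nat_lit 0, nat_lit 7]))))))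
 (.node (nat_lit 390) (.node (nat_lit 387) (.node (nat_lit 386) (.leaf ((nat_lit 1), [nat_lit 3, nat_lit 7, nat_lit 0, nat_lit 6])) (.leaf ((nat_lit 1), [nat_lit 7, nat_lit 6, nat_lit 1, nat_lit 7]))) (.node (nat_lit 388) (.leaf ((nat_lit 1), [nat_lit 6, nat_lit 0, nat_lit 5, nat_lit 7, nat_lit 0])) (.node (nat_lit 389) (.leaf ((nat_lit 1), [nat_lit 1, nat_lit 7, nat_lit 1, nat_lit 6])) (.leaf ((nat_lit 1), [nat_lit 6, nat_lit 4, nat_lit 5, nat_lit 7, nat_lit 3, nat_lit 0])))))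
 (.node (nat_lit 393) (.node (nat_lit 391) (.leaf ((nat_lit 1), [nat_lit 7, nat_lit 5, nat_lit 0, nat_lit 7, nat_lit 2, nat_lit 0])) (.node (nat_lit 392) (.leaf ((nat_lit 1), [nat_lit 5, nat_lit 1, nat_lit 5, nat_lit 6])) (.leaf ((nat_lit 1), [nat_lit 6, nat_lit 1, nat_lit 5, nat_lit 0])))) (.node (nat_lit 394) (.leaf ((nat_lit 1), [nat_lit 5, nat_lit 6, nat_lit 1])) (.node (nat_lit 395) (.leaf ((nat_lit 1), [nat_lit 7, nat_lit 5, nat_lit 6, nat_lit 1])) (.leaf ((nat_lit 1), [nat_lit 6, nat_lit 0, nat_lit 5, nat_lit 7]))))))))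
 (.node (nat_lit 418) (.node (nat_lit 407) (.node (nat_lit 401) (.node (nat_lit 398) (.node (nat_lit 397) (.leaf ((nat_lit 1), [nat_lit 6, nat_lit 4, nat_lit 2])) (.leaf ((nat_lit 0), [nat_lit 2, nat_lit 0, nat_lit 7, nat_lit 0]))) (.node (nat_lit 399) (.leaf ((nat_lit 1), [nat_lit 5, nat_lit 0, nat_lit 5, nat_lit 2, nat_lit 0])) (.node (nat_lit 400) (.leaf ((nat_lit 1), [nat_lit 3])) (.leaf ((nat_lit 1), [nat_lit 1, nat_lit 7, nat_lit 4, nat_lit 2])))))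
 (.node (nat_lit 404) (.node (nat_lit 402) (.leaf ((nat_lit 1), [nat_lit 4, nat_lit 6, nat_lit 3, nat_lit 1])) (.node (nat_lit 403) (.leaf ((nat_lit 1), [nat_lit 5, nat_lit 7, nat_lit 3, nat_lit 5, nat_lit 4])) (.leaf ((nat_lit 1), [nat_lit 2, nat_lit 0, nat_lit 6, nat_lit 7, nat_lit 0])))) (.node (nat_lit 405) (.leaf ((nat_lit 1), [nat_lit 7, nat_lit 1, nat_lit 6, nat_lit 7, nat_lit 1])) (.node (nat_lit 406) (.leaf ((nat_lit 1), [nat_lit 6, nat_lit 0])) (.leaf ((nat_lit 1), [nat_lit 1, nat_lit 5, nat_lit 6, nat_lit 7, nat_lit 0]))))))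
 (.node (nat_lit 412) (.node (nat_lit 409) (.node (nat_lit 408) (.leaf ((nat_lit 1), [nat_lit 1, nat_lit 7, nat_lit 4, nat_lit 7, nat_lit 3, nat_lit 0])) (.leaf ((nat_lit 1), [nat_lit 2, nat_lit 7, nat_lit 0]))) (.node (nat_lit 410) (.leaf ((nat_lit 1), [nat_lit 6, nat_lit 5, nat_lit 6, nat_lit 7])) (.node (nat_lit 411) (.leaf ((nat_lit 1), [nat_lit 6, nat_lit 4, nat_lit 7, nat_lit 2])) (.leaf ((nat_lit 1), [nat_lit 5, nat_lit 2, nat_lit 0, nat_lit 5, nat_lit 0])))))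
 (.node (nat_lit 415) (.node (nat_lit 413) (.leaf ((nat_lit 1), [nat_lit 6, nat_lit 7, nat_lit 1, nat_lit 6])) (.node (nat_lit 414) (.leaf ((nat_lit 1), [nat_lit 7, nat_lit 4, nat_lit 7, nat_lit 6, nat_lit 1])) (.leaf ((nat_lit 1), [nat_lit 6, nat_lit 0, nat_lit 7, nat_lit 2, nat_lit 1])))) (.node (nat_lit 416) (.leaf ((nat_lit 1), [nat_lit 0, nat_lit 7, nat_lit 5, nat_lit 0, nat_lit 7])) (.node (nat_lit 417) (.leaf ((nat_lit 1), [nat_lit 6, nat_lit 7, nat_lit 5, nat_lit 1])) (.leaf ((nat_lit 1), [nat_lit 7, nat_lit 4, nat_lit 3])))))))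
 (.node (nat_lit 429) (.node (nat_lit 423) (.node (nat_lit 420) (.node (nat_lit 419) (.leaf ((nat_lit 1), [nat_lit 4, nat_lit 6, nat_lit 5, nat_lit 3, nat_lit 1])) (.leaf ((nat_lit 1), [nat_lit 2, nat_lit 6, nat_lit 5, nat_lit 4]))) (.node (nat_lit 421) (.leaf ((nat_lit 1), [nat_lit 4, nat_lit 0, nat_lit 5])) (.node (nat_lit 422) (.leaf ((nat_lit 1), [nat_lit 7, nat_lit 6, nat_lit 7, nat_lit 4, nat_lit 3])) (.leaf ((nat_lit 1), [nat_lit 0, nat_lit 5, nat_lit 1, nat_lit 6])))))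
 (.node (nat_lit 426) (.node (nat_lit 424) (.leaf ((nat_lit 1), [nat_lit 4, nat_lit 5, nat_lit 7, nat_lit 3, nat_lit 1])) (.node (nat_lit 425) (.leaf ((nat_lit 1), [nat_lit 0, nat_lit 7, nat_lit 4, nat_lit 7, nat_lit 0])) (.leaf ((nat_lit 0), [nat_lit 7, nat_lit 5])))) (.node (nat_lit 427) (.leaf ((nat_lit 1), [nat_lit 3, nat_lit 0, nat_lit 6])) (.node (nat_lit 428) (.leaf ((nat_lit 1), [nat_lit 4, nat_lit 7, nat_lit 1, nat_lit 7, nat_lit 0])) (.leaf ((nat_lit 1), [nat_lit 6, nat_lit 4, nat_lit 2, nat_lit 0]))))))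
 (.node (nat_lit 434) (.node (nat_lit 431) (.node (nat_lit 430) (.leaf ((nat_lit 1), [nat_lit 7])) (.leaf ((nat_lit 1), [nat_lit 4, nat_lit 3]))) (.node (nat_lit 432) (.leaf ((nat_lit 1), [nat_lit 2, nat_lit 7, nat_lit 6, nat_lit 4, nat_lit 0])) (.node (nat_lit 433) (.leaf ((nat_lit 1), [nat_lit 4, nat_lit 7, nat_lit 0, nat_lit 7])) (.leaf ((nat_lit 1), [nat_lit 2, nat_lit 5, nat_lit 4, nat_lit 6])))))
 (.node (nat_lit 437) (.node (nat_lit 435) (.leaf ((nat_lit 1), [nat_lit 5, nat_lit 6, nat_lit 5, nat_lit 7])) (.node (nat_lit 436) (.leaf ((nat_lit 1), [nat_lit 0, nat_lit 5, nat_lit 7, nat_lit 1])) (.leaf ((nat_lit 1), [nat_lit 7, nat_lit 3, nat_lit 7, nat_lit 0])))) (.node (nat_lit 438) (.leaf ((nat_lit 1), [nat_lit 6, nat_lit 4, nat_lit 5, nat_lit 7, nat_lit 0])) (.node (nat_lit 439) (.leaf ((nat_lit 1), [nat_lit 2, nat_lit 7, nat_lit 4, nat_lit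 2])) (.leaf ((nat_lit 1), [nat_lit 4, nat_lit 5, nat_lit 3])))))))))
 (.node (nat_lit 484) (.node (nat_lit 462) (.node (nat_lit 451) (.node (nat_lit 445) (.node (nat_lit 442) (.node (nat_lit 441) (.leaf ((nat_lit 1), [nat_lit 3, nat_lit 7, nat_lit 6, nat_lit 3, nat_lit 1])) (.leaf ((nat_lit 1), [nat_lit 6, nat_lit 5, nat_lit 4]))) (.node (nat_lit 443) (.leaf ((nat_lit 1), [nat_lit 5, nat_lit 6, nat_lit 0, nat_lit 5, nat_lit 0])) (.node (nat_lit 444) (.leaf ((nat_lit 1), [nat_lit 6, nat_lit 4, nat_lit 1, nat_lit 7, nat_lit 0])) (.leaf ((nat_lit 1), [nat_lit 5, nat_lit 0])))))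
 (.node (nat_lit 448) (.node (nat_lit 446) (.leaf ((nat_lit 1), [nat_lit 4, nat_lit 6, nat_lit 1, nat_lit 6])) (.node (nat_lit 447) (.leaf ((nat_lit 1), [nat_lit 6, nat_lit 5, nat_lit 4, nat_lit 3])) (.leaf ((nat_lit 1), [nat_lit 7, nat_lit 5, nat_lit 1])))) (.node (nat_lit 449) (.leaf ((nat_lit 1), [nat_lit 3, nat_lit 7, nat_lit 3, nat_lit 5, nat_lit 4])) (.node (nat_lit 450) (.leaf ((nat_lit 1), [nat_lit 4, nat_lit 7, nat_lit 6])) (.leaf ((nat_lit 1), [nat_lit 0, nat_lit 6]))))))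
 (.node (nat_lit 456) (.node (nat_lit 453) (.node (nat_lit 452) (.leaf ((nat_lit 1), [nat_lit 7, nat_lit 1, nat_lit 7, nat_lit 1, nat_lit 6])) (.leaf ((nat_lit 1), [nat_lit 1, nat_lit 5, nat_lit 4, nat_lit 1]))) (.node (nat_lit 454) (.leaf ((nat_lit 1), [nat_lit 1, nat_lit 6, nat_lit 1, nat_lit 7, nat_lit 1])) (.node (nat_lit 455) (.leaf ((nat_lit 1), [nat_lit 0, nat_lit 7, nat_lit 4, nat_lit 7, nat_lit 3, nat_lit 0])) (.leaf ((nat_lit 1), [nat_lit 1, nat_lit 7, nat_lit 4, nat_lit 6, nat_lit 7])))))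
 (.node (nat_lit 459) (.node (nat_lit 457) (.leaf ((nat_lit 1), [nat_lit 1, nat_lit 5, nat_lit 6, nat_lit 7])) (.node (nat_lit 458) (.leaf ((nat_lit 0), [nat_lit 3, nat_lit 0])) (.leaf ((nat_lit 1), [nat_lit 7, nat_lit 6, nat_lit 1, nat_lit 7, nat_lit 3, nat_lit 1])))) (.node (nat_lit 460) (.leaf ((nat_lit 1), [nat_lit 6, nat_lit 5, nat_lit 7])) (.node (nat_lit 461) (.leaf ((nat_lit 1), [nat_lit 1, nat_lit 6, nat_lit 3, nat_lit 7])) (.leaf ((nat_lit 1), [nat_lit 6, nat_lit 1, nat_lit 7])))))))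
 (.node (nat_lit 473) (.node (nat_lit 467) (.node (nat_lit 464) (.node (nat_lit 463) (.leaf ((nat_lit 1), [nat_lit 3, nat_lit 6, nat_lit 5, nat_lit 3])) (.leaf ((nat_lit 0), [nat_lit 3, nat_lit 7, nat_lit 2]))) (.node (nat_lit 465) (.leaf ((nat_lit 1), [nat_lit 4, nat_lit 7, nat_lit 6, nat_lit 0, nat_lit 5, nat_lit 1])) (.node (nat_lit 466) (.leaf ((nat_lit 0), [nat_lit 2, nat_lit 1, nat_lit 7, nat_lit 0])) (.leaf ((nat_lit 1), [nat_lit 7, nat_lit 5, nat_lit 4])))))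
 (.node (nat_lit 470) (.node (nat_lit 468) (.leaf ((nat_lit 1), [nat_lit 6, nat_lit 3, nat_lit 6, nat_lit 0])) (.node (nat_lit 469) (.leaf ((nat_lit 1), [nat_lit 5, nat_lit 4, nat_lit 6, nat_lit 1])) (.leaf ((nat_lit 1), [nat_lit 5, nat_lit 0, nat_lit 7, nat_lit 1])))) (.node (nat_lit 471) (.leaf ((nat_lit 1), [nat_lit 6, nat_lit 7, nat_lit 0, nat_lit 7, nat_lit 2])) (.node (nat_lit 472) (.leaf ((nat_lit 1), [nat_lit 7, nat_lit 3, nat_lit 1, nat_lit 7, nat_lit 2])) (.leaf ((nat_lit 1), [nat_lit 0, nat_lit 5, nat_lit 3, nat_lit 1]))))))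
 (.node (nat_lit 478) (.node (nat_lit 475) (.node (nat_lit 474) (.leaf ((nat_lit 1), [nat_lit 0, nat_lit 5, nat_lit 0])) (.leaf ((nat_lit 1), [nat_lit 7, nat_lit 1]))) (.node (nat_lit 476) (.leaf ((nat_lit 1), [nat_lit 7, nat_lit 5, nat_lit 2, nat_lit 7, nat_lit 0])) (.node (nat_lit 477) (.leaf ((nat_lit 1), [nat_lit 3, nat_lit 6, nat_lit 7, nat_lit 4, nat_lit 2])) (.leaf ((nat_lit 1), [nat_lit 2, nat_lit 0])))))
 (.node (nat_lit 481) (.node (nat_lit 479) (.leaf ((nat_lit 1), [nat_lit 2, nat_lit 5, nat_lit 7, nat_lit 4])) (.node (nat_lit 480) (.leaf ((nat_lit 1), [nat_lit 6, nat_lit 3, nat_lit 7, nat_lit 0, nat_lit 6, nat_lit 3])) (.leaf ((nat_lit 1), [nat_lit 7, nat_lit 5, nat_lit 3, nat_lit 6])))) (.node (nat_lit 482) (.leaf ((nat_lit 1), [nat_lit 7, nat_lit 2, nat_lit 7, nat_lit 1, nat_lit 6])) (.node (nat_lit 483) (.leaf ((nat_lit 0), [nat_lit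 5, nat_lit 7, nat_lit 0])) (.leaf ((nat_lit 1), [nat_lit 7, nat_lit 6, nat_lit 2, nat_lit 5]))))))))
 (.node (nat_lit 506) (.node (nat_lit 495) (.node (nat_lit 489) (.node (nat_lit 486) (.node (nat_lit 485) (.leaf ((nat_lit 1), [nat_lit 1, nat_lit 7, nat_lit 1, nat_lit 6, nat_lit 0])) (.leaf ((nat_lit 1), [nat_lit 0, nat_lit 5, nat_lit 4, nat_lit 7, nat_lit 0]))) (.node (nat_lit 487) (.leaf ((nat_lit 1), [nat_lit 0, nat_lit 5, nat_lit 7, nat_lit 4, nat_lit 2])) (.node (nat_lit 488) (.leaf ((nat_lit 1), [nat_lit 4, nat_lit 3, nat_lit 7, nat_lit 0])) (.leaf ((nat_lit 1), [nat_lit 2, nat_lit 7, nat_lit 4, nat_lit 1])))))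
 (.node (nat_lit 492) (.node (nat_lit 490) (.leaf ((nat_lit 1), [nat_lit 4, nat_lit 0, nat_lit 5, nat_lit 0])) (.node (nat_lit 491) (.leaf ((nat_lit 0), [nat_lit 3, nat_lit 7, nat_lit 2, nat_lit 0])) (.leaf ((nat_lit 1), [nat_lit 0, nat_lit 7, nat_lit 1, nat_lit 6, nat_lit 1])))) (.node (nat_lit 493) (.leaf ((nat_lit 1), [nat_lit 2, nat_lit 6, nat_lit 3])) (.node (nat_lit 494) (.leaf ((nat_lit 1), [nat_lit 6, nat_lit 7, nat_lit 0, nat_lit 5])) (.leaf ((nat_lit 1), [nat_lit 4, nat_lit 2, nat_lit 0]))))))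
 (.node (nat_lit 500) (.node (nat_lit 497) (.node (nat_lit 496) (.leaf ((nat_lit 1), [nat_lit 3, nat_lit 5, nat_lit 6, nat_lit 7, nat_lit 1])) (.leaf ((nat_lit 1), [nat_lit 6, nat_lit 5, nat_lit 7, nat_lit 6, nat_lit 4, nat_lit 0]))) (.node (nat_lit 498) (.leaf ((nat_lit 1), [nat_lit 5, nat_lit 2, nat_lit 1, nat_lit 7, nat_lit 1])) (.node (nat_lit 499) (.leaf ((nat_lit 1), [nat_lit 7, nat_lit 2])) (.leaf ((nat_lit 1), [nat_lit 5, nat_lit 0, nat_lit 5, nat_lit 3])))))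
 (.node (nat_lit 503) (.node (nat_lit 501) (.leaf ((nat_lit 1), [nat_lit 7, nat_lit 0, nat_lit 5, nat_lit 4, nat_lit 0])) (.node (nat_lit 502) (.leaf ((nat_lit 1), [nat_lit 0, nat_lit 5, nat_lit 4, nat_lit 3])) (.leaf ((nat_lit 0), [nat_lit 4, nat_lit 0])))) (.node (nat_lit 504) (.leaf ((nat_lit 1), [nat_lit 7, nat_lit 6, nat_lit 7, nat_lit 3, nat_lit 1])) (.node (nat_lit 505) (.leaf ((nat_lit 1), [nat_lit 7, nat_lit 5, nat_lit 6, nat_lit 7, nat_lit 1])) (.leaf ((nat_lit 1), [nat_lit 6, nat_lit 5, nat_lit 3, nat_lit 1])))))))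
 (.node (nat_lit 517) (.node (nat_lit 511) (.node (nat_lit 508) (.node (nat_lit 507) (.leaf ((nat_lit 1), [nat_lit 5, nat_lit 4, nat_lit 7, nat_lit 5, nat_lit 3])) (.leaf ((nat_lit 1), [nat_lit 4, nat_lit 7, nat_lit 5, nat_lit 2, nat_lit 0]))) (.node (nat_lit 509) (.leaf ((nat_lit 1), [nat_lit 2, nat_lit 7, nat_lit 6, nat_lit 3, nat_lit 1])) (.node (nat_lit 510) (.leaf ((nat_lit 1), [nat_lit 6, nat_lit 7, nat_lit 1, nat_lit 6, nat_lit 2])) (.leaf ((nat_lit 1), [nat_lit 1, nat_lit 6, nat_lit 2, nat_lit 7])))))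
 (.node (nat_lit 514) (.node (nat_lit 512) (.leaf ((nat_lit 1), [nat_lit 3, nat_lit 7, nat_lit 6, nat_lit 0])) (.node (nat_lit 513) (.leaf ((nat_lit 1), [nat_lit 6, nat_lit 7, nat_lit 2, nat_lit 0])) (.leaf ((nat_lit 1), [nat_lit 4, nat_lit 2, nat_lit 1, nat_lit 7, nat_lit 1])))) (.node (nat_lit 515) (.leaf ((nat_lit 1), [nat_lit 3, nat_lit 7, nat_lit 2, nat_lit 6, nat_lit 3])) (.node (nat_lit 516) (.leaf ((nat_lit 1), [nat_lit 7, nat_lit 2, nat_lit 5, nat_lit 6])) (.leaf ((nat_lit 1), [nat_lit 4, nat_lit 1, nat_lit 6]))))))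
 (.node (nat_lit 522) (.node (nat_lit 519) (.node (nat_lit 518) (.leaf ((nat_lit 1), [nat_lit 7, nat_lit 4, nat_lit 5])) (.leaf ((nat_lit 1), [nat_lit 6, nat_lit 7, nat_lit 5, nat_lit 0]))) (.node (nat_lit 520) (.leaf ((nat_lit 0), [nat_lit 6, nat_lit 5, nat_lit 7, nat_lit 0])) (.node (nat_lit 521) (.leaf ((nat_lit 1), [nat_lit 6, nat_lit 7, nat_lit 5, nat_lit 3, nat_lit 0])) (.leaf ((nat_lit 1), [nat_lit 1, nat_lit 5, nat_lit 2, nat_lit 7, nat_lit 1])))))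
 (.node (nat_lit 525) (.node (nat_lit 523) (.leaf ((nat_lit 1), [nat_lit 7, nat_lit 4, nat_lit 1, nat_lit 6])) (.node (nat_lit 524) (.leaf ((nat_lit 1), [nat_lit 6, nat_lit 1, nat_lit 6])) (.leaf ((nat_lit 1), [nat_lit 1, nat_lit 7, nat_lit 2])))) (.node (nat_lit 526) (.leaf ((nat_lit 1), [nat_lit 7, nat_lit 3, nat_lit 7, nat_lit 1, nat_lit 6, nat_lit 0])) (.node (nat_lit 527) (.leaf ((nat_lit 1), [nat_lit 7, nat_lit 4, nat_lit 6, nat_lit 7])) (.leaf ((nat_lit 1), [nat_lit 5, nat_lit 1, nat_lit 6, nat_lit 4, nat_lit 0]))))))))))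
noncomputable def pPA_3 : Tr (ℕ × List ℕ) := (.node (nat_lit 616) (.node (nat_lit 572) (.node (nat_lit 550) (.node (nat_lit 539) (.node (nat_lit 533) (.node (nat_lit 530) (.node (nat_lit 529) (.leaf ((nat_lit 1), [nat_lit 4, nat_lit 3, nat_lit 7])) (.leaf ((nat_lit 1), [nat_lit 2, nat_lit 0, nat_lit 7, nat_lit 6, nat_lit 7, nat_lit 0]))) (.node (nat_lit 531) (.leaf ((nat_lit 1), [nat_lit 3, nat_lit 7, nat_lit 0, nat_lit 6, nat_lit 3])) (.node (nat_lit 532) (.leaf ((nat_lit 1), [nat_lit 6, nat_lit 1, nat_lit 5, nat_lit 3])) (.leaf ((nat_lit 0), [nat_lit 0, nat_lit 7, nat_lit 2, nat_lit 0])))))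
 (.node (nat_lit 536) (.node (nat_lit 534) (.leaf ((nat_lit 1), [nat_lit 4, nat_lit 5, nat_lit 7, nat_lit 2, nat_lit 0])) (.node (nat_lit 535) (.leaf ((nat_lit 1), [nat_lit 1, nat_lit 6, nat_lit 7, nat_lit 6, nat_lit 2])) (.leaf ((nat_lit 1), [nat_lit 6, nat_lit 1, nat_lit 6, nat_lit 0])))) (.node (nat_lit 537) (.leaf ((nat_lit 1), [nat_lit 6])) (.node (nat_lit 538) (.leaf ((nat_lit 1), [nat_lit 4, nat_lit 7, nat_lit 5, nat_lit 3])) (.leaf ((nat_lit 0), [nat_lit 6, nat_lit 7, nat_lit 6]))))))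
 (.node (nat_lit 544) (.node (nat_lit 541) (.node (nat_lit 540) (.leaf ((nat_lit 1), [nat_lit 6, nat_lit 7, nat_lit 2, nat_lit 7, nat_lit 1])) (.leaf ((nat_lit 1), [nat_lit 5, nat_lit 1]))) (.node (nat_lit 542) (.leaf ((nat_lit 1), [nat_lit 4, nat_lit 5, nat_lit 4])) (.node (nat_lit 543) (.leaf ((nat_lit 1), [nat_lit 2, nat_lit 6, nat_lit 3, nat_lit 1])) (.leaf ((nat_lit 1), [nat_lit 4, nat_lit 7, nat_lit 6, nat_lit 7, nat_lit 0])))))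
 (.node (nat_lit 547) (.node (nat_lit 545) (.leaf ((nat_lit 1), [nat_lit 1, nat_lit 5, nat_lit 4, nat_lit 0])) (.node (nat_lit 546) (.leaf ((nat_lit 1), [nat_lit 4, nat_lit 6])) (.leaf ((nat_lit 1), [nat_lit 7, nat_lit 2, nat_lit 7, nat_lit 2, nat_lit 0])))) (.node (nat_lit 548) (.leaf ((nat_lit 1), [nat_lit 6, nat_lit 0, nat_lit 7, nat_lit 0])) (.node (nat_lit 549) (.leaf ((nat_lit 1), [nat_lit 0, nat_lit 5, nat_lit 1, nat_lit 7])) (.leaf ((nat_lit 1), [nat_lit 2, nat_lit 5])))))))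
 (.node (nat_lit 561) (.node (nat_lit 555) (.node (nat_lit 552) (.node (nat_lit 551) (.leaf ((nat_lit 1), [nat_lit 3, nat_lit 7])) (.leaf ((nat_lit 1), [nat_lit 1, nat_lit 6, nat_lit 4, nat_lit 7]))) (.node (nat_lit 553) (.leaf ((nat_lit 0), [nat_lit 7, nat_lit 6, nat_lit 7, nat_lit 4, nat_lit 0])) (.node (nat_lit 554) (.leaf ((nat_lit 1), [nat_lit 6, nat_lit 0, nat_lit 5, nat_lit 3, nat_lit 0])) (.leaf ((nat_lit 1), [nat_lit 2, nat_lit 1, nat_lit 7, nat_lit 1, nat_lit 6])))))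
 (.node (nat_lit 558) (.node (nat_lit 556) (.leaf ((nat_lit 1), [nat_lit 7, nat_lit 3, nat_lit 6])) (.node (nat_lit 557) (.leaf ((nat_lit 1), [nat_lit 5, nat_lit 4, nat_lit 2, nat_lit 7, nat_lit 1])) (.leaf ((nat_lit 1), [nat_lit 0, nat_lit 6, nat_lit 3])))) (.node (nat_lit 559) (.leaf ((nat_lit 1), [nat_lit 6, nat_lit 7, nat_lit 2, nat_lit 5, nat_lit 0])) (.node (nat_lit 560) (.leaf ((nat_lit 1), [nat_lit 2, nat_lit 6, nat_lit 2, nat_lit 5, nat_lit 7])) (.leaf ((nat_lit 1), [nat_lit 4, nat_lit 6, nat_lit 3]))))))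
 (.node (nat_lit 566) (.node (nat_lit 563) (.node (nat_lit 562) (.leaf ((nat_lit 1), [nat_lit 0, nat_lit 6, nat_lit 7, nat_lit 1, nat_lit 6])) (.leaf ((nat_lit 1), [nat_lit 2, nat_lit 6, nat_lit 5, nat_lit 7]))) (.node (nat_lit 564) (.leaf ((nat_lit 1), [nat_lit 7, nat_lit 1, nat_lit 7, nat_lit 6])) (.node (nat_lit 565) (.leaf ((nat_lit 1), [nat_lit 6, nat_lit 7, nat_lit 1, nat_lit 5, nat_lit 7])) (.leaf ((nat_lit 1), [nat_lit 4, nat_lit 1, nat_lit 7, nat_lit 0])))))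
 (.node (nat_lit 569) (.node (nat_lit 567) (.leaf ((nat_lit 1), [nat_lit 4, nat_lit 1])) (.node (nat_lit 568) (.leaf ((nat_lit 1), [nat_lit 6, nat_lit 7, nat_lit 1, nat_lit 7, nat_lit 6])) (.leaf ((nat_lit 1), [nat_lit 7, nat_lit 3, nat_lit 1, nat_lit 6])))) (.node (nat_lit 570) (.leaf ((nat_lit 1), [nat_lit 7, nat_lit 3, nat_lit 1, nat_lit 7, nat_lit 1])) (.node (nat_lit 571) (.leaf ((nat_lit 1), [nat_lit 5, nat_lit 7, nat_lit 3, nat_lit 1])) (.leaf ((nat_lit 1), [nat_lit 6, nat_lit 7, nat_lit 4, nat_lit 6]))))))))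
 (.node (nat_lit 594) (.node (nat_lit 583) (.node (nat_lit 577) (.node (nat_lit 574) (.node (nat_lit 573) (.leaf ((nat_lit 1), [nat_lit 7, nat_lit 5, nat_lit 0, nat_lit 5, nat_lit 0])) (.leaf ((nat_lit 1), [nat_lit 4, nat_lit 3, nat_lit 5, nat_lit 7]))) (.node (nat_lit 575) (.leaf ((nat_lit 1), [nat_lit 7, nat_lit 1, nat_lit 5, nat_lit 4, nat_lit 1])) (.node (nat_lit 576) (.leaf ((nat_lit 1), [nat_lit 7, nat_lit 5, nat_lit 0, nat_lit 7])) (.leaf ((nat_lit 1), [nat_lit 6, nat_lit 5])))))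
 (.node (nat_lit 580) (.node (nat_lit 578) (.leaf ((nat_lit 1), [nat_lit 4, nat_lit 0, nat_lit 7, nat_lit 1])) (.node (nat_lit 579) (.leaf ((nat_lit 1), [nat_lit 7, nat_lit 0, nat_lit 5, nat_lit 3, nat_lit 0])) (.leaf ((nat_lit 1), [nat_lit 3, nat_lit 6, nat_lit 0, nat_lit 7])))) (.node (nat_lit 581) (.leaf ((nat_lit 1), [nat_lit 7, nat_lit 2, nat_lit 0])) (.node (nat_lit 582) (.leaf ((nat_lit 1), [nat_lit 1, nat_lit 5, nat_lit 7, nat_lit 3])) (.leaf ((nat_lit 1), [nat_lit 7, nat_lit 5, nat_lit 6, nat_lit 7]))))))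
 (.node (nat_lit 588) (.node (nat_lit 585) (.node (nat_lit 584) (.leaf ((nat_lit 1), [nat_lit 1, nat_lit 5, nat_lit 4, nat_lit 3, nat_lit 0])) (.leaf ((nat_lit 1), [nat_lit 7, nat_lit 4, nat_lit 3, nat_lit 7]))) (.node (nat_lit 586) (.leaf ((nat_lit 1), [nat_lit 4, nat_lit 2, nat_lit 5, nat_lit 0, nat_lit 7])) (.node (nat_lit 587) (.leaf ((nat_lit 1), [nat_lit 5, nat_lit 4])) (.leaf ((nat_lit 1), [nat_lit 7, nat_lit 3, nat_lit 0, nat_lit 6])))))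
 (.node (nat_lit 591) (.node (nat_lit 589) (.leaf ((nat_lit 0), [nat_lit 3, nat_lit 7, nat_lit 0])) (.node (nat_lit 590) (.leaf ((nat_lit 1), [nat_lit 5, nat_lit 2, nat_lit 0])) (.leaf ((nat_lit 1), [nat_lit 0, nat_lit 7, nat_lit 6, nat_lit 5])))) (.node (nat_lit 592) (.leaf ((nat_lit 1), [nat_lit 7, nat_lit 2, nat_lit 6, nat_lit 5, nat_lit 3])) (.node (nat_lit 593) (.leaf ((nat_lit 1), [nat_lit 4, nat_lit 6, nat_lit 2, nat_lit 0])) (.leaf ((nat_lit 1), [nat_lit 5, nat_lit 3, nat_lit 7, nat_lit 5])))))))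
 (.node (nat_lit 605) (.node (nat_lit 599) (.node (nat_lit 596) (.node (nat_lit 595) (.leaf ((nat_lit 1), [nat_lit 3, nat_lit 6, nat_lit 7, nat_lit 4, nat_lit 1])) (.leaf ((nat_lit 1), [nat_lit 5, nat_lit 0, nat_lit 6, nat_lit 2]))) (.node (nat_lit 597) (.leaf ((nat_lit 1), [nat_lit 1, nat_lit 5, nat_lit 6, nat_lit 4])) (.node (nat_lit 598) (.leaf ((nat_lit 1), [nat_lit 4, nat_lit 0, nat_lit 7, nat_lit 0])) (.leaf ((nat_lit 1), [nat_lit 5, nat_lit 7, nat_lit 3])))))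
 (.node (nat_lit 602) (.node (nat_lit 600) (.leaf ((nat_lit 1), [nat_lit 1, nat_lit 6, nat_lit 4, nat_lit 1])) (.node (nat_lit 601) (.leaf ((nat_lit 1), [nat_lit 7, nat_lit 2, nat_lit 0, nat_lit 7, nat_lit 3])) (.leaf ((nat_lit 1), [nat_lit 5])))) (.node (nat_lit 603) (.leaf ((nat_lit 1), [nat_lit 4, nat_lit 7, nat_lit 4, nat_lit 2])) (.node (nat_lit 604) (.leaf ((nat_lit 1), [nat_lit 5, nat_lit 2, nat_lit 1])) (.leaf ((nat_lit 1), [nat_lit 2, nat_lit 1, nat_lit 5, nat_lit 0]))))))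
 (.node (nat_lit 610) (.node (nat_lit 607) (.node (nat_lit 606) (.leaf ((nat_lit 1), [nat_lit 3, nat_lit 1, nat_lit 7, nat_lit 2])) (.leaf ((nat_lit 1), [nat_lit 5, nat_lit 2, nat_lit 6]))) (.node (nat_lit 608) (.leaf ((nat_lit 1), [nat_lit 2, nat_lit 6, nat_lit 7, nat_lit 4, nat_lit 3])) (.node (nat_lit 609) (.leaf ((nat_lit 1), [nat_lit 7, nat_lit 4, nat_lit 7, nat_lit 4, nat_lit 3, nat_lit 0])) (.leaf ((nat_lit 1), [nat_lit 5, nat_lit 2, nat_lit 7, nat_lit 2, nat_lit 0])))))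
 (.node (nat_lit 613) (.node (nat_lit 611) (.leaf ((nat_lit 1), [nat_lit 1, nat_lit 7, nat_lit 6])) (.node (nat_lit 612) (.leaf ((nat_lit 1), [nat_lit 5, nat_lit 6, nat_lit 7, nat_lit 3, nat_lit 5, nat_lit 4])) (.leaf ((nat_lit 1), [nat_lit 7, nat_lit 6, nat_lit 4, nat_lit 5, nat_lit 0])))) (.node (nat_lit 614) (.leaf ((nat_lit 1), [nat_lit 7, nat_lit 4, nat_lit 1, nat_lit 6, nat_lit 5])) (.node (nat_lit 615) (.leaf ((nat_lit 1), [nat_lit 7, nat_lit 0, nat_lit 7, nat_lit 3, nat_lit 1])) (.leaf ((nat_lit 1), [nat_lit 2, nat_lit 5, nat_lit 0, nat_lit 7])))))))))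
 (.node (nat_lit 660) (.node (nat_lit 638) (.node (nat_lit 627) (.node (nat_lit 621) (.node (nat_lit 618) (.node (nat_lit 617) (.leaf ((nat_lit 1), [nat_lit 6, nat_lit 7, nat_lit 6, nat_lit 2])) (.leaf ((nat_lit 1), [nat_lit 3, nat_lit 6, nat_lit 1]))) (.node (nat_lit 619) (.leaf ((nat_lit 1), [nat_lit 0, nat_lit 5, nat_lit 6, nat_lit 3, nat_lit 0])) (.node (nat_lit 620) (.leaf ((nat_lit 1), [nat_lit 5, nat_lit 6, nat_lit 1, nat_lit 7, nat_lit 0])) (.leaf ((nat_lit 1), [nat_lit 4, nat_lit 0, nat_lit 5, nat_lit 1])))))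
 (.node (nat_lit 624) (.node (nat_lit 622) (.leaf ((nat_lit 1), [nat_lit 0, nat_lit 6, nat_lit 7, nat_lit 3, nat_lit 0])) (.node (nat_lit 623) (.leaf ((nat_lit 1), [nat_lit 5, nat_lit 7, nat_lit 1, nat_lit 6])) (.leaf ((nat_lit 1), [nat_lit 4, nat_lit 1, nat_lit 5, nat_lit 3])))) (.node (nat_lit 625) (.leaf ((nat_lit 1), [nat_lit 5, nat_lit 2, nat_lit 1, nat_lit 5, nat_lit 0])) (.node (nat_lit 626) (.leaf ((nat_lit 1), [nat_lit 5, nat_lit 1, nat_lit 6, nat_lit 3, nat_lit 7])) (.leaf ((nat_lit 1), [nat_lit 4, nat_lit 7, nat_lit 2, nat_lit 7, nat_lit 0]))))))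
 (.node (nat_lit 632) (.node (nat_lit 629) (.node (nat_lit 628) (.leaf ((nat_lit 1), [nat_lit 3, nat_lit 5, nat_lit 4, nat_lit 1])) (.leaf ((nat_lit 0), [nat_lit 7, nat_lit 4, nat_lit 7, nat_lit 3]))) (.node (nat_lit 630) (.leaf ((nat_lit 1), [nat_lit 1, nat_lit 7, nat_lit 5, nat_lit 6])) (.node (nat_lit 631) (.leaf ((nat_lit 1), [nat_lit 4, nat_lit 2, nat_lit 7])) (.leaf ((nat_lit 1), [nat_lit 2, nat_lit 0, nat_lit 7, nat_lit 3])))))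
 (.node (nat_lit 635) (.node (nat_lit 633) (.leaf ((nat_lit 1), [nat_lit 6, nat_lit 2, nat_lit 0, nat_lit 7, nat_lit 1])) (.node (nat_lit 634) (.leaf ((nat_lit 1), [nat_lit 7, nat_lit 6, nat_lit 2])) (.leaf ((nat_lit 0), [nat_lit 4, nat_lit 7, nat_lit 6])))) (.node (nat_lit 636) (.leaf ((nat_lit 1), [nat_lit 3, nat_lit 6, nat_lit 4, nat_lit 7])) (.node (nat_lit 637) (.leaf ((nat_lit 1), [nat_lit 2, nat_lit 0, nat_lit 7, nat_lit 6, nat_lit 3])) (.leaf ((nat_lit 1), [nat_lit 4, nat_lit 7, nat_lit 3, nat_lit 0])))))))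
 (.node (nat_lit 649) (.node (nat_lit 643) (.node (nat_lit 640) (.node (nat_lit 639) (.leaf ((nat_lit 1), [nat_lit 2, nat_lit 5, nat_lit 6, nat_lit 4])) (.leaf ((nat_lit 0), [nat_lit 7, nat_lit 0, nat_lit 7, nat_lit 3, nat_lit 0]))) (.node (nat_lit 641) (.leaf ((nat_lit 1), [nat_lit 7, nat_lit 5, nat_lit 2, nat_lit 1])) (.node (nat_lit 642) (.leaf ((nat_lit 1), [nat_lit 7, nat_lit 0, nat_lit 7, nat_lit 5, nat_lit 0, nat_lit 7])) (.leaf ((nat_lit 1), [nat_lit 7, nat_lit 4, nat_lit 6, nat_lit 0])))))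
 (.node (nat_lit 646) (.node (nat_lit 644) (.leaf ((nat_lit 1), [nat_lit 6, nat_lit 7, nat_lit 3, nat_lit 1])) (.node (nat_lit 645) (.leaf ((nat_lit 1), [nat_lit 7, nat_lit 2, nat_lit 1, nat_lit 7, nat_lit 3])) (.leaf ((nat_lit 1), [nat_lit 2, nat_lit 7, nat_lit 6, nat_lit 1])))) (.node (nat_lit 647) (.leaf ((nat_lit 1), [nat_lit 7, nat_lit 2, nat_lit 6])) (.node (nat_lit 648) (.leaf ((nat_lit 1), [nat_lit 3, nat_lit 7, nat_lit 4, nat_lit 3])) (.leaf ((nat_lit 1), [nat_lit 1, nat_lit 5, nat_lit 6]))))))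
 (.node (nat_lit 654) (.node (nat_lit 651) (.node (nat_lit 650) (.leaf ((nat_lit 1), [nat_lit 5, nat_lit 4, nat_lit 1, nat_lit 5, nat_lit 0])) (.leaf ((nat_lit 1), [nat_lit 1, nat_lit 5, nat_lit 7, nat_lit 5]))) (.node (nat_lit 652) (.leaf ((nat_lit 1), [nat_lit 1, nat_lit 6, nat_lit 7, nat_lit 2, nat_lit 0])) (.node (nat_lit 653) (.leaf ((nat_lit 1), [nat_lit 7, nat_lit 5, nat_lit 6, nat_lit 2])) (.leaf ((nat_lit 1), [nat_lit 2, nat_lit 6, nat_lit 7, nat_lit 4, nat_lit 1])))))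
 (.node (nat_lit 657) (.node (nat_lit 655) (.leaf ((nat_lit 1), [nat_lit 4, nat_lit 6, nat_lit 7])) (.node (nat_lit 656) (.leaf ((nat_lit 0), [nat_lit 6, nat_lit 7, nat_lit 0])) (.leaf ((nat_lit 1), [nat_lit 7, nat_lit 0, nat_lit 6, nat_lit 1])))) (.node (nat_lit 658) (.leaf ((nat_lit 1), [nat_lit 7, nat_lit 3, nat_lit 7, nat_lit 6])) (.node (nat_lit 659) (.leaf ((nat_lit 1), [nat_lit 0, nat_lit 5, nat_lit 4, nat_lit 7, nat_lit 4])) (.leaf ((nat_lit 1), [nat_lit 3, nat_lit 7, nat_lit 0, nat_lit 7]))))))))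
 (.node (nat_lit 682) (.node (nat_lit 671) (.node (nat_lit 665) (.node (nat_lit 662) (.node (nat_lit 661) (.leaf ((nat_lit 1), [nat_lit 4, nat_lit 5, nat_lit 7, nat_lit 5])) (.leaf ((nat_lit 1), [nat_lit 5, nat_lit 3, nat_lit 6, nat_lit 0]))) (.node (nat_lit 663) (.leaf ((nat_lit 1), [nat_lit 7, nat_lit 2, nat_lit 6, nat_lit 0])) (.node (nat_lit 664) (.leaf ((nat_lit 1), [nat_lit 6, nat_lit 0, nat_lit 5, nat_lit 0])) (.leaf ((nat_lit 1), [nat_lit 2, nat_lit 1, nat_lit 6, nat_lit 7, nat_lit 0])))))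
 (.node (nat_lit 668) (.node (nat_lit 666) (.leaf ((nat_lit 1), [nat_lit 5, nat_lit 7, nat_lit 6, nat_lit 7])) (.node (nat_lit 667) (.leaf ((nat_lit 1), [nat_lit 3, nat_lit 5, nat_lit 1])) (.leaf ((nat_lit 1), [nat_lit 1, nat_lit 7, nat_lit 5, nat_lit 0, nat_lit 7])))) (.node (nat_lit 669) (.leaf ((nat_lit 1), [nat_lit 7, nat_lit 2, nat_lit 7, nat_lit 4, nat_lit 3])) (.node (nat_lit 670) (.leaf ((nat_lit 1), [nat_lit 4, nat_lit 7, nat_lit 0])) (.leaf ((nat_lit 1), [nat_lit 3, nat_lit 5, nat_lit 7, nat_lit 2, nat_lit 1]))))))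
 (.node (nat_lit 676) (.node (nat_lit 673) (.node (nat_lit 672) (.leaf ((nat_lit 0), [nat_lit 6, nat_lit 0, nat_lit 7, nat_lit 1])) (.leaf ((nat_lit 0), [nat_lit 2, nat_lit 7, nat_lit 0]))) (.node (nat_lit 674) (.leaf ((nat_lit 1), [nat_lit 3, nat_lit 0, nat_lit 7, nat_lit 0])) (.node (nat_lit 675) (.leaf ((nat_lit 1), [nat_lit 5, nat_lit 6, nat_lit 7, nat_lit 0])) (.leaf ((nat_lit 1), [nat_lit 1, nat_lit 5, nat_lit 0, nat_lit 7])))))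
 (.node (nat_lit 679) (.node (nat_lit 677) (.leaf ((nat_lit 1), [nat_lit 5, nat_lit 2, nat_lit 0, nat_lit 5, nat_lit 1])) (.node (nat_lit 678) (.leaf ((nat_lit 1), [nat_lit 7, nat_lit 6, nat_lit 1])) (.leaf ((nat_lit 1), [nat_lit 7, nat_lit 6, nat_lit 5, nat_lit 3])))) (.node (nat_lit 680) (.leaf ((nat_lit 1), [nat_lit 1, nat_lit 6, nat_lit 7, nat_lit 0])) (.node (nat_lit 681) (.leaf ((nat_lit 1), [nat_lit 5, nat_lit 7, nat_lit 2, nat_lit 7, nat_lit 0])) (.leaf ((nat_lit 1), [nat_lit 6, nat_lit 1, nat_lit 7, nat_lit 4])))))))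
 (.node (nat_lit 693) (.node (nat_lit 687) (.node (nat_lit 684) (.node (nat_lit 683) (.leaf ((nat_lit 1), [nat_lit 6, nat_lit 7, nat_lit 4, nat_lit 0, nat_lit 5, nat_lit 0])) (.leaf ((nat_lit 0), [nat_lit 0, nat_lit 7, nat_lit 5]))) (.node (nat_lit 685) (.leaf ((nat_lit 1), [nat_lit 5, nat_lit 7, nat_lit 4, nat_lit 0, nat_lit 5, nat_lit 0])) (.node (nat_lit 686) (.leaf ((nat_lit 1), [nat_lit 4, nat_lit 5, nat_lit 2, nat_lit 7])) (.leaf ((nat_lit 1), [nat_lit 5, nat_lit 1, nat_lit 7, nat_lit 0])))))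
 (.node (nat_lit 690) (.node (nat_lit 688) (.leaf ((nat_lit 1), [nat_lit 0, nat_lit 7, nat_lit 5, nat_lit 6, nat_lit 2])) (.node (nat_lit 689) (.leaf ((nat_lit 1), [nat_lit 6, nat_lit 4, nat_lit 5, nat_lit 7, nat_lit 1])) (.leaf ((nat_lit 1), [nat_lit 3, nat_lit 0, nat_lit 5, nat_lit 1])))) (.node (nat_lit 691) (.leaf ((nat_lit 1), [nat_lit 7, nat_lit 0, nat_lit 5, nat_lit 7])) (.node (nat_lit 692) (.leaf ((nat_lit 1), [nat_lit 6, nat_lit 4, nat_lit 7, nat_lit 3])) (.leaf ((nat_lit 1), [nat_lit 4, nat_lit 6, nat_lit 3, nat_lit 0, nat_lit 7]))))))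
 (.node (nat_lit 698) (.node (nat_lit 695) (.node (nat_lit 694) (.leaf ((nat_lit 1), [nat_lit 6, nat_lit 5, nat_lit 2, nat_lit 7, nat_lit 0])) (.leaf ((nat_lit 1), [nat_lit 0, nat_lit 7, nat_lit 6]))) (.node (nat_lit 696) (.leaf ((nat_lit 1), [nat_lit 4, nat_lit 6, nat_lit 1, nat_lit 7, nat_lit 1])) (.node (nat_lit 697) (.leaf ((nat_lit 1), [nat_lit 6, nat_lit 0, nat_lit 7, nat_lit 0, nat_lit 7])) (.leaf ((nat_lit 1), [nat_lit 4, nat_lit 2, nat_lit 5])))))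
 (.node (nat_lit 701) (.node (nat_lit 699) (.leaf ((nat_lit 1), [nat_lit 2, nat_lit 7, nat_lit 0, nat_lit 5, nat_lit 0])) (.node (nat_lit 700) (.leaf ((nat_lit 1), [nat_lit 2, nat_lit 0, nat_lit 7, nat_lit 2, nat_lit 5, nat_lit 0])) (.leaf ((nat_lit 1), [nat_lit 2, nat_lit 7, nat_lit 6, nat_lit 7, nat_lit 0])))) (.node (nat_lit 702) (.leaf ((nat_lit 1), [nat_lit 0, nat_lit 7, nat_lit 4, nat_lit 0])) (.node (nat_lit 703) (.leaf ((nat_lit 1), [nat_lit 5, nat_lit 7, nat_lit 1])) (.leaf ((nat_lit 1), [nat_lit 5, nat_lit 3, nat_lit 6, nat_lit 1, nat_lit 7]))))))))))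
noncomputable def pPA_4 : Tr (ℕ × List ℕ) := (.node (nat_lit 792) (.node (nat_lit 748) (.node (nat_lit 726) (.node (nat_lit 715) (.node (nat_lit 709) (.node (nat_lit 706) (.node (nat_lit 705) (.leaf ((nat_lit 1), [nat_lit 1])) (.leaf ((nat_lit 1), [nat_lit 7, nat_lit 3, nat_lit 6, nat_lit 7, nat_lit 3, nat_lit 1]))) (.node (nat_lit 707) (.leaf ((nat_lit 0), [nat_lit 7, nat_lit 6, nat_lit 7, nat_lit 2])) (.node (nat_lit 708) (.leaf ((nat_lit 1), [nat_lit 7, nat_lit 0, nat_lit 7])) (.leaf ((nat_lit 1), [nat_lit 7, nat_lit 3, nat_lit 5, nat_lit 4])))))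
 (.node (nat_lit 712) (.node (nat_lit 710) (.leaf ((nat_lit 1), [nat_lit 7, nat_lit 0, nat_lit 6, nat_lit 5])) (.node (nat_lit 711) (.leaf ((nat_lit 1), [nat_lit 5, nat_lit 7, nat_lit 2, nat_lit 0])) (.leaf ((nat_lit 1), [nat_lit 7, nat_lit 6, nat_lit 0, nat_lit 5, nat_lit 0])))) (.node (nat_lit 713) (.leaf ((nat_lit 1), [nat_lit 3, nat_lit 6, nat_lit 7, nat_lit 0])) (.node (nat_lit 714) (.leaf ((nat_lit 1), [nat_lit 0, nat_lit 7, nat_lit 0])) (.leaf ((nat_lit 1), [nat_lit 4, nat_lit 7, nat_lit 5, nat_lit 2, nat_lit 1]))))))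
 (.node (nat_lit 720) (.node (nat_lit 717) (.node (nat_lit 716) (.leaf ((nat_lit 1), [nat_lit 6, nat_lit 5, nat_lit 0, nat_lit 7, nat_lit 4])) (.leaf ((nat_lit 1), [nat_lit 0, nat_lit 7, nat_lit 2, nat_lit 5, nat_lit 4]))) (.node (nat_lit 718) (.leaf ((nat_lit 0), [nat_lit 6, nat_lit 7, nat_lit 2])) (.node (nat_lit 719) (.leaf ((nat_lit 0), [nat_lit 6, nat_lit 7, nat_lit 3, nat_lit 0])) (.leaf ((nat_lit 0), [nat_lit 7, nat_lit 5, nat_lit 4, nat_lit 7, nat_lit 0])))))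
 (.node (nat_lit 723) (.node (nat_lit 721) (.leaf ((nat_lit 1), [nat_lit 0, nat_lit 7, nat_lit 6, nat_lit 2])) (.node (nat_lit 722) (.leaf ((nat_lit 0), [nat_lit 2])) (.leaf ((nat_lit 1), [nat_lit 2, nat_lit 7, nat_lit 1, nat_lit 6])))) (.node (nat_lit 724) (.leaf ((nat_lit 1), [nat_lit 5, nat_lit 7, nat_lit 5, nat_lit 1])) (.node (nat_lit 725) (.leaf ((nat_lit 1), [nat_lit 3, nat_lit 5, nat_lit 0, nat_lit 7])) (.leaf ((nat_lit 0), [nat_lit 1, nat_lit 7, nat_lit 3])))))))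
 (.node (nat_lit 737) (.node (nat_lit 731) (.node (nat_lit 728) (.node (nat_lit 727) (.leaf ((nat_lit 1), [nat_lit 4, nat_lit 0, nat_lit 6, nat_lit 7, nat_lit 0])) (.leaf ((nat_lit 1), [nat_lit 1, nat_lit 7, nat_lit 6, nat_lit 3]))) (.node (nat_lit 729) (.leaf ((nat_lit 1), [nat_lit 6, nat_lit 4, nat_lit 3, nat_lit 7])) (.node (nat_lit 730) (.leaf ((nat_lit 1), [nat_lit 4, nat_lit 2, nat_lit 0, nat_lit 7])) (.leaf ((nat_lit 1), [nat_lit 0, nat_lit 7, nat_lit 0, nat_lit 7])))))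
 (.node (nat_lit 734) (.node (nat_lit 732) (.leaf ((nat_lit 1), [nat_lit 6, nat_lit 2, nat_lit 5, nat_lit 7, nat_lit 1])) (.node (nat_lit 733) (.leaf ((nat_lit 1), [nat_lit 1, nat_lit 7, nat_lit 4, nat_lit 6])) (.leaf ((nat_lit 0), [nat_lit 4, nat_lit 7, nat_lit 0])))) (.node (nat_lit 735) (.leaf ((nat_lit 1), [nat_lit 3, nat_lit 7, nat_lit 6, nat_lit 1])) (.node (nat_lit 736) (.leaf ((nat_lit 1), [nat_lit 2, nat_lit 6, nat_lit 1])) (.leaf ((nat_lit 1), [nat_lit 7, nat_lit 4, nat_lit 0, nat_lit 5, nat_lit 0]))))))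
 (.node (nat_lit 742) (.node (nat_lit 739) (.node (nat_lit 738) (.leaf ((nat_lit 1), [nat_lit 4, nat_lit 7])) (.leaf ((nat_lit 1), [nat_lit 0, nat_lit 7, nat_lit 4, nat_lit 3, nat_lit 0]))) (.node (nat_lit 740) (.leaf ((nat_lit 1), [nat_lit 2, nat_lit 6, nat_lit 7, nat_lit 0])) (.node (nat_lit 741) (.leaf ((nat_lit 1), [nat_lit 7, nat_lit 2, nat_lit 6, nat_lit 3, nat_lit 0])) (.leaf ((nat_lit 1), [nat_lit 6, nat_lit 5, nat_lit 3, nat_lit 0])))))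
 (.node (nat_lit 745) (.node (nat_lit 743) (.leaf ((nat_lit 1), [nat_lit 4, nat_lit 7, nat_lit 5, nat_lit 0])) (.node (nat_lit 744) (.leaf ((nat_lit 1), [nat_lit 7, nat_lit 5, nat_lit 2, nat_lit 0, nat_lit 6])) (.leaf ((nat_lit 1), [nat_lit 1, nat_lit 7, nat_lit 2, nat_lit 6, nat_lit 0])))) (.node (nat_lit 746) (.leaf ((nat_lit 1), [nat_lit 3, nat_lit 1, nat_lit 5, nat_lit 0])) (.node (nat_lit 747) (.leaf ((nat_lit 1), [nat_lit 2, nat_lit 6, nat_lit 2, nat_lit 5, nat_lit 0])) (.leaf ((nat_lit 1), [nat_lit 6, nat_lit 5, nat_lit 2, nat_lit 6]))))))))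
 (.node (nat_lit 770) (.node (nat_lit 759) (.node (nat_lit 753) (.node (nat_lit 750) (.node (nat_lit 749) (.leaf ((nat_lit 1), [nat_lit 2])) (.leaf ((nat_lit 0), [nat_lit 1, nat_lit 7, nat_lit 1]))) (.node (nat_lit 751) (.leaf ((nat_lit 1), [nat_lit 2, nat_lit 1, nat_lit 5, nat_lit 7])) (.node (nat_lit 752) (.leaf ((nat_lit 1), [nat_lit 2, nat_lit 5, nat_lit 2, nat_lit 7, nat_lit 1])) (.leaf ((nat_lit 1), [nat_lit 5, nat_lit 1, nat_lit 5, nat_lit 7, nat_lit 4])))))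
 (.node (nat_lit 756) (.node (nat_lit 754) (.leaf ((nat_lit 1), [nat_lit 7, nat_lit 2, nat_lit 7, nat_lit 3])) (.node (nat_lit 755) (.leaf ((nat_lit 1), [nat_lit 6, nat_lit 4, nat_lit 5])) (.leaf ((nat_lit 1), [nat_lit 2, nat_lit 7, nat_lit 0, nat_lit 6, nat_lit 3])))) (.node (nat_lit 757) (.leaf ((nat_lit 1), [nat_lit 1, nat_lit 5, nat_lit 3, nat_lit 0])) (.node (nat_lit 758) (.leaf ((nat_lit 1), [nat_lit 3, nat_lit 7, nat_lit 4, nat_lit 6, nat_lit 2, nat_lit 0])) (.leaf ((nat_lit 1), [nat_lit 0, nat_lit 7, nat_lit 6, nat_lit 7]))))))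
 (.node (nat_lit 764) (.node (nat_lit 761) (.node (nat_lit 760) (.leaf ((nat_lit 1), [nat_lit 7, nat_lit 1, nat_lit 7, nat_lit 4])) (.leaf ((nat_lit 1), [nat_lit 1, nat_lit 6, nat_lit 7, nat_lit 6, nat_lit 1]))) (.node (nat_lit 762) (.leaf ((nat_lit 1), [nat_lit 4, nat_lit 5, nat_lit 7, nat_lit 2, nat_lit 1])) (.node (nat_lit 763) (.leaf ((nat_lit 0), [nat_lit 2, nat_lit 7, nat_lit 2])) (.leaf ((nat_lit 1), [nat_lit 2, nat_lit 7, nat_lit 1])))))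
 (.node (nat_lit 767) (.node (nat_lit 765) (.leaf ((nat_lit 1), [nat_lit 0, nat_lit 6, nat_lit 4, nat_lit 7])) (.node (nat_lit 766) (.leaf ((nat_lit 1), [nat_lit 6, nat_lit 4, nat_lit 7, nat_lit 4, nat_lit 2])) (.leaf ((nat_lit 1), [nat_lit 5, nat_lit 4, nat_lit 6, nat_lit 7, nat_lit 0])))) (.node (nat_lit 768) (.leaf ((nat_lit 1), [nat_lit 0, nat_lit 6, nat_lit 2, nat_lit 0, nat_lit 7])) (.node (nat_lit 769) (.leaf ((nat_lit 0), [nat_lit 3, nat_lit 7, nat_lit 3])) (.leaf ((nat_lit 1), [nat_lit 0, nat_lit 7, nat_lit 1, nat_lit 6])))))))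
 (.node (nat_lit 781) (.node (nat_lit 775) (.node (nat_lit 772) (.node (nat_lit 771) (.leaf ((nat_lit 1), [nat_lit 7, nat_lit 4, nat_lit 7])) (.leaf ((nat_lit 1), [nat_lit 3, nat_lit 1, nat_lit 7, nat_lit 0]))) (.node (nat_lit 773) (.leaf ((nat_lit 1), [nat_lit 2, nat_lit 1, nat_lit 5, nat_lit 1])) (.node (nat_lit 774) (.leaf ((nat_lit 1), [nat_lit 5, nat_lit 7, nat_lit 6, nat_lit 0])) (.leaf ((nat_lit 0), [nat_lit 3, nat_lit 6, nat_lit 7, nat_lit 0])))))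
 (.node (nat_lit 778) (.node (nat_lit 776) (.leaf ((nat_lit 0), [nat_lit 2, nat_lit 5, nat_lit 7, nat_lit 3])) (.node (nat_lit 777) (.leaf ((nat_lit 1), [nat_lit 5, nat_lit 0, nat_lit 5])) (.leaf ((nat_lit 1), [nat_lit 1, nat_lit 7, nat_lit 1, nat_lit 7, nat_lit 5])))) (.node (nat_lit 779) (.leaf ((nat_lit 1), [nat_lit 2, nat_lit 7, nat_lit 3, nat_lit 5, nat_lit 2, nat_lit 0])) (.node (nat_lit 780) (.leaf ((nat_lit 1), [nat_lit 0, nat_lit 5, nat_lit 4, nat_lit 0])) (.leaf ((nat_lit 1), [nat_lit 0, nat_lit 5, nat_lit 7]))))))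
 (.node (nat_lit 786) (.node (nat_lit 783) (.node (nat_lit 782) (.leaf ((nat_lit 1), [nat_lit 1, nat_lit 6])) (.leaf ((nat_lit 1), [nat_lit 6, nat_lit 2, nat_lit 0, nat_lit 7]))) (.node (nat_lit 784) (.leaf ((nat_lit 1), [nat_lit 3, nat_lit 7, nat_lit 6, nat_lit 5, nat_lit 0])) (.node (nat_lit 785) (.leaf ((nat_lit 1), [nat_lit 0, nat_lit 7, nat_lit 0, nat_lit 5, nat_lit 0])) (.leaf ((nat_lit 1), [nat_lit 0, nat_lit 7, nat_lit 4, nat_lit 3])))))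
 (.node (nat_lit 789) (.node (nat_lit 787) (.leaf ((nat_lit 1), [nat_lit 4, nat_lit 3, nat_lit 5, nat_lit 1])) (.node (nat_lit 788) (.leaf ((nat_lit 0), [nat_lit 0, nat_lit 7, nat_lit 1])) (.leaf ((nat_lit 1), [nat_lit 6, nat_lit 2, nat_lit 1, nat_lit 7, nat_lit 1])))) (.node (nat_lit 790) (.leaf ((nat_lit 1), [nat_lit 6, nat_lit 2, nat_lit 0])) (.node (nat_lit 791) (.leaf ((nat_lit 1), [nat_lit 5, nat_lit 0, nat_lit 5, nat_lit 0])) (.leaf ((nat_lit 1), [nat_lit 3, nat_lit 7, nat_lit 1, nat_lit 6])))))))))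
 (.node (nat_lit 836) (.node (nat_lit 814) (.node (nat_lit 803) (.node (nat_lit 797) (.node (nat_lit 794) (.node (nat_lit 793) (.leaf ((nat_lit 1), [nat_lit 1, nat_lit 5, nat_lit 4, nat_lit 2, nat_lit 7, nat_lit 1])) (.leaf ((nat_lit 1), [nat_lit 6, nat_lit 4, nat_lit 1]))) (.node (nat_lit 795) (.leaf ((nat_lit 1), [nat_lit 1, nat_lit 7, nat_lit 5])) (.node (nat_lit 796) (.leaf ((nat_lit 0), [nat_lit 1, nat_lit 7, nat_lit 0])) (.leaf ((nat_lit 1), [nat_lit 3, nat_lit 6, nat_lit 7])))))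
 (.node (nat_lit 800) (.node (nat_lit 798) (.leaf ((nat_lit 0), [nat_lit 7, nat_lit 2, nat_lit 7, nat_lit 0])) (.node (nat_lit 799) (.leaf ((nat_lit 1), [nat_lit 0, nat_lit 7, nat_lit 3, nat_lit 1])) (.leaf ((nat_lit 0), [nat_lit 2, nat_lit 7, nat_lit 2, nat_lit 0])))) (.node (nat_lit 801) (.leaf ((nat_lit 1), [nat_lit 0, nat_lit 7, nat_lit 5, nat_lit 3, nat_lit 1])) (.node (nat_lit 802) (.leaf ((nat_lit 1), [nat_lit 7, nat_lit 1, nat_lit 5, nat_lit 3, nat_lit 0])) (.leaf ((nat_lit 1), [nat_lit 4, nat_lit 1, nat_lit 5, nat_lit 0]))))))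
 (.node (nat_lit 808) (.node (nat_lit 805) (.node (nat_lit 804) (.leaf ((nat_lit 1), [nat_lit 4, nat_lit 5, nat_lit 2, nat_lit 6])) (.leaf ((nat_lit 1), [nat_lit 2, nat_lit 6, nat_lit 0, nat_lit 7]))) (.node (nat_lit 806) (.leaf ((nat_lit 1), [nat_lit 1, nat_lit 6, nat_lit 5, nat_lit 3, nat_lit 0])) (.node (nat_lit 807) (.leaf ((nat_lit 1), [nat_lit 3, nat_lit 7, nat_lit 2])) (.leaf ((nat_lit 1), [nat_lit 7, nat_lit 3, nat_lit 7, nat_lit 1, nat_lit 7])))))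
 (.node (nat_lit 811) (.node (nat_lit 809) (.leaf ((nat_lit 1), [nat_lit 5, nat_lit 0, nat_lit 7, nat_lit 0])) (.node (nat_lit 810) (.leaf ((nat_lit 1), [nat_lit 4, nat_lit 1, nat_lit 5, nat_lit 7, nat_lit 5])) (.leaf ((nat_lit 1), [nat_lit 3, nat_lit 7, nat_lit 4, nat_lit 2])))) (.node (nat_lit 812) (.leaf ((nat_lit 1), [nat_lit 1, nat_lit 6, nat_lit 3])) (.node (nat_lit 813) (.leaf ((nat_lit 1), [nat_lit 6, nat_lit 7, nat_lit 1, nat_lit 7])) (.leaf ((nat_lit 1), [nat_lit 7, nat_lit 1, nat_lit 5, nat_lit 7, nat_lit 4])))))))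
 (.node (nat_lit 825) (.node (nat_lit 819) (.node (nat_lit 816) (.node (nat_lit 815) (.leaf ((nat_lit 1), [nat_lit 4, nat_lit 3, nat_lit 7, nat_lit 1])) (.leaf ((nat_lit 1), [nat_lit 2, nat_lit 5, nat_lit 0]))) (.node (nat_lit 817) (.leaf ((nat_lit 1), [nat_lit 6, nat_lit 4, nat_lit 5, nat_lit 0])) (.node (nat_lit 818) (.leaf ((nat_lit 1), [nat_lit 3, nat_lit 7, nat_lit 4, nat_lit 6])) (.leaf ((nat_lit 1), [nat_lit 2, nat_lit 6, nat_lit 2, nat_lit 7])))))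
 (.node (nat_lit 822) (.node (nat_lit 820) (.leaf ((nat_lit 1), [nat_lit 1, nat_lit 7, nat_lit 1])) (.node (nat_lit 821) (.leaf ((nat_lit 1), [nat_lit 5, nat_lit 7, nat_lit 5, nat_lit 3, nat_lit 1])) (.leaf ((nat_lit 0), [nat_lit 7, nat_lit 5, nat_lit 3])))) (.node (nat_lit 823) (.leaf ((nat_lit 0), [nat_lit 7, nat_lit 6])) (.node (nat_lit 824) (.leaf ((nat_lit 0), [nat_lit 0, nat_lit 7, nat_lit 5, nat_lit 3])) (.leaf ((nat_lit 1), [nat_lit 3, nat_lit 0, nat_lit 7, nat_lit 1]))))))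
 (.node (nat_lit 830) (.node (nat_lit 827) (.node (nat_lit 826) (.leaf ((nat_lit 1), [nat_lit 6, nat_lit 2, nat_lit 1])) (.leaf ((nat_lit 1), [nat_lit 4, nat_lit 0, nat_lit 7]))) (.node (nat_lit 828) (.leaf ((nat_lit 1), [nat_lit 6, nat_lit 4])) (.node (nat_lit 829) (.leaf ((nat_lit 1), [nat_lit 6, nat_lit 2, nat_lit 5, nat_lit 7, nat_lit 4])) (.leaf ((nat_lit 1), [nat_lit 1, nat_lit 7, nat_lit 6, nat_lit 7, nat_lit 0])))))
 (.node (nat_lit 833) (.node (nat_lit 831) (.leaf ((nat_lit 1), [nat_lit 0, nat_lit 5, nat_lit 7, nat_lit 4, nat_lit 1])) (.node (nat_lit 832) (.leaf ((nat_lit 1), [nat_lit 5, nat_lit 3, nat_lit 7, nat_lit 1])) (.leaf ((nat_lit 1), [nat_lit 6, nat_lit 7, nat_lit 3, nat_lit 7, nat_lit 1])))) (.node (nat_lit 834) (.leaf ((nat_lit 1), [nat_lit 6, nat_lit 4, nat_lit 5, nat_lit 7])) (.node (nat_lit 835) (.leaf ((nat_lit 1), [nat_lit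 7, nat_lit 1, nat_lit 7])) (.leaf ((nat_lit 1), [nat_lit 2, nat_lit 0, nat_lit 5]))))))))
 (.node (nat_lit 858) (.node (nat_lit 847) (.node (nat_lit 841) (.node (nat_lit 838) (.node (nat_lit 837) (.leaf ((nat_lit 1), [nat_lit 2, nat_lit 5, nat_lit 1])) (.leaf ((nat_lit 1), [nat_lit 6, nat_lit 2, nat_lit 7, nat_lit 3, nat_lit 1]))) (.node (nat_lit 839) (.leaf ((nat_lit 1), [nat_lit 7, nat_lit 0, nat_lit 5, nat_lit 4, nat_lit 3])) (.node (nat_lit 840) (.leaf ((nat_lit 1), [nat_lit 4, nat_lit 7, nat_lit 3])) (.leaf ((nat_lit 1), [nat_lit 2, nat_lit 6, nat_lit 5, nat_lit 3, nat_lit 0])))))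
 (.node (nat_lit 844) (.node (nat_lit 842) (.leaf ((nat_lit 1), [nat_lit 6, nat_lit 7, nat_lit 4, nat_lit 5])) (.node (nat_lit 843) (.leaf ((nat_lit 1), [nat_lit 7, nat_lit 1, nat_lit 6, nat_lit 0])) (.leaf ((nat_lit 1), [nat_lit 5, nat_lit 0, nat_lit 7, nat_lit 2, nat_lit 0])))) (.node (nat_lit 845) (.leaf ((nat_lit 1), [nat_lit 3, nat_lit 5, nat_lit 2, nat_lit 0])) (.node (nat_lit 846) (.leaf ((nat_lit 1), [nat_lit 4, nat_lit 2, nat_lit 0, nat_lit 7, nat_lit 1])) (.leaf ((nat_lit 1), [nat_lit 0, nat_lit 6, nat_lit 2, nat_lit 0]))))))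
 (.node (nat_lit 852) (.node (nat_lit 849) (.node (nat_lit 848) (.leaf ((nat_lit 1), [nat_lit 2, nat_lit 5, nat_lit 0, nat_lit 7, nat_lit 1])) (.leaf ((nat_lit 1), [nat_lit 3, nat_lit 1, nat_lit 5, nat_lit 7, nat_lit 1]))) (.node (nat_lit 850) (.leaf ((nat_lit 1), [nat_lit 5, nat_lit 3, nat_lit 0, nat_lit 7])) (.node (nat_lit 851) (.leaf ((nat_lit 1), [nat_lit 5, nat_lit 2, nat_lit 6, nat_lit 1])) (.leaf ((nat_lit 1), [nat_lit 3, nat_lit 5, nat_lit 3, nat_lit 1])))))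
 (.node (nat_lit 855) (.node (nat_lit 853) (.leaf ((nat_lit 1), [nat_lit 2, nat_lit 0, nat_lit 7])) (.node (nat_lit 854) (.leaf ((nat_lit 1), [nat_lit 7, nat_lit 4, nat_lit 0, nat_lit 6, nat_lit 3])) (.leaf ((nat_lit 1), [nat_lit 2, nat_lit 6, nat_lit 1, nat_lit 7, nat_lit 0])))) (.node (nat_lit 856) (.leaf ((nat_lit 1), [nat_lit 3, nat_lit 7, nat_lit 5, nat_lit 2, nat_lit 1])) (.node (nat_lit 857) (.leaf ((nat_lit 1), [nat_lit 4, nat_lit 7, nat_lit 4, nat_lit 6, nat_lit 7])) (.leaf ((nat_lit 1), [nat_lit 1, nat_lit 6, nat_lit 7, nat_lit 1])))))))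
 (.node (nat_lit 869) (.node (nat_lit 863) (.node (nat_lit 860) (.node (nat_lit 859) (.leaf ((nat_lit 1), [nat_lit 2, nat_lit 7, nat_lit 2, nat_lit 6, nat_lit 0])) (.leaf ((nat_lit 1), [nat_lit 7, nat_lit 4, nat_lit 1, nat_lit 5]))) (.node (nat_lit 861) (.leaf ((nat_lit 1), [nat_lit 1, nat_lit 7])) (.node (nat_lit 862) (.leaf ((nat_lit 1), [nat_lit 1, nat_lit 7, nat_lit 5, nat_lit 6, nat_lit 2])) (.leaf ((nat_lit 1), [nat_lit 7, nat_lit 5, nat_lit 3, nat_lit 6, nat_lit 7, nat_lit 1])))))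
 (.node (nat_lit 866) (.node (nat_lit 864) (.leaf ((nat_lit 1), [nat_lit 0, nat_lit 7, nat_lit 1])) (.node (nat_lit 865) (.leaf ((nat_lit 1), [nat_lit 3, nat_lit 1, nat_lit 7])) (.leaf ((nat_lit 1), [nat_lit 0, nat_lit 7, nat_lit 5, nat_lit 3, nat_lit 0])))) (.node (nat_lit 867) (.leaf ((nat_lit 0), [nat_lit 7, nat_lit 6, nat_lit 7, nat_lit 6])) (.node (nat_lit 868) (.leaf ((nat_lit 1), [nat_lit 3, nat_lit 6, nat_lit 7, nat_lit 4, nat_lit 3])) (.leaf ((nat_lit 1), [nat_lit 6, nat_lit 0, nat_lit 7, nat_lit 3, nat_lit 0]))))))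
 (.node (nat_lit 874) (.node (nat_lit 871) (.node (nat_lit 870) (.leaf ((nat_lit 1), [nat_lit 2, nat_lit 5, nat_lit 7])) (.leaf ((nat_lit 1), [nat_lit 6, nat_lit 5, nat_lit 6, nat_lit 0, nat_lit 7]))) (.node (nat_lit 872) (.leaf ((nat_lit 1), [nat_lit 2, nat_lit 7, nat_lit 0, nat_lit 6])) (.node (nat_lit 873) (.leaf ((nat_lit 1), [nat_lit 3, nat_lit 0, nat_lit 7, nat_lit 2])) (.leaf ((nat_lit 1), [nat_lit 4, nat_lit 1, nat_lit 5, nat_lit 1])))))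
 (.node (nat_lit 877) (.node (nat_lit 875) (.leaf ((nat_lit 1), [nat_lit 1, nat_lit 5, nat_lit 6, nat_lit 5])) (.node (nat_lit 876) (.leaf ((nat_lit 1), [nat_lit 2, nat_lit 1])) (.leaf ((nat_lit 1), [nat_lit 3, nat_lit 0, nat_lit 5, nat_lit 0, nat_lit 7])))) (.node (nat_lit 878) (.leaf ((nat_lit 1), [nat_lit 7, nat_lit 0, nat_lit 6, nat_lit 3, nat_lit 7])) (.node (nat_lit 879) (.leaf ((nat_lit 1), [nat_lit 0, nat_lit 5, nat_lit 6])) (.leaf ((nat_lit 1), [nat_lit 2, nat_lit 6, nat_lit 5]))))))))))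
noncomputable def pPA_5 : Tr (ℕ × List ℕ) := (.node (nat_lit 968) (.node (nat_lit 924) (.node (nat_lit 902) (.node (nat_lit 891) (.node (nat_lit 885) (.node (nat_lit 882) (.node (nat_lit 881) (.leaf ((nat_lit 1), [nat_lit 1, nat_lit 6, nat_lit 7, nat_lit 6, nat_lit 4, nat_lit 0])) (.leaf ((nat_lit 1), [nat_lit 0, nat_lit 5, nat_lit 4]))) (.node (nat_lit 883) (.leaf ((nat_lit 0), [nat_lit 7, nat_lit 1, nat_lit 7, nat_lit 0])) (.node (nat_lit 884) (.leaf ((nat_lit 1), [nat_lit 0, nat_lit 5, nat_lit 6, nat_lit 1])) (.leaf ((nat_lit 1), [nat_lit 6, nat_lit 7, nat_lit 1, nat_lit 6, nat_lit 0])))))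
 (.node (nat_lit 888) (.node (nat_lit 886) (.leaf ((nat_lit 1), [nat_lit 1, nat_lit 7, nat_lit 6, nat_lit 1])) (.node (nat_lit 887) (.leaf ((nat_lit 1), [nat_lit 5, nat_lit 4, nat_lit 5, nat_lit 4])) (.leaf ((nat_lit 1), [nat_lit 3, nat_lit 0, nat_lit 7, nat_lit 3])))) (.node (nat_lit 889) (.leaf ((nat_lit 1), [nat_lit 6, nat_lit 0, nat_lit 7])) (.node (nat_lit 890) (.leaf ((nat_lit 1), [nat_lit 6, nat_lit 7, nat_lit 4, nat_lit 2])) (.leaf ((nat_lit 1), [nat_lit 4, nat_lit 3, nat_lit 7, nat_lit 3]))))))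
 (.node (nat_lit 896) (.node (nat_lit 893) (.node (nat_lit 892) (.leaf ((nat_lit 0), [nat_lit 1, nat_lit 5])) (.leaf ((nat_lit 1), [nat_lit 4, nat_lit 7, nat_lit 2, nat_lit 5, nat_lit 4]))) (.node (nat_lit 894) (.leaf ((nat_lit 1), [nat_lit 7, nat_lit 4, nat_lit 3, nat_lit 0])) (.node (nat_lit 895) (.leaf ((nat_lit 1), [nat_lit 3, nat_lit 5, nat_lit 6, nat_lit 7])) (.leaf ((nat_lit 1), [nat_lit 1, nat_lit 6, nat_lit 2, nat_lit 1])))))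
 (.node (nat_lit 899) (.node (nat_lit 897) (.leaf ((nat_lit 1), [nat_lit 3, nat_lit 5, nat_lit 7, nat_lit 4])) (.node (nat_lit 898) (.leaf ((nat_lit 1), [nat_lit 4, nat_lit 7, nat_lit 4, nat_lit 7, nat_lit 4])) (.leaf ((nat_lit 1), [nat_lit 4, nat_lit 7, nat_lit 2])))) (.node (nat_lit 900) (.leaf ((nat_lit 1), [nat_lit 5, nat_lit 6, nat_lit 5, nat_lit 6])) (.node (nat_lit 901) (.leaf ((nat_lit 0), [nat_lit 5, nat_lit 0])) (.leaf ((nat_lit 1), [nat_lit 5, nat_lit 7, nat_lit 0, nat_lit 7])))))))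
 (.node (nat_lit 913) (.node (nat_lit 907) (.node (nat_lit 904) (.node (nat_lit 903) (.leaf ((nat_lit 1), [nat_lit 6, nat_lit 0, nat_lit 6])) (.leaf ((nat_lit 1), [nat_lit 3, nat_lit 5, nat_lit 7, nat_lit 1]))) (.node (nat_lit 905) (.leaf ((nat_lit 1), [nat_lit 4, nat_lit 5, nat_lit 6, nat_lit 7, nat_lit 1])) (.node (nat_lit 906) (.leaf ((nat_lit 1), [nat_lit 4, nat_lit 3, nat_lit 6, nat_lit 7, nat_lit 0])) (.leaf ((nat_lit 1), [nat_lit 6, nat_lit 4, nat_lit 5, nat_lit 3, nat_lit 1])))))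
 (.node (nat_lit 910) (.node (nat_lit 908) (.leaf ((nat_lit 1), [nat_lit 2, nat_lit 0, nat_lit 6, nat_lit 5])) (.node (nat_lit 909) (.leaf ((nat_lit 1), [nat_lit 7, nat_lit 2, nat_lit 5, nat_lit 1])) (.leaf ((nat_lit 1), [nat_lit 5, nat_lit 4, nat_lit 7, nat_lit 3])))) (.node (nat_lit 911) (.leaf ((nat_lit 1), [nat_lit 5, nat_lit 6, nat_lit 2])) (.node (nat_lit 912) (.leaf ((nat_lit 1), [nat_lit 3, nat_lit 5, nat_lit 3, nat_lit 0])) (.leaf ((nat_lit 1), [nat_lit 7, nat_lit 3, nat_lit 0, nat_lit 5, nat_lit 0]))))))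
 (.node (nat_lit 918) (.node (nat_lit 915) (.node (nat_lit 914) (.leaf ((nat_lit 1), [nat_lit 5, nat_lit 3, nat_lit 7, nat_lit 6, nat_lit 5])) (.leaf ((nat_lit 1), [nat_lit 5, nat_lit 7, nat_lit 5]))) (.node (nat_lit 916) (.leaf ((nat_lit 1), [nat_lit 6, nat_lit 7, nat_lit 3, nat_lit 5, nat_lit 7, nat_lit 0])) (.node (nat_lit 917) (.leaf ((nat_lit 1), [nat_lit 4, nat_lit 1, nat_lit 6, nat_lit 5])) (.leaf ((nat_lit 0), [nat_lit 6, nat_lit 5, nat_lit 7, nat_lit 1])))))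
 (.node (nat_lit 921) (.node (nat_lit 919) (.leaf ((nat_lit 1), [nat_lit 7, nat_lit 5, nat_lit 3, nat_lit 0])) (.node (nat_lit 920) (.leaf ((nat_lit 1), [nat_lit 4, nat_lit 6, nat_lit 0])) (.leaf ((nat_lit 1), [nat_lit 5, nat_lit 7, nat_lit 6, nat_lit 2, nat_lit 7])))) (.node (nat_lit 922) (.leaf ((nat_lit 1), [nat_lit 5, nat_lit 2, nat_lit 7])) (.node (nat_lit 923) (.leaf ((nat_lit 0), [nat_lit 5, nat_lit 7, nat_lit 3])) (.leaf ((nat_lit 1), [nat_lit 4, nat_lit 5]))))))))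
 (.node (nat_lit 946) (.node (nat_lit 935) (.node (nat_lit 929) (.node (nat_lit 926) (.node (nat_lit 925) (.leaf ((nat_lit 1), [nat_lit 0, nat_lit 6, nat_lit 5, nat_lit 7, nat_lit 2, nat_lit 1])) (.leaf ((nat_lit 1), [nat_lit 7, nat_lit 3, nat_lit 7, nat_lit 3, nat_lit 1]))) (.node (nat_lit 927) (.leaf ((nat_lit 1), [nat_lit 2, nat_lit 7, nat_lit 4, nat_lit 5])) (.node (nat_lit 928) (.leaf ((nat_lit 1), [nat_lit 6, nat_lit 0, nat_lit 5, nat_lit 1])) (.leaf ((nat_lit 1), [nat_lit 6, nat_lit 3, nat_lit 7, nat_lit 1])))))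
 (.node (nat_lit 932) (.node (nat_lit 930) (.leaf ((nat_lit 1), [nat_lit 5, nat_lit 6])) (.node (nat_lit 931) (.leaf ((nat_lit 1), [nat_lit 1, nat_lit 6, nat_lit 2])) (.leaf ((nat_lit 1), [nat_lit 5, nat_lit 3, nat_lit 7, nat_lit 0, nat_lit 7])))) (.node (nat_lit 933) (.leaf ((nat_lit 1), [nat_lit 2, nat_lit 6, nat_lit 5, nat_lit 3])) (.node (nat_lit 934) (.leaf ((nat_lit 1), [nat_lit 3, nat_lit 5, nat_lit 7, nat_lit 6, nat_lit 3])) (.leaf ((nat_lit 1), [nat_lit 4, nat_lit 6, nat_lit 5, nat_lit 3]))))))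
 (.node (nat_lit 940) (.node (nat_lit 937) (.node (nat_lit 936) (.leaf ((nat_lit 1), [nat_lit 4, nat_lit 5, nat_lit 7, nat_lit 3, nat_lit 0])) (.leaf ((nat_lit 1), [nat_lit 3, nat_lit 7, nat_lit 0]))) (.node (nat_lit 938) (.leaf ((nat_lit 1), [nat_lit 1, nat_lit 7, nat_lit 2, nat_lit 5, nat_lit 0])) (.node (nat_lit 939) (.leaf ((nat_lit 1), [nat_lit 2, nat_lit 7, nat_lit 3, nat_lit 0])) (.leaf ((nat_lit 1), [nat_lit 2, nat_lit 5, nat_lit 7, nat_lit 6, nat_lit 7])))))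
 (.node (nat_lit 943) (.node (nat_lit 941) (.leaf ((nat_lit 1), [nat_lit 1, nat_lit 7, nat_lit 2, nat_lit 7])) (.node (nat_lit 942) (.leaf ((nat_lit 0), [nat_lit 5, nat_lit 7, nat_lit 1])) (.leaf ((nat_lit 1), [nat_lit 7, nat_lit 4, nat_lit 7, nat_lit 4])))) (.node (nat_lit 944) (.leaf ((nat_lit 1), [nat_lit 0, nat_lit 6, nat_lit 5, nat_lit 0])) (.node (nat_lit 945) (.leaf ((nat_lit 1), [nat_lit 7, nat_lit 4, nat_lit 2])) (.leaf ((nat_lit 1), [nat_lit 3, nat_lit 0, nat_lit 5, nat_lit 6, nat_lit 0])))))))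
 (.node (nat_lit 957) (.node (nat_lit 951) (.node (nat_lit 948) (.node (nat_lit 947) (.leaf ((nat_lit 1), [nat_lit 5, nat_lit 6, nat_lit 4, nat_lit 1])) (.leaf ((nat_lit 0), [nat_lit 6, nat_lit 7, nat_lit 5]))) (.node (nat_lit 949) (.leaf ((nat_lit 0), [nat_lit 3, nat_lit 5, nat_lit 7, nat_lit 1])) (.node (nat_lit 950) (.leaf ((nat_lit 1), [nat_lit 0, nat_lit 7, nat_lit 5])) (.leaf ((nat_lit 1), [nat_lit 4, nat_lit 1, nat_lit 7, nat_lit 2, nat_lit 5, nat_lit 0])))))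
 (.node (nat_lit 954) (.node (nat_lit 952) (.leaf ((nat_lit 1), [nat_lit 3, nat_lit 0, nat_lit 7])) (.node (nat_lit 953) (.leaf ((nat_lit 1), [nat_lit 7, nat_lit 3, nat_lit 5, nat_lit 6, nat_lit 7])) (.leaf ((nat_lit 1), [nat_lit 6, nat_lit 1, nat_lit 6, nat_lit 7])))) (.node (nat_lit 955) (.leaf ((nat_lit 1), [nat_lit 6, nat_lit 5, nat_lit 6, nat_lit 3, nat_lit 0])) (.node (nat_lit 956) (.leaf ((nat_lit 1), [nat_lit 7, nat_lit 0, nat_lit 6])) (.leaf ((nat_lit 1), [nat_lit 6, nat_lit 4, nat_lit 6, nat_lit 7]))))))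
 (.node (nat_lit 962) (.node (nat_lit 959) (.node (nat_lit 958) (.leaf ((nat_lit 1), [nat_lit 5, nat_lit 7, nat_lit 5, nat_lit 3])) (.leaf ((nat_lit 1), [nat_lit 3, nat_lit 6, nat_lit 2, nat_lit 7, nat_lit 0]))) (.node (nat_lit 960) (.leaf ((nat_lit 1), [nat_lit 4, nat_lit 7, nat_lit 6, nat_lit 1, nat_lit 7, nat_lit 0])) (.node (nat_lit 961) (.leaf ((nat_lit 1), [nat_lit 7, nat_lit 5, nat_lit 6, nat_lit 2, nat_lit 1])) (.leaf ((nat_lit 1), [nat_lit 6, nat_lit 0, nat_lit 7, nat_lit 2, nat_lit 0])))))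
 (.node (nat_lit 965) (.node (nat_lit 963) (.leaf ((nat_lit 1), [nat_lit 7, nat_lit 6, nat_lit 4, nat_lit 3, nat_lit 0])) (.node (nat_lit 964) (.leaf ((nat_lit 1), [nat_lit 5, nat_lit 7, nat_lit 4, nat_lit 1])) (.leaf ((nat_lit 1), [nat_lit 3, nat_lit 6, nat_lit 4, nat_lit 7, nat_lit 0])))) (.node (nat_lit 966) (.leaf ((nat_lit 1), [nat_lit 6, nat_lit 2, nat_lit 5])) (.node (nat_lit 967) (.leaf ((nat_lit 1), [nat_lit 0, nat_lit 6, nat_lit 4, nat_lit 2])) (.leaf ((nat_lit 1), [nat_lit 7, nat_lit 4, nat_lit 7, nat_lit 3, nat_lit 0])))))))))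
 (.node (nat_lit 1012) (.node (nat_lit 990) (.node (nat_lit 979) (.node (nat_lit 973) (.node (nat_lit 970) (.node (nat_lit 969) (.leaf ((nat_lit 1), [nat_lit 0, nat_lit 5, nat_lit 4, nat_lit 2])) (.leaf ((nat_lit 1), [nat_lit 0, nat_lit 5, nat_lit 7, nat_lit 2, nat_lit 0]))) (.node (nat_lit 971) (.leaf ((nat_lit 1), [nat_lit 7, nat_lit 1, nat_lit 6, nat_lit 4, nat_lit 0])) (.node (nat_lit 972) (.leaf ((nat_lit 1), [nat_lit 6, nat_lit 7, nat_lit 2, nat_lit 6, nat_lit 0])) (.leaf ((nat_lit 1), [nat_lit 3, nat_lit 1, nat_lit 7, nat_lit 1])))))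
 (.node (nat_lit 976) (.node (nat_lit 974) (.leaf ((nat_lit 1), [nat_lit 5, nat_lit 0, nat_lit 6, nat_lit 1])) (.node (nat_lit 975) (.leaf ((nat_lit 1), [nat_lit 0, nat_lit 5, nat_lit 3, nat_lit 6, nat_lit 0])) (.leaf ((nat_lit 1), [nat_lit 2, nat_lit 7, nat_lit 6, nat_lit 2])))) (.node (nat_lit 977) (.leaf ((nat_lit 1), [nat_lit 5, nat_lit 3, nat_lit 6, nat_lit 4])) (.node (nat_lit 978) (.leaf ((nat_lit 1), [nat_lit 1, nat_lit 5])) (.leaf ((nat_lit 1), [nat_lit 7, nat_lit 5, nat_lit 6]))))))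
 (.node (nat_lit 984) (.node (nat_lit 981) (.node (nat_lit 980) (.leaf ((nat_lit 1), [nat_lit 7, nat_lit 1, nat_lit 6])) (.leaf ((nat_lit 1), [nat_lit 4, nat_lit 5, nat_lit 7, nat_lit 1]))) (.node (nat_lit 982) (.leaf ((nat_lit 1), [nat_lit 6, nat_lit 1, nat_lit 7, nat_lit 3, nat_lit 0])) (.node (nat_lit 983) (.leaf ((nat_lit 1), [nat_lit 3, nat_lit 7, nat_lit 4, nat_lit 3, nat_lit 1])) (.leaf ((nat_lit 0), [nat_lit 1, nat_lit 7, nat_lit 2, nat_lit 0])))))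
 (.node (nat_lit 987) (.node (nat_lit 985) (.leaf ((nat_lit 1), [nat_lit 4, nat_lit 1, nat_lit 5])) (.node (nat_lit 986) (.leaf ((nat_lit 1), [nat_lit 6, nat_lit 5, nat_lit 0, nat_lit 7])) (.leaf ((nat_lit 1), [nat_lit 2, nat_lit 1, nat_lit 5])))) (.node (nat_lit 988) (.leaf ((nat_lit 1), [nat_lit 4, nat_lit 1, nat_lit 7, nat_lit 6, nat_lit 3])) (.node (nat_lit 989) (.leaf ((nat_lit 1), [nat_lit 7, nat_lit 4, nat_lit 7, nat_lit 1, nat_lit 6])) (.leaf ((nat_lit 1), [nat_lit 6, nat_lit 7, nat_lit 0])))))))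
 (.node (nat_lit 1001) (.node (nat_lit 995) (.node (nat_lit 992) (.node (nat_lit 991) (.leaf ((nat_lit 1), [nat_lit 0])) (.leaf ((nat_lit 1), [nat_lit 7, nat_lit 0, nat_lit 5, nat_lit 6, nat_lit 4]))) (.node (nat_lit 993) (.leaf ((nat_lit 1), [nat_lit 4, nat_lit 7, nat_lit 6, nat_lit 4, nat_lit 0])) (.node (nat_lit 994) (.leaf ((nat_lit 1), [nat_lit 5, nat_lit 4, nat_lit 3, nat_lit 0])) (.leaf ((nat_lit 1), [nat_lit 6, nat_lit 4, nat_lit 0, nat_lit 7])))))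
 (.node (nat_lit 998) (.node (nat_lit 996) (.leaf ((nat_lit 1), [nat_lit 6, nat_lit 4, nat_lit 2, nat_lit 7])) (.node (nat_lit 997) (.leaf ((nat_lit 1), [nat_lit 5, nat_lit 1, nat_lit 6, nat_lit 7, nat_lit 0])) (.leaf ((nat_lit 1), [nat_lit 5, nat_lit 7, nat_lit 2, nat_lit 7, nat_lit 2, nat_lit 0])))) (.node (nat_lit 999) (.leaf ((nat_lit 1), [nat_lit 2, nat_lit 0, nat_lit 7, nat_lit 3, nat_lit 0])) (.node (nat_lit 1000) (.leaf ((nat_lit 1), [nat_lit 7, nat_lit 6, nat_lit 1, nat_lit 5, nat_lit 0])) (.leaf ((nat_lit 1), [nat_lit 2, nat_lit 5, nat_lit 6]))))))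
 (.node (nat_lit 1006) (.node (nat_lit 1003) (.node (nat_lit 1002) (.leaf ((nat_lit 1), [nat_lit 6, nat_lit 2, nat_lit 7])) (.leaf ((nat_lit 1), [nat_lit 2, nat_lit 6, nat_lit 3, nat_lit 0]))) (.node (nat_lit 1004) (.leaf ((nat_lit 1), [nat_lit 7, nat_lit 6, nat_lit 0, nat_lit 6, nat_lit 2])) (.node (nat_lit 1005) (.leaf ((nat_lit 1), [nat_lit 7, nat_lit 6, nat_lit 7, nat_lit 4, nat_lit 2])) (.leaf ((nat_lit 1), [nat_lit 5, nat_lit 4, nat_lit 5, nat_lit 1])))))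
 (.node (nat_lit 1009) (.node (nat_lit 1007) (.leaf ((nat_lit 1), [nat_lit 7, nat_lit 0, nat_lit 5, nat_lit 7, nat_lit 1])) (.node (nat_lit 1008) (.leaf ((nat_lit 1), [nat_lit 0, nat_lit 6, nat_lit 1])) (.leaf ((nat_lit 1), [nat_lit 2, nat_lit 7, nat_lit 0, nat_lit 5])))) (.node (nat_lit 1010) (.leaf ((nat_lit 1), [nat_lit 1, nat_lit 7, nat_lit 5, nat_lit 3, nat_lit 0])) (.node (nat_lit 1011) (.leaf ((nat_lit 1), [nat_lit 0, nat_lit 6, nat_lit 7, nat_lit 2, nat_lit 5, nat_lit 0])) (.leaf ((nat_lit 1), [nat_lit 1, nat_lit 5, nat_lit 2, nat_lit 0]))))))))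
 (.node (nat_lit 1034) (.node (nat_lit 1023) (.node (nat_lit 1017) (.node (nat_lit 1014) (.node (nat_lit 1013) (.leaf ((nat_lit 1), [nat_lit 1, nat_lit 5, nat_lit 4, nat_lit 5, nat_lit 1])) (.leaf ((nat_lit 1), [nat_lit 5, nat_lit 1, nat_lit 5]))) (.node (nat_lit 1015) (.leaf ((nat_lit 1), [nat_lit 1, nat_lit 6, nat_lit 5])) (.node (nat_lit 1016) (.leaf ((nat_lit 1), [nat_lit 7, nat_lit 6, nat_lit 5, nat_lit 6])) (.leaf ((nat_lit 1), [nat_lit 1, nat_lit 7, nat_lit 1, nat_lit 7, nat_lit 0])))))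
 (.node (nat_lit 1020) (.node (nat_lit 1018) (.leaf ((nat_lit 1), [nat_lit 7, nat_lit 6, nat_lit 2, nat_lit 7])) (.node (nat_lit 1019) (.leaf ((nat_lit 1), [nat_lit 7, nat_lit 6, nat_lit 4, nat_lit 2, nat_lit 0])) (.leaf ((nat_lit 1), [nat_lit 7, nat_lit 2, nat_lit 1])))) (.node (nat_lit 1021) (.leaf ((nat_lit 1), [nat_lit 1, nat_lit 7, nat_lit 0])) (.node (nat_lit 1022) (.leaf ((nat_lit 1), [nat_lit 0, nat_lit 6, nat_lit 2, nat_lit 5])) (.leaf ((nat_lit 1), [nat_lit 5, nat_lit 3, nat_lit 6, nat_lit 2]))))))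
 (.node (nat_lit 1028) (.node (nat_lit 1025) (.node (nat_lit 1024) (.leaf ((nat_lit 1), [nat_lit 7, nat_lit 6, nat_lit 0])) (.leaf ((nat_lit 1), [nat_lit 3, nat_lit 7, nat_lit 6, nat_lit 5]))) (.node (nat_lit 1026) (.leaf ((nat_lit 1), [nat_lit 5, nat_lit 2, nat_lit 7, nat_lit 1])) (.node (nat_lit 1027) (.leaf ((nat_lit 1), [nat_lit 6, nat_lit 4, nat_lit 2, nat_lit 5])) (.leaf ((nat_lit 1), [nat_lit 1, nat_lit 7, nat_lit 4, nat_lit 3])))))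
 (.node (nat_lit 1031) (.node (nat_lit 1029) (.leaf ((nat_lit 1), [nat_lit 0, nat_lit 7, nat_lit 3, nat_lit 0])) (.node (nat_lit 1030) (.leaf ((nat_lit 1), [nat_lit 7, nat_lit 4, nat_lit 6, nat_lit 1])) (.leaf ((nat_lit 1), [nat_lit 7, nat_lit 3])))) (.node (nat_lit 1032) (.leaf ((nat_lit 1), [nat_lit 4, nat_lit 6, nat_lit 3, nat_lit 7, nat_lit 1])) (.node (nat_lit 1033) (.leaf ((nat_lit 1), [nat_lit 6, nat_lit 1])) (.leaf ((nat_lit 1), [nat_lit 7, nat_lit 6, nat_lit 4, nat_lit 5])))))))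
 (.node (nat_lit 1045) (.node (nat_lit 1039) (.node (nat_lit 1036) (.node (nat_lit 1035) (.leaf ((nat_lit 1), [nat_lit 7, nat_lit 6, nat_lit 7, nat_lit 1])) (.leaf ((nat_lit 0), [nat_lit 4, nat_lit 7, nat_lit 2]))) (.node (nat_lit 1037) (.leaf ((nat_lit 1), [nat_lit 3, nat_lit 0, nat_lit 6, nat_lit 1])) (.node (nat_lit 1038) (.leaf ((nat_lit 1), [nat_lit 3, nat_lit 5, nat_lit 2, nat_lit 7])) (.leaf ((nat_lit 1), [nat_lit 0, nat_lit 5, nat_lit 2, nat_lit 7])))))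
 (.node (nat_lit 1042) (.node (nat_lit 1040) (.leaf ((nat_lit 1), [nat_lit 1, nat_lit 6, nat_lit 4, nat_lit 0, nat_lit 7])) (.node (nat_lit 1041) (.leaf ((nat_lit 0), [nat_lit 5, nat_lit 4, nat_lit 7, nat_lit 0])) (.leaf ((nat_lit 1), [nat_lit 2, nat_lit 1, nat_lit 7, nat_lit 2, nat_lit 5, nat_lit 0])))) (.node (nat_lit 1043) (.leaf ((nat_lit 1), [nat_lit 3, nat_lit 0, nat_lit 6, nat_lit 5])) (.node (nat_lit 1044) (.leaf ((nat_lit 1), [nat_lit 6, nat_lit 2, nat_lit 7, nat_lit 0])) (.leaf ((nat_lit 1), [nat_lit 3, nat_lit 6, nat_lit 0]))))))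
 (.node (nat_lit 1050) (.node (nat_lit 1047) (.node (nat_lit 1046) (.leaf ((nat_lit 1), [nat_lit 3, nat_lit 7, nat_lit 5, nat_lit 3, nat_lit 1])) (.leaf ((nat_lit 1), [nat_lit 5, nat_lit 3, nat_lit 7, nat_lit 2]))) (.node (nat_lit 1048) (.leaf ((nat_lit 1), [nat_lit 5, nat_lit 1, nat_lit 7, nat_lit 5])) (.node (nat_lit 1049) (.leaf ((nat_lit 1), [nat_lit 6, nat_lit 5, nat_lit 6, nat_lit 2])) (.leaf ((nat_lit 1), [nat_lit 2, nat_lit 0, nat_lit 7, nat_lit 5, nat_lit 3])))))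
 (.node (nat_lit 1053) (.node (nat_lit 1051) (.leaf ((nat_lit 1), [nat_lit 0, nat_lit 7, nat_lit 6, nat_lit 0])) (.node (nat_lit 1052) (.leaf ((nat_lit 1), [nat_lit 6, nat_lit 1, nat_lit 7, nat_lit 0])) (.leaf ((nat_lit 1), [nat_lit 7, nat_lit 5, nat_lit 4, nat_lit 2])))) (.node (nat_lit 1054) (.leaf ((nat_lit 1), [nat_lit 6, nat_lit 3])) (.node (nat_lit 1055) (.leaf ((nat_lit 1), [nat_lit 2, nat_lit 7, nat_lit 4, nat_lit 3])) (.leaf ((nat_lit 1), [nat_lit 0, nat_lit 6, nat_lit 3, nat_lit 7]))))))))))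
noncomputable def pPA_6 : Tr (ℕ × List ℕ) := (.node (nat_lit 1144) (.node (nat_lit 1100) (.node (nat_lit 1078) (.node (nat_lit 1067) (.node (nat_lit 1061) (.node (nat_lit 1058) (.node (nat_lit 1057) (.leaf ((nat_lit 1), [nat_lit 7, nat_lit 2, nat_lit 1, nat_lit 7, nat_lit 3, nat_lit 0])) (.leaf ((nat_lit 1), [nat_lit 7, nat_lit 5, nat_lit 4, nat_lit 1]))) (.node (nat_lit 1059) (.leaf ((nat_lit 1), [nat_lit 0, nat_lit 7, nat_lit 4, nat_lit 7, nat_lit 3])) (.node (nat_lit 1060) (.leaf ((nat_lit 0), [nat_lit 0, nat_lit 5, nat_lit 0])) (.leaf ((nat_lit 1), [nat_lit 3, nat_lit 7, nat_lit 4, nat_lit 7])))))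
 (.node (nat_lit 1064) (.node (nat_lit 1062) (.leaf ((nat_lit 1), [nat_lit 1, nat_lit 7, nat_lit 3])) (.node (nat_lit 1063) (.leaf ((nat_lit 1), [nat_lit 3, nat_lit 5, nat_lit 0])) (.leaf ((nat_lit 1), [nat_lit 2, nat_lit 0, nat_lit 6, nat_lit 7])))) (.node (nat_lit 1065) (.leaf ((nat_lit 0), [nat_lit 6, nat_lit 7, nat_lit 5, nat_lit 0])) (.node (nat_lit 1066) (.leaf ((nat_lit 1), [nat_lit 1, nat_lit 6, nat_lit 4, nat_lit 2])) (.leaf ((nat_lit 1), [nat_lit 4, nat_lit 3, nat_lit 5, nat_lit 0]))))))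
 (.node (nat_lit 1072) (.node (nat_lit 1069) (.node (nat_lit 1068) (.leaf ((nat_lit 1), [nat_lit 6, nat_lit 5, nat_lit 6])) (.leaf ((nat_lit 1), [nat_lit 5, nat_lit 7, nat_lit 6, nat_lit 4, nat_lit 5]))) (.node (nat_lit 1070) (.leaf ((nat_lit 1), [nat_lit 5, nat_lit 0, nat_lit 6, nat_lit 5, nat_lit 4])) (.node (nat_lit 1071) (.leaf ((nat_lit 1), [nat_lit 5, nat_lit 4, nat_lit 2, nat_lit 7, nat_lit 0])) (.leaf ((nat_lit 1), [nat_lit 6, nat_lit 5, nat_lit 7, nat_lit 5])))))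
 (.node (nat_lit 1075) (.node (nat_lit 1073) (.leaf ((nat_lit 1), [nat_lit 3, nat_lit 6])) (.node (nat_lit 1074) (.leaf ((nat_lit 1), [nat_lit 4, nat_lit 0, nat_lit 6, nat_lit 3])) (.leaf ((nat_lit 1), [nat_lit 6, nat_lit 7, nat_lit 3, nat_lit 0])))) (.node (nat_lit 1076) (.leaf ((nat_lit 1), [nat_lit 6, nat_lit 3, nat_lit 7, nat_lit 3, nat_lit 0])) (.node (nat_lit 1077) (.leaf ((nat_lit 1), [nat_lit 6, nat_lit 5, nat_lit 6, nat_lit 4])) (.leaf ((nat_lit 1), [nat_lit 4, nat_lit 3, nat_lit 6, nat_lit 7])))))))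
 (.node (nat_lit 1089) (.node (nat_lit 1083) (.node (nat_lit 1080) (.node (nat_lit 1079) (.leaf ((nat_lit 1), [nat_lit 7, nat_lit 5, nat_lit 4, nat_lit 0])) (.leaf ((nat_lit 1), [nat_lit 1, nat_lit 5, nat_lit 7, nat_lit 2, nat_lit 0]))) (.node (nat_lit 1081) (.leaf ((nat_lit 1), [nat_lit 4, nat_lit 6, nat_lit 5])) (.node (nat_lit 1082) (.leaf ((nat_lit 1), [nat_lit 6, nat_lit 4, nat_lit 3, nat_lit 0])) (.leaf ((nat_lit 1), [nat_lit 6, nat_lit 7, nat_lit 5, nat_lit 2, nat_lit 0])))))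
 (.node (nat_lit 1086) (.node (nat_lit 1084) (.leaf ((nat_lit 1), [nat_lit 7, nat_lit 6, nat_lit 5, nat_lit 0])) (.node (nat_lit 1085) (.leaf ((nat_lit 1), [nat_lit 3, nat_lit 7, nat_lit 4, nat_lit 6, nat_lit 1])) (.leaf ((nat_lit 1), [nat_lit 5, nat_lit 7, nat_lit 5, nat_lit 4, nat_lit 2])))) (.node (nat_lit 1087) (.leaf ((nat_lit 1), [nat_lit 6, nat_lit 3, nat_lit 5, nat_lit 3, nat_lit 1])) (.node (nat_lit 1088) (.leaf ((nat_lit 1), [nat_lit 2, nat_lit 1, nat_lit 7, nat_lit 3])) (.leaf ((nat_lit 1), [nat_lit 2, nat_lit 1, nat_lit 6, nat_lit 0]))))))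
 (.node (nat_lit 1094) (.node (nat_lit 1091) (.node (nat_lit 1090) (.leaf ((nat_lit 1), [nat_lit 4, nat_lit 7, nat_lit 2, nat_lit 6, nat_lit 3])) (.leaf ((nat_lit 1), [nat_lit 0, nat_lit 6, nat_lit 5, nat_lit 7, nat_lit 4]))) (.node (nat_lit 1092) (.leaf ((nat_lit 1), [nat_lit 7, nat_lit 4, nat_lit 3, nat_lit 1])) (.node (nat_lit 1093) (.leaf ((nat_lit 1), [nat_lit 3, nat_lit 1, nat_lit 5, nat_lit 1])) (.leaf ((nat_lit 0), [nat_lit 7, nat_lit 1])))))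
 (.node (nat_lit 1097) (.node (nat_lit 1095) (.leaf ((nat_lit 1), [nat_lit 7, nat_lit 6, nat_lit 4, nat_lit 7, nat_lit 2])) (.node (nat_lit 1096) (.leaf ((nat_lit 1), [nat_lit 0, nat_lit 6, nat_lit 0, nat_lit 7, nat_lit 1])) (.leaf ((nat_lit 1), [nat_lit 6, nat_lit 0, nat_lit 6, nat_lit 2])))) (.node (nat_lit 1098) (.leaf ((nat_lit 1), [nat_lit 7, nat_lit 6, nat_lit 4, nat_lit 7])) (.node (nat_lit 1099) (.leaf ((nat_lit 1), [nat_lit 4, nat_lit 7, nat_lit 4, nat_lit 3])) (.leaf ((nat_lit 1), [nat_lit 0, nat_lit 6, nat_lit 2]))))))))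
 (.node (nat_lit 1122) (.node (nat_lit 1111) (.node (nat_lit 1105) (.node (nat_lit 1102) (.node (nat_lit 1101) (.leaf ((nat_lit 1), [nat_lit 4, nat_lit 5, nat_lit 4, nat_lit 2, nat_lit 0])) (.leaf ((nat_lit 1), [nat_lit 5, nat_lit 0, nat_lit 7, nat_lit 1, nat_lit 6]))) (.node (nat_lit 1103) (.leaf ((nat_lit 1), [nat_lit 7, nat_lit 5, nat_lit 6, nat_lit 3, nat_lit 0])) (.node (nat_lit 1104) (.leaf ((nat_lit 1), [nat_lit 4, nat_lit 1, nat_lit 7, nat_lit 3])) (.leaf ((nat_lit 0), [nat_lit 6, nat_lit 7, nat_lit 4, nat_lit 0])))))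
 (.node (nat_lit 1108) (.node (nat_lit 1106) (.leaf ((nat_lit 1), [nat_lit 0, nat_lit 5, nat_lit 3])) (.node (nat_lit 1107) (.leaf ((nat_lit 0), [nat_lit 6, nat_lit 7, nat_lit 6, nat_lit 7, nat_lit 2])) (.leaf ((nat_lit 1), [nat_lit 7, nat_lit 6, nat_lit 3, nat_lit 7])))) (.node (nat_lit 1109) (.leaf ((nat_lit 1), [nat_lit 6, nat_lit 7, nat_lit 6, nat_lit 7, nat_lit 0])) (.node (nat_lit 1110) (.leaf ((nat_lit 1), [nat_lit 7, nat_lit 6, nat_lit 3, nat_lit 0])) (.leaf ((nat_lit 1), [nat_lit 5, nat_lit 7, nat_lit 3, nat_lit 0]))))))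
 (.node (nat_lit 1116) (.node (nat_lit 1113) (.node (nat_lit 1112) (.leaf ((nat_lit 0), [nat_lit 3])) (.leaf ((nat_lit 1), [nat_lit 5, nat_lit 7]))) (.node (nat_lit 1114) (.leaf ((nat_lit 1), [nat_lit 3, nat_lit 7, nat_lit 2, nat_lit 5, nat_lit 1])) (.node (nat_lit 1115) (.leaf ((nat_lit 1), [nat_lit 1, nat_lit 5, nat_lit 0])) (.leaf ((nat_lit 1), [nat_lit 7, nat_lit 3, nat_lit 6, nat_lit 7, nat_lit 0])))))
 (.node (nat_lit 1119) (.node (nat_lit 1117) (.leaf ((nat_lit 1), [nat_lit 7, nat_lit 0, nat_lit 7, nat_lit 3, nat_lit 0])) (.node (nat_lit 1118) (.leaf ((nat_lit 1), [nat_lit 1, nat_lit 5, nat_lit 7, nat_lit 2, nat_lit 5, nat_lit 0])) (.leaf ((nat_lit 1), [nat_lit 5, nat_lit 7, nat_lit 4, nat_lit 6, nat_lit 1])))) (.node (nat_lit 1120) (.leaf ((nat_lit 1), [nat_lit 7, nat_lit 5, nat_lit 3])) (.node (nat_lit 1121) (.leaf ((nat_lit 1), [nat_lit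 0, nat_lit 7, nat_lit 4, nat_lit 2])) (.leaf ((nat_lit 1), [nat_lit 1, nat_lit 6, nat_lit 1, nat_lit 7])))))))
 (.node (nat_lit 1133) (.node (nat_lit 1127) (.node (nat_lit 1124) (.node (nat_lit 1123) (.leaf ((nat_lit 1), [nat_lit 7, nat_lit 4, nat_lit 2, nat_lit 5])) (.leaf ((nat_lit 1), [nat_lit 0, nat_lit 7, nat_lit 6, nat_lit 1]))) (.node (nat_lit 1125) (.leaf ((nat_lit 0), [nat_lit 3, nat_lit 1])) (.node (nat_lit 1126) (.leaf ((nat_lit 1), [nat_lit 5, nat_lit 6, nat_lit 7, nat_lit 1])) (.leaf ((nat_lit 1), [nat_lit 7, nat_lit 3, nat_lit 7, nat_lit 1])))))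
 (.node (nat_lit 1130) (.node (nat_lit 1128) (.leaf ((nat_lit 0), [nat_lit 5])) (.node (nat_lit 1129) (.leaf ((nat_lit 1), [nat_lit 1, nat_lit 7, nat_lit 0, nat_lit 7])) (.leaf ((nat_lit 1), [nat_lit 5, nat_lit 1, nat_lit 7, nat_lit 6])))) (.node (nat_lit 1131) (.leaf ((nat_lit 1), [nat_lit 5, nat_lit 3, nat_lit 6, nat_lit 5])) (.node (nat_lit 1132) (.leaf ((nat_lit 1), [nat_lit 2, nat_lit 7, nat_lit 4, nat_lit 6, nat_lit 3])) (.leaf ((nat_lit 1), [nat_lit 5, nat_lit 7, nat_lit 2, nat_lit 1]))))))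
 (.node (nat_lit 1138) (.node (nat_lit 1135) (.node (nat_lit 1134) (.leaf ((nat_lit 1), [nat_lit 2, nat_lit 0, nat_lit 7, nat_lit 4, nat_lit 1])) (.leaf ((nat_lit 1), [nat_lit 5, nat_lit 7, nat_lit 3, nat_lit 1, nat_lit 7]))) (.node (nat_lit 1136) (.leaf ((nat_lit 0), [nat_lit 4, nat_lit 7, nat_lit 2, nat_lit 0])) (.node (nat_lit 1137) (.leaf ((nat_lit 0), [nat_lit 2, nat_lit 0])) (.leaf ((nat_lit 1), [nat_lit 6, nat_lit 2, nat_lit 5, nat_lit 0])))))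
 (.node (nat_lit 1141) (.node (nat_lit 1139) (.leaf ((nat_lit 1), [nat_lit 7, nat_lit 6, nat_lit 3, nat_lit 6, nat_lit 0])) (.node (nat_lit 1140) (.leaf ((nat_lit 1), [nat_lit 3, nat_lit 7, nat_lit 1, nat_lit 6, nat_lit 0])) (.leaf ((nat_lit 1), [nat_lit 4, nat_lit 7, nat_lit 0, nat_lit 6])))) (.node (nat_lit 1142) (.leaf ((nat_lit 1), [nat_lit 1, nat_lit 6, nat_lit 0, nat_lit 7, nat_lit 0])) (.node (nat_lit 1143) (.leaf ((nat_lit 1), [nat_lit 7, nat_lit 3, nat_lit 0])) (.leaf ((nat_lit 1), [nat_lit 7, nat_lit 6, nat_lit 3, nat_lit 1])))))))))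
 (.node (nat_lit 1188) (.node (nat_lit 1166) (.node (nat_lit 1155) (.node (nat_lit 1149) (.node (nat_lit 1146) (.node (nat_lit 1145) (.leaf ((nat_lit 1), [nat_lit 3, nat_lit 0, nat_lit 6, nat_lit 7, nat_lit 1])) (.leaf ((nat_lit 1), [nat_lit 5, nat_lit 7, nat_lit 6, nat_lit 3]))) (.node (nat_lit 1147) (.leaf ((nat_lit 1), [nat_lit 1, nat_lit 7, nat_lit 6, nat_lit 0])) (.node (nat_lit 1148) (.leaf ((nat_lit 1), [nat_lit 1, nat_lit 7, nat_lit 4, nat_lit 1])) (.leaf ((nat_lit 1), [nat_lit 4, nat_lit 5, nat_lit 0, nat_lit 7])))))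
 (.node (nat_lit 1152) (.node (nat_lit 1150) (.leaf ((nat_lit 1), [nat_lit 0, nat_lit 5, nat_lit 6, nat_lit 0, nat_lit 7])) (.node (nat_lit 1151) (.leaf ((nat_lit 1), [nat_lit 6, nat_lit 4, nat_lit 5, nat_lit 7, nat_lit 4])) (.leaf ((nat_lit 1), [nat_lit 5, nat_lit 7, nat_lit 4, nat_lit 2])))) (.node (nat_lit 1153) (.leaf ((nat_lit 0), [nat_lit 7, nat_lit 5, nat_lit 0])) (.node (nat_lit 1154) (.leaf ((nat_lit 1), [nat_lit 1, nat_lit 7, nat_lit 4])) (.leaf ((nat_lit 1), [nat_lit 6, nat_lit 3, nat_lit 5, nat_lit 0]))))))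
 (.node (nat_lit 1160) (.node (nat_lit 1157) (.node (nat_lit 1156) (.leaf ((nat_lit 1), [nat_lit 5, nat_lit 4, nat_lit 1, nat_lit 7, nat_lit 0])) (.leaf ((nat_lit 1), [nat_lit 3, nat_lit 7, nat_lit 6, nat_lit 3]))) (.node (nat_lit 1158) (.leaf ((nat_lit 1), [nat_lit 2, nat_lit 5, nat_lit 2, nat_lit 0])) (.node (nat_lit 1159) (.leaf ((nat_lit 1), [nat_lit 6, nat_lit 3, nat_lit 0, nat_lit 7])) (.leaf ((nat_lit 1), [nat_lit 0, nat_lit 7, nat_lit 2])))))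
 (.node (nat_lit 1163) (.node (nat_lit 1161) (.leaf ((nat_lit 1), [nat_lit 4, nat_lit 7, nat_lit 6, nat_lit 1])) (.node (nat_lit 1162) (.leaf ((nat_lit 1), [nat_lit 3, nat_lit 1, nat_lit 6])) (.leaf ((nat_lit 1), [nat_lit 5, nat_lit 1, nat_lit 5, nat_lit 2, nat_lit 0])))) (.node (nat_lit 1164) (.leaf ((nat_lit 1), [nat_lit 6, nat_lit 4, nat_lit 7, nat_lit 0])) (.node (nat_lit 1165) (.leaf ((nat_lit 1), [nat_lit 7, nat_lit 1, nat_lit 6, nat_lit 7])) (.leaf ((nat_lit 1), [nat_lit 6, nat_lit 2, nat_lit 6, nat_lit 7])))))))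
 (.node (nat_lit 1177) (.node (nat_lit 1171) (.node (nat_lit 1168) (.node (nat_lit 1167) (.leaf ((nat_lit 1), [nat_lit 3, nat_lit 7, nat_lit 1, nat_lit 7])) (.leaf ((nat_lit 1), [nat_lit 2, nat_lit 7, nat_lit 4, nat_lit 6]))) (.node (nat_lit 1169) (.leaf ((nat_lit 0), [nat_lit 0, nat_lit 5, nat_lit 7, nat_lit 1])) (.node (nat_lit 1170) (.leaf ((nat_lit 1), [nat_lit 6, nat_lit 3, nat_lit 7])) (.leaf ((nat_lit 0), [nat_lit 1, nat_lit 5, nat_lit 7, nat_lit 3])))))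
 (.node (nat_lit 1174) (.node (nat_lit 1172) (.leaf ((nat_lit 1), [nat_lit 5, nat_lit 6, nat_lit 4, nat_lit 7, nat_lit 1])) (.node (nat_lit 1173) (.leaf ((nat_lit 1), [nat_lit 1, nat_lit 6, nat_lit 7, nat_lit 3, nat_lit 1])) (.leaf ((nat_lit 1), [nat_lit 1, nat_lit 5, nat_lit 7, nat_lit 1])))) (.node (nat_lit 1175) (.leaf ((nat_lit 1), [nat_lit 4, nat_lit 0, nat_lit 5, nat_lit 3])) (.node (nat_lit 1176) (.leaf ((nat_lit 1), [nat_lit 5, nat_lit 4, nat_lit 2, nat_lit 7])) (.leaf ((nat_lit 1), [nat_lit 1, nat_lit 5, nat_lit 3]))))))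
 (.node (nat_lit 1182) (.node (nat_lit 1179) (.node (nat_lit 1178) (.leaf ((nat_lit 0), [nat_lit 7, nat_lit 2, nat_lit 0])) (.leaf ((nat_lit 1), [nat_lit 6, nat_lit 2]))) (.node (nat_lit 1180) (.leaf ((nat_lit 0), [nat_lit 6, nat_lit 7, nat_lit 3])) (.node (nat_lit 1181) (.leaf ((nat_lit 1), [nat_lit 4, nat_lit 7, nat_lit 4, nat_lit 3, nat_lit 1])) (.leaf ((nat_lit 1), [nat_lit 7, nat_lit 4, nat_lit 7, nat_lit 0])))))
 (.node (nat_lit 1185) (.node (nat_lit 1183) (.leaf ((nat_lit 1), [nat_lit 3, nat_lit 1])) (.node (nat_lit 1184) (.leaf ((nat_lit 1), [nat_lit 5, nat_lit 7, nat_lit 2, nat_lit 5, nat_lit 6])) (.leaf ((nat_lit 1), [nat_lit 6, nat_lit 7, nat_lit 3, nat_lit 5, nat_lit 7, nat_lit 4])))) (.node (nat_lit 1186) (.leaf ((nat_lit 1), [nat_lit 2, nat_lit 7, nat_lit 3])) (.node (nat_lit 1187) (.leaf ((nat_lit 1), [nat_lit 5, nat_lit 0, nat_lit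 6, nat_lit 7, nat_lit 1])) (.leaf ((nat_lit 1), [nat_lit 2, nat_lit 7, nat_lit 5, nat_lit 2, nat_lit 0]))))))))
 (.node (nat_lit 1210) (.node (nat_lit 1199) (.node (nat_lit 1193) (.node (nat_lit 1190) (.node (nat_lit 1189) (.leaf ((nat_lit 1), [nat_lit 1, nat_lit 5, nat_lit 1, nat_lit 5])) (.leaf ((nat_lit 1), [nat_lit 0, nat_lit 5, nat_lit 2, nat_lit 0]))) (.node (nat_lit 1191) (.leaf ((nat_lit 1), [nat_lit 2, nat_lit 5, nat_lit 7, nat_lit 2, nat_lit 0])) (.node (nat_lit 1192) (.leaf ((nat_lit 1), [nat_lit 5, nat_lit 2, nat_lit 6, nat_lit 0])) (.leaf ((nat_lit 1), [nat_lit 6, nat_lit 5, nat_lit 7, nat_lit 2, nat_lit 0])))))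
 (.node (nat_lit 1196) (.node (nat_lit 1194) (.leaf ((nat_lit 1), [nat_lit 7, nat_lit 5, nat_lit 6, nat_lit 0])) (.node (nat_lit 1195) (.leaf ((nat_lit 1), [nat_lit 5, nat_lit 4, nat_lit 7, nat_lit 2])) (.leaf ((nat_lit 1), [nat_lit 5, nat_lit 6, nat_lit 7, nat_lit 1, nat_lit 6])))) (.node (nat_lit 1197) (.leaf ((nat_lit 0), [nat_lit 4, nat_lit 6, nat_lit 7, nat_lit 5, nat_lit 0])) (.node (nat_lit 1198) (.leaf ((nat_lit 1), [nat_lit 1, nat_lit 5, nat_lit 1])) (.leaf ((nat_lit 0), [nat_lit 7, nat_lit 4, nat_lit 0]))))))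
 (.node (nat_lit 1204) (.node (nat_lit 1201) (.node (nat_lit 1200) (.leaf ((nat_lit 1), [nat_lit 5, nat_lit 4, nat_lit 7, nat_lit 2, nat_lit 5, nat_lit 0])) (.leaf ((nat_lit 1), [nat_lit 3, nat_lit 1, nat_lit 5, nat_lit 7, nat_lit 4]))) (.node (nat_lit 1202) (.leaf ((nat_lit 1), [nat_lit 2, nat_lit 7, nat_lit 6, nat_lit 0])) (.node (nat_lit 1203) (.leaf ((nat_lit 1), [nat_lit 1, nat_lit 7, nat_lit 2, nat_lit 0])) (.leaf ((nat_lit 1), [nat_lit 3, nat_lit 7, nat_lit 2, nat_lit 6])))))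
 (.node (nat_lit 1207) (.node (nat_lit 1205) (.leaf ((nat_lit 1), [nat_lit 5, nat_lit 7, nat_lit 5, nat_lit 3, nat_lit 0])) (.node (nat_lit 1206) (.leaf ((nat_lit 1), [nat_lit 2, nat_lit 5, nat_lit 6, nat_lit 1])) (.leaf ((nat_lit 1), [nat_lit 7, nat_lit 3, nat_lit 6, nat_lit 4, nat_lit 7])))) (.node (nat_lit 1208) (.leaf ((nat_lit 1), [nat_lit 5, nat_lit 4, nat_lit 7])) (.node (nat_lit 1209) (.leaf ((nat_lit 1), [nat_lit 4, nat_lit 3, nat_lit 0, nat_lit 7])) (.leaf ((nat_lit 1), [nat_lit 3, nat_lit 0, nat_lit 7, nat_lit 6, nat_lit 1])))))))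
 (.node (nat_lit 1221) (.node (nat_lit 1215) (.node (nat_lit 1212) (.node (nat_lit 1211) (.leaf ((nat_lit 1), [nat_lit 2, nat_lit 1, nat_lit 6])) (.leaf ((nat_lit 1), [nat_lit 2, nat_lit 7, nat_lit 3, nat_lit 1, nat_lit 7]))) (.node (nat_lit 1213) (.leaf ((nat_lit 1), [nat_lit 5, nat_lit 4, nat_lit 7, nat_lit 0])) (.node (nat_lit 1214) (.leaf ((nat_lit 1), [nat_lit 4, nat_lit 7, nat_lit 6, nat_lit 3])) (.leaf ((nat_lit 1), [nat_lit 2, nat_lit 7, nat_lit 5, nat_lit 4, nat_lit 2])))))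
 (.node (nat_lit 1218) (.node (nat_lit 1216) (.leaf ((nat_lit 1), [nat_lit 7, nat_lit 4, nat_lit 7, nat_lit 4, nat_lit 1])) (.node (nat_lit 1217) (.leaf ((nat_lit 1), [nat_lit 5, nat_lit 7, nat_lit 5, nat_lit 2, nat_lit 1])) (.leaf ((nat_lit 1), [nat_lit 2, nat_lit 6, nat_lit 7])))) (.node (nat_lit 1219) (.leaf ((nat_lit 1), [nat_lit 7, nat_lit 0, nat_lit 5])) (.node (nat_lit 1220) (.leaf ((nat_lit 1), [nat_lit 4, nat_lit 5, nat_lit 0])) (.leaf ((nat_lit 1), [nat_lit 1, nat_lit 6, nat_lit 0, nat_lit 7]))))))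
 (.node (nat_lit 1226) (.node (nat_lit 1223) (.node (nat_lit 1222) (.leaf ((nat_lit 1), [nat_lit 5, nat_lit 4, nat_lit 6, nat_lit 0])) (.leaf ((nat_lit 1), [nat_lit 5, nat_lit 7, nat_lit 4, nat_lit 7, nat_lit 3, nat_lit 0]))) (.node (nat_lit 1224) (.leaf ((nat_lit 1), [nat_lit 4, nat_lit 3, nat_lit 1, nat_lit 5, nat_lit 7])) (.node (nat_lit 1225) (.leaf ((nat_lit 1), [nat_lit 4, nat_lit 1, nat_lit 6, nat_lit 0])) (.leaf ((nat_lit 1), [nat_lit 6, nat_lit 3, nat_lit 0, nat_lit 7, nat_lit 1])))))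
 (.node (nat_lit 1229) (.node (nat_lit 1227) (.leaf ((nat_lit 1), [nat_lit 4, nat_lit 0, nat_lit 7, nat_lit 3])) (.node (nat_lit 1228) (.leaf ((nat_lit 1), [nat_lit 0, nat_lit 5, nat_lit 4, nat_lit 6])) (.leaf ((nat_lit 1), [nat_lit 3, nat_lit 7, nat_lit 3, nat_lit 6, nat_lit 0])))) (.node (nat_lit 1230) (.leaf ((nat_lit 1), [nat_lit 5, nat_lit 2, nat_lit 6, nat_lit 5])) (.node (nat_lit 1231) (.leaf ((nat_lit 1), [nat_lit 0, nat_lit 5, nat_lit 3, nat_lit 0])) (.leaf ((nat_lit 1), [nat_lit 6, nat_lit 3, nat_lit 7, nat_lit 0]))))))))))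
noncomputable def pPA_7 : Tr (ℕ × List ℕ) := (.node (nat_lit 1320) (.node (nat_lit 1276) (.node (nat_lit 1254) (.node (nat_lit 1243) (.node (nat_lit 1237) (.node (nat_lit 1234) (.node (nat_lit 1233) (.leaf ((nat_lit 1), [nat_lit 5, nat_lit 7, nat_lit 2, nat_lit 5, nat_lit 0])) (.leaf ((nat_lit 1), [nat_lit 3, nat_lit 1, nat_lit 6, nat_lit 5]))) (.node (nat_lit 1235) (.leaf ((nat_lit 1), [nat_lit 5, nat_lit 1, nat_lit 5, nat_lit 4, nat_lit 0])) (.node (nat_lit 1236) (.leaf ((nat_lit 1), [nat_lit 7, nat_lit 5, nat_lit 3, nat_lit 1])) (.leaf ((nat_lit 1), [nat_lit 4, nat_lit 6, nat_lit 1])))))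
 (.node (nat_lit 1240) (.node (nat_lit 1238) (.leaf ((nat_lit 1), [nat_lit 6, nat_lit 5, nat_lit 7, nat_lit 4])) (.node (nat_lit 1239) (.leaf ((nat_lit 0), [nat_lit 6, nat_lit 7, nat_lit 2, nat_lit 0])) (.leaf ((nat_lit 1), [nat_lit 0, nat_lit 7, nat_lit 2, nat_lit 6, nat_lit 0])))) (.node (nat_lit 1241) (.leaf ((nat_lit 1), [nat_lit 3, nat_lit 7, nat_lit 0, nat_lit 5, nat_lit 0])) (.node (nat_lit 1242) (.leaf ((nat_lit 1), [nat_lit 5, nat_lit 3])) (.leaf ((nat_lit 1), [nat_lit 4, nat_lit 3, nat_lit 1]))))))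
 (.node (nat_lit 1248) (.node (nat_lit 1245) (.node (nat_lit 1244) (.leaf ((nat_lit 1), [nat_lit 6, nat_lit 0, nat_lit 7, nat_lit 1])) (.leaf ((nat_lit 1), [nat_lit 2, nat_lit 7, nat_lit 3, nat_lit 1]))) (.node (nat_lit 1246) (.leaf ((nat_lit 1), [nat_lit 7, nat_lit 4, nat_lit 5, nat_lit 0])) (.node (nat_lit 1247) (.leaf ((nat_lit 1), [nat_lit 7, nat_lit 5, nat_lit 2, nat_lit 0])) (.leaf ((nat_lit 1), [nat_lit 4, nat_lit 7, nat_lit 4, nat_lit 1])))))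
 (.node (nat_lit 1251) (.node (nat_lit 1249) (.leaf ((nat_lit 1), [nat_lit 1, nat_lit 6, nat_lit 1, nat_lit 7, nat_lit 0])) (.node (nat_lit 1250) (.leaf ((nat_lit 1), [nat_lit 6, nat_lit 3, nat_lit 5, nat_lit 7])) (.leaf ((nat_lit 1), [nat_lit 0, nat_lit 7, nat_lit 4, nat_lit 2, nat_lit 0])))) (.node (nat_lit 1252) (.leaf ((nat_lit 1), [nat_lit 1, nat_lit 6, nat_lit 0])) (.node (nat_lit 1253) (.leaf ((nat_lit 0), [nat_lit 1, nat_lit 5, nat_lit 7, nat_lit 1])) (.leaf ((nat_lit 1), [nat_lit 2, nat_lit 1, nat_lit 7, nat_lit 1])))))))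
 (.node (nat_lit 1265) (.node (nat_lit 1259) (.node (nat_lit 1256) (.node (nat_lit 1255) (.leaf ((nat_lit 1), [nat_lit 4, nat_lit 5, nat_lit 0, nat_lit 7, nat_lit 1])) (.leaf ((nat_lit 1), [nat_lit 7, nat_lit 1, nat_lit 5, nat_lit 7]))) (.node (nat_lit 1257) (.leaf ((nat_lit 1), [nat_lit 5, nat_lit 7, nat_lit 4, nat_lit 6, nat_lit 2, nat_lit 0])) (.node (nat_lit 1258) (.leaf ((nat_lit 1), [nat_lit 7, nat_lit 1, nat_lit 6, nat_lit 5])) (.leaf ((nat_lit 1), [nat_lit 7, nat_lit 2, nat_lit 1, nat_lit 5, nat_lit 1])))))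
 (.node (nat_lit 1262) (.node (nat_lit 1260) (.leaf ((nat_lit 1), [nat_lit 1, nat_lit 5, nat_lit 6, nat_lit 2])) (.node (nat_lit 1261) (.leaf ((nat_lit 1), [nat_lit 2, nat_lit 5, nat_lit 4, nat_lit 2, nat_lit 0])) (.leaf ((nat_lit 1), [nat_lit 6, nat_lit 7, nat_lit 6, nat_lit 4, nat_lit 0])))) (.node (nat_lit 1263) (.leaf ((nat_lit 1), [nat_lit 3, nat_lit 7, nat_lit 2, nat_lit 6, nat_lit 0])) (.node (nat_lit 1264) (.leaf ((nat_lit 1), [nat_lit 7, nat_lit 6, nat_lit 1, nat_lit 7, nat_lit 0])) (.leaf ((nat_lit 1), [nat_lit 4, nat_lit 3, nat_lit 1, nat_lit 6]))))))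
 (.node (nat_lit 1270) (.node (nat_lit 1267) (.node (nat_lit 1266) (.leaf ((nat_lit 1), [nat_lit 5, nat_lit 4, nat_lit 5, nat_lit 7, nat_lit 1])) (.leaf ((nat_lit 1), [nat_lit 7, nat_lit 6, nat_lit 7]))) (.node (nat_lit 1268) (.leaf ((nat_lit 1), [nat_lit 4, nat_lit 3, nat_lit 0])) (.node (nat_lit 1269) (.leaf ((nat_lit 1), [nat_lit 7, nat_lit 4])) (.leaf ((nat_lit 1), [nat_lit 4, nat_lit 7, nat_lit 6, nat_lit 0])))))
 (.node (nat_lit 1273) (.node (nat_lit 1271) (.leaf ((nat_lit 0), [nat_lit 6])) (.node (nat_lit 1272) (.leaf ((nat_lit 1), [nat_lit 0, nat_lit 6, nat_lit 2, nat_lit 7])) (.leaf ((nat_lit 1), [nat_lit 3, nat_lit 0, nat_lit 5, nat_lit 7])))) (.node (nat_lit 1274) (.leaf ((nat_lit 1), [nat_lit 4])) (.node (nat_lit 1275) (.leaf ((nat_lit 1), [nat_lit 5, nat_lit 7, nat_lit 2, nat_lit 6, nat_lit 0])) (.leaf ((nat_lit 1), [nat_lit 4, nat_lit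 5, nat_lit 7]))))))))
 (.node (nat_lit 1298) (.node (nat_lit 1287) (.node (nat_lit 1281) (.node (nat_lit 1278) (.node (nat_lit 1277) (.leaf ((nat_lit 1), [nat_lit 5, nat_lit 6, nat_lit 7, nat_lit 4, nat_lit 1])) (.leaf ((nat_lit 1), [nat_lit 7, nat_lit 2, nat_lit 7]))) (.node (nat_lit 1279) (.leaf ((nat_lit 1), [nat_lit 0, nat_lit 5, nat_lit 2, nat_lit 7, nat_lit 1])) (.node (nat_lit 1280) (.leaf ((nat_lit 1), [nat_lit 5, nat_lit 7, nat_lit 4])) (.leaf ((nat_lit 1), [nat_lit 7, nat_lit 5, nat_lit 4, nat_lit 3])))))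
 (.node (nat_lit 1284) (.node (nat_lit 1282) (.leaf ((nat_lit 1), [nat_lit 6, nat_lit 2, nat_lit 0, nat_lit 5])) (.node (nat_lit 1283) (.leaf ((nat_lit 1), [nat_lit 5, nat_lit 3, nat_lit 1])) (.leaf ((nat_lit 1), [nat_lit 7, nat_lit 6, nat_lit 0, nat_lit 5, nat_lit 1])))) (.node (nat_lit 1285) (.leaf ((nat_lit 1), [nat_lit 6, nat_lit 5, nat_lit 2, nat_lit 7])) (.node (nat_lit 1286) (.leaf ((nat_lit 1), [nat_lit 4, nat_lit 6, nat_lit 3, nat_lit 5, nat_lit 7])) (.leaf ((nat_lit 1), [nat_lit 0, nat_lit 7, nat_lit 2, nat_lit 0]))))))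
 (.node (nat_lit 1292) (.node (nat_lit 1289) (.node (nat_lit 1288) (.leaf ((nat_lit 0), [nat_lit 5, nat_lit 7, nat_lit 2, nat_lit 0])) (.leaf ((nat_lit 1), [nat_lit 1, nat_lit 6, nat_lit 7, nat_lit 3, nat_lit 0]))) (.node (nat_lit 1290) (.leaf ((nat_lit 1), [nat_lit 2, nat_lit 1, nat_lit 7, nat_lit 4, nat_lit 3])) (.node (nat_lit 1291) (.leaf ((nat_lit 1), [nat_lit 0, nat_lit 7, nat_lit 6, nat_lit 7, nat_lit 3, nat_lit 1])) (.leaf ((nat_lit 1), [nat_lit 2, nat_lit 0, nat_lit 7, nat_lit 4, nat_lit 2])))))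
 (.node (nat_lit 1295) (.node (nat_lit 1293) (.leaf ((nat_lit 1), [nat_lit 2, nat_lit 5, nat_lit 7, nat_lit 1])) (.node (nat_lit 1294) (.leaf ((nat_lit 1), [nat_lit 6, nat_lit 7, nat_lit 4, nat_lit 1])) (.leaf ((nat_lit 1), [nat_lit 0, nat_lit 7, nat_lit 5, nat_lit 3])))) (.node (nat_lit 1296) (.leaf ((nat_lit 1), [nat_lit 7, nat_lit 2, nat_lit 0, nat_lit 5, nat_lit 0])) (.node (nat_lit 1297) (.leaf ((nat_lit 1), [nat_lit 5, nat_lit 6, nat_lit 5])) (.leaf ((nat_lit 1), [nat_lit 2, nat_lit 6, nat_lit 5, nat_lit 6, nat_lit 1])))))))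
 (.node (nat_lit 1309) (.node (nat_lit 1303) (.node (nat_lit 1300) (.node (nat_lit 1299) (.leaf ((nat_lit 1), [nat_lit 7, nat_lit 1, nat_lit 7, nat_lit 0])) (.leaf ((nat_lit 1), [nat_lit 7, nat_lit 0, nat_lit 7, nat_lit 4]))) (.node (nat_lit 1301) (.leaf ((nat_lit 1), [nat_lit 6, nat_lit 4, nat_lit 2, nat_lit 1])) (.node (nat_lit 1302) (.leaf ((nat_lit 1), [nat_lit 5, nat_lit 6, nat_lit 4, nat_lit 5])) (.leaf ((nat_lit 1), [nat_lit 7, nat_lit 1, nat_lit 6, nat_lit 5, nat_lit 6, nat_lit 4])))))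
 (.node (nat_lit 1306) (.node (nat_lit 1304) (.leaf ((nat_lit 1), [nat_lit 6, nat_lit 4, nat_lit 0])) (.node (nat_lit 1305) (.leaf ((nat_lit 1), [nat_lit 7, nat_lit 3, nat_lit 5, nat_lit 7, nat_lit 4])) (.leaf ((nat_lit 1), [nat_lit 2, nat_lit 5, nat_lit 7, nat_lit 5])))) (.node (nat_lit 1307) (.leaf ((nat_lit 1), [nat_lit 3, nat_lit 5, nat_lit 6, nat_lit 0])) (.node (nat_lit 1308) (.leaf ((nat_lit 1), [nat_lit 3, nat_lit 5, nat_lit 3, nat_lit 6])) (.leaf ((nat_lit 1), [nat_lit 7, nat_lit 4, nat_lit 6, nat_lit 3]))))))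
 (.node (nat_lit 1314) (.node (nat_lit 1311) (.node (nat_lit 1310) (.leaf ((nat_lit 1), [nat_lit 2, nat_lit 6, nat_lit 3, nat_lit 7, nat_lit 1])) (.leaf ((nat_lit 1), [nat_lit 1, nat_lit 5, nat_lit 0, nat_lit 7, nat_lit 0]))) (.node (nat_lit 1312) (.leaf ((nat_lit 1), [nat_lit 4, nat_lit 0])) (.node (nat_lit 1313) (.leaf ((nat_lit 0), [nat_lit 7, nat_lit 6, nat_lit 5, nat_lit 7, nat_lit 1])) (.leaf ((nat_lit 1), [nat_lit 4, nat_lit 6, nat_lit 5, nat_lit 7])))))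
 (.node (nat_lit 1317) (.node (nat_lit 1315) (.leaf ((nat_lit 1), [nat_lit 7, nat_lit 0, nat_lit 5, nat_lit 2, nat_lit 7])) (.node (nat_lit 1316) (.leaf ((nat_lit 1), [nat_lit 7, nat_lit 1, nat_lit 6, nat_lit 2])) (.leaf ((nat_lit 1), [nat_lit 5, nat_lit 7, nat_lit 2])))) (.node (nat_lit 1318) (.leaf ((nat_lit 1), [nat_lit 3, nat_lit 7, nat_lit 5])) (.node (nat_lit 1319) (.leaf ((nat_lit 1), [nat_lit 3, nat_lit 5, nat_lit 4])) (.leaf ((nat_lit 1), [nat_lit 5, nat_lit 6, nat_lit 4, nat_lit 7])))))))))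
 (.node (nat_lit 1364) (.node (nat_lit 1342) (.node (nat_lit 1331) (.node (nat_lit 1325) (.node (nat_lit 1322) (.node (nat_lit 1321) (.leaf ((nat_lit 1), [nat_lit 7, nat_lit 0, nat_lit 6, nat_lit 2, nat_lit 5])) (.leaf ((nat_lit 0), [nat_lit 4, nat_lit 7, nat_lit 3]))) (.node (nat_lit 1323) (.leaf ((nat_lit 1), [nat_lit 4, nat_lit 3, nat_lit 6, nat_lit 0])) (.node (nat_lit 1324) (.leaf ((nat_lit 1), [nat_lit 4, nat_lit 6, nat_lit 3, nat_lit 0])) (.leaf ((nat_lit 1), [nat_lit 3, nat_lit 5, nat_lit 4, nat_lit 7])))))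
 (.node (nat_lit 1328) (.node (nat_lit 1326) (.leaf ((nat_lit 1), [nat_lit 0, nat_lit 6, nat_lit 2, nat_lit 7, nat_lit 0])) (.node (nat_lit 1327) (.leaf ((nat_lit 0), [nat_lit 7, nat_lit 2])) (.leaf ((nat_lit 0), [nat_lit 2, nat_lit 7, nat_lit 6, nat_lit 7, nat_lit 0])))) (.node (nat_lit 1329) (.leaf ((nat_lit 1), [nat_lit 3, nat_lit 7, nat_lit 1])) (.node (nat_lit 1330) (.leaf ((nat_lit 1), [nat_lit 1, nat_lit 7, nat_lit 4, nat_lit 3, nat_lit 1])) (.leaf ((nat_lit 0), [nat_lit 2, nat_lit 1, nat_lit 7, nat_lit 2]))))))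
 (.node (nat_lit 1336) (.node (nat_lit 1333) (.node (nat_lit 1332) (.leaf ((nat_lit 1), [nat_lit 2, nat_lit 7, nat_lit 5, nat_lit 3])) (.leaf ((nat_lit 1), [nat_lit 2, nat_lit 1, nat_lit 7]))) (.node (nat_lit 1334) (.leaf ((nat_lit 1), [nat_lit 0, nat_lit 7, nat_lit 6, nat_lit 4, nat_lit 5])) (.node (nat_lit 1335) (.leaf ((nat_lit 1), [nat_lit 2, nat_lit 7, nat_lit 1, nat_lit 6, nat_lit 0])) (.leaf ((nat_lit 1), [nat_lit 0, nat_lit 6, nat_lit 5])))))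
 (.node (nat_lit 1339) (.node (nat_lit 1337) (.leaf ((nat_lit 1), [nat_lit 7, nat_lit 6, nat_lit 5, nat_lit 6, nat_lit 2])) (.node (nat_lit 1338) (.leaf ((nat_lit 1), [nat_lit 1, nat_lit 5, nat_lit 7, nat_lit 3, nat_lit 0])) (.leaf ((nat_lit 1), [nat_lit 6, nat_lit 4, nat_lit 0, nat_lit 7, nat_lit 1])))) (.node (nat_lit 1340) (.leaf ((nat_lit 1), [nat_lit 7, nat_lit 0, nat_lit 7, nat_lit 1, nat_lit 6])) (.node (nat_lit 1341) (.leaf ((nat_lit 1), [nat_lit 6, nat_lit 5, nat_lit 7, nat_lit 3, nat_lit 5, nat_lit 4])) (.leaf ((nat_lit 1), [nat_lit 0, nat_lit 7, nat_lit 4, nat_lit 6])))))))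
 (.node (nat_lit 1353) (.node (nat_lit 1347) (.node (nat_lit 1344) (.node (nat_lit 1343) (.leaf ((nat_lit 1), [nat_lit 2, nat_lit 0, nat_lit 7, nat_lit 0])) (.leaf ((nat_lit 1), [nat_lit 2, nat_lit 5, nat_lit 6, nat_lit 7, nat_lit 1]))) (.node (nat_lit 1345) (.leaf ((nat_lit 1), [nat_lit 7, nat_lit 0, nat_lit 6, nat_lit 7, nat_lit 3, nat_lit 0])) (.node (nat_lit 1346) (.leaf ((nat_lit 1), [nat_lit 1, nat_lit 7, nat_lit 4, nat_lit 0])) (.leaf ((nat_lit 1), [nat_lit 1, nat_lit 5, nat_lit 4, nat_lit 7, nat_lit 0])))))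
 (.node (nat_lit 1350) (.node (nat_lit 1348) (.leaf ((nat_lit 1), [nat_lit 5, nat_lit 0, nat_lit 7])) (.node (nat_lit 1349) (.leaf ((nat_lit 1), [nat_lit 7, nat_lit 2, nat_lit 5, nat_lit 4])) (.leaf ((nat_lit 1), [nat_lit 4, nat_lit 2, nat_lit 1])))) (.node (nat_lit 1351) (.leaf ((nat_lit 1), [nat_lit 4, nat_lit 0, nat_lit 6, nat_lit 1])) (.node (nat_lit 1352) (.leaf ((nat_lit 1), [nat_lit 5, nat_lit 6, nat_lit 2, nat_lit 1])) (.leaf ((nat_lit 1), [nat_lit 6, nat_lit 7, nat_lit 4, nat_lit 6, nat_lit 1]))))))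
 (.node (nat_lit 1358) (.node (nat_lit 1355) (.node (nat_lit 1354) (.leaf ((nat_lit 1), [nat_lit 6, nat_lit 4, nat_lit 2, nat_lit 7, nat_lit 0])) (.leaf ((nat_lit 1), [nat_lit 2, nat_lit 7, nat_lit 4, nat_lit 6, nat_lit 1]))) (.node (nat_lit 1356) (.leaf ((nat_lit 1), [nat_lit 6, nat_lit 1, nat_lit 7, nat_lit 2, nat_lit 0])) (.node (nat_lit 1357) (.leaf ((nat_lit 1), [nat_lit 5, nat_lit 7, nat_lit 6, nat_lit 2])) (.leaf ((nat_lit 1), [nat_lit 6, nat_lit 5, nat_lit 0])))))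
 (.node (nat_lit 1361) (.node (nat_lit 1359) (.leaf ((nat_lit 1), [nat_lit 4, nat_lit 6, nat_lit 7, nat_lit 0])) (.node (nat_lit 1360) (.leaf ((nat_lit 1), [nat_lit 5, nat_lit 2, nat_lit 7, nat_lit 4, nat_lit 2])) (.leaf ((nat_lit 1), [nat_lit 1, nat_lit 6, nat_lit 5, nat_lit 6, nat_lit 4])))) (.node (nat_lit 1362) (.leaf ((nat_lit 1), [nat_lit 1, nat_lit 6, nat_lit 7, nat_lit 0, nat_lit 6, nat_lit 3])) (.node (nat_lit 1363) (.leaf ((nat_lit 0), [nat_lit 0, nat_lit 7, nat_lit 2])) (.leaf ((nat_lit 1), [nat_lit 2, nat_lit 6, nat_lit 3, nat_lit 0, nat_lit 7]))))))))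
 (.node (nat_lit 1386) (.node (nat_lit 1375) (.node (nat_lit 1369) (.node (nat_lit 1366) (.node (nat_lit 1365) (.leaf ((nat_lit 0), [nat_lit 6, nat_lit 7, nat_lit 1])) (.leaf ((nat_lit 1), [nat_lit 0, nat_lit 7, nat_lit 5, nat_lit 0]))) (.node (nat_lit 1367) (.leaf ((nat_lit 1), [nat_lit 4, nat_lit 7, nat_lit 2, nat_lit 7, nat_lit 1])) (.node (nat_lit 1368) (.leaf ((nat_lit 1), [nat_lit 1, nat_lit 7, nat_lit 6, nat_lit 5])) (.leaf ((nat_lit 1), [nat_lit 0, nat_lit 6, nat_lit 1, nat_lit 5, nat_lit 1])))))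
 (.node (nat_lit 1372) (.node (nat_lit 1370) (.leaf ((nat_lit 1), [nat_lit 6, nat_lit 1, nat_lit 5, nat_lit 1])) (.node (nat_lit 1371) (.leaf ((nat_lit 1), [nat_lit 4, nat_lit 7, nat_lit 4])) (.leaf ((nat_lit 1), [nat_lit 1, nat_lit 5, nat_lit 2, nat_lit 6, nat_lit 0])))) (.node (nat_lit 1373) (.leaf ((nat_lit 1), [nat_lit 3, nat_lit 0, nat_lit 5, nat_lit 7, nat_lit 1])) (.node (nat_lit 1374) (.leaf ((nat_lit 1), [nat_lit 5, nat_lit 7, nat_lit 6, nat_lit 4, nat_lit 0])) (.leaf ((nat_lit 1), [nat_lit 1, nat_lit 6, nat_lit 1]))))))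
 (.node (nat_lit 1380) (.node (nat_lit 1377) (.node (nat_lit 1376) (.leaf ((nat_lit 1), [nat_lit 1, nat_lit 7, nat_lit 5, nat_lit 4, nat_lit 2])) (.leaf ((nat_lit 1), [nat_lit 5, nat_lit 7, nat_lit 3, nat_lit 6, nat_lit 0]))) (.node (nat_lit 1378) (.leaf ((nat_lit 0), [nat_lit 7, nat_lit 3, nat_lit 7, nat_lit 0])) (.node (nat_lit 1379) (.leaf ((nat_lit 1), [nat_lit 4, nat_lit 2, nat_lit 7, nat_lit 1])) (.leaf ((nat_lit 1), [nat_lit 5, nat_lit 4, nat_lit 5, nat_lit 0, nat_lit 7])))))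
 (.node (nat_lit 1383) (.node (nat_lit 1381) (.leaf ((nat_lit 1), [nat_lit 4, nat_lit 2, nat_lit 5, nat_lit 0])) (.node (nat_lit 1382) (.leaf ((nat_lit 1), [nat_lit 6, nat_lit 3, nat_lit 5, nat_lit 7, nat_lit 1])) (.leaf ((nat_lit 1), [nat_lit 7, nat_lit 4, nat_lit 0])))) (.node (nat_lit 1384) (.leaf ((nat_lit 1), [nat_lit 5, nat_lit 1, nat_lit 5, nat_lit 1])) (.node (nat_lit 1385) (.leaf ((nat_lit 1), [nat_lit 7, nat_lit 5, nat_lit 0, nat_lit 5])) (.leaf ((nat_lit 1), [nat_lit 4, nat_lit 5, nat_lit 3, nat_lit 1])))))))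
 (.node (nat_lit 1397) (.node (nat_lit 1391) (.node (nat_lit 1388) (.node (nat_lit 1387) (.leaf ((nat_lit 0), [nat_lit 5, nat_lit 3, nat_lit 0])) (.leaf ((nat_lit 1), [nat_lit 7, nat_lit 2, nat_lit 7, nat_lit 1]))) (.node (nat_lit 1389) (.leaf ((nat_lit 0), [nat_lit 7, nat_lit 6, nat_lit 7, nat_lit 0])) (.node (nat_lit 1390) (.leaf ((nat_lit 0), [nat_lit 7, nat_lit 6, nat_lit 7, nat_lit 3, nat_lit 0])) (.leaf ((nat_lit 1), [nat_lit 2, nat_lit 6, nat_lit 7, nat_lit 3, nat_lit 1])))))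
 (.node (nat_lit 1394) (.node (nat_lit 1392) (.leaf ((nat_lit 1), [nat_lit 7, nat_lit 0, nat_lit 5, nat_lit 7, nat_lit 2, nat_lit 0])) (.node (nat_lit 1393) (.leaf ((nat_lit 1), [nat_lit 4, nat_lit 2, nat_lit 5, nat_lit 7])) (.leaf ((nat_lit 1), [nat_lit 4, nat_lit 0, nat_lit 7, nat_lit 4, nat_lit 3])))) (.node (nat_lit 1395) (.leaf ((nat_lit 0), [nat_lit 5, nat_lit 7, nat_lit 5, nat_lit 0])) (.node (nat_lit 1396) (.leaf ((nat_lit 1), [nat_lit 7, nat_lit 0, nat_lit 7, nat_lit 6, nat_lit 7])) (.leaf ((nat_lit 0), [nat_lit 5, nat_lit 3]))))))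
 (.node (nat_lit 1402) (.node (nat_lit 1399) (.node (nat_lit 1398) (.leaf ((nat_lit 1), [nat_lit 1, nat_lit 7, nat_lit 5, nat_lit 6, nat_lit 1])) (.leaf ((nat_lit 1), [nat_lit 5, nat_lit 4, nat_lit 7, nat_lit 3, nat_lit 0]))) (.node (nat_lit 1400) (.leaf ((nat_lit 1), [nat_lit 7, nat_lit 2, nat_lit 6, nat_lit 3])) (.node (nat_lit 1401) (.leaf ((nat_lit 0), [nat_lit 0, nat_lit 7, nat_lit 3])) (.leaf ((nat_lit 1), [nat_lit 6, nat_lit 4, nat_lit 7, nat_lit 1])))))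
 (.node (nat_lit 1405) (.node (nat_lit 1403) (.leaf ((nat_lit 1), [nat_lit 3, nat_lit 1, nat_lit 7, nat_lit 4, nat_lit 0])) (.node (nat_lit 1404) (.leaf ((nat_lit 1), [nat_lit 1, nat_lit 6, nat_lit 4, nat_lit 2, nat_lit 7])) (.leaf ((nat_lit 1), [nat_lit 2, nat_lit 7, nat_lit 4, nat_lit 5, nat_lit 0])))) (.node (nat_lit 1406) (.leaf ((nat_lit 1), [nat_lit 7, nat_lit 3, nat_lit 6, nat_lit 4])) (.node (nat_lit 1407) (.leaf ((nat_lit 1), [nat_lit 4, nat_lit 7, nat_lit 4, nat_lit 2, nat_lit 0])) (.leaf ((nat_lit 1), [nat_lit 4, nat_lit 7, nat_lit 3, nat_lit 1]))))))))))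
noncomputable def pPA : Tr (ℕ × List ℕ) := (.node (nat_lit 704) (.node (nat_lit 352) (.node (nat_lit 176) pPA_0 pPA_1) (.node (nat_lit 528) pPA_2 pPA_3)) (.node (nat_lit 1056) (.node (nat_lit 880) pPA_4 pPA_5) (.node (nat_lit 1232) pPA_6 pPA_7)))
noncomputable def pWd_0 : Tr (ℕ × List ℕ) := (.node (nat_lit 88) (.node (nat_lit 44) (.node (nat_lit 22) (.node (nat_lit 11) (.node (nat_lit 5) (.node (nat_lit 2) (.node (nat_lit 1) (.leaf ((nat_lit 1), [])) (.leaf ((nat_lit 2), [nat_lit 0, nat_lit 5, nat_lit 3, nat_lit 0, nat_lit 5, nat_lit 0, nat_lit 2, nat_lit 2, nat_lit 3, nat_lit 2, nat_lit 4, nat_lit 2, nat_lit 2, nat_lit 0, nat_lit 2, nat_lit 2, nat_lit 0, nat_lit 1]))) (.node (nat_lit 3) (.leaf ((nat_lit 3), [nat_lit 2, nat_lit 3, nat_lit 5, nat_lit 1, nat_lit 0, nat_lit 3, nat_lit 0, nat_lit 4, nat_lit 2, nat_lit 2, nat_lit 0, nat_lit 1, nat_lit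 0, nat_lit 2, nat_lit 2])) (.node (nat_lit 4) (.leaf ((nat_lit 4), [nat_lit 3, nat_lit 2, nat_lit 5, nat_lit 3, nat_lit 4, nat_lit 3, nat_lit 2, nat_lit 4, nat_lit 0, nat_lit 1, nat_lit 0, nat_lit 2, nat_lit 0, nat_lit 2])) (.leaf ((nat_lit 5), [nat_lit 1, nat_lit 5, nat_lit 2, nat_lit 0, nat_lit 2, nat_lit 2, nat_lit 3, nat_lit 1])))))
 (.node (nat_lit 8) (.node (nat_lit 6) (.leaf ((nat_lit 6), [nat_lit 3, nat_lit 5, nat_lit 0, nat_lit 3, nat_lit 5, nat_lit 1, nat_lit 4, nat_lit 3, nat_lit 1, nat_lit 0, nat_lit 2, nat_lit 2, nat_lit 0, nat_lit 2, nat_lit 0])) (.node (nat_lit 7) (.leaf ((nat_lit 7), [nat_lit 5, nat_lit 1, nat_lit 3, nat_lit 2, nat_lit 5, nat_lit 2, nat_lit 0, nat_lit 4, nat_lit 1, nat_lit 3, nat_lit 1, nat_lit 0])) (.leaf ((nat_lit 8), [nat_lit 4, nat_lit 5, nat_lit 0, nat_lit 3, nat_lit 5, nat_lit 0, nat_lit 4, nat_lit 2, nat_lit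 0, nat_lit 1, nat_lit 0, nat_lit 2, nat_lit 2])))) (.node (nat_lit 9) (.leaf ((nat_lit 9), [nat_lit 4, nat_lit 5, nat_lit 2, nat_lit 0, nat_lit 5, nat_lit 2, nat_lit 2, nat_lit 3, nat_lit 4, nat_lit 3, nat_lit 2, nat_lit 2, nat_lit 0, nat_lit 1])) (.node (nat_lit 10) (.leaf ((nat_lit 10), [nat_lit 2, nat_lit 5, nat_lit 3, nat_lit 5, nat_lit 3, nat_lit 4, nat_lit 0, nat_lit 4, nat_lit 1, nat_lit 3, nat_lit 0, nat_lit 1, nat_lit 0, nat_lit 1, nat_lit 0, nat_lit 2])) (.leaf ((nat_lit 11), [nat_lit 4, nat_lit 5, nat_lit 3, nat_lit 0, nat_lit 5, nat_lit 2, nat_lit 0, nat_lit 2, nat_lit 3, nat_lit 2, nat_lit 2, nat_lit 0, nat_lit 2, nat_lit 2, nat_lit 0, nat_lit 2, nat_lit 2, nat_lit 0]))))))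
 (.node (nat_lit 16) (.node (nat_lit 13) (.node (nat_lit 12) (.leaf ((nat_lit 12), [nat_lit 5, nat_lit 3, nat_lit 2, nat_lit 5, nat_lit 0, nat_lit 1, nat_lit 3, nat_lit 4, nat_lit 1, nat_lit 3, nat_lit 2, nat_lit 0, nat_lit 1, nat_lit 0, nat_lit 2, nat_lit 0, nat_lit 2, nat_lit 0])) (.leaf ((nat_lit 13), [nat_lit 5, nat_lit 1, nat_lit 3, nat_lit 4, nat_lit 0, nat_lit 2, nat_lit 2, nat_lit 0, nat_lit 2, nat_lit 2, nat_lit 0]))) (.node (nat_lit 14) (.leaf ((nat_lit 14), [nat_lit 5, nat_lit 2, nat_lit 3, nat_lit 0, nat_lit 5, nat_lit 0, nat_lit 1, nat_lit 0, nat_lit 3, nat_lit 0, nat_lit 1, nat_lit 0, nat_lit 2, nat_lit 2, nat_lit 0, nat_lit 1])) (.node (nat_lit 15) (.leaf ((nat_lit 15), [nat_lit 1, nat_lit 5, nat_lit 3, nat_lit 5, nat_lit 4, nat_lit 3, nat_lit 1, nat_lit 3, nat_lit 1, nat_lit 3, nat_lit 2, nat_lit 0, nat_lit 2, nat_lit 0, nat_lit 1]))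 (.leaf ((nat_lit 16), [nat_lit 5, nat_lit 3, nat_lit 2, nat_lit 5, nat_lit 3, nat_lit 4, nat_lit 3, nat_lit 2, nat_lit 4, nat_lit 3, nat_lit 0, nat_lit 1, nat_lit 0, nat_lit 1, nat_lit 0, nat_lit 2])))))
 (.node (nat_lit 19) (.node (nat_lit 17) (.leaf ((nat_lit 17), [nat_lit 0, nat_lit 5, nat_lit 2, nat_lit 5, nat_lit 3, nat_lit 2, nat_lit 0, nat_lit 4, nat_lit 3, nat_lit 1, nat_lit 0, nat_lit 1, nat_lit 0, nat_lit 2])) (.node (nat_lit 18) (.leaf ((nat_lit 18), [nat_lit 3, nat_lit 4, nat_lit 5, nat_lit 3, nat_lit 1, nat_lit 3, nat_lit 0, nat_lit 3, nat_lit 2, nat_lit 2, nat_lit 0, nat_lit 1, nat_lit 0, nat_lit 2])) (.leaf ((nat_lit 19), [nat_lit 3, nat_lit 0, nat_lit 5, nat_lit 0, nat_lit 2, nat_lit 3, nat_lit 2, nat_lit 0, nat_lit 3, nat_lit 0, nat_lit 1, nat_lit 0, nat_lit 2, nat_lit 0, nat_lit 2, nat_lit 2, nat_lit 0])))) (.node (nat_lit 20) (.leaf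 ((nat_lit 20), [nat_lit 4, nat_lit 0, nat_lit 5, nat_lit 0, nat_lit 1, nat_lit 0, nat_lit 3, nat_lit 2, nat_lit 3, nat_lit 2, nat_lit 0, nat_lit 1, nat_lit 0, nat_lit 2, nat_lit 0])) (.node (nat_lit 21) (.leaf ((nat_lit 21), [nat_lit 3, nat_lit 5, nat_lit 0, nat_lit 3, nat_lit 5, nat_lit 0, nat_lit 2, nat_lit 0, nat_lit 3, nat_lit 4, nat_lit 0, nat_lit 1, nat_lit 0, nat_lit 2, nat_lit 0, nat_lit 2])) (.leaf ((nat_lit 22), [nat_lit 4, nat_lit 5, nat_lit 1, nat_lit 5, nat_lit 3, nat_lit 1, nat_lit 3, nat_lit 1, nat_lit 3, nat_lit 1, nat_lit 0, nat_lit 2, nat_lit 0])))))))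
 (.node (nat_lit 33) (.node (nat_lit 27) (.node (nat_lit 24) (.node (nat_lit 23) (.leaf ((nat_lit 23), [nat_lit 5, nat_lit 4, nat_lit 2, nat_lit 0, nat_lit 5, nat_lit 3, nat_lit 2, nat_lit 3, nat_lit 0, nat_lit 4, nat_lit 1, nat_lit 0, nat_lit 1, nat_lit 0, nat_lit 2, nat_lit 0, nat_lit 2, nat_lit 0])) (.leaf ((nat_lit 24), [nat_lit 2, nat_lit 0, nat_lit 1, nat_lit 5, nat_lit 2, nat_lit 3, nat_lit 1, nat_lit 0, nat_lit 2, nat_lit 3, nat_lit 0, nat_lit 2, nat_lit 2, nat_lit 0, nat_lit 1]))) (.node (nat_lit 25) (.leaf ((nat_lit 25), [nat_lit 2, nat_lit 0, nat_lit 2, nat_lit 5, nat_lit 4, nat_lit 3, nat_lit 1, nat_lit 0, nat_lit 2, nat_lit 3, nat_lit 2, nat_lit 2, nat_lit 0, nat_lit 2, nat_lit 2, nat_lit 0, nat_lit 2, nat_lit 0])) (.node (nat_lit 26) (.leaf ((nat_lit 26), [nat_lit 0, nat_lit 4, nat_lit 2, nat_lit 0, nat_lit 5, nat_lit 0, nat_lit 2,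 nat_lit 3, nat_lit 2, nat_lit 0, nat_lit 3, nat_lit 2, nat_lit 0, nat_lit 2, nat_lit 0])) (.leaf ((nat_lit 27), [nat_lit 5, nat_lit 2, nat_lit 5, nat_lit 3, nat_lit 1, nat_lit 4, nat_lit 3, nat_lit 2, nat_lit 0, nat_lit 1, nat_lit 0, nat_lit 2])))))
 (.node (nat_lit 30) (.node (nat_lit 28) (.leaf ((nat_lit 28), [nat_lit 5, nat_lit 4, nat_lit 0, nat_lit 5, nat_lit 1, nat_lit 0, nat_lit 4, nat_lit 3, nat_lit 2, nat_lit 0, nat_lit 2, nat_lit 2, nat_lit 0, nat_lit 2, nat_lit 2])) (.node (nat_lit 29) (.leaf ((nat_lit 29), [nat_lit 2, nat_lit 0, nat_lit 2, nat_lit 5, nat_lit 0, nat_lit 4, nat_lit 2, nat_lit 0, nat_lit 2, nat_lit 3, nat_lit 2, nat_lit 0, nat_lit 1, nat_lit 0, nat_lit 1, nat_lit 0, nat_lit 2])) (.leaf ((nat_lit 30), [nat_lit 5, nat_lit 1, nat_lit 0, nat_lit 2, nat_lit 5, nat_lit 3, nat_lit 2, nat_lit 0, nat_lit 2, nat_lit 4, nat_lit 3, nat_lit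 0, nat_lit 2, nat_lit 2, nat_lit 0, nat_lit 2, nat_lit 0])))) (.node (nat_lit 31) (.leaf ((nat_lit 31), [nat_lit 3, nat_lit 1, nat_lit 3, nat_lit 0, nat_lit 5, nat_lit 3, nat_lit 4, nat_lit 1, nat_lit 0, nat_lit 4, nat_lit 0, nat_lit 2, nat_lit 2, nat_lit 0, nat_lit 2, nat_lit 0, nat_lit 1])) (.node (nat_lit 32) (.leaf ((nat_lit 32), [nat_lit 5, nat_lit 4, nat_lit 5, nat_lit 2, nat_lit 5, nat_lit 3, nat_lit 0, nat_lit 3, nat_lit 1, nat_lit 4, nat_lit 2, nat_lit 2, nat_lit 0, nat_lit 2, nat_lit 0])) (.leaf ((nat_lit 33), [nat_lit 3, nat_lit 4, nat_lit 3, nat_lit 5, nat_lit 2, nat_lit 2, nat_lit 3, nat_lit 2, nat_lit 2, nat_lit 0, nat_lit 1, nat_lit 0, nat_lit 2]))))))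
 (.node (nat_lit 38) (.node (nat_lit 35) (.node (nat_lit 34) (.leaf ((nat_lit 34), [nat_lit 1, nat_lit 5, nat_lit 2, nat_lit 5, nat_lit 3, nat_lit 0, nat_lit 3, nat_lit 4, nat_lit 3, nat_lit 0, nat_lit 1, nat_lit 0, nat_lit 2])) (.leaf ((nat_lit 35), [nat_lit 3, nat_lit 0, nat_lit 5, nat_lit 3, nat_lit 5, nat_lit 4, nat_lit 2, nat_lit 3, nat_lit 0, nat_lit 4, nat_lit 1, nat_lit 0, nat_lit 1]))) (.node (nat_lit 36) (.leaf ((nat_lit 36), [nat_lit 4, nat_lit 2, nat_lit 5, nat_lit 3, nat_lit 1, nat_lit 3, nat_lit 1, nat_lit 3, nat_lit 0, nat_lit 2, nat_lit 2, nat_lit 0, nat_lit 2, nat_lit 0, nat_lit 1, nat_lit 0])) (.node (nat_lit 37) (.leaf ((nat_lit 37), [nat_lit 2, nat_lit 0, nat_lit 5, nat_lit 2, nat_lit 0, nat_lit 1, nat_lit 4, nat_lit 3, nat_lit 0, nat_lit 2, nat_lit 2, nat_lit 0, nat_lit 2, nat_lit 0, nat_lit 1, nat_lit 0])) (.leaf ((nat_lit 38),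 [nat_lit 2, nat_lit 5, nat_lit 0, nat_lit 5, nat_lit 0, nat_lit 3, nat_lit 1, nat_lit 0, nat_lit 2, nat_lit 0, nat_lit 1, nat_lit 0])))))
 (.node (nat_lit 41) (.node (nat_lit 39) (.leaf ((nat_lit 39), [nat_lit 3, nat_lit 1, nat_lit 5, nat_lit 2, nat_lit 5, nat_lit 3, nat_lit 1, nat_lit 0, nat_lit 2, nat_lit 0, nat_lit 2, nat_lit 0])) (.node (nat_lit 40) (.leaf ((nat_lit 40), [nat_lit 2, nat_lit 5, nat_lit 0, nat_lit 1, nat_lit 5, nat_lit 0, nat_lit 3, nat_lit 0, nat_lit 1, nat_lit 4, nat_lit 0, nat_lit 1, nat_lit 0, nat_lit 2, nat_lit 2, nat_lit 0, nat_lit 2, nat_lit 0])) (.leaf ((nat_lit 41), [nat_lit 2, nat_lit 5, nat_lit 0, nat_lit 1, nat_lit 5, nat_lit 3, nat_lit 2, nat_lit 3, nat_lit 2, nat_lit 3, nat_lit 2, nat_lit 0, nat_lit 2, nat_lit 2, nat_lit 0, nat_lit 1])))) (.node (nat_lit 42) (.leaf ((nat_lit 42), [nat_lit 5, nat_lit 3, nat_lit 2,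 nat_lit 0, nat_lit 5, nat_lit 0, nat_lit 1, nat_lit 3, nat_lit 4, nat_lit 1, nat_lit 3, nat_lit 2, nat_lit 0, nat_lit 2, nat_lit 2])) (.node (nat_lit 43) (.leaf ((nat_lit 43), [nat_lit 5, nat_lit 1, nat_lit 5, nat_lit 0, nat_lit 5, nat_lit 3, nat_lit 0, nat_lit 3, nat_lit 2, nat_lit 3, nat_lit 1, nat_lit 0, nat_lit 2, nat_lit 0, nat_lit 2, nat_lit 0])) (.leaf ((nat_lit 44), [nat_lit 4, nat_lit 3, nat_lit 5, nat_lit 2, nat_lit 5, nat_lit 2, nat_lit 0, nat_lit 3, nat_lit 0, nat_lit 1, nat_lit 0, nat_lit 2, nat_lit 0, nat_lit 2, nat_lit 2, nat_lit 0]))))))))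
 (.node (nat_lit 66) (.node (nat_lit 55) (.node (nat_lit 49) (.node (nat_lit 46) (.node (nat_lit 45) (.leaf ((nat_lit 45), [nat_lit 5, nat_lit 4, nat_lit 5, nat_lit 2, nat_lit 5, nat_lit 0, nat_lit 2, nat_lit 0, nat_lit 2, nat_lit 3, nat_lit 1, nat_lit 0, nat_lit 2, nat_lit 0, nat_lit 2, nat_lit 2])) (.leaf ((nat_lit 46), [nat_lit 4, nat_lit 5, nat_lit 2, nat_lit 3, nat_lit 5, nat_lit 1, nat_lit 4, nat_lit 0, nat_lit 2]))) (.node (nat_lit 47) (.leaf ((nat_lit 47), [nat_lit 1, nat_lit 5, nat_lit 0, nat_lit 5, nat_lit 1, nat_lit 0, nat_lit 4, nat_lit 2, nat_lit 0, nat_lit 2, nat_lit 2, nat_lit 0, nat_lit 2, nat_lit 0])) (.node (nat_lit 48) (.leaf ((nat_lit 48), [nat_lit 4, nat_lit 5, nat_lit 3, nat_lit 5, nat_lit 4, nat_lit 1, nat_lit 0, nat_lit 3, nat_lit 0, nat_lit 1, nat_lit 0, nat_lit 2, nat_lit 0, nat_lit 2, nat_lit 2, nat_lit 0])) (.leaf ((nat_lit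 49), [nat_lit 2, nat_lit 5, nat_lit 0, nat_lit 1, nat_lit 5, nat_lit 1, nat_lit 3, nat_lit 0, nat_lit 3, nat_lit 2, nat_lit 3, nat_lit 1, nat_lit 0, nat_lit 1])))))
 (.node (nat_lit 52) (.node (nat_lit 50) (.leaf ((nat_lit 31), [nat_lit 1, nat_lit 5, nat_lit 3, nat_lit 5, nat_lit 1, nat_lit 3, nat_lit 4, nat_lit 2, nat_lit 3, nat_lit 0, nat_lit 2, nat_lit 0, nat_lit 2, nat_lit 2, nat_lit 0])) (.node (nat_lit 51) (.leaf ((nat_lit 50), [nat_lit 4, nat_lit 2, nat_lit 5, nat_lit 1, nat_lit 5, nat_lit 0, nat_lit 1, nat_lit 3, nat_lit 0, nat_lit 3, nat_lit 1, nat_lit 0, nat_lit 1, nat_lit 0])) (.leaf ((nat_lit 51), [nat_lit 3, nat_lit 4, nat_lit 5, nat_lit 3, nat_lit 2, nat_lit 4, nat_lit 2, nat_lit 4, nat_lit 0, nat_lit 1, nat_lit 0, nat_lit 2, nat_lit 0])))) (.node (nat_lit 53) (.leaf ((nat_lit 52), [nat_lit 4, nat_lit 3, nat_lit 5, nat_lit 1, nat_lit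 4, nat_lit 0, nat_lit 4, nat_lit 2, nat_lit 0, nat_lit 3, nat_lit 1, nat_lit 0, nat_lit 2, nat_lit 0, nat_lit 2, nat_lit 2])) (.node (nat_lit 54) (.leaf ((nat_lit 53), [nat_lit 4, nat_lit 1, nat_lit 5, nat_lit 3, nat_lit 5, nat_lit 4, nat_lit 1, nat_lit 3, nat_lit 1, nat_lit 3, nat_lit 2, nat_lit 0, nat_lit 2, nat_lit 0, nat_lit 1])) (.leaf ((nat_lit 54), [nat_lit 5, nat_lit 2, nat_lit 0, nat_lit 5, nat_lit 0, nat_lit 3, nat_lit 0, nat_lit 4, nat_lit 2, nat_lit 2, nat_lit 0, nat_lit 1]))))))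
 (.node (nat_lit 60) (.node (nat_lit 57) (.node (nat_lit 56) (.leaf ((nat_lit 55), [nat_lit 5, nat_lit 4, nat_lit 2, nat_lit 5, nat_lit 2, nat_lit 0, nat_lit 3, nat_lit 0, nat_lit 1, nat_lit 0, nat_lit 2])) (.leaf ((nat_lit 56), [nat_lit 0, nat_lit 4, nat_lit 2, nat_lit 0, nat_lit 5, nat_lit 2, nat_lit 3, nat_lit 1, nat_lit 3, nat_lit 1, nat_lit 3, nat_lit 2, nat_lit 0, nat_lit 1, nat_lit 0, nat_lit 2, nat_lit 0]))) (.node (nat_lit 58) (.leaf ((nat_lit 57), [nat_lit 3, nat_lit 5, nat_lit 2, nat_lit 5, nat_lit 2, nat_lit 2, nat_lit 3, nat_lit 2, nat_lit 2, nat_lit 3, nat_lit 2, nat_lit 0, nat_lit 1])) (.node (nat_lit 59) (.leaf ((nat_lit 58), [nat_lit 1, nat_lit 5, nat_lit 1, nat_lit 5, nat_lit 3, nat_lit 2, nat_lit 3, nat_lit 2, nat_lit 0, nat_lit 4, nat_lit 2, nat_lit 2, nat_lit 0, nat_lit 2, nat_lit 0, nat_lit 1, nat_lit 0])) (.leaf ((nat_lit 59),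 [nat_lit 5, nat_lit 2, nat_lit 2, nat_lit 0, nat_lit 5, nat_lit 4, nat_lit 1, nat_lit 0, nat_lit 3, nat_lit 2, nat_lit 3, nat_lit 0, nat_lit 2, nat_lit 2, nat_lit 0, nat_lit 2, nat_lit 0])))))
 (.node (nat_lit 63) (.node (nat_lit 61) (.leaf ((nat_lit 60), [nat_lit 5, nat_lit 2, nat_lit 5, nat_lit 4, nat_lit 1, nat_lit 4, nat_lit 2, nat_lit 4, nat_lit 3, nat_lit 0, nat_lit 1, nat_lit 0, nat_lit 1])) (.node (nat_lit 62) (.leaf ((nat_lit 61), [nat_lit 5, nat_lit 1, nat_lit 0, nat_lit 3, nat_lit 5, nat_lit 0, nat_lit 4, nat_lit 1, nat_lit 3, nat_lit 1, nat_lit 0, nat_lit 1, nat_lit 0, nat_lit 2, nat_lit 2])) (.leaf ((nat_lit 62), [nat_lit 0, nat_lit 2, nat_lit 5, nat_lit 0, nat_lit 2, nat_lit 3, nat_lit 1, nat_lit 3, nat_lit 1, nat_lit 0, nat_lit 1, nat_lit 0, nat_lit 2, nat_lit 0])))) (.node (nat_lit 64) (.leaf ((nat_lit 63), [nat_lit 5, nat_lit 1,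 nat_lit 3, nat_lit 0, nat_lit 5, nat_lit 3, nat_lit 4, nat_lit 3, nat_lit 2, nat_lit 4, nat_lit 3, nat_lit 1, nat_lit 0, nat_lit 1, nat_lit 0, nat_lit 2])) (.node (nat_lit 65) (.leaf ((nat_lit 64), [nat_lit 3, nat_lit 4, nat_lit 5, nat_lit 2, nat_lit 3, nat_lit 4, nat_lit 3, nat_lit 0, nat_lit 3, nat_lit 0, nat_lit 1, nat_lit 0, nat_lit 1])) (.leaf ((nat_lit 65), [nat_lit 2, nat_lit 0, nat_lit 5, nat_lit 1, nat_lit 0, nat_lit 1, nat_lit 0, nat_lit 3, nat_lit 2, nat_lit 2, nat_lit 0, nat_lit 1, nat_lit 0, nat_lit 2, nat_lit 2, nat_lit 0])))))))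
 (.node (nat_lit 77) (.node (nat_lit 71) (.node (nat_lit 68) (.node (nat_lit 67) (.leaf ((nat_lit 66), [nat_lit 0, nat_lit 5, nat_lit 2, nat_lit 5, nat_lit 0, nat_lit 3, nat_lit 2, nat_lit 3, nat_lit 2, nat_lit 3, nat_lit 0, nat_lit 2, nat_lit 0, nat_lit 2, nat_lit 2, nat_lit 0])) (.leaf ((nat_lit 67), [nat_lit 4, nat_lit 1, nat_lit 5, nat_lit 3, nat_lit 5, nat_lit 4, nat_lit 3, nat_lit 1, nat_lit 3, nat_lit 2, nat_lit 0, nat_lit 2, nat_lit 2, nat_lit 0, nat_lit 2, nat_lit 2]))) (.node (nat_lit 69) (.leaf ((nat_lit 68), [nat_lit 4, nat_lit 5, nat_lit 3, nat_lit 5, nat_lit 0, nat_lit 1, nat_lit 3, nat_lit 1, nat_lit 3, nat_lit 2, nat_lit 0, nat_lit 1, nat_lit 0, nat_lit 1])) (.node (nat_lit 70) (.leaf ((nat_lit 69), [nat_lit 2, nat_lit 2, nat_lit 5, nat_lit 3, nat_lit 1, nat_lit 4, nat_lit 0, nat_lit 4, nat_lit 3, nat_lit 2, nat_lit 0, nat_lit 2,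 nat_lit 0, nat_lit 1, nat_lit 0, nat_lit 1])) (.leaf ((nat_lit 70), [nat_lit 2, nat_lit 5, nat_lit 0, nat_lit 5, nat_lit 4, nat_lit 1, nat_lit 3, nat_lit 1, nat_lit 3, nat_lit 2, nat_lit 0, nat_lit 2, nat_lit 2, nat_lit 0, nat_lit 2, nat_lit 2, nat_lit 0])))))
 (.node (nat_lit 74) (.node (nat_lit 72) (.leaf ((nat_lit 71), [nat_lit 1, nat_lit 0, nat_lit 2, nat_lit 5, nat_lit 1, nat_lit 4, nat_lit 2, nat_lit 4, nat_lit 3, nat_lit 1])) (.node (nat_lit 73) (.leaf ((nat_lit 72), [nat_lit 0, nat_lit 5, nat_lit 2, nat_lit 5, nat_lit 2, nat_lit 3, nat_lit 1, nat_lit 0, nat_lit 2, nat_lit 0])) (.leaf ((nat_lit 73), [nat_lit 3, nat_lit 5, nat_lit 3, nat_lit 0, nat_lit 5, nat_lit 3, nat_lit 4, nat_lit 2, nat_lit 4, nat_lit 3, nat_lit 1, nat_lit 0, nat_lit 1, nat_lit 0])))) (.node (nat_lit 75) (.leaf ((nat_lit 74), [nat_lit 4, nat_lit 1, nat_lit 0, nat_lit 5,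 nat_lit 1, nat_lit 0, nat_lit 4, nat_lit 3, nat_lit 2, nat_lit 0, nat_lit 2, nat_lit 2, nat_lit 0, nat_lit 2])) (.node (nat_lit 76) (.leaf ((nat_lit 75), [nat_lit 5, nat_lit 1, nat_lit 0, nat_lit 2, nat_lit 5, nat_lit 1, nat_lit 3, nat_lit 4, nat_lit 2, nat_lit 2, nat_lit 0, nat_lit 2, nat_lit 2, nat_lit 0, nat_lit 1, nat_lit 0])) (.leaf ((nat_lit 76), [nat_lit 1, nat_lit 5, nat_lit 0, nat_lit 4, nat_lit 0, nat_lit 1, nat_lit 4, nat_lit 3, nat_lit 0, nat_lit 1, nat_lit 0, nat_lit 2, nat_lit 0]))))))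
 (.node (nat_lit 82) (.node (nat_lit 79) (.node (nat_lit 78) (.leaf ((nat_lit 77), [nat_lit 1, nat_lit 0, nat_lit 2, nat_lit 5, nat_lit 3, nat_lit 0, nat_lit 1, nat_lit 4, nat_lit 0, nat_lit 2, nat_lit 2, nat_lit 0])) (.leaf ((nat_lit 78), [nat_lit 4, nat_lit 5, nat_lit 3, nat_lit 5, nat_lit 2, nat_lit 2, nat_lit 3, nat_lit 4, nat_lit 1, nat_lit 0, nat_lit 2, nat_lit 2, nat_lit 0, nat_lit 1, nat_lit 0]))) (.node (nat_lit 80) (.leaf ((nat_lit 79), [nat_lit 2, nat_lit 0, nat_lit 5, nat_lit 0, nat_lit 3, nat_lit 0, nat_lit 2])) (.node (nat_lit 81) (.leaf ((nat_lit 80), [nat_lit 4, nat_lit 3, nat_lit 5, nat_lit 0, nat_lit 4, nat_lit 2, nat_lit 0, nat_lit 4, nat_lit 1, nat_lit 0, nat_lit 2, nat_lit 0, nat_lit 1, nat_lit 0])) (.leaf ((nat_lit 81), [nat_lit 5, nat_lit 2, nat_lit 5, nat_lit 4, nat_lit 1, nat_lit 3, nat_lit 0, nat_lit 3, nat_lit 1, nat_lit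 0, nat_lit 2, nat_lit 2, nat_lit 0, nat_lit 1])))))
 (.node (nat_lit 85) (.node (nat_lit 83) (.leaf ((nat_lit 82), [nat_lit 3, nat_lit 4, nat_lit 5, nat_lit 2, nat_lit 4, nat_lit 0, nat_lit 4, nat_lit 0, nat_lit 4, nat_lit 2, nat_lit 0, nat_lit 1, nat_lit 0, nat_lit 1])) (.node (nat_lit 84) (.leaf ((nat_lit 83), [nat_lit 5, nat_lit 1, nat_lit 0, nat_lit 2, nat_lit 5, nat_lit 4, nat_lit 3, nat_lit 2, nat_lit 2, nat_lit 3, nat_lit 2, nat_lit 0, nat_lit 2, nat_lit 2, nat_lit 0, nat_lit 2, nat_lit 2])) (.leaf ((nat_lit 84), [nat_lit 3, nat_lit 2, nat_lit 5, nat_lit 0, nat_lit 3, nat_lit 1, nat_lit 3, nat_lit 2, nat_lit 2, nat_lit 0, nat_lit 1, nat_lit 0, nat_lit 2, nat_lit 2])))) (.node (nat_lit 86) (.leaf ((nat_lit 85), [nat_lit 4, nat_lit 5, nat_lit 3, nat_lit 5, nat_lit 0, nat_lit 3, nat_lit 0, nat_lit 2, nat_lit 4, nat_lit 3, nat_lit 1, nat_lit 0,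 nat_lit 2, nat_lit 2, nat_lit 0, nat_lit 1, nat_lit 0])) (.node (nat_lit 87) (.leaf ((nat_lit 86), [nat_lit 5, nat_lit 4, nat_lit 5, nat_lit 4, nat_lit 0, nat_lit 1, nat_lit 0, nat_lit 1, nat_lit 0, nat_lit 3, nat_lit 0, nat_lit 1, nat_lit 0, nat_lit 2, nat_lit 2, nat_lit 0, nat_lit 1, nat_lit 0])) (.leaf ((nat_lit 87), [nat_lit 4, nat_lit 3, nat_lit 5, nat_lit 3, nat_lit 4, nat_lit 2, nat_lit 0, nat_lit 2, nat_lit 3, nat_lit 2, nat_lit 2, nat_lit 0, nat_lit 1, nat_lit 0, nat_lit 2])))))))))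
 (.node (nat_lit 132) (.node (nat_lit 110) (.node (nat_lit 99) (.node (nat_lit 93) (.node (nat_lit 90) (.node (nat_lit 89) (.leaf ((nat_lit 88), [nat_lit 3, nat_lit 5, nat_lit 0, nat_lit 5, nat_lit 2, nat_lit 0, nat_lit 3, nat_lit 0, nat_lit 1, nat_lit 0, nat_lit 2, nat_lit 0, nat_lit 2, nat_lit 2, nat_lit 0])) (.leaf ((nat_lit 89), [nat_lit 5, nat_lit 1, nat_lit 5, nat_lit 0, nat_lit 5, nat_lit 3, nat_lit 1, nat_lit 4, nat_lit 0, nat_lit 4, nat_lit 3, nat_lit 2, nat_lit 0]))) (.node (nat_lit 91) (.leaf ((nat_lit 90), [nat_lit 5, nat_lit 1, nat_lit 5, nat_lit 0, nat_lit 5, nat_lit 1, nat_lit 3, nat_lit 4, nat_lit 3, nat_lit 0, nat_lit 1, nat_lit 0, nat_lit 2, nat_lit 0])) (.node (nat_lit 92) (.leaf ((nat_lit 91), [nat_lit 3, nat_lit 5, nat_lit 2, nat_lit 5, nat_lit 1, nat_lit 0, nat_lit 3, nat_lit 4, nat_lit 1, nat_lit 0, nat_lit 1, nat_lit 0, nat_lit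 2, nat_lit 0, nat_lit 2, nat_lit 0])) (.leaf ((nat_lit 92), [nat_lit 0, nat_lit 2, nat_lit 5, nat_lit 3, nat_lit 4, nat_lit 2, nat_lit 4, nat_lit 2, nat_lit 3, nat_lit 2, nat_lit 0, nat_lit 1, nat_lit 0, nat_lit 2, nat_lit 0, nat_lit 2])))))
 (.node (nat_lit 96) (.node (nat_lit 94) (.leaf ((nat_lit 93), [nat_lit 5, nat_lit 1, nat_lit 0, nat_lit 2, nat_lit 5, nat_lit 0, nat_lit 4, nat_lit 2, nat_lit 3, nat_lit 1, nat_lit 3, nat_lit 0, nat_lit 1, nat_lit 0, nat_lit 2, nat_lit 2, nat_lit 0])) (.node (nat_lit 95) (.leaf ((nat_lit 94), [nat_lit 5, nat_lit 3, nat_lit 2, nat_lit 5, nat_lit 2, nat_lit 4, nat_lit 3, nat_lit 2, nat_lit 3, nat_lit 1, nat_lit 0, nat_lit 1, nat_lit 0, nat_lit 2, nat_lit 0])) (.leaf ((nat_lit 95), [nat_lit 1, nat_lit 5, nat_lit 2, nat_lit 5, nat_lit 1, nat_lit 3, nat_lit 2, nat_lit 0, nat_lit 4, nat_lit 1, nat_lit 0, nat_lit 2,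 nat_lit 0, nat_lit 2])))) (.node (nat_lit 97) (.leaf ((nat_lit 96), [nat_lit 5, nat_lit 4, nat_lit 5, nat_lit 1, nat_lit 5, nat_lit 3, nat_lit 2, nat_lit 0, nat_lit 4, nat_lit 1, nat_lit 4, nat_lit 2, nat_lit 0, nat_lit 2, nat_lit 2, nat_lit 0, nat_lit 1, nat_lit 0])) (.node (nat_lit 98) (.leaf ((nat_lit 76), [nat_lit 5, nat_lit 3, nat_lit 0, nat_lit 5, nat_lit 3, nat_lit 2, nat_lit 3, nat_lit 2, nat_lit 3, nat_lit 2])) (.leaf ((nat_lit 97), [nat_lit 2, nat_lit 5, nat_lit 0, nat_lit 5, nat_lit 4, nat_lit 1, nat_lit 3, nat_lit 4, nat_lit 2, nat_lit 3, nat_lit 1, nat_lit 0, nat_lit 1]))))))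
 (.node (nat_lit 104) (.node (nat_lit 101) (.node (nat_lit 100) (.leaf ((nat_lit 98), [nat_lit 2, nat_lit 4, nat_lit 2, nat_lit 0, nat_lit 5, nat_lit 1, nat_lit 3, nat_lit 1, nat_lit 3, nat_lit 0, nat_lit 3, nat_lit 2, nat_lit 2, nat_lit 0, nat_lit 2])) (.leaf ((nat_lit 99), [nat_lit 4, nat_lit 1, nat_lit 5, nat_lit 3, nat_lit 5, nat_lit 1, nat_lit 3, nat_lit 2, nat_lit 0, nat_lit 4, nat_lit 2, nat_lit 0, nat_lit 2, nat_lit 0, nat_lit 1]))) (.node (nat_lit 102) (.leaf ((nat_lit 100), [nat_lit 5, nat_lit 4, nat_lit 0, nat_lit 5, nat_lit 4, nat_lit 0, nat_lit 4, nat_lit 1, nat_lit 3, nat_lit 0, nat_lit 1, nat_lit 0, nat_lit 2, nat_lit 0, nat_lit 2])) (.node (nat_lit 103) (.leaf ((nat_lit 101), [nat_lit 3, nat_lit 2, nat_lit 5, nat_lit 0, nat_lit 5, nat_lit 0, nat_lit 4, nat_lit 1, nat_lit 0, nat_lit 4, nat_lit 0, nat_lit 2, nat_lit 0, nat_lit 1, nat_lit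 0, nat_lit 1, nat_lit 0])) (.leaf ((nat_lit 102), [nat_lit 4, nat_lit 5, nat_lit 3, nat_lit 5, nat_lit 4, nat_lit 1, nat_lit 4, nat_lit 3, nat_lit 2, nat_lit 0, nat_lit 2, nat_lit 0, nat_lit 1])))))
 (.node (nat_lit 107) (.node (nat_lit 105) (.leaf ((nat_lit 103), [nat_lit 4, nat_lit 5, nat_lit 2, nat_lit 3, nat_lit 5, nat_lit 0, nat_lit 3, nat_lit 0, nat_lit 2, nat_lit 4, nat_lit 3, nat_lit 1, nat_lit 0, nat_lit 1])) (.node (nat_lit 106) (.leaf ((nat_lit 104), [nat_lit 3, nat_lit 5, nat_lit 3, nat_lit 0, nat_lit 5, nat_lit 2, nat_lit 4, nat_lit 2, nat_lit 3, nat_lit 1, nat_lit 3, nat_lit 2, nat_lit 0, nat_lit 2, nat_lit 0, nat_lit 1])) (.leaf ((nat_lit 105), [nat_lit 2, nat_lit 3, nat_lit 5, nat_lit 1, nat_lit 0, nat_lit 3, nat_lit 4, nat_lit 0, nat_lit 1, nat_lit 0])))) (.node (nat_lit 108) (.leaf ((nat_lit 106), [nat_lit 5, nat_lit 4, nat_lit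 3, nat_lit 5, nat_lit 2, nat_lit 5, nat_lit 3, nat_lit 4, nat_lit 1, nat_lit 4, nat_lit 3, nat_lit 2, nat_lit 0, nat_lit 2, nat_lit 0, nat_lit 1, nat_lit 0])) (.node (nat_lit 109) (.leaf ((nat_lit 107), [nat_lit 1, nat_lit 0, nat_lit 3, nat_lit 5, nat_lit 1, nat_lit 0, nat_lit 2, nat_lit 3, nat_lit 2, nat_lit 0])) (.leaf ((nat_lit 108), [nat_lit 4, nat_lit 2, nat_lit 5, nat_lit 1, nat_lit 5, nat_lit 4, nat_lit 3, nat_lit 1, nat_lit 4, nat_lit 3, nat_lit 2, nat_lit 0, nat_lit 2, nat_lit 2])))))))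
 (.node (nat_lit 121) (.node (nat_lit 115) (.node (nat_lit 112) (.node (nat_lit 111) (.leaf ((nat_lit 109), [nat_lit 5, nat_lit 3, nat_lit 2, nat_lit 0, nat_lit 5, nat_lit 3, nat_lit 0, nat_lit 4, nat_lit 2, nat_lit 0, nat_lit 3, nat_lit 2, nat_lit 2, nat_lit 0, nat_lit 2, nat_lit 2, nat_lit 0])) (.leaf ((nat_lit 110), [nat_lit 4, nat_lit 5, nat_lit 2, nat_lit 3, nat_lit 5, nat_lit 4, nat_lit 1, nat_lit 4, nat_lit 2, nat_lit 4, nat_lit 0, nat_lit 2, nat_lit 0, nat_lit 1, nat_lit 0]))) (.node (nat_lit 113) (.leaf ((nat_lit 111), [nat_lit 2, nat_lit 3, nat_lit 5, nat_lit 3, nat_lit 0, nat_lit 3, nat_lit 0, nat_lit 2, nat_lit 3, nat_lit 2, nat_lit 2])) (.node (nat_lit 114) (.leaf ((nat_lit 112), [nat_lit 5, nat_lit 1, nat_lit 3, nat_lit 0, nat_lit 5, nat_lit 0, nat_lit 1, nat_lit 3, nat_lit 0, nat_lit 3, nat_lit 0, nat_lit 2, nat_lit 2, nat_lit 0, nat_lit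 2, nat_lit 2])) (.leaf ((nat_lit 113), [nat_lit 5, nat_lit 4, nat_lit 5, nat_lit 3, nat_lit 5, nat_lit 0, nat_lit 4, nat_lit 2, nat_lit 3, nat_lit 0, nat_lit 3, nat_lit 2, nat_lit 0, nat_lit 1, nat_lit 0, nat_lit 2, nat_lit 0])))))
 (.node (nat_lit 118) (.node (nat_lit 116) (.leaf ((nat_lit 114), [nat_lit 3, nat_lit 5, nat_lit 0, nat_lit 3, nat_lit 5, nat_lit 3, nat_lit 2, nat_lit 3, nat_lit 0, nat_lit 3, nat_lit 1, nat_lit 0, nat_lit 2, nat_lit 2, nat_lit 0, nat_lit 1, nat_lit 0])) (.node (nat_lit 117) (.leaf ((nat_lit 115), [nat_lit 5, nat_lit 2, nat_lit 5, nat_lit 2, nat_lit 2, nat_lit 3, nat_lit 2, nat_lit 4, nat_lit 1, nat_lit 0, nat_lit 2, nat_lit 0])) (.leaf ((nat_lit 116), [nat_lit 4, nat_lit 5, nat_lit 2, nat_lit 3, nat_lit 5, nat_lit 0, nat_lit 2, nat_lit 3, nat_lit 2, nat_lit 3, nat_lit 0, nat_lit 1, nat_lit 0, nat_lit 1, nat_lit 0]))))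 (.node (nat_lit 119) (.leaf ((nat_lit 117), [nat_lit 3, nat_lit 5, nat_lit 0, nat_lit 3, nat_lit 5, nat_lit 0, nat_lit 4, nat_lit 3, nat_lit 2, nat_lit 0, nat_lit 3, nat_lit 1, nat_lit 0, nat_lit 2])) (.node (nat_lit 120) (.leaf ((nat_lit 118), [nat_lit 1, nat_lit 0, nat_lit 2, nat_lit 5, nat_lit 0, nat_lit 3, nat_lit 4, nat_lit 1, nat_lit 0, nat_lit 3, nat_lit 0, nat_lit 2, nat_lit 0, nat_lit 1, nat_lit 0, nat_lit 1])) (.leaf ((nat_lit 119), [nat_lit 4, nat_lit 3, nat_lit 2, nat_lit 5, nat_lit 3, nat_lit 2, nat_lit 2, nat_lit 4, nat_lit 3, nat_lit 0, nat_lit 2, nat_lit 2, nat_lit 0, nat_lit 1, nat_lit 0]))))))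
 (.node (nat_lit 126) (.node (nat_lit 123) (.node (nat_lit 122) (.leaf ((nat_lit 120), [nat_lit 0, nat_lit 5, nat_lit 2, nat_lit 3, nat_lit 5, nat_lit 3, nat_lit 0, nat_lit 3, nat_lit 1, nat_lit 4, nat_lit 0, nat_lit 2, nat_lit 0, nat_lit 2, nat_lit 2])) (.leaf ((nat_lit 121), [nat_lit 3, nat_lit 4, nat_lit 5, nat_lit 2, nat_lit 5, nat_lit 3, nat_lit 4, nat_lit 2, nat_lit 4, nat_lit 3, nat_lit 2, nat_lit 2, nat_lit 0, nat_lit 2, nat_lit 2, nat_lit 0, nat_lit 1]))) (.node (nat_lit 124) (.leaf ((nat_lit 122), [nat_lit 1, nat_lit 3, nat_lit 2, nat_lit 5, nat_lit 3, nat_lit 2, nat_lit 0, nat_lit 2, nat_lit 4, nat_lit 3, nat_lit 0, nat_lit 2, nat_lit 0, nat_lit 1, nat_lit 0, nat_lit 1, nat_lit 0])) (.node (nat_lit 125) (.leaf ((nat_lit 123), [nat_lit 1, nat_lit 5, nat_lit 2, nat_lit 4, nat_lit 3, nat_lit 0, nat_lit 4, nat_lit 2, nat_lit 2, nat_lit 0,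 nat_lit 2, nat_lit 0])) (.leaf ((nat_lit 124), [nat_lit 5, nat_lit 2, nat_lit 5, nat_lit 4, nat_lit 0, nat_lit 2, nat_lit 2, nat_lit 3, nat_lit 2, nat_lit 2, nat_lit 0, nat_lit 1, nat_lit 0, nat_lit 2])))))
 (.node (nat_lit 129) (.node (nat_lit 127) (.leaf ((nat_lit 125), [nat_lit 3, nat_lit 4, nat_lit 3, nat_lit 5, nat_lit 1, nat_lit 3, nat_lit 4, nat_lit 3, nat_lit 1, nat_lit 3, nat_lit 0, nat_lit 1, nat_lit 0, nat_lit 2, nat_lit 2])) (.node (nat_lit 128) (.leaf ((nat_lit 126), [nat_lit 5, nat_lit 4, nat_lit 0, nat_lit 5, nat_lit 4, nat_lit 3, nat_lit 2, nat_lit 0, nat_lit 2, nat_lit 2, nat_lit 0, nat_lit 2, nat_lit 2, nat_lit 0])) (.leaf ((nat_lit 127), [nat_lit 2, nat_lit 5, nat_lit 4, nat_lit 5, nat_lit 1, nat_lit 4, nat_lit 0, nat_lit 4, nat_lit 3, nat_lit 2, nat_lit 2, nat_lit 0, nat_lit 2, nat_lit 0])))) (.node (nat_lit 130) (.leaf ((nat_lit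 128), [nat_lit 4, nat_lit 2, nat_lit 5, nat_lit 1, nat_lit 5, nat_lit 3, nat_lit 2, nat_lit 0, nat_lit 3, nat_lit 4, nat_lit 2, nat_lit 2, nat_lit 0, nat_lit 2, nat_lit 2, nat_lit 0, nat_lit 2, nat_lit 2, nat_lit 0])) (.node (nat_lit 131) (.leaf ((nat_lit 129), [nat_lit 2, nat_lit 0, nat_lit 1, nat_lit 5, nat_lit 2, nat_lit 3, nat_lit 1, nat_lit 3, nat_lit 0, nat_lit 3, nat_lit 0, nat_lit 1, nat_lit 0, nat_lit 1, nat_lit 0, nat_lit 2, nat_lit 0])) (.leaf ((nat_lit 130), [nat_lit 4, nat_lit 5, nat_lit 1, nat_lit 5, nat_lit 2, nat_lit 2, nat_lit 4, nat_lit 0, nat_lit 4, nat_lit 3, nat_lit 1, nat_lit 0, nat_lit 2, nat_lit 2, nat_lit 0, nat_lit 1]))))))))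
 (.node (nat_lit 154) (.node (nat_lit 143) (.node (nat_lit 137) (.node (nat_lit 134) (.node (nat_lit 133) (.leaf ((nat_lit 131), [nat_lit 2, nat_lit 5, nat_lit 1, nat_lit 5, nat_lit 3, nat_lit 2, nat_lit 0, nat_lit 2, nat_lit 3, nat_lit 0, nat_lit 2, nat_lit 0, nat_lit 2, nat_lit 0])) (.leaf ((nat_lit 132), [nat_lit 5, nat_lit 4, nat_lit 0, nat_lit 5, nat_lit 0, nat_lit 3, nat_lit 4, nat_lit 0, nat_lit 2, nat_lit 0, nat_lit 1, nat_lit 0, nat_lit 1]))) (.node (nat_lit 135) (.leaf ((nat_lit 133), [nat_lit 5, nat_lit 3, nat_lit 2, nat_lit 5, nat_lit 0, nat_lit 3, nat_lit 4, nat_lit 0, nat_lit 3, nat_lit 1, nat_lit 0, nat_lit 2, nat_lit 0, nat_lit 1, nat_lit 0])) (.node (nat_lit 136) (.leaf ((nat_lit 134), [nat_lit 0, nat_lit 2, nat_lit 4, nat_lit 0, nat_lit 5, nat_lit 1, nat_lit 4, nat_lit 3, nat_lit 1, nat_lit 3, nat_lit 2, nat_lit 2, nat_lit 0, nat_lit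 2, nat_lit 2, nat_lit 0, nat_lit 2])) (.leaf ((nat_lit 135), [nat_lit 3, nat_lit 0, nat_lit 2, nat_lit 5, nat_lit 0, nat_lit 4, nat_lit 1, nat_lit 0, nat_lit 2, nat_lit 0, nat_lit 2, nat_lit 2, nat_lit 0])))))
 (.node (nat_lit 140) (.node (nat_lit 138) (.leaf ((nat_lit 136), [nat_lit 4, nat_lit 5, nat_lit 2, nat_lit 3, nat_lit 5, nat_lit 0, nat_lit 4, nat_lit 0, nat_lit 1, nat_lit 0, nat_lit 3, nat_lit 2, nat_lit 2, nat_lit 0, nat_lit 2, nat_lit 0])) (.node (nat_lit 139) (.leaf ((nat_lit 137), [nat_lit 1, nat_lit 5, nat_lit 1, nat_lit 5, nat_lit 2, nat_lit 3, nat_lit 2, nat_lit 0, nat_lit 3, nat_lit 0, nat_lit 2, nat_lit 0, nat_lit 1, nat_lit 0, nat_lit 1])) (.leaf ((nat_lit 138), [nat_lit 0, nat_lit 5, nat_lit 4, nat_lit 0, nat_lit 1, nat_lit 4, nat_lit 3, nat_lit 2, nat_lit 0, nat_lit 1, nat_lit 0, nat_lit 2])))) (.node (nat_lit 141) (.leaf ((nat_lit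 139), [nat_lit 4, nat_lit 3, nat_lit 5, nat_lit 0, nat_lit 5, nat_lit 2, nat_lit 3, nat_lit 2, nat_lit 2, nat_lit 3, nat_lit 0, nat_lit 1, nat_lit 0, nat_lit 2, nat_lit 2])) (.node (nat_lit 142) (.leaf ((nat_lit 140), [nat_lit 0, nat_lit 3, nat_lit 5, nat_lit 4, nat_lit 0, nat_lit 3, nat_lit 0, nat_lit 2, nat_lit 3, nat_lit 1, nat_lit 0, nat_lit 2, nat_lit 0, nat_lit 2, nat_lit 2, nat_lit 0])) (.leaf ((nat_lit 141), [nat_lit 3, nat_lit 1, nat_lit 5, nat_lit 2, nat_lit 5, nat_lit 0, nat_lit 1, nat_lit 3, nat_lit 4, nat_lit 1, nat_lit 3, nat_lit 0, nat_lit 2, nat_lit 0, nat_lit 2, nat_lit 2, nat_lit 0]))))))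
 (.node (nat_lit 148) (.node (nat_lit 145) (.node (nat_lit 144) (.leaf ((nat_lit 142), [nat_lit 4, nat_lit 5, nat_lit 3, nat_lit 2, nat_lit 5, nat_lit 3, nat_lit 1, nat_lit 4, nat_lit 2, nat_lit 4, nat_lit 3, nat_lit 2, nat_lit 0, nat_lit 1, nat_lit 0, nat_lit 1])) (.leaf ((nat_lit 143), [nat_lit 1, nat_lit 0, nat_lit 5, nat_lit 3, nat_lit 5, nat_lit 3, nat_lit 1, nat_lit 3, nat_lit 0, nat_lit 3, nat_lit 2, nat_lit 2, nat_lit 0, nat_lit 2, nat_lit 2, nat_lit 0, nat_lit 2, nat_lit 2, nat_lit 0]))) (.node (nat_lit 146) (.leaf ((nat_lit 144), [nat_lit 0, nat_lit 5, nat_lit 4, nat_lit 2, nat_lit 0, nat_lit 4, nat_lit 2, nat_lit 0, nat_lit 1, nat_lit 0, nat_lit 1, nat_lit 0, nat_lit 2])) (.node (nat_lit 147) (.leaf ((nat_lit 145), [nat_lit 5, nat_lit 0, nat_lit 1, nat_lit 5, nat_lit 2, nat_lit 4, nat_lit 2, nat_lit 3, nat_lit 0])) (.leaf ((nat_lit 146),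 [nat_lit 3, nat_lit 5, nat_lit 2, nat_lit 5, nat_lit 2, nat_lit 2, nat_lit 3, nat_lit 2, nat_lit 4, nat_lit 2, nat_lit 0, nat_lit 2, nat_lit 2])))))
 (.node (nat_lit 151) (.node (nat_lit 149) (.leaf ((nat_lit 147), [nat_lit 1, nat_lit 5, nat_lit 3, nat_lit 5, nat_lit 0, nat_lit 4, nat_lit 2, nat_lit 2, nat_lit 0])) (.node (nat_lit 150) (.leaf ((nat_lit 148), [nat_lit 1, nat_lit 5, nat_lit 3, nat_lit 5, nat_lit 2, nat_lit 3, nat_lit 1, nat_lit 3, nat_lit 4, nat_lit 3, nat_lit 1, nat_lit 0, nat_lit 2, nat_lit 2, nat_lit 0, nat_lit 2, nat_lit 2])) (.leaf ((nat_lit 149), [nat_lit 3, nat_lit 4, nat_lit 5, nat_lit 2, nat_lit 5, nat_lit 2, nat_lit 3, nat_lit 4, nat_lit 3, nat_lit 2, nat_lit 3, nat_lit 0, nat_lit 1, nat_lit 0, nat_lit 2, nat_lit 0])))) (.node (nat_lit 152) (.leaf ((nat_lit 150), [nat_lit 1, nat_lit 4, nat_lit 5, nat_lit 1, nat_lit 5, nat_lit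 3, nat_lit 4, nat_lit 0, nat_lit 4, nat_lit 3, nat_lit 2, nat_lit 0, nat_lit 2, nat_lit 2, nat_lit 0, nat_lit 2, nat_lit 2])) (.node (nat_lit 153) (.leaf ((nat_lit 151), [nat_lit 1, nat_lit 5, nat_lit 0, nat_lit 5, nat_lit 0, nat_lit 3, nat_lit 0, nat_lit 2, nat_lit 3, nat_lit 2, nat_lit 0, nat_lit 2, nat_lit 0])) (.leaf ((nat_lit 152), [nat_lit 1, nat_lit 0, nat_lit 2, nat_lit 5, nat_lit 4, nat_lit 0, nat_lit 1, nat_lit 0, nat_lit 1, nat_lit 0, nat_lit 3, nat_lit 2, nat_lit 0])))))))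
 (.node (nat_lit 165) (.node (nat_lit 159) (.node (nat_lit 156) (.node (nat_lit 155) (.leaf ((nat_lit 153), [nat_lit 4, nat_lit 5, nat_lit 2, nat_lit 3, nat_lit 5, nat_lit 3, nat_lit 1, nat_lit 4, nat_lit 0, nat_lit 4, nat_lit 3, nat_lit 1, nat_lit 0, nat_lit 1, nat_lit 0, nat_lit 2, nat_lit 2])) (.leaf ((nat_lit 154), [nat_lit 4, nat_lit 0, nat_lit 5, nat_lit 2, nat_lit 5, nat_lit 3, nat_lit 2, nat_lit 0, nat_lit 4, nat_lit 2, nat_lit 0, nat_lit 1, nat_lit 0, nat_lit 2, nat_lit 0]))) (.node (nat_lit 157) (.leaf ((nat_lit 155), [nat_lit 5, nat_lit 4, nat_lit 3, nat_lit 2, nat_lit 5, nat_lit 2, nat_lit 4, nat_lit 1, nat_lit 0, nat_lit 2, nat_lit 3, nat_lit 0, nat_lit 2, nat_lit 2, nat_lit 0, nat_lit 2, nat_lit 2, nat_lit 0])) (.node (nat_lit 158) (.leaf ((nat_lit 156), [nat_lit 1, nat_lit 0, nat_lit 2, nat_lit 5, nat_lit 3, nat_lit 1, nat_lit 0, nat_lit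 4, nat_lit 1, nat_lit 3, nat_lit 2, nat_lit 2, nat_lit 0, nat_lit 2])) (.leaf ((nat_lit 157), [nat_lit 1, nat_lit 5, nat_lit 2, nat_lit 5, nat_lit 1, nat_lit 0, nat_lit 4, nat_lit 2, nat_lit 2, nat_lit 0, nat_lit 2, nat_lit 0, nat_lit 1])))))
 (.node (nat_lit 162) (.node (nat_lit 160) (.leaf ((nat_lit 158), [nat_lit 1, nat_lit 5, nat_lit 0, nat_lit 5, nat_lit 3, nat_lit 1, nat_lit 3, nat_lit 1, nat_lit 4, nat_lit 1, nat_lit 0, nat_lit 1, nat_lit 0, nat_lit 2, nat_lit 0, nat_lit 2])) (.node (nat_lit 161) (.leaf ((nat_lit 159), [nat_lit 2, nat_lit 4, nat_lit 0, nat_lit 5, nat_lit 2, nat_lit 3, nat_lit 4, nat_lit 0, nat_lit 2, nat_lit 0, nat_lit 2, nat_lit 2, nat_lit 0, nat_lit 2, nat_lit 0])) (.leaf ((nat_lit 160), [nat_lit 3, nat_lit 2, nat_lit 3, nat_lit 5, nat_lit 4, nat_lit 1, nat_lit 4, nat_lit 3, nat_lit 0, nat_lit 1, nat_lit 0, nat_lit 2, nat_lit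 2])))) (.node (nat_lit 163) (.leaf ((nat_lit 161), [nat_lit 0, nat_lit 5, nat_lit 3, nat_lit 5, nat_lit 1, nat_lit 4, nat_lit 0, nat_lit 4, nat_lit 2, nat_lit 0, nat_lit 3, nat_lit 0, nat_lit 1, nat_lit 0, nat_lit 2, nat_lit 0])) (.node (nat_lit 164) (.leaf ((nat_lit 162), [nat_lit 2, nat_lit 5, nat_lit 0, nat_lit 5, nat_lit 2, nat_lit 0, nat_lit 3, nat_lit 1, nat_lit 3, nat_lit 2, nat_lit 0, nat_lit 2, nat_lit 2, nat_lit 0, nat_lit 2])) (.leaf ((nat_lit 163), [nat_lit 0, nat_lit 2, nat_lit 5, nat_lit 2, nat_lit 4, nat_lit 0, nat_lit 4, nat_lit 0, nat_lit 4, nat_lit 0, nat_lit 1, nat_lit 0, nat_lit 2, nat_lit 0]))))))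
 (.node (nat_lit 170) (.node (nat_lit 167) (.node (nat_lit 166) (.leaf ((nat_lit 164), [nat_lit 0, nat_lit 5, nat_lit 3, nat_lit 2, nat_lit 3, nat_lit 2, nat_lit 2, nat_lit 3, nat_lit 0, nat_lit 1, nat_lit 0, nat_lit 2, nat_lit 0, nat_lit 2])) (.leaf ((nat_lit 165), [nat_lit 2, nat_lit 4, nat_lit 5, nat_lit 2, nat_lit 0, nat_lit 5, nat_lit 1, nat_lit 4, nat_lit 1, nat_lit 4, nat_lit 2, nat_lit 2, nat_lit 0, nat_lit 1, nat_lit 0]))) (.node (nat_lit 168) (.leaf ((nat_lit 166), [nat_lit 1, nat_lit 0, nat_lit 5, nat_lit 1, nat_lit 3, nat_lit 0, nat_lit 4, nat_lit 2, nat_lit 0, nat_lit 1, nat_lit 0, nat_lit 1])) (.node (nat_lit 169) (.leaf ((nat_lit 167), [nat_lit 1, nat_lit 0, nat_lit 3, nat_lit 5, nat_lit 1, nat_lit 3, nat_lit 4, nat_lit 1, nat_lit 0, nat_lit 3, nat_lit 2, nat_lit 2, nat_lit 0, nat_lit 2, nat_lit 2, nat_lit 0, nat_lit 1, nat_lit 0]))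 (.leaf ((nat_lit 168), [nat_lit 5, nat_lit 2, nat_lit 5, nat_lit 2, nat_lit 3, nat_lit 4, nat_lit 2, nat_lit 4, nat_lit 0, nat_lit 2, nat_lit 0, nat_lit 2, nat_lit 2, nat_lit 0, nat_lit 2])))))
 (.node (nat_lit 173) (.node (nat_lit 171) (.leaf ((nat_lit 169), [nat_lit 5, nat_lit 3, nat_lit 5, nat_lit 2, nat_lit 4, nat_lit 0, nat_lit 3, nat_lit 4, nat_lit 0, nat_lit 1, nat_lit 0, nat_lit 2, nat_lit 0, nat_lit 2, nat_lit 0])) (.node (nat_lit 172) (.leaf ((nat_lit 170), [nat_lit 1, nat_lit 4, nat_lit 5, nat_lit 1, nat_lit 5, nat_lit 1, nat_lit 4, nat_lit 3, nat_lit 2, nat_lit 0, nat_lit 3, nat_lit 2, nat_lit 0, nat_lit 1, nat_lit 0, nat_lit 2, nat_lit 0, nat_lit 2])) (.leaf ((nat_lit 171), [nat_lit 2, nat_lit 4, nat_lit 2, nat_lit 0, nat_lit 5, nat_lit 1, nat_lit 0, nat_lit 3, nat_lit 4, nat_lit 1, nat_lit 0, nat_lit 1, nat_lit 0, nat_lit 2])))) (.node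 (nat_lit 174) (.leaf ((nat_lit 172), [nat_lit 1, nat_lit 5, nat_lit 0, nat_lit 5, nat_lit 3, nat_lit 2, nat_lit 3, nat_lit 2, nat_lit 3, nat_lit 2, nat_lit 2, nat_lit 0, nat_lit 2, nat_lit 0, nat_lit 1, nat_lit 0])) (.node (nat_lit 175) (.leaf ((nat_lit 173), [nat_lit 4, nat_lit 1, nat_lit 5, nat_lit 0, nat_lit 5, nat_lit 1, nat_lit 4, nat_lit 2, nat_lit 0, nat_lit 2, nat_lit 3, nat_lit 1, nat_lit 0, nat_lit 2, nat_lit 2, nat_lit 0])) (.leaf ((nat_lit 174), [nat_lit 4, nat_lit 3, nat_lit 5, nat_lit 2, nat_lit 5, nat_lit 3, nat_lit 2, nat_lit 3, nat_lit 0, nat_lit 4, nat_lit 2, nat_lit 0, nat_lit 2, nat_lit 2, nat_lit 0, nat_lit 2, nat_lit 2]))))))))))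
noncomputable def pWd_1 : Tr (ℕ × List ℕ) := (.node (nat_lit 264) (.node (nat_lit 220) (.node (nat_lit 198) (.node (nat_lit 187) (.node (nat_lit 181) (.node (nat_lit 178) (.node (nat_lit 177) (.leaf ((nat_lit 53), [nat_lit 5, nat_lit 1, nat_lit 5, nat_lit 0, nat_lit 5, nat_lit 2, nat_lit 4, nat_lit 3, nat_lit 0, nat_lit 2, nat_lit 4, nat_lit 2, nat_lit 2, nat_lit 0, nat_lit 2, nat_lit 2, nat_lit 0, nat_lit 2, nat_lit 0])) (.leaf ((nat_lit 175), [nat_lit 5, nat_lit 4, nat_lit 5, nat_lit 2, nat_lit 5, nat_lit 0, nat_lit 2, nat_lit 3, nat_lit 4, nat_lit 1, nat_lit 3, nat_lit 2, nat_lit 0, nat_lit 2, nat_lit 0, nat_lit 1, nat_lit 0, nat_lit 1]))) (.node (nat_lit 179) (.leaf ((nat_lit 176), [nat_lit 3, nat_lit 4, nat_lit 5, nat_lit 2, nat_lit 5, nat_lit 0, nat_lit 3, nat_lit 2, nat_lit 0, nat_lit 3, nat_lit 0, nat_lit 2, nat_lit 2, nat_lit 0, nat_lit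 1, nat_lit 0, nat_lit 2, nat_lit 0])) (.node (nat_lit 180) (.leaf ((nat_lit 177), [nat_lit 5, nat_lit 3, nat_lit 0, nat_lit 5, nat_lit 3, nat_lit 1, nat_lit 3, nat_lit 2, nat_lit 2, nat_lit 0])) (.leaf ((nat_lit 178), [nat_lit 4, nat_lit 3, nat_lit 5, nat_lit 0, nat_lit 5, nat_lit 2, nat_lit 4, nat_lit 0, nat_lit 3, nat_lit 2, nat_lit 3, nat_lit 2, nat_lit 0, nat_lit 1, nat_lit 0, nat_lit 2, nat_lit 2, nat_lit 0])))))
 (.node (nat_lit 184) (.node (nat_lit 182) (.leaf ((nat_lit 179), [nat_lit 3, nat_lit 5, nat_lit 2, nat_lit 5, nat_lit 3, nat_lit 1, nat_lit 3, nat_lit 4, nat_lit 2, nat_lit 2, nat_lit 0, nat_lit 2, nat_lit 2, nat_lit 0])) (.node (nat_lit 183) (.leaf ((nat_lit 180), [nat_lit 4, nat_lit 1, nat_lit 5, nat_lit 2, nat_lit 5, nat_lit 2, nat_lit 2, nat_lit 4, nat_lit 3, nat_lit 2, nat_lit 0, nat_lit 1, nat_lit 0, nat_lit 2, nat_lit 0, nat_lit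 2, nat_lit 0])) (.leaf ((nat_lit 181), [nat_lit 4, nat_lit 5, nat_lit 1, nat_lit 5, nat_lit 1, nat_lit 4, nat_lit 3, nat_lit 1, nat_lit 3, nat_lit 2, nat_lit 0, nat_lit 1, nat_lit 0, nat_lit 2, nat_lit 0, nat_lit 2, nat_lit 0])))) (.node (nat_lit 185) (.leaf ((nat_lit 120), [nat_lit 5, nat_lit 3, nat_lit 0, nat_lit 5, nat_lit 3, nat_lit 2, nat_lit 0, nat_lit 3, nat_lit 1, nat_lit 4, nat_lit 2, nat_lit 0, nat_lit 2, nat_lit 2, nat_lit 0, nat_lit 1])) (.node (nat_lit 186) (.leaf ((nat_lit 125), [nat_lit 2, nat_lit 5, nat_lit 0, nat_lit 5, nat_lit 4, nat_lit 1, nat_lit 0, nat_lit 1, nat_lit 0, nat_lit 3, nat_lit 0, nat_lit 2, nat_lit 2, nat_lit 0])) (.leaf ((nat_lit 182), [nat_lit 1, nat_lit 0, nat_lit 3, nat_lit 5, nat_lit 3, nat_lit 0, nat_lit 2, nat_lit 3, nat_lit 1, nat_lit 0, nat_lit 2, nat_lit 0, nat_lit 1]))))))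
 (.node (nat_lit 192) (.node (nat_lit 189) (.node (nat_lit 188) (.leaf ((nat_lit 183), [nat_lit 1, nat_lit 3, nat_lit 2, nat_lit 5, nat_lit 2, nat_lit 3, nat_lit 4, nat_lit 2, nat_lit 3, nat_lit 2, nat_lit 2, nat_lit 0, nat_lit 2, nat_lit 2])) (.leaf ((nat_lit 184), [nat_lit 2, nat_lit 5, nat_lit 0, nat_lit 5, nat_lit 3, nat_lit 0, nat_lit 3, nat_lit 2, nat_lit 0, nat_lit 3, nat_lit 0, nat_lit 2, nat_lit 0, nat_lit 2, nat_lit 2]))) (.node (nat_lit 190) (.leaf ((nat_lit 185), [nat_lit 1, nat_lit 5, nat_lit 1, nat_lit 5, nat_lit 3, nat_lit 4, nat_lit 1, nat_lit 0, nat_lit 4, nat_lit 0, nat_lit 2, nat_lit 0, nat_lit 2, nat_lit 2, nat_lit 0, nat_lit 1, nat_lit 0])) (.node (nat_lit 191) (.leaf ((nat_lit 186), [nat_lit 4, nat_lit 5, nat_lit 1, nat_lit 5, nat_lit 2, nat_lit 3, nat_lit 4, nat_lit 1, nat_lit 3, nat_lit 0, nat_lit 2, nat_lit 2, nat_lit 0]))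 (.leaf ((nat_lit 187), [nat_lit 2, nat_lit 0, nat_lit 1, nat_lit 5, nat_lit 0, nat_lit 4, nat_lit 2, nat_lit 3, nat_lit 0, nat_lit 3, nat_lit 2, nat_lit 0, nat_lit 1, nat_lit 0, nat_lit 1, nat_lit 0])))))
 (.node (nat_lit 195) (.node (nat_lit 193) (.leaf ((nat_lit 188), [nat_lit 4, nat_lit 2, nat_lit 5, nat_lit 1, nat_lit 4, nat_lit 1, nat_lit 0, nat_lit 3, nat_lit 2, nat_lit 2, nat_lit 0, nat_lit 1, nat_lit 0, nat_lit 2, nat_lit 2])) (.node (nat_lit 194) (.leaf ((nat_lit 189), [nat_lit 4, nat_lit 3, nat_lit 0, nat_lit 5, nat_lit 1, nat_lit 4, nat_lit 2, nat_lit 3, nat_lit 1, nat_lit 3, nat_lit 2, nat_lit 0, nat_lit 2, nat_lit 2])) (.leaf ((nat_lit 190), [nat_lit 2, nat_lit 0, nat_lit 5, nat_lit 3, nat_lit 2, nat_lit 0, nat_lit 2, nat_lit 2, nat_lit 3, nat_lit 2, nat_lit 2, nat_lit 0, nat_lit 1, nat_lit 0, nat_lit 2, nat_lit 2, nat_lit 0])))) (.node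 (nat_lit 196) (.leaf ((nat_lit 191), [nat_lit 0, nat_lit 5, nat_lit 0, nat_lit 1, nat_lit 5, nat_lit 3, nat_lit 0, nat_lit 4, nat_lit 1, nat_lit 3, nat_lit 2, nat_lit 0, nat_lit 1, nat_lit 0, nat_lit 1])) (.node (nat_lit 197) (.leaf ((nat_lit 192), [nat_lit 1, nat_lit 5, nat_lit 2, nat_lit 3, nat_lit 4, nat_lit 1, nat_lit 0, nat_lit 3, nat_lit 1, nat_lit 0, nat_lit 2, nat_lit 0])) (.leaf ((nat_lit 193), [nat_lit 4, nat_lit 2, nat_lit 0, nat_lit 5, nat_lit 2, nat_lit 4, nat_lit 3, nat_lit 0, nat_lit 2, nat_lit 4, nat_lit 0, nat_lit 1, nat_lit 0, nat_lit 2, nat_lit 0, nat_lit 2, nat_lit 2, nat_lit 0])))))))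
 (.node (nat_lit 209) (.node (nat_lit 203) (.node (nat_lit 200) (.node (nat_lit 199) (.leaf ((nat_lit 194), [nat_lit 3, nat_lit 5, nat_lit 3, nat_lit 0, nat_lit 5, nat_lit 1, nat_lit 0, nat_lit 2, nat_lit 4, nat_lit 1, nat_lit 0, nat_lit 2, nat_lit 0, nat_lit 2])) (.leaf ((nat_lit 195), [nat_lit 5, nat_lit 2, nat_lit 5, nat_lit 3, nat_lit 1, nat_lit 3, nat_lit 4, nat_lit 3, nat_lit 1, nat_lit 0, nat_lit 1, nat_lit 0, nat_lit 2, nat_lit 0, nat_lit 2, nat_lit 0]))) (.node (nat_lit 201) (.leaf ((nat_lit 196), [nat_lit 4, nat_lit 1, nat_lit 0, nat_lit 5, nat_lit 4, nat_lit 3, nat_lit 2, nat_lit 4, nat_lit 2, nat_lit 3, nat_lit 2, nat_lit 2, nat_lit 0, nat_lit 2, nat_lit 2, nat_lit 0])) (.node (nat_lit 202) (.leaf ((nat_lit 197), [nat_lit 4, nat_lit 5, nat_lit 4, nat_lit 0, nat_lit 5, nat_lit 1, nat_lit 4, nat_lit 0, nat_lit 4, nat_lit 2, nat_lit 0, nat_lit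 3, nat_lit 2, nat_lit 0, nat_lit 2, nat_lit 0, nat_lit 1, nat_lit 0])) (.leaf ((nat_lit 198), [nat_lit 3, nat_lit 1, nat_lit 5, nat_lit 0, nat_lit 5, nat_lit 1, nat_lit 4, nat_lit 0, nat_lit 4, nat_lit 2, nat_lit 0, nat_lit 3, nat_lit 2])))))
 (.node (nat_lit 206) (.node (nat_lit 204) (.leaf ((nat_lit 199), [nat_lit 2, nat_lit 5, nat_lit 4, nat_lit 0, nat_lit 3, nat_lit 1, nat_lit 0, nat_lit 1, nat_lit 0, nat_lit 2, nat_lit 0])) (.node (nat_lit 205) (.leaf ((nat_lit 200), [nat_lit 4, nat_lit 5, nat_lit 2, nat_lit 5, nat_lit 2, nat_lit 3, nat_lit 4, nat_lit 3, nat_lit 0, nat_lit 2, nat_lit 0, nat_lit 2, nat_lit 2, nat_lit 0])) (.leaf ((nat_lit 201), [nat_lit 2, nat_lit 4, nat_lit 5, nat_lit 2, nat_lit 0, nat_lit 5, nat_lit 4, nat_lit 0, nat_lit 4, nat_lit 0, nat_lit 1, nat_lit 0, nat_lit 1, nat_lit 0, nat_lit 2, nat_lit 0])))) (.node (nat_lit 207)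 (.leaf ((nat_lit 202), [nat_lit 1, nat_lit 0, nat_lit 5, nat_lit 3, nat_lit 0, nat_lit 4, nat_lit 1, nat_lit 0, nat_lit 2, nat_lit 0])) (.node (nat_lit 208) (.leaf ((nat_lit 203), [nat_lit 0, nat_lit 2, nat_lit 5, nat_lit 3, nat_lit 2, nat_lit 0, nat_lit 4, nat_lit 3, nat_lit 2, nat_lit 0, nat_lit 2, nat_lit 0, nat_lit 1, nat_lit 0])) (.leaf ((nat_lit 204), [nat_lit 5, nat_lit 3, nat_lit 0, nat_lit 5, nat_lit 1, nat_lit 3, nat_lit 4, nat_lit 1, nat_lit 3, nat_lit 1, nat_lit 0, nat_lit 1, nat_lit 0]))))))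
 (.node (nat_lit 214) (.node (nat_lit 211) (.node (nat_lit 210) (.leaf ((nat_lit 205), [nat_lit 3, nat_lit 2, nat_lit 5, nat_lit 4, nat_lit 1, nat_lit 3, nat_lit 2, nat_lit 0, nat_lit 2, nat_lit 0, nat_lit 1, nat_lit 0])) (.leaf ((nat_lit 206), [nat_lit 5, nat_lit 4, nat_lit 5, nat_lit 1, nat_lit 5, nat_lit 2, nat_lit 3, nat_lit 0, nat_lit 2, nat_lit 4, nat_lit 3, nat_lit 2, nat_lit 2, nat_lit 0, nat_lit 2, nat_lit 2, nat_lit 0, nat_lit 2]))) (.node (nat_lit 212) (.leaf ((nat_lit 207), [nat_lit 5, nat_lit 3, nat_lit 4, nat_lit 0, nat_lit 4, nat_lit 3, nat_lit 0, nat_lit 2, nat_lit 0, nat_lit 1, nat_lit 0])) (.node (nat_lit 213) (.leaf ((nat_lit 208), [nat_lit 4, nat_lit 3, nat_lit 5, nat_lit 3, nat_lit 0, nat_lit 4, nat_lit 1, nat_lit 0, nat_lit 3, nat_lit 1, nat_lit 0, nat_lit 2, nat_lit 2])) (.leaf ((nat_lit 209), [nat_lit 3, nat_lit 5, nat_lit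 0, nat_lit 5, nat_lit 4, nat_lit 2, nat_lit 3, nat_lit 2, nat_lit 3, nat_lit 0, nat_lit 2, nat_lit 2, nat_lit 0, nat_lit 1])))))
 (.node (nat_lit 217) (.node (nat_lit 215) (.leaf ((nat_lit 210), [nat_lit 4, nat_lit 5, nat_lit 1, nat_lit 5, nat_lit 2, nat_lit 2, nat_lit 0, nat_lit 4, nat_lit 0, nat_lit 2, nat_lit 2, nat_lit 0, nat_lit 2])) (.node (nat_lit 216) (.leaf ((nat_lit 52), [nat_lit 4, nat_lit 5, nat_lit 1, nat_lit 3, nat_lit 4, nat_lit 0, nat_lit 2, nat_lit 0])) (.leaf ((nat_lit 211), [nat_lit 2, nat_lit 2, nat_lit 0, nat_lit 5, nat_lit 4, nat_lit 2, nat_lit 4, nat_lit 0, nat_lit 1, nat_lit 0, nat_lit 3, nat_lit 0, nat_lit 2, nat_lit 0])))) (.node (nat_lit 218) (.leaf ((nat_lit 212), [nat_lit 2, nat_lit 2, nat_lit 5, nat_lit 3, nat_lit 2, nat_lit 0, nat_lit 4, nat_lit 1, nat_lit 0, nat_lit 2, nat_lit 2, nat_lit 0, nat_lit 1])) (.node (nat_lit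 219) (.leaf ((nat_lit 213), [nat_lit 5, nat_lit 4, nat_lit 2, nat_lit 0, nat_lit 5, nat_lit 1, nat_lit 4, nat_lit 2, nat_lit 0, nat_lit 2, nat_lit 3, nat_lit 1, nat_lit 0])) (.leaf ((nat_lit 214), [nat_lit 5, nat_lit 2, nat_lit 2, nat_lit 0, nat_lit 5, nat_lit 4, nat_lit 1, nat_lit 3, nat_lit 2, nat_lit 2, nat_lit 0, nat_lit 2]))))))))
 (.node (nat_lit 242) (.node (nat_lit 231) (.node (nat_lit 225) (.node (nat_lit 222) (.node (nat_lit 221) (.leaf ((nat_lit 215), [nat_lit 2, nat_lit 5, nat_lit 4, nat_lit 5, nat_lit 3, nat_lit 4, nat_lit 2, nat_lit 0, nat_lit 2, nat_lit 3, nat_lit 0, nat_lit 2, nat_lit 2, nat_lit 0, nat_lit 1, nat_lit 0, nat_lit 2, nat_lit 0])) (.leaf ((nat_lit 216), [nat_lit 2, nat_lit 4, nat_lit 2, nat_lit 4, nat_lit 0, nat_lit 2, nat_lit 2, nat_lit 0, nat_lit 2, nat_lit 0]))) (.node (nat_lit 223) (.leaf ((nat_lit 217), [nat_lit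 1, nat_lit 0, nat_lit 2, nat_lit 5, nat_lit 4, nat_lit 1, nat_lit 0, nat_lit 4, nat_lit 0, nat_lit 2, nat_lit 0, nat_lit 2, nat_lit 2])) (.node (nat_lit 224) (.leaf ((nat_lit 218), [nat_lit 5, nat_lit 1, nat_lit 3, nat_lit 0, nat_lit 5, nat_lit 1, nat_lit 3, nat_lit 4, nat_lit 1, nat_lit 0, nat_lit 3, nat_lit 0, nat_lit 2, nat_lit 0, nat_lit 2, nat_lit 2, nat_lit 0])) (.leaf ((nat_lit 219), [nat_lit 4, nat_lit 0, nat_lit 5, nat_lit 2, nat_lit 5, nat_lit 2, nat_lit 3, nat_lit 4, nat_lit 2, nat_lit 4, nat_lit 0, nat_lit 2, nat_lit 0, nat_lit 2, nat_lit 2, nat_lit 0, nat_lit 1, nat_lit 0])))))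
 (.node (nat_lit 228) (.node (nat_lit 226) (.leaf ((nat_lit 220), [nat_lit 2, nat_lit 3, nat_lit 5, nat_lit 3, nat_lit 0, nat_lit 4, nat_lit 2, nat_lit 0, nat_lit 3, nat_lit 2, nat_lit 0, nat_lit 2, nat_lit 0])) (.node (nat_lit 227) (.leaf ((nat_lit 221), [nat_lit 1, nat_lit 5, nat_lit 2, nat_lit 5, nat_lit 0, nat_lit 2, nat_lit 0, nat_lit 2, nat_lit 3, nat_lit 1, nat_lit 0, nat_lit 1, nat_lit 0])) (.leaf ((nat_lit 222), [nat_lit 1, nat_lit 3, nat_lit 2, nat_lit 5, nat_lit 4, nat_lit 1, nat_lit 0, nat_lit 4, nat_lit 3, nat_lit 0, nat_lit 2, nat_lit 2, nat_lit 0, nat_lit 1, nat_lit 0, nat_lit 2])))) (.node (nat_lit 229) (.leaf ((nat_lit 223), [nat_lit 0, nat_lit 5, nat_lit 2, nat_lit 0, nat_lit 5, nat_lit 2, nat_lit 4, nat_lit 2, nat_lit 3, nat_lit 0, nat_lit 2, nat_lit 2, nat_lit 0])) (.node (nat_lit 230) (.leaf ((nat_lit 204), [nat_lit 3, nat_lit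 5, nat_lit 0, nat_lit 3, nat_lit 5, nat_lit 2, nat_lit 3, nat_lit 4, nat_lit 1, nat_lit 3, nat_lit 1, nat_lit 0, nat_lit 1])) (.leaf ((nat_lit 224), [nat_lit 0, nat_lit 5, nat_lit 2, nat_lit 0, nat_lit 5, nat_lit 3, nat_lit 1, nat_lit 3, nat_lit 1, nat_lit 3, nat_lit 2, nat_lit 0, nat_lit 2, nat_lit 2, nat_lit 0, nat_lit 1, nat_lit 0]))))))
 (.node (nat_lit 236) (.node (nat_lit 233) (.node (nat_lit 232) (.leaf ((nat_lit 171), [nat_lit 5, nat_lit 2, nat_lit 3, nat_lit 5, nat_lit 2, nat_lit 3, nat_lit 4, nat_lit 3, nat_lit 2, nat_lit 0, nat_lit 1, nat_lit 0, nat_lit 2, nat_lit 0, nat_lit 2])) (.leaf ((nat_lit 225), [nat_lit 4, nat_lit 5, nat_lit 3, nat_lit 2, nat_lit 5, nat_lit 3, nat_lit 0, nat_lit 4, nat_lit 3, nat_lit 2, nat_lit 3, nat_lit 2, nat_lit 2, nat_lit 0, nat_lit 1, nat_lit 0, nat_lit 2, nat_lit 2]))) (.node (nat_lit 234) (.leaf ((nat_lit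 226), [nat_lit 0, nat_lit 4, nat_lit 5, nat_lit 0, nat_lit 4, nat_lit 1, nat_lit 3, nat_lit 0, nat_lit 3, nat_lit 0, nat_lit 2, nat_lit 2, nat_lit 0, nat_lit 1, nat_lit 0])) (.node (nat_lit 235) (.leaf ((nat_lit 227), [nat_lit 2, nat_lit 0, nat_lit 2, nat_lit 5, nat_lit 3, nat_lit 0, nat_lit 3, nat_lit 2, nat_lit 4, nat_lit 2, nat_lit 0, nat_lit 2, nat_lit 2, nat_lit 0, nat_lit 1])) (.leaf ((nat_lit 228), [nat_lit 5, nat_lit 2, nat_lit 3, nat_lit 0, nat_lit 5, nat_lit 0, nat_lit 4, nat_lit 3, nat_lit 0, nat_lit 4, nat_lit 2, nat_lit 0, nat_lit 2, nat_lit 2, nat_lit 0, nat_lit 2, nat_lit 2, nat_lit 0])))))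
 (.node (nat_lit 239) (.node (nat_lit 237) (.leaf ((nat_lit 229), [nat_lit 5, nat_lit 0, nat_lit 1, nat_lit 5, nat_lit 3, nat_lit 4, nat_lit 3, nat_lit 1, nat_lit 4, nat_lit 3, nat_lit 0, nat_lit 1, nat_lit 0, nat_lit 1, nat_lit 0, nat_lit 2])) (.node (nat_lit 238) (.leaf ((nat_lit 230), [nat_lit 4, nat_lit 5, nat_lit 3, nat_lit 5, nat_lit 3, nat_lit 4, nat_lit 2, nat_lit 0, nat_lit 1, nat_lit 0, nat_lit 1])) (.leaf ((nat_lit 231), [nat_lit 3, nat_lit 0, nat_lit 5, nat_lit 3, nat_lit 2, nat_lit 2, nat_lit 4, nat_lit 3, nat_lit 2, nat_lit 2, nat_lit 0])))) (.node (nat_lit 240) (.leaf ((nat_lit 232), [nat_lit 1, nat_lit 5, nat_lit 0, nat_lit 5, nat_lit 4, nat_lit 0, nat_lit 2, nat_lit 2, nat_lit 3, nat_lit 2, nat_lit 2])) (.node (nat_lit 241) (.leaf ((nat_lit 233), [nat_lit 1, nat_lit 0, nat_lit 3, nat_lit 5, nat_lit 0, nat_lit 3, nat_lit 2, nat_lit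 4, nat_lit 0, nat_lit 1, nat_lit 0, nat_lit 2, nat_lit 2, nat_lit 0, nat_lit 1, nat_lit 0])) (.leaf ((nat_lit 234), [nat_lit 3, nat_lit 5, nat_lit 4, nat_lit 1, nat_lit 3, nat_lit 0, nat_lit 2, nat_lit 2, nat_lit 0, nat_lit 1, nat_lit 0])))))))
 (.node (nat_lit 253) (.node (nat_lit 247) (.node (nat_lit 244) (.node (nat_lit 243) (.leaf ((nat_lit 235), [nat_lit 5, nat_lit 3, nat_lit 2, nat_lit 0, nat_lit 5, nat_lit 4, nat_lit 0, nat_lit 4, nat_lit 1, nat_lit 0, nat_lit 1, nat_lit 0, nat_lit 2, nat_lit 2])) (.leaf ((nat_lit 236), [nat_lit 2, nat_lit 5, nat_lit 0, nat_lit 5, nat_lit 1, nat_lit 3, nat_lit 0, nat_lit 1, nat_lit 0, nat_lit 2, nat_lit 0, nat_lit 2, nat_lit 2]))) (.node (nat_lit 245) (.leaf ((nat_lit 189), [nat_lit 4, nat_lit 0, nat_lit 5, nat_lit 2, nat_lit 5, nat_lit 2, nat_lit 4, nat_lit 3, nat_lit 0, nat_lit 2, nat_lit 4, nat_lit 2, nat_lit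 0, nat_lit 1, nat_lit 0, nat_lit 2, nat_lit 0, nat_lit 2])) (.node (nat_lit 246) (.leaf ((nat_lit 0), [nat_lit 2, nat_lit 5, nat_lit 2, nat_lit 3, nat_lit 5, nat_lit 0, nat_lit 2, nat_lit 3, nat_lit 2, nat_lit 2, nat_lit 0, nat_lit 1, nat_lit 0, nat_lit 2, nat_lit 2])) (.leaf ((nat_lit 237), [nat_lit 0, nat_lit 1, nat_lit 5, nat_lit 0, nat_lit 2, nat_lit 4, nat_lit 2, nat_lit 2, nat_lit 0, nat_lit 2, nat_lit 2, nat_lit 0, nat_lit 2, nat_lit 2])))))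
 (.node (nat_lit 250) (.node (nat_lit 248) (.leaf ((nat_lit 133), [nat_lit 4, nat_lit 2, nat_lit 5, nat_lit 1, nat_lit 5, nat_lit 3, nat_lit 1, nat_lit 4, nat_lit 2, nat_lit 4, nat_lit 3, nat_lit 0, nat_lit 2, nat_lit 2, nat_lit 0, nat_lit 2, nat_lit 0, nat_lit 1])) (.node (nat_lit 249) (.leaf ((nat_lit 238), [nat_lit 4, nat_lit 5, nat_lit 2, nat_lit 3, nat_lit 5, nat_lit 3, nat_lit 4, nat_lit 2, nat_lit 0, nat_lit 2, nat_lit 3, nat_lit 0, nat_lit 1, nat_lit 0, nat_lit 2, nat_lit 2, nat_lit 0])) (.leaf ((nat_lit 239), [nat_lit 5, nat_lit 4, nat_lit 0, nat_lit 5, nat_lit 1, nat_lit 3, nat_lit 0, nat_lit 3, nat_lit 2, nat_lit 3, nat_lit 1, nat_lit 0, nat_lit 2, nat_lit 2])))) (.node (nat_lit 251) (.leaf ((nat_lit 240), [nat_lit 4, nat_lit 2, nat_lit 5, nat_lit 3, nat_lit 5, nat_lit 1, nat_lit 3, nat_lit 2, nat_lit 4, nat_lit 2, nat_lit 3, nat_lit 0,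 nat_lit 1, nat_lit 0, nat_lit 1, nat_lit 0])) (.node (nat_lit 252) (.leaf ((nat_lit 241), [nat_lit 5, nat_lit 2, nat_lit 4, nat_lit 0, nat_lit 5, nat_lit 0, nat_lit 1, nat_lit 3, nat_lit 4, nat_lit 2, nat_lit 3, nat_lit 1, nat_lit 0, nat_lit 2, nat_lit 2, nat_lit 0, nat_lit 1, nat_lit 0])) (.leaf ((nat_lit 242), [nat_lit 4, nat_lit 2, nat_lit 5, nat_lit 1, nat_lit 5, nat_lit 4, nat_lit 0, nat_lit 1, nat_lit 0, nat_lit 1, nat_lit 0, nat_lit 3, nat_lit 2, nat_lit 0, nat_lit 2, nat_lit 2, nat_lit 0, nat_lit 2, nat_lit 0]))))))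
 (.node (nat_lit 258) (.node (nat_lit 255) (.node (nat_lit 254) (.leaf ((nat_lit 243), [nat_lit 4, nat_lit 2, nat_lit 0, nat_lit 5, nat_lit 4, nat_lit 0, nat_lit 4, nat_lit 2, nat_lit 2, nat_lit 0, nat_lit 1, nat_lit 0, nat_lit 2, nat_lit 2])) (.leaf ((nat_lit 244), [nat_lit 0, nat_lit 5, nat_lit 2, nat_lit 3, nat_lit 5, nat_lit 4, nat_lit 0, nat_lit 4, nat_lit 3, nat_lit 2, nat_lit 2, nat_lit 0, nat_lit 1, nat_lit 0, nat_lit 2, nat_lit 2, nat_lit 0]))) (.node (nat_lit 256) (.leaf ((nat_lit 245), [nat_lit 5, nat_lit 4, nat_lit 1, nat_lit 0, nat_lit 5, nat_lit 4, nat_lit 1, nat_lit 0, nat_lit 2, nat_lit 4, nat_lit 0, nat_lit 2, nat_lit 0, nat_lit 2, nat_lit 2, nat_lit 0, nat_lit 1])) (.node (nat_lit 257) (.leaf ((nat_lit 246), [nat_lit 2, nat_lit 2, nat_lit 5, nat_lit 1, nat_lit 3, nat_lit 4, nat_lit 3, nat_lit 0, nat_lit 2, nat_lit 0])) (.leaf ((nat_lit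 247), [nat_lit 1, nat_lit 5, nat_lit 4, nat_lit 1, nat_lit 0, nat_lit 3, nat_lit 1, nat_lit 4, nat_lit 0, nat_lit 1, nat_lit 0, nat_lit 1, nat_lit 0, nat_lit 2, nat_lit 0])))))
 (.node (nat_lit 261) (.node (nat_lit 259) (.leaf ((nat_lit 248), [nat_lit 4, nat_lit 1, nat_lit 0, nat_lit 5, nat_lit 0, nat_lit 1, nat_lit 4, nat_lit 1, nat_lit 0, nat_lit 3, nat_lit 2, nat_lit 0, nat_lit 2, nat_lit 2, nat_lit 0, nat_lit 2])) (.node (nat_lit 260) (.leaf ((nat_lit 249), [nat_lit 5, nat_lit 1, nat_lit 5, nat_lit 0, nat_lit 5, nat_lit 3, nat_lit 1, nat_lit 0, nat_lit 3, nat_lit 1, nat_lit 3, nat_lit 2, nat_lit 2, nat_lit 0, nat_lit 1])) (.leaf ((nat_lit 250), [nat_lit 2, nat_lit 4, nat_lit 2, nat_lit 0, nat_lit 5, nat_lit 3, nat_lit 0, nat_lit 1, nat_lit 3, nat_lit 4, nat_lit 2, nat_lit 3, nat_lit 2, nat_lit 0, nat_lit 1, nat_lit 0, nat_lit 1, nat_lit 0]))))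 (.node (nat_lit 262) (.leaf ((nat_lit 251), [nat_lit 5, nat_lit 4, nat_lit 5, nat_lit 3, nat_lit 5, nat_lit 3, nat_lit 4, nat_lit 2, nat_lit 4, nat_lit 2, nat_lit 3, nat_lit 1, nat_lit 0, nat_lit 2, nat_lit 2, nat_lit 0, nat_lit 2, nat_lit 0])) (.node (nat_lit 263) (.leaf ((nat_lit 252), [nat_lit 4, nat_lit 2, nat_lit 0, nat_lit 5, nat_lit 1, nat_lit 3, nat_lit 1, nat_lit 0, nat_lit 4, nat_lit 0, nat_lit 2, nat_lit 2, nat_lit 0, nat_lit 1])) (.leaf ((nat_lit 253), [nat_lit 5, nat_lit 4, nat_lit 5, nat_lit 2, nat_lit 5, nat_lit 2, nat_lit 3, nat_lit 0, nat_lit 2])))))))))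
 (.node (nat_lit 308) (.node (nat_lit 286) (.node (nat_lit 275) (.node (nat_lit 269) (.node (nat_lit 266) (.node (nat_lit 265) (.leaf ((nat_lit 254), [nat_lit 3, nat_lit 5, nat_lit 2, nat_lit 5, nat_lit 1, nat_lit 3, nat_lit 2, nat_lit 2, nat_lit 3, nat_lit 0, nat_lit 2, nat_lit 0, nat_lit 2, nat_lit 2, nat_lit 0, nat_lit 1, nat_lit 0])) (.leaf ((nat_lit 255), [nat_lit 3, nat_lit 5, nat_lit 3, nat_lit 0, nat_lit 5, nat_lit 3, nat_lit 1, nat_lit 3, nat_lit 4, nat_lit 0, nat_lit 2, nat_lit 0, nat_lit 2, nat_lit 2, nat_lit 0, nat_lit 1]))) (.node (nat_lit 267) (.leaf ((nat_lit 256), [nat_lit 2, nat_lit 2, nat_lit 5, nat_lit 1, nat_lit 5, nat_lit 3, nat_lit 1, nat_lit 3, nat_lit 0, nat_lit 2, nat_lit 4, nat_lit 0, nat_lit 2, nat_lit 0, nat_lit 2, nat_lit 2, nat_lit 0, nat_lit 2])) (.node (nat_lit 268) (.leaf ((nat_lit 257), [nat_lit 5, nat_lit 1, nat_lit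 3, nat_lit 2, nat_lit 5, nat_lit 3, nat_lit 4, nat_lit 2, nat_lit 0, nat_lit 4, nat_lit 1, nat_lit 0, nat_lit 2, nat_lit 2, nat_lit 0, nat_lit 2, nat_lit 2])) (.leaf ((nat_lit 258), [nat_lit 2, nat_lit 0, nat_lit 1, nat_lit 5, nat_lit 4, nat_lit 2, nat_lit 3, nat_lit 0, nat_lit 3, nat_lit 0, nat_lit 2, nat_lit 0, nat_lit 1, nat_lit 0, nat_lit 1, nat_lit 0])))))
 (.node (nat_lit 272) (.node (nat_lit 270) (.leaf ((nat_lit 259), [nat_lit 1, nat_lit 5, nat_lit 3, nat_lit 5, nat_lit 3, nat_lit 4, nat_lit 1, nat_lit 3, nat_lit 1, nat_lit 3, nat_lit 0, nat_lit 1, nat_lit 0, nat_lit 2, nat_lit 0, nat_lit 2, nat_lit 0])) (.node (nat_lit 271) (.leaf ((nat_lit 260), [nat_lit 4, nat_lit 3, nat_lit 5, nat_lit 2, nat_lit 5, nat_lit 4, nat_lit 1, nat_lit 4, nat_lit 1, nat_lit 4, nat_lit 3, nat_lit 2, nat_lit 2, nat_lit 0, nat_lit 1, nat_lit 0, nat_lit 2])) (.leaf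 ((nat_lit 261), [nat_lit 5, nat_lit 4, nat_lit 3, nat_lit 0, nat_lit 5, nat_lit 4, nat_lit 3, nat_lit 2, nat_lit 4, nat_lit 3, nat_lit 0, nat_lit 2, nat_lit 0, nat_lit 2, nat_lit 2])))) (.node (nat_lit 273) (.leaf ((nat_lit 262), [nat_lit 2, nat_lit 3, nat_lit 0, nat_lit 5, nat_lit 1, nat_lit 4, nat_lit 3, nat_lit 0, nat_lit 3, nat_lit 0, nat_lit 1, nat_lit 0, nat_lit 1])) (.node (nat_lit 274) (.leaf ((nat_lit 263), [nat_lit 1, nat_lit 0, nat_lit 5, nat_lit 3, nat_lit 2, nat_lit 0, nat_lit 3, nat_lit 4, nat_lit 0, nat_lit 1, nat_lit 0, nat_lit 2])) (.leaf ((nat_lit 264), [nat_lit 4, nat_lit 3, nat_lit 0, nat_lit 5, nat_lit 3, nat_lit 4, nat_lit 0, nat_lit 2, nat_lit 4, nat_lit 0, nat_lit 2, nat_lit 2, nat_lit 0, nat_lit 2, nat_lit 0]))))))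
 (.node (nat_lit 280) (.node (nat_lit 277) (.node (nat_lit 276) (.leaf ((nat_lit 265), [nat_lit 3, nat_lit 4, nat_lit 5, nat_lit 4, nat_lit 1, nat_lit 0, nat_lit 1, nat_lit 0, nat_lit 3, nat_lit 1, nat_lit 0, nat_lit 2, nat_lit 0, nat_lit 1])) (.leaf ((nat_lit 266), [nat_lit 4, nat_lit 5, nat_lit 3, nat_lit 5, nat_lit 3, nat_lit 4, nat_lit 3, nat_lit 1, nat_lit 3, nat_lit 2, nat_lit 0, nat_lit 1, nat_lit 0, nat_lit 2, nat_lit 0]))) (.node (nat_lit 278) (.leaf ((nat_lit 267), [nat_lit 5, nat_lit 3, nat_lit 2, nat_lit 0, nat_lit 5, nat_lit 3, nat_lit 4, nat_lit 2, nat_lit 4, nat_lit 2, nat_lit 3, nat_lit 2, nat_lit 0, nat_lit 2, nat_lit 2, nat_lit 0])) (.node (nat_lit 279) (.leaf ((nat_lit 268), [nat_lit 4, nat_lit 1, nat_lit 5, nat_lit 3, nat_lit 5, nat_lit 0, nat_lit 4, nat_lit 1, nat_lit 4, nat_lit 0, nat_lit 2, nat_lit 2, nat_lit 0, nat_lit 1,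 nat_lit 0, nat_lit 2, nat_lit 0])) (.leaf ((nat_lit 269), [nat_lit 1, nat_lit 5, nat_lit 0, nat_lit 5, nat_lit 0, nat_lit 4, nat_lit 1, nat_lit 0, nat_lit 4, nat_lit 2, nat_lit 2, nat_lit 0, nat_lit 1, nat_lit 0])))))
 (.node (nat_lit 283) (.node (nat_lit 281) (.leaf ((nat_lit 270), [nat_lit 4, nat_lit 3, nat_lit 0, nat_lit 5, nat_lit 2, nat_lit 4, nat_lit 2, nat_lit 2, nat_lit 4, nat_lit 3, nat_lit 0])) (.node (nat_lit 282) (.leaf ((nat_lit 271), [nat_lit 3, nat_lit 1, nat_lit 5, nat_lit 0, nat_lit 5, nat_lit 1, nat_lit 4, nat_lit 2, nat_lit 4, nat_lit 3, nat_lit 0, nat_lit 2, nat_lit 2, nat_lit 0, nat_lit 1, nat_lit 0, nat_lit 2, nat_lit 0])) (.leaf ((nat_lit 272), [nat_lit 1, nat_lit 0, nat_lit 3, nat_lit 5, nat_lit 1, nat_lit 0, nat_lit 4, nat_lit 1, nat_lit 4, nat_lit 0, nat_lit 1, nat_lit 0, nat_lit 2, nat_lit 2, nat_lit 0, nat_lit 2])))) (.node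 (nat_lit 284) (.leaf ((nat_lit 210), [nat_lit 2, nat_lit 3, nat_lit 5, nat_lit 0, nat_lit 5, nat_lit 3, nat_lit 0, nat_lit 4, nat_lit 1, nat_lit 4, nat_lit 2, nat_lit 0, nat_lit 2, nat_lit 2])) (.node (nat_lit 285) (.leaf ((nat_lit 273), [nat_lit 5, nat_lit 2, nat_lit 0, nat_lit 2, nat_lit 5, nat_lit 4, nat_lit 2, nat_lit 4, nat_lit 2, nat_lit 0, nat_lit 3, nat_lit 2, nat_lit 2, nat_lit 0, nat_lit 2, nat_lit 2])) (.leaf ((nat_lit 274), [nat_lit 3, nat_lit 0, nat_lit 5, nat_lit 3, nat_lit 5, nat_lit 0, nat_lit 1, nat_lit 4, nat_lit 2])))))))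
 (.node (nat_lit 297) (.node (nat_lit 291) (.node (nat_lit 288) (.node (nat_lit 287) (.leaf ((nat_lit 275), [nat_lit 2, nat_lit 5, nat_lit 0, nat_lit 1, nat_lit 5, nat_lit 2, nat_lit 4, nat_lit 2, nat_lit 2, nat_lit 0, nat_lit 2, nat_lit 0, nat_lit 1])) (.leaf ((nat_lit 153), [nat_lit 5, nat_lit 3, nat_lit 2, nat_lit 5, nat_lit 3, nat_lit 2, nat_lit 4, nat_lit 3, nat_lit 2, nat_lit 3, nat_lit 1, nat_lit 0, nat_lit 2, nat_lit 0, nat_lit 1]))) (.node (nat_lit 289) (.leaf ((nat_lit 276), [nat_lit 3, nat_lit 4, nat_lit 5, nat_lit 1, nat_lit 0, nat_lit 3, nat_lit 1, nat_lit 3, nat_lit 1, nat_lit 0, nat_lit 1, nat_lit 0, nat_lit 2, nat_lit 0, nat_lit 2])) (.node (nat_lit 290) (.leaf ((nat_lit 277), [nat_lit 1, nat_lit 5, nat_lit 0, nat_lit 5, nat_lit 3, nat_lit 0, nat_lit 4, nat_lit 1, nat_lit 0, nat_lit 3, nat_lit 0, nat_lit 2, nat_lit 0, nat_lit 1, nat_lit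 0, nat_lit 1, nat_lit 0])) (.leaf ((nat_lit 278), [nat_lit 3, nat_lit 5, nat_lit 3, nat_lit 0, nat_lit 2, nat_lit 0, nat_lit 1, nat_lit 0])))))
 (.node (nat_lit 294) (.node (nat_lit 292) (.leaf ((nat_lit 279), [nat_lit 3, nat_lit 4, nat_lit 3, nat_lit 5, nat_lit 2, nat_lit 3, nat_lit 2, nat_lit 4, nat_lit 3, nat_lit 1, nat_lit 0, nat_lit 1, nat_lit 0, nat_lit 2, nat_lit 2])) (.node (nat_lit 293) (.leaf ((nat_lit 154), [nat_lit 3, nat_lit 5, nat_lit 2, nat_lit 3, nat_lit 0, nat_lit 5, nat_lit 3, nat_lit 0, nat_lit 3, nat_lit 2, nat_lit 0, nat_lit 1, nat_lit 0, nat_lit 2, nat_lit 0, nat_lit 2, nat_lit 0])) (.leaf ((nat_lit 280), [nat_lit 4, nat_lit 5, nat_lit 0, nat_lit 3, nat_lit 5, nat_lit 3, nat_lit 0, nat_lit 3, nat_lit 1])))) (.node (nat_lit 295) (.leaf ((nat_lit 281), [nat_lit 5, nat_lit 4, nat_lit 2, nat_lit 0, nat_lit 5, nat_lit 1, nat_lit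 0, nat_lit 2, nat_lit 0, nat_lit 2, nat_lit 4, nat_lit 1, nat_lit 0, nat_lit 2, nat_lit 0, nat_lit 1, nat_lit 0])) (.node (nat_lit 296) (.leaf ((nat_lit 282), [nat_lit 5, nat_lit 1, nat_lit 5, nat_lit 2, nat_lit 2, nat_lit 0, nat_lit 3, nat_lit 2, nat_lit 2, nat_lit 0, nat_lit 2, nat_lit 0])) (.leaf ((nat_lit 283), [nat_lit 3, nat_lit 4, nat_lit 5, nat_lit 2, nat_lit 5, nat_lit 2, nat_lit 4, nat_lit 1, nat_lit 4, nat_lit 1, nat_lit 3, nat_lit 0, nat_lit 1, nat_lit 0, nat_lit 2, nat_lit 0, nat_lit 2, nat_lit 2]))))))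
 (.node (nat_lit 302) (.node (nat_lit 299) (.node (nat_lit 298) (.leaf ((nat_lit 284), [nat_lit 5, nat_lit 4, nat_lit 3, nat_lit 2, nat_lit 5, nat_lit 3, nat_lit 1, nat_lit 3, nat_lit 4, nat_lit 1, nat_lit 0, nat_lit 1, nat_lit 0, nat_lit 2, nat_lit 0, nat_lit 2])) (.leaf ((nat_lit 285), [nat_lit 4, nat_lit 5, nat_lit 4, nat_lit 0, nat_lit 5, nat_lit 3, nat_lit 2, nat_lit 4, nat_lit 3, nat_lit 2, nat_lit 3, nat_lit 2, nat_lit 2, nat_lit 0, nat_lit 1, nat_lit 0, nat_lit 2, nat_lit 2]))) (.node (nat_lit 300) (.leaf ((nat_lit 281), [nat_lit 2, nat_lit 5, nat_lit 0, nat_lit 5, nat_lit 2, nat_lit 3, nat_lit 1, nat_lit 0, nat_lit 2, nat_lit 3, nat_lit 0, nat_lit 2, nat_lit 0, nat_lit 1])) (.node (nat_lit 301) (.leaf ((nat_lit 286), [nat_lit 4, nat_lit 2, nat_lit 5, nat_lit 2, nat_lit 0, nat_lit 4, nat_lit 1, nat_lit 4, nat_lit 2, nat_lit 2, nat_lit 0]))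 (.leaf ((nat_lit 23), [nat_lit 3, nat_lit 5, nat_lit 2, nat_lit 3, nat_lit 0, nat_lit 5, nat_lit 3, nat_lit 0, nat_lit 3, nat_lit 1, nat_lit 4, nat_lit 0, nat_lit 2, nat_lit 0, nat_lit 2, nat_lit 2, nat_lit 0, nat_lit 2])))))
 (.node (nat_lit 305) (.node (nat_lit 303) (.leaf ((nat_lit 287), [nat_lit 4, nat_lit 0, nat_lit 5, nat_lit 2, nat_lit 5, nat_lit 1, nat_lit 0, nat_lit 4, nat_lit 3, nat_lit 2, nat_lit 2, nat_lit 0, nat_lit 2, nat_lit 2, nat_lit 0, nat_lit 1])) (.node (nat_lit 304) (.leaf ((nat_lit 288), [nat_lit 2, nat_lit 2, nat_lit 0, nat_lit 5, nat_lit 2, nat_lit 4, nat_lit 2, nat_lit 3, nat_lit 1, nat_lit 3, nat_lit 0, nat_lit 2, nat_lit 0, nat_lit 2, nat_lit 2, nat_lit 0, nat_lit 1, nat_lit 0])) (.leaf ((nat_lit 289), [nat_lit 0, nat_lit 4, nat_lit 2, nat_lit 0, nat_lit 5, nat_lit 3, nat_lit 2, nat_lit 4, nat_lit 3, nat_lit 2, nat_lit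 0, nat_lit 2, nat_lit 0, nat_lit 1, nat_lit 0, nat_lit 1])))) (.node (nat_lit 306) (.leaf ((nat_lit 37), [nat_lit 2, nat_lit 5, nat_lit 3, nat_lit 5, nat_lit 4, nat_lit 2, nat_lit 4, nat_lit 2, nat_lit 2, nat_lit 0, nat_lit 2, nat_lit 2, nat_lit 0, nat_lit 2, nat_lit 0])) (.node (nat_lit 307) (.leaf ((nat_lit 290), [nat_lit 3, nat_lit 2, nat_lit 0, nat_lit 5, nat_lit 2, nat_lit 3, nat_lit 1, nat_lit 3, nat_lit 1, nat_lit 3, nat_lit 2, nat_lit 2, nat_lit 0, nat_lit 1])) (.leaf ((nat_lit 291), [nat_lit 0, nat_lit 4, nat_lit 5, nat_lit 0, nat_lit 3, nat_lit 2, nat_lit 3, nat_lit 2, nat_lit 3, nat_lit 1, nat_lit 0, nat_lit 1, nat_lit 0, nat_lit 2, nat_lit 0]))))))))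
 (.node (nat_lit 330) (.node (nat_lit 319) (.node (nat_lit 313) (.node (nat_lit 310) (.node (nat_lit 309) (.leaf ((nat_lit 292), [nat_lit 1, nat_lit 3, nat_lit 2, nat_lit 5, nat_lit 1, nat_lit 4, nat_lit 3, nat_lit 2, nat_lit 0, nat_lit 2, nat_lit 2, nat_lit 0, nat_lit 2, nat_lit 0])) (.leaf ((nat_lit 293), [nat_lit 2, nat_lit 0, nat_lit 5, nat_lit 3, nat_lit 2, nat_lit 2, nat_lit 3, nat_lit 1, nat_lit 0, nat_lit 2]))) (.node (nat_lit 311) (.leaf ((nat_lit 294), [nat_lit 4, nat_lit 5, nat_lit 2, nat_lit 3, nat_lit 5, nat_lit 3, nat_lit 0, nat_lit 2, nat_lit 4, nat_lit 2, nat_lit 2, nat_lit 0, nat_lit 2, nat_lit 2, nat_lit 0, nat_lit 2, nat_lit 2, nat_lit 0])) (.node (nat_lit 312) (.leaf ((nat_lit 295), [nat_lit 4, nat_lit 2, nat_lit 5, nat_lit 3, nat_lit 5, nat_lit 3, nat_lit 2, nat_lit 0, nat_lit 2, nat_lit 4, nat_lit 3, nat_lit 2, nat_lit 0, nat_lit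 1, nat_lit 0, nat_lit 1, nat_lit 0])) (.leaf ((nat_lit 296), [nat_lit 3, nat_lit 2, nat_lit 4, nat_lit 3, nat_lit 2, nat_lit 3, nat_lit 0, nat_lit 1, nat_lit 0, nat_lit 1])))))
 (.node (nat_lit 316) (.node (nat_lit 314) (.leaf ((nat_lit 297), [nat_lit 3, nat_lit 1, nat_lit 3, nat_lit 0, nat_lit 5, nat_lit 1, nat_lit 3, nat_lit 0, nat_lit 3, nat_lit 2, nat_lit 3, nat_lit 0, nat_lit 2, nat_lit 0])) (.node (nat_lit 315) (.leaf ((nat_lit 298), [nat_lit 3, nat_lit 1, nat_lit 3, nat_lit 0, nat_lit 5, nat_lit 0, nat_lit 4, nat_lit 0, nat_lit 4, nat_lit 2, nat_lit 2, nat_lit 0, nat_lit 2, nat_lit 2, nat_lit 0, nat_lit 1, nat_lit 0])) (.leaf ((nat_lit 299), [nat_lit 5, nat_lit 3, nat_lit 2, nat_lit 5, nat_lit 3, nat_lit 4, nat_lit 0, nat_lit 4, nat_lit 3, nat_lit 0, nat_lit 2, nat_lit 2, nat_lit 0, nat_lit 1, nat_lit 0, nat_lit 2])))) (.node (nat_lit 317)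 (.leaf ((nat_lit 300), [nat_lit 1, nat_lit 5, nat_lit 1, nat_lit 3, nat_lit 0, nat_lit 4, nat_lit 1, nat_lit 0, nat_lit 1])) (.node (nat_lit 318) (.leaf ((nat_lit 301), [nat_lit 1, nat_lit 4, nat_lit 5, nat_lit 1, nat_lit 5, nat_lit 2, nat_lit 3, nat_lit 4, nat_lit 3, nat_lit 0, nat_lit 2])) (.leaf ((nat_lit 302), [nat_lit 1, nat_lit 5, nat_lit 3, nat_lit 5, nat_lit 0, nat_lit 4, nat_lit 2, nat_lit 3, nat_lit 1, nat_lit 3, nat_lit 1, nat_lit 0, nat_lit 2, nat_lit 0, nat_lit 2, nat_lit 2, nat_lit 0]))))))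
 (.node (nat_lit 324) (.node (nat_lit 321) (.node (nat_lit 320) (.leaf ((nat_lit 303), [nat_lit 4, nat_lit 2, nat_lit 5, nat_lit 3, nat_lit 5, nat_lit 2, nat_lit 4, nat_lit 0, nat_lit 3, nat_lit 2, nat_lit 3, nat_lit 2, nat_lit 2, nat_lit 0, nat_lit 2])) (.leaf ((nat_lit 304), [nat_lit 4, nat_lit 3, nat_lit 5, nat_lit 2, nat_lit 5, nat_lit 3, nat_lit 1, nat_lit 4, nat_lit 2, nat_lit 0, nat_lit 1]))) (.node (nat_lit 322) (.leaf ((nat_lit 305), [nat_lit 4, nat_lit 5, nat_lit 1, nat_lit 5, nat_lit 2, nat_lit 4, nat_lit 2, nat_lit 0, nat_lit 1, nat_lit 0, nat_lit 2, nat_lit 2, nat_lit 0])) (.node (nat_lit 323) (.leaf ((nat_lit 306), [nat_lit 5, nat_lit 4, nat_lit 3, nat_lit 2, nat_lit 5, nat_lit 3, nat_lit 0, nat_lit 3, nat_lit 1, nat_lit 4, nat_lit 0, nat_lit 1, nat_lit 0, nat_lit 2, nat_lit 2])) (.leaf ((nat_lit 307), [nat_lit 5, nat_lit 2, nat_lit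 3, nat_lit 0, nat_lit 5, nat_lit 1, nat_lit 3, nat_lit 0, nat_lit 3, nat_lit 0, nat_lit 2, nat_lit 0, nat_lit 2, nat_lit 2, nat_lit 0, nat_lit 1, nat_lit 0])))))
 (.node (nat_lit 327) (.node (nat_lit 325) (.leaf ((nat_lit 308), [nat_lit 4, nat_lit 5, nat_lit 1, nat_lit 5, nat_lit 1, nat_lit 3, nat_lit 1, nat_lit 4, nat_lit 1, nat_lit 0, nat_lit 2, nat_lit 2, nat_lit 0])) (.node (nat_lit 326) (.leaf ((nat_lit 309), [nat_lit 0, nat_lit 5, nat_lit 3, nat_lit 5, nat_lit 4, nat_lit 3, nat_lit 2, nat_lit 0, nat_lit 2, nat_lit 3, nat_lit 2, nat_lit 0, nat_lit 2, nat_lit 0, nat_lit 1, nat_lit 0, nat_lit 1])) (.leaf ((nat_lit 310), [nat_lit 2, nat_lit 5, nat_lit 4, nat_lit 5, nat_lit 2, nat_lit 4, nat_lit 2, nat_lit 3, nat_lit 4, nat_lit 2, nat_lit 0, nat_lit 1, nat_lit 0, nat_lit 1, nat_lit 0, nat_lit 2])))) (.node (nat_lit 328) (.leaf ((nat_lit 311), [nat_lit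 2, nat_lit 5, nat_lit 4, nat_lit 3, nat_lit 0, nat_lit 4, nat_lit 1, nat_lit 0, nat_lit 3, nat_lit 2, nat_lit 2, nat_lit 0, nat_lit 2, nat_lit 0])) (.node (nat_lit 329) (.leaf ((nat_lit 312), [nat_lit 1, nat_lit 5, nat_lit 1, nat_lit 5, nat_lit 1, nat_lit 3, nat_lit 2, nat_lit 4, nat_lit 2, nat_lit 3, nat_lit 1, nat_lit 0, nat_lit 2])) (.leaf ((nat_lit 313), [nat_lit 0, nat_lit 1, nat_lit 5, nat_lit 4, nat_lit 3, nat_lit 0, nat_lit 4, nat_lit 1, nat_lit 0, nat_lit 3, nat_lit 1, nat_lit 0, nat_lit 2, nat_lit 2, nat_lit 0, nat_lit 2, nat_lit 2, nat_lit 0])))))))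
 (.node (nat_lit 341) (.node (nat_lit 335) (.node (nat_lit 332) (.node (nat_lit 331) (.leaf ((nat_lit 314), [nat_lit 3, nat_lit 2, nat_lit 3, nat_lit 5, nat_lit 2, nat_lit 3, nat_lit 4, nat_lit 1, nat_lit 0, nat_lit 3, nat_lit 0, nat_lit 2, nat_lit 0, nat_lit 2, nat_lit 2, nat_lit 0])) (.leaf ((nat_lit 315), [nat_lit 5, nat_lit 3, nat_lit 2, nat_lit 0, nat_lit 5, nat_lit 4, nat_lit 0, nat_lit 3, nat_lit 0, nat_lit 2, nat_lit 2, nat_lit 0, nat_lit 2, nat_lit 0, nat_lit 1, nat_lit 0]))) (.node (nat_lit 333) (.leaf ((nat_lit 316), [nat_lit 4, nat_lit 3, nat_lit 5, nat_lit 2, nat_lit 5, nat_lit 3, nat_lit 4, nat_lit 0, nat_lit 3, nat_lit 1, nat_lit 3, nat_lit 2, nat_lit 0, nat_lit 2, nat_lit 2, nat_lit 0, nat_lit 2])) (.node (nat_lit 334) (.leaf ((nat_lit 317), [nat_lit 5, nat_lit 3, nat_lit 5, nat_lit 1, nat_lit 3, nat_lit 2, nat_lit 4, nat_lit 3, nat_lit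 1, nat_lit 0, nat_lit 1, nat_lit 0, nat_lit 2, nat_lit 0])) (.leaf ((nat_lit 95), [nat_lit 1, nat_lit 5, nat_lit 1, nat_lit 5, nat_lit 1, nat_lit 3, nat_lit 0, nat_lit 1, nat_lit 4, nat_lit 0, nat_lit 2, nat_lit 2, nat_lit 0, nat_lit 2, nat_lit 2, nat_lit 0])))))
 (.node (nat_lit 338) (.node (nat_lit 336) (.leaf ((nat_lit 318), [nat_lit 4, nat_lit 0, nat_lit 5, nat_lit 4, nat_lit 1, nat_lit 3, nat_lit 2, nat_lit 2, nat_lit 0, nat_lit 1])) (.node (nat_lit 337) (.leaf ((nat_lit 311), [nat_lit 5, nat_lit 4, nat_lit 2, nat_lit 0, nat_lit 5, nat_lit 2, nat_lit 0, nat_lit 1, nat_lit 0, nat_lit 3, nat_lit 1, nat_lit 0, nat_lit 2])) (.leaf ((nat_lit 319), [nat_lit 3, nat_lit 2, nat_lit 3, nat_lit 5, nat_lit 0, nat_lit 1, nat_lit 4, nat_lit 3, nat_lit 2, nat_lit 3, nat_lit 1, nat_lit 0, nat_lit 1])))) (.node (nat_lit 339) (.leaf ((nat_lit 320), [nat_lit 5,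 nat_lit 3, nat_lit 2, nat_lit 0, nat_lit 5, nat_lit 2, nat_lit 2, nat_lit 4, nat_lit 0, nat_lit 4, nat_lit 2, nat_lit 2, nat_lit 0, nat_lit 1, nat_lit 0, nat_lit 2])) (.node (nat_lit 340) (.leaf ((nat_lit 321), [nat_lit 5, nat_lit 1, nat_lit 0, nat_lit 3, nat_lit 5, nat_lit 4, nat_lit 1, nat_lit 4, nat_lit 3, nat_lit 2, nat_lit 2, nat_lit 0, nat_lit 1, nat_lit 0, nat_lit 2, nat_lit 2])) (.leaf ((nat_lit 322), [nat_lit 3, nat_lit 5, nat_lit 1, nat_lit 3, nat_lit 2, nat_lit 5, nat_lit 0, nat_lit 1, nat_lit 4, nat_lit 3, nat_lit 0, nat_lit 2]))))))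
 (.node (nat_lit 346) (.node (nat_lit 343) (.node (nat_lit 342) (.leaf ((nat_lit 323), [nat_lit 5, nat_lit 3, nat_lit 5, nat_lit 4, nat_lit 3, nat_lit 2, nat_lit 0, nat_lit 3, nat_lit 0, nat_lit 2, nat_lit 0])) (.leaf ((nat_lit 324), [nat_lit 4, nat_lit 3, nat_lit 5, nat_lit 4, nat_lit 1, nat_lit 3, nat_lit 1, nat_lit 3, nat_lit 0, nat_lit 2, nat_lit 0, nat_lit 1, nat_lit 0]))) (.node (nat_lit 344) (.leaf ((nat_lit 325), [nat_lit 4, nat_lit 2, nat_lit 0, nat_lit 5, nat_lit 1, nat_lit 0, nat_lit 4, nat_lit 1, nat_lit 3, nat_lit 0, nat_lit 1, nat_lit 0, nat_lit 2, nat_lit 0, nat_lit 2, nat_lit 2, nat_lit 0])) (.node (nat_lit 345) (.leaf ((nat_lit 326), [nat_lit 4, nat_lit 5, nat_lit 4, nat_lit 0, nat_lit 5, nat_lit 3, nat_lit 2, nat_lit 0, nat_lit 1, nat_lit 0, nat_lit 2, nat_lit 0, nat_lit 2, nat_lit 0])) (.leaf ((nat_lit 327), [nat_lit 1, nat_lit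 3, nat_lit 2, nat_lit 5, nat_lit 0, nat_lit 2, nat_lit 4, nat_lit 2, nat_lit 2, nat_lit 0, nat_lit 1])))))
 (.node (nat_lit 349) (.node (nat_lit 347) (.leaf ((nat_lit 328), [nat_lit 0, nat_lit 2, nat_lit 4, nat_lit 0, nat_lit 5, nat_lit 1, nat_lit 4, nat_lit 3, nat_lit 1, nat_lit 4, nat_lit 2, nat_lit 2, nat_lit 0, nat_lit 2, nat_lit 2, nat_lit 0, nat_lit 1])) (.node (nat_lit 348) (.leaf ((nat_lit 329), [nat_lit 2, nat_lit 0, nat_lit 5, nat_lit 3, nat_lit 2, nat_lit 4, nat_lit 2, nat_lit 3, nat_lit 0, nat_lit 1, nat_lit 0, nat_lit 2, nat_lit 0, nat_lit 2, nat_lit 2])) (.leaf ((nat_lit 30), [nat_lit 0, nat_lit 2, nat_lit 5, nat_lit 2, nat_lit 4, nat_lit 0, nat_lit 3, nat_lit 2, nat_lit 3, nat_lit 0, nat_lit 2, nat_lit 2, nat_lit 0])))) (.node (nat_lit 350) (.leaf ((nat_lit 330), [nat_lit 3, nat_lit 2, nat_lit 5, nat_lit 0, nat_lit 5, nat_lit 2, nat_lit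 0, nat_lit 3, nat_lit 2, nat_lit 3, nat_lit 0, nat_lit 2, nat_lit 2, nat_lit 0, nat_lit 2, nat_lit 2, nat_lit 0])) (.node (nat_lit 351) (.leaf ((nat_lit 222), [nat_lit 0, nat_lit 2, nat_lit 4, nat_lit 0, nat_lit 5, nat_lit 4, nat_lit 0, nat_lit 1, nat_lit 0, nat_lit 1, nat_lit 0, nat_lit 3, nat_lit 1, nat_lit 0, nat_lit 1, nat_lit 0])) (.leaf ((nat_lit 331), [nat_lit 2, nat_lit 5, nat_lit 2, nat_lit 3, nat_lit 1, nat_lit 0, nat_lit 2, nat_lit 3, nat_lit 2, nat_lit 0, nat_lit 1, nat_lit 0]))))))))))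
noncomputable def pWd_2 : Tr (ℕ × List ℕ) := (.node (nat_lit 440) (.node (nat_lit 396) (.node (nat_lit 374) (.node (nat_lit 363) (.node (nat_lit 357) (.node (nat_lit 354) (.node (nat_lit 353) (.leaf ((nat_lit 332), [nat_lit 4, nat_lit 5, nat_lit 3, nat_lit 2, nat_lit 5, nat_lit 1, nat_lit 4, nat_lit 3, nat_lit 2, nat_lit 2, nat_lit 0, nat_lit 2, nat_lit 2, nat_lit 0, nat_lit 2, nat_lit 0])) (.leaf ((nat_lit 163), [nat_lit 2, nat_lit 5, nat_lit 3, nat_lit 5, nat_lit 4, nat_lit 1, nat_lit 3, nat_lit 4, nat_lit 3, nat_lit 1, nat_lit 0, nat_lit 1, nat_lit 0, nat_lit 2, nat_lit 2]))) (.node (nat_lit 355) (.leaf ((nat_lit 259), [nat_lit 4, nat_lit 3, nat_lit 5, nat_lit 0, nat_lit 5, nat_lit 4, nat_lit 1, nat_lit 0, nat_lit 4, nat_lit 1, nat_lit 0, nat_lit 2, nat_lit 2, nat_lit 0, nat_lit 2])) (.node (nat_lit 356) (.leaf ((nat_lit 333), [nat_lit 5, nat_lit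 2, nat_lit 0, nat_lit 5, nat_lit 2, nat_lit 2, nat_lit 0, nat_lit 3, nat_lit 4, nat_lit 0, nat_lit 1, nat_lit 0, nat_lit 2, nat_lit 2, nat_lit 0, nat_lit 1, nat_lit 0])) (.leaf ((nat_lit 334), [nat_lit 4, nat_lit 5, nat_lit 4, nat_lit 0, nat_lit 5, nat_lit 3, nat_lit 0, nat_lit 1, nat_lit 4, nat_lit 2, nat_lit 0])))))
 (.node (nat_lit 360) (.node (nat_lit 358) (.leaf ((nat_lit 335), [nat_lit 4, nat_lit 0, nat_lit 5, nat_lit 2, nat_lit 4, nat_lit 3, nat_lit 0, nat_lit 2, nat_lit 4, nat_lit 2, nat_lit 2, nat_lit 0, nat_lit 2, nat_lit 0, nat_lit 1, nat_lit 0])) (.node (nat_lit 359) (.leaf ((nat_lit 336), [nat_lit 4, nat_lit 5, nat_lit 3, nat_lit 2, nat_lit 5, nat_lit 4, nat_lit 1, nat_lit 3, nat_lit 2, nat_lit 4, nat_lit 0, nat_lit 1, nat_lit 0, nat_lit 2])) (.leaf ((nat_lit 337), [nat_lit 4, nat_lit 5, nat_lit 2, nat_lit 0, nat_lit 5, nat_lit 4, nat_lit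 0, nat_lit 2, nat_lit 3, nat_lit 2, nat_lit 0, nat_lit 3, nat_lit 2, nat_lit 2, nat_lit 0, nat_lit 1, nat_lit 0, nat_lit 2])))) (.node (nat_lit 361) (.leaf ((nat_lit 338), [nat_lit 2, nat_lit 2, nat_lit 0, nat_lit 5, nat_lit 2, nat_lit 4, nat_lit 0, nat_lit 1, nat_lit 0, nat_lit 3, nat_lit 0, nat_lit 2, nat_lit 0, nat_lit 1, nat_lit 0])) (.node (nat_lit 362) (.leaf ((nat_lit 339), [nat_lit 4, nat_lit 0, nat_lit 5, nat_lit 0, nat_lit 2, nat_lit 4, nat_lit 2, nat_lit 4, nat_lit 0, nat_lit 2, nat_lit 0, nat_lit 1])) (.leaf ((nat_lit 340), [nat_lit 5, nat_lit 2, nat_lit 2, nat_lit 4, nat_lit 2, nat_lit 4, nat_lit 2, nat_lit 0, nat_lit 1, nat_lit 0, nat_lit 2, nat_lit 2, nat_lit 0]))))))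
 (.node (nat_lit 368) (.node (nat_lit 365) (.node (nat_lit 364) (.leaf ((nat_lit 341), [nat_lit 4, nat_lit 3, nat_lit 5, nat_lit 2, nat_lit 5, nat_lit 3, nat_lit 4, nat_lit 1, nat_lit 0, nat_lit 3, nat_lit 0, nat_lit 2, nat_lit 2, nat_lit 0, nat_lit 2, nat_lit 2])) (.leaf ((nat_lit 342), [nat_lit 5, nat_lit 0, nat_lit 1, nat_lit 5, nat_lit 1, nat_lit 4, nat_lit 3, nat_lit 1, nat_lit 3, nat_lit 0, nat_lit 2, nat_lit 2, nat_lit 0, nat_lit 1, nat_lit 0, nat_lit 2]))) (.node (nat_lit 366) (.leaf ((nat_lit 343), [nat_lit 5, nat_lit 2, nat_lit 0, nat_lit 5, nat_lit 2, nat_lit 3, nat_lit 4, nat_lit 3, nat_lit 2, nat_lit 3, nat_lit 2, nat_lit 2, nat_lit 0, nat_lit 1, nat_lit 0, nat_lit 2, nat_lit 0])) (.node (nat_lit 367) (.leaf ((nat_lit 344), [nat_lit 4, nat_lit 5, nat_lit 2, nat_lit 0, nat_lit 5, nat_lit 0, nat_lit 2, nat_lit 0, nat_lit 3, nat_lit 4,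 nat_lit 1, nat_lit 0, nat_lit 1, nat_lit 0, nat_lit 2, nat_lit 2])) (.leaf ((nat_lit 1), [nat_lit 1, nat_lit 5, nat_lit 0, nat_lit 5, nat_lit 3, nat_lit 2, nat_lit 0, nat_lit 4, nat_lit 3, nat_lit 0, nat_lit 1, nat_lit 0, nat_lit 2, nat_lit 2])))))
 (.node (nat_lit 371) (.node (nat_lit 369) (.leaf ((nat_lit 345), [nat_lit 4, nat_lit 2, nat_lit 5, nat_lit 1, nat_lit 5, nat_lit 3, nat_lit 1, nat_lit 4, nat_lit 2, nat_lit 4, nat_lit 3, nat_lit 2, nat_lit 0, nat_lit 1, nat_lit 0, nat_lit 1])) (.node (nat_lit 370) (.leaf ((nat_lit 346), [nat_lit 0, nat_lit 5, nat_lit 3, nat_lit 5, nat_lit 4, nat_lit 2, nat_lit 3, nat_lit 2, nat_lit 0, nat_lit 2])) (.leaf ((nat_lit 347), [nat_lit 1, nat_lit 0, nat_lit 3, nat_lit 5, nat_lit 3, nat_lit 2, nat_lit 3, nat_lit 0, nat_lit 4, nat_lit 2, nat_lit 0, nat_lit 1, nat_lit 0])))) (.node (nat_lit 372) (.leaf ((nat_lit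 348), [nat_lit 3, nat_lit 2, nat_lit 3, nat_lit 5, nat_lit 3, nat_lit 2, nat_lit 3, nat_lit 4, nat_lit 1, nat_lit 3, nat_lit 2, nat_lit 0, nat_lit 2, nat_lit 0, nat_lit 1, nat_lit 0])) (.node (nat_lit 373) (.leaf ((nat_lit 349), [nat_lit 4, nat_lit 2, nat_lit 5, nat_lit 0, nat_lit 4, nat_lit 2, nat_lit 0, nat_lit 2, nat_lit 3, nat_lit 0, nat_lit 1, nat_lit 0])) (.leaf ((nat_lit 350), [nat_lit 3, nat_lit 1, nat_lit 3, nat_lit 0, nat_lit 5, nat_lit 3, nat_lit 4, nat_lit 0, nat_lit 2, nat_lit 4, nat_lit 1, nat_lit 0, nat_lit 1, nat_lit 0, nat_lit 2])))))))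
 (.node (nat_lit 385) (.node (nat_lit 379) (.node (nat_lit 376) (.node (nat_lit 375) (.leaf ((nat_lit 351), [nat_lit 0, nat_lit 5, nat_lit 3, nat_lit 0, nat_lit 3, nat_lit 0, nat_lit 2, nat_lit 3, nat_lit 2, nat_lit 2, nat_lit 0, nat_lit 1, nat_lit 0])) (.leaf ((nat_lit 64), [nat_lit 4, nat_lit 1, nat_lit 5, nat_lit 0, nat_lit 5, nat_lit 1, nat_lit 4, nat_lit 2, nat_lit 4, nat_lit 3, nat_lit 2, nat_lit 0, nat_lit 2, nat_lit 2, nat_lit 0, nat_lit 2, nat_lit 2]))) (.node (nat_lit 377) (.leaf ((nat_lit 352), [nat_lit 2, nat_lit 5, nat_lit 2, nat_lit 4, nat_lit 2, nat_lit 3, nat_lit 0, nat_lit 3, nat_lit 0, nat_lit 2, nat_lit 0, nat_lit 2, nat_lit 2, nat_lit 0, nat_lit 2, nat_lit 0])) (.node (nat_lit 378) (.leaf ((nat_lit 353), [nat_lit 5, nat_lit 4, nat_lit 3, nat_lit 2, nat_lit 5, nat_lit 3, nat_lit 0, nat_lit 2, nat_lit 3, nat_lit 2, nat_lit 0, nat_lit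 1, nat_lit 0, nat_lit 2, nat_lit 0])) (.leaf ((nat_lit 354), [nat_lit 3, nat_lit 0, nat_lit 5, nat_lit 3, nat_lit 5, nat_lit 0, nat_lit 2, nat_lit 3, nat_lit 4, nat_lit 1, nat_lit 3, nat_lit 0, nat_lit 1, nat_lit 0, nat_lit 2, nat_lit 2, nat_lit 0, nat_lit 1])))))
 (.node (nat_lit 382) (.node (nat_lit 380) (.leaf ((nat_lit 355), [nat_lit 4, nat_lit 3, nat_lit 2, nat_lit 5, nat_lit 2, nat_lit 4, nat_lit 0, nat_lit 4, nat_lit 3, nat_lit 2, nat_lit 0, nat_lit 2, nat_lit 2, nat_lit 0, nat_lit 2, nat_lit 0])) (.node (nat_lit 381) (.leaf ((nat_lit 356), [nat_lit 4, nat_lit 1, nat_lit 5, nat_lit 0, nat_lit 5, nat_lit 1, nat_lit 3, nat_lit 0, nat_lit 2, nat_lit 4, nat_lit 2, nat_lit 2, nat_lit 0, nat_lit 2, nat_lit 2, nat_lit 0, nat_lit 2])) (.leaf ((nat_lit 357), [nat_lit 4, nat_lit 5, nat_lit 2, nat_lit 5, nat_lit 3, nat_lit 1, nat_lit 4, nat_lit 0, nat_lit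 4, nat_lit 0, nat_lit 1, nat_lit 0])))) (.node (nat_lit 383) (.leaf ((nat_lit 358), [nat_lit 0, nat_lit 5, nat_lit 3, nat_lit 0, nat_lit 5, nat_lit 0, nat_lit 4, nat_lit 2, nat_lit 0, nat_lit 2, nat_lit 3, nat_lit 0, nat_lit 2, nat_lit 2, nat_lit 0, nat_lit 2])) (.node (nat_lit 384) (.leaf ((nat_lit 359), [nat_lit 3, nat_lit 5, nat_lit 1, nat_lit 3, nat_lit 0, nat_lit 5, nat_lit 3, nat_lit 0, nat_lit 2, nat_lit 3, nat_lit 0, nat_lit 2, nat_lit 0, nat_lit 2])) (.leaf ((nat_lit 193), [nat_lit 5, nat_lit 0, nat_lit 3, nat_lit 5, nat_lit 4, nat_lit 2, nat_lit 2, nat_lit 4, nat_lit 3, nat_lit 0, nat_lit 1, nat_lit 0, nat_lit 2, nat_lit 2]))))))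
 (.node (nat_lit 390) (.node (nat_lit 387) (.node (nat_lit 386) (.leaf ((nat_lit 360), [nat_lit 0, nat_lit 5, nat_lit 2, nat_lit 5, nat_lit 4, nat_lit 3, nat_lit 0, nat_lit 3, nat_lit 0, nat_lit 2, nat_lit 2, nat_lit 0])) (.leaf ((nat_lit 361), [nat_lit 1, nat_lit 5, nat_lit 3, nat_lit 5, nat_lit 3, nat_lit 4, nat_lit 1, nat_lit 0, nat_lit 4, nat_lit 0, nat_lit 2, nat_lit 2, nat_lit 0, nat_lit 1, nat_lit 0]))) (.node (nat_lit 388) (.leaf ((nat_lit 362), [nat_lit 5, nat_lit 1, nat_lit 0, nat_lit 2, nat_lit 5, nat_lit 2, nat_lit 4, nat_lit 3, nat_lit 1, nat_lit 4, nat_lit 3, nat_lit 0, nat_lit 2, nat_lit 2, nat_lit 0, nat_lit 1, nat_lit 0, nat_lit 2])) (.node (nat_lit 389) (.leaf ((nat_lit 363), [nat_lit 5, nat_lit 0, nat_lit 1, nat_lit 4, nat_lit 0, nat_lit 2, nat_lit 0, nat_lit 1])) (.leaf ((nat_lit 364), [nat_lit 0, nat_lit 1, nat_lit 5, nat_lit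 4, nat_lit 3, nat_lit 0, nat_lit 4, nat_lit 1, nat_lit 0, nat_lit 3, nat_lit 1, nat_lit 0, nat_lit 2, nat_lit 2, nat_lit 0, nat_lit 2, nat_lit 2, nat_lit 0])))))
 (.node (nat_lit 393) (.node (nat_lit 391) (.leaf ((nat_lit 199), [nat_lit 3, nat_lit 5, nat_lit 1, nat_lit 3, nat_lit 0, nat_lit 5, nat_lit 2, nat_lit 4, nat_lit 0, nat_lit 4, nat_lit 3, nat_lit 0, nat_lit 2, nat_lit 0, nat_lit 2, nat_lit 0])) (.node (nat_lit 392) (.leaf ((nat_lit 310), [nat_lit 3, nat_lit 4, nat_lit 5, nat_lit 2, nat_lit 3, nat_lit 1, nat_lit 3, nat_lit 2, nat_lit 0, nat_lit 1])) (.leaf ((nat_lit 365), [nat_lit 3, nat_lit 1, nat_lit 3, nat_lit 0, nat_lit 5, nat_lit 4, nat_lit 1, nat_lit 0, nat_lit 2, nat_lit 3, nat_lit 2, nat_lit 0, nat_lit 2, nat_lit 0, nat_lit 1, nat_lit 0, nat_lit 1])))) (.node (nat_lit 394) (.leaf ((nat_lit 366), [nat_lit 4, nat_lit 5, nat_lit 1, nat_lit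 5, nat_lit 0, nat_lit 4, nat_lit 1, nat_lit 3, nat_lit 2, nat_lit 0, nat_lit 2, nat_lit 2])) (.node (nat_lit 395) (.leaf ((nat_lit 367), [nat_lit 5, nat_lit 0, nat_lit 3, nat_lit 5, nat_lit 4, nat_lit 1, nat_lit 3, nat_lit 2, nat_lit 4, nat_lit 1, nat_lit 0, nat_lit 2, nat_lit 0, nat_lit 2])) (.leaf ((nat_lit 368), [nat_lit 1, nat_lit 5, nat_lit 2, nat_lit 5, nat_lit 1, nat_lit 0, nat_lit 1, nat_lit 4, nat_lit 3, nat_lit 2, nat_lit 2, nat_lit 0, nat_lit 2]))))))))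
 (.node (nat_lit 418) (.node (nat_lit 407) (.node (nat_lit 401) (.node (nat_lit 398) (.node (nat_lit 397) (.leaf ((nat_lit 369), [nat_lit 4, nat_lit 5, nat_lit 3, nat_lit 5, nat_lit 2, nat_lit 2, nat_lit 3, nat_lit 2, nat_lit 4, nat_lit 2, nat_lit 2, nat_lit 0, nat_lit 1, nat_lit 0, nat_lit 2])) (.leaf ((nat_lit 370), [nat_lit 5, nat_lit 4, nat_lit 3, nat_lit 2, nat_lit 5, nat_lit 2, nat_lit 4, nat_lit 0, nat_lit 3, nat_lit 2, nat_lit 3, nat_lit 2, nat_lit 2, nat_lit 0, nat_lit 1, nat_lit 0, nat_lit 2, nat_lit 0]))) (.node (nat_lit 399) (.leaf ((nat_lit 371), [nat_lit 0, nat_lit 3, nat_lit 5, nat_lit 3, nat_lit 1, nat_lit 4, nat_lit 3, nat_lit 0, nat_lit 3, nat_lit 0, nat_lit 1, nat_lit 0, nat_lit 2, nat_lit 0])) (.node (nat_lit 400) (.leaf ((nat_lit 372), [nat_lit 3, nat_lit 2, nat_lit 5, nat_lit 0, nat_lit 5, nat_lit 1, nat_lit 3, nat_lit 0, nat_lit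 2, nat_lit 2, nat_lit 0, nat_lit 2])) (.leaf ((nat_lit 373), [nat_lit 5, nat_lit 0, nat_lit 3, nat_lit 5, nat_lit 2, nat_lit 4, nat_lit 0, nat_lit 4, nat_lit 3, nat_lit 0, nat_lit 2, nat_lit 2, nat_lit 0, nat_lit 2, nat_lit 2])))))
 (.node (nat_lit 404) (.node (nat_lit 402) (.leaf ((nat_lit 374), [nat_lit 4, nat_lit 5, nat_lit 4, nat_lit 0, nat_lit 5, nat_lit 2, nat_lit 0, nat_lit 3, nat_lit 1, nat_lit 4, nat_lit 2, nat_lit 2, nat_lit 0, nat_lit 2, nat_lit 2, nat_lit 0, nat_lit 1, nat_lit 0])) (.node (nat_lit 403) (.leaf ((nat_lit 375), [nat_lit 5, nat_lit 0, nat_lit 3, nat_lit 5, nat_lit 2, nat_lit 2, nat_lit 3, nat_lit 0, nat_lit 2, nat_lit 0, nat_lit 2, nat_lit 2, nat_lit 0, nat_lit 2, nat_lit 0])) (.leaf ((nat_lit 376), [nat_lit 2, nat_lit 0, nat_lit 5, nat_lit 0, nat_lit 4, nat_lit 1, nat_lit 3, nat_lit 1, nat_lit 3, nat_lit 2, nat_lit 2, nat_lit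 0, nat_lit 1, nat_lit 0, nat_lit 2, nat_lit 2])))) (.node (nat_lit 405) (.leaf ((nat_lit 377), [nat_lit 5, nat_lit 0, nat_lit 3, nat_lit 5, nat_lit 2, nat_lit 3, nat_lit 4, nat_lit 1, nat_lit 0, nat_lit 3, nat_lit 1, nat_lit 0, nat_lit 1])) (.node (nat_lit 406) (.leaf ((nat_lit 378), [nat_lit 5, nat_lit 1, nat_lit 3, nat_lit 0, nat_lit 5, nat_lit 0, nat_lit 1, nat_lit 0, nat_lit 4, nat_lit 2, nat_lit 0, nat_lit 2, nat_lit 2, nat_lit 0])) (.leaf ((nat_lit 379), [nat_lit 2, nat_lit 4, nat_lit 0, nat_lit 5, nat_lit 2, nat_lit 3, nat_lit 4, nat_lit 0, nat_lit 2, nat_lit 2, nat_lit 0, nat_lit 2, nat_lit 0, nat_lit 1, nat_lit 0]))))))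
 (.node (nat_lit 412) (.node (nat_lit 409) (.node (nat_lit 408) (.leaf ((nat_lit 380), [nat_lit 3, nat_lit 2, nat_lit 5, nat_lit 3, nat_lit 2, nat_lit 0, nat_lit 1, nat_lit 0, nat_lit 3, nat_lit 1, nat_lit 0, nat_lit 2, nat_lit 2, nat_lit 0, nat_lit 2])) (.leaf ((nat_lit 381), [nat_lit 1, nat_lit 5, nat_lit 0, nat_lit 5, nat_lit 3, nat_lit 4, nat_lit 1, nat_lit 4, nat_lit 3, nat_lit 2, nat_lit 2]))) (.node (nat_lit 410) (.leaf ((nat_lit 382), [nat_lit 3, nat_lit 5, nat_lit 2, nat_lit 3, nat_lit 0, nat_lit 5, nat_lit 1, nat_lit 3, nat_lit 0, nat_lit 1, nat_lit 4, nat_lit 0, nat_lit 2, nat_lit 2, nat_lit 0, nat_lit 2, nat_lit 2, nat_lit 0])) (.node (nat_lit 411) (.leaf ((nat_lit 383), [nat_lit 0, nat_lit 3, nat_lit 5, nat_lit 2, nat_lit 4, nat_lit 3, nat_lit 1, nat_lit 4, nat_lit 3, nat_lit 0, nat_lit 2, nat_lit 0, nat_lit 2, nat_lit 0])) (.leaf ((nat_lit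 384), [nat_lit 1, nat_lit 4, nat_lit 2, nat_lit 5, nat_lit 3, nat_lit 4, nat_lit 3, nat_lit 2, nat_lit 3, nat_lit 0, nat_lit 2, nat_lit 2, nat_lit 0, nat_lit 2])))))
 (.node (nat_lit 415) (.node (nat_lit 413) (.leaf ((nat_lit 385), [nat_lit 3, nat_lit 5, nat_lit 3, nat_lit 4, nat_lit 1, nat_lit 3, nat_lit 0, nat_lit 3, nat_lit 0, nat_lit 1, nat_lit 0, nat_lit 2, nat_lit 2, nat_lit 0])) (.node (nat_lit 414) (.leaf ((nat_lit 386), [nat_lit 4, nat_lit 5, nat_lit 3, nat_lit 0, nat_lit 5, nat_lit 2, nat_lit 4, nat_lit 0, nat_lit 3, nat_lit 2, nat_lit 3, nat_lit 0, nat_lit 1])) (.leaf ((nat_lit 387), [nat_lit 4, nat_lit 5, nat_lit 3, nat_lit 0, nat_lit 5, nat_lit 3, nat_lit 0, nat_lit 2, nat_lit 4, nat_lit 3, nat_lit 0, nat_lit 2, nat_lit 0])))) (.node (nat_lit 416) (.leaf ((nat_lit 388), [nat_lit 0, nat_lit 5, nat_lit 3, nat_lit 5, nat_lit 1, nat_lit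 4, nat_lit 1, nat_lit 4, nat_lit 3, nat_lit 0, nat_lit 2, nat_lit 0, nat_lit 2, nat_lit 0])) (.node (nat_lit 417) (.leaf ((nat_lit 389), [nat_lit 5, nat_lit 4, nat_lit 3, nat_lit 2, nat_lit 5, nat_lit 3, nat_lit 2, nat_lit 3, nat_lit 4, nat_lit 1, nat_lit 3, nat_lit 0, nat_lit 1, nat_lit 0, nat_lit 2, nat_lit 0, nat_lit 2])) (.leaf ((nat_lit 390), [nat_lit 4, nat_lit 0, nat_lit 5, nat_lit 2, nat_lit 5, nat_lit 3, nat_lit 0, nat_lit 2, nat_lit 4, nat_lit 3, nat_lit 2, nat_lit 0, nat_lit 2, nat_lit 2, nat_lit 0, nat_lit 2, nat_lit 0])))))))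
 (.node (nat_lit 429) (.node (nat_lit 423) (.node (nat_lit 420) (.node (nat_lit 419) (.leaf ((nat_lit 391), [nat_lit 4, nat_lit 5, nat_lit 4, nat_lit 0, nat_lit 5, nat_lit 2, nat_lit 4, nat_lit 2, nat_lit 3, nat_lit 0, nat_lit 3, nat_lit 2, nat_lit 2, nat_lit 0])) (.leaf ((nat_lit 392), [nat_lit 4, nat_lit 0, nat_lit 4, nat_lit 0, nat_lit 1, nat_lit 0, nat_lit 2, nat_lit 0, nat_lit 2]))) (.node (nat_lit 421) (.leaf ((nat_lit 393), [nat_lit 5, nat_lit 2, nat_lit 2, nat_lit 0, nat_lit 5, nat_lit 2, nat_lit 3, nat_lit 4, nat_lit 2, nat_lit 4, nat_lit 0, nat_lit 1, nat_lit 0, nat_lit 2, nat_lit 2, nat_lit 0, nat_lit 2, nat_lit 0])) (.node (nat_lit 422) (.leaf ((nat_lit 107), [nat_lit 4, nat_lit 5, nat_lit 3, nat_lit 5, nat_lit 1, nat_lit 4, nat_lit 1, nat_lit 3, nat_lit 1, nat_lit 3, nat_lit 2, nat_lit 2, nat_lit 0, nat_lit 2, nat_lit 0])) (.leaf ((nat_lit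 394), [nat_lit 4, nat_lit 5, nat_lit 2, nat_lit 0, nat_lit 5, nat_lit 2, nat_lit 4, nat_lit 2, nat_lit 2, nat_lit 4, nat_lit 3, nat_lit 2, nat_lit 0, nat_lit 2, nat_lit 0, nat_lit 1, nat_lit 0])))))
 (.node (nat_lit 426) (.node (nat_lit 424) (.leaf ((nat_lit 395), [nat_lit 4, nat_lit 5, nat_lit 3, nat_lit 0, nat_lit 5, nat_lit 0, nat_lit 4, nat_lit 0, nat_lit 4, nat_lit 1, nat_lit 0, nat_lit 2])) (.node (nat_lit 425) (.leaf ((nat_lit 396), [nat_lit 0, nat_lit 4, nat_lit 5, nat_lit 0, nat_lit 2, nat_lit 0, nat_lit 4, nat_lit 1, nat_lit 4, nat_lit 1, nat_lit 0, nat_lit 2, nat_lit 2, nat_lit 0, nat_lit 2, nat_lit 0])) (.leaf ((nat_lit 397), [nat_lit 5, nat_lit 4, nat_lit 2, nat_lit 0, nat_lit 5, nat_lit 4, nat_lit 0, nat_lit 2, nat_lit 0, nat_lit 2, nat_lit 2, nat_lit 0, nat_lit 2, nat_lit 0])))) (.node (nat_lit 427) (.leaf ((nat_lit 398), [nat_lit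 5, nat_lit 0, nat_lit 3, nat_lit 5, nat_lit 4, nat_lit 1, nat_lit 3, nat_lit 1, nat_lit 3, nat_lit 2, nat_lit 0, nat_lit 2, nat_lit 2, nat_lit 0, nat_lit 2, nat_lit 2, nat_lit 0])) (.node (nat_lit 428) (.leaf ((nat_lit 399), [nat_lit 4, nat_lit 3, nat_lit 5, nat_lit 0, nat_lit 5, nat_lit 2, nat_lit 4, nat_lit 0, nat_lit 4, nat_lit 0, nat_lit 1, nat_lit 0, nat_lit 2])) (.leaf ((nat_lit 400), [nat_lit 1, nat_lit 4, nat_lit 5, nat_lit 1, nat_lit 5, nat_lit 1, nat_lit 3, nat_lit 1, nat_lit 3, nat_lit 2, nat_lit 0, nat_lit 1, nat_lit 0, nat_lit 1, nat_lit 0, nat_lit 2, nat_lit 0]))))))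
 (.node (nat_lit 434) (.node (nat_lit 431) (.node (nat_lit 430) (.leaf ((nat_lit 401), [nat_lit 2, nat_lit 5, nat_lit 3, nat_lit 0, nat_lit 1, nat_lit 4, nat_lit 1, nat_lit 0, nat_lit 2, nat_lit 2, nat_lit 0, nat_lit 2, nat_lit 2, nat_lit 0])) (.leaf ((nat_lit 402), [nat_lit 0, nat_lit 2, nat_lit 4, nat_lit 0, nat_lit 5, nat_lit 2, nat_lit 2, nat_lit 3, nat_lit 2, nat_lit 2, nat_lit 3, nat_lit 1, nat_lit 0]))) (.node (nat_lit 432) (.leaf ((nat_lit 403), [nat_lit 2, nat_lit 2, nat_lit 5, nat_lit 0, nat_lit 3, nat_lit 2, nat_lit 4, nat_lit 0, nat_lit 2, nat_lit 0, nat_lit 2])) (.node (nat_lit 433) (.leaf ((nat_lit 404), [nat_lit 1, nat_lit 0, nat_lit 5, nat_lit 3, nat_lit 5, nat_lit 4, nat_lit 0, nat_lit 3, nat_lit 0, nat_lit 1, nat_lit 0, nat_lit 2, nat_lit 2, nat_lit 0, nat_lit 1])) (.leaf ((nat_lit 240), [nat_lit 4, nat_lit 3, nat_lit 5, nat_lit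 4, nat_lit 2, nat_lit 0, nat_lit 4, nat_lit 0, nat_lit 1, nat_lit 0, nat_lit 1, nat_lit 0, nat_lit 2, nat_lit 0])))))
 (.node (nat_lit 437) (.node (nat_lit 435) (.leaf ((nat_lit 405), [nat_lit 2, nat_lit 3, nat_lit 5, nat_lit 0, nat_lit 5, nat_lit 1, nat_lit 0, nat_lit 3, nat_lit 4, nat_lit 2, nat_lit 2, nat_lit 0, nat_lit 2, nat_lit 2, nat_lit 0, nat_lit 2, nat_lit 0])) (.node (nat_lit 436) (.leaf ((nat_lit 406), [nat_lit 2, nat_lit 2, nat_lit 0, nat_lit 5, nat_lit 3, nat_lit 1, nat_lit 4, nat_lit 0, nat_lit 4, nat_lit 1, nat_lit 0, nat_lit 2, nat_lit 2, nat_lit 0, nat_lit 1, nat_lit 0])) (.leaf ((nat_lit 407), [nat_lit 5, nat_lit 4, nat_lit 3, nat_lit 0, nat_lit 2, nat_lit 4, nat_lit 0, nat_lit 2, nat_lit 0, nat_lit 2, nat_lit 2, nat_lit 0, nat_lit 1, nat_lit 0])))) (.node (nat_lit 438) (.leaf ((nat_lit 408), [nat_lit 1, nat_lit 5, nat_lit 3, nat_lit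 5, nat_lit 3, nat_lit 0, nat_lit 4, nat_lit 3, nat_lit 0, nat_lit 3, nat_lit 2, nat_lit 2, nat_lit 0, nat_lit 2, nat_lit 0])) (.node (nat_lit 439) (.leaf ((nat_lit 409), [nat_lit 2, nat_lit 2, nat_lit 5, nat_lit 1, nat_lit 5, nat_lit 3, nat_lit 1, nat_lit 3, nat_lit 0, nat_lit 3, nat_lit 2, nat_lit 2, nat_lit 0, nat_lit 2, nat_lit 2, nat_lit 0, nat_lit 1, nat_lit 0])) (.leaf ((nat_lit 410), [nat_lit 4, nat_lit 5, nat_lit 4, nat_lit 0, nat_lit 5, nat_lit 2, nat_lit 4, nat_lit 2, nat_lit 3, nat_lit 2, nat_lit 3, nat_lit 0, nat_lit 2, nat_lit 0, nat_lit 1, nat_lit 0, nat_lit 1])))))))))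
 (.node (nat_lit 484) (.node (nat_lit 462) (.node (nat_lit 451) (.node (nat_lit 445) (.node (nat_lit 442) (.node (nat_lit 441) (.leaf ((nat_lit 207), [nat_lit 5, nat_lit 4, nat_lit 2, nat_lit 0, nat_lit 5, nat_lit 1, nat_lit 0, nat_lit 2, nat_lit 3, nat_lit 1, nat_lit 0, nat_lit 2, nat_lit 2, nat_lit 0, nat_lit 2, nat_lit 2])) (.leaf ((nat_lit 411), [nat_lit 3, nat_lit 4, nat_lit 5, nat_lit 2, nat_lit 3, nat_lit 1, nat_lit 3, nat_lit 1, nat_lit 3, nat_lit 2, nat_lit 0, nat_lit 2, nat_lit 2, nat_lit 0, nat_lit 2, nat_lit 0]))) (.node (nat_lit 443) (.leaf ((nat_lit 412), [nat_lit 5, nat_lit 4, nat_lit 2, nat_lit 5, nat_lit 3, nat_lit 1, nat_lit 3, nat_lit 1, nat_lit 4, nat_lit 1, nat_lit 0, nat_lit 1, nat_lit 0, nat_lit 2, nat_lit 2, nat_lit 0])) (.node (nat_lit 444) (.leaf ((nat_lit 413), [nat_lit 1, nat_lit 5, nat_lit 0, nat_lit 5, nat_lit 3, nat_lit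 2, nat_lit 4, nat_lit 2, nat_lit 3, nat_lit 4, nat_lit 1, nat_lit 0, nat_lit 2, nat_lit 0])) (.leaf ((nat_lit 414), [nat_lit 2, nat_lit 5, nat_lit 1, nat_lit 5, nat_lit 3, nat_lit 1, nat_lit 3, nat_lit 0, nat_lit 2, nat_lit 4, nat_lit 2, nat_lit 0, nat_lit 2, nat_lit 2, nat_lit 0, nat_lit 2, nat_lit 2])))))
 (.node (nat_lit 448) (.node (nat_lit 446) (.leaf ((nat_lit 407), [nat_lit 3, nat_lit 5, nat_lit 3, nat_lit 0, nat_lit 5, nat_lit 1, nat_lit 4, nat_lit 1, nat_lit 3, nat_lit 1, nat_lit 3, nat_lit 1, nat_lit 0, nat_lit 2, nat_lit 2])) (.node (nat_lit 447) (.leaf ((nat_lit 269), [nat_lit 2, nat_lit 3, nat_lit 0, nat_lit 5, nat_lit 3, nat_lit 1, nat_lit 3, nat_lit 0, nat_lit 2, nat_lit 4, nat_lit 1, nat_lit 0, nat_lit 2, nat_lit 0, nat_lit 1, nat_lit 0])) (.leaf ((nat_lit 415), [nat_lit 4, nat_lit 2, nat_lit 5, nat_lit 4, nat_lit 2, nat_lit 2, nat_lit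 4, nat_lit 1, nat_lit 0, nat_lit 3, nat_lit 2, nat_lit 0, nat_lit 1])))) (.node (nat_lit 449) (.leaf ((nat_lit 416), [nat_lit 5, nat_lit 1, nat_lit 5, nat_lit 0, nat_lit 5, nat_lit 3, nat_lit 0, nat_lit 3, nat_lit 4, nat_lit 3, nat_lit 0, nat_lit 2, nat_lit 0, nat_lit 2, nat_lit 2, nat_lit 0, nat_lit 1])) (.node (nat_lit 450) (.leaf ((nat_lit 417), [nat_lit 4, nat_lit 5, nat_lit 4, nat_lit 0, nat_lit 5, nat_lit 1, nat_lit 3, nat_lit 2, nat_lit 4, nat_lit 2, nat_lit 3, nat_lit 0, nat_lit 2, nat_lit 2, nat_lit 0, nat_lit 2, nat_lit 2])) (.leaf ((nat_lit 418), [nat_lit 5, nat_lit 4, nat_lit 1, nat_lit 0, nat_lit 5, nat_lit 4, nat_lit 1, nat_lit 3, nat_lit 4, nat_lit 3, nat_lit 0, nat_lit 2, nat_lit 0, nat_lit 2, nat_lit 2, nat_lit 0, nat_lit 2, nat_lit 0]))))))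
 (.node (nat_lit 456) (.node (nat_lit 453) (.node (nat_lit 452) (.leaf ((nat_lit 419), [nat_lit 3, nat_lit 5, nat_lit 0, nat_lit 3, nat_lit 5, nat_lit 1, nat_lit 0, nat_lit 2, nat_lit 0, nat_lit 2, nat_lit 4, nat_lit 0, nat_lit 2, nat_lit 2])) (.leaf ((nat_lit 201), [nat_lit 5, nat_lit 3, nat_lit 2, nat_lit 0, nat_lit 5, nat_lit 0, nat_lit 3, nat_lit 4, nat_lit 0, nat_lit 3, nat_lit 1, nat_lit 0, nat_lit 1]))) (.node (nat_lit 454) (.leaf ((nat_lit 420), [nat_lit 4, nat_lit 3, nat_lit 5, nat_lit 4, nat_lit 3, nat_lit 1, nat_lit 4, nat_lit 3, nat_lit 1, nat_lit 0, nat_lit 2, nat_lit 2])) (.node (nat_lit 455) (.leaf ((nat_lit 421), [nat_lit 3, nat_lit 5, nat_lit 1, nat_lit 3, nat_lit 2, nat_lit 5, nat_lit 2, nat_lit 2, nat_lit 4, nat_lit 3, nat_lit 2, nat_lit 3, nat_lit 0, nat_lit 2, nat_lit 0, nat_lit 2, nat_lit 2])) (.leaf ((nat_lit 422), [nat_lit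 5, nat_lit 1, nat_lit 5, nat_lit 0, nat_lit 5, nat_lit 2, nat_lit 4, nat_lit 2, nat_lit 4, nat_lit 3, nat_lit 0, nat_lit 2, nat_lit 0, nat_lit 2, nat_lit 2, nat_lit 0])))))
 (.node (nat_lit 459) (.node (nat_lit 457) (.leaf ((nat_lit 423), [nat_lit 4, nat_lit 0, nat_lit 5, nat_lit 3, nat_lit 0, nat_lit 3, nat_lit 2, nat_lit 4, nat_lit 0, nat_lit 2, nat_lit 0, nat_lit 2, nat_lit 2, nat_lit 0, nat_lit 1])) (.node (nat_lit 458) (.leaf ((nat_lit 127), [nat_lit 4, nat_lit 5, nat_lit 2, nat_lit 0, nat_lit 5, nat_lit 0, nat_lit 4, nat_lit 1, nat_lit 3, nat_lit 1, nat_lit 3, nat_lit 2, nat_lit 0, nat_lit 2, nat_lit 2, nat_lit 0])) (.leaf ((nat_lit 424), [nat_lit 2, nat_lit 5, nat_lit 2, nat_lit 3, nat_lit 5, nat_lit 0, nat_lit 4, nat_lit 1, nat_lit 0, nat_lit 4, nat_lit 2, nat_lit 2, nat_lit 0, nat_lit 2])))) (.node (nat_lit 460) (.leaf ((nat_lit 425), [nat_lit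 4, nat_lit 3, nat_lit 2, nat_lit 5, nat_lit 2, nat_lit 3, nat_lit 2, nat_lit 4, nat_lit 3, nat_lit 1, nat_lit 0, nat_lit 1, nat_lit 0, nat_lit 2, nat_lit 0, nat_lit 2])) (.node (nat_lit 461) (.leaf ((nat_lit 426), [nat_lit 4, nat_lit 5, nat_lit 2, nat_lit 5, nat_lit 1, nat_lit 3, nat_lit 4, nat_lit 3, nat_lit 2, nat_lit 0, nat_lit 2, nat_lit 2, nat_lit 0, nat_lit 2, nat_lit 0])) (.leaf ((nat_lit 427), [nat_lit 4, nat_lit 3, nat_lit 0, nat_lit 5, nat_lit 1, nat_lit 3, nat_lit 1, nat_lit 3, nat_lit 2, nat_lit 2, nat_lit 0])))))))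
 (.node (nat_lit 473) (.node (nat_lit 467) (.node (nat_lit 464) (.node (nat_lit 463) (.leaf ((nat_lit 428), [nat_lit 5, nat_lit 3, nat_lit 2, nat_lit 5, nat_lit 0, nat_lit 4, nat_lit 1, nat_lit 3, nat_lit 1, nat_lit 3, nat_lit 2, nat_lit 0, nat_lit 1, nat_lit 0])) (.leaf ((nat_lit 429), [nat_lit 5, nat_lit 1, nat_lit 0, nat_lit 2, nat_lit 5, nat_lit 0, nat_lit 3, nat_lit 4, nat_lit 3, nat_lit 2, nat_lit 2, nat_lit 0, nat_lit 1, nat_lit 0, nat_lit 2]))) (.node (nat_lit 465) (.leaf ((nat_lit 430), [nat_lit 3, nat_lit 2, nat_lit 5, nat_lit 0, nat_lit 5, nat_lit 4, nat_lit 1, nat_lit 0, nat_lit 3, nat_lit 4, nat_lit 0, nat_lit 2, nat_lit 2, nat_lit 0, nat_lit 2, nat_lit 2])) (.node (nat_lit 466) (.leaf ((nat_lit 431), [nat_lit 0, nat_lit 2, nat_lit 5, nat_lit 4, nat_lit 0, nat_lit 3, nat_lit 2, nat_lit 3, nat_lit 2, nat_lit 2, nat_lit 0, nat_lit 2, nat_lit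 2])) (.leaf ((nat_lit 432), [nat_lit 1, nat_lit 0, nat_lit 5, nat_lit 3, nat_lit 5, nat_lit 4, nat_lit 2, nat_lit 2, nat_lit 4, nat_lit 1, nat_lit 0, nat_lit 3, nat_lit 1, nat_lit 0, nat_lit 1, nat_lit 0, nat_lit 2, nat_lit 0, nat_lit 2, nat_lit 0])))))
 (.node (nat_lit 470) (.node (nat_lit 468) (.leaf ((nat_lit 433), [nat_lit 5, nat_lit 1, nat_lit 5, nat_lit 0, nat_lit 4, nat_lit 0, nat_lit 4, nat_lit 0, nat_lit 2, nat_lit 0, nat_lit 2, nat_lit 2])) (.node (nat_lit 469) (.leaf ((nat_lit 434), [nat_lit 2, nat_lit 5, nat_lit 1, nat_lit 5, nat_lit 2, nat_lit 3, nat_lit 4, nat_lit 2, nat_lit 3, nat_lit 2, nat_lit 2, nat_lit 0, nat_lit 2, nat_lit 2, nat_lit 0, nat_lit 1])) (.leaf ((nat_lit 435), [nat_lit 3, nat_lit 1, nat_lit 5, nat_lit 0, nat_lit 5, nat_lit 4, nat_lit 2, nat_lit 0, nat_lit 4, nat_lit 3, nat_lit 2, nat_lit 0, nat_lit 1, nat_lit 0, nat_lit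 2, nat_lit 2, nat_lit 0])))) (.node (nat_lit 471) (.leaf ((nat_lit 436), [nat_lit 5, nat_lit 1, nat_lit 3, nat_lit 2, nat_lit 5, nat_lit 2, nat_lit 4, nat_lit 1, nat_lit 0, nat_lit 2, nat_lit 3, nat_lit 2, nat_lit 0, nat_lit 1, nat_lit 0, nat_lit 2, nat_lit 2])) (.node (nat_lit 472) (.leaf ((nat_lit 437), [nat_lit 5, nat_lit 4, nat_lit 5, nat_lit 3, nat_lit 5, nat_lit 2, nat_lit 3, nat_lit 2, nat_lit 2, nat_lit 3, nat_lit 2, nat_lit 0, nat_lit 1, nat_lit 0, nat_lit 2])) (.leaf ((nat_lit 438), [nat_lit 5, nat_lit 0, nat_lit 3, nat_lit 5, nat_lit 3, nat_lit 2, nat_lit 3, nat_lit 1, nat_lit 0, nat_lit 1, nat_lit 0, nat_lit 2, nat_lit 2]))))))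
 (.node (nat_lit 478) (.node (nat_lit 475) (.node (nat_lit 474) (.leaf ((nat_lit 439), [nat_lit 3, nat_lit 5, nat_lit 0, nat_lit 3, nat_lit 5, nat_lit 4, nat_lit 0, nat_lit 3, nat_lit 0, nat_lit 1, nat_lit 4, nat_lit 0, nat_lit 1, nat_lit 0, nat_lit 1, nat_lit 0])) (.leaf ((nat_lit 440), [nat_lit 4, nat_lit 5, nat_lit 4, nat_lit 0, nat_lit 5, nat_lit 4, nat_lit 2, nat_lit 3, nat_lit 4, nat_lit 3, nat_lit 0, nat_lit 2, nat_lit 2, nat_lit 0, nat_lit 2, nat_lit 2, nat_lit 0]))) (.node (nat_lit 476) (.leaf ((nat_lit 441), [nat_lit 2, nat_lit 0, nat_lit 5, nat_lit 1, nat_lit 3, nat_lit 1, nat_lit 0, nat_lit 4, nat_lit 2, nat_lit 0, nat_lit 1, nat_lit 0, nat_lit 2, nat_lit 2, nat_lit 0])) (.node (nat_lit 477) (.leaf ((nat_lit 442), [nat_lit 5, nat_lit 0, nat_lit 5, nat_lit 1, nat_lit 3, nat_lit 2, nat_lit 4, nat_lit 3, nat_lit 0, nat_lit 2, nat_lit 2,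 nat_lit 0, nat_lit 2, nat_lit 2, nat_lit 0])) (.leaf ((nat_lit 443), [nat_lit 3, nat_lit 1, nat_lit 5, nat_lit 2, nat_lit 5, nat_lit 3, nat_lit 1, nat_lit 4, nat_lit 0, nat_lit 4, nat_lit 0, nat_lit 1, nat_lit 0])))))
 (.node (nat_lit 481) (.node (nat_lit 479) (.leaf ((nat_lit 444), [nat_lit 5, nat_lit 0, nat_lit 4, nat_lit 5, nat_lit 3, nat_lit 4, nat_lit 1, nat_lit 3, nat_lit 1, nat_lit 3, nat_lit 1, nat_lit 0, nat_lit 2, nat_lit 0, nat_lit 2, nat_lit 2, nat_lit 0])) (.node (nat_lit 480) (.leaf ((nat_lit 445), [nat_lit 1, nat_lit 4, nat_lit 2, nat_lit 5, nat_lit 1, nat_lit 3, nat_lit 1, nat_lit 0, nat_lit 1, nat_lit 0, nat_lit 2, nat_lit 0, nat_lit 2])) (.leaf ((nat_lit 446), [nat_lit 3, nat_lit 1, nat_lit 5, nat_lit 2, nat_lit 5, nat_lit 3, nat_lit 0, nat_lit 4, nat_lit 2, nat_lit 0, nat_lit 3, nat_lit 1, nat_lit 0, nat_lit 1, nat_lit 0, nat_lit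 2, nat_lit 0, nat_lit 2])))) (.node (nat_lit 482) (.leaf ((nat_lit 447), [nat_lit 4, nat_lit 5, nat_lit 2, nat_lit 3, nat_lit 5, nat_lit 1, nat_lit 3, nat_lit 4, nat_lit 2, nat_lit 3, nat_lit 2, nat_lit 0, nat_lit 2, nat_lit 2, nat_lit 0, nat_lit 2])) (.node (nat_lit 483) (.leaf ((nat_lit 152), [nat_lit 2, nat_lit 0, nat_lit 5, nat_lit 0, nat_lit 1, nat_lit 0, nat_lit 1])) (.leaf ((nat_lit 448), [nat_lit 0, nat_lit 1, nat_lit 5, nat_lit 1, nat_lit 4, nat_lit 1, nat_lit 4, nat_lit 3, nat_lit 1, nat_lit 0, nat_lit 1, nat_lit 0, nat_lit 2, nat_lit 2]))))))))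
 (.node (nat_lit 506) (.node (nat_lit 495) (.node (nat_lit 489) (.node (nat_lit 486) (.node (nat_lit 485) (.leaf ((nat_lit 449), [nat_lit 3, nat_lit 0, nat_lit 2, nat_lit 5, nat_lit 0, nat_lit 1, nat_lit 4, nat_lit 1, nat_lit 0, nat_lit 1, nat_lit 0, nat_lit 2, nat_lit 2, nat_lit 0])) (.leaf ((nat_lit 450), [nat_lit 2, nat_lit 5, nat_lit 0, nat_lit 1, nat_lit 5, nat_lit 0, nat_lit 2, nat_lit 3, nat_lit 2, nat_lit 2, nat_lit 0, nat_lit 1, nat_lit 0, nat_lit 2, nat_lit 2, nat_lit 0]))) (.node (nat_lit 487) (.leaf ((nat_lit 451), [nat_lit 4, nat_lit 5, nat_lit 2, nat_lit 0, nat_lit 5, nat_lit 4, nat_lit 2, nat_lit 3, nat_lit 0, nat_lit 3, nat_lit 0, nat_lit 2, nat_lit 0, nat_lit 2, nat_lit 2, nat_lit 0, nat_lit 1])) (.node (nat_lit 488) (.leaf ((nat_lit 452), [nat_lit 5, nat_lit 2, nat_lit 5, nat_lit 1, nat_lit 3, nat_lit 0, nat_lit 1, nat_lit 4, nat_lit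 2, nat_lit 0])) (.leaf ((nat_lit 453), [nat_lit 5, nat_lit 4, nat_lit 0, nat_lit 5, nat_lit 0, nat_lit 3, nat_lit 1, nat_lit 3, nat_lit 2, nat_lit 0, nat_lit 2, nat_lit 2, nat_lit 0, nat_lit 2, nat_lit 2, nat_lit 0])))))
 (.node (nat_lit 492) (.node (nat_lit 490) (.leaf ((nat_lit 454), [nat_lit 4, nat_lit 5, nat_lit 4, nat_lit 0, nat_lit 5, nat_lit 0, nat_lit 4, nat_lit 3, nat_lit 0, nat_lit 1, nat_lit 0])) (.node (nat_lit 491) (.leaf ((nat_lit 455), [nat_lit 4, nat_lit 5, nat_lit 1, nat_lit 5, nat_lit 1, nat_lit 0, nat_lit 1, nat_lit 0, nat_lit 3, nat_lit 0, nat_lit 2, nat_lit 0, nat_lit 1, nat_lit 0])) (.leaf ((nat_lit 456), [nat_lit 3, nat_lit 5, nat_lit 1, nat_lit 3, nat_lit 2, nat_lit 5, nat_lit 0, nat_lit 2, nat_lit 0, nat_lit 2, nat_lit 4, nat_lit 2, nat_lit 2, nat_lit 0, nat_lit 1, nat_lit 0, nat_lit 2, nat_lit 2])))) (.node (nat_lit 493)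 (.leaf ((nat_lit 457), [nat_lit 3, nat_lit 5, nat_lit 2, nat_lit 3, nat_lit 1, nat_lit 3, nat_lit 1, nat_lit 3, nat_lit 2, nat_lit 2])) (.node (nat_lit 494) (.leaf ((nat_lit 458), [nat_lit 1, nat_lit 0, nat_lit 2, nat_lit 5, nat_lit 2, nat_lit 4, nat_lit 1, nat_lit 0, nat_lit 1, nat_lit 0, nat_lit 3, nat_lit 2, nat_lit 0, nat_lit 1, nat_lit 0, nat_lit 2, nat_lit 0, nat_lit 2, nat_lit 0])) (.leaf ((nat_lit 274), [nat_lit 5, nat_lit 3, nat_lit 2, nat_lit 5, nat_lit 2, nat_lit 4, nat_lit 0, nat_lit 3, nat_lit 2, nat_lit 3, nat_lit 0, nat_lit 2, nat_lit 2, nat_lit 0, nat_lit 1, nat_lit 0, nat_lit 2, nat_lit 0]))))))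
 (.node (nat_lit 500) (.node (nat_lit 497) (.node (nat_lit 496) (.leaf ((nat_lit 459), [nat_lit 1, nat_lit 3, nat_lit 2, nat_lit 5, nat_lit 4, nat_lit 0, nat_lit 1, nat_lit 4, nat_lit 1, nat_lit 0, nat_lit 1, nat_lit 0, nat_lit 2])) (.leaf ((nat_lit 460), [nat_lit 4, nat_lit 5, nat_lit 3, nat_lit 5, nat_lit 0, nat_lit 2, nat_lit 4, nat_lit 1, nat_lit 0, nat_lit 3, nat_lit 2, nat_lit 0, nat_lit 2, nat_lit 0, nat_lit 1]))) (.node (nat_lit 498) (.leaf ((nat_lit 338), [nat_lit 1, nat_lit 0, nat_lit 3, nat_lit 5, nat_lit 3, nat_lit 1, nat_lit 4, nat_lit 3, nat_lit 0, nat_lit 3, nat_lit 1, nat_lit 0, nat_lit 2, nat_lit 2, nat_lit 0, nat_lit 2, nat_lit 2])) (.node (nat_lit 499) (.leaf ((nat_lit 461), [nat_lit 4, nat_lit 3, nat_lit 5, nat_lit 0, nat_lit 5, nat_lit 0, nat_lit 4, nat_lit 1, nat_lit 3, nat_lit 0, nat_lit 3])) (.leaf ((nat_lit 462), [nat_lit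 1, nat_lit 0, nat_lit 3, nat_lit 5, nat_lit 0, nat_lit 1, nat_lit 3, nat_lit 0, nat_lit 3, nat_lit 1, nat_lit 0, nat_lit 2, nat_lit 2])))))
 (.node (nat_lit 503) (.node (nat_lit 501) (.leaf ((nat_lit 463), [nat_lit 3, nat_lit 5, nat_lit 2, nat_lit 3, nat_lit 0, nat_lit 5, nat_lit 2, nat_lit 4, nat_lit 1, nat_lit 0, nat_lit 1, nat_lit 0, nat_lit 3, nat_lit 2, nat_lit 0, nat_lit 2, nat_lit 0, nat_lit 1, nat_lit 0, nat_lit 1, nat_lit 0])) (.node (nat_lit 502) (.leaf ((nat_lit 464), [nat_lit 5, nat_lit 1, nat_lit 3, nat_lit 0, nat_lit 5, nat_lit 0, nat_lit 3, nat_lit 4, nat_lit 2, nat_lit 0, nat_lit 4, nat_lit 0, nat_lit 2, nat_lit 0, nat_lit 1, nat_lit 0])) (.leaf ((nat_lit 465), [nat_lit 1, nat_lit 0, nat_lit 2, nat_lit 5, nat_lit 2, nat_lit 3, nat_lit 1, nat_lit 3, nat_lit 4, nat_lit 1, nat_lit 0, nat_lit 1, nat_lit 0])))) (.node (nat_lit 504) (.leaf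 ((nat_lit 466), [nat_lit 4, nat_lit 5, nat_lit 3, nat_lit 0, nat_lit 3, nat_lit 2, nat_lit 3, nat_lit 0, nat_lit 1, nat_lit 0, nat_lit 1, nat_lit 0])) (.node (nat_lit 505) (.leaf ((nat_lit 467), [nat_lit 0, nat_lit 4, nat_lit 2, nat_lit 0, nat_lit 5, nat_lit 0, nat_lit 4, nat_lit 1, nat_lit 0, nat_lit 4, nat_lit 2, nat_lit 0, nat_lit 1, nat_lit 0, nat_lit 2, nat_lit 0])) (.leaf ((nat_lit 468), [nat_lit 5, nat_lit 2, nat_lit 5, nat_lit 3, nat_lit 0, nat_lit 3, nat_lit 2, nat_lit 0, nat_lit 3, nat_lit 2, nat_lit 2, nat_lit 0, nat_lit 2, nat_lit 2, nat_lit 0])))))))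
 (.node (nat_lit 517) (.node (nat_lit 511) (.node (nat_lit 508) (.node (nat_lit 507) (.leaf ((nat_lit 469), [nat_lit 2, nat_lit 5, nat_lit 0, nat_lit 5, nat_lit 3, nat_lit 2, nat_lit 3, nat_lit 2, nat_lit 2, nat_lit 3, nat_lit 2, nat_lit 2, nat_lit 0, nat_lit 1, nat_lit 0])) (.leaf ((nat_lit 470), [nat_lit 3, nat_lit 0, nat_lit 5, nat_lit 3, nat_lit 5, nat_lit 0, nat_lit 2, nat_lit 2, nat_lit 3, nat_lit 2, nat_lit 0, nat_lit 2, nat_lit 2, nat_lit 0]))) (.node (nat_lit 509) (.leaf ((nat_lit 471), [nat_lit 5, nat_lit 2, nat_lit 0, nat_lit 5, nat_lit 3, nat_lit 2, nat_lit 4, nat_lit 2, nat_lit 3, nat_lit 2, nat_lit 0, nat_lit 1, nat_lit 0])) (.node (nat_lit 510) (.leaf ((nat_lit 472), [nat_lit 2, nat_lit 4, nat_lit 5, nat_lit 2, nat_lit 0, nat_lit 5, nat_lit 4, nat_lit 0, nat_lit 4, nat_lit 2, nat_lit 2, nat_lit 0])) (.leaf ((nat_lit 473), [nat_lit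 3, nat_lit 5, nat_lit 1, nat_lit 3, nat_lit 2, nat_lit 5, nat_lit 0, nat_lit 4, nat_lit 1, nat_lit 0, nat_lit 4, nat_lit 2, nat_lit 0, nat_lit 1])))))
 (.node (nat_lit 514) (.node (nat_lit 512) (.leaf ((nat_lit 474), [nat_lit 3, nat_lit 0, nat_lit 5, nat_lit 3, nat_lit 5, nat_lit 2, nat_lit 4, nat_lit 1, nat_lit 3, nat_lit 1, nat_lit 3, nat_lit 0, nat_lit 1, nat_lit 0, nat_lit 2, nat_lit 2, nat_lit 0])) (.node (nat_lit 513) (.leaf ((nat_lit 475), [nat_lit 3, nat_lit 0, nat_lit 5, nat_lit 3, nat_lit 4, nat_lit 0, nat_lit 3, nat_lit 0, nat_lit 2, nat_lit 0, nat_lit 2, nat_lit 2, nat_lit 0, nat_lit 2])) (.leaf ((nat_lit 476), [nat_lit 4, nat_lit 1, nat_lit 5, nat_lit 0, nat_lit 5, nat_lit 3, nat_lit 2, nat_lit 0, nat_lit 1, nat_lit 0, nat_lit 3, nat_lit 1, nat_lit 0, nat_lit 2, nat_lit 2, nat_lit 0, nat_lit 1, nat_lit 0])))) (.node (nat_lit 515) (.leaf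 ((nat_lit 477), [nat_lit 1, nat_lit 5, nat_lit 1, nat_lit 5, nat_lit 4, nat_lit 1, nat_lit 3, nat_lit 0, nat_lit 1, nat_lit 0, nat_lit 2, nat_lit 0, nat_lit 2, nat_lit 0])) (.node (nat_lit 516) (.leaf ((nat_lit 478), [nat_lit 0, nat_lit 5, nat_lit 2, nat_lit 0, nat_lit 5, nat_lit 4, nat_lit 0, nat_lit 4, nat_lit 3, nat_lit 2, nat_lit 0, nat_lit 1, nat_lit 0, nat_lit 2, nat_lit 0, nat_lit 2, nat_lit 0])) (.leaf ((nat_lit 479), [nat_lit 1, nat_lit 5, nat_lit 1, nat_lit 5, nat_lit 1, nat_lit 4, nat_lit 0, nat_lit 3, nat_lit 2, nat_lit 3, nat_lit 2, nat_lit 0, nat_lit 2, nat_lit 2, nat_lit 0, nat_lit 2, nat_lit 0]))))))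
 (.node (nat_lit 522) (.node (nat_lit 519) (.node (nat_lit 518) (.leaf ((nat_lit 480), [nat_lit 2, nat_lit 3, nat_lit 0, nat_lit 5, nat_lit 2, nat_lit 4, nat_lit 0, nat_lit 4, nat_lit 2, nat_lit 2, nat_lit 0, nat_lit 2, nat_lit 0])) (.leaf ((nat_lit 170), [nat_lit 4, nat_lit 5, nat_lit 2, nat_lit 3, nat_lit 1, nat_lit 3, nat_lit 4, nat_lit 1, nat_lit 0, nat_lit 2, nat_lit 2, nat_lit 0, nat_lit 2]))) (.node (nat_lit 520) (.leaf ((nat_lit 352), [nat_lit 2, nat_lit 5, nat_lit 3, nat_lit 5, nat_lit 4, nat_lit 3, nat_lit 2, nat_lit 0, nat_lit 3, nat_lit 2])) (.node (nat_lit 521) (.leaf ((nat_lit 61), [nat_lit 5, nat_lit 1, nat_lit 0, nat_lit 2, nat_lit 5, nat_lit 2, nat_lit 3, nat_lit 4, nat_lit 1, nat_lit 0, nat_lit 3, nat_lit 2, nat_lit 2, nat_lit 0, nat_lit 2, nat_lit 2, nat_lit 0, nat_lit 1])) (.leaf ((nat_lit 481), [nat_lit 0, nat_lit 2, nat_lit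 4, nat_lit 0, nat_lit 5, nat_lit 4, nat_lit 2, nat_lit 4, nat_lit 0, nat_lit 1, nat_lit 0])))))
 (.node (nat_lit 525) (.node (nat_lit 523) (.leaf ((nat_lit 482), [nat_lit 2, nat_lit 5, nat_lit 1, nat_lit 0, nat_lit 4, nat_lit 3, nat_lit 0, nat_lit 2, nat_lit 2, nat_lit 0, nat_lit 1, nat_lit 0])) (.node (nat_lit 524) (.leaf ((nat_lit 483), [nat_lit 2, nat_lit 0, nat_lit 2, nat_lit 5, nat_lit 1, nat_lit 4, nat_lit 3, nat_lit 2, nat_lit 0, nat_lit 3, nat_lit 1, nat_lit 0, nat_lit 1, nat_lit 0])) (.leaf ((nat_lit 484), [nat_lit 1, nat_lit 5, nat_lit 0, nat_lit 3, nat_lit 2, nat_lit 3, nat_lit 2, nat_lit 3, nat_lit 1])))) (.node (nat_lit 526) (.leaf ((nat_lit 485), [nat_lit 0, nat_lit 5, nat_lit 0, nat_lit 4, nat_lit 1, nat_lit 0, nat_lit 3, nat_lit 1, nat_lit 0, nat_lit 1])) (.node (nat_lit 527) (.leaf ((nat_lit 486), [nat_lit 5, nat_lit 4, nat_lit 3,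 nat_lit 2, nat_lit 5, nat_lit 4, nat_lit 1, nat_lit 3, nat_lit 2, nat_lit 2, nat_lit 3, nat_lit 2, nat_lit 0, nat_lit 2, nat_lit 2, nat_lit 0, nat_lit 2, nat_lit 0])) (.leaf ((nat_lit 487), [nat_lit 0, nat_lit 1, nat_lit 5, nat_lit 4, nat_lit 2, nat_lit 4, nat_lit 0, nat_lit 1, nat_lit 0, nat_lit 3, nat_lit 0, nat_lit 2, nat_lit 2, nat_lit 0, nat_lit 2, nat_lit 0, nat_lit 1]))))))))))
noncomputable def pWd_3 : Tr (ℕ × List ℕ) := (.node (nat_lit 616) (.node (nat_lit 572) (.node (nat_lit 550) (.node (nat_lit 539) (.node (nat_lit 533) (.node (nat_lit 530) (.node (nat_lit 529) (.leaf ((nat_lit 448), [nat_lit 3, nat_lit 4, nat_lit 5, nat_lit 1, nat_lit 4, nat_lit 2, nat_lit 0, nat_lit 1, nat_lit 0, nat_lit 2, nat_lit 2, nat_lit 0])) (.leaf ((nat_lit 488), [nat_lit 2, nat_lit 5, nat_lit 2, nat_lit 3, nat_lit 5, nat_lit 3, nat_lit 0, nat_lit 1, nat_lit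 0, nat_lit 3, nat_lit 2, nat_lit 0, nat_lit 1]))) (.node (nat_lit 531) (.leaf ((nat_lit 489), [nat_lit 1, nat_lit 5, nat_lit 0, nat_lit 5, nat_lit 4, nat_lit 2, nat_lit 0, nat_lit 4, nat_lit 1, nat_lit 0, nat_lit 1, nat_lit 0, nat_lit 2, nat_lit 0, nat_lit 2])) (.node (nat_lit 532) (.leaf ((nat_lit 490), [nat_lit 1, nat_lit 0, nat_lit 3, nat_lit 5, nat_lit 4, nat_lit 2, nat_lit 3, nat_lit 2, nat_lit 0, nat_lit 2, nat_lit 0])) (.leaf ((nat_lit 491), [nat_lit 1, nat_lit 5, nat_lit 3, nat_lit 5, nat_lit 0, nat_lit 3, nat_lit 0, nat_lit 4, nat_lit 2, nat_lit 0, nat_lit 2])))))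
 (.node (nat_lit 536) (.node (nat_lit 534) (.leaf ((nat_lit 492), [nat_lit 4, nat_lit 2, nat_lit 5, nat_lit 4, nat_lit 0, nat_lit 1, nat_lit 0, nat_lit 3, nat_lit 1, nat_lit 0, nat_lit 2, nat_lit 2])) (.node (nat_lit 535) (.leaf ((nat_lit 493), [nat_lit 4, nat_lit 3, nat_lit 2, nat_lit 5, nat_lit 4, nat_lit 0, nat_lit 1, nat_lit 0, nat_lit 1, nat_lit 0, nat_lit 3, nat_lit 2, nat_lit 0, nat_lit 2, nat_lit 2])) (.leaf ((nat_lit 494), [nat_lit 4, nat_lit 3, nat_lit 2, nat_lit 5, nat_lit 3, nat_lit 4, nat_lit 3, nat_lit 2, nat_lit 3, nat_lit 1, nat_lit 0, nat_lit 2, nat_lit 0, nat_lit 1, nat_lit 0])))) (.node (nat_lit 537) (.leaf ((nat_lit 495), [nat_lit 3, nat_lit 2, nat_lit 0, nat_lit 5, nat_lit 4, nat_lit 2, nat_lit 3, nat_lit 2, nat_lit 0, nat_lit 1])) (.node (nat_lit 538) (.leaf ((nat_lit 238), [nat_lit 4, nat_lit 5, nat_lit 2, nat_lit 3, nat_lit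 5, nat_lit 3, nat_lit 4, nat_lit 3, nat_lit 1, nat_lit 3, nat_lit 1, nat_lit 0, nat_lit 2, nat_lit 0, nat_lit 2, nat_lit 2])) (.leaf ((nat_lit 330), [nat_lit 5, nat_lit 0, nat_lit 4, nat_lit 5, nat_lit 1, nat_lit 3, nat_lit 4, nat_lit 0, nat_lit 1]))))))
 (.node (nat_lit 544) (.node (nat_lit 541) (.node (nat_lit 540) (.leaf ((nat_lit 496), [nat_lit 5, nat_lit 1, nat_lit 4, nat_lit 2, nat_lit 3, nat_lit 1, nat_lit 3, nat_lit 2, nat_lit 2, nat_lit 0])) (.leaf ((nat_lit 497), [nat_lit 5, nat_lit 4, nat_lit 0, nat_lit 5, nat_lit 0, nat_lit 2, nat_lit 0, nat_lit 4, nat_lit 1, nat_lit 4, nat_lit 2, nat_lit 0, nat_lit 1, nat_lit 0, nat_lit 2, nat_lit 0]))) (.node (nat_lit 542) (.leaf ((nat_lit 498), [nat_lit 5, nat_lit 3, nat_lit 2, nat_lit 5, nat_lit 1, nat_lit 4, nat_lit 1, nat_lit 4, nat_lit 3, nat_lit 2, nat_lit 0, nat_lit 1, nat_lit 0, nat_lit 2, nat_lit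 0])) (.node (nat_lit 543) (.leaf ((nat_lit 499), [nat_lit 2, nat_lit 5, nat_lit 2, nat_lit 3, nat_lit 5, nat_lit 2, nat_lit 3, nat_lit 4, nat_lit 3, nat_lit 2, nat_lit 3, nat_lit 2, nat_lit 2, nat_lit 0])) (.leaf ((nat_lit 500), [nat_lit 0, nat_lit 5, nat_lit 3, nat_lit 2, nat_lit 3, nat_lit 1, nat_lit 0, nat_lit 2, nat_lit 2, nat_lit 0, nat_lit 1])))))
 (.node (nat_lit 547) (.node (nat_lit 545) (.leaf ((nat_lit 501), [nat_lit 5, nat_lit 1, nat_lit 5, nat_lit 0, nat_lit 3, nat_lit 2, nat_lit 4, nat_lit 0, nat_lit 2, nat_lit 0, nat_lit 2, nat_lit 2, nat_lit 0, nat_lit 2])) (.node (nat_lit 546) (.leaf ((nat_lit 502), [nat_lit 3, nat_lit 1, nat_lit 5, nat_lit 0, nat_lit 5, nat_lit 3, nat_lit 0, nat_lit 3, nat_lit 4, nat_lit 3, nat_lit 2, nat_lit 0, nat_lit 2, nat_lit 0, nat_lit 1, nat_lit 0])) (.leaf ((nat_lit 503), [nat_lit 2, nat_lit 4, nat_lit 0,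 nat_lit 5, nat_lit 2, nat_lit 3, nat_lit 0, nat_lit 2, nat_lit 4, nat_lit 3, nat_lit 2, nat_lit 2, nat_lit 0, nat_lit 2, nat_lit 0, nat_lit 1])))) (.node (nat_lit 548) (.leaf ((nat_lit 504), [nat_lit 2, nat_lit 3, nat_lit 0, nat_lit 5, nat_lit 2, nat_lit 4, nat_lit 2, nat_lit 0, nat_lit 2, nat_lit 3, nat_lit 0, nat_lit 2, nat_lit 0, nat_lit 2, nat_lit 2, nat_lit 0, nat_lit 1])) (.node (nat_lit 549) (.leaf ((nat_lit 505), [nat_lit 0, nat_lit 2, nat_lit 5, nat_lit 3, nat_lit 2, nat_lit 0, nat_lit 4])) (.leaf ((nat_lit 340), [nat_lit 2, nat_lit 0, nat_lit 2, nat_lit 5, nat_lit 2, nat_lit 3, nat_lit 2, nat_lit 0, nat_lit 4, nat_lit 0, nat_lit 1, nat_lit 0, nat_lit 2, nat_lit 0])))))))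
 (.node (nat_lit 561) (.node (nat_lit 555) (.node (nat_lit 552) (.node (nat_lit 551) (.leaf ((nat_lit 506), [nat_lit 1, nat_lit 3, nat_lit 0, nat_lit 5, nat_lit 0, nat_lit 3, nat_lit 4, nat_lit 3, nat_lit 2, nat_lit 0, nat_lit 2, nat_lit 2])) (.leaf ((nat_lit 507), [nat_lit 2, nat_lit 0, nat_lit 1, nat_lit 5, nat_lit 3, nat_lit 4, nat_lit 1, nat_lit 3, nat_lit 0, nat_lit 3, nat_lit 0, nat_lit 2, nat_lit 0, nat_lit 2, nat_lit 2, nat_lit 0, nat_lit 1, nat_lit 0]))) (.node (nat_lit 553) (.leaf ((nat_lit 508), [nat_lit 0, nat_lit 5, nat_lit 2, nat_lit 0, nat_lit 5, nat_lit 2, nat_lit 3, nat_lit 1, nat_lit 3, nat_lit 4, nat_lit 3, nat_lit 1, nat_lit 0, nat_lit 2, nat_lit 0, nat_lit 2, nat_lit 2, nat_lit 0])) (.node (nat_lit 554) (.leaf ((nat_lit 509), [nat_lit 4, nat_lit 5, nat_lit 4, nat_lit 0, nat_lit 5, nat_lit 3, nat_lit 0, nat_lit 1, nat_lit 3, nat_lit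 0, nat_lit 3, nat_lit 2, nat_lit 2, nat_lit 0, nat_lit 2, nat_lit 2, nat_lit 0, nat_lit 1])) (.leaf ((nat_lit 510), [nat_lit 5, nat_lit 4, nat_lit 5, nat_lit 1, nat_lit 5, nat_lit 0, nat_lit 3, nat_lit 1, nat_lit 3, nat_lit 2, nat_lit 0, nat_lit 1, nat_lit 0, nat_lit 1, nat_lit 0, nat_lit 2])))))
 (.node (nat_lit 558) (.node (nat_lit 556) (.leaf ((nat_lit 511), [nat_lit 1, nat_lit 0, nat_lit 5, nat_lit 2, nat_lit 4, nat_lit 2, nat_lit 3, nat_lit 0, nat_lit 3, nat_lit 0, nat_lit 1, nat_lit 0, nat_lit 2, nat_lit 0, nat_lit 2, nat_lit 2, nat_lit 0])) (.node (nat_lit 557) (.leaf ((nat_lit 359), [nat_lit 5, nat_lit 2, nat_lit 0, nat_lit 5, nat_lit 4, nat_lit 3, nat_lit 2, nat_lit 4, nat_lit 3, nat_lit 2, nat_lit 0, nat_lit 2, nat_lit 0, nat_lit 1, nat_lit 0, nat_lit 1, nat_lit 0])) (.leaf ((nat_lit 512), [nat_lit 0, nat_lit 2, nat_lit 5, nat_lit 1, nat_lit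 3, nat_lit 2, nat_lit 4, nat_lit 2, nat_lit 2, nat_lit 0, nat_lit 2, nat_lit 2, nat_lit 0])))) (.node (nat_lit 559) (.leaf ((nat_lit 513), [nat_lit 3, nat_lit 4, nat_lit 5, nat_lit 2, nat_lit 5, nat_lit 4, nat_lit 2, nat_lit 3, nat_lit 0, nat_lit 4, nat_lit 1, nat_lit 0, nat_lit 1])) (.node (nat_lit 560) (.leaf ((nat_lit 514), [nat_lit 4, nat_lit 3, nat_lit 5, nat_lit 0, nat_lit 5, nat_lit 2, nat_lit 2, nat_lit 3, nat_lit 4, nat_lit 3, nat_lit 1, nat_lit 0, nat_lit 1])) (.leaf ((nat_lit 515), [nat_lit 3, nat_lit 5, nat_lit 0, nat_lit 5, nat_lit 1, nat_lit 3, nat_lit 0, nat_lit 1, nat_lit 4, nat_lit 0, nat_lit 2, nat_lit 0, nat_lit 2, nat_lit 2, nat_lit 0, nat_lit 2, nat_lit 0]))))))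
 (.node (nat_lit 566) (.node (nat_lit 563) (.node (nat_lit 562) (.leaf ((nat_lit 516), [nat_lit 4, nat_lit 2, nat_lit 5, nat_lit 1, nat_lit 5, nat_lit 4, nat_lit 1, nat_lit 4, nat_lit 1, nat_lit 4, nat_lit 1, nat_lit 0, nat_lit 2])) (.leaf ((nat_lit 517), [nat_lit 3, nat_lit 0, nat_lit 2, nat_lit 5, nat_lit 3, nat_lit 0, nat_lit 1, nat_lit 0, nat_lit 4, nat_lit 1, nat_lit 0, nat_lit 1, nat_lit 0, nat_lit 2, nat_lit 2, nat_lit 0]))) (.node (nat_lit 564) (.leaf ((nat_lit 518), [nat_lit 2, nat_lit 2, nat_lit 5, nat_lit 3, nat_lit 2, nat_lit 3, nat_lit 2, nat_lit 2, nat_lit 3, nat_lit 2, nat_lit 2, nat_lit 0, nat_lit 1, nat_lit 0, nat_lit 2, nat_lit 2])) (.node (nat_lit 565) (.leaf ((nat_lit 519), [nat_lit 3, nat_lit 0, nat_lit 5, nat_lit 2, nat_lit 2, nat_lit 4, nat_lit 1, nat_lit 0, nat_lit 3, nat_lit 2, nat_lit 0, nat_lit 1, nat_lit 0])) (.leaf ((nat_lit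 520), [nat_lit 5, nat_lit 4, nat_lit 5, nat_lit 2, nat_lit 5, nat_lit 4, nat_lit 1, nat_lit 4, nat_lit 2, nat_lit 4, nat_lit 0, nat_lit 1, nat_lit 0, nat_lit 2, nat_lit 2, nat_lit 0, nat_lit 1])))))
 (.node (nat_lit 569) (.node (nat_lit 567) (.leaf ((nat_lit 521), [nat_lit 0, nat_lit 5, nat_lit 0, nat_lit 1, nat_lit 5, nat_lit 0, nat_lit 1, nat_lit 3, nat_lit 0, nat_lit 4, nat_lit 0, nat_lit 1, nat_lit 0, nat_lit 2, nat_lit 2, nat_lit 0, nat_lit 2])) (.node (nat_lit 568) (.leaf ((nat_lit 522), [nat_lit 0, nat_lit 5, nat_lit 2, nat_lit 0, nat_lit 5, nat_lit 0, nat_lit 3, nat_lit 2, nat_lit 0, nat_lit 3, nat_lit 2, nat_lit 2, nat_lit 0, nat_lit 2, nat_lit 2, nat_lit 0, nat_lit 2, nat_lit 2])) (.leaf ((nat_lit 523), [nat_lit 3, nat_lit 0, nat_lit 2, nat_lit 5, nat_lit 2, nat_lit 4, nat_lit 0, nat_lit 3, nat_lit 2, nat_lit 3, nat_lit 2, nat_lit 2, nat_lit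 0, nat_lit 2, nat_lit 2, nat_lit 0, nat_lit 2])))) (.node (nat_lit 570) (.leaf ((nat_lit 524), [nat_lit 2, nat_lit 0, nat_lit 5, nat_lit 1, nat_lit 3, nat_lit 0, nat_lit 4, nat_lit 2, nat_lit 2, nat_lit 0, nat_lit 2, nat_lit 0])) (.node (nat_lit 571) (.leaf ((nat_lit 525), [nat_lit 2, nat_lit 0, nat_lit 5, nat_lit 4, nat_lit 3, nat_lit 1, nat_lit 3, nat_lit 1, nat_lit 0, nat_lit 2, nat_lit 0, nat_lit 1])) (.leaf ((nat_lit 526), [nat_lit 5, nat_lit 2, nat_lit 3, nat_lit 0, nat_lit 5, nat_lit 3, nat_lit 2, nat_lit 2, nat_lit 0, nat_lit 4, nat_lit 2, nat_lit 0, nat_lit 2, nat_lit 2, nat_lit 0, nat_lit 2, nat_lit 2]))))))))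
 (.node (nat_lit 594) (.node (nat_lit 583) (.node (nat_lit 577) (.node (nat_lit 574) (.node (nat_lit 573) (.leaf ((nat_lit 527), [nat_lit 4, nat_lit 5, nat_lit 0, nat_lit 3, nat_lit 0, nat_lit 4, nat_lit 0, nat_lit 1, nat_lit 0, nat_lit 1, nat_lit 0, nat_lit 2])) (.leaf ((nat_lit 528), [nat_lit 2, nat_lit 5, nat_lit 0, nat_lit 1, nat_lit 5, nat_lit 2, nat_lit 4, nat_lit 3, nat_lit 0, nat_lit 2, nat_lit 3, nat_lit 0, nat_lit 1, nat_lit 0, nat_lit 2, nat_lit 0, nat_lit 2, nat_lit 0]))) (.node (nat_lit 575) (.leaf ((nat_lit 529), [nat_lit 4, nat_lit 2, nat_lit 5, nat_lit 1, nat_lit 3, nat_lit 1, nat_lit 3, nat_lit 0, nat_lit 3, nat_lit 1, nat_lit 0, nat_lit 2, nat_lit 0, nat_lit 2])) (.node (nat_lit 576) (.leaf ((nat_lit 151), [nat_lit 3, nat_lit 5, nat_lit 3, nat_lit 0, nat_lit 5, nat_lit 0, nat_lit 3, nat_lit 0, nat_lit 1, nat_lit 4, nat_lit 0, nat_lit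 2, nat_lit 0, nat_lit 2, nat_lit 2, nat_lit 0, nat_lit 1, nat_lit 0])) (.leaf ((nat_lit 530), [nat_lit 3, nat_lit 2, nat_lit 5, nat_lit 0, nat_lit 5, nat_lit 0, nat_lit 2, nat_lit 3, nat_lit 1, nat_lit 3, nat_lit 2, nat_lit 2, nat_lit 0, nat_lit 2, nat_lit 2, nat_lit 0, nat_lit 2, nat_lit 2, nat_lit 0])))))
 (.node (nat_lit 580) (.node (nat_lit 578) (.leaf ((nat_lit 531), [nat_lit 5, nat_lit 4, nat_lit 2, nat_lit 5, nat_lit 4, nat_lit 3, nat_lit 2, nat_lit 4, nat_lit 2, nat_lit 2, nat_lit 0, nat_lit 2, nat_lit 0, nat_lit 1])) (.node (nat_lit 579) (.leaf ((nat_lit 532), [nat_lit 2, nat_lit 0, nat_lit 5, nat_lit 3, nat_lit 1, nat_lit 3, nat_lit 0, nat_lit 2, nat_lit 0, nat_lit 2, nat_lit 2, nat_lit 0, nat_lit 1])) (.leaf ((nat_lit 533), [nat_lit 4, nat_lit 1, nat_lit 5, nat_lit 3, nat_lit 5, nat_lit 4, nat_lit 0, nat_lit 3, nat_lit 0, nat_lit 1, nat_lit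 0, nat_lit 2])))) (.node (nat_lit 581) (.leaf ((nat_lit 534), [nat_lit 0, nat_lit 5, nat_lit 2, nat_lit 3, nat_lit 5, nat_lit 3, nat_lit 1, nat_lit 3, nat_lit 1, nat_lit 4, nat_lit 1, nat_lit 0, nat_lit 2, nat_lit 0, nat_lit 2])) (.node (nat_lit 582) (.leaf ((nat_lit 479), [nat_lit 3, nat_lit 5, nat_lit 1, nat_lit 3, nat_lit 2, nat_lit 5, nat_lit 2, nat_lit 2, nat_lit 3, nat_lit 2, nat_lit 4, nat_lit 2, nat_lit 0, nat_lit 1, nat_lit 0])) (.leaf ((nat_lit 535), [nat_lit 3, nat_lit 0, nat_lit 5, nat_lit 3, nat_lit 5, nat_lit 2, nat_lit 4, nat_lit 0, nat_lit 3, nat_lit 4, nat_lit 0, nat_lit 2]))))))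
 (.node (nat_lit 588) (.node (nat_lit 585) (.node (nat_lit 584) (.leaf ((nat_lit 536), [nat_lit 2, nat_lit 4, nat_lit 1, nat_lit 0, nat_lit 3, nat_lit 0, nat_lit 2, nat_lit 2])) (.leaf ((nat_lit 537), [nat_lit 5, nat_lit 4, nat_lit 2, nat_lit 0, nat_lit 5, nat_lit 3, nat_lit 1, nat_lit 0, nat_lit 2, nat_lit 3, nat_lit 2, nat_lit 0, nat_lit 1, nat_lit 0, nat_lit 2]))) (.node (nat_lit 586) (.leaf ((nat_lit 538), [nat_lit 5, nat_lit 0, nat_lit 1, nat_lit 5, nat_lit 3, nat_lit 2, nat_lit 3, nat_lit 4, nat_lit 1, nat_lit 3, nat_lit 1, nat_lit 0, nat_lit 2, nat_lit 2, nat_lit 0])) (.node (nat_lit 587) (.leaf ((nat_lit 496), [nat_lit 4, nat_lit 3, nat_lit 2, nat_lit 5, nat_lit 1, nat_lit 0, nat_lit 2, nat_lit 0, nat_lit 2, nat_lit 4, nat_lit 0, nat_lit 1, nat_lit 0, nat_lit 2, nat_lit 0, nat_lit 2, nat_lit 2, nat_lit 0])) (.leaf ((nat_lit 3), [nat_lit 2,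 nat_lit 0, nat_lit 1, nat_lit 5, nat_lit 4, nat_lit 1, nat_lit 3, nat_lit 4, nat_lit 3, nat_lit 2, nat_lit 0, nat_lit 1, nat_lit 0, nat_lit 1])))))
 (.node (nat_lit 591) (.node (nat_lit 589) (.leaf ((nat_lit 539), [nat_lit 5, nat_lit 4, nat_lit 0, nat_lit 5, nat_lit 1, nat_lit 0, nat_lit 4, nat_lit 1, nat_lit 3, nat_lit 0, nat_lit 2, nat_lit 2, nat_lit 0, nat_lit 2])) (.node (nat_lit 590) (.leaf ((nat_lit 540), [nat_lit 0, nat_lit 5, nat_lit 4, nat_lit 0, nat_lit 2, nat_lit 0, nat_lit 2, nat_lit 2, nat_lit 0, nat_lit 2, nat_lit 0])) (.leaf ((nat_lit 541), [nat_lit 4, nat_lit 1, nat_lit 0, nat_lit 5, nat_lit 4, nat_lit 2, nat_lit 3, nat_lit 4, nat_lit 2, nat_lit 3, nat_lit 0, nat_lit 1, nat_lit 0, nat_lit 1, nat_lit 0, nat_lit 2])))) (.node (nat_lit 592) (.leaf ((nat_lit 286), [nat_lit 5, nat_lit 2, nat_lit 3, nat_lit 5, nat_lit 3, nat_lit 4, nat_lit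 0, nat_lit 4, nat_lit 3, nat_lit 2, nat_lit 0, nat_lit 1, nat_lit 0, nat_lit 2, nat_lit 0, nat_lit 2])) (.node (nat_lit 593) (.leaf ((nat_lit 478), [nat_lit 3, nat_lit 5, nat_lit 1, nat_lit 3, nat_lit 2, nat_lit 5, nat_lit 4, nat_lit 2, nat_lit 0, nat_lit 2, nat_lit 3, nat_lit 1, nat_lit 0, nat_lit 2, nat_lit 0, nat_lit 1])) (.leaf ((nat_lit 542), [nat_lit 3, nat_lit 4, nat_lit 5, nat_lit 2, nat_lit 5, nat_lit 2, nat_lit 3, nat_lit 1, nat_lit 3, nat_lit 4, nat_lit 2, nat_lit 0, nat_lit 2, nat_lit 0, nat_lit 1, nat_lit 0])))))))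
 (.node (nat_lit 605) (.node (nat_lit 599) (.node (nat_lit 596) (.node (nat_lit 595) (.leaf ((nat_lit 543), [nat_lit 0, nat_lit 5, nat_lit 3, nat_lit 5, nat_lit 3, nat_lit 2, nat_lit 0, nat_lit 2, nat_lit 3, nat_lit 2, nat_lit 0, nat_lit 1, nat_lit 0, nat_lit 1, nat_lit 0, nat_lit 2])) (.leaf ((nat_lit 544), [nat_lit 4, nat_lit 5, nat_lit 2, nat_lit 3, nat_lit 5, nat_lit 0, nat_lit 3, nat_lit 1, nat_lit 3, nat_lit 1, nat_lit 0, nat_lit 2, nat_lit 0, nat_lit 2, nat_lit 2, nat_lit 0]))) (.node (nat_lit 597) (.leaf ((nat_lit 545), [nat_lit 0, nat_lit 2, nat_lit 5, nat_lit 3, nat_lit 5, nat_lit 4, nat_lit 2, nat_lit 3, nat_lit 2, nat_lit 2, nat_lit 0])) (.node (nat_lit 598) (.leaf ((nat_lit 546), [nat_lit 5, nat_lit 1, nat_lit 5, nat_lit 0, nat_lit 4, nat_lit 2, nat_lit 2])) (.leaf ((nat_lit 547), [nat_lit 0, nat_lit 4, nat_lit 2, nat_lit 0, nat_lit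 5, nat_lit 1, nat_lit 4, nat_lit 3, nat_lit 1, nat_lit 0, nat_lit 2, nat_lit 0, nat_lit 1])))))
 (.node (nat_lit 602) (.node (nat_lit 600) (.leaf ((nat_lit 190), [nat_lit 3, nat_lit 0, nat_lit 5, nat_lit 3, nat_lit 5, nat_lit 1, nat_lit 4, nat_lit 3, nat_lit 2, nat_lit 3, nat_lit 2, nat_lit 0, nat_lit 2, nat_lit 2, nat_lit 0, nat_lit 2])) (.node (nat_lit 601) (.leaf ((nat_lit 548), [nat_lit 1, nat_lit 4, nat_lit 5, nat_lit 1, nat_lit 5, nat_lit 4, nat_lit 0, nat_lit 4, nat_lit 0, nat_lit 2, nat_lit 0, nat_lit 2, nat_lit 2, nat_lit 0, nat_lit 1, nat_lit 0])) (.leaf ((nat_lit 549), [nat_lit 4, nat_lit 3, nat_lit 5, nat_lit 4, nat_lit 0, nat_lit 3, nat_lit 1, nat_lit 0, nat_lit 2, nat_lit 2, nat_lit 0, nat_lit 2])))) (.node (nat_lit 603) (.leaf ((nat_lit 550), [nat_lit 4, nat_lit 1, nat_lit 0, nat_lit 5, nat_lit 2, nat_lit 3, nat_lit 1, nat_lit 3, nat_lit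 0, nat_lit 3, nat_lit 2, nat_lit 2, nat_lit 0, nat_lit 2, nat_lit 0])) (.node (nat_lit 604) (.leaf ((nat_lit 551), [nat_lit 3, nat_lit 2, nat_lit 3, nat_lit 5, nat_lit 1, nat_lit 4, nat_lit 3, nat_lit 2, nat_lit 3, nat_lit 0, nat_lit 2, nat_lit 2, nat_lit 0, nat_lit 2, nat_lit 0])) (.leaf ((nat_lit 552), [nat_lit 3, nat_lit 2, nat_lit 0, nat_lit 5, nat_lit 3, nat_lit 2, nat_lit 2, nat_lit 4, nat_lit 3, nat_lit 0, nat_lit 1, nat_lit 0, nat_lit 2, nat_lit 2, nat_lit 0, nat_lit 2]))))))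
 (.node (nat_lit 610) (.node (nat_lit 607) (.node (nat_lit 606) (.leaf ((nat_lit 9), [nat_lit 1, nat_lit 0, nat_lit 5, nat_lit 3, nat_lit 5, nat_lit 4, nat_lit 2, nat_lit 0, nat_lit 4, nat_lit 3, nat_lit 1, nat_lit 0, nat_lit 2, nat_lit 0, nat_lit 1])) (.leaf ((nat_lit 138), [nat_lit 5, nat_lit 4, nat_lit 5, nat_lit 3, nat_lit 0, nat_lit 4, nat_lit 3, nat_lit 0, nat_lit 4, nat_lit 1, nat_lit 0, nat_lit 2, nat_lit 0]))) (.node (nat_lit 608) (.leaf ((nat_lit 553), [nat_lit 5, nat_lit 3, nat_lit 5, nat_lit 0, nat_lit 3, nat_lit 2, nat_lit 3, nat_lit 2, nat_lit 3, nat_lit 0, nat_lit 2, nat_lit 2, nat_lit 0, nat_lit 2])) (.node (nat_lit 609) (.leaf ((nat_lit 376), [nat_lit 2, nat_lit 4, nat_lit 0, nat_lit 5, nat_lit 2, nat_lit 0, nat_lit 1, nat_lit 0, nat_lit 4, nat_lit 2, nat_lit 2])) (.leaf ((nat_lit 554), [nat_lit 4, nat_lit 5, nat_lit 1, nat_lit 5,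 nat_lit 4, nat_lit 2, nat_lit 0, nat_lit 2, nat_lit 4, nat_lit 0, nat_lit 1, nat_lit 0, nat_lit 2])))))
 (.node (nat_lit 613) (.node (nat_lit 611) (.leaf ((nat_lit 555), [nat_lit 1, nat_lit 0, nat_lit 3, nat_lit 5, nat_lit 1, nat_lit 4, nat_lit 1, nat_lit 0, nat_lit 3, nat_lit 1, nat_lit 0, nat_lit 1, nat_lit 0, nat_lit 2, nat_lit 0, nat_lit 2, nat_lit 0])) (.node (nat_lit 612) (.leaf ((nat_lit 556), [nat_lit 5, nat_lit 2, nat_lit 3, nat_lit 5, nat_lit 1, nat_lit 4, nat_lit 2, nat_lit 3, nat_lit 1, nat_lit 3, nat_lit 0, nat_lit 1, nat_lit 0, nat_lit 2, nat_lit 2, nat_lit 0, nat_lit 2, nat_lit 0])) (.leaf ((nat_lit 557), [nat_lit 1, nat_lit 5, nat_lit 3, nat_lit 5, nat_lit 4, nat_lit 0, nat_lit 4, nat_lit 3, nat_lit 2, nat_lit 2, nat_lit 0, nat_lit 2, nat_lit 2, nat_lit 0, nat_lit 2])))) (.node (nat_lit 614) (.leaf ((nat_lit 558), [nat_lit 1, nat_lit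 4, nat_lit 2, nat_lit 5, nat_lit 1, nat_lit 3, nat_lit 2, nat_lit 4, nat_lit 2, nat_lit 0, nat_lit 2, nat_lit 2, nat_lit 0, nat_lit 1])) (.node (nat_lit 615) (.leaf ((nat_lit 559), [nat_lit 5, nat_lit 4, nat_lit 3, nat_lit 2, nat_lit 5, nat_lit 0, nat_lit 4, nat_lit 1, nat_lit 3, nat_lit 2, nat_lit 0, nat_lit 1, nat_lit 0, nat_lit 2, nat_lit 2])) (.leaf ((nat_lit 560), [nat_lit 5, nat_lit 4, nat_lit 3, nat_lit 2, nat_lit 5, nat_lit 2, nat_lit 3, nat_lit 1, nat_lit 3, nat_lit 4, nat_lit 1, nat_lit 0, nat_lit 2, nat_lit 0, nat_lit 2, nat_lit 0])))))))))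
 (.node (nat_lit 660) (.node (nat_lit 638) (.node (nat_lit 627) (.node (nat_lit 621) (.node (nat_lit 618) (.node (nat_lit 617) (.leaf ((nat_lit 561), [nat_lit 0, nat_lit 5, nat_lit 2, nat_lit 3, nat_lit 5, nat_lit 4, nat_lit 3, nat_lit 2, nat_lit 3, nat_lit 2, nat_lit 3, nat_lit 0, nat_lit 2, nat_lit 2, nat_lit 0, nat_lit 2])) (.leaf ((nat_lit 180), [nat_lit 5, nat_lit 0, nat_lit 4, nat_lit 5, nat_lit 1, nat_lit 3, nat_lit 2, nat_lit 4, nat_lit 2, nat_lit 2, nat_lit 0, nat_lit 2, nat_lit 2, nat_lit 0, nat_lit 1]))) (.node (nat_lit 619) (.leaf ((nat_lit 562), [nat_lit 0, nat_lit 1, nat_lit 5, nat_lit 4, nat_lit 1, nat_lit 4, nat_lit 2, nat_lit 4, nat_lit 1, nat_lit 0, nat_lit 1, nat_lit 0, nat_lit 2, nat_lit 2, nat_lit 0])) (.node (nat_lit 620) (.leaf ((nat_lit 563), [nat_lit 2, nat_lit 5, nat_lit 0, nat_lit 1, nat_lit 5, nat_lit 3, nat_lit 4, nat_lit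 3, nat_lit 2, nat_lit 4, nat_lit 2, nat_lit 2, nat_lit 0, nat_lit 2, nat_lit 2, nat_lit 0, nat_lit 1, nat_lit 0])) (.leaf ((nat_lit 511), [nat_lit 5, nat_lit 3, nat_lit 0, nat_lit 5, nat_lit 2, nat_lit 3, nat_lit 4, nat_lit 0, nat_lit 2, nat_lit 4, nat_lit 1, nat_lit 0, nat_lit 2, nat_lit 0, nat_lit 2])))))
 (.node (nat_lit 624) (.node (nat_lit 622) (.leaf ((nat_lit 564), [nat_lit 3, nat_lit 0, nat_lit 5, nat_lit 3, nat_lit 5, nat_lit 2, nat_lit 3, nat_lit 4, nat_lit 3, nat_lit 0, nat_lit 3, nat_lit 2, nat_lit 2, nat_lit 0, nat_lit 2, nat_lit 2])) (.node (nat_lit 623) (.leaf ((nat_lit 441), [nat_lit 5, nat_lit 1, nat_lit 5, nat_lit 0, nat_lit 5, nat_lit 3, nat_lit 1, nat_lit 4, nat_lit 2, nat_lit 4, nat_lit 3, nat_lit 2, nat_lit 0, nat_lit 1, nat_lit 0])) (.leaf ((nat_lit 565), [nat_lit 1, nat_lit 5, nat_lit 3, nat_lit 1, nat_lit 4, nat_lit 0, nat_lit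 4, nat_lit 2, nat_lit 2, nat_lit 0, nat_lit 2, nat_lit 0, nat_lit 1, nat_lit 0])))) (.node (nat_lit 625) (.leaf ((nat_lit 419), [nat_lit 1, nat_lit 5, nat_lit 0, nat_lit 5, nat_lit 4, nat_lit 3, nat_lit 1, nat_lit 4, nat_lit 3, nat_lit 2, nat_lit 2, nat_lit 0, nat_lit 1])) (.node (nat_lit 626) (.leaf ((nat_lit 566), [nat_lit 1, nat_lit 4, nat_lit 5, nat_lit 1, nat_lit 5, nat_lit 1, nat_lit 4, nat_lit 0, nat_lit 3, nat_lit 2, nat_lit 3, nat_lit 0, nat_lit 2, nat_lit 2, nat_lit 0, nat_lit 2, nat_lit 2, nat_lit 0])) (.leaf ((nat_lit 567), [nat_lit 0, nat_lit 4, nat_lit 5, nat_lit 4, nat_lit 3, nat_lit 0, nat_lit 4, nat_lit 2, nat_lit 0, nat_lit 2, nat_lit 0]))))))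
 (.node (nat_lit 632) (.node (nat_lit 629) (.node (nat_lit 628) (.leaf ((nat_lit 568), [nat_lit 0, nat_lit 5, nat_lit 2, nat_lit 5, nat_lit 2, nat_lit 3, nat_lit 2, nat_lit 0, nat_lit 4, nat_lit 0, nat_lit 1, nat_lit 0, nat_lit 2, nat_lit 0])) (.leaf ((nat_lit 498), [nat_lit 0, nat_lit 2, nat_lit 4, nat_lit 0, nat_lit 5, nat_lit 4, nat_lit 0, nat_lit 1, nat_lit 4, nat_lit 3, nat_lit 2, nat_lit 0, nat_lit 1, nat_lit 0, nat_lit 1, nat_lit 0, nat_lit 2]))) (.node (nat_lit 630) (.leaf ((nat_lit 569), [nat_lit 5, nat_lit 1, nat_lit 0, nat_lit 2, nat_lit 5, nat_lit 4, nat_lit 1, nat_lit 4, nat_lit 2, nat_lit 4, nat_lit 1, nat_lit 0, nat_lit 2, nat_lit 0, nat_lit 2])) (.node (nat_lit 631) (.leaf ((nat_lit 570), [nat_lit 0, nat_lit 2, nat_lit 5, nat_lit 3, nat_lit 5, nat_lit 2, nat_lit 3, nat_lit 2, nat_lit 4, nat_lit 3, nat_lit 2, nat_lit 0, nat_lit 1,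 nat_lit 0, nat_lit 1, nat_lit 0, nat_lit 2])) (.leaf ((nat_lit 571), [nat_lit 1, nat_lit 0, nat_lit 5, nat_lit 3, nat_lit 1, nat_lit 4, nat_lit 0, nat_lit 4, nat_lit 3, nat_lit 1, nat_lit 0, nat_lit 2, nat_lit 0, nat_lit 2, nat_lit 0])))))
 (.node (nat_lit 635) (.node (nat_lit 633) (.leaf ((nat_lit 572), [nat_lit 4, nat_lit 5, nat_lit 3, nat_lit 5, nat_lit 2, nat_lit 2, nat_lit 3, nat_lit 2, nat_lit 2, nat_lit 3, nat_lit 0, nat_lit 2, nat_lit 0, nat_lit 1])) (.node (nat_lit 634) (.leaf ((nat_lit 573), [nat_lit 2, nat_lit 5, nat_lit 0, nat_lit 1, nat_lit 5, nat_lit 2, nat_lit 0, nat_lit 3, nat_lit 4, nat_lit 0, nat_lit 1, nat_lit 0, nat_lit 2, nat_lit 0, nat_lit 2])) (.leaf ((nat_lit 574), [nat_lit 3, nat_lit 5, nat_lit 1, nat_lit 3, nat_lit 2, nat_lit 5, nat_lit 4, nat_lit 0, nat_lit 4, nat_lit 3, nat_lit 0, nat_lit 3, nat_lit 0])))) (.node (nat_lit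 636) (.leaf ((nat_lit 575), [nat_lit 5, nat_lit 4, nat_lit 3, nat_lit 5, nat_lit 2, nat_lit 5, nat_lit 1, nat_lit 3, nat_lit 4, nat_lit 2, nat_lit 3, nat_lit 2, nat_lit 0, nat_lit 2, nat_lit 0, nat_lit 1])) (.node (nat_lit 637) (.leaf ((nat_lit 447), [nat_lit 5, nat_lit 1, nat_lit 3, nat_lit 0, nat_lit 5, nat_lit 1, nat_lit 4, nat_lit 1, nat_lit 0, nat_lit 3, nat_lit 0, nat_lit 2, nat_lit 0, nat_lit 1, nat_lit 0, nat_lit 1])) (.leaf ((nat_lit 576), [nat_lit 2, nat_lit 2, nat_lit 0, nat_lit 5, nat_lit 2, nat_lit 3, nat_lit 1, nat_lit 3, nat_lit 4, nat_lit 0, nat_lit 2])))))))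
 (.node (nat_lit 649) (.node (nat_lit 643) (.node (nat_lit 640) (.node (nat_lit 639) (.leaf ((nat_lit 577), [nat_lit 1, nat_lit 4, nat_lit 5, nat_lit 1, nat_lit 5, nat_lit 4, nat_lit 2, nat_lit 3, nat_lit 4, nat_lit 3, nat_lit 0, nat_lit 2, nat_lit 0, nat_lit 1, nat_lit 0, nat_lit 1])) (.leaf ((nat_lit 398), [nat_lit 5, nat_lit 0, nat_lit 1, nat_lit 5, nat_lit 0, nat_lit 1, nat_lit 4, nat_lit 3, nat_lit 2, nat_lit 3, nat_lit 2, nat_lit 0, nat_lit 2, nat_lit 2, nat_lit 0, nat_lit 2, nat_lit 2, nat_lit 0]))) (.node (nat_lit 641) (.leaf ((nat_lit 427), [nat_lit 3, nat_lit 5, nat_lit 0, nat_lit 3, nat_lit 5, nat_lit 4, nat_lit 0, nat_lit 4, nat_lit 3, nat_lit 1, nat_lit 0])) (.node (nat_lit 642) (.leaf ((nat_lit 578), [nat_lit 0, nat_lit 4, nat_lit 2, nat_lit 0, nat_lit 5, nat_lit 3, nat_lit 4, nat_lit 3, nat_lit 0, nat_lit 3, nat_lit 0, nat_lit 1, nat_lit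 0, nat_lit 2, nat_lit 0])) (.leaf ((nat_lit 415), [nat_lit 1, nat_lit 4, nat_lit 5, nat_lit 1, nat_lit 5, nat_lit 4, nat_lit 2, nat_lit 0, nat_lit 2, nat_lit 0, nat_lit 1])))))
 (.node (nat_lit 646) (.node (nat_lit 644) (.leaf ((nat_lit 579), [nat_lit 5, nat_lit 1, nat_lit 0, nat_lit 2, nat_lit 5, nat_lit 0, nat_lit 3, nat_lit 1, nat_lit 3, nat_lit 0, nat_lit 2, nat_lit 0, nat_lit 1])) (.node (nat_lit 645) (.leaf ((nat_lit 253), [nat_lit 2, nat_lit 5, nat_lit 2, nat_lit 3, nat_lit 5, nat_lit 0, nat_lit 2, nat_lit 0, nat_lit 2, nat_lit 4, nat_lit 1])) (.leaf ((nat_lit 580), [nat_lit 0, nat_lit 5, nat_lit 3, nat_lit 4, nat_lit 0, nat_lit 3, nat_lit 4, nat_lit 2, nat_lit 0, nat_lit 2, nat_lit 2, nat_lit 0, nat_lit 2, nat_lit 2, nat_lit 0])))) (.node (nat_lit 647) (.leaf ((nat_lit 581), [nat_lit 2, nat_lit 2, nat_lit 5, nat_lit 1, nat_lit 5, nat_lit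 2, nat_lit 0, nat_lit 4, nat_lit 1, nat_lit 3, nat_lit 0, nat_lit 2, nat_lit 2, nat_lit 0, nat_lit 2, nat_lit 0])) (.node (nat_lit 648) (.leaf ((nat_lit 302), [nat_lit 0, nat_lit 2, nat_lit 4, nat_lit 0, nat_lit 5, nat_lit 4, nat_lit 3, nat_lit 1, nat_lit 4, nat_lit 3, nat_lit 2, nat_lit 0])) (.leaf ((nat_lit 554), [nat_lit 5, nat_lit 4, nat_lit 5, nat_lit 2, nat_lit 5, nat_lit 0, nat_lit 4, nat_lit 0, nat_lit 4, nat_lit 0, nat_lit 2, nat_lit 0]))))))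
 (.node (nat_lit 654) (.node (nat_lit 651) (.node (nat_lit 650) (.leaf ((nat_lit 582), [nat_lit 3, nat_lit 5, nat_lit 2, nat_lit 5, nat_lit 2, nat_lit 0, nat_lit 3, nat_lit 2, nat_lit 0, nat_lit 1, nat_lit 0, nat_lit 1, nat_lit 0])) (.leaf ((nat_lit 63), [nat_lit 1, nat_lit 0, nat_lit 5, nat_lit 3, nat_lit 5, nat_lit 4, nat_lit 3, nat_lit 0, nat_lit 4, nat_lit 0, nat_lit 1, nat_lit 0, nat_lit 2, nat_lit 2, nat_lit 0, nat_lit 2]))) (.node (nat_lit 652) (.leaf ((nat_lit 583), [nat_lit 0, nat_lit 3, nat_lit 5, nat_lit 3, nat_lit 2, nat_lit 3, nat_lit 4, nat_lit 1, nat_lit 3, nat_lit 1, nat_lit 0, nat_lit 1, nat_lit 0, nat_lit 2, nat_lit 0, nat_lit 2, nat_lit 0])) (.node (nat_lit 653) (.leaf ((nat_lit 584), [nat_lit 3, nat_lit 5, nat_lit 0, nat_lit 3, nat_lit 5, nat_lit 4, nat_lit 3, nat_lit 0, nat_lit 3, nat_lit 0, nat_lit 2, nat_lit 0, nat_lit 2]))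 (.leaf ((nat_lit 585), [nat_lit 2, nat_lit 5, nat_lit 0, nat_lit 1, nat_lit 5, nat_lit 0, nat_lit 4, nat_lit 2, nat_lit 3, nat_lit 0, nat_lit 3, nat_lit 0, nat_lit 2, nat_lit 0, nat_lit 2, nat_lit 0])))))
 (.node (nat_lit 657) (.node (nat_lit 655) (.leaf ((nat_lit 586), [nat_lit 2, nat_lit 5, nat_lit 1, nat_lit 0, nat_lit 3, nat_lit 1, nat_lit 3, nat_lit 2, nat_lit 2, nat_lit 0, nat_lit 2, nat_lit 0, nat_lit 1, nat_lit 0])) (.node (nat_lit 656) (.leaf ((nat_lit 523), [nat_lit 2, nat_lit 5, nat_lit 3, nat_lit 5, nat_lit 0, nat_lit 3, nat_lit 4, nat_lit 1, nat_lit 0, nat_lit 3, nat_lit 0, nat_lit 2, nat_lit 2, nat_lit 0, nat_lit 2, nat_lit 0, nat_lit 1, nat_lit 0])) (.leaf ((nat_lit 587), [nat_lit 4, nat_lit 3, nat_lit 5, nat_lit 2, nat_lit 5, nat_lit 4, nat_lit 0, nat_lit 3, nat_lit 4, nat_lit 2])))) (.node (nat_lit 658) (.leaf ((nat_lit 588), [nat_lit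 5, nat_lit 0, nat_lit 4, nat_lit 5, nat_lit 1, nat_lit 0, nat_lit 3, nat_lit 0, nat_lit 4, nat_lit 1, nat_lit 0])) (.node (nat_lit 659) (.leaf ((nat_lit 589), [nat_lit 5, nat_lit 2, nat_lit 0, nat_lit 5, nat_lit 3, nat_lit 2, nat_lit 0, nat_lit 3, nat_lit 1, nat_lit 4, nat_lit 1, nat_lit 0, nat_lit 2, nat_lit 2])) (.leaf ((nat_lit 590), [nat_lit 5, nat_lit 0, nat_lit 4, nat_lit 5, nat_lit 0, nat_lit 4, nat_lit 0, nat_lit 1, nat_lit 4, nat_lit 3, nat_lit 2, nat_lit 0, nat_lit 1, nat_lit 0, nat_lit 1]))))))))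
 (.node (nat_lit 682) (.node (nat_lit 671) (.node (nat_lit 665) (.node (nat_lit 662) (.node (nat_lit 661) (.leaf ((nat_lit 591), [nat_lit 0, nat_lit 5, nat_lit 3, nat_lit 0, nat_lit 5, nat_lit 1, nat_lit 3, nat_lit 1, nat_lit 3, nat_lit 2, nat_lit 0, nat_lit 2, nat_lit 2, nat_lit 0, nat_lit 2, nat_lit 2, nat_lit 0])) (.leaf ((nat_lit 592), [nat_lit 4, nat_lit 2, nat_lit 5, nat_lit 3, nat_lit 5, nat_lit 1, nat_lit 0, nat_lit 2, nat_lit 3, nat_lit 1, nat_lit 0, nat_lit 1, nat_lit 0, nat_lit 2, nat_lit 0, nat_lit 2]))) (.node (nat_lit 663) (.leaf ((nat_lit 593), [nat_lit 3, nat_lit 4, nat_lit 5, nat_lit 2, nat_lit 5, nat_lit 3, nat_lit 2, nat_lit 4, nat_lit 0, nat_lit 2, nat_lit 2, nat_lit 0, nat_lit 2, nat_lit 2, nat_lit 0])) (.node (nat_lit 664) (.leaf ((nat_lit 594), [nat_lit 2, nat_lit 3, nat_lit 0, nat_lit 5, nat_lit 2, nat_lit 2, nat_lit 4, nat_lit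 1, nat_lit 0, nat_lit 3, nat_lit 2, nat_lit 2, nat_lit 0, nat_lit 2, nat_lit 2, nat_lit 0, nat_lit 1, nat_lit 0])) (.leaf ((nat_lit 595), [nat_lit 2, nat_lit 4, nat_lit 0, nat_lit 5, nat_lit 3, nat_lit 0, nat_lit 4, nat_lit 1, nat_lit 4, nat_lit 2, nat_lit 2, nat_lit 0, nat_lit 2])))))
 (.node (nat_lit 668) (.node (nat_lit 666) (.leaf ((nat_lit 596), [nat_lit 1, nat_lit 5, nat_lit 2, nat_lit 4, nat_lit 0, nat_lit 3, nat_lit 2, nat_lit 3, nat_lit 1, nat_lit 0, nat_lit 2, nat_lit 0, nat_lit 1])) (.node (nat_lit 667) (.leaf ((nat_lit 597), [nat_lit 0, nat_lit 5, nat_lit 3, nat_lit 0, nat_lit 5, nat_lit 1, nat_lit 3, nat_lit 4, nat_lit 1, nat_lit 0, nat_lit 3, nat_lit 2, nat_lit 2, nat_lit 0, nat_lit 2, nat_lit 2, nat_lit 0, nat_lit 2, nat_lit 0])) (.leaf ((nat_lit 598), [nat_lit 5, nat_lit 2, nat_lit 3, nat_lit 0, nat_lit 5, nat_lit 2, nat_lit 3, nat_lit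 2, nat_lit 4, nat_lit 1, nat_lit 0, nat_lit 1, nat_lit 0, nat_lit 2, nat_lit 0, nat_lit 2])))) (.node (nat_lit 669) (.leaf ((nat_lit 331), [nat_lit 2, nat_lit 2, nat_lit 5, nat_lit 3, nat_lit 1, nat_lit 3, nat_lit 1, nat_lit 3, nat_lit 0, nat_lit 2, nat_lit 2, nat_lit 0, nat_lit 1, nat_lit 0, nat_lit 2])) (.node (nat_lit 670) (.leaf ((nat_lit 599), [nat_lit 3, nat_lit 0, nat_lit 2, nat_lit 5, nat_lit 4, nat_lit 3, nat_lit 2, nat_lit 3, nat_lit 0])) (.leaf ((nat_lit 600), [nat_lit 5, nat_lit 2, nat_lit 2, nat_lit 0, nat_lit 5, nat_lit 0, nat_lit 4, nat_lit 3, nat_lit 2, nat_lit 0, nat_lit 3, nat_lit 0, nat_lit 2, nat_lit 2, nat_lit 0, nat_lit 1, nat_lit 0, nat_lit 2, nat_lit 0]))))))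
 (.node (nat_lit 676) (.node (nat_lit 673) (.node (nat_lit 672) (.leaf ((nat_lit 545), [nat_lit 3, nat_lit 4, nat_lit 5, nat_lit 2, nat_lit 5, nat_lit 3, nat_lit 2, nat_lit 0, nat_lit 2, nat_lit 4, nat_lit 3, nat_lit 2, nat_lit 0, nat_lit 2, nat_lit 2, nat_lit 0])) (.leaf ((nat_lit 601), [nat_lit 3, nat_lit 2, nat_lit 5, nat_lit 2, nat_lit 4, nat_lit 2, nat_lit 4, nat_lit 3, nat_lit 2, nat_lit 2, nat_lit 0, nat_lit 2, nat_lit 2]))) (.node (nat_lit 674) (.leaf ((nat_lit 602), [nat_lit 2, nat_lit 0, nat_lit 2, nat_lit 5, nat_lit 3, nat_lit 1, nat_lit 0, nat_lit 4, nat_lit 0, nat_lit 2, nat_lit 0, nat_lit 2, nat_lit 2, nat_lit 0])) (.node (nat_lit 675) (.leaf ((nat_lit 603), [nat_lit 1, nat_lit 3, nat_lit 0, nat_lit 5, nat_lit 2, nat_lit 0, nat_lit 4, nat_lit 3, nat_lit 0, nat_lit 2, nat_lit 0, nat_lit 1, nat_lit 0, nat_lit 1])) (.leaf ((nat_lit 604),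 [nat_lit 1, nat_lit 5, nat_lit 1, nat_lit 5, nat_lit 0, nat_lit 3, nat_lit 0, nat_lit 2, nat_lit 2, nat_lit 0, nat_lit 1, nat_lit 0, nat_lit 2, nat_lit 0])))))
 (.node (nat_lit 679) (.node (nat_lit 677) (.leaf ((nat_lit 605), [nat_lit 3, nat_lit 0, nat_lit 2, nat_lit 5, nat_lit 1, nat_lit 4, nat_lit 2, nat_lit 3, nat_lit 1, nat_lit 3, nat_lit 1, nat_lit 0, nat_lit 2, nat_lit 2])) (.node (nat_lit 678) (.leaf ((nat_lit 606), [nat_lit 5, nat_lit 2, nat_lit 3, nat_lit 5, nat_lit 0, nat_lit 3, nat_lit 1, nat_lit 4, nat_lit 2, nat_lit 2, nat_lit 0, nat_lit 1, nat_lit 0, nat_lit 2, nat_lit 2, nat_lit 0])) (.leaf ((nat_lit 607), [nat_lit 0, nat_lit 5, nat_lit 2, nat_lit 0, nat_lit 5, nat_lit 3, nat_lit 1, nat_lit 3, nat_lit 0, nat_lit 1, nat_lit 0, nat_lit 2, nat_lit 0])))) (.node (nat_lit 680) (.leaf ((nat_lit 608), [nat_lit 5, nat_lit 3, nat_lit 0, nat_lit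 5, nat_lit 4, nat_lit 0, nat_lit 4, nat_lit 3, nat_lit 0, nat_lit 3, nat_lit 0, nat_lit 2, nat_lit 0, nat_lit 2, nat_lit 0])) (.node (nat_lit 681) (.leaf ((nat_lit 609), [nat_lit 5, nat_lit 2, nat_lit 4, nat_lit 0, nat_lit 5, nat_lit 3, nat_lit 0, nat_lit 3, nat_lit 0, nat_lit 2, nat_lit 3, nat_lit 0, nat_lit 1, nat_lit 0, nat_lit 1, nat_lit 0])) (.leaf ((nat_lit 610), [nat_lit 0, nat_lit 4, nat_lit 5, nat_lit 0, nat_lit 3, nat_lit 2, nat_lit 0, nat_lit 3, nat_lit 2, nat_lit 0, nat_lit 2, nat_lit 0, nat_lit 1])))))))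
 (.node (nat_lit 693) (.node (nat_lit 687) (.node (nat_lit 684) (.node (nat_lit 683) (.leaf ((nat_lit 114), [nat_lit 1, nat_lit 5, nat_lit 1, nat_lit 5, nat_lit 3, nat_lit 1, nat_lit 4, nat_lit 0, nat_lit 4, nat_lit 2, nat_lit 0, nat_lit 1, nat_lit 0, nat_lit 2, nat_lit 0, nat_lit 2, nat_lit 0])) (.leaf ((nat_lit 611), [nat_lit 5, nat_lit 1, nat_lit 5, nat_lit 4, nat_lit 1, nat_lit 3, nat_lit 2, nat_lit 4, nat_lit 2, nat_lit 0, nat_lit 2, nat_lit 2, nat_lit 0, nat_lit 2, nat_lit 0]))) (.node (nat_lit 685) (.leaf ((nat_lit 612), [nat_lit 3, nat_lit 2, nat_lit 3, nat_lit 5, nat_lit 0, nat_lit 3, nat_lit 0, nat_lit 2, nat_lit 4, nat_lit 3, nat_lit 0, nat_lit 2, nat_lit 2, nat_lit 0, nat_lit 1, nat_lit 0])) (.node (nat_lit 686) (.leaf ((nat_lit 613), [nat_lit 5, nat_lit 2, nat_lit 4, nat_lit 0, nat_lit 5, nat_lit 3, nat_lit 2, nat_lit 4, nat_lit 0, nat_lit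 4, nat_lit 1, nat_lit 0, nat_lit 2, nat_lit 2, nat_lit 0, nat_lit 2])) (.leaf ((nat_lit 241), [nat_lit 4, nat_lit 2, nat_lit 5, nat_lit 3, nat_lit 5, nat_lit 2, nat_lit 0, nat_lit 1, nat_lit 0, nat_lit 4, nat_lit 1, nat_lit 0, nat_lit 2, nat_lit 2, nat_lit 0, nat_lit 2, nat_lit 2])))))
 (.node (nat_lit 690) (.node (nat_lit 688) (.leaf ((nat_lit 614), [nat_lit 0, nat_lit 2, nat_lit 5, nat_lit 3, nat_lit 5, nat_lit 0, nat_lit 3, nat_lit 4, nat_lit 1, nat_lit 0, nat_lit 3, nat_lit 2, nat_lit 2, nat_lit 0, nat_lit 1, nat_lit 0, nat_lit 2])) (.node (nat_lit 689) (.leaf ((nat_lit 615), [nat_lit 2, nat_lit 0, nat_lit 1, nat_lit 5, nat_lit 3, nat_lit 0, nat_lit 4, nat_lit 1, nat_lit 3, nat_lit 2, nat_lit 2, nat_lit 0, nat_lit 2, nat_lit 2, nat_lit 0, nat_lit 2, nat_lit 2])) (.leaf ((nat_lit 616), [nat_lit 3, nat_lit 2, nat_lit 5, nat_lit 0, nat_lit 5, nat_lit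 4, nat_lit 3, nat_lit 0, nat_lit 4, nat_lit 1, nat_lit 0, nat_lit 2, nat_lit 0, nat_lit 1])))) (.node (nat_lit 691) (.leaf ((nat_lit 617), [nat_lit 3, nat_lit 2, nat_lit 3, nat_lit 5, nat_lit 2, nat_lit 3, nat_lit 0, nat_lit 4, nat_lit 2, nat_lit 2, nat_lit 0, nat_lit 1])) (.node (nat_lit 692) (.leaf ((nat_lit 618), [nat_lit 1, nat_lit 0, nat_lit 2, nat_lit 5, nat_lit 2, nat_lit 3, nat_lit 2, nat_lit 3, nat_lit 0, nat_lit 2, nat_lit 2, nat_lit 0, nat_lit 1, nat_lit 0, nat_lit 2, nat_lit 0])) (.leaf ((nat_lit 619), [nat_lit 5, nat_lit 2, nat_lit 4, nat_lit 0, nat_lit 5, nat_lit 3, nat_lit 2, nat_lit 0, nat_lit 3, nat_lit 2, nat_lit 0, nat_lit 2, nat_lit 2, nat_lit 0, nat_lit 2, nat_lit 2]))))))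
 (.node (nat_lit 698) (.node (nat_lit 695) (.node (nat_lit 694) (.leaf ((nat_lit 620), [nat_lit 3, nat_lit 0, nat_lit 5, nat_lit 3, nat_lit 5, nat_lit 4, nat_lit 3, nat_lit 2, nat_lit 4, nat_lit 3, nat_lit 2, nat_lit 2, nat_lit 0, nat_lit 2, nat_lit 2, nat_lit 0, nat_lit 1, nat_lit 0])) (.leaf ((nat_lit 388), [nat_lit 4, nat_lit 5, nat_lit 2, nat_lit 0, nat_lit 5, nat_lit 4, nat_lit 1, nat_lit 0, nat_lit 3, nat_lit 1, nat_lit 4, nat_lit 0, nat_lit 1, nat_lit 0, nat_lit 2, nat_lit 0, nat_lit 2]))) (.node (nat_lit 696) (.leaf ((nat_lit 621), [nat_lit 5, nat_lit 4, nat_lit 2, nat_lit 5, nat_lit 0, nat_lit 2, nat_lit 0, nat_lit 3, nat_lit 4, nat_lit 2])) (.node (nat_lit 697) (.leaf ((nat_lit 622), [nat_lit 5, nat_lit 2, nat_lit 3, nat_lit 5, nat_lit 0, nat_lit 3, nat_lit 2, nat_lit 3, nat_lit 2, nat_lit 3, nat_lit 2, nat_lit 0, nat_lit 2])) (.leaf ((nat_lit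 623), [nat_lit 1, nat_lit 4, nat_lit 5, nat_lit 1, nat_lit 5, nat_lit 0, nat_lit 2, nat_lit 4, nat_lit 2, nat_lit 2, nat_lit 0, nat_lit 1, nat_lit 0, nat_lit 2, nat_lit 2, nat_lit 0])))))
 (.node (nat_lit 701) (.node (nat_lit 699) (.leaf ((nat_lit 624), [nat_lit 3, nat_lit 2, nat_lit 5, nat_lit 0, nat_lit 5, nat_lit 2, nat_lit 3, nat_lit 4, nat_lit 0, nat_lit 2, nat_lit 4, nat_lit 1, nat_lit 0, nat_lit 1, nat_lit 0, nat_lit 2, nat_lit 0, nat_lit 2, nat_lit 0])) (.node (nat_lit 700) (.leaf ((nat_lit 625), [nat_lit 5, nat_lit 3, nat_lit 0, nat_lit 5, nat_lit 4, nat_lit 0, nat_lit 3, nat_lit 1, nat_lit 3, nat_lit 2, nat_lit 2, nat_lit 0, nat_lit 2, nat_lit 2, nat_lit 0, nat_lit 2, nat_lit 2, nat_lit 0])) (.leaf ((nat_lit 626), [nat_lit 4, nat_lit 5, nat_lit 4, nat_lit 0, nat_lit 1, nat_lit 4, nat_lit 0, nat_lit 2, nat_lit 0, nat_lit 2, nat_lit 2, nat_lit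 0])))) (.node (nat_lit 702) (.leaf ((nat_lit 432), [nat_lit 5, nat_lit 4, nat_lit 3, nat_lit 0, nat_lit 5, nat_lit 2, nat_lit 2, nat_lit 0, nat_lit 4, nat_lit 0, nat_lit 2, nat_lit 2, nat_lit 0, nat_lit 2, nat_lit 0, nat_lit 1, nat_lit 0])) (.node (nat_lit 703) (.leaf ((nat_lit 627), [nat_lit 4, nat_lit 5, nat_lit 3, nat_lit 2, nat_lit 5, nat_lit 4, nat_lit 3, nat_lit 2, nat_lit 4, nat_lit 2, nat_lit 3, nat_lit 2, nat_lit 0, nat_lit 2, nat_lit 0, nat_lit 1, nat_lit 0, nat_lit 1])) (.leaf ((nat_lit 412), [nat_lit 5, nat_lit 1, nat_lit 5, nat_lit 2, nat_lit 4, nat_lit 2, nat_lit 2, nat_lit 4, nat_lit 3, nat_lit 1, nat_lit 0, nat_lit 1, nat_lit 0, nat_lit 2, nat_lit 0]))))))))))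
noncomputable def pWd_4 : Tr (ℕ × List ℕ) := (.node (nat_lit 792) (.node (nat_lit 748) (.node (nat_lit 726) (.node (nat_lit 715) (.node (nat_lit 709) (.node (nat_lit 706) (.node (nat_lit 705) (.leaf ((nat_lit 628), [nat_lit 5, nat_lit 4, nat_lit 1, nat_lit 0, nat_lit 5, nat_lit 2, nat_lit 0, nat_lit 3, nat_lit 1, nat_lit 3, nat_lit 0, nat_lit 1, nat_lit 0, nat_lit 2, nat_lit 2])) (.leaf ((nat_lit 629), [nat_lit 5, nat_lit 2, nat_lit 0, nat_lit 2, nat_lit 5, nat_lit 2, nat_lit 4, nat_lit 3, nat_lit 0, nat_lit 2, nat_lit 4, nat_lit 2, nat_lit 0, nat_lit 2, nat_lit 0]))) (.node (nat_lit 707) (.leaf ((nat_lit 630), [nat_lit 5, nat_lit 0, nat_lit 4, nat_lit 5, nat_lit 3, nat_lit 2, nat_lit 2])) (.node (nat_lit 708) (.leaf ((nat_lit 631), [nat_lit 3, nat_lit 2, nat_lit 5, nat_lit 4, nat_lit 1, nat_lit 4, nat_lit 2, nat_lit 4, nat_lit 2, nat_lit 2, nat_lit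 0, nat_lit 2, nat_lit 2, nat_lit 0, nat_lit 1])) (.leaf ((nat_lit 34), [nat_lit 1, nat_lit 0, nat_lit 5, nat_lit 2, nat_lit 2, nat_lit 0, nat_lit 3, nat_lit 0, nat_lit 4, nat_lit 2, nat_lit 0, nat_lit 1, nat_lit 0, nat_lit 2, nat_lit 0, nat_lit 2, nat_lit 0])))))
 (.node (nat_lit 712) (.node (nat_lit 710) (.leaf ((nat_lit 632), [nat_lit 1, nat_lit 0, nat_lit 2, nat_lit 5, nat_lit 1, nat_lit 4, nat_lit 3, nat_lit 1, nat_lit 0, nat_lit 4, nat_lit 0, nat_lit 2, nat_lit 2, nat_lit 0, nat_lit 2, nat_lit 0])) (.node (nat_lit 711) (.leaf ((nat_lit 633), [nat_lit 4, nat_lit 0, nat_lit 5, nat_lit 2, nat_lit 5, nat_lit 3, nat_lit 4, nat_lit 1, nat_lit 0, nat_lit 4, nat_lit 1, nat_lit 0, nat_lit 1, nat_lit 0])) (.leaf ((nat_lit 634), [nat_lit 1, nat_lit 0, nat_lit 2, nat_lit 5, nat_lit 4, nat_lit 0, nat_lit 1, nat_lit 0, nat_lit 1, nat_lit 0, nat_lit 3, nat_lit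 0, nat_lit 2, nat_lit 0, nat_lit 1, nat_lit 0, nat_lit 1, nat_lit 0])))) (.node (nat_lit 713) (.leaf ((nat_lit 635), [nat_lit 2, nat_lit 0, nat_lit 5, nat_lit 2, nat_lit 0])) (.node (nat_lit 714) (.leaf ((nat_lit 636), [nat_lit 4, nat_lit 5, nat_lit 2, nat_lit 4, nat_lit 2, nat_lit 4, nat_lit 3, nat_lit 2, nat_lit 2, nat_lit 0, nat_lit 2, nat_lit 2, nat_lit 0, nat_lit 2, nat_lit 2])) (.leaf ((nat_lit 637), [nat_lit 2, nat_lit 3, nat_lit 5, nat_lit 4, nat_lit 3, nat_lit 0, nat_lit 2, nat_lit 2, nat_lit 3, nat_lit 0, nat_lit 1, nat_lit 0, nat_lit 2, nat_lit 0, nat_lit 2]))))))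
 (.node (nat_lit 720) (.node (nat_lit 717) (.node (nat_lit 716) (.leaf ((nat_lit 622), [nat_lit 5, nat_lit 2, nat_lit 0, nat_lit 2, nat_lit 5, nat_lit 3, nat_lit 0, nat_lit 1, nat_lit 0, nat_lit 3, nat_lit 1, nat_lit 0, nat_lit 1, nat_lit 0, nat_lit 2])) (.leaf ((nat_lit 325), [nat_lit 4, nat_lit 2, nat_lit 5, nat_lit 3, nat_lit 5, nat_lit 0, nat_lit 1, nat_lit 4, nat_lit 3, nat_lit 0, nat_lit 2, nat_lit 2, nat_lit 0, nat_lit 2, nat_lit 0, nat_lit 1, nat_lit 0]))) (.node (nat_lit 718) (.leaf ((nat_lit 638), [nat_lit 0, nat_lit 5, nat_lit 0, nat_lit 1, nat_lit 5, nat_lit 2, nat_lit 0, nat_lit 3, nat_lit 4, nat_lit 2, nat_lit 0, nat_lit 2, nat_lit 2, nat_lit 0])) (.node (nat_lit 719) (.leaf ((nat_lit 357), [nat_lit 5, nat_lit 4, nat_lit 5, nat_lit 1, nat_lit 5, nat_lit 4, nat_lit 0, nat_lit 1, nat_lit 4, nat_lit 3, nat_lit 2, nat_lit 0, nat_lit 2,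 nat_lit 2])) (.leaf ((nat_lit 639), [nat_lit 2, nat_lit 4, nat_lit 2, nat_lit 0, nat_lit 5, nat_lit 0, nat_lit 2, nat_lit 2, nat_lit 3, nat_lit 2, nat_lit 0, nat_lit 1, nat_lit 0, nat_lit 1, nat_lit 0, nat_lit 2, nat_lit 0])))))
 (.node (nat_lit 723) (.node (nat_lit 721) (.leaf ((nat_lit 640), [nat_lit 4, nat_lit 2, nat_lit 5, nat_lit 3, nat_lit 5, nat_lit 3, nat_lit 2, nat_lit 0, nat_lit 1, nat_lit 0, nat_lit 3, nat_lit 0, nat_lit 1, nat_lit 0, nat_lit 1, nat_lit 0, nat_lit 2])) (.node (nat_lit 722) (.leaf ((nat_lit 641), [nat_lit 1, nat_lit 5, nat_lit 2, nat_lit 5, nat_lit 0, nat_lit 3, nat_lit 1, nat_lit 4, nat_lit 2, nat_lit 2, nat_lit 0, nat_lit 2, nat_lit 2, nat_lit 0, nat_lit 1, nat_lit 0])) (.leaf ((nat_lit 160), [nat_lit 2, nat_lit 5, nat_lit 0, nat_lit 1, nat_lit 5, nat_lit 4, nat_lit 0, nat_lit 3, nat_lit 4, nat_lit 3, nat_lit 2, nat_lit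 2, nat_lit 0, nat_lit 1, nat_lit 0, nat_lit 2, nat_lit 0])))) (.node (nat_lit 724) (.leaf ((nat_lit 642), [nat_lit 5, nat_lit 3, nat_lit 5, nat_lit 3, nat_lit 4, nat_lit 3, nat_lit 0, nat_lit 2, nat_lit 2, nat_lit 0, nat_lit 2, nat_lit 0])) (.node (nat_lit 725) (.leaf ((nat_lit 643), [nat_lit 5, nat_lit 4, nat_lit 5, nat_lit 1, nat_lit 5, nat_lit 0, nat_lit 4, nat_lit 1, nat_lit 0, nat_lit 3, nat_lit 2, nat_lit 2, nat_lit 0, nat_lit 1, nat_lit 0])) (.leaf ((nat_lit 367), [nat_lit 4, nat_lit 0, nat_lit 5, nat_lit 0, nat_lit 4, nat_lit 3, nat_lit 0, nat_lit 4, nat_lit 0, nat_lit 2, nat_lit 2, nat_lit 0, nat_lit 2, nat_lit 2])))))))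
 (.node (nat_lit 737) (.node (nat_lit 731) (.node (nat_lit 728) (.node (nat_lit 727) (.leaf ((nat_lit 644), [nat_lit 4, nat_lit 3, nat_lit 5, nat_lit 0, nat_lit 5, nat_lit 3, nat_lit 2, nat_lit 0, nat_lit 3, nat_lit 1, nat_lit 4, nat_lit 1, nat_lit 0, nat_lit 1, nat_lit 0, nat_lit 2])) (.leaf ((nat_lit 645), [nat_lit 5, nat_lit 2, nat_lit 3, nat_lit 5, nat_lit 3, nat_lit 4, nat_lit 3, nat_lit 2, nat_lit 4, nat_lit 3, nat_lit 1, nat_lit 0, nat_lit 1, nat_lit 0, nat_lit 2, nat_lit 2]))) (.node (nat_lit 729) (.leaf ((nat_lit 646), [nat_lit 3, nat_lit 5, nat_lit 1, nat_lit 3, nat_lit 2, nat_lit 5, nat_lit 4, nat_lit 3, nat_lit 1, nat_lit 3, nat_lit 1, nat_lit 3, nat_lit 0, nat_lit 2, nat_lit 2, nat_lit 0])) (.node (nat_lit 730) (.leaf ((nat_lit 647), [nat_lit 5, nat_lit 4, nat_lit 3, nat_lit 0, nat_lit 5, nat_lit 4, nat_lit 0, nat_lit 3, nat_lit 0, nat_lit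 2, nat_lit 3, nat_lit 2, nat_lit 0, nat_lit 1, nat_lit 0, nat_lit 2, nat_lit 2, nat_lit 0])) (.leaf ((nat_lit 648), [nat_lit 1, nat_lit 3, nat_lit 2, nat_lit 5, nat_lit 2, nat_lit 0, nat_lit 1, nat_lit 0, nat_lit 4, nat_lit 1, nat_lit 0, nat_lit 2, nat_lit 2])))))
 (.node (nat_lit 734) (.node (nat_lit 732) (.leaf ((nat_lit 35), [nat_lit 5, nat_lit 1, nat_lit 5, nat_lit 0, nat_lit 5, nat_lit 4, nat_lit 3, nat_lit 0, nat_lit 4, nat_lit 0, nat_lit 2, nat_lit 2])) (.node (nat_lit 733) (.leaf ((nat_lit 649), [nat_lit 3, nat_lit 2, nat_lit 5, nat_lit 0, nat_lit 5, nat_lit 3, nat_lit 4, nat_lit 2, nat_lit 0, nat_lit 4, nat_lit 2, nat_lit 0, nat_lit 2, nat_lit 0, nat_lit 1, nat_lit 0, nat_lit 1, nat_lit 0])) (.leaf ((nat_lit 650), [nat_lit 4, nat_lit 3, nat_lit 0, nat_lit 5, nat_lit 1, nat_lit 3, nat_lit 0, nat_lit 3, nat_lit 0])))) (.node (nat_lit 735)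 (.leaf ((nat_lit 279), [nat_lit 4, nat_lit 1, nat_lit 5, nat_lit 2, nat_lit 5, nat_lit 4, nat_lit 0, nat_lit 1, nat_lit 0, nat_lit 1, nat_lit 0, nat_lit 3, nat_lit 0, nat_lit 2, nat_lit 0, nat_lit 2, nat_lit 2])) (.node (nat_lit 736) (.leaf ((nat_lit 651), [nat_lit 0, nat_lit 5, nat_lit 2, nat_lit 0, nat_lit 5, nat_lit 2, nat_lit 3, nat_lit 2, nat_lit 0, nat_lit 3, nat_lit 0, nat_lit 2, nat_lit 2, nat_lit 0, nat_lit 2])) (.leaf ((nat_lit 652), [nat_lit 2, nat_lit 5, nat_lit 2, nat_lit 3, nat_lit 5, nat_lit 1, nat_lit 0, nat_lit 4, nat_lit 3, nat_lit 0, nat_lit 2, nat_lit 2, nat_lit 0]))))))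
 (.node (nat_lit 742) (.node (nat_lit 739) (.node (nat_lit 738) (.leaf ((nat_lit 653), [nat_lit 1, nat_lit 5, nat_lit 3, nat_lit 5, nat_lit 4, nat_lit 2, nat_lit 4, nat_lit 2, nat_lit 2, nat_lit 0, nat_lit 2, nat_lit 2, nat_lit 0, nat_lit 1, nat_lit 0])) (.leaf ((nat_lit 654), [nat_lit 1, nat_lit 5, nat_lit 1, nat_lit 5, nat_lit 4, nat_lit 3, nat_lit 1, nat_lit 0, nat_lit 4, nat_lit 1, nat_lit 0, nat_lit 1, nat_lit 0, nat_lit 2, nat_lit 0, nat_lit 2, nat_lit 0]))) (.node (nat_lit 740) (.leaf ((nat_lit 577), [nat_lit 4, nat_lit 5, nat_lit 3, nat_lit 5, nat_lit 1, nat_lit 4, nat_lit 0, nat_lit 4, nat_lit 1, nat_lit 0, nat_lit 2, nat_lit 0, nat_lit 2, nat_lit 0])) (.node (nat_lit 741) (.leaf ((nat_lit 655), [nat_lit 0, nat_lit 5, nat_lit 3, nat_lit 5, nat_lit 2, nat_lit 3, nat_lit 2, nat_lit 4, nat_lit 3, nat_lit 2, nat_lit 0, nat_lit 2, nat_lit 2]))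 (.leaf ((nat_lit 656), [nat_lit 1, nat_lit 3, nat_lit 0, nat_lit 5, nat_lit 3, nat_lit 1, nat_lit 4, nat_lit 3, nat_lit 0, nat_lit 3, nat_lit 0, nat_lit 2, nat_lit 0, nat_lit 2, nat_lit 2, nat_lit 0, nat_lit 2, nat_lit 0])))))
 (.node (nat_lit 745) (.node (nat_lit 743) (.leaf ((nat_lit 657), [nat_lit 5, nat_lit 2, nat_lit 5, nat_lit 1, nat_lit 0, nat_lit 1, nat_lit 0, nat_lit 3, nat_lit 1, nat_lit 0, nat_lit 2, nat_lit 0, nat_lit 1])) (.node (nat_lit 744) (.leaf ((nat_lit 316), [nat_lit 4, nat_lit 0, nat_lit 5, nat_lit 1, nat_lit 0, nat_lit 3, nat_lit 1, nat_lit 3, nat_lit 2, nat_lit 0, nat_lit 2, nat_lit 2, nat_lit 0, nat_lit 1, nat_lit 0])) (.leaf ((nat_lit 658), [nat_lit 3, nat_lit 5, nat_lit 0, nat_lit 3, nat_lit 5, nat_lit 4, nat_lit 2, nat_lit 3, nat_lit 1, nat_lit 3, nat_lit 1, nat_lit 0, nat_lit 1, nat_lit 0, nat_lit 2])))) (.node (nat_lit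 746) (.leaf ((nat_lit 659), [nat_lit 1, nat_lit 5, nat_lit 2, nat_lit 5, nat_lit 4, nat_lit 0, nat_lit 4, nat_lit 3, nat_lit 0, nat_lit 2, nat_lit 2, nat_lit 0, nat_lit 2, nat_lit 0, nat_lit 1, nat_lit 0])) (.node (nat_lit 747) (.leaf ((nat_lit 660), [nat_lit 3, nat_lit 5, nat_lit 0, nat_lit 3, nat_lit 5, nat_lit 0, nat_lit 4, nat_lit 3, nat_lit 2, nat_lit 0, nat_lit 3, nat_lit 2, nat_lit 0, nat_lit 2])) (.leaf ((nat_lit 661), [nat_lit 4, nat_lit 5, nat_lit 3, nat_lit 2, nat_lit 5, nat_lit 0, nat_lit 1, nat_lit 0, nat_lit 1, nat_lit 0, nat_lit 3, nat_lit 0, nat_lit 2, nat_lit 0, nat_lit 1]))))))))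
 (.node (nat_lit 770) (.node (nat_lit 759) (.node (nat_lit 753) (.node (nat_lit 750) (.node (nat_lit 749) (.leaf ((nat_lit 662), [nat_lit 3, nat_lit 5, nat_lit 2, nat_lit 5, nat_lit 4, nat_lit 1, nat_lit 3, nat_lit 0, nat_lit 1, nat_lit 4, nat_lit 2, nat_lit 0, nat_lit 1, nat_lit 0])) (.leaf ((nat_lit 663), [nat_lit 2, nat_lit 5, nat_lit 3, nat_lit 2, nat_lit 3, nat_lit 2, nat_lit 2, nat_lit 3, nat_lit 1, nat_lit 0, nat_lit 2, nat_lit 2]))) (.node (nat_lit 751) (.leaf ((nat_lit 664), [nat_lit 5, nat_lit 0, nat_lit 4, nat_lit 5, nat_lit 2, nat_lit 3, nat_lit 4, nat_lit 2, nat_lit 3, nat_lit 2, nat_lit 2, nat_lit 0, nat_lit 2, nat_lit 2, nat_lit 0, nat_lit 2, nat_lit 2])) (.node (nat_lit 752) (.leaf ((nat_lit 665), [nat_lit 1, nat_lit 3, nat_lit 2, nat_lit 4, nat_lit 3, nat_lit 2, nat_lit 0, nat_lit 1, nat_lit 0])) (.leaf ((nat_lit 666), [nat_lit 4,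 nat_lit 1, nat_lit 5, nat_lit 3, nat_lit 5, nat_lit 3, nat_lit 2, nat_lit 3, nat_lit 4, nat_lit 1, nat_lit 3, nat_lit 1, nat_lit 0, nat_lit 1, nat_lit 0, nat_lit 2, nat_lit 0, nat_lit 2])))))
 (.node (nat_lit 756) (.node (nat_lit 754) (.leaf ((nat_lit 273), [nat_lit 3, nat_lit 1, nat_lit 3, nat_lit 0, nat_lit 5, nat_lit 2, nat_lit 2, nat_lit 4, nat_lit 0, nat_lit 4, nat_lit 3, nat_lit 2, nat_lit 2, nat_lit 0, nat_lit 2, nat_lit 2, nat_lit 0, nat_lit 2, nat_lit 2, nat_lit 0])) (.node (nat_lit 755) (.leaf ((nat_lit 639), [nat_lit 5, nat_lit 4, nat_lit 5, nat_lit 2, nat_lit 5, nat_lit 3, nat_lit 0, nat_lit 2, nat_lit 2, nat_lit 3, nat_lit 2, nat_lit 0, nat_lit 1, nat_lit 0, nat_lit 2, nat_lit 2, nat_lit 0])) (.leaf ((nat_lit 667), [nat_lit 5, nat_lit 2, nat_lit 5, nat_lit 1, nat_lit 0, nat_lit 3, nat_lit 0, nat_lit 4, nat_lit 0, nat_lit 2, nat_lit 2,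 nat_lit 0, nat_lit 1])))) (.node (nat_lit 757) (.leaf ((nat_lit 575), [nat_lit 3, nat_lit 0, nat_lit 5, nat_lit 3, nat_lit 5, nat_lit 3, nat_lit 4, nat_lit 0, nat_lit 4, nat_lit 1, nat_lit 3, nat_lit 1, nat_lit 0, nat_lit 1])) (.node (nat_lit 758) (.leaf ((nat_lit 668), [nat_lit 5, nat_lit 3, nat_lit 2, nat_lit 5, nat_lit 2, nat_lit 0, nat_lit 4, nat_lit 2, nat_lit 2, nat_lit 0, nat_lit 2, nat_lit 2, nat_lit 0, nat_lit 1])) (.leaf ((nat_lit 360), [nat_lit 2, nat_lit 5, nat_lit 0, nat_lit 5, nat_lit 1, nat_lit 4, nat_lit 0, nat_lit 3, nat_lit 2, nat_lit 3, nat_lit 2, nat_lit 2, nat_lit 0, nat_lit 1, nat_lit 0, nat_lit 2, nat_lit 2]))))))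
 (.node (nat_lit 764) (.node (nat_lit 761) (.node (nat_lit 760) (.leaf ((nat_lit 669), [nat_lit 2, nat_lit 3, nat_lit 0, nat_lit 5, nat_lit 4, nat_lit 1, nat_lit 4, nat_lit 1, nat_lit 4, nat_lit 0, nat_lit 1, nat_lit 0, nat_lit 2, nat_lit 2, nat_lit 0, nat_lit 1])) (.leaf ((nat_lit 297), [nat_lit 3, nat_lit 2, nat_lit 5, nat_lit 2, nat_lit 2, nat_lit 0, nat_lit 4, nat_lit 2, nat_lit 0, nat_lit 1]))) (.node (nat_lit 762) (.leaf ((nat_lit 99), [nat_lit 4, nat_lit 5, nat_lit 0, nat_lit 3, nat_lit 5, nat_lit 2, nat_lit 2, nat_lit 3, nat_lit 2, nat_lit 2, nat_lit 3, nat_lit 2, nat_lit 0, nat_lit 1])) (.node (nat_lit 763) (.leaf ((nat_lit 670), [nat_lit 0, nat_lit 2, nat_lit 5, nat_lit 4, nat_lit 1, nat_lit 4])) (.leaf ((nat_lit 671), [nat_lit 3, nat_lit 0, nat_lit 5, nat_lit 1, nat_lit 4, nat_lit 3, nat_lit 1, nat_lit 0, nat_lit 4, nat_lit 2, nat_lit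 0, nat_lit 2, nat_lit 2])))))
 (.node (nat_lit 767) (.node (nat_lit 765) (.leaf ((nat_lit 672), [nat_lit 2, nat_lit 0, nat_lit 2, nat_lit 5, nat_lit 2, nat_lit 2, nat_lit 4, nat_lit 3, nat_lit 2, nat_lit 3, nat_lit 2, nat_lit 2, nat_lit 0])) (.node (nat_lit 766) (.leaf ((nat_lit 673), [nat_lit 5, nat_lit 4, nat_lit 3, nat_lit 0, nat_lit 5, nat_lit 2, nat_lit 2, nat_lit 4, nat_lit 2, nat_lit 4, nat_lit 0, nat_lit 1, nat_lit 0, nat_lit 2, nat_lit 0])) (.leaf ((nat_lit 674), [nat_lit 3, nat_lit 0, nat_lit 2, nat_lit 5, nat_lit 2, nat_lit 2, nat_lit 3, nat_lit 4, nat_lit 3, nat_lit 1, nat_lit 0, nat_lit 2, nat_lit 0, nat_lit 2, nat_lit 2])))) (.node (nat_lit 768) (.leaf ((nat_lit 675), [nat_lit 4, nat_lit 1, nat_lit 5, nat_lit 3, nat_lit 5, nat_lit 1, nat_lit 3, nat_lit 2, nat_lit 2, nat_lit 3, nat_lit 1, nat_lit 0, nat_lit 2, nat_lit 2, nat_lit 0, nat_lit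 1, nat_lit 0])) (.node (nat_lit 769) (.leaf ((nat_lit 676), [nat_lit 3, nat_lit 2, nat_lit 5, nat_lit 0, nat_lit 1, nat_lit 4, nat_lit 3, nat_lit 2, nat_lit 2, nat_lit 0, nat_lit 2, nat_lit 2, nat_lit 0, nat_lit 2])) (.leaf ((nat_lit 141), [nat_lit 4, nat_lit 2, nat_lit 5, nat_lit 3, nat_lit 5, nat_lit 3, nat_lit 4, nat_lit 3, nat_lit 1, nat_lit 4, nat_lit 3])))))))
 (.node (nat_lit 781) (.node (nat_lit 775) (.node (nat_lit 772) (.node (nat_lit 771) (.leaf ((nat_lit 100), [nat_lit 4, nat_lit 3, nat_lit 5, nat_lit 2, nat_lit 5, nat_lit 1, nat_lit 4, nat_lit 3, nat_lit 2, nat_lit 0, nat_lit 1, nat_lit 0, nat_lit 1, nat_lit 0, nat_lit 2])) (.leaf ((nat_lit 677), [nat_lit 5, nat_lit 1, nat_lit 0, nat_lit 3, nat_lit 5, nat_lit 4, nat_lit 0, nat_lit 2, nat_lit 2, nat_lit 3, nat_lit 1]))) (.node (nat_lit 773) (.leaf ((nat_lit 678), [nat_lit 4, nat_lit 5,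 nat_lit 3, nat_lit 5, nat_lit 4, nat_lit 0, nat_lit 2, nat_lit 2, nat_lit 3, nat_lit 2, nat_lit 0, nat_lit 2, nat_lit 0, nat_lit 1])) (.node (nat_lit 774) (.leaf ((nat_lit 679), [nat_lit 5, nat_lit 1, nat_lit 3, nat_lit 0, nat_lit 5, nat_lit 2, nat_lit 3, nat_lit 2, nat_lit 4, nat_lit 3, nat_lit 2, nat_lit 0, nat_lit 1, nat_lit 0, nat_lit 1, nat_lit 0, nat_lit 2])) (.leaf ((nat_lit 680), [nat_lit 1, nat_lit 5, nat_lit 0, nat_lit 5, nat_lit 1, nat_lit 4, nat_lit 2, nat_lit 0, nat_lit 2, nat_lit 3, nat_lit 2, nat_lit 0, nat_lit 1, nat_lit 0, nat_lit 2, nat_lit 0, nat_lit 2, nat_lit 0])))))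
 (.node (nat_lit 778) (.node (nat_lit 776) (.leaf ((nat_lit 681), [nat_lit 2, nat_lit 5, nat_lit 0, nat_lit 1, nat_lit 5, nat_lit 3, nat_lit 4, nat_lit 0, nat_lit 4, nat_lit 3, nat_lit 2, nat_lit 2, nat_lit 0, nat_lit 1, nat_lit 0, nat_lit 2, nat_lit 0])) (.node (nat_lit 777) (.leaf ((nat_lit 682), [nat_lit 4, nat_lit 5, nat_lit 2, nat_lit 5, nat_lit 4, nat_lit 1, nat_lit 0, nat_lit 2, nat_lit 4, nat_lit 2, nat_lit 2, nat_lit 0, nat_lit 1, nat_lit 0, nat_lit 2, nat_lit 2, nat_lit 0])) (.leaf ((nat_lit 72), [nat_lit 3, nat_lit 4, nat_lit 3, nat_lit 5, nat_lit 3, nat_lit 4, nat_lit 3, nat_lit 0, nat_lit 3, nat_lit 1, nat_lit 0, nat_lit 2, nat_lit 2, nat_lit 0, nat_lit 2])))) (.node (nat_lit 779) (.leaf ((nat_lit 683), [nat_lit 4, nat_lit 3, nat_lit 2, nat_lit 5, nat_lit 2, nat_lit 3, nat_lit 0, nat_lit 3, nat_lit 2, nat_lit 2, nat_lit 0, nat_lit 1]))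 (.node (nat_lit 780) (.leaf ((nat_lit 684), [nat_lit 4, nat_lit 5, nat_lit 3, nat_lit 2, nat_lit 5, nat_lit 1, nat_lit 4, nat_lit 2, nat_lit 4, nat_lit 2, nat_lit 0, nat_lit 2, nat_lit 0])) (.leaf ((nat_lit 134), [nat_lit 5, nat_lit 4, nat_lit 2, nat_lit 5, nat_lit 2, nat_lit 0, nat_lit 1, nat_lit 4, nat_lit 3, nat_lit 1, nat_lit 0, nat_lit 1]))))))
 (.node (nat_lit 786) (.node (nat_lit 783) (.node (nat_lit 782) (.leaf ((nat_lit 685), [nat_lit 3, nat_lit 4, nat_lit 3, nat_lit 5, nat_lit 0, nat_lit 1, nat_lit 0, nat_lit 3, nat_lit 1, nat_lit 0, nat_lit 2, nat_lit 2, nat_lit 0, nat_lit 2, nat_lit 0])) (.leaf ((nat_lit 686), [nat_lit 3, nat_lit 2, nat_lit 5, nat_lit 0, nat_lit 5, nat_lit 0, nat_lit 1, nat_lit 3, nat_lit 0, nat_lit 3, nat_lit 2, nat_lit 0, nat_lit 1, nat_lit 0, nat_lit 2]))) (.node (nat_lit 784) (.leaf ((nat_lit 674), [nat_lit 2, nat_lit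 0, nat_lit 2, nat_lit 5, nat_lit 0, nat_lit 2, nat_lit 4, nat_lit 2, nat_lit 4, nat_lit 1, nat_lit 0, nat_lit 1])) (.node (nat_lit 785) (.leaf ((nat_lit 687), [nat_lit 3, nat_lit 1, nat_lit 5, nat_lit 0, nat_lit 5, nat_lit 2, nat_lit 4, nat_lit 3, nat_lit 1, nat_lit 4, nat_lit 3, nat_lit 1, nat_lit 0, nat_lit 1, nat_lit 0, nat_lit 2, nat_lit 0, nat_lit 2, nat_lit 0])) (.leaf ((nat_lit 5), [nat_lit 4, nat_lit 0, nat_lit 5, nat_lit 2, nat_lit 5, nat_lit 3, nat_lit 2, nat_lit 0, nat_lit 2, nat_lit 4, nat_lit 0, nat_lit 1, nat_lit 0, nat_lit 1, nat_lit 0, nat_lit 2, nat_lit 0])))))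
 (.node (nat_lit 789) (.node (nat_lit 787) (.leaf ((nat_lit 540), [nat_lit 0, nat_lit 4, nat_lit 2, nat_lit 0, nat_lit 5, nat_lit 4, nat_lit 1, nat_lit 3, nat_lit 2, nat_lit 0, nat_lit 1, nat_lit 0, nat_lit 2, nat_lit 0, nat_lit 2, nat_lit 0])) (.node (nat_lit 788) (.leaf ((nat_lit 17), [nat_lit 1, nat_lit 4, nat_lit 5, nat_lit 1, nat_lit 5, nat_lit 4, nat_lit 2, nat_lit 3, nat_lit 0, nat_lit 4, nat_lit 1, nat_lit 0, nat_lit 2, nat_lit 2])) (.leaf ((nat_lit 522), [nat_lit 1, nat_lit 4, nat_lit 2, nat_lit 5, nat_lit 1, nat_lit 4, nat_lit 1, nat_lit 3, nat_lit 4, nat_lit 0, nat_lit 1, nat_lit 0, nat_lit 2, nat_lit 2, nat_lit 0, nat_lit 1, nat_lit 0])))) (.node (nat_lit 790) (.leaf ((nat_lit 688), [nat_lit 1, nat_lit 3, nat_lit 2, nat_lit 5, nat_lit 0, nat_lit 4, nat_lit 0, nat_lit 1, nat_lit 0, nat_lit 3, nat_lit 0, nat_lit 2, nat_lit 0])) (.node (nat_lit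 791) (.leaf ((nat_lit 468), [nat_lit 3, nat_lit 5, nat_lit 3, nat_lit 0, nat_lit 5, nat_lit 3, nat_lit 4, nat_lit 0, nat_lit 3, nat_lit 1, nat_lit 0, nat_lit 2, nat_lit 2, nat_lit 0, nat_lit 2, nat_lit 2])) (.leaf ((nat_lit 117), [nat_lit 3, nat_lit 4, nat_lit 0, nat_lit 3, nat_lit 1, nat_lit 3, nat_lit 0])))))))))
 (.node (nat_lit 836) (.node (nat_lit 814) (.node (nat_lit 803) (.node (nat_lit 797) (.node (nat_lit 794) (.node (nat_lit 793) (.leaf ((nat_lit 75), [nat_lit 4, nat_lit 1, nat_lit 5, nat_lit 3, nat_lit 5, nat_lit 1, nat_lit 3, nat_lit 4, nat_lit 3, nat_lit 2, nat_lit 2, nat_lit 0, nat_lit 1, nat_lit 0, nat_lit 2, nat_lit 2, nat_lit 0])) (.leaf ((nat_lit 294), [nat_lit 5, nat_lit 2, nat_lit 3, nat_lit 0, nat_lit 5, nat_lit 0, nat_lit 3, nat_lit 0, nat_lit 4, nat_lit 1, nat_lit 0, nat_lit 2, nat_lit 2, nat_lit 0, nat_lit 1, nat_lit 0])))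 (.node (nat_lit 795) (.leaf ((nat_lit 689), [nat_lit 2, nat_lit 3, nat_lit 5, nat_lit 0, nat_lit 5, nat_lit 4, nat_lit 1, nat_lit 0, nat_lit 3, nat_lit 2, nat_lit 3, nat_lit 0, nat_lit 2, nat_lit 2, nat_lit 0, nat_lit 2, nat_lit 2, nat_lit 0])) (.node (nat_lit 796) (.leaf ((nat_lit 690), [nat_lit 5, nat_lit 4, nat_lit 3, nat_lit 0, nat_lit 5, nat_lit 4, nat_lit 3, nat_lit 2, nat_lit 3, nat_lit 0, nat_lit 3, nat_lit 0, nat_lit 1, nat_lit 0, nat_lit 1, nat_lit 0, nat_lit 2])) (.leaf ((nat_lit 691), [nat_lit 2, nat_lit 2, nat_lit 5, nat_lit 1, nat_lit 5, nat_lit 1, nat_lit 4, nat_lit 3, nat_lit 1, nat_lit 3, nat_lit 2])))))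
 (.node (nat_lit 800) (.node (nat_lit 798) (.leaf ((nat_lit 692), [nat_lit 4, nat_lit 5, nat_lit 2, nat_lit 0, nat_lit 5, nat_lit 3, nat_lit 2, nat_lit 0, nat_lit 3, nat_lit 0, nat_lit 1, nat_lit 0, nat_lit 1, nat_lit 0, nat_lit 2, nat_lit 0])) (.node (nat_lit 799) (.leaf ((nat_lit 693), [nat_lit 4, nat_lit 1, nat_lit 5, nat_lit 0, nat_lit 5, nat_lit 2, nat_lit 3, nat_lit 0, nat_lit 2, nat_lit 4, nat_lit 0, nat_lit 1, nat_lit 0, nat_lit 1, nat_lit 0, nat_lit 2])) (.leaf ((nat_lit 258), [nat_lit 3, nat_lit 0, nat_lit 5, nat_lit 3, nat_lit 5, nat_lit 4, nat_lit 2, nat_lit 4, nat_lit 0, nat_lit 1, nat_lit 0, nat_lit 3, nat_lit 2, nat_lit 0, nat_lit 2])))) (.node (nat_lit 801) (.leaf ((nat_lit 694), [nat_lit 2, nat_lit 4, nat_lit 5, nat_lit 2, nat_lit 0, nat_lit 5, nat_lit 1, nat_lit 3, nat_lit 0, nat_lit 3, nat_lit 2, nat_lit 3, nat_lit 1, nat_lit 0,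 nat_lit 2, nat_lit 2, nat_lit 0])) (.node (nat_lit 802) (.leaf ((nat_lit 695), [nat_lit 4, nat_lit 5, nat_lit 4, nat_lit 0, nat_lit 5, nat_lit 4, nat_lit 1, nat_lit 3, nat_lit 0, nat_lit 3, nat_lit 0, nat_lit 1, nat_lit 0, nat_lit 2, nat_lit 2, nat_lit 0])) (.leaf ((nat_lit 696), [nat_lit 0, nat_lit 5, nat_lit 0, nat_lit 1, nat_lit 5, nat_lit 4, nat_lit 2, nat_lit 0, nat_lit 1, nat_lit 0, nat_lit 3, nat_lit 0, nat_lit 1, nat_lit 0, nat_lit 2, nat_lit 0, nat_lit 2]))))))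
 (.node (nat_lit 808) (.node (nat_lit 805) (.node (nat_lit 804) (.leaf ((nat_lit 567), [nat_lit 5, nat_lit 1, nat_lit 3, nat_lit 2, nat_lit 5, nat_lit 3, nat_lit 0, nat_lit 4, nat_lit 3, nat_lit 0, nat_lit 4, nat_lit 2, nat_lit 0, nat_lit 2, nat_lit 0, nat_lit 1, nat_lit 0, nat_lit 1])) (.leaf ((nat_lit 697), [nat_lit 2, nat_lit 5, nat_lit 2, nat_lit 2, nat_lit 4, nat_lit 3, nat_lit 2, nat_lit 0, nat_lit 2, nat_lit 2, nat_lit 0]))) (.node (nat_lit 806) (.leaf ((nat_lit 698), [nat_lit 2, nat_lit 5, nat_lit 0, nat_lit 5, nat_lit 4, nat_lit 3, nat_lit 0, nat_lit 2, nat_lit 3, nat_lit 1, nat_lit 0, nat_lit 2, nat_lit 2, nat_lit 0, nat_lit 2, nat_lit 0])) (.node (nat_lit 807) (.leaf ((nat_lit 699), [nat_lit 0, nat_lit 1, nat_lit 5, nat_lit 4, nat_lit 2, nat_lit 4, nat_lit 2, nat_lit 3, nat_lit 2, nat_lit 0, nat_lit 2, nat_lit 2, nat_lit 0, nat_lit 1,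 nat_lit 0])) (.leaf ((nat_lit 497), [nat_lit 0, nat_lit 5, nat_lit 2, nat_lit 0, nat_lit 5, nat_lit 0, nat_lit 4, nat_lit 2, nat_lit 0, nat_lit 3, nat_lit 2, nat_lit 2, nat_lit 0, nat_lit 2, nat_lit 2, nat_lit 0])))))
 (.node (nat_lit 811) (.node (nat_lit 809) (.leaf ((nat_lit 700), [nat_lit 3, nat_lit 5, nat_lit 2, nat_lit 3, nat_lit 0, nat_lit 5, nat_lit 4, nat_lit 1, nat_lit 3, nat_lit 2, nat_lit 4, nat_lit 2, nat_lit 2, nat_lit 0, nat_lit 2, nat_lit 2, nat_lit 0])) (.node (nat_lit 810) (.leaf ((nat_lit 701), [nat_lit 4, nat_lit 5, nat_lit 2, nat_lit 5, nat_lit 4, nat_lit 3, nat_lit 2, nat_lit 4, nat_lit 2, nat_lit 0, nat_lit 1, nat_lit 0, nat_lit 1])) (.leaf ((nat_lit 140), [nat_lit 2, nat_lit 4, nat_lit 2, nat_lit 0, nat_lit 5, nat_lit 0, nat_lit 3, nat_lit 2, nat_lit 4, nat_lit 0, nat_lit 2, nat_lit 0, nat_lit 2, nat_lit 2, nat_lit 0])))) (.node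 (nat_lit 812) (.leaf ((nat_lit 702), [nat_lit 1, nat_lit 3, nat_lit 2, nat_lit 5, nat_lit 4, nat_lit 3, nat_lit 0, nat_lit 2, nat_lit 2, nat_lit 3, nat_lit 0, nat_lit 2, nat_lit 0, nat_lit 1, nat_lit 0, nat_lit 1])) (.node (nat_lit 813) (.leaf ((nat_lit 703), [nat_lit 3, nat_lit 0, nat_lit 5, nat_lit 4, nat_lit 2, nat_lit 3, nat_lit 1, nat_lit 3, nat_lit 0, nat_lit 1, nat_lit 0, nat_lit 2, nat_lit 2, nat_lit 0, nat_lit 2])) (.leaf ((nat_lit 704), [nat_lit 0, nat_lit 5, nat_lit 2, nat_lit 5, nat_lit 3, nat_lit 4, nat_lit 2, nat_lit 4, nat_lit 2, nat_lit 3, nat_lit 0, nat_lit 1, nat_lit 0])))))))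
 (.node (nat_lit 825) (.node (nat_lit 819) (.node (nat_lit 816) (.node (nat_lit 815) (.leaf ((nat_lit 705), [nat_lit 3, nat_lit 5, nat_lit 4, nat_lit 1, nat_lit 0, nat_lit 3, nat_lit 4, nat_lit 0, nat_lit 2, nat_lit 2])) (.leaf ((nat_lit 680), [nat_lit 5, nat_lit 4, nat_lit 3, nat_lit 5, nat_lit 2, nat_lit 5, nat_lit 2, nat_lit 3, nat_lit 2, nat_lit 4, nat_lit 1, nat_lit 0, nat_lit 2, nat_lit 2, nat_lit 0]))) (.node (nat_lit 817) (.leaf ((nat_lit 706), [nat_lit 4, nat_lit 1, nat_lit 0, nat_lit 5, nat_lit 3, nat_lit 4, nat_lit 3, nat_lit 0, nat_lit 3, nat_lit 2, nat_lit 2, nat_lit 0, nat_lit 2, nat_lit 0, nat_lit 1])) (.node (nat_lit 818) (.leaf ((nat_lit 707), [nat_lit 4, nat_lit 5, nat_lit 2, nat_lit 5, nat_lit 2, nat_lit 0, nat_lit 4, nat_lit 1, nat_lit 4, nat_lit 1, nat_lit 0])) (.leaf ((nat_lit 708), [nat_lit 1, nat_lit 4, nat_lit 2, nat_lit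 5, nat_lit 0, nat_lit 2, nat_lit 3, nat_lit 4, nat_lit 1, nat_lit 3, nat_lit 2, nat_lit 0, nat_lit 1])))))
 (.node (nat_lit 822) (.node (nat_lit 820) (.leaf ((nat_lit 709), [nat_lit 0, nat_lit 1, nat_lit 5, nat_lit 2, nat_lit 0, nat_lit 2, nat_lit 4, nat_lit 3, nat_lit 1, nat_lit 0, nat_lit 2, nat_lit 0, nat_lit 2])) (.node (nat_lit 821) (.leaf ((nat_lit 710), [nat_lit 3, nat_lit 0, nat_lit 5, nat_lit 3, nat_lit 5, nat_lit 1, nat_lit 4, nat_lit 3, nat_lit 0, nat_lit 3, nat_lit 2, nat_lit 0, nat_lit 1, nat_lit 0, nat_lit 2, nat_lit 2])) (.leaf ((nat_lit 711), [nat_lit 1, nat_lit 0, nat_lit 3, nat_lit 5, nat_lit 2, nat_lit 2, nat_lit 4, nat_lit 3, nat_lit 2, nat_lit 0, nat_lit 1, nat_lit 0, nat_lit 2])))) (.node (nat_lit 823) (.leaf ((nat_lit 712), [nat_lit 3, nat_lit 2, nat_lit 5, nat_lit 0, nat_lit 5, nat_lit 3, nat_lit 2, nat_lit 4, nat_lit 2, nat_lit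 3, nat_lit 1, nat_lit 0, nat_lit 2, nat_lit 0, nat_lit 2, nat_lit 2, nat_lit 0])) (.node (nat_lit 824) (.leaf ((nat_lit 713), [nat_lit 3, nat_lit 2, nat_lit 3, nat_lit 5, nat_lit 4, nat_lit 3, nat_lit 1, nat_lit 0, nat_lit 2, nat_lit 3, nat_lit 1, nat_lit 0, nat_lit 2, nat_lit 2, nat_lit 0, nat_lit 2, nat_lit 0])) (.leaf ((nat_lit 714), [nat_lit 5, nat_lit 0, nat_lit 1, nat_lit 5, nat_lit 2, nat_lit 3, nat_lit 4, nat_lit 0, nat_lit 2, nat_lit 4, nat_lit 0, nat_lit 2, nat_lit 0, nat_lit 2, nat_lit 2, nat_lit 0, nat_lit 2, nat_lit 0]))))))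
 (.node (nat_lit 830) (.node (nat_lit 827) (.node (nat_lit 826) (.leaf ((nat_lit 715), [nat_lit 5, nat_lit 1, nat_lit 5, nat_lit 3, nat_lit 4, nat_lit 2, nat_lit 4, nat_lit 3, nat_lit 2, nat_lit 0, nat_lit 2, nat_lit 0, nat_lit 1, nat_lit 0])) (.leaf ((nat_lit 528), [nat_lit 2, nat_lit 5, nat_lit 3, nat_lit 0, nat_lit 3, nat_lit 0, nat_lit 2, nat_lit 3, nat_lit 0, nat_lit 2, nat_lit 0, nat_lit 1, nat_lit 0]))) (.node (nat_lit 828) (.leaf ((nat_lit 716), [nat_lit 0, nat_lit 5, nat_lit 2, nat_lit 0, nat_lit 5, nat_lit 0, nat_lit 3, nat_lit 1, nat_lit 4, nat_lit 2, nat_lit 0])) (.node (nat_lit 829) (.leaf ((nat_lit 717), [nat_lit 3, nat_lit 1, nat_lit 3, nat_lit 0, nat_lit 5, nat_lit 1, nat_lit 4, nat_lit 3, nat_lit 1, nat_lit 3, nat_lit 2])) (.leaf ((nat_lit 198), [nat_lit 5, nat_lit 2, nat_lit 0, nat_lit 2, nat_lit 5, nat_lit 1, nat_lit 0, nat_lit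 4, nat_lit 1, nat_lit 4, nat_lit 2, nat_lit 2, nat_lit 0, nat_lit 2, nat_lit 0, nat_lit 1])))))
 (.node (nat_lit 833) (.node (nat_lit 831) (.leaf ((nat_lit 718), [nat_lit 4, nat_lit 2, nat_lit 5, nat_lit 3, nat_lit 5, nat_lit 3, nat_lit 1, nat_lit 0, nat_lit 4, nat_lit 1, nat_lit 3, nat_lit 1, nat_lit 0, nat_lit 1, nat_lit 0, nat_lit 2, nat_lit 0])) (.node (nat_lit 832) (.leaf ((nat_lit 719), [nat_lit 0, nat_lit 5, nat_lit 2, nat_lit 0, nat_lit 5, nat_lit 4, nat_lit 2, nat_lit 4, nat_lit 0, nat_lit 1, nat_lit 0, nat_lit 3, nat_lit 2, nat_lit 0, nat_lit 2, nat_lit 2, nat_lit 0, nat_lit 2])) (.leaf ((nat_lit 720), [nat_lit 5, nat_lit 2, nat_lit 3, nat_lit 0, nat_lit 5, nat_lit 0, nat_lit 4, nat_lit 2, nat_lit 0, nat_lit 2, nat_lit 3, nat_lit 0, nat_lit 1, nat_lit 0, nat_lit 2, nat_lit 0])))) (.node (nat_lit 834) (.leaf ((nat_lit 721), [nat_lit 4, nat_lit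 5, nat_lit 2, nat_lit 0, nat_lit 5, nat_lit 4, nat_lit 1, nat_lit 0, nat_lit 4, nat_lit 3, nat_lit 2])) (.node (nat_lit 835) (.leaf ((nat_lit 722), [nat_lit 3, nat_lit 5, nat_lit 1, nat_lit 3, nat_lit 2, nat_lit 5, nat_lit 0, nat_lit 2, nat_lit 3, nat_lit 1, nat_lit 3, nat_lit 0, nat_lit 2, nat_lit 0, nat_lit 1, nat_lit 0])) (.leaf ((nat_lit 723), [nat_lit 5, nat_lit 1, nat_lit 5, nat_lit 0, nat_lit 4, nat_lit 2, nat_lit 3, nat_lit 0, nat_lit 3, nat_lit 0, nat_lit 2, nat_lit 2, nat_lit 0, nat_lit 2]))))))))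
 (.node (nat_lit 858) (.node (nat_lit 847) (.node (nat_lit 841) (.node (nat_lit 838) (.node (nat_lit 837) (.leaf ((nat_lit 724), [nat_lit 2, nat_lit 2, nat_lit 0, nat_lit 5, nat_lit 4, nat_lit 3, nat_lit 2, nat_lit 0, nat_lit 2, nat_lit 3, nat_lit 2, nat_lit 0, nat_lit 1, nat_lit 0, nat_lit 1, nat_lit 0, nat_lit 2])) (.leaf ((nat_lit 725), [nat_lit 5, nat_lit 1, nat_lit 5, nat_lit 0, nat_lit 5, nat_lit 4, nat_lit 3, nat_lit 0, nat_lit 2, nat_lit 4, nat_lit 0, nat_lit 1, nat_lit 0, nat_lit 1]))) (.node (nat_lit 839) (.leaf ((nat_lit 684), [nat_lit 5, nat_lit 1, nat_lit 5, nat_lit 0, nat_lit 5, nat_lit 3, nat_lit 2, nat_lit 3, nat_lit 2, nat_lit 3, nat_lit 2, nat_lit 0, nat_lit 1, nat_lit 0, nat_lit 1, nat_lit 0, nat_lit 2, nat_lit 0])) (.node (nat_lit 840) (.leaf ((nat_lit 726), [nat_lit 2, nat_lit 4, nat_lit 2, nat_lit 0, nat_lit 5, nat_lit 0, nat_lit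 2, nat_lit 2, nat_lit 0, nat_lit 4, nat_lit 0, nat_lit 2, nat_lit 2, nat_lit 0, nat_lit 2, nat_lit 0, nat_lit 1, nat_lit 0])) (.leaf ((nat_lit 580), [nat_lit 5, nat_lit 3, nat_lit 2, nat_lit 0, nat_lit 5, nat_lit 0, nat_lit 2, nat_lit 0, nat_lit 2, nat_lit 4])))))
 (.node (nat_lit 844) (.node (nat_lit 842) (.leaf ((nat_lit 678), [nat_lit 2, nat_lit 3, nat_lit 5, nat_lit 0, nat_lit 5, nat_lit 1, nat_lit 0, nat_lit 3, nat_lit 4, nat_lit 0, nat_lit 3, nat_lit 1, nat_lit 0, nat_lit 2, nat_lit 2, nat_lit 0])) (.node (nat_lit 843) (.leaf ((nat_lit 727), [nat_lit 4, nat_lit 3, nat_lit 0, nat_lit 5, nat_lit 2, nat_lit 3, nat_lit 2, nat_lit 3, nat_lit 0, nat_lit 2, nat_lit 2, nat_lit 0, nat_lit 2, nat_lit 0, nat_lit 1, nat_lit 0])) (.leaf ((nat_lit 728), [nat_lit 4, nat_lit 3, nat_lit 5, nat_lit 2, nat_lit 5, nat_lit 4, nat_lit 2, nat_lit 0, nat_lit 4, nat_lit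 3, nat_lit 2, nat_lit 0, nat_lit 2])))) (.node (nat_lit 845) (.leaf ((nat_lit 406), [nat_lit 1, nat_lit 5, nat_lit 3, nat_lit 5, nat_lit 3, nat_lit 0, nat_lit 3, nat_lit 1, nat_lit 0, nat_lit 1, nat_lit 0, nat_lit 2, nat_lit 0, nat_lit 2, nat_lit 0])) (.node (nat_lit 846) (.leaf ((nat_lit 729), [nat_lit 5, nat_lit 4, nat_lit 2, nat_lit 5, nat_lit 4, nat_lit 2, nat_lit 0, nat_lit 4, nat_lit 1, nat_lit 0, nat_lit 2, nat_lit 0, nat_lit 2])) (.leaf ((nat_lit 730), [nat_lit 2, nat_lit 5, nat_lit 3, nat_lit 0, nat_lit 4, nat_lit 2, nat_lit 0, nat_lit 2, nat_lit 2, nat_lit 0, nat_lit 1]))))))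
 (.node (nat_lit 852) (.node (nat_lit 849) (.node (nat_lit 848) (.leaf ((nat_lit 434), [nat_lit 2, nat_lit 5, nat_lit 3, nat_lit 5, nat_lit 2, nat_lit 4, nat_lit 3, nat_lit 2, nat_lit 3, nat_lit 0, nat_lit 2, nat_lit 2, nat_lit 0, nat_lit 2, nat_lit 2, nat_lit 0])) (.leaf ((nat_lit 731), [nat_lit 4, nat_lit 1, nat_lit 5, nat_lit 2, nat_lit 5, nat_lit 1, nat_lit 0, nat_lit 4, nat_lit 3, nat_lit 0, nat_lit 3, nat_lit 0, nat_lit 1, nat_lit 0, nat_lit 1, nat_lit 0]))) (.node (nat_lit 850) (.leaf ((nat_lit 732), [nat_lit 5, nat_lit 4, nat_lit 2, nat_lit 0, nat_lit 5, nat_lit 0, nat_lit 4, nat_lit 2, nat_lit 0, nat_lit 2])) (.node (nat_lit 851) (.leaf ((nat_lit 733), [nat_lit 3, nat_lit 4, nat_lit 5, nat_lit 3, nat_lit 1, nat_lit 4, nat_lit 0, nat_lit 4, nat_lit 2, nat_lit 0, nat_lit 2, nat_lit 2, nat_lit 0, nat_lit 1])) (.leaf ((nat_lit 70), [nat_lit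 3, nat_lit 5, nat_lit 3, nat_lit 4, nat_lit 0, nat_lit 2, nat_lit 4, nat_lit 1, nat_lit 0, nat_lit 1, nat_lit 0, nat_lit 2, nat_lit 0, nat_lit 2, nat_lit 0])))))
 (.node (nat_lit 855) (.node (nat_lit 853) (.leaf ((nat_lit 734), [nat_lit 3, nat_lit 5, nat_lit 2, nat_lit 5, nat_lit 0, nat_lit 3, nat_lit 1, nat_lit 3, nat_lit 4, nat_lit 2, nat_lit 2, nat_lit 0, nat_lit 2, nat_lit 2, nat_lit 0, nat_lit 1])) (.node (nat_lit 854) (.leaf ((nat_lit 268), [nat_lit 3, nat_lit 0, nat_lit 2, nat_lit 5, nat_lit 2, nat_lit 3, nat_lit 4, nat_lit 3, nat_lit 0, nat_lit 3, nat_lit 0, nat_lit 2, nat_lit 2, nat_lit 0, nat_lit 1])) (.leaf ((nat_lit 735), [nat_lit 0, nat_lit 5, nat_lit 2, nat_lit 3, nat_lit 5, nat_lit 3, nat_lit 2, nat_lit 4, nat_lit 0, nat_lit 4, nat_lit 1, nat_lit 0, nat_lit 2, nat_lit 2, nat_lit 0, nat_lit 1, nat_lit 0])))) (.node (nat_lit 856) (.leaf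 ((nat_lit 714), [nat_lit 2, nat_lit 5, nat_lit 0, nat_lit 5, nat_lit 1, nat_lit 4, nat_lit 0, nat_lit 4, nat_lit 1, nat_lit 0, nat_lit 1, nat_lit 0, nat_lit 2, nat_lit 0, nat_lit 2, nat_lit 0])) (.node (nat_lit 857) (.leaf ((nat_lit 736), [nat_lit 3, nat_lit 5, nat_lit 2, nat_lit 5, nat_lit 3, nat_lit 0, nat_lit 1, nat_lit 0, nat_lit 4, nat_lit 1, nat_lit 0, nat_lit 2, nat_lit 2, nat_lit 0, nat_lit 2, nat_lit 2])) (.leaf ((nat_lit 737), [nat_lit 4, nat_lit 5, nat_lit 0, nat_lit 3, nat_lit 5, nat_lit 3, nat_lit 4, nat_lit 2, nat_lit 4, nat_lit 3, nat_lit 0, nat_lit 1, nat_lit 0, nat_lit 2])))))))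
 (.node (nat_lit 869) (.node (nat_lit 863) (.node (nat_lit 860) (.node (nat_lit 859) (.leaf ((nat_lit 738), [nat_lit 1, nat_lit 5, nat_lit 0, nat_lit 1, nat_lit 3, nat_lit 0, nat_lit 3, nat_lit 0, nat_lit 2, nat_lit 0, nat_lit 2, nat_lit 2])) (.leaf ((nat_lit 541), [nat_lit 3, nat_lit 5, nat_lit 3, nat_lit 0, nat_lit 5, nat_lit 0, nat_lit 4, nat_lit 2, nat_lit 0, nat_lit 4, nat_lit 2, nat_lit 0, nat_lit 2, nat_lit 0, nat_lit 1, nat_lit 0, nat_lit 1, nat_lit 0]))) (.node (nat_lit 861) (.leaf ((nat_lit 739), [nat_lit 5, nat_lit 0, nat_lit 3, nat_lit 5, nat_lit 1, nat_lit 4, nat_lit 3, nat_lit 1, nat_lit 0, nat_lit 4, nat_lit 2, nat_lit 0, nat_lit 2, nat_lit 0, nat_lit 1, nat_lit 0, nat_lit 1])) (.node (nat_lit 862) (.leaf ((nat_lit 740), [nat_lit 4, nat_lit 0, nat_lit 5, nat_lit 2, nat_lit 5, nat_lit 3, nat_lit 1, nat_lit 4, nat_lit 0, nat_lit 4, nat_lit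 2, nat_lit 2])) (.leaf ((nat_lit 741), [nat_lit 1, nat_lit 0, nat_lit 2, nat_lit 5, nat_lit 4, nat_lit 2, nat_lit 3, nat_lit 4, nat_lit 2, nat_lit 3, nat_lit 2, nat_lit 2, nat_lit 0, nat_lit 2, nat_lit 0])))))
 (.node (nat_lit 866) (.node (nat_lit 864) (.leaf ((nat_lit 742), [nat_lit 4, nat_lit 1, nat_lit 0, nat_lit 5, nat_lit 4, nat_lit 0, nat_lit 4, nat_lit 1, nat_lit 3, nat_lit 0])) (.node (nat_lit 865) (.leaf ((nat_lit 743), [nat_lit 4, nat_lit 5, nat_lit 1, nat_lit 5, nat_lit 1, nat_lit 4, nat_lit 3, nat_lit 1, nat_lit 3, nat_lit 2, nat_lit 0, nat_lit 2, nat_lit 2, nat_lit 0, nat_lit 2, nat_lit 0])) (.leaf ((nat_lit 744), [nat_lit 4, nat_lit 5, nat_lit 0, nat_lit 4, nat_lit 1, nat_lit 3, nat_lit 2, nat_lit 0, nat_lit 2, nat_lit 2, nat_lit 0, nat_lit 2, nat_lit 0])))) (.node (nat_lit 867) (.leaf ((nat_lit 350), [nat_lit 3, nat_lit 0, nat_lit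 5, nat_lit 3, nat_lit 0, nat_lit 4, nat_lit 2, nat_lit 0, nat_lit 3, nat_lit 0, nat_lit 2, nat_lit 2, nat_lit 0, nat_lit 2, nat_lit 0, nat_lit 1])) (.node (nat_lit 868) (.leaf ((nat_lit 745), [nat_lit 5, nat_lit 4, nat_lit 3, nat_lit 5, nat_lit 2, nat_lit 5, nat_lit 0, nat_lit 1, nat_lit 3, nat_lit 4, nat_lit 1, nat_lit 3, nat_lit 0, nat_lit 1, nat_lit 0, nat_lit 2, nat_lit 0, nat_lit 2, nat_lit 2, nat_lit 0])) (.leaf ((nat_lit 746), [nat_lit 2, nat_lit 0, nat_lit 5, nat_lit 4, nat_lit 2, nat_lit 4, nat_lit 0, nat_lit 1, nat_lit 0, nat_lit 3, nat_lit 0, nat_lit 2, nat_lit 2, nat_lit 0, nat_lit 2, nat_lit 2]))))))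
 (.node (nat_lit 874) (.node (nat_lit 871) (.node (nat_lit 870) (.leaf ((nat_lit 747), [nat_lit 3, nat_lit 5, nat_lit 2, nat_lit 5, nat_lit 0, nat_lit 1, nat_lit 3, nat_lit 1, nat_lit 0, nat_lit 4, nat_lit 1, nat_lit 0, nat_lit 2, nat_lit 2, nat_lit 0, nat_lit 1, nat_lit 0])) (.leaf ((nat_lit 42), [nat_lit 4, nat_lit 3, nat_lit 5, nat_lit 2, nat_lit 5, nat_lit 3, nat_lit 4, nat_lit 0, nat_lit 2, nat_lit 2, nat_lit 3, nat_lit 2, nat_lit 0, nat_lit 2]))) (.node (nat_lit 872) (.leaf ((nat_lit 460), [nat_lit 5, nat_lit 0, nat_lit 1, nat_lit 5, nat_lit 4, nat_lit 1, nat_lit 3, nat_lit 2, nat_lit 2, nat_lit 3, nat_lit 1, nat_lit 0, nat_lit 2, nat_lit 2, nat_lit 0, nat_lit 1])) (.node (nat_lit 873) (.leaf ((nat_lit 122), [nat_lit 3, nat_lit 1, nat_lit 3, nat_lit 0, nat_lit 5, nat_lit 4, nat_lit 1, nat_lit 0, nat_lit 2, nat_lit 3, nat_lit 1, nat_lit 0, nat_lit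 2, nat_lit 2, nat_lit 0, nat_lit 2, nat_lit 0])) (.leaf ((nat_lit 748), [nat_lit 5, nat_lit 4, nat_lit 5, nat_lit 2, nat_lit 5, nat_lit 2, nat_lit 2, nat_lit 4, nat_lit 3, nat_lit 2, nat_lit 3, nat_lit 0, nat_lit 1, nat_lit 0, nat_lit 2, nat_lit 0])))))
 (.node (nat_lit 877) (.node (nat_lit 875) (.leaf ((nat_lit 261), [nat_lit 1, nat_lit 5, nat_lit 1, nat_lit 3, nat_lit 4, nat_lit 3, nat_lit 1, nat_lit 3, nat_lit 2, nat_lit 0, nat_lit 1, nat_lit 0, nat_lit 2, nat_lit 0, nat_lit 2, nat_lit 0])) (.node (nat_lit 876) (.leaf ((nat_lit 444), [nat_lit 5, nat_lit 4, nat_lit 3, nat_lit 5, nat_lit 2, nat_lit 5, nat_lit 0, nat_lit 4, nat_lit 0, nat_lit 1, nat_lit 4, nat_lit 3, nat_lit 2, nat_lit 2, nat_lit 0, nat_lit 2, nat_lit 2, nat_lit 0])) (.leaf ((nat_lit 749), [nat_lit 5, nat_lit 3, nat_lit 2, nat_lit 0, nat_lit 5, nat_lit 2, nat_lit 3, nat_lit 2, nat_lit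 0, nat_lit 4, nat_lit 1, nat_lit 0, nat_lit 1])))) (.node (nat_lit 878) (.leaf ((nat_lit 418), [nat_lit 5, nat_lit 1, nat_lit 3, nat_lit 2, nat_lit 5, nat_lit 4, nat_lit 3, nat_lit 1, nat_lit 0, nat_lit 4, nat_lit 2, nat_lit 2, nat_lit 0, nat_lit 2, nat_lit 2, nat_lit 0, nat_lit 2, nat_lit 2])) (.node (nat_lit 879) (.leaf ((nat_lit 750), [nat_lit 2, nat_lit 4, nat_lit 2, nat_lit 0, nat_lit 5, nat_lit 1, nat_lit 4, nat_lit 1, nat_lit 4, nat_lit 0, nat_lit 2, nat_lit 2, nat_lit 0, nat_lit 2, nat_lit 0, nat_lit 1])) (.leaf ((nat_lit 751), [nat_lit 5, nat_lit 4, nat_lit 5, nat_lit 3, nat_lit 5, nat_lit 4, nat_lit 2, nat_lit 0, nat_lit 3, nat_lit 2, nat_lit 0, nat_lit 1, nat_lit 0, nat_lit 1, nat_lit 0, nat_lit 2]))))))))))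
noncomputable def pWd_5 : Tr (ℕ × List ℕ) := (.node (nat_lit 968) (.node (nat_lit 924) (.node (nat_lit 902) (.node (nat_lit 891) (.node (nat_lit 885) (.node (nat_lit 882) (.node (nat_lit 881) (.leaf ((nat_lit 752), [nat_lit 2, nat_lit 4, nat_lit 5, nat_lit 2, nat_lit 0, nat_lit 5, nat_lit 2, nat_lit 4, nat_lit 0, nat_lit 4, nat_lit 0, nat_lit 4, nat_lit 1, nat_lit 0, nat_lit 2, nat_lit 2, nat_lit 0, nat_lit 2])) (.leaf ((nat_lit 753), [nat_lit 2, nat_lit 2, nat_lit 0, nat_lit 5, nat_lit 1, nat_lit 3, nat_lit 1, nat_lit 4, nat_lit 1, nat_lit 0, nat_lit 2, nat_lit 0, nat_lit 1, nat_lit 0]))) (.node (nat_lit 883) (.leaf ((nat_lit 754), [nat_lit 5, nat_lit 2, nat_lit 2, nat_lit 0, nat_lit 5, nat_lit 3, nat_lit 4, nat_lit 0, nat_lit 2, nat_lit 2, nat_lit 3, nat_lit 0, nat_lit 2, nat_lit 0, nat_lit 2, nat_lit 2, nat_lit 0, nat_lit 1, nat_lit 0])) (.node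 (nat_lit 884) (.leaf ((nat_lit 755), [nat_lit 0, nat_lit 5, nat_lit 0, nat_lit 1, nat_lit 5, nat_lit 1, nat_lit 4, nat_lit 0, nat_lit 4, nat_lit 3, nat_lit 2, nat_lit 0, nat_lit 2, nat_lit 0, nat_lit 1, nat_lit 0, nat_lit 1])) (.leaf ((nat_lit 756), [nat_lit 3, nat_lit 0, nat_lit 5, nat_lit 3, nat_lit 5, nat_lit 0, nat_lit 2, nat_lit 3, nat_lit 1, nat_lit 0, nat_lit 1])))))
 (.node (nat_lit 888) (.node (nat_lit 886) (.leaf ((nat_lit 757), [nat_lit 1, nat_lit 0, nat_lit 2, nat_lit 5, nat_lit 0, nat_lit 3, nat_lit 1, nat_lit 3, nat_lit 2, nat_lit 2, nat_lit 0])) (.node (nat_lit 887) (.leaf ((nat_lit 582), [nat_lit 3, nat_lit 2, nat_lit 3, nat_lit 5, nat_lit 3, nat_lit 4, nat_lit 0, nat_lit 2, nat_lit 4, nat_lit 0, nat_lit 2, nat_lit 0, nat_lit 1, nat_lit 0])) (.leaf ((nat_lit 758), [nat_lit 5, nat_lit 0, nat_lit 4, nat_lit 5, nat_lit 1, nat_lit 0,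 nat_lit 2, nat_lit 4, nat_lit 1, nat_lit 0, nat_lit 2, nat_lit 0, nat_lit 1])))) (.node (nat_lit 889) (.leaf ((nat_lit 656), [nat_lit 2, nat_lit 5, nat_lit 0, nat_lit 5, nat_lit 2, nat_lit 2, nat_lit 4, nat_lit 0, nat_lit 4, nat_lit 2, nat_lit 0, nat_lit 2, nat_lit 2, nat_lit 0])) (.node (nat_lit 890) (.leaf ((nat_lit 759), [nat_lit 0, nat_lit 5, nat_lit 3, nat_lit 0, nat_lit 5, nat_lit 2, nat_lit 0, nat_lit 2, nat_lit 2, nat_lit 3, nat_lit 0, nat_lit 2, nat_lit 0, nat_lit 1, nat_lit 0, nat_lit 1])) (.leaf ((nat_lit 760), [nat_lit 0, nat_lit 5, nat_lit 3, nat_lit 5, nat_lit 2, nat_lit 3, nat_lit 4, nat_lit 1, nat_lit 0, nat_lit 3, nat_lit 0, nat_lit 2, nat_lit 0, nat_lit 2]))))))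
 (.node (nat_lit 896) (.node (nat_lit 893) (.node (nat_lit 892) (.leaf ((nat_lit 548), [nat_lit 1, nat_lit 0, nat_lit 5, nat_lit 3, nat_lit 5, nat_lit 1, nat_lit 0, nat_lit 2, nat_lit 4, nat_lit 1, nat_lit 0, nat_lit 2, nat_lit 2, nat_lit 0, nat_lit 2, nat_lit 0])) (.leaf ((nat_lit 761), [nat_lit 2, nat_lit 0, nat_lit 1, nat_lit 5, nat_lit 1, nat_lit 0, nat_lit 4, nat_lit 3, nat_lit 0, nat_lit 3, nat_lit 2, nat_lit 2, nat_lit 0, nat_lit 2, nat_lit 2, nat_lit 0, nat_lit 1, nat_lit 0]))) (.node (nat_lit 894) (.leaf ((nat_lit 762), [nat_lit 2, nat_lit 5, nat_lit 0, nat_lit 1, nat_lit 5, nat_lit 3, nat_lit 2, nat_lit 0, nat_lit 4, nat_lit 1, nat_lit 4, nat_lit 2, nat_lit 0, nat_lit 2, nat_lit 0, nat_lit 1])) (.node (nat_lit 895) (.leaf ((nat_lit 353), [nat_lit 3, nat_lit 0, nat_lit 5, nat_lit 0, nat_lit 1, nat_lit 0, nat_lit 3, nat_lit 0, nat_lit 1]))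 (.leaf ((nat_lit 763), [nat_lit 4, nat_lit 5, nat_lit 4, nat_lit 0, nat_lit 5, nat_lit 4, nat_lit 0, nat_lit 2, nat_lit 4, nat_lit 1, nat_lit 0, nat_lit 2, nat_lit 0, nat_lit 1])))))
 (.node (nat_lit 899) (.node (nat_lit 897) (.leaf ((nat_lit 212), [nat_lit 2, nat_lit 5, nat_lit 4, nat_lit 5, nat_lit 4, nat_lit 1, nat_lit 3, nat_lit 0, nat_lit 1, nat_lit 4, nat_lit 0, nat_lit 1, nat_lit 0, nat_lit 2, nat_lit 2, nat_lit 0, nat_lit 2, nat_lit 0])) (.node (nat_lit 898) (.leaf ((nat_lit 270), [nat_lit 5, nat_lit 1, nat_lit 0, nat_lit 3, nat_lit 5, nat_lit 1, nat_lit 4, nat_lit 3, nat_lit 1, nat_lit 3, nat_lit 1, nat_lit 0, nat_lit 2, nat_lit 0, nat_lit 1])) (.leaf ((nat_lit 764), [nat_lit 2, nat_lit 3, nat_lit 5, nat_lit 0, nat_lit 5, nat_lit 0, nat_lit 4, nat_lit 2, nat_lit 3, nat_lit 4, nat_lit 2, nat_lit 2, nat_lit 0, nat_lit 1, nat_lit 0, nat_lit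 2, nat_lit 2])))) (.node (nat_lit 900) (.leaf ((nat_lit 765), [nat_lit 5, nat_lit 2, nat_lit 3, nat_lit 0, nat_lit 5, nat_lit 3, nat_lit 0, nat_lit 3, nat_lit 2, nat_lit 4, nat_lit 1, nat_lit 0, nat_lit 1, nat_lit 0, nat_lit 2, nat_lit 0])) (.node (nat_lit 901) (.leaf ((nat_lit 390), [nat_lit 1, nat_lit 3, nat_lit 0, nat_lit 5, nat_lit 4, nat_lit 1, nat_lit 4, nat_lit 3, nat_lit 0, nat_lit 1, nat_lit 0])) (.leaf ((nat_lit 619), [nat_lit 2, nat_lit 3, nat_lit 5, nat_lit 3, nat_lit 0, nat_lit 4, nat_lit 0, nat_lit 4, nat_lit 0, nat_lit 1, nat_lit 0, nat_lit 1, nat_lit 0, nat_lit 2, nat_lit 0])))))))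
 (.node (nat_lit 913) (.node (nat_lit 907) (.node (nat_lit 904) (.node (nat_lit 903) (.leaf ((nat_lit 766), [nat_lit 3, nat_lit 5, nat_lit 0, nat_lit 3, nat_lit 5, nat_lit 0, nat_lit 2, nat_lit 2, nat_lit 0, nat_lit 4, nat_lit 0, nat_lit 2, nat_lit 2, nat_lit 0])) (.leaf ((nat_lit 767), [nat_lit 5, nat_lit 3, nat_lit 1, nat_lit 4, nat_lit 3, nat_lit 0, nat_lit 3, nat_lit 1, nat_lit 0, nat_lit 2, nat_lit 2, nat_lit 0, nat_lit 2, nat_lit 0]))) (.node (nat_lit 905) (.leaf ((nat_lit 768), [nat_lit 3, nat_lit 5, nat_lit 0, nat_lit 3, nat_lit 5, nat_lit 0, nat_lit 1, nat_lit 4, nat_lit 3, nat_lit 2, nat_lit 3, nat_lit 2, nat_lit 0, nat_lit 1, nat_lit 0, nat_lit 2])) (.node (nat_lit 906) (.leaf ((nat_lit 11), [nat_lit 5, nat_lit 2, nat_lit 0, nat_lit 5, nat_lit 2, nat_lit 0, nat_lit 3, nat_lit 0, nat_lit 2, nat_lit 3, nat_lit 2, nat_lit 2, nat_lit 0, nat_lit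 1, nat_lit 0, nat_lit 2])) (.leaf ((nat_lit 729), [nat_lit 0, nat_lit 5, nat_lit 2, nat_lit 0, nat_lit 5, nat_lit 2, nat_lit 0, nat_lit 4, nat_lit 2, nat_lit 2, nat_lit 0, nat_lit 1, nat_lit 0, nat_lit 2, nat_lit 2, nat_lit 0])))))
 (.node (nat_lit 910) (.node (nat_lit 908) (.leaf ((nat_lit 769), [nat_lit 5, nat_lit 4, nat_lit 0, nat_lit 5, nat_lit 2, nat_lit 3, nat_lit 2, nat_lit 0, nat_lit 3, nat_lit 2, nat_lit 0, nat_lit 2, nat_lit 0, nat_lit 1, nat_lit 0])) (.node (nat_lit 909) (.leaf ((nat_lit 770), [nat_lit 2, nat_lit 4, nat_lit 0, nat_lit 5, nat_lit 1, nat_lit 3, nat_lit 0, nat_lit 1, nat_lit 4, nat_lit 1, nat_lit 0, nat_lit 1])) (.leaf ((nat_lit 771), [nat_lit 4, nat_lit 5, nat_lit 4, nat_lit 2, nat_lit 4, nat_lit 2, nat_lit 0, nat_lit 3, nat_lit 2, nat_lit 2, nat_lit 0, nat_lit 2, nat_lit 0])))) (.node (nat_lit 911) (.leaf ((nat_lit 620),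 [nat_lit 1, nat_lit 3, nat_lit 2, nat_lit 5, nat_lit 0, nat_lit 3, nat_lit 0, nat_lit 4, nat_lit 2, nat_lit 0, nat_lit 2, nat_lit 0])) (.node (nat_lit 912) (.leaf ((nat_lit 772), [nat_lit 5, nat_lit 4, nat_lit 5, nat_lit 0, nat_lit 3, nat_lit 0, nat_lit 1, nat_lit 4, nat_lit 2, nat_lit 2, nat_lit 0, nat_lit 2])) (.leaf ((nat_lit 773), [nat_lit 4, nat_lit 3, nat_lit 5, nat_lit 2, nat_lit 5, nat_lit 4, nat_lit 1, nat_lit 3, nat_lit 2, nat_lit 0, nat_lit 2, nat_lit 0, nat_lit 1]))))))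
 (.node (nat_lit 918) (.node (nat_lit 915) (.node (nat_lit 914) (.leaf ((nat_lit 211), [nat_lit 5, nat_lit 0, nat_lit 4, nat_lit 5, nat_lit 2, nat_lit 4, nat_lit 1, nat_lit 3, nat_lit 1, nat_lit 3, nat_lit 0, nat_lit 2, nat_lit 2, nat_lit 0, nat_lit 2, nat_lit 0])) (.leaf ((nat_lit 774), [nat_lit 5, nat_lit 4, nat_lit 1, nat_lit 0, nat_lit 5, nat_lit 2, nat_lit 4, nat_lit 0, nat_lit 4, nat_lit 1, nat_lit 0, nat_lit 1, nat_lit 0, nat_lit 2, nat_lit 0, nat_lit 2]))) (.node (nat_lit 916) (.leaf ((nat_lit 505), [nat_lit 3, nat_lit 1, nat_lit 3, nat_lit 0, nat_lit 5, nat_lit 2, nat_lit 2, nat_lit 0, nat_lit 4, nat_lit 2, nat_lit 0, nat_lit 1, nat_lit 0, nat_lit 1, nat_lit 0, nat_lit 2])) (.node (nat_lit 917) (.leaf ((nat_lit 571), [nat_lit 4, nat_lit 1, nat_lit 0, nat_lit 5, nat_lit 4, nat_lit 0, nat_lit 3, nat_lit 1, nat_lit 3, nat_lit 1, nat_lit 0,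 nat_lit 1, nat_lit 0])) (.leaf ((nat_lit 775), [nat_lit 4, nat_lit 0, nat_lit 5, nat_lit 3, nat_lit 0, nat_lit 4, nat_lit 3, nat_lit 0, nat_lit 3, nat_lit 2, nat_lit 0, nat_lit 1, nat_lit 0, nat_lit 1, nat_lit 0])))))
 (.node (nat_lit 921) (.node (nat_lit 919) (.leaf ((nat_lit 776), [nat_lit 4, nat_lit 5, nat_lit 4, nat_lit 0, nat_lit 5, nat_lit 0, nat_lit 4, nat_lit 2, nat_lit 3, nat_lit 4, nat_lit 1, nat_lit 0, nat_lit 2, nat_lit 2, nat_lit 0, nat_lit 2, nat_lit 0])) (.node (nat_lit 920) (.leaf ((nat_lit 47), [nat_lit 3, nat_lit 4, nat_lit 5, nat_lit 2, nat_lit 5, nat_lit 4, nat_lit 1, nat_lit 3, nat_lit 0, nat_lit 2, nat_lit 2, nat_lit 0, nat_lit 2])) (.leaf ((nat_lit 777), [nat_lit 4, nat_lit 5, nat_lit 3, nat_lit 2, nat_lit 5, nat_lit 4, nat_lit 3, nat_lit 2, nat_lit 2, nat_lit 3, nat_lit 0, nat_lit 2, nat_lit 0, nat_lit 2, nat_lit 2, nat_lit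 0, nat_lit 1, nat_lit 0])))) (.node (nat_lit 922) (.leaf ((nat_lit 778), [nat_lit 2, nat_lit 4, nat_lit 3, nat_lit 0, nat_lit 2, nat_lit 3, nat_lit 2, nat_lit 0, nat_lit 1, nat_lit 0, nat_lit 2])) (.node (nat_lit 923) (.leaf ((nat_lit 779), [nat_lit 5, nat_lit 1, nat_lit 5, nat_lit 0, nat_lit 4, nat_lit 0, nat_lit 4, nat_lit 2, nat_lit 0, nat_lit 1, nat_lit 0, nat_lit 1, nat_lit 0, nat_lit 2, nat_lit 0])) (.leaf ((nat_lit 780), [nat_lit 4, nat_lit 3, nat_lit 2, nat_lit 5, nat_lit 3, nat_lit 0, nat_lit 3, nat_lit 0, nat_lit 4, nat_lit 2, nat_lit 2, nat_lit 0, nat_lit 2, nat_lit 2, nat_lit 0, nat_lit 2, nat_lit 2, nat_lit 0]))))))))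
 (.node (nat_lit 946) (.node (nat_lit 935) (.node (nat_lit 929) (.node (nat_lit 926) (.node (nat_lit 925) (.leaf ((nat_lit 781), [nat_lit 3, nat_lit 2, nat_lit 0, nat_lit 5, nat_lit 4, nat_lit 3, nat_lit 1, nat_lit 3, nat_lit 1, nat_lit 0, nat_lit 2, nat_lit 2, nat_lit 0, nat_lit 1])) (.leaf ((nat_lit 782), [nat_lit 5, nat_lit 2, nat_lit 2, nat_lit 0, nat_lit 5, nat_lit 0, nat_lit 4, nat_lit 3, nat_lit 2, nat_lit 3, nat_lit 2, nat_lit 0, nat_lit 1]))) (.node (nat_lit 927) (.leaf ((nat_lit 783), [nat_lit 5, nat_lit 4, nat_lit 2, nat_lit 0, nat_lit 5, nat_lit 3, nat_lit 4, nat_lit 1, nat_lit 3, nat_lit 1, nat_lit 0, nat_lit 1])) (.node (nat_lit 928) (.leaf ((nat_lit 784), [nat_lit 5, nat_lit 4, nat_lit 0, nat_lit 5, nat_lit 3, nat_lit 4, nat_lit 3, nat_lit 2, nat_lit 4, nat_lit 3, nat_lit 2, nat_lit 2, nat_lit 0, nat_lit 2, nat_lit 2, nat_lit 0, nat_lit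 2])) (.leaf ((nat_lit 785), [nat_lit 5, nat_lit 3, nat_lit 2, nat_lit 5, nat_lit 0, nat_lit 4, nat_lit 2, nat_lit 3, nat_lit 0, nat_lit 3, nat_lit 0, nat_lit 2, nat_lit 2, nat_lit 0, nat_lit 2, nat_lit 0, nat_lit 1, nat_lit 0])))))
 (.node (nat_lit 932) (.node (nat_lit 930) (.leaf ((nat_lit 381), [nat_lit 1, nat_lit 4, nat_lit 2, nat_lit 5, nat_lit 4, nat_lit 2, nat_lit 3, nat_lit 0, nat_lit 3, nat_lit 1, nat_lit 0, nat_lit 1, nat_lit 0, nat_lit 2, nat_lit 0])) (.node (nat_lit 931) (.leaf ((nat_lit 786), [nat_lit 1, nat_lit 3, nat_lit 0, nat_lit 5, nat_lit 1, nat_lit 4, nat_lit 2, nat_lit 0, nat_lit 2, nat_lit 3, nat_lit 0, nat_lit 1, nat_lit 0, nat_lit 2, nat_lit 2, nat_lit 0, nat_lit 2])) (.leaf ((nat_lit 787), [nat_lit 5, nat_lit 2, nat_lit 5, nat_lit 1, nat_lit 4, nat_lit 2, nat_lit 4, nat_lit 3, nat_lit 0, nat_lit 2, nat_lit 2, nat_lit 0, nat_lit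 2, nat_lit 0, nat_lit 1])))) (.node (nat_lit 933) (.leaf ((nat_lit 668), [nat_lit 2, nat_lit 5, nat_lit 0, nat_lit 5, nat_lit 2, nat_lit 4, nat_lit 0, nat_lit 1, nat_lit 0, nat_lit 3, nat_lit 0, nat_lit 2, nat_lit 2, nat_lit 0, nat_lit 1, nat_lit 0])) (.node (nat_lit 934) (.leaf ((nat_lit 788), [nat_lit 4, nat_lit 0, nat_lit 5, nat_lit 2, nat_lit 5, nat_lit 2, nat_lit 0, nat_lit 2, nat_lit 4, nat_lit 3, nat_lit 0, nat_lit 2, nat_lit 0, nat_lit 1, nat_lit 0])) (.leaf ((nat_lit 433), [nat_lit 5, nat_lit 0, nat_lit 3, nat_lit 5, nat_lit 3, nat_lit 1, nat_lit 3, nat_lit 1, nat_lit 3, nat_lit 2, nat_lit 2, nat_lit 0]))))))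
 (.node (nat_lit 940) (.node (nat_lit 937) (.node (nat_lit 936) (.leaf ((nat_lit 789), [nat_lit 5, nat_lit 2, nat_lit 2, nat_lit 0, nat_lit 5, nat_lit 1, nat_lit 4, nat_lit 1, nat_lit 3, nat_lit 1, nat_lit 3, nat_lit 2, nat_lit 2, nat_lit 0, nat_lit 1, nat_lit 0, nat_lit 2, nat_lit 2, nat_lit 0])) (.leaf ((nat_lit 490), [nat_lit 1, nat_lit 3, nat_lit 0, nat_lit 5, nat_lit 4, nat_lit 3, nat_lit 1, nat_lit 3, nat_lit 1, nat_lit 0, nat_lit 1, nat_lit 0, nat_lit 2, nat_lit 0]))) (.node (nat_lit 938) (.leaf ((nat_lit 790), [nat_lit 5, nat_lit 2, nat_lit 2, nat_lit 0, nat_lit 5, nat_lit 2, nat_lit 0, nat_lit 3, nat_lit 2, nat_lit 3, nat_lit 1, nat_lit 0, nat_lit 1, nat_lit 0])) (.node (nat_lit 939) (.leaf ((nat_lit 791), [nat_lit 3, nat_lit 1, nat_lit 5, nat_lit 2, nat_lit 5, nat_lit 1, nat_lit 4, nat_lit 0, nat_lit 4, nat_lit 2, nat_lit 2, nat_lit 0]))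 (.leaf ((nat_lit 547), [nat_lit 4, nat_lit 0, nat_lit 5, nat_lit 0, nat_lit 1, nat_lit 0, nat_lit 4, nat_lit 1, nat_lit 3, nat_lit 2, nat_lit 0, nat_lit 1])))))
 (.node (nat_lit 943) (.node (nat_lit 941) (.leaf ((nat_lit 792), [nat_lit 0, nat_lit 5, nat_lit 2, nat_lit 3, nat_lit 4, nat_lit 0, nat_lit 2, nat_lit 0, nat_lit 1, nat_lit 0])) (.node (nat_lit 942) (.leaf ((nat_lit 793), [nat_lit 2, nat_lit 5, nat_lit 0, nat_lit 5, nat_lit 2, nat_lit 4, nat_lit 3, nat_lit 2, nat_lit 3, nat_lit 0, nat_lit 2, nat_lit 0, nat_lit 1, nat_lit 0, nat_lit 1])) (.leaf ((nat_lit 794), [nat_lit 5, nat_lit 1, nat_lit 0, nat_lit 2, nat_lit 5, nat_lit 2, nat_lit 0, nat_lit 3, nat_lit 2, nat_lit 2, nat_lit 0, nat_lit 1, nat_lit 0, nat_lit 2, nat_lit 0])))) (.node (nat_lit 944) (.leaf ((nat_lit 795), [nat_lit 2, nat_lit 3, nat_lit 5, nat_lit 0, nat_lit 5, nat_lit 2, nat_lit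 2, nat_lit 3, nat_lit 2, nat_lit 4, nat_lit 2, nat_lit 0, nat_lit 1, nat_lit 0, nat_lit 2, nat_lit 2])) (.node (nat_lit 945) (.leaf ((nat_lit 796), [nat_lit 3, nat_lit 0, nat_lit 5, nat_lit 3, nat_lit 5, nat_lit 4, nat_lit 3, nat_lit 1, nat_lit 3, nat_lit 1, nat_lit 3, nat_lit 1])) (.leaf ((nat_lit 761), [nat_lit 5, nat_lit 2, nat_lit 3, nat_lit 5, nat_lit 3, nat_lit 4, nat_lit 3, nat_lit 0, nat_lit 3, nat_lit 0, nat_lit 1, nat_lit 0, nat_lit 2, nat_lit 2, nat_lit 0, nat_lit 1])))))))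
 (.node (nat_lit 957) (.node (nat_lit 951) (.node (nat_lit 948) (.node (nat_lit 947) (.leaf ((nat_lit 243), [nat_lit 4, nat_lit 0, nat_lit 5, nat_lit 2, nat_lit 5, nat_lit 1, nat_lit 3, nat_lit 4, nat_lit 3, nat_lit 1, nat_lit 3, nat_lit 2, nat_lit 0, nat_lit 2, nat_lit 2, nat_lit 0, nat_lit 2, nat_lit 0])) (.leaf ((nat_lit 797), [nat_lit 4, nat_lit 1, nat_lit 0, nat_lit 5, nat_lit 2, nat_lit 4, nat_lit 2, nat_lit 3, nat_lit 0, nat_lit 3, nat_lit 2, nat_lit 0, nat_lit 2, nat_lit 2, nat_lit 0, nat_lit 2, nat_lit 2]))) (.node (nat_lit 949) (.leaf ((nat_lit 798), [nat_lit 2, nat_lit 3, nat_lit 5, nat_lit 2, nat_lit 4, nat_lit 0, nat_lit 4, nat_lit 0, nat_lit 2, nat_lit 2, nat_lit 0, nat_lit 2, nat_lit 0])) (.node (nat_lit 950) (.leaf ((nat_lit 332), [nat_lit 1, nat_lit 4, nat_lit 5, nat_lit 1, nat_lit 5, nat_lit 3, nat_lit 4, nat_lit 2, nat_lit 4, nat_lit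 3, nat_lit 2, nat_lit 0, nat_lit 2, nat_lit 2, nat_lit 0, nat_lit 2, nat_lit 2, nat_lit 0])) (.leaf ((nat_lit 799), [nat_lit 0, nat_lit 5, nat_lit 0, nat_lit 1, nat_lit 5, nat_lit 4, nat_lit 1, nat_lit 0, nat_lit 3, nat_lit 2, nat_lit 3, nat_lit 2, nat_lit 2, nat_lit 0, nat_lit 2, nat_lit 2, nat_lit 0, nat_lit 1, nat_lit 0])))))
 (.node (nat_lit 954) (.node (nat_lit 952) (.leaf ((nat_lit 800), [nat_lit 3, nat_lit 4, nat_lit 3, nat_lit 5, nat_lit 3, nat_lit 1, nat_lit 3, nat_lit 4, nat_lit 3, nat_lit 2, nat_lit 2, nat_lit 0, nat_lit 2, nat_lit 2, nat_lit 0, nat_lit 2])) (.node (nat_lit 953) (.leaf ((nat_lit 801), [nat_lit 5, nat_lit 4, nat_lit 0, nat_lit 5, nat_lit 4, nat_lit 3, nat_lit 1, nat_lit 4, nat_lit 3, nat_lit 1, nat_lit 0, nat_lit 1, nat_lit 0, nat_lit 2, nat_lit 0, nat_lit 2, nat_lit 0])) (.leaf ((nat_lit 802), [nat_lit 4, nat_lit 3, nat_lit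 5, nat_lit 0, nat_lit 2, nat_lit 4, nat_lit 2, nat_lit 2])))) (.node (nat_lit 955) (.leaf ((nat_lit 803), [nat_lit 2, nat_lit 5, nat_lit 0, nat_lit 5, nat_lit 2, nat_lit 3, nat_lit 4, nat_lit 0, nat_lit 2, nat_lit 4, nat_lit 2, nat_lit 0, nat_lit 1, nat_lit 0, nat_lit 1, nat_lit 0, nat_lit 2])) (.node (nat_lit 956) (.leaf ((nat_lit 804), [nat_lit 0, nat_lit 5, nat_lit 3, nat_lit 5, nat_lit 2, nat_lit 3, nat_lit 0, nat_lit 3, nat_lit 0, nat_lit 2, nat_lit 2])) (.leaf ((nat_lit 805), [nat_lit 4, nat_lit 5, nat_lit 4, nat_lit 0, nat_lit 5, nat_lit 4, nat_lit 0, nat_lit 3, nat_lit 4, nat_lit 3, nat_lit 0, nat_lit 1, nat_lit 0, nat_lit 1, nat_lit 0, nat_lit 2, nat_lit 0]))))))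
 (.node (nat_lit 962) (.node (nat_lit 959) (.node (nat_lit 958) (.leaf ((nat_lit 806), [nat_lit 0, nat_lit 4, nat_lit 2, nat_lit 0, nat_lit 5, nat_lit 1, nat_lit 4, nat_lit 2, nat_lit 3, nat_lit 1, nat_lit 3, nat_lit 0, nat_lit 2, nat_lit 2, nat_lit 0, nat_lit 2, nat_lit 0, nat_lit 1, nat_lit 0])) (.leaf ((nat_lit 323), [nat_lit 4, nat_lit 2, nat_lit 5, nat_lit 4, nat_lit 1, nat_lit 4, nat_lit 0, nat_lit 2, nat_lit 0, nat_lit 1, nat_lit 0]))) (.node (nat_lit 960) (.leaf ((nat_lit 351), [nat_lit 2, nat_lit 3, nat_lit 0, nat_lit 5, nat_lit 2, nat_lit 3, nat_lit 4, nat_lit 2, nat_lit 4, nat_lit 2, nat_lit 0, nat_lit 1, nat_lit 0, nat_lit 2, nat_lit 0, nat_lit 2])) (.node (nat_lit 961) (.leaf ((nat_lit 85), [nat_lit 2, nat_lit 5, nat_lit 0, nat_lit 1, nat_lit 5, nat_lit 1, nat_lit 3, nat_lit 0, nat_lit 1, nat_lit 4, nat_lit 1, nat_lit 0, nat_lit 2, nat_lit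 2, nat_lit 0, nat_lit 2, nat_lit 2])) (.leaf ((nat_lit 807), [nat_lit 0, nat_lit 2, nat_lit 5, nat_lit 3, nat_lit 5, nat_lit 0, nat_lit 1, nat_lit 0, nat_lit 4, nat_lit 1, nat_lit 3, nat_lit 0, nat_lit 1, nat_lit 0])))))
 (.node (nat_lit 965) (.node (nat_lit 963) (.leaf ((nat_lit 808), [nat_lit 5, nat_lit 0, nat_lit 3, nat_lit 5, nat_lit 4, nat_lit 3, nat_lit 0, nat_lit 4, nat_lit 1, nat_lit 0, nat_lit 3, nat_lit 1])) (.node (nat_lit 964) (.leaf ((nat_lit 484), [nat_lit 5, nat_lit 4, nat_lit 2, nat_lit 0, nat_lit 5, nat_lit 1, nat_lit 4, nat_lit 3, nat_lit 2, nat_lit 0, nat_lit 1, nat_lit 0, nat_lit 1])) (.leaf ((nat_lit 579), [nat_lit 3, nat_lit 5, nat_lit 0, nat_lit 3, nat_lit 5, nat_lit 2, nat_lit 2, nat_lit 3, nat_lit 2, nat_lit 2, nat_lit 3, nat_lit 1, nat_lit 0, nat_lit 2, nat_lit 0, nat_lit 2])))) (.node (nat_lit 966) (.leaf ((nat_lit 809),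 [nat_lit 0, nat_lit 1, nat_lit 5, nat_lit 1, nat_lit 4, nat_lit 0, nat_lit 3, nat_lit 4, nat_lit 1, nat_lit 0, nat_lit 2, nat_lit 0])) (.node (nat_lit 967) (.leaf ((nat_lit 810), [nat_lit 1, nat_lit 5, nat_lit 3, nat_lit 5, nat_lit 2, nat_lit 3, nat_lit 2, nat_lit 3, nat_lit 0, nat_lit 2, nat_lit 2, nat_lit 0, nat_lit 2, nat_lit 2])) (.leaf ((nat_lit 811), [nat_lit 3, nat_lit 5, nat_lit 2, nat_lit 5, nat_lit 2, nat_lit 4, nat_lit 0, nat_lit 3, nat_lit 4, nat_lit 2, nat_lit 0, nat_lit 2, nat_lit 0, nat_lit 1, nat_lit 0, nat_lit 1, nat_lit 0])))))))))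
 (.node (nat_lit 1012) (.node (nat_lit 990) (.node (nat_lit 979) (.node (nat_lit 973) (.node (nat_lit 970) (.node (nat_lit 969) (.leaf ((nat_lit 277), [nat_lit 5, nat_lit 2, nat_lit 4, nat_lit 0, nat_lit 5, nat_lit 0, nat_lit 4, nat_lit 2, nat_lit 3, nat_lit 1, nat_lit 3, nat_lit 2, nat_lit 0, nat_lit 1, nat_lit 0])) (.leaf ((nat_lit 812), [nat_lit 1, nat_lit 3, nat_lit 2, nat_lit 5, nat_lit 2, nat_lit 4, nat_lit 0, nat_lit 1, nat_lit 0, nat_lit 1, nat_lit 0, nat_lit 2]))) (.node (nat_lit 971) (.leaf ((nat_lit 576), [nat_lit 3, nat_lit 0, nat_lit 2, nat_lit 5, nat_lit 4, nat_lit 3, nat_lit 0, nat_lit 2, nat_lit 3, nat_lit 2, nat_lit 0, nat_lit 1, nat_lit 0, nat_lit 2, nat_lit 0, nat_lit 2, nat_lit 0])) (.node (nat_lit 972) (.leaf ((nat_lit 813), [nat_lit 5, nat_lit 1, nat_lit 3, nat_lit 2, nat_lit 5, nat_lit 4, nat_lit 1, nat_lit 4, nat_lit 1, nat_lit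 4, nat_lit 3, nat_lit 2, nat_lit 0, nat_lit 2, nat_lit 0, nat_lit 1])) (.leaf ((nat_lit 814), [nat_lit 3, nat_lit 2, nat_lit 0, nat_lit 5, nat_lit 0, nat_lit 3, nat_lit 2, nat_lit 3, nat_lit 0, nat_lit 2, nat_lit 2, nat_lit 0, nat_lit 2])))))
 (.node (nat_lit 976) (.node (nat_lit 974) (.leaf ((nat_lit 815), [nat_lit 2, nat_lit 2, nat_lit 0, nat_lit 5, nat_lit 0, nat_lit 2, nat_lit 4, nat_lit 2, nat_lit 4, nat_lit 2, nat_lit 0, nat_lit 1, nat_lit 0, nat_lit 2, nat_lit 2])) (.node (nat_lit 975) (.leaf ((nat_lit 816), [nat_lit 3, nat_lit 2, nat_lit 0, nat_lit 5, nat_lit 4, nat_lit 2, nat_lit 4, nat_lit 0, nat_lit 1, nat_lit 0, nat_lit 3, nat_lit 1, nat_lit 0, nat_lit 1, nat_lit 0])) (.leaf ((nat_lit 400), [nat_lit 4, nat_lit 1, nat_lit 5, nat_lit 2, nat_lit 5, nat_lit 2, nat_lit 3, nat_lit 0, nat_lit 4, nat_lit 1, nat_lit 0, nat_lit 1, nat_lit 0, nat_lit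 2, nat_lit 0])))) (.node (nat_lit 977) (.leaf ((nat_lit 566), [nat_lit 4, nat_lit 5, nat_lit 1, nat_lit 5, nat_lit 3, nat_lit 0, nat_lit 4, nat_lit 2, nat_lit 0, nat_lit 3, nat_lit 2, nat_lit 0, nat_lit 2, nat_lit 2, nat_lit 0, nat_lit 2, nat_lit 2])) (.node (nat_lit 978) (.leaf ((nat_lit 817), [nat_lit 4, nat_lit 5, nat_lit 2, nat_lit 3, nat_lit 5, nat_lit 2, nat_lit 2, nat_lit 3, nat_lit 0, nat_lit 2, nat_lit 2])) (.leaf ((nat_lit 818), [nat_lit 2, nat_lit 5, nat_lit 3, nat_lit 5, nat_lit 0, nat_lit 4, nat_lit 2, nat_lit 0, nat_lit 2, nat_lit 3, nat_lit 0, nat_lit 2, nat_lit 0, nat_lit 2, nat_lit 2]))))))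
 (.node (nat_lit 984) (.node (nat_lit 981) (.node (nat_lit 980) (.leaf ((nat_lit 289), [nat_lit 5, nat_lit 4, nat_lit 5, nat_lit 1, nat_lit 4, nat_lit 0, nat_lit 3, nat_lit 2, nat_lit 3, nat_lit 2, nat_lit 2, nat_lit 0, nat_lit 1])) (.leaf ((nat_lit 819), [nat_lit 2, nat_lit 5, nat_lit 3, nat_lit 5, nat_lit 4, nat_lit 1, nat_lit 4, nat_lit 1, nat_lit 4, nat_lit 0, nat_lit 2, nat_lit 2, nat_lit 0, nat_lit 2, nat_lit 0, nat_lit 1]))) (.node (nat_lit 982) (.leaf ((nat_lit 820), [nat_lit 5, nat_lit 4, nat_lit 5, nat_lit 2, nat_lit 5, nat_lit 2, nat_lit 4, nat_lit 2, nat_lit 3, nat_lit 0, nat_lit 3, nat_lit 2, nat_lit 0, nat_lit 1, nat_lit 0, nat_lit 1, nat_lit 0, nat_lit 2, nat_lit 0])) (.node (nat_lit 983) (.leaf ((nat_lit 821), [nat_lit 5, nat_lit 4, nat_lit 1, nat_lit 0, nat_lit 5, nat_lit 1, nat_lit 0, nat_lit 4, nat_lit 3, nat_lit 0, nat_lit 3,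 nat_lit 2, nat_lit 2, nat_lit 0, nat_lit 2, nat_lit 2])) (.leaf ((nat_lit 513), [nat_lit 5, nat_lit 1, nat_lit 3, nat_lit 2, nat_lit 5, nat_lit 4, nat_lit 0, nat_lit 1, nat_lit 4, nat_lit 3, nat_lit 2, nat_lit 0, nat_lit 2])))))
 (.node (nat_lit 987) (.node (nat_lit 985) (.leaf ((nat_lit 822), [nat_lit 0, nat_lit 3, nat_lit 5, nat_lit 3, nat_lit 2, nat_lit 3, nat_lit 2, nat_lit 0, nat_lit 3, nat_lit 2, nat_lit 0, nat_lit 1, nat_lit 0, nat_lit 2, nat_lit 2])) (.node (nat_lit 986) (.leaf ((nat_lit 823), [nat_lit 5, nat_lit 2, nat_lit 3, nat_lit 0, nat_lit 5, nat_lit 0, nat_lit 4, nat_lit 0, nat_lit 1, nat_lit 4, nat_lit 3, nat_lit 2, nat_lit 0, nat_lit 1, nat_lit 0, nat_lit 2, nat_lit 0])) (.leaf ((nat_lit 518), [nat_lit 2, nat_lit 3, nat_lit 5, nat_lit 0, nat_lit 5, nat_lit 4, nat_lit 3, nat_lit 2, nat_lit 0, nat_lit 3, nat_lit 2, nat_lit 2, nat_lit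 0, nat_lit 2, nat_lit 2, nat_lit 0, nat_lit 1])))) (.node (nat_lit 988) (.leaf ((nat_lit 80), [nat_lit 4, nat_lit 3, nat_lit 5, nat_lit 2, nat_lit 5, nat_lit 2, nat_lit 3, nat_lit 0, nat_lit 3, nat_lit 0, nat_lit 1, nat_lit 0, nat_lit 2, nat_lit 0, nat_lit 2, nat_lit 2, nat_lit 0])) (.node (nat_lit 989) (.leaf ((nat_lit 824), [nat_lit 5, nat_lit 2, nat_lit 3, nat_lit 5, nat_lit 3, nat_lit 4, nat_lit 2, nat_lit 3, nat_lit 2, nat_lit 0, nat_lit 1, nat_lit 0, nat_lit 1, nat_lit 0, nat_lit 2])) (.leaf ((nat_lit 7), [nat_lit 2, nat_lit 5, nat_lit 0, nat_lit 5, nat_lit 4, nat_lit 3, nat_lit 2, nat_lit 4, nat_lit 2, nat_lit 3, nat_lit 0, nat_lit 2, nat_lit 2, nat_lit 0, nat_lit 2, nat_lit 0])))))))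
 (.node (nat_lit 1001) (.node (nat_lit 995) (.node (nat_lit 992) (.node (nat_lit 991) (.leaf ((nat_lit 226), [nat_lit 5, nat_lit 4, nat_lit 5, nat_lit 1, nat_lit 5, nat_lit 2, nat_lit 0, nat_lit 4, nat_lit 3, nat_lit 0, nat_lit 1])) (.leaf ((nat_lit 825), [nat_lit 2, nat_lit 5, nat_lit 3, nat_lit 5, nat_lit 4, nat_lit 1, nat_lit 0, nat_lit 2, nat_lit 3, nat_lit 1, nat_lit 0, nat_lit 2, nat_lit 2, nat_lit 0, nat_lit 2, nat_lit 0]))) (.node (nat_lit 993) (.leaf ((nat_lit 826), [nat_lit 1, nat_lit 3, nat_lit 0, nat_lit 5, nat_lit 3, nat_lit 0, nat_lit 2, nat_lit 2, nat_lit 3, nat_lit 1, nat_lit 0, nat_lit 2, nat_lit 2, nat_lit 0, nat_lit 2, nat_lit 2])) (.node (nat_lit 994) (.leaf ((nat_lit 827), [nat_lit 0, nat_lit 4, nat_lit 2, nat_lit 0, nat_lit 5, nat_lit 1, nat_lit 4, nat_lit 3, nat_lit 1, nat_lit 0, nat_lit 4, nat_lit 2, nat_lit 2, nat_lit 0,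 nat_lit 2, nat_lit 2, nat_lit 0, nat_lit 2, nat_lit 2, nat_lit 0])) (.leaf ((nat_lit 828), [nat_lit 2, nat_lit 5, nat_lit 3, nat_lit 5, nat_lit 0, nat_lit 3, nat_lit 2, nat_lit 4, nat_lit 1, nat_lit 0, nat_lit 1, nat_lit 0, nat_lit 2, nat_lit 0, nat_lit 2])))))
 (.node (nat_lit 998) (.node (nat_lit 996) (.leaf ((nat_lit 829), [nat_lit 5, nat_lit 2, nat_lit 5, nat_lit 4, nat_lit 2, nat_lit 4, nat_lit 2, nat_lit 0, nat_lit 2, nat_lit 2, nat_lit 0, nat_lit 2, nat_lit 2])) (.node (nat_lit 997) (.leaf ((nat_lit 830), [nat_lit 5, nat_lit 1, nat_lit 0, nat_lit 3, nat_lit 5, nat_lit 0, nat_lit 2, nat_lit 4, nat_lit 2, nat_lit 4, nat_lit 0, nat_lit 1, nat_lit 0, nat_lit 1, nat_lit 0, nat_lit 2, nat_lit 0])) (.leaf ((nat_lit 831), [nat_lit 4, nat_lit 5, nat_lit 2, nat_lit 4, nat_lit 2, nat_lit 4, nat_lit 3, nat_lit 0, nat_lit 2, nat_lit 0, nat_lit 2, nat_lit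 0])))) (.node (nat_lit 999) (.leaf ((nat_lit 832), [nat_lit 4, nat_lit 5, nat_lit 1, nat_lit 5, nat_lit 4, nat_lit 3, nat_lit 0, nat_lit 4, nat_lit 2, nat_lit 0, nat_lit 2, nat_lit 0])) (.node (nat_lit 1000) (.leaf ((nat_lit 349), [nat_lit 1, nat_lit 0, nat_lit 3, nat_lit 5, nat_lit 4, nat_lit 1, nat_lit 3, nat_lit 4, nat_lit 0, nat_lit 2])) (.leaf ((nat_lit 833), [nat_lit 2, nat_lit 0, nat_lit 1, nat_lit 5, nat_lit 4, nat_lit 3, nat_lit 1, nat_lit 3, nat_lit 1, nat_lit 3, nat_lit 0, nat_lit 2, nat_lit 2, nat_lit 0, nat_lit 2, nat_lit 0, nat_lit 1, nat_lit 0]))))))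
 (.node (nat_lit 1006) (.node (nat_lit 1003) (.node (nat_lit 1002) (.leaf ((nat_lit 834), [nat_lit 1, nat_lit 5, nat_lit 2, nat_lit 5, nat_lit 1, nat_lit 0, nat_lit 3, nat_lit 1, nat_lit 4, nat_lit 2, nat_lit 0, nat_lit 1])) (.leaf ((nat_lit 835), [nat_lit 1, nat_lit 5, nat_lit 3, nat_lit 2, nat_lit 4, nat_lit 2, nat_lit 3, nat_lit 1, nat_lit 0, nat_lit 2, nat_lit 0, nat_lit 1, nat_lit 0]))) (.node (nat_lit 1004) (.leaf ((nat_lit 836), [nat_lit 4, nat_lit 1, nat_lit 0, nat_lit 5, nat_lit 2, nat_lit 4, nat_lit 3, nat_lit 2, nat_lit 2, nat_lit 3, nat_lit 0, nat_lit 2, nat_lit 0, nat_lit 2, nat_lit 2, nat_lit 0])) (.node (nat_lit 1005) (.leaf ((nat_lit 329), [nat_lit 4, nat_lit 5, nat_lit 3, nat_lit 2, nat_lit 5, nat_lit 1, nat_lit 0, nat_lit 3, nat_lit 0, nat_lit 1, nat_lit 0, nat_lit 2, nat_lit 2, nat_lit 0, nat_lit 2, nat_lit 0])) (.leaf ((nat_lit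 837), [nat_lit 5, nat_lit 2, nat_lit 4, nat_lit 0, nat_lit 5, nat_lit 3, nat_lit 1, nat_lit 4, nat_lit 3, nat_lit 0, nat_lit 3, nat_lit 2, nat_lit 2, nat_lit 0, nat_lit 2, nat_lit 2, nat_lit 0, nat_lit 2])))))
 (.node (nat_lit 1009) (.node (nat_lit 1007) (.leaf ((nat_lit 704), [nat_lit 5, nat_lit 3, nat_lit 2, nat_lit 5, nat_lit 3, nat_lit 1, nat_lit 4, nat_lit 2, nat_lit 4, nat_lit 3, nat_lit 0, nat_lit 2, nat_lit 2, nat_lit 0, nat_lit 2, nat_lit 2])) (.node (nat_lit 1008) (.leaf ((nat_lit 838), [nat_lit 2, nat_lit 3, nat_lit 5, nat_lit 0, nat_lit 5, nat_lit 2, nat_lit 2, nat_lit 4, nat_lit 0, nat_lit 4, nat_lit 3, nat_lit 2, nat_lit 0, nat_lit 1, nat_lit 0, nat_lit 1, nat_lit 0, nat_lit 2, nat_lit 0])) (.leaf ((nat_lit 839), [nat_lit 2, nat_lit 5, nat_lit 3, nat_lit 5, nat_lit 2, nat_lit 0, nat_lit 2, nat_lit 2, nat_lit 3, nat_lit 2, nat_lit 2,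 nat_lit 0, nat_lit 1, nat_lit 0, nat_lit 2])))) (.node (nat_lit 1010) (.leaf ((nat_lit 25), [nat_lit 2, nat_lit 5, nat_lit 0, nat_lit 1, nat_lit 5, nat_lit 3, nat_lit 4, nat_lit 3, nat_lit 1, nat_lit 3, nat_lit 2, nat_lit 0, nat_lit 1, nat_lit 0, nat_lit 1, nat_lit 0, nat_lit 2])) (.node (nat_lit 1011) (.leaf ((nat_lit 840), [nat_lit 1, nat_lit 0, nat_lit 5, nat_lit 4, nat_lit 0, nat_lit 2, nat_lit 3, nat_lit 2, nat_lit 0, nat_lit 3, nat_lit 2, nat_lit 0, nat_lit 1, nat_lit 0, nat_lit 1, nat_lit 0])) (.leaf ((nat_lit 235), [nat_lit 5, nat_lit 4, nat_lit 5, nat_lit 2, nat_lit 3, nat_lit 0, nat_lit 3, nat_lit 1, nat_lit 0, nat_lit 1, nat_lit 0, nat_lit 2]))))))))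
 (.node (nat_lit 1034) (.node (nat_lit 1023) (.node (nat_lit 1017) (.node (nat_lit 1014) (.node (nat_lit 1013) (.leaf ((nat_lit 481), [nat_lit 5, nat_lit 1, nat_lit 0, nat_lit 2, nat_lit 5, nat_lit 3, nat_lit 2, nat_lit 2, nat_lit 0, nat_lit 4, nat_lit 1, nat_lit 0, nat_lit 2, nat_lit 2])) (.leaf ((nat_lit 574), [nat_lit 0, nat_lit 5, nat_lit 0, nat_lit 1, nat_lit 5, nat_lit 4, nat_lit 2, nat_lit 3, nat_lit 2, nat_lit 2, nat_lit 3, nat_lit 0, nat_lit 2, nat_lit 2, nat_lit 0, nat_lit 1]))) (.node (nat_lit 1015) (.leaf ((nat_lit 841), [nat_lit 0, nat_lit 5, nat_lit 3, nat_lit 0, nat_lit 5, nat_lit 0, nat_lit 1, nat_lit 3, nat_lit 1, nat_lit 3, nat_lit 2, nat_lit 0, nat_lit 2, nat_lit 2, nat_lit 0, nat_lit 2])) (.node (nat_lit 1016) (.leaf ((nat_lit 842), [nat_lit 4, nat_lit 3, nat_lit 5, nat_lit 4, nat_lit 3, nat_lit 1, nat_lit 3, nat_lit 1, nat_lit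 3, nat_lit 1, nat_lit 0, nat_lit 1, nat_lit 0, nat_lit 2, nat_lit 2])) (.leaf ((nat_lit 843), [nat_lit 3, nat_lit 5, nat_lit 1, nat_lit 3, nat_lit 0, nat_lit 5, nat_lit 3, nat_lit 2, nat_lit 0, nat_lit 2, nat_lit 4, nat_lit 2, nat_lit 2, nat_lit 0, nat_lit 2])))))
 (.node (nat_lit 1020) (.node (nat_lit 1018) (.leaf ((nat_lit 844), [nat_lit 0, nat_lit 5, nat_lit 0, nat_lit 1, nat_lit 5, nat_lit 3, nat_lit 0, nat_lit 2, nat_lit 2, nat_lit 3, nat_lit 1, nat_lit 0, nat_lit 2])) (.node (nat_lit 1019) (.leaf ((nat_lit 845), [nat_lit 4, nat_lit 1, nat_lit 5, nat_lit 2, nat_lit 5, nat_lit 4, nat_lit 2, nat_lit 0, nat_lit 2, nat_lit 3, nat_lit 0, nat_lit 1, nat_lit 0, nat_lit 2, nat_lit 2, nat_lit 0, nat_lit 1])) (.leaf ((nat_lit 143), [nat_lit 1, nat_lit 4, nat_lit 2, nat_lit 5, nat_lit 4, nat_lit 0, nat_lit 3, nat_lit 1, nat_lit 0, nat_lit 2, nat_lit 2,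 nat_lit 0, nat_lit 2])))) (.node (nat_lit 1021) (.leaf ((nat_lit 846), [nat_lit 0, nat_lit 2, nat_lit 5, nat_lit 3, nat_lit 5, nat_lit 4, nat_lit 0, nat_lit 4, nat_lit 1, nat_lit 0, nat_lit 2, nat_lit 0, nat_lit 2])) (.node (nat_lit 1022) (.leaf ((nat_lit 741), [nat_lit 4, nat_lit 5, nat_lit 0, nat_lit 3, nat_lit 5, nat_lit 4, nat_lit 3, nat_lit 1, nat_lit 0, nat_lit 4, nat_lit 0, nat_lit 1, nat_lit 0, nat_lit 2, nat_lit 2, nat_lit 0, nat_lit 1])) (.leaf ((nat_lit 504), [nat_lit 0, nat_lit 5, nat_lit 2, nat_lit 3, nat_lit 5, nat_lit 3, nat_lit 0, nat_lit 1, nat_lit 0, nat_lit 4, nat_lit 2]))))))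
 (.node (nat_lit 1028) (.node (nat_lit 1025) (.node (nat_lit 1024) (.leaf ((nat_lit 105), [nat_lit 2, nat_lit 5, nat_lit 0, nat_lit 5, nat_lit 3, nat_lit 4, nat_lit 3, nat_lit 0, nat_lit 3, nat_lit 2, nat_lit 2, nat_lit 0, nat_lit 1, nat_lit 0, nat_lit 2, nat_lit 0])) (.leaf ((nat_lit 847), [nat_lit 0, nat_lit 5, nat_lit 0, nat_lit 1, nat_lit 5, nat_lit 3, nat_lit 0, nat_lit 3, nat_lit 0, nat_lit 2, nat_lit 3, nat_lit 1, nat_lit 0, nat_lit 2, nat_lit 2]))) (.node (nat_lit 1026) (.leaf ((nat_lit 115), [nat_lit 5, nat_lit 2, nat_lit 0, nat_lit 2, nat_lit 5, nat_lit 0, nat_lit 2, nat_lit 4, nat_lit 3, nat_lit 2, nat_lit 2, nat_lit 0, nat_lit 2, nat_lit 0, nat_lit 1, nat_lit 0])) (.node (nat_lit 1027) (.leaf ((nat_lit 848), [nat_lit 0, nat_lit 5, nat_lit 2, nat_lit 0, nat_lit 5, nat_lit 0, nat_lit 2, nat_lit 0, nat_lit 4, nat_lit 1, nat_lit 4, nat_lit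 1, nat_lit 0, nat_lit 2, nat_lit 2, nat_lit 0, nat_lit 1])) (.leaf ((nat_lit 849), [nat_lit 1, nat_lit 5, nat_lit 0, nat_lit 5, nat_lit 2, nat_lit 3, nat_lit 4, nat_lit 2, nat_lit 3, nat_lit 1, nat_lit 0, nat_lit 1, nat_lit 0, nat_lit 2, nat_lit 2, nat_lit 0])))))
 (.node (nat_lit 1031) (.node (nat_lit 1029) (.leaf ((nat_lit 659), [nat_lit 5, nat_lit 4, nat_lit 3, nat_lit 0, nat_lit 5, nat_lit 3, nat_lit 4, nat_lit 0, nat_lit 4, nat_lit 3, nat_lit 2, nat_lit 2, nat_lit 0, nat_lit 1, nat_lit 0, nat_lit 2, nat_lit 0])) (.node (nat_lit 1030) (.leaf ((nat_lit 850), [nat_lit 5, nat_lit 0, nat_lit 5, nat_lit 2, nat_lit 3, nat_lit 2, nat_lit 3, nat_lit 2, nat_lit 0, nat_lit 2, nat_lit 0, nat_lit 1, nat_lit 0, nat_lit 1])) (.leaf ((nat_lit 851), [nat_lit 4, nat_lit 2, nat_lit 5, nat_lit 1, nat_lit 5, nat_lit 4, nat_lit 2, nat_lit 0, nat_lit 3, nat_lit 2,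 nat_lit 0, nat_lit 1, nat_lit 0, nat_lit 1, nat_lit 0])))) (.node (nat_lit 1032) (.leaf ((nat_lit 852), [nat_lit 0, nat_lit 4, nat_lit 5, nat_lit 4, nat_lit 1, nat_lit 3, nat_lit 2, nat_lit 2, nat_lit 3, nat_lit 1, nat_lit 0, nat_lit 1])) (.node (nat_lit 1033) (.leaf ((nat_lit 853), [nat_lit 2, nat_lit 2, nat_lit 5, nat_lit 1, nat_lit 5, nat_lit 3, nat_lit 4, nat_lit 1, nat_lit 0, nat_lit 3, nat_lit 0, nat_lit 1])) (.leaf ((nat_lit 393), [nat_lit 0, nat_lit 4, nat_lit 2, nat_lit 0, nat_lit 5, nat_lit 2, nat_lit 3, nat_lit 4, nat_lit 0, nat_lit 2, nat_lit 4, nat_lit 2, nat_lit 2, nat_lit 0, nat_lit 2, nat_lit 2, nat_lit 0, nat_lit 2, nat_lit 2, nat_lit 0])))))))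
 (.node (nat_lit 1045) (.node (nat_lit 1039) (.node (nat_lit 1036) (.node (nat_lit 1035) (.leaf ((nat_lit 854), [nat_lit 4, nat_lit 2, nat_lit 5, nat_lit 2, nat_lit 2, nat_lit 4, nat_lit 0, nat_lit 4, nat_lit 3, nat_lit 2, nat_lit 0, nat_lit 2, nat_lit 2, nat_lit 0, nat_lit 2, nat_lit 0])) (.leaf ((nat_lit 855), [nat_lit 5, nat_lit 1, nat_lit 3, nat_lit 0, nat_lit 5, nat_lit 1, nat_lit 0, nat_lit 4, nat_lit 1, nat_lit 3, nat_lit 1, nat_lit 0, nat_lit 2, nat_lit 0, nat_lit 2, nat_lit 2, nat_lit 0]))) (.node (nat_lit 1037) (.leaf ((nat_lit 634), [nat_lit 4, nat_lit 5, nat_lit 2, nat_lit 5, nat_lit 2, nat_lit 3, nat_lit 0, nat_lit 2, nat_lit 4, nat_lit 2, nat_lit 0, nat_lit 2, nat_lit 2, nat_lit 0])) (.node (nat_lit 1038) (.leaf ((nat_lit 402), [nat_lit 2, nat_lit 3, nat_lit 5, nat_lit 0, nat_lit 5, nat_lit 1, nat_lit 3, nat_lit 1, nat_lit 0, nat_lit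 4, nat_lit 1, nat_lit 0, nat_lit 2, nat_lit 2, nat_lit 0, nat_lit 1, nat_lit 0])) (.leaf ((nat_lit 164), [nat_lit 4, nat_lit 2, nat_lit 5, nat_lit 4, nat_lit 3, nat_lit 0, nat_lit 2, nat_lit 4, nat_lit 1, nat_lit 0, nat_lit 1, nat_lit 0, nat_lit 2, nat_lit 0])))))
 (.node (nat_lit 1042) (.node (nat_lit 1040) (.leaf ((nat_lit 856), [nat_lit 3, nat_lit 5, nat_lit 3, nat_lit 0, nat_lit 5, nat_lit 4, nat_lit 0, nat_lit 4, nat_lit 0, nat_lit 4, nat_lit 0, nat_lit 2, nat_lit 0, nat_lit 1, nat_lit 0, nat_lit 1])) (.node (nat_lit 1041) (.leaf ((nat_lit 413), [nat_lit 3, nat_lit 4, nat_lit 3, nat_lit 5, nat_lit 1, nat_lit 4, nat_lit 3, nat_lit 0, nat_lit 1, nat_lit 0])) (.leaf ((nat_lit 857), [nat_lit 2, nat_lit 0, nat_lit 2, nat_lit 5, nat_lit 0, nat_lit 3, nat_lit 0, nat_lit 4, nat_lit 2, nat_lit 0, nat_lit 1, nat_lit 0, nat_lit 2, nat_lit 0, nat_lit 2,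 nat_lit 0])))) (.node (nat_lit 1043) (.leaf ((nat_lit 858), [nat_lit 3, nat_lit 0, nat_lit 5, nat_lit 1, nat_lit 0, nat_lit 2, nat_lit 0, nat_lit 2, nat_lit 4, nat_lit 2, nat_lit 2, nat_lit 0, nat_lit 1, nat_lit 0])) (.node (nat_lit 1044) (.leaf ((nat_lit 859), [nat_lit 3, nat_lit 5, nat_lit 1, nat_lit 3, nat_lit 2, nat_lit 5, nat_lit 1, nat_lit 0, nat_lit 3, nat_lit 2, nat_lit 3])) (.leaf ((nat_lit 788), [nat_lit 4, nat_lit 3, nat_lit 0, nat_lit 5, nat_lit 3, nat_lit 4, nat_lit 0, nat_lit 2, nat_lit 0, nat_lit 1, nat_lit 0]))))))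
 (.node (nat_lit 1050) (.node (nat_lit 1047) (.node (nat_lit 1046) (.leaf ((nat_lit 493), [nat_lit 5, nat_lit 2, nat_lit 3, nat_lit 5, nat_lit 1, nat_lit 4, nat_lit 2, nat_lit 0, nat_lit 2, nat_lit 3, nat_lit 2, nat_lit 2, nat_lit 0, nat_lit 1, nat_lit 0, nat_lit 2, nat_lit 2, nat_lit 0])) (.leaf ((nat_lit 613), [nat_lit 2, nat_lit 4, nat_lit 0, nat_lit 4, nat_lit 3, nat_lit 0, nat_lit 2, nat_lit 0, nat_lit 2]))) (.node (nat_lit 1048) (.leaf ((nat_lit 860), [nat_lit 2, nat_lit 5, nat_lit 1, nat_lit 5, nat_lit 2, nat_lit 4, nat_lit 0, nat_lit 1, nat_lit 0, nat_lit 3, nat_lit 2, nat_lit 0, nat_lit 2, nat_lit 2, nat_lit 0, nat_lit 1])) (.node (nat_lit 1049) (.leaf ((nat_lit 46), [nat_lit 4, nat_lit 5, nat_lit 2, nat_lit 3, nat_lit 5, nat_lit 1, nat_lit 3, nat_lit 4, nat_lit 1, nat_lit 0, nat_lit 3, nat_lit 1, nat_lit 0, nat_lit 2, nat_lit 0, nat_lit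 2])) (.leaf ((nat_lit 657), [nat_lit 2, nat_lit 2, nat_lit 5, nat_lit 3, nat_lit 1, nat_lit 0, nat_lit 4, nat_lit 0, nat_lit 2, nat_lit 2, nat_lit 0, nat_lit 1])))))
 (.node (nat_lit 1053) (.node (nat_lit 1051) (.leaf ((nat_lit 861), [nat_lit 5, nat_lit 4, nat_lit 2, nat_lit 0, nat_lit 5, nat_lit 3, nat_lit 2, nat_lit 4, nat_lit 0, nat_lit 4, nat_lit 0, nat_lit 2, nat_lit 2, nat_lit 0, nat_lit 1])) (.node (nat_lit 1052) (.leaf ((nat_lit 862), [nat_lit 5, nat_lit 3, nat_lit 2, nat_lit 0, nat_lit 5, nat_lit 0, nat_lit 2, nat_lit 3, nat_lit 2, nat_lit 0, nat_lit 3, nat_lit 0, nat_lit 2, nat_lit 0, nat_lit 2, nat_lit 2, nat_lit 0, nat_lit 1])) (.leaf ((nat_lit 863), [nat_lit 3, nat_lit 2, nat_lit 0, nat_lit 5, nat_lit 0, nat_lit 3, nat_lit 4, nat_lit 3, nat_lit 0, nat_lit 1, nat_lit 0, nat_lit 2, nat_lit 0])))) (.node (nat_lit 1054) (.leaf ((nat_lit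 832), [nat_lit 2, nat_lit 2, nat_lit 5, nat_lit 2, nat_lit 4, nat_lit 3, nat_lit 2, nat_lit 0, nat_lit 2, nat_lit 0, nat_lit 1, nat_lit 0])) (.node (nat_lit 1055) (.leaf ((nat_lit 864), [nat_lit 0, nat_lit 3, nat_lit 5, nat_lit 4, nat_lit 3, nat_lit 1, nat_lit 0, nat_lit 4, nat_lit 0])) (.leaf ((nat_lit 865), [nat_lit 5, nat_lit 3, nat_lit 2, nat_lit 5, nat_lit 2, nat_lit 0, nat_lit 1, nat_lit 0, nat_lit 4, nat_lit 0, nat_lit 2, nat_lit 0, nat_lit 2, nat_lit 0]))))))))))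
noncomputable def pWd_6 : Tr (ℕ × List ℕ) := (.node (nat_lit 1144) (.node (nat_lit 1100) (.node (nat_lit 1078) (.node (nat_lit 1067) (.node (nat_lit 1061) (.node (nat_lit 1058) (.node (nat_lit 1057) (.leaf ((nat_lit 762), [nat_lit 4, nat_lit 1, nat_lit 5, nat_lit 0, nat_lit 5, nat_lit 2, nat_lit 0, nat_lit 4, nat_lit 3, nat_lit 0, nat_lit 2])) (.leaf ((nat_lit 178), [nat_lit 0, nat_lit 5, nat_lit 3, nat_lit 4, nat_lit 3, nat_lit 1, nat_lit 4, nat_lit 3, nat_lit 2, nat_lit 0, nat_lit 1, nat_lit 0, nat_lit 2, nat_lit 0, nat_lit 2, nat_lit 0]))) (.node (nat_lit 1059) (.leaf ((nat_lit 747), [nat_lit 1, nat_lit 0, nat_lit 2, nat_lit 5, nat_lit 4, nat_lit 2, nat_lit 0, nat_lit 2, nat_lit 4, nat_lit 2, nat_lit 2, nat_lit 0, nat_lit 2, nat_lit 2, nat_lit 0])) (.node (nat_lit 1060) (.leaf ((nat_lit 482), [nat_lit 4, nat_lit 5, nat_lit 2, nat_lit 0, nat_lit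 5, nat_lit 0, nat_lit 3, nat_lit 1, nat_lit 3, nat_lit 4, nat_lit 2, nat_lit 0, nat_lit 2, nat_lit 2, nat_lit 0, nat_lit 2, nat_lit 0])) (.leaf ((nat_lit 866), [nat_lit 3, nat_lit 5, nat_lit 1, nat_lit 3, nat_lit 0, nat_lit 5, nat_lit 2, nat_lit 4, nat_lit 2, nat_lit 3, nat_lit 0, nat_lit 3, nat_lit 2, nat_lit 0, nat_lit 1])))))
 (.node (nat_lit 1064) (.node (nat_lit 1062) (.leaf ((nat_lit 867), [nat_lit 0, nat_lit 3, nat_lit 5, nat_lit 1, nat_lit 3, nat_lit 1, nat_lit 0, nat_lit 4, nat_lit 2, nat_lit 0, nat_lit 2, nat_lit 2, nat_lit 0, nat_lit 2, nat_lit 2, nat_lit 0])) (.node (nat_lit 1063) (.leaf ((nat_lit 380), [nat_lit 4, nat_lit 2, nat_lit 0, nat_lit 5, nat_lit 3, nat_lit 1, nat_lit 0, nat_lit 2, nat_lit 2])) (.leaf ((nat_lit 868), [nat_lit 5, nat_lit 4, nat_lit 3, nat_lit 0, nat_lit 5, nat_lit 0, nat_lit 2, nat_lit 3, nat_lit 1, nat_lit 3,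 nat_lit 0])))) (.node (nat_lit 1065) (.leaf ((nat_lit 59), [nat_lit 0, nat_lit 5, nat_lit 3, nat_lit 0, nat_lit 5, nat_lit 3, nat_lit 1, nat_lit 0, nat_lit 4, nat_lit 1, nat_lit 0, nat_lit 2, nat_lit 0, nat_lit 2])) (.node (nat_lit 1066) (.leaf ((nat_lit 869), [nat_lit 3, nat_lit 5, nat_lit 1, nat_lit 3, nat_lit 2, nat_lit 5, nat_lit 4, nat_lit 1, nat_lit 4, nat_lit 3, nat_lit 0, nat_lit 1, nat_lit 0, nat_lit 1, nat_lit 0, nat_lit 2])) (.leaf ((nat_lit 458), [nat_lit 3, nat_lit 5, nat_lit 4, nat_lit 2, nat_lit 3, nat_lit 4, nat_lit 3, nat_lit 2, nat_lit 2, nat_lit 0, nat_lit 1, nat_lit 0]))))))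
 (.node (nat_lit 1072) (.node (nat_lit 1069) (.node (nat_lit 1068) (.leaf ((nat_lit 196), [nat_lit 5, nat_lit 2, nat_lit 3, nat_lit 5, nat_lit 1, nat_lit 3, nat_lit 1, nat_lit 0, nat_lit 4, nat_lit 0, nat_lit 1, nat_lit 0, nat_lit 2, nat_lit 2])) (.leaf ((nat_lit 870), [nat_lit 5, nat_lit 4, nat_lit 5, nat_lit 1, nat_lit 4, nat_lit 2, nat_lit 4, nat_lit 3, nat_lit 1, nat_lit 0, nat_lit 1, nat_lit 0, nat_lit 2, nat_lit 2, nat_lit 0]))) (.node (nat_lit 1070) (.leaf ((nat_lit 491), [nat_lit 2, nat_lit 3, nat_lit 5, nat_lit 4, nat_lit 1, nat_lit 4, nat_lit 2, nat_lit 4, nat_lit 3, nat_lit 1, nat_lit 0, nat_lit 1, nat_lit 0, nat_lit 2, nat_lit 0, nat_lit 2, nat_lit 0])) (.node (nat_lit 1071) (.leaf ((nat_lit 871), [nat_lit 4, nat_lit 3, nat_lit 0, nat_lit 5, nat_lit 3, nat_lit 2, nat_lit 3, nat_lit 2, nat_lit 3, nat_lit 0, nat_lit 2, nat_lit 0, nat_lit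 2, nat_lit 2, nat_lit 0, nat_lit 2, nat_lit 0])) (.leaf ((nat_lit 530), [nat_lit 4, nat_lit 1, nat_lit 5, nat_lit 0, nat_lit 5, nat_lit 0, nat_lit 3, nat_lit 4, nat_lit 0, nat_lit 3, nat_lit 0, nat_lit 2, nat_lit 2, nat_lit 0, nat_lit 2, nat_lit 0, nat_lit 1, nat_lit 0])))))
 (.node (nat_lit 1075) (.node (nat_lit 1073) (.leaf ((nat_lit 872), [nat_lit 3, nat_lit 2, nat_lit 3, nat_lit 5, nat_lit 3, nat_lit 0, nat_lit 3, nat_lit 1, nat_lit 4, nat_lit 2, nat_lit 2, nat_lit 0, nat_lit 2])) (.node (nat_lit 1074) (.leaf ((nat_lit 873), [nat_lit 3, nat_lit 2, nat_lit 5, nat_lit 0, nat_lit 5, nat_lit 4, nat_lit 0, nat_lit 2, nat_lit 4, nat_lit 0, nat_lit 1])) (.leaf ((nat_lit 288), [nat_lit 5, nat_lit 4, nat_lit 5, nat_lit 4, nat_lit 0, nat_lit 3, nat_lit 0, nat_lit 2, nat_lit 3, nat_lit 2, nat_lit 0, nat_lit 2, nat_lit 2, nat_lit 0, nat_lit 1])))) (.node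 (nat_lit 1076) (.leaf ((nat_lit 874), [nat_lit 2, nat_lit 0, nat_lit 5, nat_lit 3, nat_lit 2, nat_lit 3, nat_lit 4, nat_lit 1, nat_lit 3, nat_lit 1, nat_lit 0, nat_lit 2, nat_lit 0, nat_lit 2, nat_lit 2])) (.node (nat_lit 1077) (.leaf ((nat_lit 130), [nat_lit 4, nat_lit 5, nat_lit 4, nat_lit 0, nat_lit 5, nat_lit 3, nat_lit 2, nat_lit 4, nat_lit 3, nat_lit 2, nat_lit 3, nat_lit 2, nat_lit 0, nat_lit 2, nat_lit 0, nat_lit 1])) (.leaf ((nat_lit 43), [nat_lit 3, nat_lit 5, nat_lit 3, nat_lit 0, nat_lit 1, nat_lit 3, nat_lit 4, nat_lit 2, nat_lit 3, nat_lit 2, nat_lit 0, nat_lit 1, nat_lit 0, nat_lit 2, nat_lit 2])))))))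
 (.node (nat_lit 1089) (.node (nat_lit 1083) (.node (nat_lit 1080) (.node (nat_lit 1079) (.leaf ((nat_lit 588), [nat_lit 4, nat_lit 5, nat_lit 1, nat_lit 5, nat_lit 1, nat_lit 4, nat_lit 2, nat_lit 4, nat_lit 2, nat_lit 0, nat_lit 2])) (.leaf ((nat_lit 875), [nat_lit 4, nat_lit 5, nat_lit 3, nat_lit 4, nat_lit 3, nat_lit 2, nat_lit 3, nat_lit 0, nat_lit 2, nat_lit 2, nat_lit 0, nat_lit 1, nat_lit 0, nat_lit 2, nat_lit 0]))) (.node (nat_lit 1081) (.leaf ((nat_lit 876), [nat_lit 5, nat_lit 3, nat_lit 5, nat_lit 1, nat_lit 4, nat_lit 3, nat_lit 1, nat_lit 3, nat_lit 0, nat_lit 2, nat_lit 0, nat_lit 2, nat_lit 2, nat_lit 0])) (.node (nat_lit 1082) (.leaf ((nat_lit 877), [nat_lit 5, nat_lit 4, nat_lit 5, nat_lit 3, nat_lit 5, nat_lit 3, nat_lit 0, nat_lit 3, nat_lit 4, nat_lit 3, nat_lit 1, nat_lit 0])) (.leaf ((nat_lit 431), [nat_lit 4, nat_lit 1, nat_lit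 5, nat_lit 3, nat_lit 5, nat_lit 3, nat_lit 0, nat_lit 3, nat_lit 4, nat_lit 3, nat_lit 2, nat_lit 2, nat_lit 0, nat_lit 1, nat_lit 0, nat_lit 2, nat_lit 0])))))
 (.node (nat_lit 1086) (.node (nat_lit 1084) (.leaf ((nat_lit 878), [nat_lit 2, nat_lit 4, nat_lit 5, nat_lit 2, nat_lit 0, nat_lit 5, nat_lit 4, nat_lit 3, nat_lit 0, nat_lit 2, nat_lit 3, nat_lit 0, nat_lit 2, nat_lit 0, nat_lit 1, nat_lit 0])) (.node (nat_lit 1085) (.leaf ((nat_lit 879), [nat_lit 4, nat_lit 5, nat_lit 1, nat_lit 5, nat_lit 4, nat_lit 1, nat_lit 3, nat_lit 1, nat_lit 3, nat_lit 1, nat_lit 0, nat_lit 2, nat_lit 0, nat_lit 1])) (.leaf ((nat_lit 826), [nat_lit 2, nat_lit 5, nat_lit 2, nat_lit 3, nat_lit 5, nat_lit 3, nat_lit 0, nat_lit 2, nat_lit 2, nat_lit 3, nat_lit 0, nat_lit 2, nat_lit 2, nat_lit 0, nat_lit 2])))) (.node (nat_lit 1087) (.leaf ((nat_lit 880), [nat_lit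 5, nat_lit 0, nat_lit 3, nat_lit 5, nat_lit 1, nat_lit 0, nat_lit 1, nat_lit 0, nat_lit 3, nat_lit 2, nat_lit 2, nat_lit 0, nat_lit 1, nat_lit 0, nat_lit 2])) (.node (nat_lit 1088) (.leaf ((nat_lit 881), [nat_lit 2, nat_lit 3, nat_lit 5, nat_lit 0, nat_lit 5, nat_lit 2, nat_lit 0, nat_lit 3, nat_lit 1, nat_lit 4, nat_lit 0, nat_lit 1, nat_lit 0, nat_lit 2, nat_lit 0, nat_lit 2, nat_lit 2])) (.leaf ((nat_lit 692), [nat_lit 4, nat_lit 3, nat_lit 5, nat_lit 1, nat_lit 0, nat_lit 4, nat_lit 2, nat_lit 0, nat_lit 1]))))))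
 (.node (nat_lit 1094) (.node (nat_lit 1091) (.node (nat_lit 1090) (.leaf ((nat_lit 882), [nat_lit 2, nat_lit 0, nat_lit 2, nat_lit 5, nat_lit 2, nat_lit 4, nat_lit 2, nat_lit 4, nat_lit 0, nat_lit 2, nat_lit 2, nat_lit 0, nat_lit 2])) (.leaf ((nat_lit 883), [nat_lit 5, nat_lit 2, nat_lit 3, nat_lit 5, nat_lit 4, nat_lit 3, nat_lit 1, nat_lit 3, nat_lit 1, nat_lit 3, nat_lit 2, nat_lit 0, nat_lit 1, nat_lit 0, nat_lit 2, nat_lit 0, nat_lit 2]))) (.node (nat_lit 1092) (.leaf ((nat_lit 155), [nat_lit 0, nat_lit 5, nat_lit 3, nat_lit 5, nat_lit 3, nat_lit 0, nat_lit 1, nat_lit 3, nat_lit 4, nat_lit 2, nat_lit 3, nat_lit 2, nat_lit 0, nat_lit 1, nat_lit 0, nat_lit 2, nat_lit 0, nat_lit 2, nat_lit 0])) (.node (nat_lit 1093) (.leaf ((nat_lit 884), [nat_lit 4, nat_lit 2, nat_lit 0, nat_lit 5, nat_lit 0, nat_lit 1, nat_lit 3, nat_lit 1, nat_lit 0, nat_lit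 4, nat_lit 2, nat_lit 2, nat_lit 0, nat_lit 1, nat_lit 0, nat_lit 2, nat_lit 2])) (.leaf ((nat_lit 82), [nat_lit 5, nat_lit 3, nat_lit 0, nat_lit 5, nat_lit 3, nat_lit 4, nat_lit 3, nat_lit 0, nat_lit 3, nat_lit 1, nat_lit 0, nat_lit 2, nat_lit 2, nat_lit 0, nat_lit 2, nat_lit 2, nat_lit 0])))))
 (.node (nat_lit 1097) (.node (nat_lit 1095) (.leaf ((nat_lit 885), [nat_lit 2, nat_lit 4, nat_lit 5, nat_lit 2, nat_lit 0, nat_lit 5, nat_lit 3, nat_lit 4, nat_lit 1, nat_lit 4, nat_lit 3, nat_lit 0, nat_lit 1, nat_lit 0, nat_lit 2, nat_lit 0, nat_lit 2, nat_lit 0])) (.node (nat_lit 1096) (.leaf ((nat_lit 358), [nat_lit 2, nat_lit 0, nat_lit 1, nat_lit 5, nat_lit 2, nat_lit 2, nat_lit 3, nat_lit 2, nat_lit 2, nat_lit 3, nat_lit 0, nat_lit 2, nat_lit 2, nat_lit 0, nat_lit 2, nat_lit 0, nat_lit 1, nat_lit 0])) (.leaf ((nat_lit 886), [nat_lit 3, nat_lit 0,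 nat_lit 5, nat_lit 3, nat_lit 5, nat_lit 4, nat_lit 1, nat_lit 3, nat_lit 2, nat_lit 0, nat_lit 2, nat_lit 2, nat_lit 0, nat_lit 2, nat_lit 2])))) (.node (nat_lit 1098) (.leaf ((nat_lit 887), [nat_lit 5, nat_lit 0, nat_lit 5, nat_lit 2, nat_lit 3, nat_lit 2, nat_lit 4, nat_lit 0, nat_lit 2, nat_lit 2, nat_lit 0, nat_lit 1])) (.node (nat_lit 1099) (.leaf ((nat_lit 888), [nat_lit 2, nat_lit 4, nat_lit 5, nat_lit 2, nat_lit 0, nat_lit 5, nat_lit 1, nat_lit 4, nat_lit 3, nat_lit 0, nat_lit 3, nat_lit 0, nat_lit 2, nat_lit 2, nat_lit 0, nat_lit 2, nat_lit 0, nat_lit 1, nat_lit 0])) (.leaf ((nat_lit 889), [nat_lit 0, nat_lit 2, nat_lit 5, nat_lit 3, nat_lit 1, nat_lit 3, nat_lit 0, nat_lit 1, nat_lit 0, nat_lit 2, nat_lit 0, nat_lit 2]))))))))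
 (.node (nat_lit 1122) (.node (nat_lit 1111) (.node (nat_lit 1105) (.node (nat_lit 1102) (.node (nat_lit 1101) (.leaf ((nat_lit 162), [nat_lit 5, nat_lit 0, nat_lit 3, nat_lit 5, nat_lit 0, nat_lit 3, nat_lit 2, nat_lit 0, nat_lit 3, nat_lit 1])) (.leaf ((nat_lit 173), [nat_lit 5, nat_lit 4, nat_lit 0, nat_lit 5, nat_lit 0, nat_lit 4, nat_lit 1, nat_lit 0, nat_lit 4, nat_lit 0, nat_lit 2, nat_lit 0, nat_lit 2, nat_lit 0]))) (.node (nat_lit 1103) (.leaf ((nat_lit 560), [nat_lit 4, nat_lit 5, nat_lit 3, nat_lit 2, nat_lit 5, nat_lit 4, nat_lit 0, nat_lit 1, nat_lit 4, nat_lit 3, nat_lit 1, nat_lit 0, nat_lit 1, nat_lit 0])) (.node (nat_lit 1104) (.leaf ((nat_lit 890), [nat_lit 4, nat_lit 5, nat_lit 3, nat_lit 2, nat_lit 5, nat_lit 4, nat_lit 0, nat_lit 1, nat_lit 4, nat_lit 3, nat_lit 0, nat_lit 2, nat_lit 0, nat_lit 2, nat_lit 2, nat_lit 0, nat_lit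 1])) (.leaf ((nat_lit 585), [nat_lit 5, nat_lit 1, nat_lit 0, nat_lit 3, nat_lit 5, nat_lit 4, nat_lit 3, nat_lit 1, nat_lit 3, nat_lit 0, nat_lit 3, nat_lit 0, nat_lit 2, nat_lit 0, nat_lit 2, nat_lit 2])))))
 (.node (nat_lit 1108) (.node (nat_lit 1106) (.leaf ((nat_lit 891), [nat_lit 3, nat_lit 2, nat_lit 0, nat_lit 5, nat_lit 2, nat_lit 0, nat_lit 2, nat_lit 2, nat_lit 3, nat_lit 2, nat_lit 0, nat_lit 1, nat_lit 0, nat_lit 2, nat_lit 0, nat_lit 2])) (.node (nat_lit 1107) (.leaf ((nat_lit 249), [nat_lit 0, nat_lit 2, nat_lit 5, nat_lit 3, nat_lit 5, nat_lit 0, nat_lit 1, nat_lit 3, nat_lit 1, nat_lit 3])) (.leaf ((nat_lit 461), [nat_lit 5, nat_lit 2, nat_lit 0, nat_lit 5, nat_lit 0, nat_lit 1, nat_lit 3, nat_lit 4, nat_lit 1, nat_lit 3, nat_lit 1, nat_lit 0, nat_lit 1, nat_lit 0, nat_lit 2, nat_lit 2, nat_lit 0])))) (.node (nat_lit 1109) (.leaf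 ((nat_lit 892), [nat_lit 5, nat_lit 2, nat_lit 5, nat_lit 3, nat_lit 2, nat_lit 0, nat_lit 4, nat_lit 1, nat_lit 4, nat_lit 0, nat_lit 2, nat_lit 2, nat_lit 0, nat_lit 2])) (.node (nat_lit 1110) (.leaf ((nat_lit 893), [nat_lit 2, nat_lit 5, nat_lit 2, nat_lit 3, nat_lit 5, nat_lit 3, nat_lit 4, nat_lit 3, nat_lit 0, nat_lit 3, nat_lit 2, nat_lit 0, nat_lit 1, nat_lit 0, nat_lit 1, nat_lit 0, nat_lit 2, nat_lit 0])) (.leaf ((nat_lit 894), [nat_lit 5, nat_lit 4, nat_lit 3, nat_lit 5, nat_lit 2, nat_lit 5, nat_lit 0, nat_lit 4, nat_lit 1, nat_lit 0, nat_lit 3, nat_lit 0, nat_lit 2, nat_lit 0, nat_lit 2, nat_lit 2, nat_lit 0, nat_lit 1, nat_lit 0]))))))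
 (.node (nat_lit 1116) (.node (nat_lit 1113) (.node (nat_lit 1112) (.leaf ((nat_lit 895), [nat_lit 5, nat_lit 4, nat_lit 2, nat_lit 0, nat_lit 5, nat_lit 1, nat_lit 3, nat_lit 2, nat_lit 4, nat_lit 2, nat_lit 3, nat_lit 0, nat_lit 1, nat_lit 0, nat_lit 2, nat_lit 0, nat_lit 2, nat_lit 2])) (.leaf ((nat_lit 896), [nat_lit 4, nat_lit 1, nat_lit 0, nat_lit 5, nat_lit 0, nat_lit 4, nat_lit 2, nat_lit 0, nat_lit 4, nat_lit 1, nat_lit 0, nat_lit 1, nat_lit 0, nat_lit 2, nat_lit 2, nat_lit 0]))) (.node (nat_lit 1114) (.leaf ((nat_lit 283), [nat_lit 1, nat_lit 0, nat_lit 2, nat_lit 5, nat_lit 1, nat_lit 3, nat_lit 4, nat_lit 3, nat_lit 2, nat_lit 0, nat_lit 2, nat_lit 2])) (.node (nat_lit 1115) (.leaf ((nat_lit 897), [nat_lit 2, nat_lit 5, nat_lit 3, nat_lit 5, nat_lit 4, nat_lit 3, nat_lit 1, nat_lit 3, nat_lit 1, nat_lit 3, nat_lit 2, nat_lit 2, nat_lit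 0, nat_lit 2, nat_lit 2, nat_lit 0, nat_lit 2, nat_lit 2])) (.leaf ((nat_lit 672), [nat_lit 1, nat_lit 5, nat_lit 1, nat_lit 5, nat_lit 1, nat_lit 0, nat_lit 3, nat_lit 4, nat_lit 0, nat_lit 3])))))
 (.node (nat_lit 1119) (.node (nat_lit 1117) (.leaf ((nat_lit 898), [nat_lit 5, nat_lit 4, nat_lit 5, nat_lit 2, nat_lit 5, nat_lit 3, nat_lit 2, nat_lit 0, nat_lit 1, nat_lit 0, nat_lit 3, nat_lit 0, nat_lit 2, nat_lit 0, nat_lit 2, nat_lit 2])) (.node (nat_lit 1118) (.leaf ((nat_lit 899), [nat_lit 0, nat_lit 5, nat_lit 3, nat_lit 1, nat_lit 4, nat_lit 3, nat_lit 0, nat_lit 3, nat_lit 2, nat_lit 2, nat_lit 0, nat_lit 1])) (.leaf ((nat_lit 836), [nat_lit 4, nat_lit 5, nat_lit 2, nat_lit 5, nat_lit 0, nat_lit 4, nat_lit 3, nat_lit 2, nat_lit 3, nat_lit 2, nat_lit 0, nat_lit 2, nat_lit 0, nat_lit 1, nat_lit 0, nat_lit 1, nat_lit 0])))) (.node (nat_lit 1120)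 (.leaf ((nat_lit 597), [nat_lit 1, nat_lit 3, nat_lit 2, nat_lit 5, nat_lit 1, nat_lit 4, nat_lit 3, nat_lit 2, nat_lit 3, nat_lit 2, nat_lit 0, nat_lit 2, nat_lit 0])) (.node (nat_lit 1121) (.leaf ((nat_lit 900), [nat_lit 5, nat_lit 4, nat_lit 5, nat_lit 1, nat_lit 5, nat_lit 2, nat_lit 3, nat_lit 4, nat_lit 3, nat_lit 2, nat_lit 3, nat_lit 0, nat_lit 2])) (.leaf ((nat_lit 846), [nat_lit 4, nat_lit 1, nat_lit 5, nat_lit 0, nat_lit 5, nat_lit 0, nat_lit 1, nat_lit 4, nat_lit 3, nat_lit 2, nat_lit 3, nat_lit 2, nat_lit 0, nat_lit 2, nat_lit 0, nat_lit 1, nat_lit 0, nat_lit 1])))))))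
 (.node (nat_lit 1133) (.node (nat_lit 1127) (.node (nat_lit 1124) (.node (nat_lit 1123) (.leaf ((nat_lit 771), [nat_lit 1, nat_lit 0, nat_lit 5, nat_lit 3, nat_lit 5, nat_lit 2, nat_lit 0, nat_lit 3, nat_lit 4, nat_lit 0, nat_lit 1, nat_lit 0, nat_lit 1, nat_lit 0])) (.leaf ((nat_lit 901), [nat_lit 5, nat_lit 2, nat_lit 2, nat_lit 0, nat_lit 5, nat_lit 0, nat_lit 4, nat_lit 2, nat_lit 0, nat_lit 1, nat_lit 0, nat_lit 1, nat_lit 0, nat_lit 2, nat_lit 0]))) (.node (nat_lit 1125) (.leaf ((nat_lit 902), [nat_lit 2, nat_lit 3, nat_lit 5, nat_lit 0, nat_lit 3, nat_lit 2, nat_lit 4, nat_lit 0, nat_lit 2, nat_lit 0, nat_lit 2, nat_lit 2, nat_lit 0, nat_lit 2])) (.node (nat_lit 1126) (.leaf ((nat_lit 903), [nat_lit 3, nat_lit 0, nat_lit 5, nat_lit 3, nat_lit 5, nat_lit 0, nat_lit 3, nat_lit 4, nat_lit 2, nat_lit 0, nat_lit 4, nat_lit 1, nat_lit 0, nat_lit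 2, nat_lit 2, nat_lit 0, nat_lit 2, nat_lit 2])) (.leaf ((nat_lit 904), [nat_lit 2, nat_lit 5, nat_lit 0, nat_lit 1, nat_lit 5, nat_lit 3, nat_lit 4, nat_lit 0, nat_lit 4, nat_lit 3, nat_lit 1, nat_lit 0, nat_lit 2, nat_lit 0, nat_lit 2, nat_lit 2, nat_lit 0])))))
 (.node (nat_lit 1130) (.node (nat_lit 1128) (.leaf ((nat_lit 905), [nat_lit 0, nat_lit 5, nat_lit 3, nat_lit 5, nat_lit 3, nat_lit 4, nat_lit 3, nat_lit 2, nat_lit 3, nat_lit 1, nat_lit 0, nat_lit 2, nat_lit 0, nat_lit 1])) (.node (nat_lit 1129) (.leaf ((nat_lit 299), [nat_lit 5, nat_lit 4, nat_lit 1, nat_lit 0, nat_lit 5, nat_lit 1, nat_lit 0, nat_lit 3, nat_lit 1, nat_lit 3, nat_lit 0, nat_lit 1, nat_lit 0, nat_lit 2, nat_lit 0])) (.leaf ((nat_lit 103), [nat_lit 2, nat_lit 5, nat_lit 0, nat_lit 5, nat_lit 1, nat_lit 3, nat_lit 4, nat_lit 0, nat_lit 1, nat_lit 0, nat_lit 2, nat_lit 0,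 nat_lit 2, nat_lit 2, nat_lit 0])))) (.node (nat_lit 1131) (.leaf ((nat_lit 906), [nat_lit 1, nat_lit 0, nat_lit 2, nat_lit 5, nat_lit 1, nat_lit 3, nat_lit 4, nat_lit 3, nat_lit 0, nat_lit 3, nat_lit 0, nat_lit 2, nat_lit 2])) (.node (nat_lit 1132) (.leaf ((nat_lit 735), [nat_lit 1, nat_lit 0, nat_lit 2, nat_lit 5, nat_lit 0, nat_lit 3, nat_lit 4, nat_lit 0, nat_lit 3, nat_lit 0, nat_lit 2])) (.leaf ((nat_lit 907), [nat_lit 5, nat_lit 2, nat_lit 0, nat_lit 5, nat_lit 0, nat_lit 3, nat_lit 2, nat_lit 0, nat_lit 2, nat_lit 2, nat_lit 0]))))))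
 (.node (nat_lit 1138) (.node (nat_lit 1135) (.node (nat_lit 1134) (.leaf ((nat_lit 213), [nat_lit 1, nat_lit 4, nat_lit 2, nat_lit 5, nat_lit 2, nat_lit 4, nat_lit 3, nat_lit 1, nat_lit 4, nat_lit 3, nat_lit 2, nat_lit 0, nat_lit 1, nat_lit 0, nat_lit 2])) (.leaf ((nat_lit 908), [nat_lit 2, nat_lit 5, nat_lit 0, nat_lit 1, nat_lit 5, nat_lit 2, nat_lit 4, nat_lit 0, nat_lit 4, nat_lit 1, nat_lit 0, nat_lit 2, nat_lit 0, nat_lit 2, nat_lit 0]))) (.node (nat_lit 1136) (.leaf ((nat_lit 909), [nat_lit 4, nat_lit 1, nat_lit 5, nat_lit 3, nat_lit 5, nat_lit 3, nat_lit 4, nat_lit 0, nat_lit 4, nat_lit 1, nat_lit 3, nat_lit 2, nat_lit 2, nat_lit 0, nat_lit 2, nat_lit 0])) (.node (nat_lit 1137) (.leaf ((nat_lit 910), [nat_lit 1, nat_lit 0, nat_lit 3, nat_lit 5, nat_lit 4, nat_lit 2, nat_lit 0, nat_lit 4, nat_lit 3, nat_lit 1, nat_lit 0, nat_lit 2, nat_lit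 2, nat_lit 0])) (.leaf ((nat_lit 839), [nat_lit 0, nat_lit 4, nat_lit 2, nat_lit 0, nat_lit 5, nat_lit 0, nat_lit 2, nat_lit 4, nat_lit 3, nat_lit 2, nat_lit 0, nat_lit 1])))))
 (.node (nat_lit 1141) (.node (nat_lit 1139) (.leaf ((nat_lit 370), [nat_lit 5, nat_lit 4, nat_lit 2, nat_lit 5, nat_lit 3, nat_lit 2, nat_lit 3, nat_lit 2, nat_lit 0, nat_lit 4, nat_lit 0, nat_lit 2, nat_lit 0, nat_lit 1, nat_lit 0, nat_lit 1])) (.node (nat_lit 1140) (.leaf ((nat_lit 911), [nat_lit 0, nat_lit 5, nat_lit 0, nat_lit 1, nat_lit 5, nat_lit 1, nat_lit 3, nat_lit 2, nat_lit 0, nat_lit 4, nat_lit 1, nat_lit 0])) (.leaf ((nat_lit 912), [nat_lit 5, nat_lit 2, nat_lit 0, nat_lit 5, nat_lit 3, nat_lit 0, nat_lit 1, nat_lit 0, nat_lit 3, nat_lit 0, nat_lit 2, nat_lit 2, nat_lit 0, nat_lit 1, nat_lit 0, nat_lit 2, nat_lit 0])))) (.node (nat_lit 1142) (.leaf ((nat_lit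 436), [nat_lit 0, nat_lit 2, nat_lit 5, nat_lit 3, nat_lit 5, nat_lit 1, nat_lit 0, nat_lit 3, nat_lit 1, nat_lit 3, nat_lit 2, nat_lit 0, nat_lit 2, nat_lit 0, nat_lit 1])) (.node (nat_lit 1143) (.leaf ((nat_lit 913), [nat_lit 4, nat_lit 1, nat_lit 0, nat_lit 5, nat_lit 2, nat_lit 4, nat_lit 3, nat_lit 0, nat_lit 3, nat_lit 0, nat_lit 1, nat_lit 0])) (.leaf ((nat_lit 914), [nat_lit 2, nat_lit 2, nat_lit 5, nat_lit 1, nat_lit 5, nat_lit 4, nat_lit 1, nat_lit 0, nat_lit 2, nat_lit 4, nat_lit 1, nat_lit 0, nat_lit 2, nat_lit 0, nat_lit 2, nat_lit 2])))))))))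
 (.node (nat_lit 1188) (.node (nat_lit 1166) (.node (nat_lit 1155) (.node (nat_lit 1149) (.node (nat_lit 1146) (.node (nat_lit 1145) (.leaf ((nat_lit 411), [nat_lit 2, nat_lit 3, nat_lit 0, nat_lit 5, nat_lit 3, nat_lit 2, nat_lit 3, nat_lit 0, nat_lit 4, nat_lit 0, nat_lit 2, nat_lit 2, nat_lit 0, nat_lit 2, nat_lit 0])) (.leaf ((nat_lit 752), [nat_lit 5, nat_lit 2, nat_lit 0, nat_lit 2, nat_lit 5, nat_lit 2, nat_lit 0, nat_lit 2, nat_lit 4, nat_lit 3, nat_lit 0, nat_lit 2, nat_lit 0]))) (.node (nat_lit 1147) (.leaf ((nat_lit 797), [nat_lit 0, nat_lit 5, nat_lit 3, nat_lit 5, nat_lit 1, nat_lit 3, nat_lit 4, nat_lit 3, nat_lit 1, nat_lit 3, nat_lit 0, nat_lit 2, nat_lit 0, nat_lit 1, nat_lit 0])) (.node (nat_lit 1148) (.leaf ((nat_lit 915), [nat_lit 3, nat_lit 5, nat_lit 0, nat_lit 3, nat_lit 5, nat_lit 0, nat_lit 2, nat_lit 0, nat_lit 3, nat_lit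 4, nat_lit 2, nat_lit 0, nat_lit 1, nat_lit 0, nat_lit 1, nat_lit 0])) (.leaf ((nat_lit 916), [nat_lit 5, nat_lit 2, nat_lit 5, nat_lit 4, nat_lit 3, nat_lit 2, nat_lit 0, nat_lit 2, nat_lit 3, nat_lit 2, nat_lit 0, nat_lit 2, nat_lit 2, nat_lit 0, nat_lit 2])))))
 (.node (nat_lit 1152) (.node (nat_lit 1150) (.leaf ((nat_lit 917), [nat_lit 4, nat_lit 5, nat_lit 2, nat_lit 0, nat_lit 5, nat_lit 4, nat_lit 1, nat_lit 3, nat_lit 4, nat_lit 2, nat_lit 3, nat_lit 2, nat_lit 2, nat_lit 0, nat_lit 2, nat_lit 2, nat_lit 0, nat_lit 2, nat_lit 2, nat_lit 0])) (.node (nat_lit 1151) (.leaf ((nat_lit 918), [nat_lit 1, nat_lit 4, nat_lit 2, nat_lit 5, nat_lit 4, nat_lit 2, nat_lit 4, nat_lit 2, nat_lit 3, nat_lit 2, nat_lit 2, nat_lit 0])) (.leaf ((nat_lit 421), [nat_lit 4, nat_lit 2, nat_lit 5, nat_lit 1, nat_lit 5, nat_lit 0, nat_lit 3, nat_lit 0, nat_lit 4,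 nat_lit 0, nat_lit 2, nat_lit 2, nat_lit 0, nat_lit 1, nat_lit 0, nat_lit 2, nat_lit 0])))) (.node (nat_lit 1153) (.leaf ((nat_lit 919), [nat_lit 5, nat_lit 2, nat_lit 4, nat_lit 0, nat_lit 5, nat_lit 2, nat_lit 3, nat_lit 1, nat_lit 3, nat_lit 2, nat_lit 0])) (.node (nat_lit 1154) (.leaf ((nat_lit 801), [nat_lit 1, nat_lit 5, nat_lit 0, nat_lit 4, nat_lit 2, nat_lit 0, nat_lit 3, nat_lit 2, nat_lit 0, nat_lit 2, nat_lit 2, nat_lit 0, nat_lit 1, nat_lit 0])) (.leaf ((nat_lit 920), [nat_lit 3, nat_lit 4, nat_lit 3, nat_lit 5, nat_lit 2, nat_lit 2, nat_lit 3, nat_lit 2, nat_lit 4, nat_lit 0, nat_lit 2, nat_lit 0, nat_lit 2, nat_lit 2, nat_lit 0, nat_lit 2, nat_lit 0]))))))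
 (.node (nat_lit 1160) (.node (nat_lit 1157) (.node (nat_lit 1156) (.leaf ((nat_lit 248), [nat_lit 5, nat_lit 3, nat_lit 0, nat_lit 5, nat_lit 3, nat_lit 0, nat_lit 3, nat_lit 1, nat_lit 4, nat_lit 2, nat_lit 0, nat_lit 2, nat_lit 2, nat_lit 0, nat_lit 2, nat_lit 0])) (.leaf ((nat_lit 921), [nat_lit 0, nat_lit 5, nat_lit 2, nat_lit 5, nat_lit 2, nat_lit 3, nat_lit 2, nat_lit 3, nat_lit 0, nat_lit 1, nat_lit 0, nat_lit 2]))) (.node (nat_lit 1158) (.leaf ((nat_lit 922), [nat_lit 0, nat_lit 5, nat_lit 2, nat_lit 5, nat_lit 2, nat_lit 4, nat_lit 0, nat_lit 4, nat_lit 3, nat_lit 2, nat_lit 2, nat_lit 0, nat_lit 2, nat_lit 2, nat_lit 0, nat_lit 2, nat_lit 2])) (.node (nat_lit 1159) (.leaf ((nat_lit 893), [nat_lit 4, nat_lit 5, nat_lit 2, nat_lit 0, nat_lit 5, nat_lit 2, nat_lit 4, nat_lit 2, nat_lit 0, nat_lit 2, nat_lit 3, nat_lit 1, nat_lit 0, nat_lit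 2])) (.leaf ((nat_lit 923), [nat_lit 4, nat_lit 1, nat_lit 5, nat_lit 3, nat_lit 5, nat_lit 1, nat_lit 4, nat_lit 2, nat_lit 3, nat_lit 1, nat_lit 3, nat_lit 0, nat_lit 1, nat_lit 0, nat_lit 2])))))
 (.node (nat_lit 1163) (.node (nat_lit 1161) (.leaf ((nat_lit 378), [nat_lit 5, nat_lit 4, nat_lit 5, nat_lit 1, nat_lit 5, nat_lit 1, nat_lit 0, nat_lit 4, nat_lit 3, nat_lit 0, nat_lit 3, nat_lit 0, nat_lit 2, nat_lit 2, nat_lit 0, nat_lit 1])) (.node (nat_lit 1162) (.leaf ((nat_lit 924), [nat_lit 3, nat_lit 2, nat_lit 0, nat_lit 5, nat_lit 3, nat_lit 0, nat_lit 2, nat_lit 4, nat_lit 2, nat_lit 0])) (.leaf ((nat_lit 925), [nat_lit 2, nat_lit 0, nat_lit 2, nat_lit 5, nat_lit 1, nat_lit 0, nat_lit 3, nat_lit 2, nat_lit 2, nat_lit 0, nat_lit 2, nat_lit 2, nat_lit 0, nat_lit 2, nat_lit 2])))) (.node (nat_lit 1164) (.leaf ((nat_lit 926), [nat_lit 3, nat_lit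 2, nat_lit 3, nat_lit 5, nat_lit 4, nat_lit 2, nat_lit 0, nat_lit 1, nat_lit 0, nat_lit 3, nat_lit 1, nat_lit 0, nat_lit 1, nat_lit 0])) (.node (nat_lit 1165) (.leaf ((nat_lit 927), [nat_lit 2, nat_lit 3, nat_lit 5, nat_lit 0, nat_lit 3, nat_lit 2, nat_lit 3, nat_lit 2, nat_lit 3, nat_lit 0, nat_lit 1, nat_lit 0, nat_lit 2, nat_lit 2, nat_lit 0, nat_lit 1, nat_lit 0])) (.leaf ((nat_lit 186), [nat_lit 1, nat_lit 5, nat_lit 0, nat_lit 5, nat_lit 1, nat_lit 3, nat_lit 4, nat_lit 1, nat_lit 0, nat_lit 3, nat_lit 0, nat_lit 2, nat_lit 0, nat_lit 1, nat_lit 0, nat_lit 1, nat_lit 0])))))))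
 (.node (nat_lit 1177) (.node (nat_lit 1171) (.node (nat_lit 1168) (.node (nat_lit 1167) (.leaf ((nat_lit 928), [nat_lit 2, nat_lit 5, nat_lit 2, nat_lit 4, nat_lit 3, nat_lit 2, nat_lit 2, nat_lit 3, nat_lit 0, nat_lit 1, nat_lit 0, nat_lit 2, nat_lit 0, nat_lit 2, nat_lit 2])) (.leaf ((nat_lit 885), [nat_lit 4, nat_lit 5, nat_lit 3, nat_lit 2, nat_lit 0, nat_lit 2, nat_lit 3, nat_lit 0, nat_lit 1]))) (.node (nat_lit 1169) (.leaf ((nat_lit 929), [nat_lit 5, nat_lit 2, nat_lit 2, nat_lit 0, nat_lit 5, nat_lit 2, nat_lit 3, nat_lit 2, nat_lit 4, nat_lit 2, nat_lit 0, nat_lit 2, nat_lit 2, nat_lit 0, nat_lit 2])) (.node (nat_lit 1170) (.leaf ((nat_lit 930), [nat_lit 4, nat_lit 3, nat_lit 5, nat_lit 2, nat_lit 5, nat_lit 1, nat_lit 0, nat_lit 3, nat_lit 4, nat_lit 2, nat_lit 0, nat_lit 2, nat_lit 0, nat_lit 1, nat_lit 0])) (.leaf ((nat_lit 647), [nat_lit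 0, nat_lit 5, nat_lit 1, nat_lit 0, nat_lit 3, nat_lit 0, nat_lit 4, nat_lit 1, nat_lit 0])))))
 (.node (nat_lit 1174) (.node (nat_lit 1172) (.leaf ((nat_lit 931), [nat_lit 0, nat_lit 2, nat_lit 5, nat_lit 3, nat_lit 1, nat_lit 3, nat_lit 0, nat_lit 4, nat_lit 2, nat_lit 0, nat_lit 2, nat_lit 2, nat_lit 0])) (.node (nat_lit 1173) (.leaf ((nat_lit 932), [nat_lit 4, nat_lit 0, nat_lit 5, nat_lit 1, nat_lit 3, nat_lit 2, nat_lit 0, nat_lit 4, nat_lit 2, nat_lit 2, nat_lit 0, nat_lit 1, nat_lit 0])) (.leaf ((nat_lit 933), [nat_lit 5, nat_lit 1, nat_lit 5, nat_lit 0, nat_lit 5, nat_lit 3, nat_lit 4, nat_lit 2, nat_lit 3, nat_lit 1, nat_lit 0, nat_lit 2, nat_lit 2, nat_lit 0, nat_lit 2, nat_lit 2, nat_lit 0])))) (.node (nat_lit 1175) (.leaf ((nat_lit 934), [nat_lit 3, nat_lit 5, nat_lit 1, nat_lit 3, nat_lit 0, nat_lit 5, nat_lit 3, nat_lit 2, nat_lit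 0, nat_lit 4, nat_lit 1, nat_lit 4, nat_lit 1, nat_lit 0, nat_lit 1, nat_lit 0, nat_lit 2])) (.node (nat_lit 1176) (.leaf ((nat_lit 935), [nat_lit 4, nat_lit 2, nat_lit 5, nat_lit 1, nat_lit 5, nat_lit 2, nat_lit 3, nat_lit 1, nat_lit 0, nat_lit 2, nat_lit 3, nat_lit 0, nat_lit 2, nat_lit 0, nat_lit 1, nat_lit 0, nat_lit 1])) (.leaf ((nat_lit 936), [nat_lit 5, nat_lit 3, nat_lit 0, nat_lit 5, nat_lit 3, nat_lit 2, nat_lit 4, nat_lit 0, nat_lit 4, nat_lit 2, nat_lit 0, nat_lit 1, nat_lit 0, nat_lit 2, nat_lit 0, nat_lit 2]))))))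
 (.node (nat_lit 1182) (.node (nat_lit 1179) (.node (nat_lit 1178) (.leaf ((nat_lit 937), [nat_lit 4, nat_lit 5, nat_lit 3, nat_lit 5, nat_lit 4, nat_lit 3, nat_lit 2, nat_lit 3, nat_lit 2, nat_lit 3, nat_lit 2, nat_lit 0, nat_lit 1, nat_lit 0, nat_lit 1, nat_lit 0, nat_lit 2])) (.leaf ((nat_lit 938), [nat_lit 2, nat_lit 5, nat_lit 2, nat_lit 3, nat_lit 2, nat_lit 0, nat_lit 4, nat_lit 1, nat_lit 0, nat_lit 2, nat_lit 2]))) (.node (nat_lit 1180) (.leaf ((nat_lit 508), [nat_lit 0, nat_lit 5, nat_lit 2, nat_lit 5, nat_lit 0, nat_lit 3, nat_lit 2, nat_lit 0, nat_lit 3, nat_lit 1, nat_lit 0, nat_lit 2, nat_lit 2, nat_lit 0, nat_lit 2, nat_lit 0])) (.node (nat_lit 1181) (.leaf ((nat_lit 106), [nat_lit 2, nat_lit 0, nat_lit 5, nat_lit 1, nat_lit 3, nat_lit 4, nat_lit 3, nat_lit 1, nat_lit 3, nat_lit 1, nat_lit 0, nat_lit 2, nat_lit 2, nat_lit 0, nat_lit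 2])) (.leaf ((nat_lit 939), [nat_lit 2, nat_lit 2, nat_lit 5, nat_lit 1, nat_lit 5, nat_lit 0, nat_lit 4, nat_lit 3, nat_lit 2, nat_lit 3, nat_lit 0, nat_lit 2, nat_lit 0, nat_lit 1])))))
 (.node (nat_lit 1185) (.node (nat_lit 1183) (.leaf ((nat_lit 179), [nat_lit 3, nat_lit 5, nat_lit 4, nat_lit 3, nat_lit 0, nat_lit 2, nat_lit 4, nat_lit 0, nat_lit 1, nat_lit 0, nat_lit 1, nat_lit 0, nat_lit 2])) (.node (nat_lit 1184) (.leaf ((nat_lit 489), [nat_lit 2, nat_lit 2, nat_lit 0, nat_lit 5, nat_lit 0, nat_lit 4, nat_lit 2, nat_lit 3, nat_lit 4, nat_lit 0, nat_lit 2, nat_lit 2, nat_lit 0, nat_lit 2, nat_lit 2])) (.leaf ((nat_lit 209), [nat_lit 3, nat_lit 5, nat_lit 2, nat_lit 5, nat_lit 2, nat_lit 2, nat_lit 3, nat_lit 0, nat_lit 2, nat_lit 0, nat_lit 2, nat_lit 2, nat_lit 0, nat_lit 1, nat_lit 0])))) (.node (nat_lit 1186) (.leaf ((nat_lit 292), [nat_lit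 5, nat_lit 4, nat_lit 3, nat_lit 0, nat_lit 5, nat_lit 3, nat_lit 4, nat_lit 0, nat_lit 2, nat_lit 2, nat_lit 3, nat_lit 0, nat_lit 2, nat_lit 2, nat_lit 0])) (.node (nat_lit 1187) (.leaf ((nat_lit 940), [nat_lit 0, nat_lit 4, nat_lit 2, nat_lit 0, nat_lit 5, nat_lit 1, nat_lit 4, nat_lit 2, nat_lit 2, nat_lit 0, nat_lit 2, nat_lit 2, nat_lit 0, nat_lit 2, nat_lit 0])) (.leaf ((nat_lit 941), [nat_lit 4, nat_lit 5, nat_lit 4, nat_lit 1, nat_lit 0, nat_lit 2, nat_lit 4, nat_lit 2, nat_lit 0, nat_lit 2, nat_lit 2, nat_lit 0, nat_lit 2, nat_lit 0]))))))))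
 (.node (nat_lit 1210) (.node (nat_lit 1199) (.node (nat_lit 1193) (.node (nat_lit 1190) (.node (nat_lit 1189) (.leaf ((nat_lit 942), [nat_lit 3, nat_lit 1, nat_lit 5, nat_lit 0, nat_lit 5, nat_lit 3, nat_lit 0, nat_lit 4, nat_lit 2, nat_lit 0, nat_lit 3, nat_lit 2, nat_lit 0])) (.leaf ((nat_lit 943), [nat_lit 5, nat_lit 2, nat_lit 3, nat_lit 5, nat_lit 2, nat_lit 0, nat_lit 4, nat_lit 1, nat_lit 3, nat_lit 0, nat_lit 2, nat_lit 0, nat_lit 1]))) (.node (nat_lit 1191) (.leaf ((nat_lit 944), [nat_lit 3, nat_lit 4, nat_lit 5, nat_lit 0, nat_lit 4, nat_lit 1, nat_lit 4, nat_lit 2, nat_lit 0, nat_lit 1, nat_lit 0, nat_lit 1])) (.node (nat_lit 1192) (.leaf ((nat_lit 828), [nat_lit 3, nat_lit 5, nat_lit 3, nat_lit 0, nat_lit 5, nat_lit 3, nat_lit 0, nat_lit 3, nat_lit 0, nat_lit 4, nat_lit 2, nat_lit 0, nat_lit 2, nat_lit 2, nat_lit 0, nat_lit 2, nat_lit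 0])) (.leaf ((nat_lit 758), [nat_lit 1, nat_lit 5, nat_lit 4, nat_lit 3, nat_lit 1, nat_lit 3, nat_lit 0, nat_lit 3, nat_lit 2, nat_lit 0, nat_lit 2, nat_lit 0])))))
 (.node (nat_lit 1196) (.node (nat_lit 1194) (.leaf ((nat_lit 683), [nat_lit 2, nat_lit 2, nat_lit 5, nat_lit 3, nat_lit 2, nat_lit 0, nat_lit 4, nat_lit 2, nat_lit 0, nat_lit 1, nat_lit 0, nat_lit 2, nat_lit 0, nat_lit 2, nat_lit 0])) (.node (nat_lit 1195) (.leaf ((nat_lit 945), [nat_lit 3, nat_lit 1, nat_lit 3, nat_lit 0, nat_lit 5, nat_lit 2, nat_lit 2, nat_lit 3, nat_lit 4, nat_lit 0, nat_lit 1, nat_lit 0, nat_lit 1, nat_lit 0, nat_lit 2])) (.leaf ((nat_lit 244), [nat_lit 3, nat_lit 5, nat_lit 0, nat_lit 3, nat_lit 5, nat_lit 3, nat_lit 4, nat_lit 1, nat_lit 3, nat_lit 0, nat_lit 3, nat_lit 0, nat_lit 2, nat_lit 2, nat_lit 0, nat_lit 1])))) (.node (nat_lit 1197) (.leaf ((nat_lit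 715), [nat_lit 0, nat_lit 2, nat_lit 5, nat_lit 3, nat_lit 5, nat_lit 1, nat_lit 3, nat_lit 1, nat_lit 3, nat_lit 4, nat_lit 0, nat_lit 2, nat_lit 0, nat_lit 2, nat_lit 2])) (.node (nat_lit 1198) (.leaf ((nat_lit 946), [nat_lit 1, nat_lit 0, nat_lit 5, nat_lit 2, nat_lit 2, nat_lit 0, nat_lit 3, nat_lit 4, nat_lit 2, nat_lit 0])) (.leaf ((nat_lit 509), [nat_lit 3, nat_lit 4, nat_lit 5, nat_lit 2, nat_lit 2, nat_lit 4, nat_lit 2, nat_lit 4, nat_lit 2, nat_lit 0, nat_lit 1, nat_lit 0, nat_lit 2, nat_lit 2, nat_lit 0]))))))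
 (.node (nat_lit 1204) (.node (nat_lit 1201) (.node (nat_lit 1200) (.leaf ((nat_lit 947), [nat_lit 5, nat_lit 2, nat_lit 2, nat_lit 0, nat_lit 5, nat_lit 4, nat_lit 2, nat_lit 3, nat_lit 2, nat_lit 3, nat_lit 1, nat_lit 0, nat_lit 1, nat_lit 0, nat_lit 2, nat_lit 0, nat_lit 2, nat_lit 0])) (.leaf ((nat_lit 185), [nat_lit 2, nat_lit 5, nat_lit 4, nat_lit 5, nat_lit 2, nat_lit 0, nat_lit 3, nat_lit 2, nat_lit 3, nat_lit 0, nat_lit 2, nat_lit 0, nat_lit 1, nat_lit 0]))) (.node (nat_lit 1202) (.leaf ((nat_lit 948), [nat_lit 5, nat_lit 4, nat_lit 2, nat_lit 5, nat_lit 2, nat_lit 4, nat_lit 0, nat_lit 4, nat_lit 3, nat_lit 0, nat_lit 2, nat_lit 0, nat_lit 1, nat_lit 0])) (.node (nat_lit 1203) (.leaf ((nat_lit 949), [nat_lit 2, nat_lit 5, nat_lit 4, nat_lit 5, nat_lit 3, nat_lit 0, nat_lit 3, nat_lit 4, nat_lit 3, nat_lit 2, nat_lit 0, nat_lit 1, nat_lit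 0, nat_lit 2, nat_lit 0])) (.leaf ((nat_lit 379), [nat_lit 5, nat_lit 2, nat_lit 4, nat_lit 0, nat_lit 5, nat_lit 1, nat_lit 4, nat_lit 0, nat_lit 3, nat_lit 4, nat_lit 2, nat_lit 0, nat_lit 2, nat_lit 2])))))
 (.node (nat_lit 1207) (.node (nat_lit 1205) (.leaf ((nat_lit 386), [nat_lit 4, nat_lit 3, nat_lit 5, nat_lit 0, nat_lit 5, nat_lit 2, nat_lit 2, nat_lit 0, nat_lit 3, nat_lit 2, nat_lit 0, nat_lit 2, nat_lit 0, nat_lit 1, nat_lit 0])) (.node (nat_lit 1206) (.leaf ((nat_lit 950), [nat_lit 4, nat_lit 5, nat_lit 2, nat_lit 3, nat_lit 5, nat_lit 0, nat_lit 4, nat_lit 3, nat_lit 2, nat_lit 0, nat_lit 3, nat_lit 2, nat_lit 2, nat_lit 0, nat_lit 2, nat_lit 2])) (.leaf ((nat_lit 951), [nat_lit 5, nat_lit 3, nat_lit 5, nat_lit 2, nat_lit 0, nat_lit 2, nat_lit 4, nat_lit 1, nat_lit 0, nat_lit 1, nat_lit 0, nat_lit 2, nat_lit 2])))) (.node (nat_lit 1208)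 (.leaf ((nat_lit 369), [nat_lit 0, nat_lit 2, nat_lit 4, nat_lit 0, nat_lit 5, nat_lit 2, nat_lit 4, nat_lit 0, nat_lit 1, nat_lit 0, nat_lit 3, nat_lit 1, nat_lit 0, nat_lit 2, nat_lit 0, nat_lit 1, nat_lit 0])) (.node (nat_lit 1209) (.leaf ((nat_lit 952), [nat_lit 5, nat_lit 4, nat_lit 3, nat_lit 5, nat_lit 2, nat_lit 5, nat_lit 3, nat_lit 2, nat_lit 0, nat_lit 2, nat_lit 4, nat_lit 0, nat_lit 2, nat_lit 2, nat_lit 0, nat_lit 1, nat_lit 0, nat_lit 2, nat_lit 0])) (.leaf ((nat_lit 779), [nat_lit 2, nat_lit 2, nat_lit 5, nat_lit 4, nat_lit 0, nat_lit 3, nat_lit 2, nat_lit 0, nat_lit 2, nat_lit 0])))))))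
 (.node (nat_lit 1221) (.node (nat_lit 1215) (.node (nat_lit 1212) (.node (nat_lit 1211) (.leaf ((nat_lit 26), [nat_lit 4, nat_lit 1, nat_lit 5, nat_lit 2, nat_lit 5, nat_lit 2, nat_lit 3, nat_lit 0, nat_lit 3, nat_lit 0, nat_lit 1])) (.leaf ((nat_lit 953), [nat_lit 5, nat_lit 2, nat_lit 4, nat_lit 0, nat_lit 5, nat_lit 3, nat_lit 0, nat_lit 2, nat_lit 4, nat_lit 3]))) (.node (nat_lit 1213) (.leaf ((nat_lit 954), [nat_lit 5, nat_lit 1, nat_lit 5, nat_lit 0, nat_lit 5, nat_lit 4, nat_lit 3, nat_lit 1, nat_lit 3, nat_lit 1, nat_lit 3, nat_lit 0, nat_lit 2, nat_lit 0, nat_lit 1])) (.node (nat_lit 1214) (.leaf ((nat_lit 955), [nat_lit 5, nat_lit 4, nat_lit 5, nat_lit 1, nat_lit 5, nat_lit 2, nat_lit 4, nat_lit 0, nat_lit 4, nat_lit 0, nat_lit 4, nat_lit 1, nat_lit 0, nat_lit 1, nat_lit 0, nat_lit 2])) (.leaf ((nat_lit 102), [nat_lit 2, nat_lit 2, nat_lit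 0, nat_lit 5, nat_lit 1, nat_lit 3, nat_lit 4, nat_lit 3, nat_lit 1, nat_lit 0, nat_lit 2, nat_lit 2])))))
 (.node (nat_lit 1218) (.node (nat_lit 1216) (.leaf ((nat_lit 956), [nat_lit 2, nat_lit 5, nat_lit 3, nat_lit 5, nat_lit 4, nat_lit 3, nat_lit 2, nat_lit 0, nat_lit 3, nat_lit 1, nat_lit 0, nat_lit 1, nat_lit 0, nat_lit 2])) (.node (nat_lit 1217) (.leaf ((nat_lit 957), [nat_lit 4, nat_lit 5, nat_lit 2, nat_lit 5, nat_lit 2, nat_lit 2, nat_lit 4, nat_lit 0, nat_lit 4, nat_lit 1, nat_lit 0, nat_lit 1, nat_lit 0, nat_lit 2, nat_lit 2, nat_lit 0])) (.leaf ((nat_lit 654), [nat_lit 5, nat_lit 2, nat_lit 2, nat_lit 0, nat_lit 5, nat_lit 0, nat_lit 1, nat_lit 0, nat_lit 1, nat_lit 0, nat_lit 3, nat_lit 0, nat_lit 2, nat_lit 2, nat_lit 0, nat_lit 2, nat_lit 2])))) (.node (nat_lit 1219) (.leaf ((nat_lit 958), [nat_lit 3, nat_lit 5, nat_lit 2, nat_lit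 3, nat_lit 0, nat_lit 5, nat_lit 2, nat_lit 2, nat_lit 0, nat_lit 3, nat_lit 4, nat_lit 0, nat_lit 1])) (.node (nat_lit 1220) (.leaf ((nat_lit 959), [nat_lit 1, nat_lit 4, nat_lit 5, nat_lit 1, nat_lit 5, nat_lit 2, nat_lit 3, nat_lit 1, nat_lit 0, nat_lit 2, nat_lit 3, nat_lit 2, nat_lit 2, nat_lit 0, nat_lit 2, nat_lit 2, nat_lit 0, nat_lit 2, nat_lit 2, nat_lit 0])) (.leaf ((nat_lit 960), [nat_lit 1, nat_lit 0, nat_lit 5, nat_lit 3, nat_lit 5, nat_lit 0, nat_lit 3, nat_lit 4, nat_lit 0, nat_lit 3, nat_lit 0, nat_lit 2, nat_lit 2]))))))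
 (.node (nat_lit 1226) (.node (nat_lit 1223) (.node (nat_lit 1222) (.leaf ((nat_lit 365), [nat_lit 5, nat_lit 0, nat_lit 4, nat_lit 5, nat_lit 1, nat_lit 0, nat_lit 1, nat_lit 4, nat_lit 3])) (.leaf ((nat_lit 937), [nat_lit 3, nat_lit 5, nat_lit 1, nat_lit 3, nat_lit 0, nat_lit 5, nat_lit 4, nat_lit 1, nat_lit 4, nat_lit 3, nat_lit 0, nat_lit 2, nat_lit 2, nat_lit 0, nat_lit 2, nat_lit 2, nat_lit 0]))) (.node (nat_lit 1224) (.leaf ((nat_lit 961), [nat_lit 2, nat_lit 5, nat_lit 2, nat_lit 3, nat_lit 5, nat_lit 0, nat_lit 3, nat_lit 2, nat_lit 4, nat_lit 2, nat_lit 2, nat_lit 0, nat_lit 1, nat_lit 0, nat_lit 2, nat_lit 0])) (.node (nat_lit 1225) (.leaf ((nat_lit 230), [nat_lit 1, nat_lit 0, nat_lit 5, nat_lit 3, nat_lit 5, nat_lit 3, nat_lit 1, nat_lit 4, nat_lit 3, nat_lit 2, nat_lit 0, nat_lit 3, nat_lit 0, nat_lit 2, nat_lit 2, nat_lit 0, nat_lit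 1])) (.leaf ((nat_lit 962), [nat_lit 5, nat_lit 2, nat_lit 2, nat_lit 0, nat_lit 5, nat_lit 3, nat_lit 0, nat_lit 4, nat_lit 0, nat_lit 4, nat_lit 1])))))
 (.node (nat_lit 1229) (.node (nat_lit 1227) (.leaf ((nat_lit 941), [nat_lit 0, nat_lit 5, nat_lit 0, nat_lit 1, nat_lit 5, nat_lit 4, nat_lit 2, nat_lit 3, nat_lit 0, nat_lit 4, nat_lit 0, nat_lit 2, nat_lit 2, nat_lit 0, nat_lit 1, nat_lit 0, nat_lit 2])) (.node (nat_lit 1228) (.leaf ((nat_lit 963), [nat_lit 2, nat_lit 5, nat_lit 1, nat_lit 4, nat_lit 1, nat_lit 3, nat_lit 1, nat_lit 3, nat_lit 2, nat_lit 0, nat_lit 2, nat_lit 0])) (.leaf ((nat_lit 309), [nat_lit 1, nat_lit 4, nat_lit 5, nat_lit 1, nat_lit 5, nat_lit 2, nat_lit 3, nat_lit 4])))) (.node (nat_lit 1230) (.leaf ((nat_lit 94), [nat_lit 5, nat_lit 2, nat_lit 0, nat_lit 5, nat_lit 1, nat_lit 3, nat_lit 1])) (.node (nat_lit 1231) (.leaf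 ((nat_lit 923), [nat_lit 3, nat_lit 1, nat_lit 5, nat_lit 2, nat_lit 5, nat_lit 3, nat_lit 2, nat_lit 4, nat_lit 2, nat_lit 3, nat_lit 4, nat_lit 0, nat_lit 1, nat_lit 0, nat_lit 2, nat_lit 0, nat_lit 2, nat_lit 0])) (.leaf ((nat_lit 499), [nat_lit 3, nat_lit 2, nat_lit 5, nat_lit 0, nat_lit 5, nat_lit 0, nat_lit 2, nat_lit 4, nat_lit 1, nat_lit 0, nat_lit 3, nat_lit 0, nat_lit 2, nat_lit 0, nat_lit 2]))))))))))
noncomputable def pWd_7 : Tr (ℕ × List ℕ) := (.node (nat_lit 1320) (.node (nat_lit 1276) (.node (nat_lit 1254) (.node (nat_lit 1243) (.node (nat_lit 1237) (.node (nat_lit 1234) (.node (nat_lit 1233) (.leaf ((nat_lit 964), [nat_lit 4, nat_lit 3, nat_lit 2, nat_lit 5, nat_lit 3, nat_lit 1, nat_lit 0, nat_lit 2, nat_lit 3, nat_lit 2, nat_lit 0, nat_lit 1, nat_lit 0, nat_lit 2])) (.leaf ((nat_lit 965), [nat_lit 5, nat_lit 2, nat_lit 2, nat_lit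 0, nat_lit 5, nat_lit 0, nat_lit 4, nat_lit 1, nat_lit 4, nat_lit 2, nat_lit 0, nat_lit 1, nat_lit 0, nat_lit 1, nat_lit 0, nat_lit 2]))) (.node (nat_lit 1235) (.leaf ((nat_lit 849), [nat_lit 2, nat_lit 4, nat_lit 0, nat_lit 5, nat_lit 0, nat_lit 2, nat_lit 2, nat_lit 0, nat_lit 2, nat_lit 2, nat_lit 0])) (.node (nat_lit 1236) (.leaf ((nat_lit 517), [nat_lit 2, nat_lit 5, nat_lit 2, nat_lit 3, nat_lit 5, nat_lit 2, nat_lit 2, nat_lit 3, nat_lit 2, nat_lit 0, nat_lit 2, nat_lit 0, nat_lit 1, nat_lit 0, nat_lit 1, nat_lit 0])) (.leaf ((nat_lit 966), [nat_lit 1, nat_lit 4, nat_lit 2, nat_lit 5, nat_lit 3, nat_lit 0, nat_lit 2, nat_lit 4, nat_lit 1, nat_lit 0, nat_lit 2, nat_lit 2, nat_lit 0])))))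
 (.node (nat_lit 1240) (.node (nat_lit 1238) (.leaf ((nat_lit 920), [nat_lit 5, nat_lit 2, nat_lit 0, nat_lit 1, nat_lit 4, nat_lit 3, nat_lit 1, nat_lit 0, nat_lit 1, nat_lit 0, nat_lit 2, nat_lit 0, nat_lit 2, nat_lit 0])) (.node (nat_lit 1239) (.leaf ((nat_lit 695), [nat_lit 2, nat_lit 4, nat_lit 2, nat_lit 0, nat_lit 5, nat_lit 2, nat_lit 3, nat_lit 1, nat_lit 3, nat_lit 4, nat_lit 2, nat_lit 2, nat_lit 0, nat_lit 2, nat_lit 2, nat_lit 0, nat_lit 2, nat_lit 2, nat_lit 0])) (.leaf ((nat_lit 967), [nat_lit 2, nat_lit 3, nat_lit 5, nat_lit 0, nat_lit 5, nat_lit 0, nat_lit 2, nat_lit 3, nat_lit 2, nat_lit 3, nat_lit 2, nat_lit 2, nat_lit 0, nat_lit 2, nat_lit 2, nat_lit 0, nat_lit 2, nat_lit 0])))) (.node (nat_lit 1241) (.leaf ((nat_lit 933), [nat_lit 4, nat_lit 3, nat_lit 5, nat_lit 2, nat_lit 5, nat_lit 3, nat_lit 4, nat_lit 1, nat_lit 3, nat_lit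 1, nat_lit 3, nat_lit 0, nat_lit 1, nat_lit 0, nat_lit 2, nat_lit 2, nat_lit 0])) (.node (nat_lit 1242) (.leaf ((nat_lit 921), [nat_lit 5, nat_lit 4, nat_lit 3, nat_lit 5, nat_lit 2, nat_lit 5, nat_lit 4, nat_lit 0, nat_lit 2, nat_lit 4, nat_lit 1, nat_lit 0, nat_lit 2, nat_lit 0, nat_lit 2, nat_lit 0])) (.leaf ((nat_lit 280), [nat_lit 2, nat_lit 5, nat_lit 0, nat_lit 5, nat_lit 2, nat_lit 2, nat_lit 4, nat_lit 0, nat_lit 4, nat_lit 3, nat_lit 2, nat_lit 2, nat_lit 0, nat_lit 2, nat_lit 2, nat_lit 0, nat_lit 2, nat_lit 0]))))))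
 (.node (nat_lit 1248) (.node (nat_lit 1245) (.node (nat_lit 1244) (.leaf ((nat_lit 968), [nat_lit 4, nat_lit 3, nat_lit 0, nat_lit 5, nat_lit 3, nat_lit 1, nat_lit 4, nat_lit 3, nat_lit 2, nat_lit 0, nat_lit 3, nat_lit 0, nat_lit 1, nat_lit 0, nat_lit 2, nat_lit 2])) (.leaf ((nat_lit 969), [nat_lit 2, nat_lit 4, nat_lit 0, nat_lit 3, nat_lit 2, nat_lit 3, nat_lit 2, nat_lit 0, nat_lit 1, nat_lit 0, nat_lit 2, nat_lit 2, nat_lit 0]))) (.node (nat_lit 1246) (.leaf ((nat_lit 970), [nat_lit 5, nat_lit 1, nat_lit 0, nat_lit 3, nat_lit 5, nat_lit 1, nat_lit 3, nat_lit 4, nat_lit 3, nat_lit 0, nat_lit 3, nat_lit 0, nat_lit 2, nat_lit 0, nat_lit 1, nat_lit 0, nat_lit 1])) (.node (nat_lit 1247) (.leaf ((nat_lit 291), [nat_lit 3, nat_lit 2, nat_lit 0, nat_lit 5, nat_lit 3, nat_lit 0, nat_lit 4, nat_lit 1, nat_lit 3, nat_lit 2, nat_lit 0, nat_lit 2, nat_lit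 2, nat_lit 0, nat_lit 2])) (.leaf ((nat_lit 182), [nat_lit 4, nat_lit 2, nat_lit 5, nat_lit 3, nat_lit 5, nat_lit 0, nat_lit 2, nat_lit 0, nat_lit 4, nat_lit 1, nat_lit 4, nat_lit 1, nat_lit 0, nat_lit 2, nat_lit 2, nat_lit 0, nat_lit 1, nat_lit 0])))))
 (.node (nat_lit 1251) (.node (nat_lit 1249) (.leaf ((nat_lit 971), [nat_lit 1, nat_lit 5, nat_lit 1, nat_lit 5, nat_lit 2, nat_lit 3, nat_lit 1, nat_lit 3, nat_lit 4, nat_lit 3, nat_lit 0, nat_lit 1, nat_lit 0, nat_lit 2, nat_lit 0, nat_lit 2, nat_lit 2, nat_lit 0])) (.node (nat_lit 1250) (.leaf ((nat_lit 387), [nat_lit 2, nat_lit 2, nat_lit 0, nat_lit 5, nat_lit 3, nat_lit 0, nat_lit 3, nat_lit 1, nat_lit 4, nat_lit 2, nat_lit 2, nat_lit 0, nat_lit 1, nat_lit 0, nat_lit 2, nat_lit 2, nat_lit 0])) (.leaf ((nat_lit 972), [nat_lit 4, nat_lit 3, nat_lit 5, nat_lit 2, nat_lit 5, nat_lit 2, nat_lit 3,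 nat_lit 4, nat_lit 2, nat_lit 0, nat_lit 2, nat_lit 2, nat_lit 0, nat_lit 2, nat_lit 0])))) (.node (nat_lit 1252) (.leaf ((nat_lit 326), [nat_lit 3, nat_lit 4, nat_lit 3, nat_lit 5, nat_lit 4, nat_lit 1, nat_lit 0, nat_lit 3, nat_lit 1, nat_lit 4, nat_lit 2, nat_lit 0, nat_lit 2, nat_lit 2, nat_lit 0])) (.node (nat_lit 1253) (.leaf ((nat_lit 973), [nat_lit 5, nat_lit 1, nat_lit 3, nat_lit 0, nat_lit 5, nat_lit 3, nat_lit 0, nat_lit 2, nat_lit 2, nat_lit 3, nat_lit 2, nat_lit 2])) (.leaf ((nat_lit 910), [nat_lit 3, nat_lit 2, nat_lit 5, nat_lit 1, nat_lit 4, nat_lit 1, nat_lit 4, nat_lit 0, nat_lit 1, nat_lit 0, nat_lit 2])))))))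
 (.node (nat_lit 1265) (.node (nat_lit 1259) (.node (nat_lit 1256) (.node (nat_lit 1255) (.leaf ((nat_lit 974), [nat_lit 1, nat_lit 5, nat_lit 1, nat_lit 4, nat_lit 0, nat_lit 4, nat_lit 2, nat_lit 0, nat_lit 3, nat_lit 2, nat_lit 0, nat_lit 1, nat_lit 0, nat_lit 2, nat_lit 0, nat_lit 2, nat_lit 0])) (.leaf ((nat_lit 975), [nat_lit 0, nat_lit 2, nat_lit 4, nat_lit 0, nat_lit 5, nat_lit 3, nat_lit 0, nat_lit 2, nat_lit 2, nat_lit 3, nat_lit 2, nat_lit 2, nat_lit 0, nat_lit 1, nat_lit 0]))) (.node (nat_lit 1257) (.leaf ((nat_lit 976), [nat_lit 1, nat_lit 5, nat_lit 1, nat_lit 5, nat_lit 0, nat_lit 4, nat_lit 2, nat_lit 3, nat_lit 4, nat_lit 0, nat_lit 2, nat_lit 0, nat_lit 2, nat_lit 2, nat_lit 0])) (.node (nat_lit 1258) (.leaf ((nat_lit 977), [nat_lit 1, nat_lit 5, nat_lit 3, nat_lit 5, nat_lit 0, nat_lit 4, nat_lit 2, nat_lit 3, nat_lit 1, nat_lit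 3, nat_lit 2, nat_lit 2, nat_lit 0, nat_lit 2, nat_lit 2, nat_lit 0, nat_lit 2, nat_lit 2, nat_lit 0])) (.leaf ((nat_lit 875), [nat_lit 1, nat_lit 0, nat_lit 3, nat_lit 5, nat_lit 2, nat_lit 3, nat_lit 1, nat_lit 3, nat_lit 1, nat_lit 3, nat_lit 1, nat_lit 0, nat_lit 1, nat_lit 0, nat_lit 2, nat_lit 2, nat_lit 0])))))
 (.node (nat_lit 1262) (.node (nat_lit 1260) (.leaf ((nat_lit 978), [nat_lit 4, nat_lit 3, nat_lit 0, nat_lit 5, nat_lit 2, nat_lit 4, nat_lit 2, nat_lit 4, nat_lit 3, nat_lit 1, nat_lit 0, nat_lit 1, nat_lit 0])) (.node (nat_lit 1261) (.leaf ((nat_lit 979), [nat_lit 0, nat_lit 2, nat_lit 5, nat_lit 4, nat_lit 0, nat_lit 3, nat_lit 0, nat_lit 2, nat_lit 3, nat_lit 2, nat_lit 2, nat_lit 0, nat_lit 2, nat_lit 2, nat_lit 0])) (.leaf ((nat_lit 50), [nat_lit 3, nat_lit 0, nat_lit 2, nat_lit 5, nat_lit 1, nat_lit 4, nat_lit 3, nat_lit 1,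 nat_lit 3, nat_lit 0, nat_lit 2, nat_lit 0, nat_lit 2, nat_lit 2, nat_lit 0, nat_lit 2])))) (.node (nat_lit 1263) (.leaf ((nat_lit 611), [nat_lit 4, nat_lit 1, nat_lit 5, nat_lit 0, nat_lit 5, nat_lit 3, nat_lit 4, nat_lit 3, nat_lit 0, nat_lit 2, nat_lit 0, nat_lit 2, nat_lit 2, nat_lit 0, nat_lit 1])) (.node (nat_lit 1264) (.leaf ((nat_lit 589), [nat_lit 4, nat_lit 5, nat_lit 1, nat_lit 5, nat_lit 4, nat_lit 0, nat_lit 2, nat_lit 3, nat_lit 2, nat_lit 0, nat_lit 3, nat_lit 0, nat_lit 2])) (.leaf ((nat_lit 980), [nat_lit 1, nat_lit 0, nat_lit 3, nat_lit 5, nat_lit 2, nat_lit 3, nat_lit 2, nat_lit 0, nat_lit 4, nat_lit 2, nat_lit 2, nat_lit 0, nat_lit 1, nat_lit 0]))))))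
 (.node (nat_lit 1270) (.node (nat_lit 1267) (.node (nat_lit 1266) (.leaf ((nat_lit 557), [nat_lit 3, nat_lit 1, nat_lit 3, nat_lit 0, nat_lit 5, nat_lit 3, nat_lit 1, nat_lit 3, nat_lit 0, nat_lit 3, nat_lit 2, nat_lit 2, nat_lit 0])) (.leaf ((nat_lit 981), [nat_lit 2, nat_lit 2, nat_lit 0, nat_lit 5, nat_lit 3, nat_lit 0, nat_lit 1, nat_lit 3, nat_lit 0, nat_lit 3, nat_lit 0, nat_lit 2, nat_lit 2]))) (.node (nat_lit 1268) (.leaf ((nat_lit 982), [nat_lit 5, nat_lit 4, nat_lit 3, nat_lit 2, nat_lit 5, nat_lit 4, nat_lit 3, nat_lit 2, nat_lit 3, nat_lit 0, nat_lit 3, nat_lit 0, nat_lit 2, nat_lit 0, nat_lit 2, nat_lit 0])) (.node (nat_lit 1269) (.leaf ((nat_lit 983), [nat_lit 5, nat_lit 2, nat_lit 5, nat_lit 1, nat_lit 4, nat_lit 0, nat_lit 1, nat_lit 0, nat_lit 3, nat_lit 2, nat_lit 0, nat_lit 1, nat_lit 0, nat_lit 1, nat_lit 0])) (.leaf ((nat_lit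 984), [nat_lit 3, nat_lit 4, nat_lit 5, nat_lit 2, nat_lit 5, nat_lit 0, nat_lit 4, nat_lit 1, nat_lit 0, nat_lit 3, nat_lit 0, nat_lit 2, nat_lit 2, nat_lit 0, nat_lit 2, nat_lit 0, nat_lit 1])))))
 (.node (nat_lit 1273) (.node (nat_lit 1271) (.leaf ((nat_lit 985), [nat_lit 4, nat_lit 5, nat_lit 4, nat_lit 0, nat_lit 5, nat_lit 2, nat_lit 3, nat_lit 4, nat_lit 2, nat_lit 3, nat_lit 0, nat_lit 1, nat_lit 0, nat_lit 2, nat_lit 0, nat_lit 2, nat_lit 2, nat_lit 0])) (.node (nat_lit 1272) (.leaf ((nat_lit 986), [nat_lit 1, nat_lit 4, nat_lit 2, nat_lit 5, nat_lit 3, nat_lit 2, nat_lit 0, nat_lit 4, nat_lit 3, nat_lit 1, nat_lit 0, nat_lit 2, nat_lit 2, nat_lit 0, nat_lit 2, nat_lit 2])) (.leaf ((nat_lit 987), [nat_lit 2, nat_lit 5, nat_lit 2, nat_lit 3, nat_lit 5, nat_lit 4, nat_lit 2, nat_lit 0, nat_lit 1, nat_lit 0, nat_lit 1])))) (.node (nat_lit 1274)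 (.leaf ((nat_lit 686), [nat_lit 4, nat_lit 3, nat_lit 0, nat_lit 5, nat_lit 0, nat_lit 3, nat_lit 1, nat_lit 3, nat_lit 4, nat_lit 3, nat_lit 2, nat_lit 0, nat_lit 1])) (.node (nat_lit 1275) (.leaf ((nat_lit 827), [nat_lit 2, nat_lit 5, nat_lit 0, nat_lit 2, nat_lit 3, nat_lit 1, nat_lit 3, nat_lit 0, nat_lit 1])) (.leaf ((nat_lit 861), [nat_lit 2, nat_lit 5, nat_lit 2, nat_lit 3, nat_lit 5, nat_lit 3, nat_lit 0, nat_lit 3, nat_lit 0, nat_lit 4, nat_lit 0, nat_lit 1]))))))))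
 (.node (nat_lit 1298) (.node (nat_lit 1287) (.node (nat_lit 1281) (.node (nat_lit 1278) (.node (nat_lit 1277) (.leaf ((nat_lit 838), [nat_lit 5, nat_lit 4, nat_lit 5, nat_lit 1, nat_lit 5, nat_lit 1, nat_lit 3, nat_lit 2, nat_lit 2, nat_lit 3, nat_lit 0, nat_lit 1, nat_lit 0])) (.leaf ((nat_lit 988), [nat_lit 3, nat_lit 4, nat_lit 5, nat_lit 2, nat_lit 5, nat_lit 3, nat_lit 1, nat_lit 3, nat_lit 0, nat_lit 2, nat_lit 4, nat_lit 0, nat_lit 1, nat_lit 0, nat_lit 1]))) (.node (nat_lit 1279) (.leaf ((nat_lit 989), [nat_lit 0, nat_lit 2, nat_lit 4, nat_lit 0, nat_lit 5, nat_lit 1, nat_lit 4, nat_lit 1, nat_lit 0, nat_lit 3, nat_lit 0, nat_lit 1, nat_lit 0, nat_lit 1, nat_lit 0])) (.node (nat_lit 1280) (.leaf ((nat_lit 990), [nat_lit 4, nat_lit 3, nat_lit 0, nat_lit 5, nat_lit 3, nat_lit 1, nat_lit 0, nat_lit 4, nat_lit 1, nat_lit 3, nat_lit 1, nat_lit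 0, nat_lit 1, nat_lit 0, nat_lit 2, nat_lit 2, nat_lit 0])) (.leaf ((nat_lit 991), [nat_lit 3, nat_lit 0, nat_lit 5, nat_lit 3, nat_lit 5, nat_lit 4, nat_lit 3, nat_lit 2, nat_lit 2, nat_lit 3, nat_lit 2, nat_lit 0, nat_lit 2, nat_lit 0, nat_lit 1, nat_lit 0, nat_lit 1])))))
 (.node (nat_lit 1284) (.node (nat_lit 1282) (.leaf ((nat_lit 992), [nat_lit 5, nat_lit 0, nat_lit 1, nat_lit 5, nat_lit 0, nat_lit 1, nat_lit 0, nat_lit 4, nat_lit 1, nat_lit 3, nat_lit 1, nat_lit 0, nat_lit 2])) (.node (nat_lit 1283) (.leaf ((nat_lit 40), [nat_lit 5, nat_lit 0, nat_lit 1, nat_lit 5, nat_lit 2, nat_lit 4, nat_lit 2, nat_lit 3, nat_lit 1, nat_lit 3, nat_lit 2, nat_lit 0, nat_lit 2, nat_lit 0])) (.leaf ((nat_lit 993), [nat_lit 5, nat_lit 2, nat_lit 4, nat_lit 0, nat_lit 5, nat_lit 0, nat_lit 4, nat_lit 0, nat_lit 1, nat_lit 0, nat_lit 3, nat_lit 2, nat_lit 2,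 nat_lit 0, nat_lit 2, nat_lit 2, nat_lit 0, nat_lit 2, nat_lit 2])))) (.node (nat_lit 1285) (.leaf ((nat_lit 136), [nat_lit 5, nat_lit 3, nat_lit 5, nat_lit 1, nat_lit 3, nat_lit 2, nat_lit 4, nat_lit 3, nat_lit 1, nat_lit 0, nat_lit 2, nat_lit 2, nat_lit 0, nat_lit 2])) (.node (nat_lit 1286) (.leaf ((nat_lit 994), [nat_lit 2, nat_lit 5, nat_lit 0, nat_lit 1, nat_lit 5, nat_lit 0, nat_lit 2, nat_lit 4, nat_lit 3, nat_lit 0, nat_lit 2, nat_lit 0, nat_lit 1])) (.leaf ((nat_lit 995), [nat_lit 2, nat_lit 5, nat_lit 1, nat_lit 5, nat_lit 3, nat_lit 2, nat_lit 0, nat_lit 2, nat_lit 2, nat_lit 3, nat_lit 0, nat_lit 1, nat_lit 0, nat_lit 2, nat_lit 0, nat_lit 2]))))))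
 (.node (nat_lit 1292) (.node (nat_lit 1289) (.node (nat_lit 1288) (.leaf ((nat_lit 996), [nat_lit 2, nat_lit 0, nat_lit 2, nat_lit 5, nat_lit 1, nat_lit 0, nat_lit 4, nat_lit 3, nat_lit 0, nat_lit 1, nat_lit 0, nat_lit 2])) (.leaf ((nat_lit 997), [nat_lit 0, nat_lit 5, nat_lit 3, nat_lit 0, nat_lit 5, nat_lit 4, nat_lit 3, nat_lit 1, nat_lit 3, nat_lit 0, nat_lit 3, nat_lit 1, nat_lit 0, nat_lit 2]))) (.node (nat_lit 1290) (.leaf ((nat_lit 383), [nat_lit 1, nat_lit 0, nat_lit 3, nat_lit 5, nat_lit 3, nat_lit 2, nat_lit 2, nat_lit 4, nat_lit 3, nat_lit 0, nat_lit 1, nat_lit 0, nat_lit 2, nat_lit 0, nat_lit 2, nat_lit 2, nat_lit 0])) (.node (nat_lit 1291) (.leaf ((nat_lit 998), [nat_lit 3, nat_lit 0, nat_lit 5, nat_lit 3, nat_lit 1, nat_lit 0, nat_lit 4, nat_lit 1, nat_lit 3, nat_lit 2, nat_lit 0, nat_lit 1, nat_lit 0, nat_lit 2, nat_lit 0, nat_lit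 2])) (.leaf ((nat_lit 999), [nat_lit 4, nat_lit 3, nat_lit 5, nat_lit 0, nat_lit 5, nat_lit 2, nat_lit 3, nat_lit 4, nat_lit 1, nat_lit 0, nat_lit 3, nat_lit 2, nat_lit 0])))))
 (.node (nat_lit 1295) (.node (nat_lit 1293) (.leaf ((nat_lit 1000), [nat_lit 3, nat_lit 0, nat_lit 5, nat_lit 3, nat_lit 5, nat_lit 0, nat_lit 2, nat_lit 4, nat_lit 1, nat_lit 0, nat_lit 2, nat_lit 2, nat_lit 0])) (.node (nat_lit 1294) (.leaf ((nat_lit 1001), [nat_lit 3, nat_lit 0, nat_lit 2, nat_lit 5, nat_lit 4, nat_lit 0, nat_lit 4, nat_lit 1, nat_lit 3, nat_lit 2, nat_lit 0, nat_lit 2, nat_lit 0, nat_lit 1, nat_lit 0, nat_lit 1, nat_lit 0])) (.leaf ((nat_lit 1002), [nat_lit 1, nat_lit 4, nat_lit 5, nat_lit 1, nat_lit 5, nat_lit 4, nat_lit 1, nat_lit 4, nat_lit 1, nat_lit 4, nat_lit 3, nat_lit 2, nat_lit 0, nat_lit 1, nat_lit 0, nat_lit 1, nat_lit 0, nat_lit 2])))) (.node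 (nat_lit 1296) (.leaf ((nat_lit 1003), [nat_lit 3, nat_lit 2, nat_lit 0, nat_lit 5, nat_lit 0, nat_lit 4, nat_lit 3, nat_lit 2, nat_lit 0, nat_lit 3, nat_lit 0, nat_lit 2, nat_lit 2, nat_lit 0, nat_lit 1, nat_lit 0])) (.node (nat_lit 1297) (.leaf ((nat_lit 1004), [nat_lit 5, nat_lit 3, nat_lit 2, nat_lit 5, nat_lit 2, nat_lit 4, nat_lit 2, nat_lit 4, nat_lit 0, nat_lit 2, nat_lit 2, nat_lit 0, nat_lit 2])) (.leaf ((nat_lit 774), [nat_lit 4, nat_lit 5, nat_lit 0, nat_lit 3, nat_lit 5, nat_lit 3, nat_lit 2, nat_lit 0, nat_lit 2, nat_lit 4, nat_lit 3, nat_lit 2, nat_lit 2, nat_lit 0, nat_lit 2, nat_lit 0, nat_lit 1, nat_lit 0])))))))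
 (.node (nat_lit 1309) (.node (nat_lit 1303) (.node (nat_lit 1300) (.node (nat_lit 1299) (.leaf ((nat_lit 303), [nat_lit 5, nat_lit 4, nat_lit 3, nat_lit 0, nat_lit 5, nat_lit 0, nat_lit 3, nat_lit 4, nat_lit 0, nat_lit 3, nat_lit 0, nat_lit 1, nat_lit 0])) (.leaf ((nat_lit 506), [nat_lit 2, nat_lit 4, nat_lit 2, nat_lit 0, nat_lit 5, nat_lit 3, nat_lit 2, nat_lit 0, nat_lit 4, nat_lit 3, nat_lit 1, nat_lit 0, nat_lit 2, nat_lit 0, nat_lit 1, nat_lit 0]))) (.node (nat_lit 1301) (.leaf ((nat_lit 641), [nat_lit 0, nat_lit 2, nat_lit 5, nat_lit 3, nat_lit 5, nat_lit 2, nat_lit 4, nat_lit 2, nat_lit 0, nat_lit 2, nat_lit 3, nat_lit 0, nat_lit 1, nat_lit 0, nat_lit 2, nat_lit 0, nat_lit 2, nat_lit 2])) (.node (nat_lit 1302) (.leaf ((nat_lit 591), [nat_lit 2, nat_lit 4, nat_lit 2, nat_lit 0, nat_lit 5, nat_lit 4, nat_lit 1, nat_lit 4, nat_lit 1, nat_lit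 4, nat_lit 3, nat_lit 0, nat_lit 2, nat_lit 2, nat_lit 0])) (.leaf ((nat_lit 1005), [nat_lit 5, nat_lit 4, nat_lit 5, nat_lit 2, nat_lit 5, nat_lit 0, nat_lit 3, nat_lit 4, nat_lit 3, nat_lit 2, nat_lit 0, nat_lit 2, nat_lit 2, nat_lit 0, nat_lit 2])))))
 (.node (nat_lit 1306) (.node (nat_lit 1304) (.leaf ((nat_lit 1006), [nat_lit 3, nat_lit 4, nat_lit 5, nat_lit 4, nat_lit 2, nat_lit 4, nat_lit 0, nat_lit 1, nat_lit 0, nat_lit 3, nat_lit 0, nat_lit 2, nat_lit 2, nat_lit 0, nat_lit 2])) (.node (nat_lit 1305) (.leaf ((nat_lit 1007), [nat_lit 2, nat_lit 3, nat_lit 0, nat_lit 5, nat_lit 4, nat_lit 3, nat_lit 1, nat_lit 4, nat_lit 2, nat_lit 2, nat_lit 0, nat_lit 1])) (.leaf ((nat_lit 1008), [nat_lit 3, nat_lit 4, nat_lit 5, nat_lit 3, nat_lit 2, nat_lit 3, nat_lit 4, nat_lit 1, nat_lit 3, nat_lit 1, nat_lit 0, nat_lit 1, nat_lit 0, nat_lit 2, nat_lit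 0, nat_lit 2])))) (.node (nat_lit 1307) (.leaf ((nat_lit 1009), [nat_lit 0, nat_lit 4, nat_lit 5, nat_lit 0, nat_lit 1, nat_lit 4, nat_lit 1, nat_lit 0, nat_lit 3, nat_lit 2, nat_lit 2, nat_lit 0, nat_lit 2, nat_lit 0, nat_lit 1])) (.node (nat_lit 1308) (.leaf ((nat_lit 1010), [nat_lit 1, nat_lit 5, nat_lit 4, nat_lit 2, nat_lit 0, nat_lit 3, nat_lit 0, nat_lit 4, nat_lit 0, nat_lit 1, nat_lit 0, nat_lit 2, nat_lit 2])) (.leaf ((nat_lit 1011), [nat_lit 5, nat_lit 1, nat_lit 5, nat_lit 3, nat_lit 0, nat_lit 1, nat_lit 0, nat_lit 3, nat_lit 2, nat_lit 0, nat_lit 2, nat_lit 0, nat_lit 1, nat_lit 0, nat_lit 1]))))))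
 (.node (nat_lit 1314) (.node (nat_lit 1311) (.node (nat_lit 1310) (.leaf ((nat_lit 1012), [nat_lit 4, nat_lit 5, nat_lit 3, nat_lit 5, nat_lit 4, nat_lit 3, nat_lit 1, nat_lit 0, nat_lit 4, nat_lit 2, nat_lit 0, nat_lit 1, nat_lit 0, nat_lit 2, nat_lit 2])) (.leaf ((nat_lit 1013), [nat_lit 0, nat_lit 4, nat_lit 2, nat_lit 0, nat_lit 5, nat_lit 3, nat_lit 2, nat_lit 4, nat_lit 0, nat_lit 4, nat_lit 2, nat_lit 0, nat_lit 2, nat_lit 0, nat_lit 1, nat_lit 0, nat_lit 1, nat_lit 0]))) (.node (nat_lit 1312) (.leaf ((nat_lit 1014), [nat_lit 4, nat_lit 5, nat_lit 2, nat_lit 3, nat_lit 5, nat_lit 0, nat_lit 3, nat_lit 0, nat_lit 2, nat_lit 3, nat_lit 0, nat_lit 1, nat_lit 0, nat_lit 2, nat_lit 2])) (.node (nat_lit 1313) (.leaf ((nat_lit 685), [nat_lit 4, nat_lit 1, nat_lit 5, nat_lit 2, nat_lit 5, nat_lit 3, nat_lit 4, nat_lit 1, nat_lit 0, nat_lit 3, nat_lit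 0, nat_lit 2, nat_lit 2, nat_lit 0, nat_lit 2, nat_lit 0, nat_lit 1, nat_lit 0])) (.leaf ((nat_lit 697), [nat_lit 3, nat_lit 4, nat_lit 3, nat_lit 5, nat_lit 3, nat_lit 1, nat_lit 4, nat_lit 1, nat_lit 3, nat_lit 2, nat_lit 2, nat_lit 0, nat_lit 1, nat_lit 0, nat_lit 2, nat_lit 2])))))
 (.node (nat_lit 1317) (.node (nat_lit 1315) (.leaf ((nat_lit 850), [nat_lit 3, nat_lit 1, nat_lit 3, nat_lit 0, nat_lit 5, nat_lit 0, nat_lit 4, nat_lit 1, nat_lit 0, nat_lit 3, nat_lit 0, nat_lit 2, nat_lit 2, nat_lit 0, nat_lit 2, nat_lit 0, nat_lit 1])) (.node (nat_lit 1316) (.leaf ((nat_lit 1015), [nat_lit 4, nat_lit 3, nat_lit 2, nat_lit 5, nat_lit 3, nat_lit 1, nat_lit 4, nat_lit 1, nat_lit 3, nat_lit 2, nat_lit 0, nat_lit 1, nat_lit 0, nat_lit 1, nat_lit 0])) (.leaf ((nat_lit 265), [nat_lit 5, nat_lit 1, nat_lit 5, nat_lit 3, nat_lit 0, nat_lit 3, nat_lit 4,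 nat_lit 0, nat_lit 2, nat_lit 2, nat_lit 0, nat_lit 2, nat_lit 0])))) (.node (nat_lit 1318) (.leaf ((nat_lit 1016), [nat_lit 4, nat_lit 5, nat_lit 2, nat_lit 4, nat_lit 0, nat_lit 1, nat_lit 0, nat_lit 2, nat_lit 2])) (.node (nat_lit 1319) (.leaf ((nat_lit 829), [nat_lit 2, nat_lit 5, nat_lit 0, nat_lit 1, nat_lit 5, nat_lit 4, nat_lit 2, nat_lit 0, nat_lit 2, nat_lit 4, nat_lit 1, nat_lit 0, nat_lit 2, nat_lit 0, nat_lit 2, nat_lit 2, nat_lit 0])) (.leaf ((nat_lit 593), [nat_lit 1, nat_lit 0, nat_lit 3, nat_lit 5, nat_lit 3, nat_lit 4, nat_lit 0, nat_lit 4, nat_lit 1, nat_lit 3, nat_lit 2, nat_lit 0, nat_lit 2])))))))))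
 (.node (nat_lit 1364) (.node (nat_lit 1342) (.node (nat_lit 1331) (.node (nat_lit 1325) (.node (nat_lit 1322) (.node (nat_lit 1321) (.leaf ((nat_lit 1017), [nat_lit 0, nat_lit 4, nat_lit 5, nat_lit 4, nat_lit 0, nat_lit 2, nat_lit 2, nat_lit 3, nat_lit 1, nat_lit 0, nat_lit 2, nat_lit 2, nat_lit 0, nat_lit 1])) (.leaf ((nat_lit 529), [nat_lit 0, nat_lit 2, nat_lit 4, nat_lit 0, nat_lit 5, nat_lit 4, nat_lit 0, nat_lit 3, nat_lit 2, nat_lit 3]))) (.node (nat_lit 1323) (.leaf ((nat_lit 470), [nat_lit 3, nat_lit 5, nat_lit 0, nat_lit 5, nat_lit 3, nat_lit 1, nat_lit 4, nat_lit 0, nat_lit 4, nat_lit 3, nat_lit 0, nat_lit 1, nat_lit 0, nat_lit 2, nat_lit 0, nat_lit 2, nat_lit 0])) (.node (nat_lit 1324) (.leaf ((nat_lit 250), [nat_lit 3, nat_lit 4, nat_lit 3, nat_lit 5, nat_lit 4, nat_lit 2, nat_lit 4, nat_lit 0, nat_lit 1, nat_lit 0, nat_lit 3, nat_lit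 0, nat_lit 2, nat_lit 0])) (.leaf ((nat_lit 1018), [nat_lit 2, nat_lit 4, nat_lit 2, nat_lit 0, nat_lit 5, nat_lit 2, nat_lit 3, nat_lit 2, nat_lit 0, nat_lit 4, nat_lit 0, nat_lit 2, nat_lit 0, nat_lit 1, nat_lit 0])))))
 (.node (nat_lit 1328) (.node (nat_lit 1326) (.leaf ((nat_lit 438), [nat_lit 0, nat_lit 2, nat_lit 5, nat_lit 3, nat_lit 0, nat_lit 4, nat_lit 1, nat_lit 4, nat_lit 0, nat_lit 2])) (.node (nat_lit 1327) (.leaf ((nat_lit 1019), [nat_lit 0, nat_lit 4, nat_lit 2, nat_lit 0, nat_lit 5, nat_lit 4, nat_lit 3, nat_lit 1, nat_lit 0, nat_lit 4, nat_lit 2, nat_lit 2, nat_lit 0, nat_lit 2, nat_lit 2, nat_lit 0, nat_lit 2, nat_lit 2, nat_lit 0])) (.leaf ((nat_lit 1020), [nat_lit 0, nat_lit 5, nat_lit 4, nat_lit 3, nat_lit 1, nat_lit 3, nat_lit 1, nat_lit 3, nat_lit 2, nat_lit 2, nat_lit 0, nat_lit 2, nat_lit 0, nat_lit 1])))) (.node (nat_lit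 1329) (.leaf ((nat_lit 8), [nat_lit 4, nat_lit 5, nat_lit 3, nat_lit 5, nat_lit 3, nat_lit 2, nat_lit 3, nat_lit 2, nat_lit 0, nat_lit 3, nat_lit 2, nat_lit 0, nat_lit 1, nat_lit 0, nat_lit 1, nat_lit 0, nat_lit 2, nat_lit 0])) (.node (nat_lit 1330) (.leaf ((nat_lit 858), [nat_lit 4, nat_lit 1, nat_lit 5, nat_lit 0, nat_lit 5, nat_lit 3, nat_lit 1, nat_lit 3, nat_lit 1, nat_lit 4, nat_lit 2, nat_lit 0, nat_lit 2, nat_lit 2, nat_lit 0, nat_lit 2])) (.leaf ((nat_lit 751), [nat_lit 2, nat_lit 2, nat_lit 0, nat_lit 5, nat_lit 4, nat_lit 1, nat_lit 3, nat_lit 4, nat_lit 0, nat_lit 1, nat_lit 0, nat_lit 1, nat_lit 0]))))))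
 (.node (nat_lit 1336) (.node (nat_lit 1333) (.node (nat_lit 1332) (.leaf ((nat_lit 1021), [nat_lit 5, nat_lit 4, nat_lit 5, nat_lit 3, nat_lit 0, nat_lit 3, nat_lit 2, nat_lit 0, nat_lit 3, nat_lit 0, nat_lit 2, nat_lit 0, nat_lit 2, nat_lit 2, nat_lit 0, nat_lit 2])) (.leaf ((nat_lit 698), [nat_lit 5, nat_lit 2, nat_lit 0, nat_lit 2, nat_lit 5, nat_lit 1, nat_lit 4, nat_lit 3, nat_lit 0, nat_lit 3, nat_lit 2, nat_lit 0, nat_lit 2, nat_lit 2, nat_lit 0, nat_lit 2]))) (.node (nat_lit 1334) (.leaf ((nat_lit 785), [nat_lit 2, nat_lit 5, nat_lit 1, nat_lit 5, nat_lit 2, nat_lit 4, nat_lit 2, nat_lit 0, nat_lit 3, nat_lit 0, nat_lit 1, nat_lit 0, nat_lit 2, nat_lit 0])) (.node (nat_lit 1335) (.leaf ((nat_lit 669), [nat_lit 5, nat_lit 2, nat_lit 3, nat_lit 5, nat_lit 0, nat_lit 4, nat_lit 2, nat_lit 3, nat_lit 1, nat_lit 3, nat_lit 1, nat_lit 0, nat_lit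 1, nat_lit 0, nat_lit 2, nat_lit 2, nat_lit 0])) (.leaf ((nat_lit 1022), [nat_lit 5, nat_lit 2, nat_lit 5, nat_lit 3, nat_lit 2, nat_lit 4, nat_lit 2, nat_lit 3, nat_lit 4, nat_lit 1, nat_lit 0, nat_lit 1, nat_lit 0, nat_lit 2, nat_lit 2])))))
 (.node (nat_lit 1339) (.node (nat_lit 1337) (.leaf ((nat_lit 1023), [nat_lit 0, nat_lit 5, nat_lit 2, nat_lit 0, nat_lit 5, nat_lit 2, nat_lit 2, nat_lit 0, nat_lit 3, nat_lit 0, nat_lit 1, nat_lit 0, nat_lit 1])) (.node (nat_lit 1338) (.leaf ((nat_lit 1024), [nat_lit 4, nat_lit 5, nat_lit 4, nat_lit 0, nat_lit 5, nat_lit 3, nat_lit 2, nat_lit 4, nat_lit 2, nat_lit 3, nat_lit 4, nat_lit 1, nat_lit 0, nat_lit 1, nat_lit 0, nat_lit 2, nat_lit 0, nat_lit 2, nat_lit 0])) (.leaf ((nat_lit 382), [nat_lit 4, nat_lit 1, nat_lit 5, nat_lit 2, nat_lit 5, nat_lit 1, nat_lit 4, nat_lit 1, nat_lit 4, nat_lit 3, nat_lit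 0, nat_lit 1, nat_lit 0, nat_lit 2])))) (.node (nat_lit 1340) (.leaf ((nat_lit 803), [nat_lit 4, nat_lit 3, nat_lit 0, nat_lit 5, nat_lit 3, nat_lit 0, nat_lit 1, nat_lit 3, nat_lit 0, nat_lit 3, nat_lit 0, nat_lit 2, nat_lit 2, nat_lit 0, nat_lit 2, nat_lit 0])) (.node (nat_lit 1341) (.leaf ((nat_lit 51), [nat_lit 3, nat_lit 4, nat_lit 5, nat_lit 3, nat_lit 4, nat_lit 2, nat_lit 4, nat_lit 2, nat_lit 0, nat_lit 1, nat_lit 0, nat_lit 2])) (.leaf ((nat_lit 958), [nat_lit 1, nat_lit 0, nat_lit 2, nat_lit 5, nat_lit 3, nat_lit 2, nat_lit 3, nat_lit 2, nat_lit 2, nat_lit 0, nat_lit 2, nat_lit 2])))))))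
 (.node (nat_lit 1353) (.node (nat_lit 1347) (.node (nat_lit 1344) (.node (nat_lit 1343) (.leaf ((nat_lit 1025), [nat_lit 4, nat_lit 5, nat_lit 3, nat_lit 5, nat_lit 3, nat_lit 2, nat_lit 3, nat_lit 2, nat_lit 2, nat_lit 3, nat_lit 1, nat_lit 0])) (.leaf ((nat_lit 1026), [nat_lit 4, nat_lit 3, nat_lit 0, nat_lit 5, nat_lit 3, nat_lit 2, nat_lit 3, nat_lit 2, nat_lit 2, nat_lit 0, nat_lit 2, nat_lit 0, nat_lit 1]))) (.node (nat_lit 1345) (.leaf ((nat_lit 917), [nat_lit 4, nat_lit 5, nat_lit 2, nat_lit 2, nat_lit 3, nat_lit 0, nat_lit 2, nat_lit 2, nat_lit 0, nat_lit 1, nat_lit 0])) (.node (nat_lit 1346) (.leaf ((nat_lit 1027), [nat_lit 2, nat_lit 5, nat_lit 2, nat_lit 0, nat_lit 3, nat_lit 1, nat_lit 3, nat_lit 0, nat_lit 2, nat_lit 0, nat_lit 2, nat_lit 2, nat_lit 0, nat_lit 2, nat_lit 0])) (.leaf ((nat_lit 232), [nat_lit 5, nat_lit 1, nat_lit 3,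 nat_lit 0, nat_lit 5, nat_lit 1, nat_lit 3, nat_lit 4, nat_lit 1, nat_lit 0, nat_lit 3, nat_lit 2, nat_lit 0])))))
 (.node (nat_lit 1350) (.node (nat_lit 1348) (.leaf ((nat_lit 13), [nat_lit 4, nat_lit 1, nat_lit 5, nat_lit 3, nat_lit 5, nat_lit 4, nat_lit 1, nat_lit 3, nat_lit 4, nat_lit 2, nat_lit 3, nat_lit 1, nat_lit 0, nat_lit 1, nat_lit 0, nat_lit 2, nat_lit 0, nat_lit 2, nat_lit 0])) (.node (nat_lit 1349) (.leaf ((nat_lit 1028), [nat_lit 3, nat_lit 5, nat_lit 0, nat_lit 2, nat_lit 3, nat_lit 0, nat_lit 2, nat_lit 0, nat_lit 2, nat_lit 2, nat_lit 0, nat_lit 2])) (.leaf ((nat_lit 1029), [nat_lit 3, nat_lit 5, nat_lit 2, nat_lit 3, nat_lit 0, nat_lit 2, nat_lit 4, nat_lit 3, nat_lit 0, nat_lit 2, nat_lit 2, nat_lit 0, nat_lit 2, nat_lit 0, nat_lit 1])))) (.node (nat_lit 1351) (.leaf ((nat_lit 1030), [nat_lit 3, nat_lit 5, nat_lit 0, nat_lit 3,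 nat_lit 5, nat_lit 2, nat_lit 2, nat_lit 3, nat_lit 4, nat_lit 0, nat_lit 2, nat_lit 0, nat_lit 1, nat_lit 0])) (.node (nat_lit 1352) (.leaf ((nat_lit 467), [nat_lit 0, nat_lit 2, nat_lit 5, nat_lit 3, nat_lit 2, nat_lit 4, nat_lit 2, nat_lit 4, nat_lit 2, nat_lit 2, nat_lit 0, nat_lit 2, nat_lit 2, nat_lit 0, nat_lit 2, nat_lit 0])) (.leaf ((nat_lit 1031), [nat_lit 2, nat_lit 0, nat_lit 1, nat_lit 5, nat_lit 3, nat_lit 1, nat_lit 0, nat_lit 3, nat_lit 1, nat_lit 3, nat_lit 1, nat_lit 0, nat_lit 2, nat_lit 2, nat_lit 0, nat_lit 2, nat_lit 0]))))))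
 (.node (nat_lit 1358) (.node (nat_lit 1355) (.node (nat_lit 1354) (.leaf ((nat_lit 730), [nat_lit 1, nat_lit 5, nat_lit 3, nat_lit 5, nat_lit 2, nat_lit 0, nat_lit 4, nat_lit 2, nat_lit 0, nat_lit 2])) (.leaf ((nat_lit 1032), [nat_lit 1, nat_lit 5, nat_lit 1, nat_lit 3, nat_lit 4, nat_lit 1, nat_lit 0, nat_lit 3, nat_lit 2, nat_lit 2, nat_lit 0, nat_lit 1, nat_lit 0]))) (.node (nat_lit 1356) (.leaf ((nat_lit 304), [nat_lit 3, nat_lit 5, nat_lit 1, nat_lit 3, nat_lit 2, nat_lit 5, nat_lit 0, nat_lit 3, nat_lit 4, nat_lit 3, nat_lit 2, nat_lit 0, nat_lit 2, nat_lit 2, nat_lit 0])) (.node (nat_lit 1357) (.leaf ((nat_lit 1033), [nat_lit 3, nat_lit 4, nat_lit 3, nat_lit 5, nat_lit 2, nat_lit 0, nat_lit 3, nat_lit 1, nat_lit 3, nat_lit 2, nat_lit 0, nat_lit 2, nat_lit 2, nat_lit 0, nat_lit 1])) (.leaf ((nat_lit 1034), [nat_lit 3, nat_lit 4, nat_lit 5,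 nat_lit 2, nat_lit 3, nat_lit 4, nat_lit 3, nat_lit 0, nat_lit 3, nat_lit 2, nat_lit 0, nat_lit 1, nat_lit 0, nat_lit 1, nat_lit 0, nat_lit 2, nat_lit 0])))))
 (.node (nat_lit 1361) (.node (nat_lit 1359) (.leaf ((nat_lit 1035), [nat_lit 5, nat_lit 4, nat_lit 5, nat_lit 3, nat_lit 5, nat_lit 3, nat_lit 2, nat_lit 4, nat_lit 2, nat_lit 4, nat_lit 1, nat_lit 0, nat_lit 1, nat_lit 0, nat_lit 2, nat_lit 2, nat_lit 0])) (.node (nat_lit 1360) (.leaf ((nat_lit 1036), [nat_lit 1, nat_lit 3, nat_lit 2, nat_lit 5, nat_lit 3, nat_lit 0, nat_lit 1, nat_lit 0, nat_lit 4, nat_lit 2, nat_lit 2, nat_lit 0, nat_lit 2])) (.leaf ((nat_lit 48), [nat_lit 0, nat_lit 2, nat_lit 5, nat_lit 3, nat_lit 5, nat_lit 0, nat_lit 2, nat_lit 4, nat_lit 3, nat_lit 1, nat_lit 0, nat_lit 1, nat_lit 0, nat_lit 2])))) (.node (nat_lit 1362) (.leaf ((nat_lit 1037), [nat_lit 4, nat_lit 5,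 nat_lit 4, nat_lit 0, nat_lit 5, nat_lit 1, nat_lit 3, nat_lit 2, nat_lit 4, nat_lit 3, nat_lit 0, nat_lit 2, nat_lit 0])) (.node (nat_lit 1363) (.leaf ((nat_lit 723), [nat_lit 5, nat_lit 4, nat_lit 5, nat_lit 1, nat_lit 5, nat_lit 0, nat_lit 3, nat_lit 4, nat_lit 1, nat_lit 0, nat_lit 3, nat_lit 2, nat_lit 0, nat_lit 1, nat_lit 0, nat_lit 2, nat_lit 2])) (.leaf ((nat_lit 262), [nat_lit 4, nat_lit 1, nat_lit 5, nat_lit 0, nat_lit 5, nat_lit 4, nat_lit 3, nat_lit 2, nat_lit 3, nat_lit 1, nat_lit 0, nat_lit 1, nat_lit 0, nat_lit 2]))))))))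
 (.node (nat_lit 1386) (.node (nat_lit 1375) (.node (nat_lit 1369) (.node (nat_lit 1366) (.node (nat_lit 1365) (.leaf ((nat_lit 293), [nat_lit 4, nat_lit 5, nat_lit 2, nat_lit 5, nat_lit 3, nat_lit 2, nat_lit 0, nat_lit 2, nat_lit 2, nat_lit 3, nat_lit 0, nat_lit 1, nat_lit 0, nat_lit 1, nat_lit 0, nat_lit 2])) (.leaf ((nat_lit 363), [nat_lit 3, nat_lit 1, nat_lit 5, nat_lit 2, nat_lit 5, nat_lit 4, nat_lit 1, nat_lit 3, nat_lit 0, nat_lit 3, nat_lit 1, nat_lit 0, nat_lit 2, nat_lit 0, nat_lit 1, nat_lit 0]))) (.node (nat_lit 1367) (.leaf ((nat_lit 175), [nat_lit 5, nat_lit 3, nat_lit 2, nat_lit 5, nat_lit 2, nat_lit 0, nat_lit 4, nat_lit 0, nat_lit 2, nat_lit 2])) (.node (nat_lit 1368) (.leaf ((nat_lit 66), [nat_lit 5, nat_lit 2, nat_lit 0, nat_lit 5, nat_lit 0, nat_lit 1, nat_lit 3, nat_lit 1, nat_lit 3, nat_lit 2, nat_lit 2, nat_lit 0, nat_lit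 2, nat_lit 2, nat_lit 0, nat_lit 2, nat_lit 0])) (.leaf ((nat_lit 763), [nat_lit 5, nat_lit 3, nat_lit 2, nat_lit 0, nat_lit 5, nat_lit 3, nat_lit 2, nat_lit 3, nat_lit 4, nat_lit 1, nat_lit 3, nat_lit 2, nat_lit 2, nat_lit 0, nat_lit 2])))))
 (.node (nat_lit 1372) (.node (nat_lit 1370) (.leaf ((nat_lit 1038), [nat_lit 4, nat_lit 5, nat_lit 1, nat_lit 5, nat_lit 2, nat_lit 4, nat_lit 2, nat_lit 4, nat_lit 0, nat_lit 2, nat_lit 2, nat_lit 0])) (.node (nat_lit 1371) (.leaf ((nat_lit 307), [nat_lit 2, nat_lit 4, nat_lit 5, nat_lit 2, nat_lit 0, nat_lit 5, nat_lit 2, nat_lit 2, nat_lit 0, nat_lit 3, nat_lit 4, nat_lit 0, nat_lit 2])) (.leaf ((nat_lit 200), [nat_lit 1, nat_lit 5, nat_lit 3, nat_lit 5, nat_lit 0, nat_lit 4, nat_lit 2, nat_lit 0, nat_lit 3, nat_lit 2, nat_lit 0, nat_lit 2, nat_lit 2, nat_lit 0, nat_lit 1, nat_lit 0])))) (.node (nat_lit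 1373) (.leaf ((nat_lit 118), [nat_lit 5, nat_lit 1, nat_lit 5, nat_lit 4, nat_lit 2, nat_lit 0, nat_lit 3, nat_lit 0, nat_lit 4, nat_lit 0, nat_lit 2, nat_lit 0, nat_lit 2, nat_lit 2, nat_lit 0, nat_lit 2])) (.node (nat_lit 1374) (.leaf ((nat_lit 1039), [nat_lit 5, nat_lit 2, nat_lit 2, nat_lit 0, nat_lit 5, nat_lit 3, nat_lit 2, nat_lit 3, nat_lit 2, nat_lit 0, nat_lit 4, nat_lit 2])) (.leaf ((nat_lit 87), [nat_lit 3, nat_lit 0, nat_lit 5, nat_lit 3, nat_lit 5, nat_lit 4, nat_lit 2, nat_lit 3, nat_lit 4, nat_lit 2, nat_lit 3, nat_lit 2, nat_lit 2, nat_lit 0, nat_lit 2]))))))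
 (.node (nat_lit 1380) (.node (nat_lit 1377) (.node (nat_lit 1376) (.leaf ((nat_lit 1040), [nat_lit 1, nat_lit 0, nat_lit 5, nat_lit 3, nat_lit 0, nat_lit 3, nat_lit 2, nat_lit 0, nat_lit 3, nat_lit 2, nat_lit 2, nat_lit 0, nat_lit 2, nat_lit 2, nat_lit 0, nat_lit 2, nat_lit 2, nat_lit 0])) (.leaf ((nat_lit 1041), [nat_lit 4, nat_lit 3, nat_lit 5, nat_lit 2, nat_lit 5, nat_lit 1, nat_lit 3, nat_lit 2, nat_lit 3, nat_lit 0, nat_lit 4, nat_lit 1, nat_lit 0, nat_lit 2, nat_lit 2, nat_lit 0, nat_lit 2, nat_lit 2, nat_lit 0]))) (.node (nat_lit 1378) (.leaf ((nat_lit 1042), [nat_lit 4, nat_lit 0, nat_lit 5, nat_lit 2, nat_lit 5, nat_lit 3, nat_lit 4, nat_lit 2, nat_lit 4, nat_lit 2, nat_lit 0, nat_lit 1, nat_lit 0, nat_lit 1])) (.node (nat_lit 1379) (.leaf ((nat_lit 1043), [nat_lit 4, nat_lit 3, nat_lit 5, nat_lit 3, nat_lit 0, nat_lit 3, nat_lit 2, nat_lit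 4, nat_lit 2, nat_lit 2, nat_lit 0, nat_lit 1, nat_lit 0, nat_lit 2, nat_lit 0])) (.leaf ((nat_lit 1031), [nat_lit 4, nat_lit 1, nat_lit 5, nat_lit 3, nat_lit 5, nat_lit 2, nat_lit 0, nat_lit 4, nat_lit 1, nat_lit 3, nat_lit 0, nat_lit 1])))))
 (.node (nat_lit 1383) (.node (nat_lit 1381) (.leaf ((nat_lit 1044), [nat_lit 3, nat_lit 0, nat_lit 2, nat_lit 5, nat_lit 2, nat_lit 0, nat_lit 3, nat_lit 4])) (.node (nat_lit 1382) (.leaf ((nat_lit 510), [nat_lit 5, nat_lit 1, nat_lit 0, nat_lit 3, nat_lit 5, nat_lit 3, nat_lit 4, nat_lit 0, nat_lit 3, nat_lit 4, nat_lit 0, nat_lit 2, nat_lit 2, nat_lit 0, nat_lit 1, nat_lit 0])) (.leaf ((nat_lit 1045), [nat_lit 5, nat_lit 3, nat_lit 5, nat_lit 4, nat_lit 1, nat_lit 3, nat_lit 4, nat_lit 3, nat_lit 0, nat_lit 2, nat_lit 0, nat_lit 1])))) (.node (nat_lit 1384) (.leaf ((nat_lit 1046), [nat_lit 1, nat_lit 3,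 nat_lit 0, nat_lit 5, nat_lit 4, nat_lit 2, nat_lit 4, nat_lit 2, nat_lit 3, nat_lit 2, nat_lit 0, nat_lit 2, nat_lit 0, nat_lit 1, nat_lit 0, nat_lit 1])) (.node (nat_lit 1385) (.leaf ((nat_lit 663), [nat_lit 1, nat_lit 5, nat_lit 2, nat_lit 5, nat_lit 4, nat_lit 3, nat_lit 0, nat_lit 3, nat_lit 2, nat_lit 2, nat_lit 0, nat_lit 2, nat_lit 0, nat_lit 1])) (.leaf ((nat_lit 1047), [nat_lit 1, nat_lit 3, nat_lit 0, nat_lit 5, nat_lit 1, nat_lit 4, nat_lit 0, nat_lit 3, nat_lit 4, nat_lit 0, nat_lit 1, nat_lit 0, nat_lit 2, nat_lit 0])))))))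
 (.node (nat_lit 1397) (.node (nat_lit 1391) (.node (nat_lit 1388) (.node (nat_lit 1387) (.leaf ((nat_lit 1048), [nat_lit 4, nat_lit 2, nat_lit 5, nat_lit 1, nat_lit 5, nat_lit 2, nat_lit 0, nat_lit 3, nat_lit 0, nat_lit 4, nat_lit 2, nat_lit 0, nat_lit 2, nat_lit 2, nat_lit 0, nat_lit 2])) (.leaf ((nat_lit 1049), [nat_lit 5, nat_lit 4, nat_lit 5, nat_lit 2, nat_lit 5, nat_lit 1, nat_lit 0, nat_lit 2, nat_lit 4, nat_lit 2, nat_lit 0, nat_lit 2, nat_lit 2, nat_lit 0, nat_lit 1]))) (.node (nat_lit 1389) (.leaf ((nat_lit 502), [nat_lit 2, nat_lit 0, nat_lit 5, nat_lit 4, nat_lit 3, nat_lit 1, nat_lit 0, nat_lit 4, nat_lit 0])) (.node (nat_lit 1390) (.leaf ((nat_lit 1050), [nat_lit 0, nat_lit 5, nat_lit 3, nat_lit 0, nat_lit 5, nat_lit 3, nat_lit 2, nat_lit 0, nat_lit 2, nat_lit 4, nat_lit 2, nat_lit 0, nat_lit 2, nat_lit 2, nat_lit 0, nat_lit 2, nat_lit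 2])) (.leaf ((nat_lit 565), [nat_lit 3, nat_lit 1, nat_lit 3, nat_lit 0, nat_lit 5, nat_lit 3, nat_lit 0, nat_lit 1, nat_lit 3, nat_lit 4, nat_lit 2, nat_lit 3, nat_lit 1, nat_lit 0, nat_lit 2, nat_lit 0, nat_lit 2, nat_lit 2, nat_lit 0])))))
 (.node (nat_lit 1394) (.node (nat_lit 1392) (.leaf ((nat_lit 1051), [nat_lit 3, nat_lit 1, nat_lit 5, nat_lit 2, nat_lit 5, nat_lit 2, nat_lit 0, nat_lit 2, nat_lit 2, nat_lit 3, nat_lit 1, nat_lit 0, nat_lit 2, nat_lit 0, nat_lit 2, nat_lit 2])) (.node (nat_lit 1393) (.leaf ((nat_lit 443), [nat_lit 0, nat_lit 5, nat_lit 1, nat_lit 0, nat_lit 3, nat_lit 4, nat_lit 0, nat_lit 3, nat_lit 2, nat_lit 2, nat_lit 0, nat_lit 2, nat_lit 2])) (.leaf ((nat_lit 1052), [nat_lit 0, nat_lit 5, nat_lit 2, nat_lit 3, nat_lit 5, nat_lit 4, nat_lit 2, nat_lit 0, nat_lit 1, nat_lit 0, nat_lit 3, nat_lit 1, nat_lit 0, nat_lit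 2, nat_lit 2, nat_lit 0, nat_lit 2, nat_lit 2, nat_lit 0])))) (.node (nat_lit 1395) (.leaf ((nat_lit 1053), [nat_lit 2, nat_lit 5, nat_lit 2, nat_lit 3, nat_lit 5, nat_lit 4, nat_lit 3, nat_lit 1, nat_lit 0, nat_lit 4, nat_lit 2, nat_lit 2, nat_lit 0, nat_lit 1])) (.node (nat_lit 1396) (.leaf ((nat_lit 1054), [nat_lit 4, nat_lit 5, nat_lit 4, nat_lit 0, nat_lit 5, nat_lit 2, nat_lit 3, nat_lit 4, nat_lit 1, nat_lit 0, nat_lit 3, nat_lit 0, nat_lit 2, nat_lit 2, nat_lit 0])) (.leaf ((nat_lit 1055), [nat_lit 0, nat_lit 5, nat_lit 3, nat_lit 0, nat_lit 5, nat_lit 4, nat_lit 1, nat_lit 3, nat_lit 0, nat_lit 3, nat_lit 0, nat_lit 1, nat_lit 0, nat_lit 1, nat_lit 0, nat_lit 2]))))))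
 (.node (nat_lit 1402) (.node (nat_lit 1399) (.node (nat_lit 1398) (.leaf ((nat_lit 1056), [nat_lit 2, nat_lit 5, nat_lit 4, nat_lit 5, nat_lit 3, nat_lit 4, nat_lit 3, nat_lit 1])) (.leaf ((nat_lit 1057), [nat_lit 1, nat_lit 5, nat_lit 2, nat_lit 5, nat_lit 3, nat_lit 0, nat_lit 3, nat_lit 2, nat_lit 0, nat_lit 1, nat_lit 0]))) (.node (nat_lit 1400) (.leaf ((nat_lit 1000), [nat_lit 3, nat_lit 0, nat_lit 5, nat_lit 3, nat_lit 2, nat_lit 2, nat_lit 3, nat_lit 1])) (.node (nat_lit 1401) (.leaf ((nat_lit 860), [nat_lit 2, nat_lit 5, nat_lit 4, nat_lit 5, nat_lit 3, nat_lit 4, nat_lit 1, nat_lit 3, nat_lit 2, nat_lit 2, nat_lit 0, nat_lit 2, nat_lit 2, nat_lit 0, nat_lit 2, nat_lit 2, nat_lit 0])) (.leaf ((nat_lit 147), [nat_lit 4, nat_lit 5, nat_lit 1, nat_lit 5, nat_lit 4, nat_lit 3, nat_lit 2, nat_lit 4, nat_lit 3, nat_lit 2, nat_lit 0, nat_lit 1,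 nat_lit 0, nat_lit 1, nat_lit 0, nat_lit 2])))))
 (.node (nat_lit 1405) (.node (nat_lit 1403) (.leaf ((nat_lit 1058), [nat_lit 1, nat_lit 0, nat_lit 5, nat_lit 3, nat_lit 5, nat_lit 2, nat_lit 4, nat_lit 0, nat_lit 1, nat_lit 0, nat_lit 3, nat_lit 1])) (.node (nat_lit 1404) (.leaf ((nat_lit 718), [nat_lit 5, nat_lit 4, nat_lit 1, nat_lit 0, nat_lit 5, nat_lit 4, nat_lit 1, nat_lit 3, nat_lit 0, nat_lit 2, nat_lit 0, nat_lit 2, nat_lit 2, nat_lit 0, nat_lit 1, nat_lit 0])) (.leaf ((nat_lit 1059), [nat_lit 4, nat_lit 3, nat_lit 5, nat_lit 0, nat_lit 5, nat_lit 4, nat_lit 1, nat_lit 4, nat_lit 1, nat_lit 4, nat_lit 1, nat_lit 0, nat_lit 2, nat_lit 0, nat_lit 2, nat_lit 2])))) (.node (nat_lit 1406) (.leaf ((nat_lit 1060), [nat_lit 2, nat_lit 4, nat_lit 2, nat_lit 0, nat_lit 5, nat_lit 4, nat_lit 3, nat_lit 0, nat_lit 4, nat_lit 0, nat_lit 2, nat_lit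 0, nat_lit 2, nat_lit 2, nat_lit 0, nat_lit 1, nat_lit 0])) (.node (nat_lit 1407) (.leaf ((nat_lit 542), [nat_lit 2, nat_lit 3, nat_lit 0, nat_lit 5, nat_lit 4, nat_lit 1, nat_lit 3, nat_lit 0, nat_lit 1, nat_lit 4, nat_lit 1, nat_lit 0, nat_lit 1, nat_lit 0, nat_lit 2, nat_lit 2, nat_lit 0])) (.leaf ((nat_lit 157), [nat_lit 1, nat_lit 5, nat_lit 1, nat_lit 4, nat_lit 3, nat_lit 1, nat_lit 0, nat_lit 4, nat_lit 2, nat_lit 0, nat_lit 1, nat_lit 0, nat_lit 1, nat_lit 0, nat_lit 2]))))))))))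
noncomputable def pWd_8 : Tr (ℕ × List ℕ) := (.node (nat_lit 1496) (.node (nat_lit 1452) (.node (nat_lit 1430) (.node (nat_lit 1419) (.node (nat_lit 1413) (.node (nat_lit 1410) (.node (nat_lit 1409) (.leaf ((nat_lit 1061), [nat_lit 4, nat_lit 2, nat_lit 0, nat_lit 5, nat_lit 3, nat_lit 4, nat_lit 2, nat_lit 3, nat_lit 2, nat_lit 2, nat_lit 0, nat_lit 2, nat_lit 2, nat_lit 0, nat_lit 1, nat_lit 0])) (.leaf ((nat_lit 739), [nat_lit 1, nat_lit 5, nat_lit 3, nat_lit 5, nat_lit 4, nat_lit 1, nat_lit 4, nat_lit 2, nat_lit 4, nat_lit 3, nat_lit 2, nat_lit 0, nat_lit 2, nat_lit 0, nat_lit 1]))) (.node (nat_lit 1411) (.leaf ((nat_lit 1062), [nat_lit 4, nat_lit 1, nat_lit 5, nat_lit 2, nat_lit 5, nat_lit 3, nat_lit 1, nat_lit 4, nat_lit 3, nat_lit 2, nat_lit 2, nat_lit 0, nat_lit 2, nat_lit 2, nat_lit 0, nat_lit 2, nat_lit 2])) (.node (nat_lit 1412) (.leaf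 ((nat_lit 227), [nat_lit 3, nat_lit 2, nat_lit 3, nat_lit 5, nat_lit 4, nat_lit 3, nat_lit 0, nat_lit 4, nat_lit 2, nat_lit 2, nat_lit 0, nat_lit 1, nat_lit 0])) (.leaf ((nat_lit 1063), [nat_lit 3, nat_lit 5, nat_lit 2, nat_lit 3, nat_lit 0, nat_lit 5, nat_lit 3, nat_lit 4, nat_lit 1, nat_lit 0, nat_lit 3, nat_lit 2, nat_lit 0, nat_lit 1, nat_lit 0, nat_lit 1])))))
 (.node (nat_lit 1416) (.node (nat_lit 1414) (.leaf ((nat_lit 1064), [nat_lit 3, nat_lit 0, nat_lit 2, nat_lit 5, nat_lit 4, nat_lit 0, nat_lit 4, nat_lit 0, nat_lit 4, nat_lit 0, nat_lit 1, nat_lit 0, nat_lit 1, nat_lit 0, nat_lit 2, nat_lit 0])) (.node (nat_lit 1415) (.leaf ((nat_lit 1050), [nat_lit 2, nat_lit 2, nat_lit 5, nat_lit 2, nat_lit 3, nat_lit 4, nat_lit 3, nat_lit 0, nat_lit 3, nat_lit 2, nat_lit 0, nat_lit 1, nat_lit 0, nat_lit 2, nat_lit 2])) (.leaf ((nat_lit 1065), [nat_lit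 1, nat_lit 4, nat_lit 2, nat_lit 5, nat_lit 1, nat_lit 0, nat_lit 3, nat_lit 0, nat_lit 4, nat_lit 1, nat_lit 0, nat_lit 2, nat_lit 2])))) (.node (nat_lit 1417) (.leaf ((nat_lit 67), [nat_lit 2, nat_lit 2, nat_lit 5, nat_lit 1, nat_lit 5, nat_lit 3, nat_lit 1, nat_lit 3, nat_lit 0, nat_lit 3, nat_lit 2, nat_lit 0, nat_lit 1, nat_lit 0, nat_lit 1])) (.node (nat_lit 1418) (.leaf ((nat_lit 884), [nat_lit 5, nat_lit 4, nat_lit 0, nat_lit 5, nat_lit 0, nat_lit 4, nat_lit 3, nat_lit 2, nat_lit 0, nat_lit 3, nat_lit 2, nat_lit 2, nat_lit 0, nat_lit 2, nat_lit 0, nat_lit 1, nat_lit 0])) (.leaf ((nat_lit 1066), [nat_lit 4, nat_lit 2, nat_lit 0, nat_lit 5, nat_lit 3, nat_lit 0, nat_lit 4, nat_lit 0, nat_lit 4, nat_lit 2, nat_lit 0, nat_lit 1, nat_lit 0, nat_lit 1, nat_lit 0, nat_lit 2]))))))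
 (.node (nat_lit 1424) (.node (nat_lit 1421) (.node (nat_lit 1420) (.leaf ((nat_lit 1067), [nat_lit 1, nat_lit 3, nat_lit 0, nat_lit 5, nat_lit 3, nat_lit 2, nat_lit 0, nat_lit 2, nat_lit 4, nat_lit 3, nat_lit 1, nat_lit 0, nat_lit 1, nat_lit 0, nat_lit 2, nat_lit 0, nat_lit 2])) (.leaf ((nat_lit 667), [nat_lit 5, nat_lit 3, nat_lit 5, nat_lit 3, nat_lit 1, nat_lit 4, nat_lit 3, nat_lit 0, nat_lit 1, nat_lit 0, nat_lit 2, nat_lit 0, nat_lit 2, nat_lit 2, nat_lit 0]))) (.node (nat_lit 1422) (.leaf ((nat_lit 870), [nat_lit 1, nat_lit 4, nat_lit 5, nat_lit 1, nat_lit 5, nat_lit 4, nat_lit 1, nat_lit 3, nat_lit 4, nat_lit 2, nat_lit 3, nat_lit 0, nat_lit 1, nat_lit 0, nat_lit 2, nat_lit 2])) (.node (nat_lit 1423) (.leaf ((nat_lit 195), [nat_lit 3, nat_lit 5, nat_lit 1, nat_lit 3, nat_lit 0, nat_lit 5, nat_lit 0, nat_lit 2, nat_lit 4, nat_lit 2, nat_lit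 4, nat_lit 2, nat_lit 2, nat_lit 0, nat_lit 2, nat_lit 0])) (.leaf ((nat_lit 1068), [nat_lit 4, nat_lit 1, nat_lit 5, nat_lit 3, nat_lit 5, nat_lit 4, nat_lit 3, nat_lit 0, nat_lit 2, nat_lit 2, nat_lit 3, nat_lit 0, nat_lit 1, nat_lit 0, nat_lit 1, nat_lit 0, nat_lit 2])))))
 (.node (nat_lit 1427) (.node (nat_lit 1425) (.leaf ((nat_lit 1069), [nat_lit 3, nat_lit 5, nat_lit 3, nat_lit 0, nat_lit 5, nat_lit 1, nat_lit 3, nat_lit 0, nat_lit 3, nat_lit 2, nat_lit 3, nat_lit 0, nat_lit 1, nat_lit 0, nat_lit 2, nat_lit 2])) (.node (nat_lit 1426) (.leaf ((nat_lit 1070), [nat_lit 5, nat_lit 2, nat_lit 5, nat_lit 2, nat_lit 2, nat_lit 0, nat_lit 3, nat_lit 0, nat_lit 4, nat_lit 2, nat_lit 0, nat_lit 2])) (.leaf ((nat_lit 1071), [nat_lit 2, nat_lit 5, nat_lit 1, nat_lit 5, nat_lit 1, nat_lit 4, nat_lit 1, nat_lit 0, nat_lit 3, nat_lit 2, nat_lit 0, nat_lit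 2, nat_lit 2, nat_lit 0, nat_lit 2, nat_lit 2, nat_lit 0])))) (.node (nat_lit 1428) (.leaf ((nat_lit 1072), [nat_lit 5, nat_lit 4, nat_lit 5, nat_lit 1, nat_lit 5, nat_lit 3, nat_lit 2, nat_lit 3, nat_lit 0, nat_lit 4, nat_lit 0, nat_lit 2, nat_lit 2, nat_lit 0, nat_lit 1, nat_lit 0, nat_lit 2, nat_lit 0])) (.node (nat_lit 1429) (.leaf ((nat_lit 1073), [nat_lit 2, nat_lit 2, nat_lit 0, nat_lit 5, nat_lit 0, nat_lit 4, nat_lit 1, nat_lit 3, nat_lit 0, nat_lit 3, nat_lit 2, nat_lit 2, nat_lit 0, nat_lit 2, nat_lit 2, nat_lit 0, nat_lit 2, nat_lit 2])) (.leaf ((nat_lit 1074), [nat_lit 3, nat_lit 5, nat_lit 2, nat_lit 5, nat_lit 2, nat_lit 3, nat_lit 4, nat_lit 3, nat_lit 2, nat_lit 2, nat_lit 0, nat_lit 2, nat_lit 2, nat_lit 0, nat_lit 2, nat_lit 2, nat_lit 0])))))))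
 (.node (nat_lit 1441) (.node (nat_lit 1435) (.node (nat_lit 1432) (.node (nat_lit 1431) (.leaf ((nat_lit 1075), [nat_lit 4, nat_lit 5, nat_lit 2, nat_lit 0, nat_lit 5, nat_lit 0, nat_lit 3, nat_lit 2, nat_lit 3, nat_lit 2, nat_lit 3, nat_lit 2, nat_lit 0, nat_lit 2])) (.leaf ((nat_lit 1076), [nat_lit 0, nat_lit 4, nat_lit 5, nat_lit 4, nat_lit 3, nat_lit 1, nat_lit 3, nat_lit 1, nat_lit 3, nat_lit 2, nat_lit 2, nat_lit 0, nat_lit 1, nat_lit 0, nat_lit 2]))) (.node (nat_lit 1433) (.leaf ((nat_lit 1077), [nat_lit 5, nat_lit 1, nat_lit 3, nat_lit 0, nat_lit 5, nat_lit 0, nat_lit 1, nat_lit 0, nat_lit 3, nat_lit 2, nat_lit 0, nat_lit 1, nat_lit 0, nat_lit 2, nat_lit 0])) (.node (nat_lit 1434) (.leaf ((nat_lit 206), [nat_lit 3, nat_lit 0, nat_lit 5, nat_lit 3, nat_lit 5, nat_lit 4, nat_lit 0, nat_lit 3, nat_lit 0, nat_lit 1, nat_lit 4, nat_lit 2, nat_lit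 0, nat_lit 1, nat_lit 0])) (.leaf ((nat_lit 930), [nat_lit 0, nat_lit 4, nat_lit 2, nat_lit 0, nat_lit 5, nat_lit 3, nat_lit 4, nat_lit 0, nat_lit 4, nat_lit 3, nat_lit 0, nat_lit 1, nat_lit 0, nat_lit 2, nat_lit 0, nat_lit 2, nat_lit 2])))))
 (.node (nat_lit 1438) (.node (nat_lit 1436) (.leaf ((nat_lit 1078), [nat_lit 2, nat_lit 2, nat_lit 5, nat_lit 1, nat_lit 5, nat_lit 4, nat_lit 2, nat_lit 0, nat_lit 2, nat_lit 4, nat_lit 0, nat_lit 1, nat_lit 0])) (.node (nat_lit 1437) (.leaf ((nat_lit 1079), [nat_lit 3, nat_lit 4, nat_lit 5, nat_lit 3, nat_lit 0, nat_lit 4, nat_lit 0, nat_lit 2, nat_lit 2, nat_lit 0, nat_lit 1, nat_lit 0])) (.leaf ((nat_lit 734), [nat_lit 5, nat_lit 2, nat_lit 5, nat_lit 0, nat_lit 4, nat_lit 1, nat_lit 0, nat_lit 3, nat_lit 2, nat_lit 0, nat_lit 1, nat_lit 0, nat_lit 2, nat_lit 0, nat_lit 2])))) (.node (nat_lit 1439) (.leaf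 ((nat_lit 301), [nat_lit 3, nat_lit 1, nat_lit 5, nat_lit 2, nat_lit 5, nat_lit 1, nat_lit 3, nat_lit 0, nat_lit 4, nat_lit 0, nat_lit 1, nat_lit 0, nat_lit 2, nat_lit 2, nat_lit 0])) (.node (nat_lit 1440) (.leaf ((nat_lit 552), [nat_lit 1, nat_lit 0, nat_lit 3, nat_lit 5, nat_lit 3, nat_lit 0, nat_lit 3, nat_lit 2, nat_lit 0, nat_lit 3, nat_lit 1, nat_lit 0, nat_lit 2, nat_lit 0, nat_lit 1, nat_lit 0])) (.leaf ((nat_lit 1080), [nat_lit 5, nat_lit 1, nat_lit 3, nat_lit 2, nat_lit 5, nat_lit 3, nat_lit 1, nat_lit 4, nat_lit 3, nat_lit 0, nat_lit 1, nat_lit 0, nat_lit 1, nat_lit 0]))))))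
 (.node (nat_lit 1446) (.node (nat_lit 1443) (.node (nat_lit 1442) (.leaf ((nat_lit 927), [nat_lit 5, nat_lit 3, nat_lit 5, nat_lit 2, nat_lit 4, nat_lit 3, nat_lit 0, nat_lit 2, nat_lit 3, nat_lit 1, nat_lit 0, nat_lit 2, nat_lit 2, nat_lit 0, nat_lit 2, nat_lit 2, nat_lit 0])) (.leaf ((nat_lit 1081), [nat_lit 0, nat_lit 5, nat_lit 3, nat_lit 5, nat_lit 1, nat_lit 0, nat_lit 3, nat_lit 4, nat_lit 0, nat_lit 2, nat_lit 0, nat_lit 1, nat_lit 0, nat_lit 1, nat_lit 0]))) (.node (nat_lit 1444) (.leaf ((nat_lit 233), [nat_lit 4, nat_lit 3, nat_lit 5, nat_lit 0, nat_lit 5, nat_lit 4, nat_lit 3, nat_lit 1, nat_lit 3, nat_lit 0, nat_lit 3, nat_lit 0, nat_lit 2, nat_lit 2, nat_lit 0])) (.node (nat_lit 1445) (.leaf ((nat_lit 1082), [nat_lit 0, nat_lit 4, nat_lit 2, nat_lit 0, nat_lit 5, nat_lit 2, nat_lit 0, nat_lit 4, nat_lit 1, nat_lit 4, nat_lit 2, nat_lit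 0, nat_lit 2, nat_lit 2, nat_lit 0, nat_lit 2, nat_lit 0])) (.leaf ((nat_lit 334), [nat_lit 2, nat_lit 5, nat_lit 0, nat_lit 5, nat_lit 3, nat_lit 0, nat_lit 2, nat_lit 4, nat_lit 1, nat_lit 0])))))
 (.node (nat_lit 1449) (.node (nat_lit 1447) (.leaf ((nat_lit 862), [nat_lit 5, nat_lit 4, nat_lit 2, nat_lit 0, nat_lit 5, nat_lit 4, nat_lit 0, nat_lit 3, nat_lit 0, nat_lit 1, nat_lit 4, nat_lit 0, nat_lit 1, nat_lit 0, nat_lit 2, nat_lit 2, nat_lit 0])) (.node (nat_lit 1448) (.leaf ((nat_lit 1083), [nat_lit 3, nat_lit 1, nat_lit 5, nat_lit 2, nat_lit 5, nat_lit 2, nat_lit 3, nat_lit 2, nat_lit 4, nat_lit 3, nat_lit 2, nat_lit 2, nat_lit 0, nat_lit 2, nat_lit 2, nat_lit 0, nat_lit 1, nat_lit 0])) (.leaf ((nat_lit 417), [nat_lit 5, nat_lit 0, nat_lit 4, nat_lit 5, nat_lit 1, nat_lit 3, nat_lit 2, nat_lit 4, nat_lit 2, nat_lit 3, nat_lit 2, nat_lit 2,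 nat_lit 0, nat_lit 2, nat_lit 0, nat_lit 1])))) (.node (nat_lit 1450) (.leaf ((nat_lit 1084), [nat_lit 4, nat_lit 5, nat_lit 4, nat_lit 0, nat_lit 5, nat_lit 0, nat_lit 4, nat_lit 2, nat_lit 3, nat_lit 0, nat_lit 3, nat_lit 0, nat_lit 2, nat_lit 0, nat_lit 2, nat_lit 2, nat_lit 0, nat_lit 2])) (.node (nat_lit 1451) (.leaf ((nat_lit 1085), [nat_lit 5, nat_lit 0, nat_lit 4, nat_lit 5, nat_lit 4, nat_lit 1, nat_lit 0, nat_lit 3, nat_lit 2, nat_lit 3, nat_lit 2, nat_lit 2, nat_lit 0, nat_lit 2, nat_lit 0, nat_lit 1])) (.leaf ((nat_lit 1086), [nat_lit 5, nat_lit 1, nat_lit 0, nat_lit 3, nat_lit 5, nat_lit 4, nat_lit 3, nat_lit 2, nat_lit 4, nat_lit 2, nat_lit 3, nat_lit 1, nat_lit 0, nat_lit 2, nat_lit 2, nat_lit 0, nat_lit 1, nat_lit 0]))))))))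
 (.node (nat_lit 1474) (.node (nat_lit 1463) (.node (nat_lit 1457) (.node (nat_lit 1454) (.node (nat_lit 1453) (.leaf ((nat_lit 144), [nat_lit 3, nat_lit 1, nat_lit 5, nat_lit 0, nat_lit 5, nat_lit 0, nat_lit 3, nat_lit 4, nat_lit 0, nat_lit 1, nat_lit 0, nat_lit 2, nat_lit 2, nat_lit 0, nat_lit 2, nat_lit 0])) (.leaf ((nat_lit 1087), [nat_lit 4, nat_lit 3, nat_lit 5, nat_lit 0, nat_lit 5, nat_lit 0, nat_lit 2, nat_lit 4, nat_lit 1, nat_lit 0, nat_lit 3, nat_lit 1, nat_lit 0, nat_lit 2, nat_lit 2]))) (.node (nat_lit 1455) (.leaf ((nat_lit 1088), [nat_lit 3, nat_lit 5, nat_lit 2, nat_lit 4, nat_lit 3, nat_lit 0, nat_lit 4, nat_lit 1, nat_lit 0, nat_lit 2, nat_lit 2, nat_lit 0, nat_lit 1])) (.node (nat_lit 1456) (.leaf ((nat_lit 1089), [nat_lit 1, nat_lit 3, nat_lit 2, nat_lit 5, nat_lit 0, nat_lit 3, nat_lit 2, nat_lit 0, nat_lit 3, nat_lit 1, nat_lit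 0, nat_lit 2, nat_lit 2, nat_lit 0, nat_lit 2, nat_lit 2])) (.leaf ((nat_lit 4), [nat_lit 1, nat_lit 5, nat_lit 1, nat_lit 5, nat_lit 3, nat_lit 0, nat_lit 4, nat_lit 3, nat_lit 2, nat_lit 3, nat_lit 2, nat_lit 0, nat_lit 2, nat_lit 2])))))
 (.node (nat_lit 1460) (.node (nat_lit 1458) (.leaf ((nat_lit 41), [nat_lit 3, nat_lit 5, nat_lit 2, nat_lit 3, nat_lit 0, nat_lit 5, nat_lit 1, nat_lit 0, nat_lit 3, nat_lit 0, nat_lit 2, nat_lit 2, nat_lit 0, nat_lit 2])) (.node (nat_lit 1459) (.leaf ((nat_lit 422), [nat_lit 4, nat_lit 3, nat_lit 5, nat_lit 4, nat_lit 0, nat_lit 2, nat_lit 4, nat_lit 2, nat_lit 0, nat_lit 2, nat_lit 2])) (.leaf ((nat_lit 1090), [nat_lit 4, nat_lit 5, nat_lit 3, nat_lit 5, nat_lit 3, nat_lit 0, nat_lit 1, nat_lit 4, nat_lit 2, nat_lit 0, nat_lit 1, nat_lit 0, nat_lit 1, nat_lit 0, nat_lit 2])))) (.node (nat_lit 1461) (.leaf ((nat_lit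 1091), [nat_lit 3, nat_lit 2, nat_lit 3, nat_lit 5, nat_lit 4, nat_lit 2, nat_lit 3, nat_lit 4, nat_lit 0, nat_lit 2, nat_lit 2, nat_lit 0, nat_lit 2, nat_lit 0, nat_lit 1])) (.node (nat_lit 1462) (.leaf ((nat_lit 375), [nat_lit 4, nat_lit 3, nat_lit 5, nat_lit 3, nat_lit 4, nat_lit 2, nat_lit 0, nat_lit 1, nat_lit 0, nat_lit 2, nat_lit 0, nat_lit 2, nat_lit 0])) (.leaf ((nat_lit 742), [nat_lit 5, nat_lit 4, nat_lit 2, nat_lit 0, nat_lit 5, nat_lit 1, nat_lit 3, nat_lit 4, nat_lit 2, nat_lit 3, nat_lit 2, nat_lit 0, nat_lit 2, nat_lit 2, nat_lit 0, nat_lit 1, nat_lit 0]))))))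
 (.node (nat_lit 1468) (.node (nat_lit 1465) (.node (nat_lit 1464) (.leaf ((nat_lit 897), [nat_lit 2, nat_lit 3, nat_lit 0, nat_lit 5, nat_lit 1, nat_lit 0, nat_lit 3, nat_lit 1, nat_lit 3, nat_lit 0, nat_lit 2, nat_lit 0, nat_lit 2, nat_lit 2])) (.leaf ((nat_lit 877), [nat_lit 5, nat_lit 0, nat_lit 3, nat_lit 5, nat_lit 4, nat_lit 1, nat_lit 4, nat_lit 1, nat_lit 3, nat_lit 2, nat_lit 2, nat_lit 0]))) (.node (nat_lit 1466) (.leaf ((nat_lit 446), [nat_lit 2, nat_lit 5, nat_lit 1, nat_lit 5, nat_lit 2, nat_lit 2, nat_lit 3, nat_lit 2, nat_lit 2, nat_lit 3, nat_lit 2, nat_lit 2, nat_lit 0, nat_lit 2, nat_lit 2])) (.node (nat_lit 1467) (.leaf ((nat_lit 1092), [nat_lit 2, nat_lit 4, nat_lit 0, nat_lit 5, nat_lit 2, nat_lit 4, nat_lit 2, nat_lit 3, nat_lit 4, nat_lit 2, nat_lit 2, nat_lit 0, nat_lit 1, nat_lit 0])) (.leaf ((nat_lit 1093), [nat_lit 4,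 nat_lit 3, nat_lit 0, nat_lit 5, nat_lit 3, nat_lit 0, nat_lit 4, nat_lit 1, nat_lit 3, nat_lit 1, nat_lit 0, nat_lit 2, nat_lit 2])))))
 (.node (nat_lit 1471) (.node (nat_lit 1469) (.leaf ((nat_lit 1094), [nat_lit 5, nat_lit 4, nat_lit 2, nat_lit 5, nat_lit 1, nat_lit 3, nat_lit 2, nat_lit 0, nat_lit 4, nat_lit 1, nat_lit 0, nat_lit 1, nat_lit 0, nat_lit 2, nat_lit 2])) (.node (nat_lit 1470) (.leaf ((nat_lit 928), [nat_lit 5, nat_lit 4, nat_lit 2, nat_lit 5, nat_lit 4, nat_lit 2, nat_lit 2, nat_lit 4, nat_lit 3, nat_lit 2, nat_lit 0, nat_lit 1, nat_lit 0, nat_lit 1, nat_lit 0, nat_lit 2])) (.leaf ((nat_lit 1095), [nat_lit 5, nat_lit 0, nat_lit 5, nat_lit 4, nat_lit 0, nat_lit 4, nat_lit 3, nat_lit 0, nat_lit 3, nat_lit 2, nat_lit 2, nat_lit 0, nat_lit 1, nat_lit 0, nat_lit 2, nat_lit 2])))) (.node (nat_lit 1472) (.leaf ((nat_lit 1096), [nat_lit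 4, nat_lit 5, nat_lit 2, nat_lit 5, nat_lit 1, nat_lit 4, nat_lit 1, nat_lit 4, nat_lit 0])) (.node (nat_lit 1473) (.leaf ((nat_lit 218), [nat_lit 1, nat_lit 5, nat_lit 0, nat_lit 5, nat_lit 2, nat_lit 3, nat_lit 1, nat_lit 3, nat_lit 0, nat_lit 3, nat_lit 2, nat_lit 0, nat_lit 1, nat_lit 0, nat_lit 2, nat_lit 2])) (.leaf ((nat_lit 699), [nat_lit 3, nat_lit 5, nat_lit 3, nat_lit 0, nat_lit 5, nat_lit 4, nat_lit 1, nat_lit 0, nat_lit 3, nat_lit 2, nat_lit 3, nat_lit 0, nat_lit 2, nat_lit 2, nat_lit 0, nat_lit 2, nat_lit 0, nat_lit 1])))))))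
 (.node (nat_lit 1485) (.node (nat_lit 1479) (.node (nat_lit 1476) (.node (nat_lit 1475) (.leaf ((nat_lit 28), [nat_lit 5, nat_lit 1, nat_lit 0, nat_lit 3, nat_lit 5, nat_lit 0, nat_lit 4, nat_lit 1, nat_lit 3, nat_lit 0, nat_lit 3, nat_lit 2])) (.leaf ((nat_lit 791), [nat_lit 2, nat_lit 3, nat_lit 5, nat_lit 1, nat_lit 4, nat_lit 1, nat_lit 3, nat_lit 0, nat_lit 2, nat_lit 0, nat_lit 2]))) (.node (nat_lit 1477) (.leaf ((nat_lit 1097), [nat_lit 3, nat_lit 2, nat_lit 0, nat_lit 5, nat_lit 3, nat_lit 0, nat_lit 4, nat_lit 3, nat_lit 0, nat_lit 3, nat_lit 2, nat_lit 0, nat_lit 1, nat_lit 0, nat_lit 2, nat_lit 0, nat_lit 2, nat_lit 0])) (.node (nat_lit 1478) (.leaf ((nat_lit 1098), [nat_lit 4, nat_lit 0, nat_lit 5, nat_lit 2, nat_lit 5, nat_lit 3, nat_lit 2, nat_lit 3, nat_lit 2, nat_lit 0, nat_lit 4, nat_lit 2, nat_lit 2, nat_lit 0, nat_lit 1, nat_lit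 0, nat_lit 2, nat_lit 2, nat_lit 0])) (.leaf ((nat_lit 1099), [nat_lit 1, nat_lit 5, nat_lit 3, nat_lit 5, nat_lit 2, nat_lit 0, nat_lit 4, nat_lit 2, nat_lit 2, nat_lit 0, nat_lit 2, nat_lit 2, nat_lit 0, nat_lit 2, nat_lit 0])))))
 (.node (nat_lit 1482) (.node (nat_lit 1480) (.leaf ((nat_lit 1100), [nat_lit 2, nat_lit 5, nat_lit 1, nat_lit 3, nat_lit 1, nat_lit 0, nat_lit 4, nat_lit 1, nat_lit 0, nat_lit 2, nat_lit 2])) (.node (nat_lit 1481) (.leaf ((nat_lit 992), [nat_lit 3, nat_lit 2, nat_lit 5, nat_lit 0, nat_lit 5, nat_lit 1, nat_lit 3, nat_lit 2, nat_lit 0, nat_lit 4, nat_lit 1, nat_lit 0, nat_lit 2, nat_lit 2, nat_lit 0])) (.leaf ((nat_lit 194), [nat_lit 0, nat_lit 5, nat_lit 2, nat_lit 5, nat_lit 4, nat_lit 1, nat_lit 4, nat_lit 1, nat_lit 4, nat_lit 3, nat_lit 2, nat_lit 0, nat_lit 2, nat_lit 2, nat_lit 0, nat_lit 2, nat_lit 2, nat_lit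 0])))) (.node (nat_lit 1483) (.leaf ((nat_lit 466), [nat_lit 0, nat_lit 5, nat_lit 2, nat_lit 3, nat_lit 5, nat_lit 4, nat_lit 0, nat_lit 2, nat_lit 4, nat_lit 1, nat_lit 0, nat_lit 2, nat_lit 2, nat_lit 0, nat_lit 1])) (.node (nat_lit 1484) (.leaf ((nat_lit 54), [nat_lit 3, nat_lit 4, nat_lit 3, nat_lit 5, nat_lit 2, nat_lit 4, nat_lit 3, nat_lit 1, nat_lit 4, nat_lit 3, nat_lit 0, nat_lit 1, nat_lit 0, nat_lit 1, nat_lit 0])) (.leaf ((nat_lit 1101), [nat_lit 1, nat_lit 5, nat_lit 1, nat_lit 5, nat_lit 2, nat_lit 3, nat_lit 0, nat_lit 2, nat_lit 4, nat_lit 2, nat_lit 0, nat_lit 1]))))))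
 (.node (nat_lit 1490) (.node (nat_lit 1487) (.node (nat_lit 1486) (.leaf ((nat_lit 1102), [nat_lit 2, nat_lit 5, nat_lit 1, nat_lit 5, nat_lit 3, nat_lit 2, nat_lit 4, nat_lit 2, nat_lit 3, nat_lit 2, nat_lit 0, nat_lit 1, nat_lit 0, nat_lit 1, nat_lit 0])) (.leaf ((nat_lit 1103), [nat_lit 2, nat_lit 5, nat_lit 4, nat_lit 5, nat_lit 0, nat_lit 4, nat_lit 2, nat_lit 3, nat_lit 4, nat_lit 2, nat_lit 2, nat_lit 0, nat_lit 1]))) (.node (nat_lit 1488) (.leaf ((nat_lit 1104), [nat_lit 3, nat_lit 2, nat_lit 3, nat_lit 5, nat_lit 0, nat_lit 4, nat_lit 2, nat_lit 0, nat_lit 2])) (.node (nat_lit 1489) (.leaf ((nat_lit 1105), [nat_lit 4, nat_lit 1, nat_lit 5, nat_lit 0, nat_lit 5, nat_lit 0, nat_lit 3, nat_lit 2, nat_lit 3, nat_lit 1, nat_lit 0, nat_lit 2, nat_lit 2, nat_lit 0, nat_lit 2, nat_lit 2])) (.leaf ((nat_lit 942), [nat_lit 3, nat_lit 0, nat_lit 5,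 nat_lit 3, nat_lit 5, nat_lit 2, nat_lit 2, nat_lit 4, nat_lit 1, nat_lit 0, nat_lit 3, nat_lit 0, nat_lit 2, nat_lit 0, nat_lit 2, nat_lit 2, nat_lit 0, nat_lit 2, nat_lit 0])))))
 (.node (nat_lit 1493) (.node (nat_lit 1491) (.leaf ((nat_lit 986), [nat_lit 4, nat_lit 2, nat_lit 0, nat_lit 5, nat_lit 0, nat_lit 1, nat_lit 4, nat_lit 3, nat_lit 2, nat_lit 3, nat_lit 1, nat_lit 0, nat_lit 2, nat_lit 2, nat_lit 0, nat_lit 2, nat_lit 2])) (.node (nat_lit 1492) (.leaf ((nat_lit 1106), [nat_lit 0, nat_lit 2, nat_lit 5, nat_lit 0, nat_lit 3, nat_lit 0, nat_lit 1, nat_lit 4, nat_lit 2, nat_lit 2, nat_lit 0, nat_lit 2, nat_lit 0])) (.leaf ((nat_lit 1107), [nat_lit 5, nat_lit 3, nat_lit 2, nat_lit 5, nat_lit 4, nat_lit 0, nat_lit 3, nat_lit 1, nat_lit 3, nat_lit 1, nat_lit 0, nat_lit 2, nat_lit 0, nat_lit 1, nat_lit 0])))) (.node (nat_lit 1494) (.leaf ((nat_lit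 676), [nat_lit 4, nat_lit 0, nat_lit 5, nat_lit 2, nat_lit 5, nat_lit 4, nat_lit 2, nat_lit 0, nat_lit 1, nat_lit 0, nat_lit 3, nat_lit 1, nat_lit 0, nat_lit 1, nat_lit 0, nat_lit 2, nat_lit 0, nat_lit 2, nat_lit 0])) (.node (nat_lit 1495) (.leaf ((nat_lit 1108), [nat_lit 5, nat_lit 4, nat_lit 2, nat_lit 0, nat_lit 5, nat_lit 1, nat_lit 4, nat_lit 0, nat_lit 4, nat_lit 2, nat_lit 0, nat_lit 3, nat_lit 0, nat_lit 1, nat_lit 0, nat_lit 1, nat_lit 0, nat_lit 2, nat_lit 0])) (.leaf ((nat_lit 396), [nat_lit 0, nat_lit 4, nat_lit 2, nat_lit 0, nat_lit 5, nat_lit 2, nat_lit 0, nat_lit 3, nat_lit 1, nat_lit 3, nat_lit 1, nat_lit 0, nat_lit 1, nat_lit 0, nat_lit 2, nat_lit 0, nat_lit 2])))))))))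
 (.node (nat_lit 1540) (.node (nat_lit 1518) (.node (nat_lit 1507) (.node (nat_lit 1501) (.node (nat_lit 1498) (.node (nat_lit 1497) (.leaf ((nat_lit 975), [nat_lit 5, nat_lit 1, nat_lit 3, nat_lit 0, nat_lit 5, nat_lit 2, nat_lit 4, nat_lit 0, nat_lit 4, nat_lit 0, nat_lit 4, nat_lit 2, nat_lit 2, nat_lit 0, nat_lit 2, nat_lit 2, nat_lit 0, nat_lit 2, nat_lit 2])) (.leaf ((nat_lit 1109), [nat_lit 5, nat_lit 4, nat_lit 5, nat_lit 3, nat_lit 5, nat_lit 3, nat_lit 4, nat_lit 3, nat_lit 1, nat_lit 0, nat_lit 2]))) (.node (nat_lit 1499) (.leaf ((nat_lit 905), [nat_lit 2, nat_lit 0, nat_lit 5, nat_lit 0, nat_lit 2, nat_lit 3, nat_lit 4, nat_lit 1, nat_lit 3, nat_lit 2, nat_lit 0, nat_lit 2, nat_lit 0])) (.node (nat_lit 1500) (.leaf ((nat_lit 1030), [nat_lit 2, nat_lit 4, nat_lit 2, nat_lit 0, nat_lit 5, nat_lit 3, nat_lit 0, nat_lit 4, nat_lit 3, nat_lit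 0, nat_lit 4, nat_lit 2, nat_lit 0, nat_lit 2, nat_lit 0, nat_lit 1])) (.leaf ((nat_lit 1110), [nat_lit 5, nat_lit 1, nat_lit 0, nat_lit 3, nat_lit 5, nat_lit 0, nat_lit 1, nat_lit 0, nat_lit 3, nat_lit 2, nat_lit 3, nat_lit 0, nat_lit 2, nat_lit 0, nat_lit 2, nat_lit 2])))))
 (.node (nat_lit 1504) (.node (nat_lit 1502) (.leaf ((nat_lit 627), [nat_lit 4, nat_lit 3, nat_lit 2, nat_lit 4, nat_lit 0, nat_lit 1, nat_lit 0, nat_lit 2, nat_lit 0, nat_lit 2, nat_lit 2, nat_lit 0])) (.node (nat_lit 1503) (.leaf ((nat_lit 1111), [nat_lit 3, nat_lit 0, nat_lit 2, nat_lit 5, nat_lit 3, nat_lit 2, nat_lit 4, nat_lit 2, nat_lit 3, nat_lit 4, nat_lit 1, nat_lit 0, nat_lit 1, nat_lit 0, nat_lit 2, nat_lit 2])) (.leaf ((nat_lit 1112), [nat_lit 3, nat_lit 4, nat_lit 5, nat_lit 0, nat_lit 1, nat_lit 0, nat_lit 4, nat_lit 1, nat_lit 3, nat_lit 0, nat_lit 2, nat_lit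 0, nat_lit 2, nat_lit 2])))) (.node (nat_lit 1505) (.leaf ((nat_lit 0), [nat_lit 0, nat_lit 5, nat_lit 3, nat_lit 4, nat_lit 0, nat_lit 3, nat_lit 0, nat_lit 2, nat_lit 0, nat_lit 1, nat_lit 0])) (.node (nat_lit 1506) (.leaf ((nat_lit 997), [nat_lit 5, nat_lit 4, nat_lit 2, nat_lit 5, nat_lit 2, nat_lit 4, nat_lit 0, nat_lit 1, nat_lit 4, nat_lit 0, nat_lit 2, nat_lit 0, nat_lit 2, nat_lit 0])) (.leaf ((nat_lit 1113), [nat_lit 4, nat_lit 3, nat_lit 5, nat_lit 2, nat_lit 5, nat_lit 4, nat_lit 2, nat_lit 3, nat_lit 0, nat_lit 4, nat_lit 1, nat_lit 0, nat_lit 2, nat_lit 2, nat_lit 0, nat_lit 2, nat_lit 2, nat_lit 0]))))))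
 (.node (nat_lit 1512) (.node (nat_lit 1509) (.node (nat_lit 1508) (.leaf ((nat_lit 111), [nat_lit 4, nat_lit 0, nat_lit 5, nat_lit 2, nat_lit 5, nat_lit 1, nat_lit 4, nat_lit 0, nat_lit 3, nat_lit 4, nat_lit 2, nat_lit 0, nat_lit 1])) (.leaf ((nat_lit 110), [nat_lit 5, nat_lit 1, nat_lit 3, nat_lit 0, nat_lit 5, nat_lit 1, nat_lit 3, nat_lit 2, nat_lit 2, nat_lit 3, nat_lit 1, nat_lit 0, nat_lit 1, nat_lit 0, nat_lit 2, nat_lit 0]))) (.node (nat_lit 1510) (.leaf ((nat_lit 60), [nat_lit 5, nat_lit 0, nat_lit 3, nat_lit 5, nat_lit 4, nat_lit 0, nat_lit 4, nat_lit 0, nat_lit 4, nat_lit 2, nat_lit 2, nat_lit 0, nat_lit 2, nat_lit 2, nat_lit 0, nat_lit 1, nat_lit 0])) (.node (nat_lit 1511) (.leaf ((nat_lit 1114), [nat_lit 0, nat_lit 5, nat_lit 2, nat_lit 5, nat_lit 3, nat_lit 0, nat_lit 2, nat_lit 4, nat_lit 0, nat_lit 2, nat_lit 2, nat_lit 0, nat_lit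 2, nat_lit 2, nat_lit 0])) (.leaf ((nat_lit 712), [nat_lit 4, nat_lit 5, nat_lit 3, nat_lit 5, nat_lit 2, nat_lit 3, nat_lit 1, nat_lit 3, nat_lit 4, nat_lit 1, nat_lit 0, nat_lit 2, nat_lit 2, nat_lit 0, nat_lit 2, nat_lit 0])))))
 (.node (nat_lit 1515) (.node (nat_lit 1513) (.leaf ((nat_lit 1115), [nat_lit 3, nat_lit 2, nat_lit 5, nat_lit 2, nat_lit 0, nat_lit 3, nat_lit 4, nat_lit 2, nat_lit 2, nat_lit 0, nat_lit 2, nat_lit 2])) (.node (nat_lit 1514) (.leaf ((nat_lit 1116), [nat_lit 2, nat_lit 0, nat_lit 2, nat_lit 5, nat_lit 0, nat_lit 2, nat_lit 0, nat_lit 3, nat_lit 4, nat_lit 2, nat_lit 0, nat_lit 2, nat_lit 2, nat_lit 0, nat_lit 2, nat_lit 0])) (.leaf ((nat_lit 1117), [nat_lit 0, nat_lit 5, nat_lit 2, nat_lit 0, nat_lit 5, nat_lit 0, nat_lit 3, nat_lit 1, nat_lit 3, nat_lit 4, nat_lit 3, nat_lit 2, nat_lit 0])))) (.node (nat_lit 1516) (.leaf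 ((nat_lit 1023), [nat_lit 2, nat_lit 5, nat_lit 3, nat_lit 5, nat_lit 4, nat_lit 3, nat_lit 0, nat_lit 3, nat_lit 0, nat_lit 1, nat_lit 0, nat_lit 2, nat_lit 0, nat_lit 2])) (.node (nat_lit 1517) (.leaf ((nat_lit 1089), [nat_lit 3, nat_lit 5, nat_lit 2, nat_lit 3, nat_lit 0, nat_lit 5, nat_lit 4, nat_lit 1, nat_lit 0, nat_lit 3, nat_lit 1, nat_lit 4, nat_lit 2, nat_lit 0, nat_lit 2, nat_lit 2, nat_lit 0, nat_lit 2])) (.leaf ((nat_lit 971), [nat_lit 0, nat_lit 4, nat_lit 2, nat_lit 0, nat_lit 5, nat_lit 2, nat_lit 2, nat_lit 0, nat_lit 3, nat_lit 0, nat_lit 4, nat_lit 2, nat_lit 2, nat_lit 0, nat_lit 2, nat_lit 2, nat_lit 0, nat_lit 2])))))))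
 (.node (nat_lit 1529) (.node (nat_lit 1523) (.node (nat_lit 1520) (.node (nat_lit 1519) (.leaf ((nat_lit 456), [nat_lit 2, nat_lit 5, nat_lit 4, nat_lit 5, nat_lit 2, nat_lit 4, nat_lit 0, nat_lit 1, nat_lit 0, nat_lit 3, nat_lit 1, nat_lit 0, nat_lit 2, nat_lit 2, nat_lit 0, nat_lit 2, nat_lit 0])) (.leaf ((nat_lit 991), [nat_lit 1, nat_lit 0, nat_lit 2, nat_lit 5, nat_lit 2, nat_lit 4, nat_lit 3, nat_lit 0, nat_lit 2, nat_lit 4, nat_lit 2, nat_lit 0, nat_lit 1, nat_lit 0, nat_lit 2]))) (.node (nat_lit 1521) (.leaf ((nat_lit 1118), [nat_lit 4, nat_lit 5, nat_lit 3, nat_lit 5, nat_lit 4, nat_lit 1, nat_lit 0, nat_lit 4, nat_lit 3, nat_lit 0, nat_lit 2, nat_lit 0, nat_lit 2, nat_lit 2, nat_lit 0, nat_lit 1])) (.node (nat_lit 1522) (.leaf ((nat_lit 442), [nat_lit 0, nat_lit 3, nat_lit 5, nat_lit 3, nat_lit 2, nat_lit 0, nat_lit 2, nat_lit 3, nat_lit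 0, nat_lit 2, nat_lit 0, nat_lit 2, nat_lit 2, nat_lit 0, nat_lit 1])) (.leaf ((nat_lit 807), [nat_lit 2, nat_lit 0, nat_lit 1, nat_lit 5, nat_lit 3, nat_lit 0, nat_lit 3, nat_lit 2, nat_lit 3, nat_lit 0, nat_lit 2, nat_lit 2, nat_lit 0, nat_lit 2, nat_lit 0, nat_lit 1])))))
 (.node (nat_lit 1526) (.node (nat_lit 1524) (.leaf ((nat_lit 405), [nat_lit 2, nat_lit 3, nat_lit 5, nat_lit 0, nat_lit 5, nat_lit 3, nat_lit 0, nat_lit 2, nat_lit 4, nat_lit 3, nat_lit 1, nat_lit 0, nat_lit 2, nat_lit 0, nat_lit 2, nat_lit 2])) (.node (nat_lit 1525) (.leaf ((nat_lit 395), [nat_lit 5, nat_lit 2, nat_lit 0, nat_lit 5, nat_lit 2, nat_lit 0, nat_lit 3, nat_lit 0, nat_lit 4, nat_lit 2, nat_lit 0, nat_lit 1, nat_lit 0, nat_lit 2, nat_lit 0])) (.leaf ((nat_lit 1119), [nat_lit 4, nat_lit 1, nat_lit 5, nat_lit 0, nat_lit 5, nat_lit 2, nat_lit 2, nat_lit 3, nat_lit 4,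 nat_lit 0, nat_lit 2, nat_lit 0, nat_lit 2, nat_lit 2, nat_lit 0, nat_lit 1])))) (.node (nat_lit 1527) (.leaf ((nat_lit 1003), [nat_lit 3, nat_lit 5, nat_lit 1, nat_lit 3, nat_lit 2, nat_lit 5, nat_lit 1, nat_lit 4, nat_lit 2, nat_lit 3, nat_lit 1, nat_lit 3, nat_lit 0, nat_lit 2, nat_lit 0, nat_lit 2, nat_lit 2, nat_lit 0])) (.node (nat_lit 1528) (.leaf ((nat_lit 27), [nat_lit 0, nat_lit 1, nat_lit 5, nat_lit 1, nat_lit 4, nat_lit 2, nat_lit 4, nat_lit 3, nat_lit 2, nat_lit 0, nat_lit 1, nat_lit 0, nat_lit 1])) (.leaf ((nat_lit 1120), [nat_lit 0, nat_lit 4, nat_lit 2, nat_lit 0, nat_lit 5, nat_lit 3, nat_lit 4, nat_lit 2, nat_lit 0, nat_lit 2, nat_lit 3, nat_lit 1, nat_lit 0, nat_lit 2, nat_lit 2, nat_lit 0, nat_lit 2, nat_lit 0]))))))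
 (.node (nat_lit 1534) (.node (nat_lit 1531) (.node (nat_lit 1530) (.leaf ((nat_lit 1121), [nat_lit 2, nat_lit 2, nat_lit 0, nat_lit 5, nat_lit 3, nat_lit 0, nat_lit 2, nat_lit 4, nat_lit 3, nat_lit 0, nat_lit 1, nat_lit 0, nat_lit 2, nat_lit 2])) (.leaf ((nat_lit 333), [nat_lit 5, nat_lit 4, nat_lit 3, nat_lit 0, nat_lit 5, nat_lit 0, nat_lit 3, nat_lit 0, nat_lit 1, nat_lit 4, nat_lit 1, nat_lit 0, nat_lit 2, nat_lit 2, nat_lit 0, nat_lit 2, nat_lit 2, nat_lit 0]))) (.node (nat_lit 1532) (.leaf ((nat_lit 1122), [nat_lit 5, nat_lit 3, nat_lit 2, nat_lit 0, nat_lit 5, nat_lit 2, nat_lit 0, nat_lit 2, nat_lit 2, nat_lit 3, nat_lit 0, nat_lit 1, nat_lit 0, nat_lit 2])) (.node (nat_lit 1533) (.leaf ((nat_lit 765), [nat_lit 3, nat_lit 5, nat_lit 0, nat_lit 5, nat_lit 0, nat_lit 4, nat_lit 1, nat_lit 3, nat_lit 0, nat_lit 3, nat_lit 2, nat_lit 2, nat_lit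 0, nat_lit 2, nat_lit 2])) (.leaf ((nat_lit 1092), [nat_lit 1, nat_lit 0, nat_lit 5, nat_lit 2, nat_lit 3, nat_lit 1, nat_lit 3, nat_lit 0, nat_lit 3, nat_lit 1, nat_lit 0, nat_lit 2, nat_lit 0, nat_lit 2])))))
 (.node (nat_lit 1537) (.node (nat_lit 1535) (.leaf ((nat_lit 313), [nat_lit 0, nat_lit 2, nat_lit 5, nat_lit 4, nat_lit 0, nat_lit 3, nat_lit 4, nat_lit 2, nat_lit 2, nat_lit 0, nat_lit 2, nat_lit 2, nat_lit 0, nat_lit 2])) (.node (nat_lit 1536) (.leaf ((nat_lit 424), [nat_lit 4, nat_lit 0, nat_lit 5, nat_lit 0, nat_lit 4, nat_lit 2, nat_lit 3, nat_lit 4, nat_lit 2, nat_lit 2, nat_lit 0, nat_lit 2, nat_lit 0, nat_lit 1])) (.leaf ((nat_lit 126), [nat_lit 0, nat_lit 5, nat_lit 2, nat_lit 5, nat_lit 2, nat_lit 3, nat_lit 4, nat_lit 1, nat_lit 3, nat_lit 0, nat_lit 1, nat_lit 0, nat_lit 2, nat_lit 2, nat_lit 0, nat_lit 1])))) (.node (nat_lit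 1538) (.leaf ((nat_lit 495), [nat_lit 2, nat_lit 5, nat_lit 1, nat_lit 5, nat_lit 2, nat_lit 4, nat_lit 1, nat_lit 0, nat_lit 1, nat_lit 0, nat_lit 3, nat_lit 2, nat_lit 0, nat_lit 2, nat_lit 0, nat_lit 1, nat_lit 0])) (.node (nat_lit 1539) (.leaf ((nat_lit 882), [nat_lit 3, nat_lit 1, nat_lit 5, nat_lit 0, nat_lit 5, nat_lit 2, nat_lit 0, nat_lit 4, nat_lit 1, nat_lit 3, nat_lit 0, nat_lit 2, nat_lit 2, nat_lit 0, nat_lit 1, nat_lit 0, nat_lit 2])) (.leaf ((nat_lit 1123), [nat_lit 0, nat_lit 4, nat_lit 2, nat_lit 0, nat_lit 5, nat_lit 0, nat_lit 4, nat_lit 2, nat_lit 0, nat_lit 2, nat_lit 3, nat_lit 1, nat_lit 0, nat_lit 1, nat_lit 0, nat_lit 2, nat_lit 0, nat_lit 2, nat_lit 0]))))))))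
 (.node (nat_lit 1562) (.node (nat_lit 1551) (.node (nat_lit 1545) (.node (nat_lit 1542) (.node (nat_lit 1541) (.leaf ((nat_lit 168), [nat_lit 0, nat_lit 5, nat_lit 3, nat_lit 2, nat_lit 0, nat_lit 1, nat_lit 0, nat_lit 3, nat_lit 0, nat_lit 2, nat_lit 2, nat_lit 0, nat_lit 1, nat_lit 0, nat_lit 2, nat_lit 0])) (.leaf ((nat_lit 1124), [nat_lit 4, nat_lit 5, nat_lit 3, nat_lit 0, nat_lit 5, nat_lit 1, nat_lit 4, nat_lit 0, nat_lit 1, nat_lit 0, nat_lit 3, nat_lit 2, nat_lit 0, nat_lit 1, nat_lit 0]))) (.node (nat_lit 1543) (.leaf ((nat_lit 1125), [nat_lit 4, nat_lit 3, nat_lit 5, nat_lit 0, nat_lit 5, nat_lit 3, nat_lit 2, nat_lit 2, nat_lit 0, nat_lit 4, nat_lit 2, nat_lit 0, nat_lit 2, nat_lit 2, nat_lit 0, nat_lit 2])) (.node (nat_lit 1544) (.leaf ((nat_lit 1126), [nat_lit 4, nat_lit 5, nat_lit 1, nat_lit 5, nat_lit 3, nat_lit 0, nat_lit 4, nat_lit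 3, nat_lit 0, nat_lit 3, nat_lit 1, nat_lit 0, nat_lit 1, nat_lit 0, nat_lit 2])) (.leaf ((nat_lit 1127), [nat_lit 3, nat_lit 0, nat_lit 2, nat_lit 5, nat_lit 3, nat_lit 4, nat_lit 0, nat_lit 3, nat_lit 4, nat_lit 2, nat_lit 0, nat_lit 2, nat_lit 0, nat_lit 1, nat_lit 0])))))
 (.node (nat_lit 1548) (.node (nat_lit 1546) (.leaf ((nat_lit 1128), [nat_lit 5, nat_lit 4, nat_lit 3, nat_lit 0, nat_lit 5, nat_lit 2, nat_lit 3, nat_lit 1, nat_lit 3, nat_lit 4, nat_lit 3, nat_lit 2, nat_lit 0, nat_lit 2, nat_lit 2, nat_lit 0, nat_lit 2, nat_lit 2])) (.node (nat_lit 1547) (.leaf ((nat_lit 22), [nat_lit 0, nat_lit 5, nat_lit 3, nat_lit 0, nat_lit 5, nat_lit 2, nat_lit 3, nat_lit 4, nat_lit 2, nat_lit 4, nat_lit 2, nat_lit 2, nat_lit 0, nat_lit 2, nat_lit 2, nat_lit 0, nat_lit 2, nat_lit 2, nat_lit 0])) (.leaf ((nat_lit 640), [nat_lit 4, nat_lit 5, nat_lit 1,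 nat_lit 5, nat_lit 0, nat_lit 4, nat_lit 1, nat_lit 4, nat_lit 2, nat_lit 2, nat_lit 0, nat_lit 1, nat_lit 0, nat_lit 2, nat_lit 2])))) (.node (nat_lit 1549) (.leaf ((nat_lit 596), [nat_lit 3, nat_lit 5, nat_lit 1, nat_lit 3, nat_lit 2, nat_lit 5, nat_lit 3, nat_lit 0, nat_lit 4, nat_lit 1, nat_lit 0, nat_lit 3, nat_lit 2, nat_lit 2, nat_lit 0, nat_lit 2, nat_lit 2, nat_lit 0, nat_lit 2])) (.node (nat_lit 1550) (.leaf ((nat_lit 1129), [nat_lit 4, nat_lit 3, nat_lit 0, nat_lit 5, nat_lit 2, nat_lit 4, nat_lit 0, nat_lit 1, nat_lit 4, nat_lit 2, nat_lit 0, nat_lit 2, nat_lit 2, nat_lit 0, nat_lit 2])) (.leaf ((nat_lit 1130), [nat_lit 5, nat_lit 4, nat_lit 5, nat_lit 3, nat_lit 1, nat_lit 3, nat_lit 4, nat_lit 3, nat_lit 0, nat_lit 1, nat_lit 0, nat_lit 2, nat_lit 0, nat_lit 2]))))))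
 (.node (nat_lit 1556) (.node (nat_lit 1553) (.node (nat_lit 1552) (.leaf ((nat_lit 1131), [nat_lit 4, nat_lit 3, nat_lit 5, nat_lit 0, nat_lit 5, nat_lit 3, nat_lit 2, nat_lit 0, nat_lit 3, nat_lit 1, nat_lit 0, nat_lit 2, nat_lit 2, nat_lit 0, nat_lit 2])) (.leaf ((nat_lit 1132), [nat_lit 1, nat_lit 5, nat_lit 2, nat_lit 5, nat_lit 0, nat_lit 4, nat_lit 0, nat_lit 4, nat_lit 0, nat_lit 2, nat_lit 2, nat_lit 0, nat_lit 2, nat_lit 2, nat_lit 0]))) (.node (nat_lit 1554) (.leaf ((nat_lit 1133), [nat_lit 5, nat_lit 1, nat_lit 5, nat_lit 0, nat_lit 5, nat_lit 2, nat_lit 4, nat_lit 0, nat_lit 4, nat_lit 0, nat_lit 4, nat_lit 2, nat_lit 2, nat_lit 0, nat_lit 1, nat_lit 0, nat_lit 2])) (.node (nat_lit 1555) (.leaf ((nat_lit 1068), [nat_lit 5, nat_lit 4, nat_lit 1, nat_lit 0, nat_lit 5, nat_lit 1, nat_lit 3, nat_lit 4, nat_lit 3, nat_lit 1, nat_lit 3, nat_lit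 0, nat_lit 1, nat_lit 0, nat_lit 2, nat_lit 2, nat_lit 0])) (.leaf ((nat_lit 1134), [nat_lit 4, nat_lit 5, nat_lit 2, nat_lit 5, nat_lit 4, nat_lit 1, nat_lit 0, nat_lit 3, nat_lit 4, nat_lit 0, nat_lit 1, nat_lit 0, nat_lit 2, nat_lit 2, nat_lit 0, nat_lit 2, nat_lit 0])))))
 (.node (nat_lit 1559) (.node (nat_lit 1557) (.leaf ((nat_lit 1135), [nat_lit 2, nat_lit 5, nat_lit 1, nat_lit 5, nat_lit 4, nat_lit 3, nat_lit 0, nat_lit 2, nat_lit 3, nat_lit 0, nat_lit 2, nat_lit 0, nat_lit 2, nat_lit 2, nat_lit 0, nat_lit 1, nat_lit 0])) (.node (nat_lit 1558) (.leaf ((nat_lit 754), [nat_lit 4, nat_lit 5, nat_lit 2, nat_lit 2, nat_lit 4, nat_lit 3, nat_lit 0, nat_lit 1, nat_lit 0, nat_lit 2, nat_lit 0, nat_lit 2, nat_lit 2])) (.leaf ((nat_lit 625), [nat_lit 3, nat_lit 4, nat_lit 3, nat_lit 5, nat_lit 3, nat_lit 2, nat_lit 2, nat_lit 0, nat_lit 4, nat_lit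 0, nat_lit 1, nat_lit 0, nat_lit 2, nat_lit 2, nat_lit 0])))) (.node (nat_lit 1560) (.leaf ((nat_lit 1136), [nat_lit 0, nat_lit 5, nat_lit 2, nat_lit 3, nat_lit 5, nat_lit 4, nat_lit 2, nat_lit 3, nat_lit 4, nat_lit 3, nat_lit 2, nat_lit 2, nat_lit 0, nat_lit 2, nat_lit 2, nat_lit 0])) (.node (nat_lit 1561) (.leaf ((nat_lit 868), [nat_lit 2, nat_lit 2, nat_lit 0, nat_lit 5, nat_lit 1, nat_lit 3, nat_lit 2, nat_lit 0, nat_lit 2, nat_lit 2, nat_lit 0, nat_lit 2])) (.leaf ((nat_lit 972), [nat_lit 2, nat_lit 2, nat_lit 0, nat_lit 5, nat_lit 3, nat_lit 2, nat_lit 4, nat_lit 2, nat_lit 4, nat_lit 2, nat_lit 2, nat_lit 0, nat_lit 1, nat_lit 0, nat_lit 2, nat_lit 0])))))))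
 (.node (nat_lit 1573) (.node (nat_lit 1567) (.node (nat_lit 1564) (.node (nat_lit 1563) (.leaf ((nat_lit 804), [nat_lit 4, nat_lit 3, nat_lit 5, nat_lit 3, nat_lit 0, nat_lit 3, nat_lit 1, nat_lit 0, nat_lit 1, nat_lit 0, nat_lit 2, nat_lit 0, nat_lit 2, nat_lit 0])) (.leaf ((nat_lit 237), [nat_lit 4, nat_lit 5, nat_lit 3, nat_lit 2, nat_lit 5, nat_lit 4, nat_lit 3, nat_lit 0, nat_lit 2, nat_lit 2, nat_lit 3, nat_lit 2, nat_lit 0, nat_lit 2, nat_lit 0, nat_lit 1, nat_lit 0, nat_lit 1, nat_lit 0]))) (.node (nat_lit 1565) (.leaf ((nat_lit 915), [nat_lit 2, nat_lit 5, nat_lit 4, nat_lit 5, nat_lit 3, nat_lit 1, nat_lit 3, nat_lit 1, nat_lit 3, nat_lit 2, nat_lit 2, nat_lit 0, nat_lit 2, nat_lit 0])) (.node (nat_lit 1566) (.leaf ((nat_lit 949), [nat_lit 3, nat_lit 5, nat_lit 1, nat_lit 3, nat_lit 0, nat_lit 5, nat_lit 3, nat_lit 0, nat_lit 3, nat_lit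 4, nat_lit 3, nat_lit 0, nat_lit 2, nat_lit 0, nat_lit 2, nat_lit 2, nat_lit 0, nat_lit 1, nat_lit 0])) (.leaf ((nat_lit 148), [nat_lit 4, nat_lit 1, nat_lit 5, nat_lit 2, nat_lit 5, nat_lit 3, nat_lit 4, nat_lit 2, nat_lit 0, nat_lit 4, nat_lit 1, nat_lit 0, nat_lit 2, nat_lit 2, nat_lit 0, nat_lit 2])))))
 (.node (nat_lit 1570) (.node (nat_lit 1568) (.leaf ((nat_lit 1137), [nat_lit 4, nat_lit 5, nat_lit 2, nat_lit 3, nat_lit 5, nat_lit 0, nat_lit 4, nat_lit 2, nat_lit 3, nat_lit 1, nat_lit 3, nat_lit 0, nat_lit 1])) (.node (nat_lit 1569) (.leaf ((nat_lit 1138), [nat_lit 2, nat_lit 2, nat_lit 0, nat_lit 5, nat_lit 4, nat_lit 1, nat_lit 4, nat_lit 0, nat_lit 1, nat_lit 0, nat_lit 2, nat_lit 0, nat_lit 2, nat_lit 2, nat_lit 0])) (.leaf ((nat_lit 925), [nat_lit 4, nat_lit 3, nat_lit 5, nat_lit 2, nat_lit 5, nat_lit 1, nat_lit 4, nat_lit 3, nat_lit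 2, nat_lit 0, nat_lit 3, nat_lit 0, nat_lit 1])))) (.node (nat_lit 1571) (.leaf ((nat_lit 1139), [nat_lit 5, nat_lit 3, nat_lit 0, nat_lit 5, nat_lit 1, nat_lit 4, nat_lit 2, nat_lit 4, nat_lit 2, nat_lit 2, nat_lit 0, nat_lit 2, nat_lit 2, nat_lit 0, nat_lit 2, nat_lit 2])) (.node (nat_lit 1572) (.leaf ((nat_lit 938), [nat_lit 2, nat_lit 5, nat_lit 3, nat_lit 4, nat_lit 1, nat_lit 0, nat_lit 3, nat_lit 0, nat_lit 2, nat_lit 2, nat_lit 0, nat_lit 1, nat_lit 0, nat_lit 2])) (.leaf ((nat_lit 459), [nat_lit 3, nat_lit 5, nat_lit 1, nat_lit 3, nat_lit 2, nat_lit 5, nat_lit 0, nat_lit 3, nat_lit 2, nat_lit 0, nat_lit 2, nat_lit 2, nat_lit 0, nat_lit 1]))))))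
 (.node (nat_lit 1578) (.node (nat_lit 1575) (.node (nat_lit 1574) (.leaf ((nat_lit 1025), [nat_lit 5, nat_lit 1, nat_lit 0, nat_lit 2, nat_lit 5, nat_lit 0, nat_lit 2, nat_lit 4, nat_lit 3, nat_lit 2, nat_lit 0, nat_lit 1, nat_lit 0, nat_lit 2, nat_lit 0, nat_lit 2])) (.leaf ((nat_lit 476), [nat_lit 2, nat_lit 5, nat_lit 3, nat_lit 2, nat_lit 2, nat_lit 0, nat_lit 4, nat_lit 0, nat_lit 1, nat_lit 0, nat_lit 2, nat_lit 2, nat_lit 0, nat_lit 2, nat_lit 0]))) (.node (nat_lit 1576) (.leaf ((nat_lit 1140), [nat_lit 2, nat_lit 3, nat_lit 0, nat_lit 5, nat_lit 3, nat_lit 2, nat_lit 0])) (.node (nat_lit 1577) (.leaf ((nat_lit 472), [nat_lit 5, nat_lit 4, nat_lit 5, nat_lit 2, nat_lit 5, nat_lit 3, nat_lit 0, nat_lit 3, nat_lit 4, nat_lit 3, nat_lit 2, nat_lit 2, nat_lit 0, nat_lit 2, nat_lit 2, nat_lit 0, nat_lit 1, nat_lit 0])) (.leaf ((nat_lit 15), [nat_lit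 2, nat_lit 5, nat_lit 0, nat_lit 5, nat_lit 3, nat_lit 1, nat_lit 4, nat_lit 1, nat_lit 3, nat_lit 2, nat_lit 0, nat_lit 1, nat_lit 0, nat_lit 1, nat_lit 0])))))
 (.node (nat_lit 1581) (.node (nat_lit 1579) (.leaf ((nat_lit 1084), [nat_lit 3, nat_lit 2, nat_lit 5, nat_lit 0, nat_lit 5, nat_lit 3, nat_lit 4, nat_lit 1, nat_lit 4, nat_lit 3, nat_lit 2, nat_lit 0, nat_lit 1, nat_lit 0, nat_lit 2, nat_lit 0, nat_lit 2])) (.node (nat_lit 1580) (.leaf ((nat_lit 1141), [nat_lit 5, nat_lit 2, nat_lit 2, nat_lit 0, nat_lit 5, nat_lit 4, nat_lit 0, nat_lit 3, nat_lit 4, nat_lit 0, nat_lit 2, nat_lit 0, nat_lit 1])) (.leaf ((nat_lit 1020), [nat_lit 4, nat_lit 3, nat_lit 5, nat_lit 1, nat_lit 0, nat_lit 2, nat_lit 0, nat_lit 2, nat_lit 4, nat_lit 0])))) (.node (nat_lit 1582) (.leaf ((nat_lit 1142), [nat_lit 5, nat_lit 0, nat_lit 1, nat_lit 5, nat_lit 3, nat_lit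 0, nat_lit 4, nat_lit 2, nat_lit 0, nat_lit 3, nat_lit 2, nat_lit 2, nat_lit 0, nat_lit 2, nat_lit 0, nat_lit 1, nat_lit 0])) (.node (nat_lit 1583) (.leaf ((nat_lit 1122), [nat_lit 3, nat_lit 0, nat_lit 5, nat_lit 2, nat_lit 4, nat_lit 2, nat_lit 3, nat_lit 1, nat_lit 3])) (.leaf ((nat_lit 879), [nat_lit 4, nat_lit 3, nat_lit 5, nat_lit 1, nat_lit 4, nat_lit 0, nat_lit 1, nat_lit 0, nat_lit 3, nat_lit 1, nat_lit 0, nat_lit 2]))))))))))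
noncomputable def pWd_9 : Tr (ℕ × List ℕ) := (.node (nat_lit 1672) (.node (nat_lit 1628) (.node (nat_lit 1606) (.node (nat_lit 1595) (.node (nat_lit 1589) (.node (nat_lit 1586) (.node (nat_lit 1585) (.leaf ((nat_lit 1143), [nat_lit 5, nat_lit 3, nat_lit 2, nat_lit 5, nat_lit 0, nat_lit 3, nat_lit 4, nat_lit 0, nat_lit 3, nat_lit 0, nat_lit 2, nat_lit 2, nat_lit 0, nat_lit 2, nat_lit 0])) (.leaf ((nat_lit 361), [nat_lit 5, nat_lit 1, nat_lit 0, nat_lit 3, nat_lit 5, nat_lit 3, nat_lit 2, nat_lit 2, nat_lit 4, nat_lit 3, nat_lit 0, nat_lit 1, nat_lit 0, nat_lit 1, nat_lit 0]))) (.node (nat_lit 1587) (.leaf ((nat_lit 1144), [nat_lit 5, nat_lit 0, nat_lit 1, nat_lit 5, nat_lit 0, nat_lit 4, nat_lit 2, nat_lit 0, nat_lit 4, nat_lit 0, nat_lit 1, nat_lit 0, nat_lit 1, nat_lit 0, nat_lit 2, nat_lit 0])) (.node (nat_lit 1588) (.leaf ((nat_lit 1145), [nat_lit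 5, nat_lit 0, nat_lit 3, nat_lit 5, nat_lit 0, nat_lit 3, nat_lit 2, nat_lit 0, nat_lit 3, nat_lit 2, nat_lit 2])) (.leaf ((nat_lit 1016), [nat_lit 5, nat_lit 1, nat_lit 0, nat_lit 3, nat_lit 5, nat_lit 1, nat_lit 3, nat_lit 4, nat_lit 3, nat_lit 0, nat_lit 3, nat_lit 1, nat_lit 0, nat_lit 2, nat_lit 0, nat_lit 1])))))
 (.node (nat_lit 1592) (.node (nat_lit 1590) (.leaf ((nat_lit 1146), [nat_lit 4, nat_lit 3, nat_lit 0, nat_lit 5, nat_lit 4, nat_lit 0, nat_lit 4, nat_lit 0, nat_lit 2, nat_lit 0, nat_lit 2, nat_lit 2])) (.node (nat_lit 1591) (.leaf ((nat_lit 1147), [nat_lit 4, nat_lit 3, nat_lit 0, nat_lit 5, nat_lit 4, nat_lit 0, nat_lit 4, nat_lit 3, nat_lit 2, nat_lit 0, nat_lit 1, nat_lit 0, nat_lit 2, nat_lit 2, nat_lit 0])) (.leaf ((nat_lit 944), [nat_lit 1, nat_lit 0, nat_lit 5, nat_lit 3, nat_lit 5, nat_lit 4, nat_lit 2, nat_lit 4, nat_lit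 3])))) (.node (nat_lit 1593) (.leaf ((nat_lit 1148), [nat_lit 3, nat_lit 0, nat_lit 5, nat_lit 3, nat_lit 5, nat_lit 2, nat_lit 4, nat_lit 1, nat_lit 0, nat_lit 2, nat_lit 3, nat_lit 0, nat_lit 2, nat_lit 0, nat_lit 1, nat_lit 0, nat_lit 1])) (.node (nat_lit 1594) (.leaf ((nat_lit 1149), [nat_lit 4, nat_lit 1, nat_lit 5, nat_lit 0, nat_lit 5, nat_lit 2, nat_lit 3, nat_lit 2, nat_lit 2, nat_lit 0, nat_lit 2])) (.leaf ((nat_lit 445), [nat_lit 4, nat_lit 5, nat_lit 2, nat_lit 3, nat_lit 5, nat_lit 1, nat_lit 4, nat_lit 0, nat_lit 4, nat_lit 3, nat_lit 2, nat_lit 0, nat_lit 1, nat_lit 0, nat_lit 1, nat_lit 0, nat_lit 2]))))))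
 (.node (nat_lit 1600) (.node (nat_lit 1597) (.node (nat_lit 1596) (.leaf ((nat_lit 1150), [nat_lit 4, nat_lit 0, nat_lit 5, nat_lit 3, nat_lit 1, nat_lit 3, nat_lit 4, nat_lit 3, nat_lit 2, nat_lit 0, nat_lit 1, nat_lit 0, nat_lit 1, nat_lit 0])) (.leaf ((nat_lit 701), [nat_lit 5, nat_lit 1, nat_lit 0, nat_lit 2, nat_lit 5, nat_lit 3, nat_lit 1, nat_lit 4, nat_lit 2, nat_lit 4, nat_lit 3, nat_lit 0, nat_lit 2, nat_lit 0, nat_lit 2]))) (.node (nat_lit 1598) (.leaf ((nat_lit 824), [nat_lit 4, nat_lit 3, nat_lit 5, nat_lit 2, nat_lit 0, nat_lit 4, nat_lit 0, nat_lit 2, nat_lit 2, nat_lit 0, nat_lit 2, nat_lit 0, nat_lit 1, nat_lit 0])) (.node (nat_lit 1599) (.leaf ((nat_lit 1151), [nat_lit 5, nat_lit 0, nat_lit 3, nat_lit 5, nat_lit 3, nat_lit 0, nat_lit 4, nat_lit 1, nat_lit 0, nat_lit 3, nat_lit 0, nat_lit 2, nat_lit 0, nat_lit 2, nat_lit 2, nat_lit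 0, nat_lit 2, nat_lit 0])) (.leaf ((nat_lit 469), [nat_lit 3, nat_lit 4, nat_lit 5, nat_lit 2, nat_lit 5, nat_lit 4, nat_lit 1, nat_lit 4, nat_lit 3, nat_lit 0, nat_lit 2, nat_lit 2, nat_lit 0, nat_lit 2, nat_lit 2, nat_lit 0])))))
 (.node (nat_lit 1603) (.node (nat_lit 1601) (.leaf ((nat_lit 1152), [nat_lit 3, nat_lit 0, nat_lit 5, nat_lit 3, nat_lit 5, nat_lit 2, nat_lit 3, nat_lit 2, nat_lit 3, nat_lit 0, nat_lit 1, nat_lit 0, nat_lit 2, nat_lit 2, nat_lit 0, nat_lit 2])) (.node (nat_lit 1602) (.leaf ((nat_lit 287), [nat_lit 5, nat_lit 0, nat_lit 1, nat_lit 5, nat_lit 2, nat_lit 2, nat_lit 4, nat_lit 1, nat_lit 0, nat_lit 3, nat_lit 1, nat_lit 0, nat_lit 2, nat_lit 0, nat_lit 2, nat_lit 2, nat_lit 0])) (.leaf ((nat_lit 837), [nat_lit 5, nat_lit 4, nat_lit 5, nat_lit 1, nat_lit 5, nat_lit 0, nat_lit 1, nat_lit 4, nat_lit 3, nat_lit 2, nat_lit 3,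 nat_lit 2, nat_lit 0, nat_lit 1, nat_lit 0, nat_lit 2, nat_lit 2])))) (.node (nat_lit 1604) (.leaf ((nat_lit 377), [nat_lit 4, nat_lit 5, nat_lit 3, nat_lit 2, nat_lit 5, nat_lit 1, nat_lit 3, nat_lit 1, nat_lit 3, nat_lit 2, nat_lit 2, nat_lit 0, nat_lit 2, nat_lit 2, nat_lit 0, nat_lit 2, nat_lit 0])) (.node (nat_lit 1605) (.leaf ((nat_lit 1153), [nat_lit 0, nat_lit 5, nat_lit 3, nat_lit 5, nat_lit 1, nat_lit 0, nat_lit 3, nat_lit 0, nat_lit 2, nat_lit 0, nat_lit 2, nat_lit 2, nat_lit 0])) (.leaf ((nat_lit 535), [nat_lit 1, nat_lit 3, nat_lit 2, nat_lit 5, nat_lit 2, nat_lit 2, nat_lit 3, nat_lit 4, nat_lit 3, nat_lit 2, nat_lit 0, nat_lit 1, nat_lit 0, nat_lit 2, nat_lit 0, nat_lit 2])))))))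
 (.node (nat_lit 1617) (.node (nat_lit 1611) (.node (nat_lit 1608) (.node (nat_lit 1607) (.leaf ((nat_lit 1154), [nat_lit 5, nat_lit 2, nat_lit 0, nat_lit 5, nat_lit 3, nat_lit 4, nat_lit 3, nat_lit 2, nat_lit 0, nat_lit 1, nat_lit 0, nat_lit 2, nat_lit 0])) (.leaf ((nat_lit 1155), [nat_lit 5, nat_lit 1, nat_lit 5, nat_lit 0, nat_lit 5, nat_lit 0, nat_lit 2, nat_lit 0, nat_lit 2, nat_lit 2, nat_lit 0, nat_lit 2]))) (.node (nat_lit 1609) (.leaf ((nat_lit 1156), [nat_lit 4, nat_lit 2, nat_lit 5, nat_lit 1, nat_lit 5, nat_lit 2, nat_lit 3, nat_lit 0, nat_lit 3, nat_lit 1, nat_lit 0, nat_lit 2, nat_lit 0, nat_lit 2, nat_lit 2, nat_lit 0])) (.node (nat_lit 1610) (.leaf ((nat_lit 1157), [nat_lit 0, nat_lit 4, nat_lit 5, nat_lit 2, nat_lit 3, nat_lit 0, nat_lit 2, nat_lit 4, nat_lit 3, nat_lit 0, nat_lit 2, nat_lit 0, nat_lit 2])) (.leaf ((nat_lit 1158),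 [nat_lit 2, nat_lit 0, nat_lit 5, nat_lit 0, nat_lit 4, nat_lit 1, nat_lit 4, nat_lit 1, nat_lit 0, nat_lit 2, nat_lit 2, nat_lit 0])))))
 (.node (nat_lit 1614) (.node (nat_lit 1612) (.leaf ((nat_lit 705), [nat_lit 2, nat_lit 5, nat_lit 3, nat_lit 5, nat_lit 2, nat_lit 0, nat_lit 4, nat_lit 1, nat_lit 4, nat_lit 0, nat_lit 2, nat_lit 0, nat_lit 2, nat_lit 2, nat_lit 0, nat_lit 1, nat_lit 0])) (.node (nat_lit 1613) (.leaf ((nat_lit 18), [nat_lit 4, nat_lit 5, nat_lit 3, nat_lit 2, nat_lit 5, nat_lit 4, nat_lit 0, nat_lit 1, nat_lit 0, nat_lit 1, nat_lit 0, nat_lit 3, nat_lit 2, nat_lit 0, nat_lit 1, nat_lit 0, nat_lit 2, nat_lit 2, nat_lit 0])) (.leaf ((nat_lit 1159), [nat_lit 1, nat_lit 3, nat_lit 2, nat_lit 5, nat_lit 0, nat_lit 4, nat_lit 0, nat_lit 4, nat_lit 1, nat_lit 3, nat_lit 0, nat_lit 1, nat_lit 0, nat_lit 2, nat_lit 0, nat_lit 2, nat_lit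 2, nat_lit 0])))) (.node (nat_lit 1615) (.leaf ((nat_lit 967), [nat_lit 3, nat_lit 5, nat_lit 3, nat_lit 4, nat_lit 3, nat_lit 2, nat_lit 4, nat_lit 3, nat_lit 0, nat_lit 2, nat_lit 2, nat_lit 0, nat_lit 2, nat_lit 0, nat_lit 1])) (.node (nat_lit 1616) (.leaf ((nat_lit 312), [nat_lit 0, nat_lit 5, nat_lit 2, nat_lit 3, nat_lit 5, nat_lit 3, nat_lit 2, nat_lit 4, nat_lit 0, nat_lit 4, nat_lit 0, nat_lit 2, nat_lit 0, nat_lit 2])) (.leaf ((nat_lit 1160), [nat_lit 1, nat_lit 5, nat_lit 0, nat_lit 5, nat_lit 1, nat_lit 4, nat_lit 1, nat_lit 0, nat_lit 3, nat_lit 1, nat_lit 0, nat_lit 1, nat_lit 0, nat_lit 2, nat_lit 0, nat_lit 2, nat_lit 0]))))))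
 (.node (nat_lit 1622) (.node (nat_lit 1619) (.node (nat_lit 1618) (.leaf ((nat_lit 1161), [nat_lit 0, nat_lit 5, nat_lit 2, nat_lit 5, nat_lit 0, nat_lit 3, nat_lit 1, nat_lit 3, nat_lit 4, nat_lit 0, nat_lit 2, nat_lit 0, nat_lit 2, nat_lit 2, nat_lit 0, nat_lit 1, nat_lit 0])) (.leaf ((nat_lit 1162), [nat_lit 5, nat_lit 1, nat_lit 5, nat_lit 2, nat_lit 3, nat_lit 2, nat_lit 3, nat_lit 2, nat_lit 0, nat_lit 1, nat_lit 0, nat_lit 2, nat_lit 0]))) (.node (nat_lit 1620) (.leaf ((nat_lit 1163), [nat_lit 3, nat_lit 2, nat_lit 3, nat_lit 5, nat_lit 4, nat_lit 2, nat_lit 0, nat_lit 3, nat_lit 0, nat_lit 4, nat_lit 0, nat_lit 1, nat_lit 0, nat_lit 2, nat_lit 0, nat_lit 2, nat_lit 2])) (.node (nat_lit 1621) (.leaf ((nat_lit 1164), [nat_lit 3, nat_lit 0, nat_lit 5, nat_lit 3, nat_lit 0, nat_lit 2, nat_lit 4, nat_lit 3, nat_lit 0, nat_lit 2, nat_lit 2, nat_lit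 0])) (.leaf ((nat_lit 1165), [nat_lit 3, nat_lit 0, nat_lit 5, nat_lit 3, nat_lit 5, nat_lit 2, nat_lit 3, nat_lit 0, nat_lit 2, nat_lit 4, nat_lit 2])))))
 (.node (nat_lit 1625) (.node (nat_lit 1623) (.leaf ((nat_lit 815), [nat_lit 4, nat_lit 3, nat_lit 2, nat_lit 5, nat_lit 0, nat_lit 2, nat_lit 4, nat_lit 1, nat_lit 0, nat_lit 3, nat_lit 1, nat_lit 0, nat_lit 2, nat_lit 2, nat_lit 0, nat_lit 1])) (.node (nat_lit 1624) (.leaf ((nat_lit 1166), [nat_lit 4, nat_lit 1, nat_lit 5, nat_lit 3, nat_lit 5, nat_lit 3, nat_lit 2, nat_lit 4, nat_lit 3])) (.leaf ((nat_lit 943), [nat_lit 3, nat_lit 0, nat_lit 5, nat_lit 0, nat_lit 3, nat_lit 1, nat_lit 3, nat_lit 4, nat_lit 3, nat_lit 2, nat_lit 2, nat_lit 0, nat_lit 2, nat_lit 2, nat_lit 0, nat_lit 1])))) (.node (nat_lit 1626) (.leaf ((nat_lit 543), [nat_lit 0, nat_lit 4, nat_lit 2, nat_lit 0, nat_lit 5, nat_lit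 4, nat_lit 1, nat_lit 3, nat_lit 0, nat_lit 1, nat_lit 4, nat_lit 0, nat_lit 1, nat_lit 0, nat_lit 2, nat_lit 2, nat_lit 0, nat_lit 2, nat_lit 0])) (.node (nat_lit 1627) (.leaf ((nat_lit 1064), [nat_lit 0, nat_lit 2, nat_lit 4, nat_lit 0, nat_lit 5, nat_lit 1, nat_lit 4, nat_lit 2, nat_lit 0, nat_lit 2, nat_lit 3, nat_lit 2, nat_lit 0, nat_lit 2, nat_lit 0])) (.leaf ((nat_lit 1167), [nat_lit 3, nat_lit 5, nat_lit 3, nat_lit 0, nat_lit 3, nat_lit 0, nat_lit 2, nat_lit 3, nat_lit 2, nat_lit 2, nat_lit 0, nat_lit 1, nat_lit 0, nat_lit 2, nat_lit 2, nat_lit 0]))))))))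
 (.node (nat_lit 1650) (.node (nat_lit 1639) (.node (nat_lit 1633) (.node (nat_lit 1630) (.node (nat_lit 1629) (.leaf ((nat_lit 1168), [nat_lit 2, nat_lit 0, nat_lit 5, nat_lit 1, nat_lit 0, nat_lit 4, nat_lit 3, nat_lit 0, nat_lit 1, nat_lit 0, nat_lit 2, nat_lit 2, nat_lit 0, nat_lit 2])) (.leaf ((nat_lit 1169), [nat_lit 4, nat_lit 3, nat_lit 0, nat_lit 5, nat_lit 2, nat_lit 4, nat_lit 2, nat_lit 3, nat_lit 2, nat_lit 3, nat_lit 1, nat_lit 0, nat_lit 1, nat_lit 0]))) (.node (nat_lit 1631) (.leaf ((nat_lit 372), [nat_lit 5, nat_lit 2, nat_lit 3, nat_lit 0, nat_lit 5, nat_lit 3, nat_lit 2, nat_lit 0, nat_lit 3, nat_lit 2, nat_lit 0, nat_lit 1])) (.node (nat_lit 1632) (.leaf ((nat_lit 519), [nat_lit 2, nat_lit 3, nat_lit 5, nat_lit 0, nat_lit 5, nat_lit 3, nat_lit 4, nat_lit 1, nat_lit 0, nat_lit 3, nat_lit 1, nat_lit 0, nat_lit 2, nat_lit 2, nat_lit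 0, nat_lit 1, nat_lit 0])) (.leaf ((nat_lit 874), [nat_lit 4, nat_lit 3, nat_lit 0, nat_lit 5, nat_lit 2, nat_lit 2, nat_lit 4, nat_lit 0, nat_lit 4, nat_lit 3, nat_lit 1, nat_lit 0, nat_lit 2, nat_lit 2, nat_lit 0, nat_lit 1, nat_lit 0])))))
 (.node (nat_lit 1636) (.node (nat_lit 1634) (.leaf ((nat_lit 1170), [nat_lit 1, nat_lit 0, nat_lit 2, nat_lit 5, nat_lit 3, nat_lit 0, nat_lit 1, nat_lit 0, nat_lit 3, nat_lit 0, nat_lit 2, nat_lit 0, nat_lit 1])) (.node (nat_lit 1635) (.leaf ((nat_lit 1171), [nat_lit 4, nat_lit 3, nat_lit 2, nat_lit 5, nat_lit 4, nat_lit 1, nat_lit 4, nat_lit 2, nat_lit 4, nat_lit 3, nat_lit 0, nat_lit 2, nat_lit 0, nat_lit 1, nat_lit 0, nat_lit 1, nat_lit 0])) (.leaf ((nat_lit 534), [nat_lit 2, nat_lit 4, nat_lit 5, nat_lit 2, nat_lit 0, nat_lit 5, nat_lit 4, nat_lit 3, nat_lit 0, nat_lit 2, nat_lit 4, nat_lit 2, nat_lit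 0, nat_lit 1, nat_lit 0, nat_lit 2, nat_lit 0])))) (.node (nat_lit 1637) (.leaf ((nat_lit 855), [nat_lit 2, nat_lit 5, nat_lit 0, nat_lit 1, nat_lit 5, nat_lit 0, nat_lit 3, nat_lit 2, nat_lit 3, nat_lit 2, nat_lit 3, nat_lit 2, nat_lit 0, nat_lit 1])) (.node (nat_lit 1638) (.leaf ((nat_lit 1062), [nat_lit 5, nat_lit 3, nat_lit 0, nat_lit 5, nat_lit 3, nat_lit 1, nat_lit 4, nat_lit 1, nat_lit 3, nat_lit 2, nat_lit 0, nat_lit 1, nat_lit 0, nat_lit 2, nat_lit 0])) (.leaf ((nat_lit 551), [nat_lit 1, nat_lit 5, nat_lit 0, nat_lit 2, nat_lit 2, nat_lit 3, nat_lit 1, nat_lit 0, nat_lit 2]))))))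
 (.node (nat_lit 1644) (.node (nat_lit 1641) (.node (nat_lit 1640) (.leaf ((nat_lit 770), [nat_lit 2, nat_lit 5, nat_lit 2, nat_lit 3, nat_lit 5, nat_lit 3, nat_lit 4, nat_lit 2, nat_lit 0, nat_lit 2, nat_lit 3, nat_lit 1, nat_lit 0, nat_lit 1, nat_lit 0, nat_lit 2, nat_lit 0, nat_lit 2, nat_lit 0])) (.leaf ((nat_lit 335), [nat_lit 0, nat_lit 2, nat_lit 4, nat_lit 0, nat_lit 5, nat_lit 0, nat_lit 3, nat_lit 1, nat_lit 3, nat_lit 1, nat_lit 0, nat_lit 2, nat_lit 2]))) (.node (nat_lit 1642) (.leaf ((nat_lit 1172), [nat_lit 5, nat_lit 2, nat_lit 0, nat_lit 5, nat_lit 1, nat_lit 4, nat_lit 3, nat_lit 0, nat_lit 3, nat_lit 0, nat_lit 1, nat_lit 0, nat_lit 2])) (.node (nat_lit 1643) (.leaf ((nat_lit 671), [nat_lit 1, nat_lit 0, nat_lit 3, nat_lit 5, nat_lit 2, nat_lit 2, nat_lit 4, nat_lit 2, nat_lit 4, nat_lit 0, nat_lit 2, nat_lit 2])) (.leaf ((nat_lit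 798), [nat_lit 4, nat_lit 5, nat_lit 3, nat_lit 5, nat_lit 1, nat_lit 3, nat_lit 1, nat_lit 0, nat_lit 4, nat_lit 2, nat_lit 2, nat_lit 0, nat_lit 1, nat_lit 0, nat_lit 2])))))
 (.node (nat_lit 1647) (.node (nat_lit 1645) (.leaf ((nat_lit 1173), [nat_lit 1, nat_lit 5, nat_lit 1, nat_lit 5, nat_lit 2, nat_lit 0, nat_lit 2, nat_lit 4, nat_lit 1, nat_lit 0, nat_lit 2, nat_lit 2, nat_lit 0, nat_lit 2, nat_lit 0])) (.node (nat_lit 1646) (.leaf ((nat_lit 1174), [nat_lit 5, nat_lit 0, nat_lit 3, nat_lit 5, nat_lit 1, nat_lit 0, nat_lit 3, nat_lit 4, nat_lit 2, nat_lit 2, nat_lit 0, nat_lit 2, nat_lit 2, nat_lit 0])) (.leaf ((nat_lit 1112), [nat_lit 5, nat_lit 4, nat_lit 1, nat_lit 0, nat_lit 5, nat_lit 2, nat_lit 4, nat_lit 2, nat_lit 2, nat_lit 0, nat_lit 1, nat_lit 0])))) (.node (nat_lit 1648) (.leaf ((nat_lit 562), [nat_lit 1, nat_lit 4, nat_lit 5, nat_lit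 1, nat_lit 5, nat_lit 4, nat_lit 2, nat_lit 0, nat_lit 4, nat_lit 2, nat_lit 0, nat_lit 1, nat_lit 0, nat_lit 2, nat_lit 2, nat_lit 0])) (.node (nat_lit 1649) (.leaf ((nat_lit 1175), [nat_lit 5, nat_lit 0, nat_lit 5, nat_lit 2, nat_lit 2, nat_lit 4, nat_lit 3, nat_lit 2, nat_lit 0, nat_lit 1, nat_lit 0, nat_lit 2, nat_lit 2])) (.leaf ((nat_lit 322), [nat_lit 5, nat_lit 3, nat_lit 2, nat_lit 5, nat_lit 3, nat_lit 2, nat_lit 4, nat_lit 2, nat_lit 3, nat_lit 4, nat_lit 0, nat_lit 2, nat_lit 2, nat_lit 0, nat_lit 1, nat_lit 0, nat_lit 2, nat_lit 0])))))))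
 (.node (nat_lit 1661) (.node (nat_lit 1655) (.node (nat_lit 1652) (.node (nat_lit 1651) (.leaf ((nat_lit 982), [nat_lit 3, nat_lit 1, nat_lit 5, nat_lit 2, nat_lit 5, nat_lit 2, nat_lit 0, nat_lit 1, nat_lit 0, nat_lit 3, nat_lit 0, nat_lit 1, nat_lit 0, nat_lit 2])) (.leaf ((nat_lit 1168), [nat_lit 5, nat_lit 4, nat_lit 5, nat_lit 1, nat_lit 5, nat_lit 3, nat_lit 2, nat_lit 0, nat_lit 4, nat_lit 1, nat_lit 4, nat_lit 1, nat_lit 0, nat_lit 2, nat_lit 0, nat_lit 1, nat_lit 0]))) (.node (nat_lit 1653) (.leaf ((nat_lit 1176), [nat_lit 0, nat_lit 5, nat_lit 3, nat_lit 5, nat_lit 2, nat_lit 3, nat_lit 4, nat_lit 2, nat_lit 3, nat_lit 0, nat_lit 1, nat_lit 0, nat_lit 2, nat_lit 2, nat_lit 0])) (.node (nat_lit 1654) (.leaf ((nat_lit 306), [nat_lit 1, nat_lit 5, nat_lit 3, nat_lit 5, nat_lit 2, nat_lit 4, nat_lit 1, nat_lit 0, nat_lit 2, nat_lit 3, nat_lit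 0, nat_lit 2, nat_lit 0, nat_lit 2, nat_lit 2, nat_lit 0, nat_lit 1])) (.leaf ((nat_lit 889), [nat_lit 3, nat_lit 2, nat_lit 5, nat_lit 0, nat_lit 5, nat_lit 0, nat_lit 3, nat_lit 2, nat_lit 4, nat_lit 1, nat_lit 0, nat_lit 1, nat_lit 0, nat_lit 2, nat_lit 2])))))
 (.node (nat_lit 1658) (.node (nat_lit 1656) (.leaf ((nat_lit 1177), [nat_lit 4, nat_lit 3, nat_lit 5, nat_lit 0, nat_lit 5, nat_lit 0, nat_lit 2, nat_lit 0, nat_lit 2, nat_lit 4, nat_lit 0, nat_lit 2, nat_lit 0, nat_lit 1])) (.node (nat_lit 1657) (.leaf ((nat_lit 1012), [nat_lit 0, nat_lit 5, nat_lit 3, nat_lit 5, nat_lit 3, nat_lit 4, nat_lit 0, nat_lit 4, nat_lit 3, nat_lit 0, nat_lit 1, nat_lit 0, nat_lit 2, nat_lit 0, nat_lit 2, nat_lit 2])) (.leaf ((nat_lit 1178), [nat_lit 1, nat_lit 5, nat_lit 3, nat_lit 5, nat_lit 0, nat_lit 3, nat_lit 1, nat_lit 4, nat_lit 0, nat_lit 1, nat_lit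 0, nat_lit 2])))) (.node (nat_lit 1659) (.leaf ((nat_lit 782), [nat_lit 1, nat_lit 0, nat_lit 2, nat_lit 5, nat_lit 3, nat_lit 1, nat_lit 4, nat_lit 1, nat_lit 3, nat_lit 0, nat_lit 1, nat_lit 0, nat_lit 1, nat_lit 0, nat_lit 2])) (.node (nat_lit 1660) (.leaf ((nat_lit 1179), [nat_lit 5, nat_lit 4, nat_lit 2, nat_lit 5, nat_lit 2, nat_lit 4, nat_lit 0, nat_lit 4, nat_lit 0, nat_lit 2, nat_lit 2, nat_lit 0, nat_lit 2, nat_lit 0])) (.leaf ((nat_lit 1180), [nat_lit 5, nat_lit 4, nat_lit 5, nat_lit 4, nat_lit 1, nat_lit 0, nat_lit 2, nat_lit 4, nat_lit 2, nat_lit 2]))))))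
 (.node (nat_lit 1666) (.node (nat_lit 1663) (.node (nat_lit 1662) (.leaf ((nat_lit 1181), [nat_lit 4, nat_lit 1, nat_lit 5, nat_lit 0, nat_lit 5, nat_lit 4, nat_lit 3, nat_lit 0, nat_lit 2, nat_lit 3, nat_lit 2, nat_lit 2, nat_lit 0, nat_lit 2, nat_lit 2, nat_lit 0])) (.leaf ((nat_lit 726), [nat_lit 4, nat_lit 2, nat_lit 0, nat_lit 5, nat_lit 2, nat_lit 4, nat_lit 3, nat_lit 0, nat_lit 4, nat_lit 0, nat_lit 2, nat_lit 2, nat_lit 0, nat_lit 2, nat_lit 0, nat_lit 1]))) (.node (nat_lit 1664) (.leaf ((nat_lit 92), [nat_lit 0, nat_lit 5, nat_lit 0, nat_lit 1, nat_lit 5, nat_lit 1, nat_lit 3, nat_lit 4, nat_lit 1, nat_lit 0, nat_lit 3, nat_lit 2, nat_lit 0, nat_lit 1, nat_lit 0, nat_lit 1, nat_lit 0, nat_lit 2])) (.node (nat_lit 1665) (.leaf ((nat_lit 12), [nat_lit 0, nat_lit 2, nat_lit 4, nat_lit 0, nat_lit 5, nat_lit 0, nat_lit 3, nat_lit 4, nat_lit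 1, nat_lit 0, nat_lit 3, nat_lit 1, nat_lit 0, nat_lit 1, nat_lit 0, nat_lit 2, nat_lit 0])) (.leaf ((nat_lit 1182), [nat_lit 3, nat_lit 2, nat_lit 3, nat_lit 5, nat_lit 4, nat_lit 1, nat_lit 3, nat_lit 4, nat_lit 0, nat_lit 2, nat_lit 0, nat_lit 1, nat_lit 0, nat_lit 1, nat_lit 0])))))
 (.node (nat_lit 1669) (.node (nat_lit 1667) (.leaf ((nat_lit 1183), [nat_lit 0, nat_lit 5, nat_lit 3, nat_lit 5, nat_lit 4, nat_lit 2, nat_lit 4, nat_lit 3, nat_lit 2, nat_lit 2, nat_lit 0, nat_lit 1, nat_lit 0, nat_lit 2, nat_lit 0])) (.node (nat_lit 1668) (.leaf ((nat_lit 1101), [nat_lit 4, nat_lit 3, nat_lit 5, nat_lit 2, nat_lit 5, nat_lit 3, nat_lit 2, nat_lit 0, nat_lit 2, nat_lit 3, nat_lit 0, nat_lit 1, nat_lit 0, nat_lit 1, nat_lit 0, nat_lit 2])) (.leaf ((nat_lit 392), [nat_lit 4, nat_lit 3, nat_lit 0, nat_lit 5, nat_lit 3, nat_lit 0, nat_lit 1, nat_lit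 3, nat_lit 0, nat_lit 3, nat_lit 0, nat_lit 2])))) (.node (nat_lit 1670) (.leaf ((nat_lit 229), [nat_lit 5, nat_lit 4, nat_lit 3, nat_lit 5, nat_lit 2, nat_lit 5, nat_lit 4, nat_lit 0, nat_lit 1, nat_lit 4, nat_lit 3, nat_lit 1, nat_lit 0, nat_lit 2, nat_lit 0, nat_lit 2])) (.node (nat_lit 1671) (.leaf ((nat_lit 399), [nat_lit 5, nat_lit 2, nat_lit 4, nat_lit 0, nat_lit 5, nat_lit 0, nat_lit 3, nat_lit 0, nat_lit 4, nat_lit 2, nat_lit 2, nat_lit 0, nat_lit 2, nat_lit 2, nat_lit 0, nat_lit 2, nat_lit 0])) (.leaf ((nat_lit 1041), [nat_lit 4, nat_lit 0, nat_lit 5, nat_lit 2, nat_lit 5, nat_lit 1, nat_lit 0, nat_lit 4, nat_lit 3, nat_lit 1, nat_lit 0])))))))))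
 (.node (nat_lit 1716) (.node (nat_lit 1694) (.node (nat_lit 1683) (.node (nat_lit 1677) (.node (nat_lit 1674) (.node (nat_lit 1673) (.leaf ((nat_lit 702), [nat_lit 3, nat_lit 2, nat_lit 5, nat_lit 0, nat_lit 5, nat_lit 4, nat_lit 3, nat_lit 2, nat_lit 3, nat_lit 0, nat_lit 3, nat_lit 0, nat_lit 2, nat_lit 0, nat_lit 2, nat_lit 2])) (.leaf ((nat_lit 1184), [nat_lit 2, nat_lit 5, nat_lit 2, nat_lit 0, nat_lit 3, nat_lit 1, nat_lit 4, nat_lit 2, nat_lit 0, nat_lit 2, nat_lit 2, nat_lit 0, nat_lit 2, nat_lit 2]))) (.node (nat_lit 1675) (.leaf ((nat_lit 1185), [nat_lit 0, nat_lit 4, nat_lit 5, nat_lit 0, nat_lit 3, nat_lit 0, nat_lit 1, nat_lit 4, nat_lit 0, nat_lit 2, nat_lit 0, nat_lit 2, nat_lit 2, nat_lit 0, nat_lit 1, nat_lit 0])) (.node (nat_lit 1676) (.leaf ((nat_lit 1186), [nat_lit 5, nat_lit 0, nat_lit 1, nat_lit 5, nat_lit 4, nat_lit 3, nat_lit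 1, nat_lit 3, nat_lit 0, nat_lit 3, nat_lit 2, nat_lit 2, nat_lit 0])) (.leaf ((nat_lit 677), [nat_lit 0, nat_lit 3, nat_lit 5, nat_lit 4, nat_lit 3, nat_lit 0, nat_lit 4, nat_lit 1, nat_lit 0, nat_lit 3, nat_lit 1, nat_lit 0, nat_lit 2, nat_lit 0, nat_lit 1])))))
 (.node (nat_lit 1680) (.node (nat_lit 1678) (.leaf ((nat_lit 572), [nat_lit 2, nat_lit 5, nat_lit 0, nat_lit 1, nat_lit 5, nat_lit 0, nat_lit 4, nat_lit 0, nat_lit 4, nat_lit 0, nat_lit 2, nat_lit 0, nat_lit 2])) (.node (nat_lit 1679) (.leaf ((nat_lit 1187), [nat_lit 4, nat_lit 3, nat_lit 0, nat_lit 5, nat_lit 0, nat_lit 4, nat_lit 1, nat_lit 4, nat_lit 2, nat_lit 0, nat_lit 2, nat_lit 0, nat_lit 1])) (.leaf ((nat_lit 298), [nat_lit 3, nat_lit 2, nat_lit 0, nat_lit 5, nat_lit 1, nat_lit 0, nat_lit 3, nat_lit 2, nat_lit 0, nat_lit 1])))) (.node (nat_lit 1681) (.leaf ((nat_lit 563), [nat_lit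 0, nat_lit 5, nat_lit 2, nat_lit 5, nat_lit 0, nat_lit 1, nat_lit 3, nat_lit 0, nat_lit 4, nat_lit 2, nat_lit 0, nat_lit 2, nat_lit 2, nat_lit 0, nat_lit 2])) (.node (nat_lit 1682) (.leaf ((nat_lit 768), [nat_lit 0, nat_lit 4, nat_lit 2, nat_lit 0, nat_lit 5, nat_lit 0, nat_lit 4, nat_lit 3, nat_lit 1, nat_lit 0, nat_lit 2, nat_lit 2, nat_lit 0, nat_lit 2, nat_lit 2, nat_lit 0])) (.leaf ((nat_lit 1123), [nat_lit 2, nat_lit 2, nat_lit 5, nat_lit 1, nat_lit 5, nat_lit 4, nat_lit 0, nat_lit 3, nat_lit 0, nat_lit 1, nat_lit 4, nat_lit 0, nat_lit 2, nat_lit 2, nat_lit 0, nat_lit 2, nat_lit 0, nat_lit 1, nat_lit 0]))))))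
 (.node (nat_lit 1688) (.node (nat_lit 1685) (.node (nat_lit 1684) (.leaf ((nat_lit 113), [nat_lit 3, nat_lit 5, nat_lit 2, nat_lit 5, nat_lit 4, nat_lit 2, nat_lit 0, nat_lit 3, nat_lit 1, nat_lit 0, nat_lit 1, nat_lit 0])) (.leaf ((nat_lit 665), [nat_lit 5, nat_lit 1, nat_lit 3, nat_lit 2, nat_lit 5, nat_lit 1, nat_lit 4, nat_lit 2, nat_lit 0, nat_lit 2, nat_lit 3, nat_lit 0, nat_lit 2, nat_lit 0, nat_lit 1]))) (.node (nat_lit 1686) (.leaf ((nat_lit 894), [nat_lit 4, nat_lit 0, nat_lit 5, nat_lit 2, nat_lit 5, nat_lit 2, nat_lit 0, nat_lit 3, nat_lit 1, nat_lit 0, nat_lit 2, nat_lit 0])) (.node (nat_lit 1687) (.leaf ((nat_lit 767), [nat_lit 0, nat_lit 3, nat_lit 5, nat_lit 0, nat_lit 3, nat_lit 1, nat_lit 3, nat_lit 0, nat_lit 2, nat_lit 0, nat_lit 2, nat_lit 2, nat_lit 0, nat_lit 1, nat_lit 0])) (.leaf ((nat_lit 644), [nat_lit 5, nat_lit 4, nat_lit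 5, nat_lit 3, nat_lit 5, nat_lit 0, nat_lit 3, nat_lit 4, nat_lit 1, nat_lit 0, nat_lit 3, nat_lit 2, nat_lit 0, nat_lit 1, nat_lit 0, nat_lit 1, nat_lit 0])))))
 (.node (nat_lit 1691) (.node (nat_lit 1689) (.leaf ((nat_lit 963), [nat_lit 0, nat_lit 5, nat_lit 2, nat_lit 5, nat_lit 4, nat_lit 0, nat_lit 1, nat_lit 0, nat_lit 1, nat_lit 0, nat_lit 3, nat_lit 2, nat_lit 0, nat_lit 1, nat_lit 0, nat_lit 2, nat_lit 0, nat_lit 2, nat_lit 0])) (.node (nat_lit 1690) (.leaf ((nat_lit 1188), [nat_lit 0, nat_lit 5, nat_lit 2, nat_lit 5, nat_lit 0, nat_lit 1, nat_lit 4, nat_lit 1, nat_lit 0, nat_lit 3, nat_lit 0, nat_lit 1, nat_lit 0, nat_lit 2, nat_lit 0, nat_lit 2, nat_lit 2, nat_lit 0])) (.leaf ((nat_lit 1189), [nat_lit 3, nat_lit 1, nat_lit 5, nat_lit 0, nat_lit 5, nat_lit 4, nat_lit 1, nat_lit 4, nat_lit 1, nat_lit 4, nat_lit 2, nat_lit 0, nat_lit 1, nat_lit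 0, nat_lit 2, nat_lit 0, nat_lit 2])))) (.node (nat_lit 1692) (.leaf ((nat_lit 1190), [nat_lit 4, nat_lit 2, nat_lit 0, nat_lit 5, nat_lit 4, nat_lit 2, nat_lit 2, nat_lit 4, nat_lit 1, nat_lit 0, nat_lit 3, nat_lit 0, nat_lit 2, nat_lit 0, nat_lit 2, nat_lit 2, nat_lit 0, nat_lit 1, nat_lit 0])) (.node (nat_lit 1693) (.leaf ((nat_lit 234), [nat_lit 4, nat_lit 2, nat_lit 5, nat_lit 3, nat_lit 5, nat_lit 2, nat_lit 3, nat_lit 1, nat_lit 3, nat_lit 4, nat_lit 2, nat_lit 2, nat_lit 0, nat_lit 2, nat_lit 0, nat_lit 1, nat_lit 0])) (.leaf ((nat_lit 633), [nat_lit 0, nat_lit 4, nat_lit 2, nat_lit 0, nat_lit 5, nat_lit 4, nat_lit 1, nat_lit 4, nat_lit 1, nat_lit 4, nat_lit 0, nat_lit 2])))))))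
 (.node (nat_lit 1705) (.node (nat_lit 1699) (.node (nat_lit 1696) (.node (nat_lit 1695) (.leaf ((nat_lit 1191), [nat_lit 3, nat_lit 0, nat_lit 5, nat_lit 4, nat_lit 3, nat_lit 2, nat_lit 4, nat_lit 2, nat_lit 2, nat_lit 0, nat_lit 2, nat_lit 2, nat_lit 0, nat_lit 1, nat_lit 0])) (.leaf ((nat_lit 84), [nat_lit 4, nat_lit 5, nat_lit 0, nat_lit 3, nat_lit 5, nat_lit 4, nat_lit 1, nat_lit 3, nat_lit 2, nat_lit 2, nat_lit 0, nat_lit 1, nat_lit 0, nat_lit 2]))) (.node (nat_lit 1697) (.leaf ((nat_lit 1034), [nat_lit 4, nat_lit 3, nat_lit 5, nat_lit 4, nat_lit 3, nat_lit 2, nat_lit 3, nat_lit 2, nat_lit 3, nat_lit 2, nat_lit 2, nat_lit 0, nat_lit 1, nat_lit 0, nat_lit 2, nat_lit 0])) (.node (nat_lit 1698) (.leaf ((nat_lit 586), [nat_lit 4, nat_lit 3, nat_lit 2, nat_lit 5, nat_lit 4, nat_lit 2, nat_lit 2, nat_lit 4, nat_lit 1, nat_lit 0, nat_lit 3, nat_lit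 2, nat_lit 2, nat_lit 0, nat_lit 2, nat_lit 2, nat_lit 0, nat_lit 2, nat_lit 2, nat_lit 0])) (.leaf ((nat_lit 1192), [nat_lit 1, nat_lit 5, nat_lit 1, nat_lit 5, nat_lit 1, nat_lit 0, nat_lit 1, nat_lit 4, nat_lit 3, nat_lit 0, nat_lit 2, nat_lit 0, nat_lit 1, nat_lit 0])))))
 (.node (nat_lit 1702) (.node (nat_lit 1700) (.leaf ((nat_lit 264), [nat_lit 0, nat_lit 4, nat_lit 2, nat_lit 0, nat_lit 5, nat_lit 3, nat_lit 2, nat_lit 0, nat_lit 4, nat_lit 1, nat_lit 0, nat_lit 2, nat_lit 2, nat_lit 0])) (.node (nat_lit 1701) (.leaf ((nat_lit 618), [nat_lit 4, nat_lit 2, nat_lit 5, nat_lit 3, nat_lit 5, nat_lit 3, nat_lit 0, nat_lit 4, nat_lit 0, nat_lit 4, nat_lit 1, nat_lit 0, nat_lit 1, nat_lit 0, nat_lit 2, nat_lit 2])) (.leaf ((nat_lit 1193), [nat_lit 0, nat_lit 2, nat_lit 4, nat_lit 0, nat_lit 5, nat_lit 3, nat_lit 2, nat_lit 2, nat_lit 0, nat_lit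 4, nat_lit 2, nat_lit 2, nat_lit 0, nat_lit 1, nat_lit 0, nat_lit 2, nat_lit 0])))) (.node (nat_lit 1703) (.leaf ((nat_lit 1194), [nat_lit 3, nat_lit 0, nat_lit 5, nat_lit 3, nat_lit 5, nat_lit 3, nat_lit 4, nat_lit 0, nat_lit 2, nat_lit 2, nat_lit 3, nat_lit 1, nat_lit 0, nat_lit 2, nat_lit 2, nat_lit 0, nat_lit 2, nat_lit 2, nat_lit 0])) (.node (nat_lit 1704) (.leaf ((nat_lit 1011), [nat_lit 5, nat_lit 3, nat_lit 5, nat_lit 3, nat_lit 1, nat_lit 3, nat_lit 2, nat_lit 0, nat_lit 2, nat_lit 2])) (.leaf ((nat_lit 1195), [nat_lit 2, nat_lit 5, nat_lit 2, nat_lit 3, nat_lit 5, nat_lit 4, nat_lit 2, nat_lit 0, nat_lit 3, nat_lit 1, nat_lit 0, nat_lit 2, nat_lit 2, nat_lit 0, nat_lit 2]))))))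
 (.node (nat_lit 1710) (.node (nat_lit 1707) (.node (nat_lit 1706) (.leaf ((nat_lit 272), [nat_lit 3, nat_lit 2, nat_lit 3, nat_lit 5, nat_lit 2, nat_lit 4, nat_lit 1, nat_lit 4, nat_lit 1, nat_lit 3, nat_lit 2, nat_lit 2, nat_lit 0, nat_lit 2, nat_lit 2, nat_lit 0, nat_lit 2, nat_lit 2])) (.leaf ((nat_lit 116), [nat_lit 5, nat_lit 2, nat_lit 3, nat_lit 0, nat_lit 5, nat_lit 2, nat_lit 3, nat_lit 4, nat_lit 3, nat_lit 0, nat_lit 1, nat_lit 0, nat_lit 2, nat_lit 0, nat_lit 2, nat_lit 2]))) (.node (nat_lit 1708) (.leaf ((nat_lit 976), [nat_lit 1, nat_lit 0, nat_lit 5, nat_lit 4, nat_lit 3, nat_lit 1, nat_lit 0, nat_lit 2, nat_lit 3, nat_lit 2, nat_lit 0])) (.node (nat_lit 1709) (.leaf ((nat_lit 1196), [nat_lit 5, nat_lit 4, nat_lit 5, nat_lit 1, nat_lit 5, nat_lit 3, nat_lit 4, nat_lit 0, nat_lit 3, nat_lit 1, nat_lit 3, nat_lit 1, nat_lit 0, nat_lit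 1, nat_lit 0, nat_lit 2, nat_lit 0])) (.leaf ((nat_lit 964), [nat_lit 3, nat_lit 0, nat_lit 5, nat_lit 4, nat_lit 2, nat_lit 3, nat_lit 0, nat_lit 4, nat_lit 2, nat_lit 0, nat_lit 1, nat_lit 0])))))
 (.node (nat_lit 1713) (.node (nat_lit 1711) (.leaf ((nat_lit 492), [nat_lit 3, nat_lit 5, nat_lit 1, nat_lit 3, nat_lit 4, nat_lit 1, nat_lit 0, nat_lit 3, nat_lit 2, nat_lit 0, nat_lit 1])) (.node (nat_lit 1712) (.leaf ((nat_lit 722), [nat_lit 0, nat_lit 5, nat_lit 3, nat_lit 5, nat_lit 4, nat_lit 2, nat_lit 0, nat_lit 2, nat_lit 3, nat_lit 0, nat_lit 2, nat_lit 0, nat_lit 2, nat_lit 2, nat_lit 0, nat_lit 2])) (.leaf ((nat_lit 1197), [nat_lit 1, nat_lit 3, nat_lit 2, nat_lit 5, nat_lit 0, nat_lit 2, nat_lit 4, nat_lit 2, nat_lit 4, nat_lit 0, nat_lit 1, nat_lit 0, nat_lit 2, nat_lit 0, nat_lit 2, nat_lit 2])))) (.node (nat_lit 1714) (.leaf ((nat_lit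 501), [nat_lit 5, nat_lit 4, nat_lit 2, nat_lit 2, nat_lit 4, nat_lit 3, nat_lit 0, nat_lit 1, nat_lit 0])) (.node (nat_lit 1715) (.leaf ((nat_lit 1198), [nat_lit 2, nat_lit 5, nat_lit 2, nat_lit 3, nat_lit 5, nat_lit 3, nat_lit 2, nat_lit 0, nat_lit 3, nat_lit 4, nat_lit 0, nat_lit 2])) (.leaf ((nat_lit 1199), [nat_lit 4, nat_lit 5, nat_lit 2, nat_lit 5, nat_lit 2, nat_lit 0, nat_lit 4, nat_lit 1, nat_lit 3, nat_lit 0, nat_lit 2, nat_lit 0, nat_lit 1, nat_lit 0, nat_lit 1, nat_lit 0]))))))))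
 (.node (nat_lit 1738) (.node (nat_lit 1727) (.node (nat_lit 1721) (.node (nat_lit 1718) (.node (nat_lit 1717) (.leaf ((nat_lit 899), [nat_lit 4, nat_lit 5, nat_lit 1, nat_lit 5, nat_lit 4, nat_lit 2, nat_lit 4, nat_lit 0, nat_lit 1, nat_lit 0, nat_lit 3, nat_lit 2, nat_lit 0, nat_lit 1, nat_lit 0, nat_lit 1, nat_lit 0, nat_lit 2, nat_lit 0])) (.leaf ((nat_lit 121), [nat_lit 2, nat_lit 5, nat_lit 2, nat_lit 3, nat_lit 5, nat_lit 0, nat_lit 2, nat_lit 2, nat_lit 3, nat_lit 0, nat_lit 1, nat_lit 0, nat_lit 2, nat_lit 0, nat_lit 2, nat_lit 2]))) (.node (nat_lit 1719) (.leaf ((nat_lit 55), [nat_lit 4, nat_lit 5, nat_lit 0, nat_lit 4, nat_lit 1, nat_lit 0, nat_lit 4, nat_lit 2, nat_lit 0, nat_lit 2, nat_lit 2, nat_lit 0, nat_lit 1, nat_lit 0])) (.node (nat_lit 1720) (.leaf ((nat_lit 1200), [nat_lit 1, nat_lit 0, nat_lit 5, nat_lit 3, nat_lit 5, nat_lit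 2, nat_lit 0, nat_lit 3, nat_lit 0, nat_lit 4, nat_lit 1, nat_lit 0, nat_lit 1, nat_lit 0, nat_lit 2, nat_lit 2])) (.leaf ((nat_lit 1201), [nat_lit 3, nat_lit 2, nat_lit 0, nat_lit 5, nat_lit 4, nat_lit 3, nat_lit 1, nat_lit 0, nat_lit 4, nat_lit 2, nat_lit 0, nat_lit 2, nat_lit 0])))))
 (.node (nat_lit 1724) (.node (nat_lit 1722) (.leaf ((nat_lit 1048), [nat_lit 4, nat_lit 3, nat_lit 2, nat_lit 5, nat_lit 3, nat_lit 0, nat_lit 3, nat_lit 2, nat_lit 3, nat_lit 1, nat_lit 0, nat_lit 2, nat_lit 0, nat_lit 1])) (.node (nat_lit 1723) (.leaf ((nat_lit 69), [nat_lit 1, nat_lit 5, nat_lit 3, nat_lit 0, nat_lit 2, nat_lit 3, nat_lit 2, nat_lit 0, nat_lit 1])) (.leaf ((nat_lit 1082), [nat_lit 3, nat_lit 5, nat_lit 2, nat_lit 5, nat_lit 1, nat_lit 3, nat_lit 2, nat_lit 4, nat_lit 2, nat_lit 3, nat_lit 2, nat_lit 2, nat_lit 0, nat_lit 2])))) (.node (nat_lit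 1725) (.leaf ((nat_lit 895), [nat_lit 2, nat_lit 3, nat_lit 5, nat_lit 0, nat_lit 5, nat_lit 2, nat_lit 2, nat_lit 4, nat_lit 2, nat_lit 4, nat_lit 1, nat_lit 0, nat_lit 2, nat_lit 2])) (.node (nat_lit 1726) (.leaf ((nat_lit 1202), [nat_lit 1, nat_lit 5, nat_lit 2, nat_lit 3, nat_lit 2, nat_lit 4, nat_lit 1, nat_lit 0, nat_lit 2, nat_lit 2])) (.leaf ((nat_lit 536), [nat_lit 5, nat_lit 4, nat_lit 2, nat_lit 5, nat_lit 4, nat_lit 1, nat_lit 4, nat_lit 1, nat_lit 4, nat_lit 3, nat_lit 0, nat_lit 1, nat_lit 0, nat_lit 2, nat_lit 2, nat_lit 0]))))))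
 (.node (nat_lit 1732) (.node (nat_lit 1729) (.node (nat_lit 1728) (.leaf ((nat_lit 1203), [nat_lit 5, nat_lit 0, nat_lit 4, nat_lit 5, nat_lit 2, nat_lit 3, nat_lit 4, nat_lit 1, nat_lit 3, nat_lit 0, nat_lit 2, nat_lit 2, nat_lit 0, nat_lit 2, nat_lit 2, nat_lit 0])) (.leaf ((nat_lit 452), [nat_lit 0, nat_lit 5, nat_lit 3, nat_lit 5, nat_lit 2, nat_lit 4, nat_lit 3, nat_lit 0, nat_lit 2, nat_lit 4, nat_lit 2, nat_lit 0, nat_lit 2, nat_lit 0, nat_lit 1, nat_lit 0, nat_lit 1]))) (.node (nat_lit 1730) (.leaf ((nat_lit 1204), [nat_lit 3, nat_lit 2, nat_lit 5, nat_lit 0, nat_lit 5, nat_lit 0, nat_lit 4, nat_lit 3, nat_lit 0, nat_lit 3, nat_lit 2, nat_lit 0, nat_lit 1, nat_lit 0, nat_lit 2, nat_lit 0, nat_lit 2, nat_lit 0])) (.node (nat_lit 1731) (.leaf ((nat_lit 1093), [nat_lit 3, nat_lit 0, nat_lit 5, nat_lit 0, nat_lit 3, nat_lit 0, nat_lit 1, nat_lit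 4, nat_lit 2, nat_lit 0, nat_lit 1])) (.leaf ((nat_lit 710), [nat_lit 5, nat_lit 4, nat_lit 3, nat_lit 5, nat_lit 2, nat_lit 5, nat_lit 1, nat_lit 3, nat_lit 0, nat_lit 2, nat_lit 2, nat_lit 0])))))
 (.node (nat_lit 1735) (.node (nat_lit 1733) (.leaf ((nat_lit 616), [nat_lit 2, nat_lit 0, nat_lit 2, nat_lit 5, nat_lit 4, nat_lit 1, nat_lit 3, nat_lit 1, nat_lit 3, nat_lit 2, nat_lit 2, nat_lit 0, nat_lit 2, nat_lit 2, nat_lit 0, nat_lit 1, nat_lit 0])) (.node (nat_lit 1734) (.leaf ((nat_lit 883), [nat_lit 5, nat_lit 4, nat_lit 2, nat_lit 5, nat_lit 0, nat_lit 2, nat_lit 0, nat_lit 2, nat_lit 4, nat_lit 1, nat_lit 0])) (.leaf ((nat_lit 1205), [nat_lit 4, nat_lit 2, nat_lit 5, nat_lit 1, nat_lit 5, nat_lit 3, nat_lit 2, nat_lit 4, nat_lit 2, nat_lit 4, nat_lit 1, nat_lit 0, nat_lit 1, nat_lit 0, nat_lit 2, nat_lit 0, nat_lit 2])))) (.node (nat_lit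 1736) (.leaf ((nat_lit 1206), [nat_lit 2, nat_lit 5, nat_lit 1, nat_lit 5, nat_lit 3, nat_lit 4, nat_lit 1, nat_lit 3, nat_lit 0, nat_lit 2, nat_lit 0, nat_lit 2, nat_lit 2, nat_lit 0, nat_lit 1])) (.node (nat_lit 1737) (.leaf ((nat_lit 1207), [nat_lit 1, nat_lit 5, nat_lit 2, nat_lit 5, nat_lit 3, nat_lit 0, nat_lit 4, nat_lit 1, nat_lit 0, nat_lit 3, nat_lit 2, nat_lit 2, nat_lit 0, nat_lit 1])) (.leaf ((nat_lit 475), [nat_lit 2, nat_lit 4, nat_lit 0, nat_lit 5, nat_lit 3, nat_lit 1, nat_lit 3, nat_lit 1, nat_lit 4, nat_lit 0, nat_lit 1, nat_lit 0, nat_lit 2, nat_lit 0, nat_lit 2, nat_lit 2])))))))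
 (.node (nat_lit 1749) (.node (nat_lit 1743) (.node (nat_lit 1740) (.node (nat_lit 1739) (.leaf ((nat_lit 1076), [nat_lit 4, nat_lit 5, nat_lit 2, nat_lit 3, nat_lit 2, nat_lit 0, nat_lit 4, nat_lit 2, nat_lit 2, nat_lit 0, nat_lit 1, nat_lit 0, nat_lit 2, nat_lit 2])) (.leaf ((nat_lit 1208), [nat_lit 2, nat_lit 4, nat_lit 2, nat_lit 0, nat_lit 5, nat_lit 3, nat_lit 1, nat_lit 0, nat_lit 3, nat_lit 1, nat_lit 3, nat_lit 2, nat_lit 0, nat_lit 1, nat_lit 0, nat_lit 2, nat_lit 2]))) (.node (nat_lit 1741) (.leaf ((nat_lit 1209), [nat_lit 3, nat_lit 5, nat_lit 0, nat_lit 3, nat_lit 5, nat_lit 3, nat_lit 0, nat_lit 3, nat_lit 0, nat_lit 4, nat_lit 2, nat_lit 2, nat_lit 0, nat_lit 2])) (.node (nat_lit 1742) (.leaf ((nat_lit 1210), [nat_lit 1, nat_lit 3, nat_lit 2, nat_lit 5, nat_lit 3, nat_lit 0, nat_lit 2, nat_lit 4, nat_lit 0, nat_lit 2, nat_lit 0, nat_lit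 1, nat_lit 0])) (.leaf ((nat_lit 621), [nat_lit 2, nat_lit 4, nat_lit 2, nat_lit 0, nat_lit 5, nat_lit 4, nat_lit 2, nat_lit 4, nat_lit 3, nat_lit 0, nat_lit 2, nat_lit 0, nat_lit 2, nat_lit 2, nat_lit 0])))))
 (.node (nat_lit 1746) (.node (nat_lit 1744) (.leaf ((nat_lit 1211), [nat_lit 5, nat_lit 3, nat_lit 5, nat_lit 1, nat_lit 3, nat_lit 4, nat_lit 0, nat_lit 2, nat_lit 4, nat_lit 2])) (.node (nat_lit 1745) (.leaf ((nat_lit 132), [nat_lit 5, nat_lit 1, nat_lit 0, nat_lit 3, nat_lit 5, nat_lit 2, nat_lit 3, nat_lit 1, nat_lit 3, nat_lit 4, nat_lit 3, nat_lit 2, nat_lit 2, nat_lit 0, nat_lit 2, nat_lit 2, nat_lit 0])) (.leaf ((nat_lit 328), [nat_lit 4, nat_lit 5, nat_lit 4, nat_lit 0, nat_lit 5, nat_lit 4, nat_lit 3, nat_lit 2, nat_lit 4, nat_lit 2, nat_lit 3, nat_lit 1, nat_lit 0, nat_lit 2, nat_lit 0, nat_lit 2])))) (.node (nat_lit 1747) (.leaf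 ((nat_lit 924), [nat_lit 4, nat_lit 1, nat_lit 5, nat_lit 2, nat_lit 5, nat_lit 3, nat_lit 4, nat_lit 2, nat_lit 0, nat_lit 2, nat_lit 3, nat_lit 0, nat_lit 2, nat_lit 0, nat_lit 2, nat_lit 0])) (.node (nat_lit 1748) (.leaf ((nat_lit 276), [nat_lit 3, nat_lit 5, nat_lit 2, nat_lit 3, nat_lit 0, nat_lit 5, nat_lit 2, nat_lit 4, nat_lit 2, nat_lit 3, nat_lit 4, nat_lit 2, nat_lit 2, nat_lit 0, nat_lit 2, nat_lit 2, nat_lit 0])) (.leaf ((nat_lit 608), [nat_lit 3, nat_lit 0, nat_lit 2, nat_lit 5, nat_lit 0, nat_lit 3, nat_lit 0, nat_lit 2, nat_lit 3, nat_lit 0, nat_lit 2, nat_lit 0, nat_lit 2, nat_lit 2, nat_lit 0]))))))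
 (.node (nat_lit 1754) (.node (nat_lit 1751) (.node (nat_lit 1750) (.leaf ((nat_lit 1212), [nat_lit 4, nat_lit 2, nat_lit 0, nat_lit 5, nat_lit 4, nat_lit 1, nat_lit 4, nat_lit 2, nat_lit 4, nat_lit 0, nat_lit 1, nat_lit 0, nat_lit 2, nat_lit 0])) (.leaf ((nat_lit 1213), [nat_lit 4, nat_lit 5, nat_lit 3, nat_lit 0, nat_lit 5, nat_lit 2, nat_lit 4, nat_lit 0, nat_lit 4, nat_lit 2, nat_lit 2, nat_lit 0, nat_lit 2, nat_lit 2]))) (.node (nat_lit 1752) (.leaf ((nat_lit 1135), [nat_lit 0, nat_lit 5, nat_lit 3, nat_lit 0, nat_lit 5, nat_lit 2, nat_lit 0, nat_lit 3, nat_lit 0, nat_lit 4, nat_lit 2, nat_lit 2, nat_lit 0, nat_lit 2, nat_lit 2, nat_lit 0])) (.node (nat_lit 1753) (.leaf ((nat_lit 1214), [nat_lit 5, nat_lit 2, nat_lit 0, nat_lit 2, nat_lit 5, nat_lit 2, nat_lit 4, nat_lit 3, nat_lit 2, nat_lit 3, nat_lit 2, nat_lit 2, nat_lit 0, nat_lit 2, nat_lit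 2, nat_lit 0])) (.leaf ((nat_lit 1215), [nat_lit 1, nat_lit 0, nat_lit 3, nat_lit 5, nat_lit 4, nat_lit 2, nat_lit 0, nat_lit 4, nat_lit 0, nat_lit 2, nat_lit 2, nat_lit 0, nat_lit 1, nat_lit 0, nat_lit 2])))))
 (.node (nat_lit 1757) (.node (nat_lit 1755) (.leaf ((nat_lit 993), [nat_lit 5, nat_lit 0, nat_lit 1, nat_lit 5, nat_lit 4, nat_lit 3, nat_lit 2, nat_lit 4, nat_lit 0, nat_lit 2, nat_lit 2, nat_lit 0, nat_lit 2, nat_lit 2])) (.node (nat_lit 1756) (.leaf ((nat_lit 423), [nat_lit 1, nat_lit 3, nat_lit 0, nat_lit 5, nat_lit 1, nat_lit 3, nat_lit 0, nat_lit 3, nat_lit 2, nat_lit 3, nat_lit 0, nat_lit 1, nat_lit 0, nat_lit 2, nat_lit 2, nat_lit 0, nat_lit 2])) (.leaf ((nat_lit 1216), [nat_lit 1, nat_lit 5, nat_lit 2, nat_lit 5, nat_lit 4, nat_lit 0, nat_lit 4, nat_lit 0, nat_lit 2, nat_lit 0, nat_lit 1, nat_lit 0, nat_lit 1])))) (.node (nat_lit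 1758) (.leaf ((nat_lit 345), [nat_lit 5, nat_lit 2, nat_lit 4, nat_lit 0, nat_lit 5, nat_lit 4, nat_lit 2, nat_lit 0, nat_lit 3, nat_lit 0, nat_lit 4, nat_lit 2, nat_lit 2, nat_lit 0, nat_lit 1, nat_lit 0, nat_lit 2])) (.node (nat_lit 1759) (.leaf ((nat_lit 32), [nat_lit 3, nat_lit 4, nat_lit 5, nat_lit 2, nat_lit 5, nat_lit 3, nat_lit 1, nat_lit 4, nat_lit 0, nat_lit 4, nat_lit 2, nat_lit 2, nat_lit 0, nat_lit 1, nat_lit 0, nat_lit 2])) (.leaf ((nat_lit 987), [nat_lit 1, nat_lit 5, nat_lit 2, nat_lit 5, nat_lit 4, nat_lit 0, nat_lit 2, nat_lit 2, nat_lit 3, nat_lit 2, nat_lit 0, nat_lit 1, nat_lit 0, nat_lit 2, nat_lit 2]))))))))))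
noncomputable def pWd_10 : Tr (ℕ × List ℕ) := (.node (nat_lit 1848) (.node (nat_lit 1804) (.node (nat_lit 1782) (.node (nat_lit 1771) (.node (nat_lit 1765) (.node (nat_lit 1762) (.node (nat_lit 1761) (.leaf ((nat_lit 1037), [nat_lit 5, nat_lit 4, nat_lit 1, nat_lit 0, nat_lit 5, nat_lit 1, nat_lit 3, nat_lit 0, nat_lit 3, nat_lit 2, nat_lit 3, nat_lit 2, nat_lit 0])) (.leaf ((nat_lit 1217), [nat_lit 3, nat_lit 0, nat_lit 2, nat_lit 5, nat_lit 2, nat_lit 3, nat_lit 2, nat_lit 0, nat_lit 3, nat_lit 2, nat_lit 2]))) (.node (nat_lit 1763) (.leaf ((nat_lit 594), [nat_lit 2, nat_lit 5, nat_lit 1, nat_lit 3, nat_lit 0, nat_lit 3, nat_lit 0, nat_lit 2, nat_lit 2, nat_lit 0, nat_lit 1, nat_lit 0, nat_lit 2])) (.node (nat_lit 1764) (.leaf ((nat_lit 1218), [nat_lit 2, nat_lit 3, nat_lit 5, nat_lit 0, nat_lit 5, nat_lit 1, nat_lit 4, nat_lit 1, nat_lit 4, nat_lit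 0, nat_lit 2, nat_lit 2, nat_lit 0])) (.leaf ((nat_lit 1219), [nat_lit 2, nat_lit 2, nat_lit 0, nat_lit 5, nat_lit 2, nat_lit 2, nat_lit 4, nat_lit 2, nat_lit 4, nat_lit 0, nat_lit 2, nat_lit 0, nat_lit 2, nat_lit 2, nat_lit 0, nat_lit 1])))))
 (.node (nat_lit 1768) (.node (nat_lit 1766) (.leaf ((nat_lit 1143), [nat_lit 5, nat_lit 3, nat_lit 2, nat_lit 0, nat_lit 5, nat_lit 3, nat_lit 0, nat_lit 1, nat_lit 4, nat_lit 2, nat_lit 2, nat_lit 0, nat_lit 1, nat_lit 0])) (.node (nat_lit 1767) (.leaf ((nat_lit 1220), [nat_lit 3, nat_lit 5, nat_lit 2, nat_lit 3, nat_lit 0, nat_lit 5, nat_lit 4, nat_lit 0, nat_lit 1, nat_lit 0, nat_lit 2, nat_lit 2, nat_lit 0, nat_lit 1])) (.leaf ((nat_lit 1221), [nat_lit 1, nat_lit 5, nat_lit 2, nat_lit 5, nat_lit 3, nat_lit 0, nat_lit 2, nat_lit 4, nat_lit 3, nat_lit 0, nat_lit 2, nat_lit 2, nat_lit 0, nat_lit 2, nat_lit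 0, nat_lit 1])))) (.node (nat_lit 1769) (.leaf ((nat_lit 909), [nat_lit 4, nat_lit 2, nat_lit 0, nat_lit 5, nat_lit 1, nat_lit 4, nat_lit 3, nat_lit 2, nat_lit 0, nat_lit 3, nat_lit 2, nat_lit 0, nat_lit 1, nat_lit 0, nat_lit 1, nat_lit 0])) (.node (nat_lit 1770) (.leaf ((nat_lit 1222), [nat_lit 1, nat_lit 0, nat_lit 5, nat_lit 3, nat_lit 1, nat_lit 0, nat_lit 2, nat_lit 0, nat_lit 2, nat_lit 2, nat_lit 0])) (.leaf ((nat_lit 346), [nat_lit 0, nat_lit 2, nat_lit 5, nat_lit 4, nat_lit 0, nat_lit 3, nat_lit 1, nat_lit 3, nat_lit 2, nat_lit 0, nat_lit 1, nat_lit 0, nat_lit 1, nat_lit 0, nat_lit 2]))))))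
 (.node (nat_lit 1776) (.node (nat_lit 1773) (.node (nat_lit 1772) (.leaf ((nat_lit 278), [nat_lit 1, nat_lit 3, nat_lit 2, nat_lit 5, nat_lit 2, nat_lit 4, nat_lit 3, nat_lit 0, nat_lit 2, nat_lit 4, nat_lit 1, nat_lit 0, nat_lit 2, nat_lit 2, nat_lit 0, nat_lit 2])) (.leaf ((nat_lit 1223), [nat_lit 5, nat_lit 1, nat_lit 3, nat_lit 0, nat_lit 5, nat_lit 4, nat_lit 0, nat_lit 3, nat_lit 1, nat_lit 3, nat_lit 2, nat_lit 2, nat_lit 0]))) (.node (nat_lit 1774) (.leaf ((nat_lit 219), [nat_lit 0, nat_lit 5, nat_lit 2, nat_lit 3, nat_lit 5, nat_lit 3, nat_lit 2, nat_lit 3, nat_lit 2, nat_lit 4, nat_lit 2, nat_lit 2, nat_lit 0, nat_lit 2, nat_lit 2, nat_lit 0, nat_lit 2, nat_lit 2, nat_lit 0])) (.node (nat_lit 1775) (.leaf ((nat_lit 568), [nat_lit 4, nat_lit 1, nat_lit 0, nat_lit 5, nat_lit 1, nat_lit 3, nat_lit 1, nat_lit 3, nat_lit 4, nat_lit 0, nat_lit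 2, nat_lit 2, nat_lit 0, nat_lit 2, nat_lit 2, nat_lit 0])) (.leaf ((nat_lit 1194), [nat_lit 4, nat_lit 5, nat_lit 0, nat_lit 3, nat_lit 5, nat_lit 4, nat_lit 3, nat_lit 1, nat_lit 0, nat_lit 2, nat_lit 3, nat_lit 2, nat_lit 2, nat_lit 0, nat_lit 2, nat_lit 2, nat_lit 0, nat_lit 1, nat_lit 0])))))
 (.node (nat_lit 1779) (.node (nat_lit 1777) (.leaf ((nat_lit 77), [nat_lit 0, nat_lit 2, nat_lit 5, nat_lit 4, nat_lit 3, nat_lit 0, nat_lit 1, nat_lit 0, nat_lit 3, nat_lit 2, nat_lit 2, nat_lit 0])) (.node (nat_lit 1778) (.leaf ((nat_lit 561), [nat_lit 1, nat_lit 5, nat_lit 1, nat_lit 5, nat_lit 2, nat_lit 3, nat_lit 2, nat_lit 2, nat_lit 0, nat_lit 2, nat_lit 0, nat_lit 1])) (.leaf ((nat_lit 556), [nat_lit 5, nat_lit 4, nat_lit 5, nat_lit 0, nat_lit 2, nat_lit 0, nat_lit 2, nat_lit 4, nat_lit 0, nat_lit 2, nat_lit 2, nat_lit 0, nat_lit 1, nat_lit 0,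 nat_lit 2, nat_lit 0])))) (.node (nat_lit 1780) (.leaf ((nat_lit 904), [nat_lit 2, nat_lit 5, nat_lit 3, nat_lit 5, nat_lit 4, nat_lit 2, nat_lit 3, nat_lit 2, nat_lit 2, nat_lit 3])) (.node (nat_lit 1781) (.leaf ((nat_lit 638), [nat_lit 4, nat_lit 0, nat_lit 5, nat_lit 2, nat_lit 5, nat_lit 4, nat_lit 2, nat_lit 0, nat_lit 4, nat_lit 2, nat_lit 2, nat_lit 0, nat_lit 2, nat_lit 2, nat_lit 0])) (.leaf ((nat_lit 1224), [nat_lit 4, nat_lit 3, nat_lit 2, nat_lit 5, nat_lit 3, nat_lit 4, nat_lit 3, nat_lit 2, nat_lit 4, nat_lit 2, nat_lit 0, nat_lit 2, nat_lit 2, nat_lit 0, nat_lit 2])))))))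
 (.node (nat_lit 1793) (.node (nat_lit 1787) (.node (nat_lit 1784) (.node (nat_lit 1783) (.leaf ((nat_lit 962), [nat_lit 4, nat_lit 3, nat_lit 5, nat_lit 2, nat_lit 3, nat_lit 2, nat_lit 4, nat_lit 0, nat_lit 1, nat_lit 0, nat_lit 1, nat_lit 0])) (.leaf ((nat_lit 1019), [nat_lit 0, nat_lit 5, nat_lit 0, nat_lit 1, nat_lit 5, nat_lit 1, nat_lit 4, nat_lit 1, nat_lit 4, nat_lit 3, nat_lit 0, nat_lit 2, nat_lit 0, nat_lit 2, nat_lit 2, nat_lit 0, nat_lit 1]))) (.node (nat_lit 1785) (.leaf ((nat_lit 790), [nat_lit 4, nat_lit 2, nat_lit 5, nat_lit 1, nat_lit 5, nat_lit 0, nat_lit 3, nat_lit 4, nat_lit 0, nat_lit 3, nat_lit 0, nat_lit 1, nat_lit 0, nat_lit 1, nat_lit 0, nat_lit 2])) (.node (nat_lit 1786) (.leaf ((nat_lit 1225), [nat_lit 2, nat_lit 5, nat_lit 4, nat_lit 5, nat_lit 4, nat_lit 2, nat_lit 3, nat_lit 2, nat_lit 2, nat_lit 3, nat_lit 2, nat_lit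 2, nat_lit 0, nat_lit 1, nat_lit 0, nat_lit 2, nat_lit 2])) (.leaf ((nat_lit 512), [nat_lit 3, nat_lit 2, nat_lit 4, nat_lit 3, nat_lit 2, nat_lit 3, nat_lit 0, nat_lit 1, nat_lit 0, nat_lit 1])))))
 (.node (nat_lit 1790) (.node (nat_lit 1788) (.leaf ((nat_lit 1226), [nat_lit 3, nat_lit 5, nat_lit 0, nat_lit 5, nat_lit 1, nat_lit 3, nat_lit 1, nat_lit 0, nat_lit 4, nat_lit 1, nat_lit 0, nat_lit 2, nat_lit 2, nat_lit 0, nat_lit 2, nat_lit 2, nat_lit 0])) (.node (nat_lit 1789) (.leaf ((nat_lit 462), [nat_lit 1, nat_lit 4, nat_lit 2, nat_lit 5, nat_lit 0, nat_lit 3, nat_lit 0, nat_lit 2, nat_lit 4, nat_lit 1, nat_lit 0, nat_lit 2, nat_lit 2, nat_lit 0, nat_lit 1, nat_lit 0])) (.leaf ((nat_lit 1227), [nat_lit 5, nat_lit 3, nat_lit 0, nat_lit 2, nat_lit 4, nat_lit 3, nat_lit 0, nat_lit 1, nat_lit 0, nat_lit 1, nat_lit 0, nat_lit 2, nat_lit 0])))) (.node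 (nat_lit 1791) (.leaf ((nat_lit 267), [nat_lit 2, nat_lit 4, nat_lit 2, nat_lit 0, nat_lit 5, nat_lit 1, nat_lit 4, nat_lit 2, nat_lit 0, nat_lit 2, nat_lit 3, nat_lit 2, nat_lit 0, nat_lit 1, nat_lit 0, nat_lit 1, nat_lit 0, nat_lit 2, nat_lit 0])) (.node (nat_lit 1792) (.leaf ((nat_lit 1228), [nat_lit 1, nat_lit 5, nat_lit 4, nat_lit 0, nat_lit 4, nat_lit 1, nat_lit 0, nat_lit 1, nat_lit 0, nat_lit 2])) (.leaf ((nat_lit 1229), [nat_lit 2, nat_lit 0, nat_lit 5, nat_lit 4, nat_lit 3, nat_lit 0, nat_lit 1, nat_lit 0, nat_lit 3, nat_lit 2, nat_lit 0, nat_lit 2, nat_lit 2, nat_lit 0, nat_lit 2, nat_lit 2]))))))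
 (.node (nat_lit 1798) (.node (nat_lit 1795) (.node (nat_lit 1794) (.leaf ((nat_lit 1230), [nat_lit 2, nat_lit 5, nat_lit 2, nat_lit 3, nat_lit 5, nat_lit 4, nat_lit 0, nat_lit 4, nat_lit 1, nat_lit 3, nat_lit 0, nat_lit 1, nat_lit 0, nat_lit 2, nat_lit 2, nat_lit 0, nat_lit 1, nat_lit 0])) (.leaf ((nat_lit 688), [nat_lit 3, nat_lit 2, nat_lit 0, nat_lit 5, nat_lit 0, nat_lit 2, nat_lit 0, nat_lit 4, nat_lit 1, nat_lit 4, nat_lit 1, nat_lit 0, nat_lit 2, nat_lit 2, nat_lit 0, nat_lit 2, nat_lit 0]))) (.node (nat_lit 1796) (.leaf ((nat_lit 1189), [nat_lit 2, nat_lit 5, nat_lit 2, nat_lit 3, nat_lit 5, nat_lit 3, nat_lit 0, nat_lit 3, nat_lit 2, nat_lit 3, nat_lit 1, nat_lit 0, nat_lit 2, nat_lit 2])) (.node (nat_lit 1797) (.leaf ((nat_lit 1231), [nat_lit 4, nat_lit 5, nat_lit 1, nat_lit 4, nat_lit 2, nat_lit 3, nat_lit 1, nat_lit 3, nat_lit 2, nat_lit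 0, nat_lit 1, nat_lit 0, nat_lit 1, nat_lit 0, nat_lit 2])) (.leaf ((nat_lit 1075), [nat_lit 2, nat_lit 3, nat_lit 5, nat_lit 0, nat_lit 5, nat_lit 1, nat_lit 3, nat_lit 1, nat_lit 4, nat_lit 2, nat_lit 2, nat_lit 0, nat_lit 1, nat_lit 0, nat_lit 2, nat_lit 2, nat_lit 0])))))
 (.node (nat_lit 1801) (.node (nat_lit 1799) (.leaf ((nat_lit 1232), [nat_lit 2, nat_lit 0, nat_lit 1, nat_lit 5, nat_lit 0, nat_lit 1, nat_lit 4, nat_lit 1, nat_lit 0, nat_lit 3, nat_lit 0, nat_lit 2, nat_lit 2, nat_lit 0, nat_lit 2])) (.node (nat_lit 1800) (.leaf ((nat_lit 1130), [nat_lit 5, nat_lit 2, nat_lit 5, nat_lit 3, nat_lit 0, nat_lit 4, nat_lit 1, nat_lit 0, nat_lit 2, nat_lit 0, nat_lit 2, nat_lit 0])) (.leaf ((nat_lit 520), [nat_lit 2, nat_lit 5, nat_lit 0, nat_lit 5, nat_lit 2, nat_lit 3, nat_lit 0, nat_lit 4, nat_lit 1, nat_lit 0])))) (.node (nat_lit 1802) (.leaf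 ((nat_lit 86), [nat_lit 4, nat_lit 5, nat_lit 2, nat_lit 0, nat_lit 5, nat_lit 1, nat_lit 0, nat_lit 4, nat_lit 2, nat_lit 0, nat_lit 1, nat_lit 0])) (.node (nat_lit 1803) (.leaf ((nat_lit 795), [nat_lit 5, nat_lit 2, nat_lit 3, nat_lit 5, nat_lit 3, nat_lit 0, nat_lit 3, nat_lit 4, nat_lit 3, nat_lit 0, nat_lit 2, nat_lit 2, nat_lit 0, nat_lit 1, nat_lit 0])) (.leaf ((nat_lit 473), [nat_lit 5, nat_lit 2, nat_lit 5, nat_lit 1, nat_lit 4, nat_lit 1, nat_lit 4, nat_lit 3, nat_lit 1, nat_lit 0, nat_lit 1]))))))))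
 (.node (nat_lit 1826) (.node (nat_lit 1815) (.node (nat_lit 1809) (.node (nat_lit 1806) (.node (nat_lit 1805) (.leaf ((nat_lit 1233), [nat_lit 2, nat_lit 2, nat_lit 5, nat_lit 1, nat_lit 5, nat_lit 4, nat_lit 0, nat_lit 2, nat_lit 4, nat_lit 0, nat_lit 2, nat_lit 2, nat_lit 0, nat_lit 1, nat_lit 0])) (.leaf ((nat_lit 1196), [nat_lit 5, nat_lit 4, nat_lit 1, nat_lit 0, nat_lit 5, nat_lit 2, nat_lit 3, nat_lit 2, nat_lit 2, nat_lit 3, nat_lit 2, nat_lit 2]))) (.node (nat_lit 1807) (.leaf ((nat_lit 305), [nat_lit 5, nat_lit 2, nat_lit 2, nat_lit 0, nat_lit 5, nat_lit 4, nat_lit 3, nat_lit 0, nat_lit 4, nat_lit 1, nat_lit 0, nat_lit 3, nat_lit 1, nat_lit 0, nat_lit 2, nat_lit 2, nat_lit 0, nat_lit 1, nat_lit 0])) (.node (nat_lit 1808) (.leaf ((nat_lit 1234), [nat_lit 4, nat_lit 3, nat_lit 0, nat_lit 5, nat_lit 4, nat_lit 1, nat_lit 4, nat_lit 1, nat_lit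 4, nat_lit 3, nat_lit 0, nat_lit 2])) (.leaf ((nat_lit 891), [nat_lit 0, nat_lit 2, nat_lit 5, nat_lit 1, nat_lit 3, nat_lit 0, nat_lit 4, nat_lit 0, nat_lit 2, nat_lit 0, nat_lit 2, nat_lit 2])))))
 (.node (nat_lit 1812) (.node (nat_lit 1810) (.leaf ((nat_lit 819), [nat_lit 1, nat_lit 3, nat_lit 0, nat_lit 5, nat_lit 2, nat_lit 4, nat_lit 0, nat_lit 4, nat_lit 2, nat_lit 0, nat_lit 2, nat_lit 2, nat_lit 0, nat_lit 2])) (.node (nat_lit 1811) (.leaf ((nat_lit 1040), [nat_lit 0, nat_lit 5, nat_lit 2, nat_lit 5, nat_lit 4, nat_lit 1, nat_lit 3, nat_lit 0, nat_lit 1, nat_lit 4, nat_lit 0, nat_lit 2, nat_lit 0, nat_lit 2, nat_lit 0])) (.leaf ((nat_lit 19), [nat_lit 2, nat_lit 5, nat_lit 0, nat_lit 1, nat_lit 5, nat_lit 1, nat_lit 4, nat_lit 0, nat_lit 4, nat_lit 2, nat_lit 0, nat_lit 3, nat_lit 0, nat_lit 1, nat_lit 0, nat_lit 2, nat_lit 2, nat_lit 0,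 nat_lit 1])))) (.node (nat_lit 1813) (.leaf ((nat_lit 878), [nat_lit 2, nat_lit 5, nat_lit 3, nat_lit 5, nat_lit 3, nat_lit 4, nat_lit 2, nat_lit 0, nat_lit 2, nat_lit 3, nat_lit 2, nat_lit 0, nat_lit 2, nat_lit 2, nat_lit 0, nat_lit 2, nat_lit 2, nat_lit 0])) (.node (nat_lit 1814) (.leaf ((nat_lit 455), [nat_lit 2, nat_lit 4, nat_lit 0, nat_lit 5, nat_lit 3, nat_lit 2, nat_lit 3, nat_lit 2, nat_lit 4, nat_lit 0, nat_lit 1, nat_lit 0, nat_lit 2, nat_lit 0])) (.leaf ((nat_lit 968), [nat_lit 1, nat_lit 3, nat_lit 2, nat_lit 5, nat_lit 0, nat_lit 4, nat_lit 0, nat_lit 1, nat_lit 0, nat_lit 3, nat_lit 2, nat_lit 0, nat_lit 2, nat_lit 2, nat_lit 0, nat_lit 1]))))))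
 (.node (nat_lit 1820) (.node (nat_lit 1817) (.node (nat_lit 1816) (.leaf ((nat_lit 225), [nat_lit 3, nat_lit 4, nat_lit 3, nat_lit 5, nat_lit 3, nat_lit 0, nat_lit 1, nat_lit 3, nat_lit 4, nat_lit 2, nat_lit 3, nat_lit 1, nat_lit 0, nat_lit 2, nat_lit 2, nat_lit 0, nat_lit 1])) (.leaf ((nat_lit 1235), [nat_lit 5, nat_lit 1, nat_lit 5, nat_lit 0, nat_lit 5, nat_lit 3, nat_lit 0, nat_lit 1, nat_lit 0, nat_lit 4, nat_lit 2, nat_lit 0, nat_lit 1, nat_lit 0, nat_lit 1, nat_lit 0, nat_lit 2]))) (.node (nat_lit 1818) (.leaf ((nat_lit 605), [nat_lit 2, nat_lit 5, nat_lit 0, nat_lit 1, nat_lit 5, nat_lit 2, nat_lit 2, nat_lit 4, nat_lit 1, nat_lit 0, nat_lit 3, nat_lit 1, nat_lit 0, nat_lit 2, nat_lit 0])) (.node (nat_lit 1819) (.leaf ((nat_lit 1236), [nat_lit 5, nat_lit 3, nat_lit 2, nat_lit 5, nat_lit 2, nat_lit 3, nat_lit 2, nat_lit 0, nat_lit 4, nat_lit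 2, nat_lit 0, nat_lit 2, nat_lit 2])) (.leaf ((nat_lit 1237), [nat_lit 4, nat_lit 5, nat_lit 2, nat_lit 3, nat_lit 5, nat_lit 0, nat_lit 2, nat_lit 2, nat_lit 0, nat_lit 4, nat_lit 0, nat_lit 1, nat_lit 0])))))
 (.node (nat_lit 1823) (.node (nat_lit 1821) (.leaf ((nat_lit 1046), [nat_lit 5, nat_lit 1, nat_lit 0, nat_lit 2, nat_lit 5, nat_lit 2, nat_lit 4, nat_lit 2, nat_lit 0, nat_lit 2, nat_lit 3, nat_lit 0, nat_lit 2, nat_lit 2, nat_lit 0, nat_lit 1, nat_lit 0, nat_lit 2])) (.node (nat_lit 1822) (.leaf ((nat_lit 246), [nat_lit 0, nat_lit 5, nat_lit 1, nat_lit 4, nat_lit 2, nat_lit 0, nat_lit 2, nat_lit 3, nat_lit 0, nat_lit 1, nat_lit 0, nat_lit 2, nat_lit 2, nat_lit 0, nat_lit 2])) (.leaf ((nat_lit 1001), [nat_lit 5, nat_lit 4, nat_lit 2, nat_lit 5, nat_lit 2, nat_lit 3, nat_lit 0, nat_lit 4, nat_lit 2, nat_lit 2, nat_lit 0, nat_lit 2, nat_lit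 2, nat_lit 0, nat_lit 1, nat_lit 0])))) (.node (nat_lit 1824) (.leaf ((nat_lit 835), [nat_lit 1, nat_lit 5, nat_lit 0, nat_lit 5, nat_lit 4, nat_lit 0, nat_lit 1, nat_lit 4, nat_lit 3, nat_lit 0, nat_lit 2, nat_lit 2, nat_lit 0, nat_lit 1, nat_lit 0, nat_lit 2, nat_lit 0])) (.node (nat_lit 1825) (.leaf ((nat_lit 1238), [nat_lit 2, nat_lit 5, nat_lit 1, nat_lit 5, nat_lit 0, nat_lit 1, nat_lit 0, nat_lit 3, nat_lit 2, nat_lit 3, nat_lit 1, nat_lit 0, nat_lit 2, nat_lit 2, nat_lit 0, nat_lit 2, nat_lit 2])) (.leaf ((nat_lit 1239), [nat_lit 5, nat_lit 4, nat_lit 5, nat_lit 1, nat_lit 5, nat_lit 3, nat_lit 1, nat_lit 4, nat_lit 2, nat_lit 4, nat_lit 3, nat_lit 2, nat_lit 2, nat_lit 0, nat_lit 2, nat_lit 2, nat_lit 0, nat_lit 1])))))))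
 (.node (nat_lit 1837) (.node (nat_lit 1831) (.node (nat_lit 1828) (.node (nat_lit 1827) (.leaf ((nat_lit 1240), [nat_lit 4, nat_lit 1, nat_lit 0, nat_lit 5, nat_lit 1, nat_lit 4, nat_lit 0, nat_lit 4, nat_lit 0, nat_lit 1, nat_lit 0, nat_lit 1])) (.leaf ((nat_lit 1241), [nat_lit 2, nat_lit 5, nat_lit 2, nat_lit 2, nat_lit 3, nat_lit 2, nat_lit 2, nat_lit 3, nat_lit 0, nat_lit 2, nat_lit 0, nat_lit 2, nat_lit 2]))) (.node (nat_lit 1829) (.leaf ((nat_lit 1237), [nat_lit 1, nat_lit 0, nat_lit 2, nat_lit 5, nat_lit 2, nat_lit 4, nat_lit 1, nat_lit 0, nat_lit 3, nat_lit 1, nat_lit 0, nat_lit 1, nat_lit 0, nat_lit 2, nat_lit 0])) (.node (nat_lit 1830) (.leaf ((nat_lit 1242), [nat_lit 0, nat_lit 2, nat_lit 4, nat_lit 0, nat_lit 5, nat_lit 0, nat_lit 2, nat_lit 4, nat_lit 2, nat_lit 0, nat_lit 2, nat_lit 2, nat_lit 0, nat_lit 2])) (.leaf ((nat_lit 569),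 [nat_lit 0, nat_lit 5, nat_lit 2, nat_lit 0, nat_lit 5, nat_lit 1, nat_lit 4, nat_lit 2, nat_lit 2, nat_lit 0, nat_lit 2, nat_lit 0, nat_lit 1, nat_lit 0])))))
 (.node (nat_lit 1834) (.node (nat_lit 1832) (.leaf ((nat_lit 932), [nat_lit 0, nat_lit 5, nat_lit 3, nat_lit 5, nat_lit 1, nat_lit 4, nat_lit 3, nat_lit 1, nat_lit 3, nat_lit 0, nat_lit 2, nat_lit 0, nat_lit 2, nat_lit 2, nat_lit 0, nat_lit 2])) (.node (nat_lit 1833) (.leaf ((nat_lit 1243), [nat_lit 5, nat_lit 2, nat_lit 5, nat_lit 3, nat_lit 2, nat_lit 0, nat_lit 3, nat_lit 1, nat_lit 4, nat_lit 2, nat_lit 2, nat_lit 0, nat_lit 1, nat_lit 0, nat_lit 2, nat_lit 0])) (.leaf ((nat_lit 1244), [nat_lit 4, nat_lit 5, nat_lit 4, nat_lit 0, nat_lit 5, nat_lit 0, nat_lit 2, nat_lit 3, nat_lit 1, nat_lit 3, nat_lit 2, nat_lit 0, nat_lit 2, nat_lit 2, nat_lit 0, nat_lit 2, nat_lit 2, nat_lit 0]))))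 (.node (nat_lit 1835) (.leaf ((nat_lit 1245), [nat_lit 4, nat_lit 2, nat_lit 5, nat_lit 3, nat_lit 5, nat_lit 2, nat_lit 0, nat_lit 3, nat_lit 2, nat_lit 3, nat_lit 0, nat_lit 1, nat_lit 0, nat_lit 2, nat_lit 2, nat_lit 0, nat_lit 2, nat_lit 0])) (.node (nat_lit 1836) (.leaf ((nat_lit 957), [nat_lit 1, nat_lit 3, nat_lit 2, nat_lit 5, nat_lit 4, nat_lit 2, nat_lit 0, nat_lit 4, nat_lit 3, nat_lit 0, nat_lit 2, nat_lit 0, nat_lit 1, nat_lit 0, nat_lit 1])) (.leaf ((nat_lit 1246), [nat_lit 4, nat_lit 3, nat_lit 5, nat_lit 2, nat_lit 4, nat_lit 1, nat_lit 4, nat_lit 1, nat_lit 3, nat_lit 1, nat_lit 0, nat_lit 1, nat_lit 0, nat_lit 2, nat_lit 2, nat_lit 0]))))))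
 (.node (nat_lit 1842) (.node (nat_lit 1839) (.node (nat_lit 1838) (.leaf ((nat_lit 308), [nat_lit 4, nat_lit 3, nat_lit 0, nat_lit 5, nat_lit 3, nat_lit 4, nat_lit 3, nat_lit 1, nat_lit 4, nat_lit 3, nat_lit 1, nat_lit 0, nat_lit 2, nat_lit 0])) (.leaf ((nat_lit 955), [nat_lit 4, nat_lit 0, nat_lit 3, nat_lit 2, nat_lit 0, nat_lit 1, nat_lit 0, nat_lit 2]))) (.node (nat_lit 1840) (.leaf ((nat_lit 1247), [nat_lit 4, nat_lit 2, nat_lit 0, nat_lit 5, nat_lit 4, nat_lit 0, nat_lit 3, nat_lit 0, nat_lit 1, nat_lit 4, nat_lit 0, nat_lit 1, nat_lit 0, nat_lit 1, nat_lit 0, nat_lit 2])) (.node (nat_lit 1841) (.leaf ((nat_lit 598), [nat_lit 0, nat_lit 5, nat_lit 3, nat_lit 5, nat_lit 0, nat_lit 2, nat_lit 0, nat_lit 3, nat_lit 4, nat_lit 0, nat_lit 2, nat_lit 2, nat_lit 0, nat_lit 2, nat_lit 2, nat_lit 0])) (.leaf ((nat_lit 231), [nat_lit 4, nat_lit 5, nat_lit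 3, nat_lit 2, nat_lit 5, nat_lit 1, nat_lit 0, nat_lit 3, nat_lit 1, nat_lit 0, nat_lit 1, nat_lit 0, nat_lit 2, nat_lit 2])))))
 (.node (nat_lit 1845) (.node (nat_lit 1843) (.leaf ((nat_lit 1248), [nat_lit 4, nat_lit 2, nat_lit 5, nat_lit 1, nat_lit 5, nat_lit 1, nat_lit 3, nat_lit 4, nat_lit 3, nat_lit 1, nat_lit 3, nat_lit 0, nat_lit 2, nat_lit 2, nat_lit 0, nat_lit 1, nat_lit 0, nat_lit 2])) (.node (nat_lit 1844) (.leaf ((nat_lit 1249), [nat_lit 0, nat_lit 4, nat_lit 2, nat_lit 0, nat_lit 5, nat_lit 0, nat_lit 2, nat_lit 0, nat_lit 2, nat_lit 3, nat_lit 2, nat_lit 0, nat_lit 2, nat_lit 2, nat_lit 0])) (.leaf ((nat_lit 948), [nat_lit 3, nat_lit 1, nat_lit 5, nat_lit 0, nat_lit 5, nat_lit 3, nat_lit 4, nat_lit 2, nat_lit 4, nat_lit 2, nat_lit 3, nat_lit 2, nat_lit 2, nat_lit 0, nat_lit 1, nat_lit 0])))) (.node (nat_lit 1846) (.leaf ((nat_lit 1250),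 [nat_lit 3, nat_lit 2, nat_lit 5, nat_lit 3, nat_lit 1, nat_lit 3])) (.node (nat_lit 1847) (.leaf ((nat_lit 813), [nat_lit 2, nat_lit 0, nat_lit 1, nat_lit 5, nat_lit 4, nat_lit 0, nat_lit 4, nat_lit 0, nat_lit 4, nat_lit 2, nat_lit 0, nat_lit 2, nat_lit 0, nat_lit 1, nat_lit 0, nat_lit 1])) (.leaf ((nat_lit 477), [nat_lit 5, nat_lit 2, nat_lit 4, nat_lit 0, nat_lit 5, nat_lit 4, nat_lit 2, nat_lit 3, nat_lit 4, nat_lit 0, nat_lit 1, nat_lit 0, nat_lit 2, nat_lit 2, nat_lit 0, nat_lit 2])))))))))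
 (.node (nat_lit 1892) (.node (nat_lit 1870) (.node (nat_lit 1859) (.node (nat_lit 1853) (.node (nat_lit 1850) (.node (nat_lit 1849) (.leaf ((nat_lit 679), [nat_lit 3, nat_lit 4, nat_lit 5, nat_lit 4, nat_lit 2, nat_lit 2, nat_lit 4, nat_lit 3, nat_lit 0, nat_lit 2, nat_lit 2, nat_lit 0, nat_lit 1, nat_lit 0])) (.leaf ((nat_lit 1251), [nat_lit 2, nat_lit 2, nat_lit 5, nat_lit 4, nat_lit 2, nat_lit 0, nat_lit 2, nat_lit 4, nat_lit 0, nat_lit 1, nat_lit 0, nat_lit 2, nat_lit 0, nat_lit 2, nat_lit 2, nat_lit 0]))) (.node (nat_lit 1851) (.leaf ((nat_lit 1252), [nat_lit 1, nat_lit 5, nat_lit 0, nat_lit 1, nat_lit 0, nat_lit 1, nat_lit 0, nat_lit 3, nat_lit 2, nat_lit 0, nat_lit 2, nat_lit 2, nat_lit 0, nat_lit 2, nat_lit 0])) (.node (nat_lit 1852) (.leaf ((nat_lit 952), [nat_lit 2, nat_lit 5, nat_lit 0, nat_lit 1, nat_lit 5, nat_lit 1, nat_lit 3, nat_lit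 4, nat_lit 1, nat_lit 3, nat_lit 2, nat_lit 0, nat_lit 1, nat_lit 0])) (.leaf ((nat_lit 956), [nat_lit 5, nat_lit 2, nat_lit 5, nat_lit 1, nat_lit 4, nat_lit 0, nat_lit 1, nat_lit 0, nat_lit 3, nat_lit 0, nat_lit 1, nat_lit 0])))))
 (.node (nat_lit 1856) (.node (nat_lit 1854) (.leaf ((nat_lit 1246), [nat_lit 3, nat_lit 5, nat_lit 2, nat_lit 3, nat_lit 0, nat_lit 5, nat_lit 3, nat_lit 1, nat_lit 4, nat_lit 3, nat_lit 2, nat_lit 0, nat_lit 3, nat_lit 0, nat_lit 2, nat_lit 2, nat_lit 0, nat_lit 2, nat_lit 0, nat_lit 1])) (.node (nat_lit 1855) (.leaf ((nat_lit 1133), [nat_lit 4, nat_lit 2, nat_lit 5, nat_lit 3, nat_lit 5, nat_lit 3, nat_lit 4, nat_lit 2, nat_lit 0])) (.leaf ((nat_lit 1009), [nat_lit 4, nat_lit 3, nat_lit 5, nat_lit 2, nat_lit 5, nat_lit 1, nat_lit 4, nat_lit 3, nat_lit 2, nat_lit 0, nat_lit 3, nat_lit 1, nat_lit 0, nat_lit 2, nat_lit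 0, nat_lit 1, nat_lit 0])))) (.node (nat_lit 1857) (.leaf ((nat_lit 439), [nat_lit 2, nat_lit 3, nat_lit 5, nat_lit 0, nat_lit 5, nat_lit 1, nat_lit 0, nat_lit 3, nat_lit 4, nat_lit 2, nat_lit 2, nat_lit 0, nat_lit 2, nat_lit 2, nat_lit 0, nat_lit 2, nat_lit 0])) (.node (nat_lit 1858) (.leaf ((nat_lit 749), [nat_lit 1, nat_lit 3, nat_lit 0, nat_lit 5, nat_lit 3, nat_lit 2, nat_lit 3, nat_lit 0, nat_lit 4, nat_lit 0, nat_lit 1, nat_lit 0, nat_lit 2, nat_lit 2, nat_lit 0, nat_lit 2])) (.leaf ((nat_lit 1253), [nat_lit 4, nat_lit 1, nat_lit 5, nat_lit 3, nat_lit 5, nat_lit 3, nat_lit 2, nat_lit 4, nat_lit 2, nat_lit 3, nat_lit 4, nat_lit 1, nat_lit 0, nat_lit 1, nat_lit 0]))))))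
 (.node (nat_lit 1864) (.node (nat_lit 1861) (.node (nat_lit 1860) (.leaf ((nat_lit 1138), [nat_lit 4, nat_lit 5, nat_lit 1, nat_lit 5, nat_lit 4, nat_lit 0, nat_lit 4, nat_lit 1, nat_lit 3, nat_lit 2, nat_lit 0, nat_lit 1, nat_lit 0, nat_lit 1, nat_lit 0, nat_lit 2])) (.leaf ((nat_lit 1155), [nat_lit 5, nat_lit 1, nat_lit 3, nat_lit 2, nat_lit 5, nat_lit 3, nat_lit 0, nat_lit 3, nat_lit 4, nat_lit 2, nat_lit 0, nat_lit 2, nat_lit 0, nat_lit 1, nat_lit 0, nat_lit 1, nat_lit 0]))) (.node (nat_lit 1862) (.leaf ((nat_lit 717), [nat_lit 1, nat_lit 4, nat_lit 5, nat_lit 1, nat_lit 5, nat_lit 4, nat_lit 3, nat_lit 0, nat_lit 1, nat_lit 0, nat_lit 3, nat_lit 0, nat_lit 2, nat_lit 2, nat_lit 0, nat_lit 2, nat_lit 0, nat_lit 1, nat_lit 0])) (.node (nat_lit 1863) (.leaf ((nat_lit 711), [nat_lit 1, nat_lit 3, nat_lit 2, nat_lit 5, nat_lit 3, nat_lit 4, nat_lit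 1, nat_lit 3, nat_lit 1, nat_lit 0, nat_lit 2, nat_lit 0, nat_lit 2, nat_lit 2, nat_lit 0])) (.leaf ((nat_lit 615), [nat_lit 2, nat_lit 5, nat_lit 1, nat_lit 3, nat_lit 0, nat_lit 2, nat_lit 4, nat_lit 0, nat_lit 2, nat_lit 0, nat_lit 2, nat_lit 2, nat_lit 0, nat_lit 1])))))
 (.node (nat_lit 1867) (.node (nat_lit 1865) (.leaf ((nat_lit 65), [nat_lit 3, nat_lit 5, nat_lit 3, nat_lit 0, nat_lit 5, nat_lit 3, nat_lit 4, nat_lit 0, nat_lit 2, nat_lit 2, nat_lit 3, nat_lit 0, nat_lit 1, nat_lit 0, nat_lit 2, nat_lit 0, nat_lit 2])) (.node (nat_lit 1866) (.leaf ((nat_lit 1152), [nat_lit 0, nat_lit 5, nat_lit 0, nat_lit 1, nat_lit 5, nat_lit 4, nat_lit 3, nat_lit 2, nat_lit 4, nat_lit 0, nat_lit 1, nat_lit 0, nat_lit 1, nat_lit 0, nat_lit 2, nat_lit 0])) (.leaf ((nat_lit 408), [nat_lit 3, nat_lit 0, nat_lit 2, nat_lit 5, nat_lit 4, nat_lit 1, nat_lit 0,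 nat_lit 3, nat_lit 4, nat_lit 0, nat_lit 1, nat_lit 0, nat_lit 2, nat_lit 0, nat_lit 2, nat_lit 2])))) (.node (nat_lit 1868) (.leaf ((nat_lit 1254), [nat_lit 4, nat_lit 5, nat_lit 2, nat_lit 0, nat_lit 5, nat_lit 1, nat_lit 3, nat_lit 2, nat_lit 3, nat_lit 0, nat_lit 4, nat_lit 1, nat_lit 0, nat_lit 2, nat_lit 0, nat_lit 1])) (.node (nat_lit 1869) (.leaf ((nat_lit 1255), [nat_lit 5, nat_lit 4, nat_lit 0, nat_lit 5, nat_lit 3, nat_lit 2, nat_lit 3, nat_lit 2, nat_lit 0, nat_lit 4, nat_lit 2, nat_lit 0, nat_lit 2, nat_lit 2, nat_lit 0])) (.leaf ((nat_lit 176), [nat_lit 5, nat_lit 1, nat_lit 5, nat_lit 0, nat_lit 5, nat_lit 2, nat_lit 4, nat_lit 0, nat_lit 3, nat_lit 4, nat_lit 0, nat_lit 1, nat_lit 0, nat_lit 2, nat_lit 0, nat_lit 2, nat_lit 2])))))))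
 (.node (nat_lit 1881) (.node (nat_lit 1875) (.node (nat_lit 1872) (.node (nat_lit 1871) (.leaf ((nat_lit 787), [nat_lit 5, nat_lit 1, nat_lit 0, nat_lit 2, nat_lit 5, nat_lit 1, nat_lit 4, nat_lit 2, nat_lit 4, nat_lit 0, nat_lit 1, nat_lit 0, nat_lit 2, nat_lit 2, nat_lit 0, nat_lit 2])) (.leaf ((nat_lit 794), [nat_lit 0, nat_lit 5, nat_lit 3, nat_lit 0, nat_lit 5, nat_lit 3, nat_lit 1, nat_lit 4, nat_lit 3, nat_lit 2, nat_lit 0, nat_lit 3, nat_lit 2, nat_lit 2, nat_lit 0, nat_lit 1, nat_lit 0, nat_lit 2, nat_lit 0]))) (.node (nat_lit 1873) (.leaf ((nat_lit 728), [nat_lit 3, nat_lit 5, nat_lit 3, nat_lit 0, nat_lit 5, nat_lit 3, nat_lit 2, nat_lit 4, nat_lit 3, nat_lit 0, nat_lit 1, nat_lit 0, nat_lit 2, nat_lit 0, nat_lit 2, nat_lit 2, nat_lit 0])) (.node (nat_lit 1874) (.leaf ((nat_lit 135), [nat_lit 4, nat_lit 0, nat_lit 5, nat_lit 3, nat_lit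 1, nat_lit 0, nat_lit 2, nat_lit 3, nat_lit 1, nat_lit 0, nat_lit 2, nat_lit 0, nat_lit 2, nat_lit 2, nat_lit 0])) (.leaf ((nat_lit 1256), [nat_lit 1, nat_lit 5, nat_lit 2, nat_lit 5, nat_lit 2, nat_lit 4, nat_lit 2, nat_lit 2, nat_lit 4, nat_lit 3, nat_lit 2, nat_lit 0, nat_lit 2, nat_lit 2, nat_lit 0, nat_lit 2])))))
 (.node (nat_lit 1878) (.node (nat_lit 1876) (.leaf ((nat_lit 951), [nat_lit 1, nat_lit 5, nat_lit 2, nat_lit 5, nat_lit 4, nat_lit 1, nat_lit 0, nat_lit 4, nat_lit 3, nat_lit 0, nat_lit 1, nat_lit 0, nat_lit 1, nat_lit 0])) (.node (nat_lit 1877) (.leaf ((nat_lit 842), [nat_lit 0, nat_lit 5, nat_lit 2, nat_lit 4, nat_lit 0, nat_lit 1, nat_lit 0, nat_lit 3, nat_lit 0, nat_lit 1, nat_lit 0, nat_lit 2, nat_lit 0, nat_lit 2, nat_lit 0])) (.leaf ((nat_lit 796), [nat_lit 5, nat_lit 0, nat_lit 3, nat_lit 5, nat_lit 4, nat_lit 1, nat_lit 0,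 nat_lit 3, nat_lit 4])))) (.node (nat_lit 1879) (.leaf ((nat_lit 315), [nat_lit 0, nat_lit 4, nat_lit 5, nat_lit 4, nat_lit 1, nat_lit 0, nat_lit 3, nat_lit 1, nat_lit 0, nat_lit 2])) (.node (nat_lit 1880) (.leaf ((nat_lit 1257), [nat_lit 5, nat_lit 4, nat_lit 1, nat_lit 0, nat_lit 5, nat_lit 3, nat_lit 1, nat_lit 4, nat_lit 3, nat_lit 0, nat_lit 3, nat_lit 2, nat_lit 0, nat_lit 2])) (.leaf ((nat_lit 759), [nat_lit 5, nat_lit 3, nat_lit 2, nat_lit 0, nat_lit 5, nat_lit 4, nat_lit 1, nat_lit 3, nat_lit 1, nat_lit 3, nat_lit 2, nat_lit 0, nat_lit 2]))))))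
 (.node (nat_lit 1886) (.node (nat_lit 1883) (.node (nat_lit 1882) (.leaf ((nat_lit 275), [nat_lit 2, nat_lit 3, nat_lit 5, nat_lit 0, nat_lit 5, nat_lit 3, nat_lit 1, nat_lit 4, nat_lit 3, nat_lit 1, nat_lit 0, nat_lit 2, nat_lit 2, nat_lit 0, nat_lit 2, nat_lit 0])) (.leaf ((nat_lit 926), [nat_lit 3, nat_lit 5, nat_lit 2, nat_lit 5, nat_lit 1, nat_lit 0, nat_lit 3, nat_lit 1, nat_lit 4, nat_lit 2, nat_lit 2, nat_lit 0, nat_lit 2, nat_lit 2, nat_lit 0, nat_lit 2, nat_lit 0]))) (.node (nat_lit 1884) (.leaf ((nat_lit 1258), [nat_lit 0, nat_lit 2, nat_lit 5, nat_lit 3, nat_lit 5, nat_lit 4, nat_lit 3, nat_lit 0, nat_lit 4, nat_lit 1, nat_lit 0, nat_lit 2, nat_lit 0, nat_lit 2, nat_lit 2])) (.node (nat_lit 1885) (.leaf ((nat_lit 124), [nat_lit 4, nat_lit 1, nat_lit 4, nat_lit 1, nat_lit 3, nat_lit 0, nat_lit 2, nat_lit 2, nat_lit 0, nat_lit 2, nat_lit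 2])) (.leaf ((nat_lit 324), [nat_lit 5, nat_lit 4, nat_lit 5, nat_lit 2, nat_lit 5, nat_lit 4, nat_lit 2, nat_lit 2, nat_lit 4, nat_lit 3, nat_lit 2, nat_lit 0, nat_lit 2, nat_lit 2, nat_lit 0, nat_lit 2])))))
 (.node (nat_lit 1889) (.node (nat_lit 1887) (.leaf ((nat_lit 1259), [nat_lit 3, nat_lit 4, nat_lit 5, nat_lit 0, nat_lit 4, nat_lit 0, nat_lit 4, nat_lit 0, nat_lit 2, nat_lit 2, nat_lit 0, nat_lit 2])) (.node (nat_lit 1888) (.leaf ((nat_lit 607), [nat_lit 4, nat_lit 5, nat_lit 2, nat_lit 0, nat_lit 5, nat_lit 3, nat_lit 0, nat_lit 1, nat_lit 4, nat_lit 0, nat_lit 1])) (.leaf ((nat_lit 374), [nat_lit 5, nat_lit 3, nat_lit 2, nat_lit 0, nat_lit 5, nat_lit 2, nat_lit 4, nat_lit 3, nat_lit 0, nat_lit 4, nat_lit 1, nat_lit 0, nat_lit 2, nat_lit 0, nat_lit 2, nat_lit 2])))) (.node (nat_lit 1890) (.leaf ((nat_lit 853), [nat_lit 5, nat_lit 1, nat_lit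 0, nat_lit 2, nat_lit 5, nat_lit 2, nat_lit 4, nat_lit 3, nat_lit 0, nat_lit 4, nat_lit 2, nat_lit 0, nat_lit 2, nat_lit 2, nat_lit 0, nat_lit 2])) (.node (nat_lit 1891) (.leaf ((nat_lit 1260), [nat_lit 2, nat_lit 2, nat_lit 0, nat_lit 5, nat_lit 0, nat_lit 3, nat_lit 4, nat_lit 2, nat_lit 0, nat_lit 4, nat_lit 1, nat_lit 0, nat_lit 2, nat_lit 2, nat_lit 0])) (.leaf ((nat_lit 336), [nat_lit 0, nat_lit 1, nat_lit 5, nat_lit 4, nat_lit 1, nat_lit 4, nat_lit 1, nat_lit 4, nat_lit 2, nat_lit 2, nat_lit 0, nat_lit 2, nat_lit 2, nat_lit 0, nat_lit 2, nat_lit 2, nat_lit 0]))))))))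
 (.node (nat_lit 1914) (.node (nat_lit 1903) (.node (nat_lit 1897) (.node (nat_lit 1894) (.node (nat_lit 1893) (.leaf ((nat_lit 1203), [nat_lit 5, nat_lit 0, nat_lit 3, nat_lit 5, nat_lit 3, nat_lit 1, nat_lit 3, nat_lit 0, nat_lit 1, nat_lit 0, nat_lit 2])) (.leaf ((nat_lit 21), [nat_lit 0, nat_lit 5, nat_lit 2, nat_lit 0, nat_lit 5, nat_lit 3, nat_lit 2, nat_lit 2, nat_lit 4, nat_lit 3, nat_lit 2, nat_lit 0, nat_lit 2, nat_lit 0]))) (.node (nat_lit 1895) (.leaf ((nat_lit 355), [nat_lit 4, nat_lit 3, nat_lit 5, nat_lit 2, nat_lit 5, nat_lit 4, nat_lit 0, nat_lit 2, nat_lit 4, nat_lit 1, nat_lit 0, nat_lit 2, nat_lit 2, nat_lit 0, nat_lit 2, nat_lit 2, nat_lit 0])) (.node (nat_lit 1896) (.leaf ((nat_lit 617), [nat_lit 5, nat_lit 2, nat_lit 5, nat_lit 3, nat_lit 0, nat_lit 3, nat_lit 1, nat_lit 4, nat_lit 2, nat_lit 0])) (.leaf ((nat_lit 1261), [nat_lit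 0, nat_lit 3, nat_lit 5, nat_lit 2, nat_lit 4, nat_lit 3, nat_lit 2, nat_lit 2, nat_lit 3, nat_lit 2, nat_lit 2, nat_lit 0, nat_lit 2, nat_lit 2])))))
 (.node (nat_lit 1900) (.node (nat_lit 1898) (.leaf ((nat_lit 139), [nat_lit 1, nat_lit 0, nat_lit 2, nat_lit 5, nat_lit 0, nat_lit 3, nat_lit 4, nat_lit 1, nat_lit 0, nat_lit 3, nat_lit 2, nat_lit 2, nat_lit 0, nat_lit 2, nat_lit 2, nat_lit 0, nat_lit 1, nat_lit 0])) (.node (nat_lit 1899) (.leaf ((nat_lit 1262), [nat_lit 3, nat_lit 2, nat_lit 5, nat_lit 0, nat_lit 5, nat_lit 1, nat_lit 0, nat_lit 2, nat_lit 3, nat_lit 2, nat_lit 2, nat_lit 0, nat_lit 2, nat_lit 2, nat_lit 0, nat_lit 2, nat_lit 2, nat_lit 0])) (.leaf ((nat_lit 1245), [nat_lit 4, nat_lit 3, nat_lit 0, nat_lit 5, nat_lit 3, nat_lit 0, nat_lit 4, nat_lit 1, nat_lit 3, nat_lit 1, nat_lit 0, nat_lit 2, nat_lit 2, nat_lit 0, nat_lit 2, nat_lit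 2, nat_lit 0])))) (.node (nat_lit 1901) (.leaf ((nat_lit 599), [nat_lit 2, nat_lit 5, nat_lit 3, nat_lit 5, nat_lit 0, nat_lit 4, nat_lit 1, nat_lit 0, nat_lit 4, nat_lit 1, nat_lit 0, nat_lit 2, nat_lit 0, nat_lit 1])) (.node (nat_lit 1902) (.leaf ((nat_lit 537), [nat_lit 5, nat_lit 1, nat_lit 0, nat_lit 2, nat_lit 5, nat_lit 2, nat_lit 2, nat_lit 0, nat_lit 4, nat_lit 0, nat_lit 1, nat_lit 0, nat_lit 1, nat_lit 0])) (.leaf ((nat_lit 1263), [nat_lit 1, nat_lit 4, nat_lit 2, nat_lit 5, nat_lit 2, nat_lit 4, nat_lit 1, nat_lit 0, nat_lit 2, nat_lit 3, nat_lit 1, nat_lit 0, nat_lit 1, nat_lit 0, nat_lit 2, nat_lit 0, nat_lit 2, nat_lit 0]))))))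
 (.node (nat_lit 1908) (.node (nat_lit 1905) (.node (nat_lit 1904) (.leaf ((nat_lit 1248), [nat_lit 2, nat_lit 4, nat_lit 2, nat_lit 0, nat_lit 5, nat_lit 0, nat_lit 1, nat_lit 0, nat_lit 1, nat_lit 0, nat_lit 3, nat_lit 2, nat_lit 2, nat_lit 0, nat_lit 2, nat_lit 2, nat_lit 0, nat_lit 2, nat_lit 2, nat_lit 0])) (.leaf ((nat_lit 553), [nat_lit 5, nat_lit 0, nat_lit 4, nat_lit 5, nat_lit 3, nat_lit 4, nat_lit 3, nat_lit 2, nat_lit 4, nat_lit 3, nat_lit 1, nat_lit 0, nat_lit 2, nat_lit 0, nat_lit 2]))) (.node (nat_lit 1906) (.leaf ((nat_lit 1110), [nat_lit 0, nat_lit 5, nat_lit 2, nat_lit 5, nat_lit 1, nat_lit 3, nat_lit 4, nat_lit 0, nat_lit 2, nat_lit 4, nat_lit 1, nat_lit 0, nat_lit 1, nat_lit 0, nat_lit 2, nat_lit 0])) (.node (nat_lit 1907) (.leaf ((nat_lit 1215), [nat_lit 5, nat_lit 4, nat_lit 0, nat_lit 5, nat_lit 0, nat_lit 4, nat_lit 2, nat_lit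 2, nat_lit 0])) (.leaf ((nat_lit 1264), [nat_lit 2, nat_lit 5, nat_lit 0, nat_lit 5, nat_lit 0, nat_lit 2, nat_lit 2, nat_lit 3, nat_lit 2, nat_lit 4, nat_lit 0, nat_lit 1, nat_lit 0, nat_lit 2, nat_lit 2, nat_lit 0, nat_lit 1, nat_lit 0])))))
 (.node (nat_lit 1911) (.node (nat_lit 1909) (.leaf ((nat_lit 1265), [nat_lit 5, nat_lit 4, nat_lit 3, nat_lit 2, nat_lit 5, nat_lit 1, nat_lit 3, nat_lit 4, nat_lit 3, nat_lit 0, nat_lit 3, nat_lit 1, nat_lit 0, nat_lit 1, nat_lit 0])) (.node (nat_lit 1910) (.leaf ((nat_lit 969), [nat_lit 2, nat_lit 3, nat_lit 5, nat_lit 0, nat_lit 5, nat_lit 0, nat_lit 1, nat_lit 3, nat_lit 0, nat_lit 3, nat_lit 0, nat_lit 2, nat_lit 0, nat_lit 2, nat_lit 2])) (.leaf ((nat_lit 368), [nat_lit 2, nat_lit 5, nat_lit 0, nat_lit 5, nat_lit 3, nat_lit 4, nat_lit 3, nat_lit 2, nat_lit 4, nat_lit 3, nat_lit 2, nat_lit 0, nat_lit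 2, nat_lit 2, nat_lit 0, nat_lit 2, nat_lit 2])))) (.node (nat_lit 1912) (.leaf ((nat_lit 603), [nat_lit 2, nat_lit 0, nat_lit 2, nat_lit 5, nat_lit 1, nat_lit 3, nat_lit 4, nat_lit 2, nat_lit 3, nat_lit 0, nat_lit 1, nat_lit 0, nat_lit 2, nat_lit 2])) (.node (nat_lit 1913) (.leaf ((nat_lit 1266), [nat_lit 2, nat_lit 4, nat_lit 5, nat_lit 2, nat_lit 0, nat_lit 5, nat_lit 2, nat_lit 2, nat_lit 4, nat_lit 3, nat_lit 2, nat_lit 0, nat_lit 1, nat_lit 0, nat_lit 2, nat_lit 0, nat_lit 2, nat_lit 0])) (.leaf ((nat_lit 88), [nat_lit 4, nat_lit 3, nat_lit 5, nat_lit 3, nat_lit 2, nat_lit 4, nat_lit 2, nat_lit 0, nat_lit 2, nat_lit 0, nat_lit 1, nat_lit 0, nat_lit 1])))))))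
 (.node (nat_lit 1925) (.node (nat_lit 1919) (.node (nat_lit 1916) (.node (nat_lit 1915) (.leaf ((nat_lit 1267), [nat_lit 5, nat_lit 3, nat_lit 2, nat_lit 0, nat_lit 5, nat_lit 2, nat_lit 3, nat_lit 4, nat_lit 2, nat_lit 4, nat_lit 0, nat_lit 1, nat_lit 0, nat_lit 2, nat_lit 0])) (.leaf ((nat_lit 1117), [nat_lit 4, nat_lit 0, nat_lit 5, nat_lit 2, nat_lit 5, nat_lit 4, nat_lit 0, nat_lit 4, nat_lit 1, nat_lit 3, nat_lit 0, nat_lit 2, nat_lit 2, nat_lit 0, nat_lit 2]))) (.node (nat_lit 1917) (.leaf ((nat_lit 1268), [nat_lit 5, nat_lit 2, nat_lit 4, nat_lit 0, nat_lit 5, nat_lit 3, nat_lit 2, nat_lit 2, nat_lit 4, nat_lit 3, nat_lit 1, nat_lit 0, nat_lit 1, nat_lit 0, nat_lit 2, nat_lit 2, nat_lit 0])) (.node (nat_lit 1918) (.leaf ((nat_lit 912), [nat_lit 5, nat_lit 4, nat_lit 1, nat_lit 0, nat_lit 5, nat_lit 3, nat_lit 4, nat_lit 3, nat_lit 2, nat_lit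 4, nat_lit 1, nat_lit 0, nat_lit 2, nat_lit 0, nat_lit 1, nat_lit 0])) (.leaf ((nat_lit 1269), [nat_lit 4, nat_lit 5, nat_lit 3, nat_lit 0, nat_lit 5, nat_lit 2, nat_lit 3, nat_lit 1, nat_lit 0, nat_lit 2, nat_lit 3, nat_lit 0, nat_lit 2, nat_lit 2, nat_lit 0, nat_lit 1, nat_lit 0, nat_lit 2, nat_lit 0])))))
 (.node (nat_lit 1922) (.node (nat_lit 1920) (.leaf ((nat_lit 727), [nat_lit 3, nat_lit 5, nat_lit 3, nat_lit 0, nat_lit 5, nat_lit 3, nat_lit 1, nat_lit 4, nat_lit 3, nat_lit 2, nat_lit 0, nat_lit 3, nat_lit 0, nat_lit 2, nat_lit 2, nat_lit 0, nat_lit 1, nat_lit 0])) (.node (nat_lit 1921) (.leaf ((nat_lit 1270), [nat_lit 5, nat_lit 3, nat_lit 2, nat_lit 0, nat_lit 5, nat_lit 0, nat_lit 4, nat_lit 2, nat_lit 0, nat_lit 4, nat_lit 0, nat_lit 2, nat_lit 0, nat_lit 2, nat_lit 2, nat_lit 0, nat_lit 1, nat_lit 0])) (.leaf ((nat_lit 1271), [nat_lit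 4, nat_lit 2, nat_lit 0, nat_lit 5, nat_lit 3, nat_lit 4, nat_lit 3, nat_lit 0, nat_lit 3, nat_lit 2, nat_lit 2])))) (.node (nat_lit 1923) (.leaf ((nat_lit 1272), [nat_lit 3, nat_lit 5, nat_lit 1, nat_lit 3, nat_lit 2, nat_lit 5, nat_lit 0, nat_lit 4, nat_lit 2, nat_lit 3, nat_lit 1, nat_lit 3, nat_lit 0, nat_lit 2, nat_lit 0, nat_lit 2, nat_lit 0])) (.node (nat_lit 1924) (.leaf ((nat_lit 1147), [nat_lit 3, nat_lit 5, nat_lit 3, nat_lit 0, nat_lit 5, nat_lit 3, nat_lit 4, nat_lit 1, nat_lit 3, nat_lit 1, nat_lit 0, nat_lit 2, nat_lit 0, nat_lit 1, nat_lit 0])) (.leaf ((nat_lit 1165), [nat_lit 5, nat_lit 4, nat_lit 3, nat_lit 5, nat_lit 2, nat_lit 5, nat_lit 0, nat_lit 2, nat_lit 3, nat_lit 2, nat_lit 0, nat_lit 3, nat_lit 2, nat_lit 2, nat_lit 0, nat_lit 2, nat_lit 2, nat_lit 0, nat_lit 1, nat_lit 0]))))))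
 (.node (nat_lit 1930) (.node (nat_lit 1927) (.node (nat_lit 1926) (.leaf ((nat_lit 347), [nat_lit 5, nat_lit 4, nat_lit 2, nat_lit 5, nat_lit 3, nat_lit 0, nat_lit 4, nat_lit 0, nat_lit 1, nat_lit 0, nat_lit 2])) (.leaf ((nat_lit 1027), [nat_lit 2, nat_lit 3, nat_lit 5, nat_lit 0, nat_lit 5, nat_lit 3, nat_lit 2, nat_lit 4, nat_lit 3, nat_lit 1, nat_lit 0, nat_lit 2, nat_lit 0, nat_lit 2]))) (.node (nat_lit 1928) (.leaf ((nat_lit 1007), [nat_lit 3, nat_lit 0, nat_lit 5, nat_lit 3, nat_lit 5, nat_lit 0, nat_lit 3, nat_lit 2, nat_lit 0, nat_lit 3, nat_lit 2, nat_lit 0, nat_lit 1, nat_lit 0, nat_lit 2, nat_lit 2, nat_lit 0])) (.node (nat_lit 1929) (.leaf ((nat_lit 1273), [nat_lit 5, nat_lit 4, nat_lit 2, nat_lit 0, nat_lit 5, nat_lit 3, nat_lit 0, nat_lit 4, nat_lit 1, nat_lit 0, nat_lit 3, nat_lit 2, nat_lit 0, nat_lit 2, nat_lit 2])) (.leaf ((nat_lit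 394), [nat_lit 2, nat_lit 0, nat_lit 5, nat_lit 4, nat_lit 0, nat_lit 2, nat_lit 2, nat_lit 0, nat_lit 2, nat_lit 2, nat_lit 0])))))
 (.node (nat_lit 1933) (.node (nat_lit 1931) (.leaf ((nat_lit 1274), [nat_lit 1, nat_lit 4, nat_lit 5, nat_lit 1, nat_lit 5, nat_lit 3, nat_lit 0, nat_lit 4, nat_lit 1, nat_lit 0, nat_lit 3, nat_lit 2, nat_lit 0, nat_lit 1, nat_lit 0, nat_lit 1, nat_lit 0, nat_lit 2, nat_lit 0])) (.node (nat_lit 1932) (.leaf ((nat_lit 1275), [nat_lit 4, nat_lit 5, nat_lit 3, nat_lit 5, nat_lit 4, nat_lit 0, nat_lit 4, nat_lit 1, nat_lit 3, nat_lit 0, nat_lit 2, nat_lit 2, nat_lit 0])) (.leaf ((nat_lit 1276), [nat_lit 4, nat_lit 1, nat_lit 5, nat_lit 2, nat_lit 5, nat_lit 0, nat_lit 2, nat_lit 3, nat_lit 1, nat_lit 3, nat_lit 2, nat_lit 0, nat_lit 2, nat_lit 2, nat_lit 0, nat_lit 2, nat_lit 2, nat_lit 0])))) (.node (nat_lit 1934) (.leaf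 ((nat_lit 1277), [nat_lit 3, nat_lit 0, nat_lit 5, nat_lit 3, nat_lit 5, nat_lit 0, nat_lit 1, nat_lit 3, nat_lit 1, nat_lit 3, nat_lit 1, nat_lit 0])) (.node (nat_lit 1935) (.leaf ((nat_lit 1278), [nat_lit 1, nat_lit 0, nat_lit 3, nat_lit 5, nat_lit 3, nat_lit 0, nat_lit 3, nat_lit 2, nat_lit 2, nat_lit 0, nat_lit 2, nat_lit 2])) (.leaf ((nat_lit 1017), [nat_lit 5, nat_lit 3, nat_lit 0, nat_lit 5, nat_lit 4, nat_lit 2, nat_lit 3, nat_lit 0, nat_lit 4, nat_lit 1, nat_lit 0, nat_lit 2, nat_lit 2, nat_lit 0, nat_lit 2]))))))))))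
noncomputable def pWd_11 : Tr (ℕ × List ℕ) := (.node (nat_lit 2024) (.node (nat_lit 1980) (.node (nat_lit 1958) (.node (nat_lit 1947) (.node (nat_lit 1941) (.node (nat_lit 1938) (.node (nat_lit 1937) (.leaf ((nat_lit 690), [nat_lit 3, nat_lit 5, nat_lit 2, nat_lit 3, nat_lit 0, nat_lit 5, nat_lit 0, nat_lit 2, nat_lit 0, nat_lit 4, nat_lit 1, nat_lit 4, nat_lit 2, nat_lit 2, nat_lit 0, nat_lit 1, nat_lit 0, nat_lit 2, nat_lit 2, nat_lit 0])) (.leaf ((nat_lit 1279), [nat_lit 0, nat_lit 5, nat_lit 2, nat_lit 3, nat_lit 5, nat_lit 3, nat_lit 1, nat_lit 4, nat_lit 0, nat_lit 4, nat_lit 2, nat_lit 0, nat_lit 1, nat_lit 0, nat_lit 2, nat_lit 0, nat_lit 2, nat_lit 0]))) (.node (nat_lit 1939) (.leaf ((nat_lit 319), [nat_lit 3, nat_lit 2, nat_lit 0, nat_lit 5, nat_lit 4, nat_lit 3, nat_lit 2, nat_lit 0, nat_lit 2, nat_lit 3, nat_lit 0, nat_lit 1, nat_lit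 0, nat_lit 2, nat_lit 2, nat_lit 0, nat_lit 2, nat_lit 0])) (.node (nat_lit 1940) (.leaf ((nat_lit 908), [nat_lit 4, nat_lit 5, nat_lit 3, nat_lit 0, nat_lit 5, nat_lit 2, nat_lit 3, nat_lit 1, nat_lit 3, nat_lit 4, nat_lit 3, nat_lit 2, nat_lit 2, nat_lit 0])) (.leaf ((nat_lit 1128), [nat_lit 4, nat_lit 3, nat_lit 5, nat_lit 0, nat_lit 5, nat_lit 3, nat_lit 0, nat_lit 3, nat_lit 2, nat_lit 4, nat_lit 0, nat_lit 1, nat_lit 0, nat_lit 2, nat_lit 2, nat_lit 0, nat_lit 2])))))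
 (.node (nat_lit 1944) (.node (nat_lit 1942) (.leaf ((nat_lit 703), [nat_lit 4, nat_lit 2, nat_lit 5, nat_lit 3, nat_lit 5, nat_lit 1, nat_lit 0, nat_lit 4, nat_lit 1, nat_lit 4, nat_lit 0, nat_lit 1, nat_lit 0, nat_lit 1, nat_lit 0])) (.node (nat_lit 1943) (.leaf ((nat_lit 1280), [nat_lit 5, nat_lit 4, nat_lit 5, nat_lit 1, nat_lit 5, nat_lit 0, nat_lit 2, nat_lit 2, nat_lit 3, nat_lit 2, nat_lit 4, nat_lit 0, nat_lit 2, nat_lit 2, nat_lit 0, nat_lit 2, nat_lit 0])) (.leaf ((nat_lit 1281), [nat_lit 4, nat_lit 3, nat_lit 2, nat_lit 5, nat_lit 3, nat_lit 1, nat_lit 4, nat_lit 3, nat_lit 1, nat_lit 0, nat_lit 1, nat_lit 0, nat_lit 2])))) (.node (nat_lit 1945) (.leaf ((nat_lit 1106), [nat_lit 3, nat_lit 5, nat_lit 2, nat_lit 5, nat_lit 2, nat_lit 2, nat_lit 4, nat_lit 3, nat_lit 2, nat_lit 3, nat_lit 2, nat_lit 0, nat_lit 1, nat_lit 0, nat_lit 2, nat_lit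 0, nat_lit 2, nat_lit 0])) (.node (nat_lit 1946) (.leaf ((nat_lit 1282), [nat_lit 4, nat_lit 1, nat_lit 0, nat_lit 5, nat_lit 3, nat_lit 4, nat_lit 0, nat_lit 4, nat_lit 3, nat_lit 1, nat_lit 0, nat_lit 1, nat_lit 0])) (.leaf ((nat_lit 1283), [nat_lit 3, nat_lit 5, nat_lit 2, nat_lit 3, nat_lit 0, nat_lit 5, nat_lit 4, nat_lit 0, nat_lit 1, nat_lit 0, nat_lit 1, nat_lit 0, nat_lit 3, nat_lit 2, nat_lit 0, nat_lit 1, nat_lit 0, nat_lit 1, nat_lit 0, nat_lit 2, nat_lit 0]))))))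
 (.node (nat_lit 1952) (.node (nat_lit 1949) (.node (nat_lit 1948) (.leaf ((nat_lit 822), [nat_lit 1, nat_lit 4, nat_lit 2, nat_lit 5, nat_lit 1, nat_lit 3, nat_lit 1, nat_lit 3, nat_lit 4, nat_lit 2, nat_lit 2])) (.leaf ((nat_lit 1124), [nat_lit 1, nat_lit 5, nat_lit 4, nat_lit 2, nat_lit 0, nat_lit 2, nat_lit 3, nat_lit 2, nat_lit 0, nat_lit 1, nat_lit 0, nat_lit 2]))) (.node (nat_lit 1950) (.leaf ((nat_lit 1284), [nat_lit 5, nat_lit 2, nat_lit 4, nat_lit 0, nat_lit 5, nat_lit 2, nat_lit 3, nat_lit 1, nat_lit 3, nat_lit 4, nat_lit 0, nat_lit 2, nat_lit 2, nat_lit 0, nat_lit 2])) (.node (nat_lit 1951) (.leaf ((nat_lit 397), [nat_lit 5, nat_lit 4, nat_lit 2, nat_lit 0, nat_lit 5, nat_lit 4, nat_lit 0, nat_lit 3, nat_lit 0, nat_lit 1, nat_lit 0, nat_lit 2, nat_lit 0, nat_lit 2, nat_lit 2])) (.leaf ((nat_lit 1285), [nat_lit 5, nat_lit 0, nat_lit 4,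 nat_lit 5, nat_lit 2, nat_lit 4, nat_lit 3, nat_lit 2, nat_lit 2, nat_lit 3, nat_lit 2, nat_lit 0, nat_lit 2])))))
 (.node (nat_lit 1955) (.node (nat_lit 1953) (.leaf ((nat_lit 1286), [nat_lit 0, nat_lit 2, nat_lit 5, nat_lit 2, nat_lit 4, nat_lit 2, nat_lit 2, nat_lit 4, nat_lit 3, nat_lit 1, nat_lit 0, nat_lit 2, nat_lit 0, nat_lit 2, nat_lit 2])) (.node (nat_lit 1954) (.leaf ((nat_lit 1287), [nat_lit 1, nat_lit 4, nat_lit 5, nat_lit 1, nat_lit 5, nat_lit 0, nat_lit 2, nat_lit 4, nat_lit 0, nat_lit 2, nat_lit 2, nat_lit 0, nat_lit 2, nat_lit 2, nat_lit 0])) (.leaf ((nat_lit 675), [nat_lit 0, nat_lit 4, nat_lit 5, nat_lit 1, nat_lit 3, nat_lit 0, nat_lit 4, nat_lit 1, nat_lit 0, nat_lit 2, nat_lit 0, nat_lit 1, nat_lit 0])))) (.node (nat_lit 1956) (.leaf ((nat_lit 731), [nat_lit 0, nat_lit 5, nat_lit 3, nat_lit 5, nat_lit 1, nat_lit 3, nat_lit 0,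 nat_lit 1, nat_lit 4, nat_lit 1, nat_lit 0, nat_lit 2, nat_lit 0, nat_lit 1, nat_lit 0])) (.node (nat_lit 1957) (.leaf ((nat_lit 1288), [nat_lit 1, nat_lit 4, nat_lit 5, nat_lit 1, nat_lit 5, nat_lit 0, nat_lit 3, nat_lit 2, nat_lit 3])) (.leaf ((nat_lit 33), [nat_lit 2, nat_lit 5, nat_lit 3, nat_lit 1, nat_lit 4, nat_lit 2, nat_lit 4, nat_lit 3, nat_lit 1, nat_lit 0, nat_lit 2, nat_lit 2])))))))
 (.node (nat_lit 1969) (.node (nat_lit 1963) (.node (nat_lit 1960) (.node (nat_lit 1959) (.leaf ((nat_lit 800), [nat_lit 4, nat_lit 3, nat_lit 5, nat_lit 2, nat_lit 5, nat_lit 0, nat_lit 4, nat_lit 1, nat_lit 3, nat_lit 0, nat_lit 3, nat_lit 0, nat_lit 1, nat_lit 0, nat_lit 2, nat_lit 2, nat_lit 0, nat_lit 1])) (.leaf ((nat_lit 1289), [nat_lit 4, nat_lit 5, nat_lit 3, nat_lit 5, nat_lit 0, nat_lit 4, nat_lit 0, nat_lit 1, nat_lit 0, nat_lit 3, nat_lit 0,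 nat_lit 1, nat_lit 0, nat_lit 2, nat_lit 0, nat_lit 2, nat_lit 2]))) (.node (nat_lit 1961) (.leaf ((nat_lit 1275), [nat_lit 2, nat_lit 5, nat_lit 4, nat_lit 5, nat_lit 2, nat_lit 4, nat_lit 0, nat_lit 1, nat_lit 4, nat_lit 0, nat_lit 2, nat_lit 2, nat_lit 0, nat_lit 1, nat_lit 0, nat_lit 2, nat_lit 0])) (.node (nat_lit 1962) (.leaf ((nat_lit 1073), [nat_lit 5, nat_lit 3, nat_lit 0, nat_lit 5, nat_lit 0, nat_lit 1, nat_lit 0, nat_lit 4, nat_lit 0, nat_lit 2, nat_lit 0, nat_lit 1, nat_lit 0, nat_lit 1, nat_lit 0])) (.leaf ((nat_lit 990), [nat_lit 5, nat_lit 0, nat_lit 4, nat_lit 5, nat_lit 0, nat_lit 2, nat_lit 3, nat_lit 2, nat_lit 3, nat_lit 0, nat_lit 2, nat_lit 0, nat_lit 2, nat_lit 0])))))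
 (.node (nat_lit 1966) (.node (nat_lit 1964) (.leaf ((nat_lit 750), [nat_lit 0, nat_lit 3, nat_lit 5, nat_lit 3, nat_lit 0, nat_lit 3, nat_lit 0, nat_lit 4, nat_lit 2, nat_lit 0, nat_lit 1, nat_lit 0, nat_lit 1, nat_lit 0, nat_lit 2, nat_lit 0])) (.node (nat_lit 1965) (.leaf ((nat_lit 844), [nat_lit 4, nat_lit 0, nat_lit 5, nat_lit 1, nat_lit 0, nat_lit 1, nat_lit 4, nat_lit 3, nat_lit 2, nat_lit 0, nat_lit 2, nat_lit 2, nat_lit 0, nat_lit 1])) (.leaf ((nat_lit 1290), [nat_lit 1, nat_lit 3, nat_lit 0, nat_lit 5, nat_lit 1, nat_lit 4, nat_lit 0, nat_lit 4, nat_lit 0, nat_lit 1, nat_lit 0, nat_lit 2, nat_lit 0, nat_lit 2, nat_lit 2, nat_lit 0])))) (.node (nat_lit 1967) (.leaf ((nat_lit 823), [nat_lit 5, nat_lit 1, nat_lit 3, nat_lit 2, nat_lit 5, nat_lit 0, nat_lit 3, nat_lit 2, nat_lit 3, nat_lit 2, nat_lit 3, nat_lit 1, nat_lit 0])) (.node (nat_lit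 1968) (.leaf ((nat_lit 515), [nat_lit 4, nat_lit 5, nat_lit 2, nat_lit 3, nat_lit 5, nat_lit 3, nat_lit 4, nat_lit 3, nat_lit 1, nat_lit 3, nat_lit 2, nat_lit 2, nat_lit 0])) (.leaf ((nat_lit 104), [nat_lit 4, nat_lit 5, nat_lit 2, nat_lit 3, nat_lit 5, nat_lit 4, nat_lit 0, nat_lit 2, nat_lit 3, nat_lit 2, nat_lit 0, nat_lit 3, nat_lit 2, nat_lit 0, nat_lit 1]))))))
 (.node (nat_lit 1974) (.node (nat_lit 1971) (.node (nat_lit 1970) (.leaf ((nat_lit 1291), [nat_lit 0, nat_lit 2, nat_lit 5, nat_lit 3, nat_lit 2, nat_lit 0, nat_lit 3, nat_lit 4, nat_lit 2, nat_lit 0, nat_lit 1, nat_lit 0, nat_lit 2])) (.leaf ((nat_lit 1292), [nat_lit 2, nat_lit 5, nat_lit 0, nat_lit 1, nat_lit 5, nat_lit 3, nat_lit 2, nat_lit 4, nat_lit 0, nat_lit 4, nat_lit 2, nat_lit 0, nat_lit 1, nat_lit 0, nat_lit 2, nat_lit 2, nat_lit 0]))) (.node (nat_lit 1972) (.leaf ((nat_lit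 559), [nat_lit 5, nat_lit 2, nat_lit 5, nat_lit 4, nat_lit 1, nat_lit 4, nat_lit 3, nat_lit 0, nat_lit 1, nat_lit 0, nat_lit 1])) (.node (nat_lit 1973) (.leaf ((nat_lit 1090), [nat_lit 5, nat_lit 2, nat_lit 4, nat_lit 0, nat_lit 5, nat_lit 1, nat_lit 0, nat_lit 2, nat_lit 3, nat_lit 0, nat_lit 1])) (.leaf ((nat_lit 1293), [nat_lit 5, nat_lit 1, nat_lit 3, nat_lit 0, nat_lit 5, nat_lit 2, nat_lit 3, nat_lit 1, nat_lit 3, nat_lit 4, nat_lit 3, nat_lit 1, nat_lit 0])))))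
 (.node (nat_lit 1977) (.node (nat_lit 1975) (.leaf ((nat_lit 1087), [nat_lit 2, nat_lit 5, nat_lit 0, nat_lit 5, nat_lit 3, nat_lit 4, nat_lit 1, nat_lit 0, nat_lit 3, nat_lit 2, nat_lit 0, nat_lit 1])) (.node (nat_lit 1976) (.leaf ((nat_lit 1004), [nat_lit 3, nat_lit 1, nat_lit 5, nat_lit 0, nat_lit 5, nat_lit 0, nat_lit 4, nat_lit 0, nat_lit 1, nat_lit 4, nat_lit 3, nat_lit 2, nat_lit 0, nat_lit 2, nat_lit 0, nat_lit 1, nat_lit 0])) (.leaf ((nat_lit 1294), [nat_lit 4, nat_lit 5, nat_lit 3, nat_lit 4, nat_lit 2, nat_lit 0, nat_lit 2, nat_lit 3, nat_lit 0, nat_lit 2, nat_lit 2, nat_lit 0, nat_lit 1, nat_lit 0])))) (.node (nat_lit 1978) (.leaf ((nat_lit 1273), [nat_lit 2, nat_lit 5, nat_lit 0, nat_lit 1, nat_lit 5, nat_lit 3, nat_lit 4, nat_lit 0, nat_lit 3, nat_lit 0, nat_lit 2, nat_lit 2, nat_lit 0, nat_lit 1])) (.node (nat_lit 1979) (.leaf ((nat_lit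 91), [nat_lit 5, nat_lit 2, nat_lit 0, nat_lit 2, nat_lit 5, nat_lit 3, nat_lit 2, nat_lit 4, nat_lit 2, nat_lit 4, nat_lit 2, nat_lit 0, nat_lit 2, nat_lit 0, nat_lit 1])) (.leaf ((nat_lit 389), [nat_lit 3, nat_lit 1, nat_lit 5, nat_lit 2, nat_lit 5, nat_lit 0, nat_lit 1, nat_lit 0, nat_lit 3, nat_lit 0, nat_lit 2, nat_lit 0, nat_lit 2, nat_lit 2, nat_lit 0, nat_lit 1]))))))))
 (.node (nat_lit 2002) (.node (nat_lit 1991) (.node (nat_lit 1985) (.node (nat_lit 1982) (.node (nat_lit 1981) (.leaf ((nat_lit 1014), [nat_lit 5, nat_lit 2, nat_lit 0, nat_lit 2, nat_lit 5, nat_lit 2, nat_lit 4, nat_lit 3, nat_lit 0, nat_lit 3, nat_lit 2, nat_lit 0, nat_lit 1, nat_lit 0, nat_lit 1, nat_lit 0, nat_lit 2])) (.leaf ((nat_lit 1295), [nat_lit 1, nat_lit 3, nat_lit 2, nat_lit 5, nat_lit 4, nat_lit 3, nat_lit 2, nat_lit 2, nat_lit 3, nat_lit 2, nat_lit 0, nat_lit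 2, nat_lit 2, nat_lit 0, nat_lit 1, nat_lit 0]))) (.node (nat_lit 1983) (.leaf ((nat_lit 1296), [nat_lit 4, nat_lit 1, nat_lit 5, nat_lit 0, nat_lit 5, nat_lit 2, nat_lit 2, nat_lit 4, nat_lit 0, nat_lit 4, nat_lit 3, nat_lit 2, nat_lit 2, nat_lit 0, nat_lit 1, nat_lit 0, nat_lit 2, nat_lit 2, nat_lit 0])) (.node (nat_lit 1984) (.leaf ((nat_lit 457), [nat_lit 3, nat_lit 2, nat_lit 3, nat_lit 5, nat_lit 1, nat_lit 3, nat_lit 2, nat_lit 4, nat_lit 0, nat_lit 2, nat_lit 2, nat_lit 0, nat_lit 1, nat_lit 0])) (.leaf ((nat_lit 500), [nat_lit 4, nat_lit 5, nat_lit 2, nat_lit 5, nat_lit 4, nat_lit 1, nat_lit 0, nat_lit 3, nat_lit 2, nat_lit 0, nat_lit 1, nat_lit 0, nat_lit 1, nat_lit 0, nat_lit 2, nat_lit 0])))))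
 (.node (nat_lit 1988) (.node (nat_lit 1986) (.leaf ((nat_lit 1108), [nat_lit 4, nat_lit 3, nat_lit 2, nat_lit 5, nat_lit 0, nat_lit 3, nat_lit 4, nat_lit 3, nat_lit 0, nat_lit 2, nat_lit 2])) (.node (nat_lit 1987) (.leaf ((nat_lit 778), [nat_lit 3, nat_lit 5, nat_lit 3, nat_lit 2, nat_lit 4, nat_lit 2, nat_lit 3, nat_lit 4, nat_lit 2, nat_lit 2, nat_lit 0, nat_lit 2])) (.leaf ((nat_lit 652), [nat_lit 1, nat_lit 0, nat_lit 2, nat_lit 5, nat_lit 2, nat_lit 2, nat_lit 3, nat_lit 4, nat_lit 1, nat_lit 0, nat_lit 2, nat_lit 2, nat_lit 0, nat_lit 1])))) (.node (nat_lit 1989) (.leaf ((nat_lit 959), [nat_lit 1, nat_lit 5, nat_lit 3, nat_lit 5, nat_lit 3, nat_lit 2, nat_lit 4, nat_lit 3, nat_lit 2, nat_lit 2, nat_lit 0, nat_lit 1, nat_lit 0, nat_lit 2, nat_lit 2])) (.node (nat_lit 1990) (.leaf ((nat_lit 1297), [nat_lit 1, nat_lit 5, nat_lit 3, nat_lit 5,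 nat_lit 1, nat_lit 0, nat_lit 2, nat_lit 4, nat_lit 0, nat_lit 2, nat_lit 2, nat_lit 0, nat_lit 2, nat_lit 2])) (.leaf ((nat_lit 1029), [nat_lit 4, nat_lit 5, nat_lit 3, nat_lit 2, nat_lit 5, nat_lit 2, nat_lit 2, nat_lit 3, nat_lit 4, nat_lit 0, nat_lit 2, nat_lit 2]))))))
 (.node (nat_lit 1996) (.node (nat_lit 1993) (.node (nat_lit 1992) (.leaf ((nat_lit 738), [nat_lit 4, nat_lit 3, nat_lit 5, nat_lit 3, nat_lit 1, nat_lit 0, nat_lit 4, nat_lit 1, nat_lit 3, nat_lit 1, nat_lit 0, nat_lit 1])) (.leaf ((nat_lit 1254), [nat_lit 2, nat_lit 5, nat_lit 4, nat_lit 5, nat_lit 3, nat_lit 2, nat_lit 4, nat_lit 3, nat_lit 2, nat_lit 3, nat_lit 2, nat_lit 2, nat_lit 0, nat_lit 2, nat_lit 2, nat_lit 0]))) (.node (nat_lit 1994) (.leaf ((nat_lit 1081), [nat_lit 4, nat_lit 3, nat_lit 2, nat_lit 5, nat_lit 1, nat_lit 3, nat_lit 4, nat_lit 3, nat_lit 0, nat_lit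 3, nat_lit 2, nat_lit 2, nat_lit 0, nat_lit 1, nat_lit 0, nat_lit 2, nat_lit 2])) (.node (nat_lit 1995) (.leaf ((nat_lit 271), [nat_lit 4, nat_lit 5, nat_lit 3, nat_lit 5, nat_lit 0, nat_lit 1, nat_lit 0, nat_lit 4, nat_lit 1, nat_lit 3, nat_lit 2, nat_lit 0, nat_lit 1, nat_lit 0, nat_lit 1])) (.leaf ((nat_lit 1298), [nat_lit 1, nat_lit 3, nat_lit 2, nat_lit 5, nat_lit 3, nat_lit 4, nat_lit 1, nat_lit 0, nat_lit 4, nat_lit 1, nat_lit 0, nat_lit 2, nat_lit 2, nat_lit 0, nat_lit 2, nat_lit 2, nat_lit 0])))))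
 (.node (nat_lit 1999) (.node (nat_lit 1997) (.leaf ((nat_lit 1299), [nat_lit 1, nat_lit 3, nat_lit 0, nat_lit 5, nat_lit 3, nat_lit 2, nat_lit 0, nat_lit 3, nat_lit 2, nat_lit 0, nat_lit 1, nat_lit 0])) (.node (nat_lit 1998) (.leaf ((nat_lit 1164), [nat_lit 3, nat_lit 4, nat_lit 5, nat_lit 3, nat_lit 4, nat_lit 0, nat_lit 4, nat_lit 3, nat_lit 0, nat_lit 2, nat_lit 2])) (.leaf ((nat_lit 112), [nat_lit 3, nat_lit 0, nat_lit 2, nat_lit 5, nat_lit 3, nat_lit 0, nat_lit 3, nat_lit 0, nat_lit 2, nat_lit 3, nat_lit 2, nat_lit 2, nat_lit 0, nat_lit 2, nat_lit 2, nat_lit 0, nat_lit 1])))) (.node (nat_lit 2000) (.leaf ((nat_lit 1300), [nat_lit 5, nat_lit 1, nat_lit 3, nat_lit 2, nat_lit 5, nat_lit 3, nat_lit 4, nat_lit 1, nat_lit 0, nat_lit 1])) (.node (nat_lit 2001) (.leaf ((nat_lit 549), [nat_lit 1, nat_lit 0, nat_lit 3, nat_lit 5, nat_lit 4, nat_lit 0,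 nat_lit 2, nat_lit 2, nat_lit 3, nat_lit 1, nat_lit 0, nat_lit 2, nat_lit 2, nat_lit 0, nat_lit 2])) (.leaf ((nat_lit 1301), [nat_lit 4, nat_lit 2, nat_lit 5, nat_lit 1, nat_lit 5, nat_lit 3, nat_lit 1, nat_lit 4, nat_lit 0, nat_lit 4, nat_lit 2, nat_lit 0, nat_lit 1, nat_lit 0, nat_lit 2])))))))
 (.node (nat_lit 2013) (.node (nat_lit 2007) (.node (nat_lit 2004) (.node (nat_lit 2003) (.leaf ((nat_lit 1104), [nat_lit 0, nat_lit 5, nat_lit 0, nat_lit 1, nat_lit 5, nat_lit 2, nat_lit 4, nat_lit 2, nat_lit 4, nat_lit 3, nat_lit 2, nat_lit 2, nat_lit 0, nat_lit 2, nat_lit 2, nat_lit 0, nat_lit 2, nat_lit 2, nat_lit 0])) (.leaf ((nat_lit 202), [nat_lit 3, nat_lit 2, nat_lit 5, nat_lit 0, nat_lit 5, nat_lit 3, nat_lit 2, nat_lit 0, nat_lit 2, nat_lit 0, nat_lit 1, nat_lit 0, nat_lit 1, nat_lit 0]))) (.node (nat_lit 2005) (.leaf ((nat_lit 1302), [nat_lit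 2, nat_lit 5, nat_lit 4, nat_lit 5, nat_lit 3, nat_lit 2, nat_lit 0, nat_lit 1, nat_lit 0])) (.node (nat_lit 2006) (.leaf ((nat_lit 465), [nat_lit 0, nat_lit 2, nat_lit 4, nat_lit 0, nat_lit 5, nat_lit 2, nat_lit 3, nat_lit 0, nat_lit 4, nat_lit 1, nat_lit 0, nat_lit 2, nat_lit 2, nat_lit 0, nat_lit 1, nat_lit 0])) (.leaf ((nat_lit 1072), [nat_lit 5, nat_lit 4, nat_lit 5, nat_lit 1, nat_lit 5, nat_lit 1, nat_lit 4, nat_lit 3, nat_lit 1, nat_lit 0, nat_lit 4, nat_lit 0, nat_lit 2, nat_lit 0, nat_lit 2, nat_lit 2, nat_lit 0, nat_lit 1])))))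
 (.node (nat_lit 2010) (.node (nat_lit 2008) (.leaf ((nat_lit 1280), [nat_lit 2, nat_lit 0, nat_lit 1, nat_lit 5, nat_lit 3, nat_lit 0, nat_lit 4, nat_lit 0, nat_lit 4, nat_lit 0, nat_lit 2, nat_lit 0, nat_lit 1, nat_lit 0, nat_lit 1])) (.node (nat_lit 2009) (.leaf ((nat_lit 44), [nat_lit 1, nat_lit 5, nat_lit 1, nat_lit 5, nat_lit 1, nat_lit 4, nat_lit 2, nat_lit 4, nat_lit 3, nat_lit 1, nat_lit 0, nat_lit 1, nat_lit 0, nat_lit 2, nat_lit 0, nat_lit 2])) (.leaf ((nat_lit 1094), [nat_lit 0, nat_lit 5, nat_lit 3, nat_lit 5, nat_lit 4, nat_lit 3, nat_lit 1, nat_lit 0, nat_lit 4, nat_lit 2, nat_lit 0, nat_lit 1, nat_lit 0, nat_lit 1, nat_lit 0, nat_lit 2, nat_lit 0])))) (.node (nat_lit 2011) (.leaf ((nat_lit 450), [nat_lit 2, nat_lit 3, nat_lit 5, nat_lit 0, nat_lit 5, nat_lit 2, nat_lit 3, nat_lit 0, nat_lit 1, nat_lit 0, nat_lit 3, nat_lit 0, nat_lit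 1, nat_lit 0, nat_lit 1])) (.node (nat_lit 2012) (.leaf ((nat_lit 385), [nat_lit 5, nat_lit 1, nat_lit 5, nat_lit 0, nat_lit 5, nat_lit 3, nat_lit 4, nat_lit 0, nat_lit 2, nat_lit 0, nat_lit 1])) (.leaf ((nat_lit 1303), [nat_lit 5, nat_lit 1, nat_lit 0, nat_lit 2, nat_lit 5, nat_lit 2, nat_lit 0, nat_lit 4, nat_lit 3, nat_lit 0, nat_lit 1, nat_lit 0, nat_lit 1, nat_lit 0, nat_lit 2]))))))
 (.node (nat_lit 2018) (.node (nat_lit 2015) (.node (nat_lit 2014) (.leaf ((nat_lit 49), [nat_lit 2, nat_lit 0, nat_lit 5, nat_lit 3, nat_lit 4, nat_lit 0, nat_lit 1, nat_lit 0, nat_lit 2, nat_lit 0])) (.leaf ((nat_lit 1206), [nat_lit 3, nat_lit 5, nat_lit 2, nat_lit 5, nat_lit 2, nat_lit 4, nat_lit 2, nat_lit 3, nat_lit 4, nat_lit 0, nat_lit 2, nat_lit 0, nat_lit 2, nat_lit 2, nat_lit 0]))) (.node (nat_lit 2016) (.leaf ((nat_lit 1201), [nat_lit 4, nat_lit 5, nat_lit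 2, nat_lit 0, nat_lit 5, nat_lit 3, nat_lit 0, nat_lit 4, nat_lit 1, nat_lit 0, nat_lit 3, nat_lit 0, nat_lit 1, nat_lit 0, nat_lit 1, nat_lit 0])) (.node (nat_lit 2017) (.leaf ((nat_lit 187), [nat_lit 3, nat_lit 5, nat_lit 3, nat_lit 0, nat_lit 5, nat_lit 2, nat_lit 0, nat_lit 4, nat_lit 3, nat_lit 0])) (.leaf ((nat_lit 1304), [nat_lit 4, nat_lit 1, nat_lit 0, nat_lit 5, nat_lit 4, nat_lit 2, nat_lit 3, nat_lit 2, nat_lit 3, nat_lit 0, nat_lit 2, nat_lit 0, nat_lit 2, nat_lit 0])))))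
 (.node (nat_lit 2021) (.node (nat_lit 2019) (.leaf ((nat_lit 1305), [nat_lit 0, nat_lit 4, nat_lit 1, nat_lit 3, nat_lit 0, nat_lit 3, nat_lit 2, nat_lit 0, nat_lit 2, nat_lit 2, nat_lit 0, nat_lit 1])) (.node (nat_lit 2020) (.leaf ((nat_lit 1113), [nat_lit 2, nat_lit 4, nat_lit 0, nat_lit 5, nat_lit 4, nat_lit 3, nat_lit 1, nat_lit 4, nat_lit 1, nat_lit 3, nat_lit 0, nat_lit 2, nat_lit 0, nat_lit 2, nat_lit 2])) (.leaf ((nat_lit 1306), [nat_lit 2, nat_lit 5, nat_lit 0, nat_lit 5, nat_lit 3, nat_lit 0, nat_lit 2, nat_lit 4, nat_lit 0, nat_lit 2, nat_lit 0, nat_lit 1, nat_lit 0, nat_lit 1, nat_lit 0])))) (.node (nat_lit 2022) (.leaf ((nat_lit 630), [nat_lit 2, nat_lit 3, nat_lit 5, nat_lit 0, nat_lit 5, nat_lit 0, nat_lit 3, nat_lit 0, nat_lit 1, nat_lit 4, nat_lit 0, nat_lit 2, nat_lit 2, nat_lit 0, nat_lit 2, nat_lit 0])) (.node (nat_lit 2023)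 (.leaf ((nat_lit 984), [nat_lit 2, nat_lit 5, nat_lit 0, nat_lit 5, nat_lit 4, nat_lit 1, nat_lit 0, nat_lit 4, nat_lit 3, nat_lit 1, nat_lit 0, nat_lit 2, nat_lit 0])) (.leaf ((nat_lit 1307), [nat_lit 5, nat_lit 2, nat_lit 4, nat_lit 0, nat_lit 5, nat_lit 2, nat_lit 4, nat_lit 2, nat_lit 3, nat_lit 4, nat_lit 0, nat_lit 1, nat_lit 0, nat_lit 2, nat_lit 2, nat_lit 0, nat_lit 2, nat_lit 0])))))))))
 (.node (nat_lit 2068) (.node (nat_lit 2046) (.node (nat_lit 2035) (.node (nat_lit 2029) (.node (nat_lit 2026) (.node (nat_lit 2025) (.leaf ((nat_lit 737), [nat_lit 5, nat_lit 4, nat_lit 1, nat_lit 0, nat_lit 5, nat_lit 0, nat_lit 4, nat_lit 3, nat_lit 0, nat_lit 3, nat_lit 1, nat_lit 0, nat_lit 2, nat_lit 0, nat_lit 1])) (.leaf ((nat_lit 918), [nat_lit 3, nat_lit 5, nat_lit 0, nat_lit 5, nat_lit 4, nat_lit 0, nat_lit 4, nat_lit 0, nat_lit 2, nat_lit 2,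 nat_lit 0]))) (.node (nat_lit 2027) (.leaf ((nat_lit 1308), [nat_lit 2, nat_lit 4, nat_lit 0, nat_lit 5, nat_lit 3, nat_lit 2, nat_lit 4, nat_lit 2, nat_lit 4, nat_lit 0, nat_lit 1, nat_lit 0, nat_lit 2])) (.node (nat_lit 2028) (.leaf ((nat_lit 1309), [nat_lit 3, nat_lit 5, nat_lit 1, nat_lit 3, nat_lit 0, nat_lit 5, nat_lit 2, nat_lit 2, nat_lit 4, nat_lit 1, nat_lit 0, nat_lit 3, nat_lit 0, nat_lit 2, nat_lit 2, nat_lit 0, nat_lit 2, nat_lit 0, nat_lit 1, nat_lit 0])) (.leaf ((nat_lit 606), [nat_lit 5, nat_lit 2, nat_lit 2, nat_lit 0, nat_lit 5, nat_lit 2, nat_lit 4, nat_lit 0, nat_lit 3, nat_lit 4, nat_lit 2, nat_lit 0, nat_lit 2, nat_lit 2, nat_lit 0, nat_lit 2, nat_lit 2, nat_lit 0])))))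
 (.node (nat_lit 2032) (.node (nat_lit 2030) (.leaf ((nat_lit 851), [nat_lit 0, nat_lit 2, nat_lit 4, nat_lit 1, nat_lit 0, nat_lit 3, nat_lit 2, nat_lit 2, nat_lit 0, nat_lit 2])) (.node (nat_lit 2031) (.leaf ((nat_lit 780), [nat_lit 5, nat_lit 2, nat_lit 2, nat_lit 0, nat_lit 5, nat_lit 2, nat_lit 0, nat_lit 4, nat_lit 1, nat_lit 3, nat_lit 1, nat_lit 0, nat_lit 2, nat_lit 0, nat_lit 2, nat_lit 2])) (.leaf ((nat_lit 1310), [nat_lit 2, nat_lit 5, nat_lit 0, nat_lit 1, nat_lit 5, nat_lit 0, nat_lit 1, nat_lit 3, nat_lit 0, nat_lit 3, nat_lit 0, nat_lit 1, nat_lit 0, nat_lit 2, nat_lit 0])))) (.node (nat_lit 2033) (.leaf ((nat_lit 1311), [nat_lit 2, nat_lit 4, nat_lit 0, nat_lit 5, nat_lit 1, nat_lit 0, nat_lit 2, nat_lit 4, nat_lit 0, nat_lit 2, nat_lit 0, nat_lit 1, nat_lit 0])) (.node (nat_lit 2034) (.leaf ((nat_lit 1312), [nat_lit 5, nat_lit 2,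 nat_lit 4, nat_lit 0, nat_lit 5, nat_lit 4, nat_lit 3, nat_lit 1, nat_lit 4, nat_lit 2, nat_lit 0, nat_lit 2, nat_lit 2, nat_lit 0, nat_lit 1])) (.leaf ((nat_lit 978), [nat_lit 3, nat_lit 0, nat_lit 5, nat_lit 0, nat_lit 4, nat_lit 1, nat_lit 4, nat_lit 0, nat_lit 1, nat_lit 0, nat_lit 2, nat_lit 0, nat_lit 2, nat_lit 0]))))))
 (.node (nat_lit 2040) (.node (nat_lit 2037) (.node (nat_lit 2036) (.leaf ((nat_lit 1099), [nat_lit 1, nat_lit 5, nat_lit 1, nat_lit 5, nat_lit 0, nat_lit 4, nat_lit 1, nat_lit 0, nat_lit 3, nat_lit 0, nat_lit 1, nat_lit 0, nat_lit 2, nat_lit 0, nat_lit 2])) (.leaf ((nat_lit 1313), [nat_lit 0, nat_lit 5, nat_lit 2, nat_lit 3, nat_lit 5, nat_lit 1, nat_lit 3, nat_lit 0, nat_lit 2, nat_lit 4, nat_lit 2, nat_lit 0, nat_lit 2, nat_lit 2, nat_lit 0, nat_lit 2, nat_lit 0]))) (.node (nat_lit 2038) (.leaf ((nat_lit 776), [nat_lit 5,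 nat_lit 4, nat_lit 3, nat_lit 0, nat_lit 2, nat_lit 3, nat_lit 0, nat_lit 1, nat_lit 0, nat_lit 2, nat_lit 2, nat_lit 0, nat_lit 2, nat_lit 0])) (.node (nat_lit 2039) (.leaf ((nat_lit 1314), [nat_lit 0, nat_lit 5, nat_lit 3, nat_lit 5, nat_lit 0, nat_lit 3, nat_lit 4, nat_lit 1, nat_lit 0, nat_lit 3, nat_lit 0, nat_lit 1, nat_lit 0, nat_lit 1])) (.leaf ((nat_lit 1315), [nat_lit 0, nat_lit 5, nat_lit 2, nat_lit 0, nat_lit 5, nat_lit 1, nat_lit 3, nat_lit 0, nat_lit 2, nat_lit 4, nat_lit 0, nat_lit 2, nat_lit 0, nat_lit 1, nat_lit 0, nat_lit 1])))))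
 (.node (nat_lit 2043) (.node (nat_lit 2041) (.leaf ((nat_lit 1146), [nat_lit 0, nat_lit 4, nat_lit 2, nat_lit 0, nat_lit 5, nat_lit 2, nat_lit 3, nat_lit 4, nat_lit 2, nat_lit 3, nat_lit 0, nat_lit 2, nat_lit 0, nat_lit 1, nat_lit 0, nat_lit 1, nat_lit 0])) (.node (nat_lit 2042) (.leaf ((nat_lit 208), [nat_lit 3, nat_lit 2, nat_lit 3, nat_lit 5, nat_lit 2, nat_lit 4, nat_lit 2, nat_lit 3, nat_lit 2, nat_lit 3, nat_lit 1, nat_lit 0, nat_lit 2, nat_lit 2, nat_lit 0, nat_lit 2, nat_lit 0])) (.leaf ((nat_lit 1060), [nat_lit 4, nat_lit 3, nat_lit 5, nat_lit 2, nat_lit 5, nat_lit 2, nat_lit 4, nat_lit 1, nat_lit 3, nat_lit 1, nat_lit 3, nat_lit 2, nat_lit 0, nat_lit 1, nat_lit 0, nat_lit 1, nat_lit 0])))) (.node (nat_lit 2044) (.leaf ((nat_lit 1313), [nat_lit 0, nat_lit 5, nat_lit 3, nat_lit 0, nat_lit 5, nat_lit 1, nat_lit 4, nat_lit 0, nat_lit 3, nat_lit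 2, nat_lit 3, nat_lit 0, nat_lit 1, nat_lit 0, nat_lit 2, nat_lit 2, nat_lit 0, nat_lit 2])) (.node (nat_lit 2045) (.leaf ((nat_lit 1316), [nat_lit 5, nat_lit 3, nat_lit 5, nat_lit 3, nat_lit 2, nat_lit 4, nat_lit 3, nat_lit 2, nat_lit 3, nat_lit 0, nat_lit 1, nat_lit 0, nat_lit 1])) (.leaf ((nat_lit 167), [nat_lit 1, nat_lit 5, nat_lit 0, nat_lit 5, nat_lit 0, nat_lit 4, nat_lit 3, nat_lit 2, nat_lit 3, nat_lit 0, nat_lit 2, nat_lit 2, nat_lit 0, nat_lit 2, nat_lit 2])))))))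
 (.node (nat_lit 2057) (.node (nat_lit 2051) (.node (nat_lit 2048) (.node (nat_lit 2047) (.leaf ((nat_lit 636), [nat_lit 2, nat_lit 5, nat_lit 2, nat_lit 3, nat_lit 5, nat_lit 3, nat_lit 4, nat_lit 0, nat_lit 3, nat_lit 0, nat_lit 2, nat_lit 2, nat_lit 0, nat_lit 2, nat_lit 0, nat_lit 1])) (.leaf ((nat_lit 708), [nat_lit 4, nat_lit 5, nat_lit 2, nat_lit 3, nat_lit 4, nat_lit 0, nat_lit 2, nat_lit 4, nat_lit 0, nat_lit 2, nat_lit 0, nat_lit 1, nat_lit 0, nat_lit 1]))) (.node (nat_lit 2049) (.leaf ((nat_lit 1317), [nat_lit 2, nat_lit 3, nat_lit 5, nat_lit 2, nat_lit 4, nat_lit 0, nat_lit 4, nat_lit 3, nat_lit 2, nat_lit 0, nat_lit 1])) (.node (nat_lit 2050) (.leaf ((nat_lit 1191), [nat_lit 5, nat_lit 4, nat_lit 2, nat_lit 0, nat_lit 5, nat_lit 4, nat_lit 3, nat_lit 2, nat_lit 4, nat_lit 2, nat_lit 3, nat_lit 0, nat_lit 2, nat_lit 0, nat_lit 2, nat_lit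 2, nat_lit 0, nat_lit 1, nat_lit 0])) (.leaf ((nat_lit 1318), [nat_lit 1, nat_lit 4, nat_lit 2, nat_lit 5, nat_lit 3, nat_lit 0, nat_lit 4, nat_lit 3, nat_lit 2, nat_lit 3, nat_lit 1, nat_lit 0])))))
 (.node (nat_lit 2054) (.node (nat_lit 2052) (.leaf ((nat_lit 1055), [nat_lit 1, nat_lit 5, nat_lit 4, nat_lit 1, nat_lit 4, nat_lit 1, nat_lit 4, nat_lit 3, nat_lit 0, nat_lit 2, nat_lit 2, nat_lit 0, nat_lit 2, nat_lit 0, nat_lit 1])) (.node (nat_lit 2053) (.leaf ((nat_lit 1300), [nat_lit 4, nat_lit 5, nat_lit 1, nat_lit 5, nat_lit 1, nat_lit 4, nat_lit 3, nat_lit 2, nat_lit 0, nat_lit 3, nat_lit 1, nat_lit 0, nat_lit 1, nat_lit 0, nat_lit 2, nat_lit 2])) (.leaf ((nat_lit 373), [nat_lit 5, nat_lit 1, nat_lit 0, nat_lit 3, nat_lit 5, nat_lit 3, nat_lit 1, nat_lit 4, nat_lit 3, nat_lit 0, nat_lit 3, nat_lit 2, nat_lit 0, nat_lit 1, nat_lit 0, nat_lit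 2])))) (.node (nat_lit 2055) (.leaf ((nat_lit 748), [nat_lit 0, nat_lit 2, nat_lit 5, nat_lit 3, nat_lit 5, nat_lit 3, nat_lit 2, nat_lit 4, nat_lit 2, nat_lit 4, nat_lit 2, nat_lit 0, nat_lit 2, nat_lit 2, nat_lit 0])) (.node (nat_lit 2056) (.leaf ((nat_lit 916), [nat_lit 2, nat_lit 5, nat_lit 2, nat_lit 3, nat_lit 4, nat_lit 2, nat_lit 2, nat_lit 0, nat_lit 2, nat_lit 2])) (.leaf ((nat_lit 1319), [nat_lit 5, nat_lit 4, nat_lit 5, nat_lit 3, nat_lit 5, nat_lit 3, nat_lit 0, nat_lit 1, nat_lit 4, nat_lit 0, nat_lit 2, nat_lit 0, nat_lit 2, nat_lit 2, nat_lit 0, nat_lit 1, nat_lit 0]))))))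
 (.node (nat_lit 2062) (.node (nat_lit 2059) (.node (nat_lit 2058) (.leaf ((nat_lit 1320), [nat_lit 0, nat_lit 5, nat_lit 2, nat_lit 0, nat_lit 5, nat_lit 2, nat_lit 4, nat_lit 3, nat_lit 2, nat_lit 3, nat_lit 2, nat_lit 0, nat_lit 2, nat_lit 0])) (.leaf ((nat_lit 645), [nat_lit 1, nat_lit 0, nat_lit 3, nat_lit 5, nat_lit 3, nat_lit 0, nat_lit 4, nat_lit 1, nat_lit 3, nat_lit 0, nat_lit 2, nat_lit 0, nat_lit 2, nat_lit 2, nat_lit 0, nat_lit 1]))) (.node (nat_lit 2060) (.leaf ((nat_lit 1043), [nat_lit 5, nat_lit 3, nat_lit 0, nat_lit 5, nat_lit 2, nat_lit 2, nat_lit 4, nat_lit 2, nat_lit 4, nat_lit 0, nat_lit 1, nat_lit 0, nat_lit 2, nat_lit 0])) (.node (nat_lit 2061) (.leaf ((nat_lit 961), [nat_lit 5, nat_lit 3, nat_lit 2, nat_lit 5, nat_lit 2, nat_lit 4, nat_lit 2, nat_lit 3, nat_lit 2, nat_lit 3, nat_lit 2, nat_lit 0, nat_lit 1, nat_lit 0, nat_lit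 1, nat_lit 0])) (.leaf ((nat_lit 404), [nat_lit 3, nat_lit 5, nat_lit 1, nat_lit 3, nat_lit 0, nat_lit 5, nat_lit 0, nat_lit 1, nat_lit 4, nat_lit 3, nat_lit 2, nat_lit 2, nat_lit 0, nat_lit 2, nat_lit 0, nat_lit 1])))))
 (.node (nat_lit 2065) (.node (nat_lit 2063) (.leaf ((nat_lit 284), [nat_lit 0, nat_lit 3, nat_lit 5, nat_lit 3, nat_lit 0, nat_lit 4, nat_lit 1, nat_lit 0, nat_lit 3, nat_lit 2, nat_lit 2, nat_lit 0, nat_lit 2, nat_lit 2, nat_lit 0, nat_lit 1, nat_lit 0])) (.node (nat_lit 2064) (.leaf ((nat_lit 1321), [nat_lit 5, nat_lit 0, nat_lit 3, nat_lit 5, nat_lit 4, nat_lit 3, nat_lit 0, nat_lit 4, nat_lit 2, nat_lit 0, nat_lit 2, nat_lit 2, nat_lit 0, nat_lit 2, nat_lit 2, nat_lit 0])) (.leaf ((nat_lit 1291), [nat_lit 5, nat_lit 4, nat_lit 3, nat_lit 5, nat_lit 2, nat_lit 5, nat_lit 3, nat_lit 2, nat_lit 0, nat_lit 1, nat_lit 0, nat_lit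 3, nat_lit 1, nat_lit 0, nat_lit 1, nat_lit 0, nat_lit 2, nat_lit 0, nat_lit 2, nat_lit 0])))) (.node (nat_lit 2066) (.leaf ((nat_lit 989), [nat_lit 5, nat_lit 1, nat_lit 0, nat_lit 3, nat_lit 5, nat_lit 2, nat_lit 4, nat_lit 2, nat_lit 3, nat_lit 1, nat_lit 3, nat_lit 1, nat_lit 0, nat_lit 2, nat_lit 0, nat_lit 2])) (.node (nat_lit 2067) (.leaf ((nat_lit 1264), [nat_lit 0, nat_lit 4, nat_lit 2, nat_lit 0, nat_lit 5, nat_lit 2, nat_lit 0, nat_lit 2, nat_lit 2, nat_lit 3, nat_lit 0, nat_lit 1, nat_lit 0, nat_lit 1, nat_lit 0, nat_lit 2, nat_lit 0])) (.leaf ((nat_lit 700), [nat_lit 3, nat_lit 0, nat_lit 5, nat_lit 3, nat_lit 4, nat_lit 1, nat_lit 3, nat_lit 2, nat_lit 2, nat_lit 0, nat_lit 1, nat_lit 0, nat_lit 2, nat_lit 2, nat_lit 0]))))))))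
 (.node (nat_lit 2090) (.node (nat_lit 2079) (.node (nat_lit 2073) (.node (nat_lit 2070) (.node (nat_lit 2069) (.leaf ((nat_lit 1136), [nat_lit 4, nat_lit 3, nat_lit 2, nat_lit 5, nat_lit 4, nat_lit 1, nat_lit 3, nat_lit 2, nat_lit 4, nat_lit 2, nat_lit 0, nat_lit 1, nat_lit 0, nat_lit 2, nat_lit 0])) (.leaf ((nat_lit 1322), [nat_lit 5, nat_lit 4, nat_lit 5, nat_lit 3, nat_lit 5, nat_lit 2, nat_lit 4, nat_lit 0, nat_lit 4, nat_lit 0, nat_lit 4, nat_lit 2, nat_lit 2, nat_lit 0, nat_lit 2, nat_lit 0, nat_lit 1]))) (.node (nat_lit 2071) (.leaf ((nat_lit 1234), [nat_lit 3, nat_lit 5, nat_lit 3, nat_lit 0, nat_lit 3, nat_lit 2, nat_lit 3, nat_lit 2, nat_lit 0, nat_lit 2, nat_lit 2, nat_lit 0, nat_lit 1, nat_lit 0])) (.node (nat_lit 2072) (.leaf ((nat_lit 254), [nat_lit 5, nat_lit 1, nat_lit 0, nat_lit 3, nat_lit 5, nat_lit 4, nat_lit 2, nat_lit 2, nat_lit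 4, nat_lit 3, nat_lit 2, nat_lit 0, nat_lit 1, nat_lit 0, nat_lit 1, nat_lit 0, nat_lit 2, nat_lit 0])) (.leaf ((nat_lit 901), [nat_lit 5, nat_lit 4, nat_lit 3, nat_lit 2, nat_lit 5, nat_lit 3, nat_lit 4, nat_lit 3, nat_lit 2, nat_lit 3, nat_lit 2, nat_lit 0, nat_lit 2, nat_lit 0, nat_lit 1])))))
 (.node (nat_lit 2076) (.node (nat_lit 2074) (.leaf ((nat_lit 221), [nat_lit 5, nat_lit 4, nat_lit 0, nat_lit 5, nat_lit 1, nat_lit 3, nat_lit 4, nat_lit 3])) (.node (nat_lit 2075) (.leaf ((nat_lit 732), [nat_lit 3, nat_lit 1, nat_lit 5, nat_lit 2, nat_lit 5, nat_lit 4, nat_lit 0, nat_lit 1, nat_lit 0, nat_lit 1, nat_lit 0, nat_lit 3, nat_lit 1, nat_lit 0, nat_lit 2, nat_lit 2, nat_lit 0, nat_lit 2, nat_lit 0])) (.leaf ((nat_lit 1323), [nat_lit 2, nat_lit 5, nat_lit 0, nat_lit 5, nat_lit 0, nat_lit 3, nat_lit 4, nat_lit 0, nat_lit 3, nat_lit 2, nat_lit 2,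 nat_lit 0, nat_lit 2, nat_lit 2, nat_lit 0, nat_lit 1, nat_lit 0])))) (.node (nat_lit 2077) (.leaf ((nat_lit 707), [nat_lit 0, nat_lit 4, nat_lit 5, nat_lit 1, nat_lit 0, nat_lit 4, nat_lit 1, nat_lit 4, nat_lit 0, nat_lit 2])) (.node (nat_lit 2078) (.leaf ((nat_lit 1324), [nat_lit 1, nat_lit 4, nat_lit 2, nat_lit 5, nat_lit 2, nat_lit 4, nat_lit 2, nat_lit 3, nat_lit 1, nat_lit 3, nat_lit 0, nat_lit 1, nat_lit 0, nat_lit 2, nat_lit 2, nat_lit 0])) (.leaf ((nat_lit 1304), [nat_lit 2, nat_lit 4, nat_lit 5, nat_lit 2, nat_lit 0, nat_lit 5, nat_lit 3, nat_lit 4, nat_lit 0, nat_lit 3, nat_lit 4, nat_lit 1, nat_lit 0, nat_lit 2]))))))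
 (.node (nat_lit 2084) (.node (nat_lit 2081) (.node (nat_lit 2080) (.leaf ((nat_lit 1077), [nat_lit 0, nat_lit 2, nat_lit 4, nat_lit 0, nat_lit 5, nat_lit 4, nat_lit 0, nat_lit 1, nat_lit 4, nat_lit 0, nat_lit 1, nat_lit 0, nat_lit 2, nat_lit 0, nat_lit 2, nat_lit 0])) (.leaf ((nat_lit 939), [nat_lit 0, nat_lit 5, nat_lit 3, nat_lit 5, nat_lit 2, nat_lit 0, nat_lit 3, nat_lit 0, nat_lit 1, nat_lit 0, nat_lit 2, nat_lit 2, nat_lit 0]))) (.node (nat_lit 2082) (.leaf ((nat_lit 1325), [nat_lit 5, nat_lit 4, nat_lit 3, nat_lit 0, nat_lit 5, nat_lit 1, nat_lit 0, nat_lit 4, nat_lit 1, nat_lit 4, nat_lit 2, nat_lit 0, nat_lit 1])) (.node (nat_lit 2083) (.leaf ((nat_lit 887), [nat_lit 5, nat_lit 0, nat_lit 1, nat_lit 5, nat_lit 0, nat_lit 2, nat_lit 2, nat_lit 3, nat_lit 1, nat_lit 0, nat_lit 1, nat_lit 0, nat_lit 2, nat_lit 0])) (.leaf ((nat_lit 1294),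 [nat_lit 5, nat_lit 2, nat_lit 0, nat_lit 2, nat_lit 5, nat_lit 3, nat_lit 4, nat_lit 3, nat_lit 1, nat_lit 4, nat_lit 3, nat_lit 0, nat_lit 2, nat_lit 2])))))
 (.node (nat_lit 2087) (.node (nat_lit 2085) (.leaf ((nat_lit 881), [nat_lit 5, nat_lit 4, nat_lit 3, nat_lit 2, nat_lit 5, nat_lit 4, nat_lit 3, nat_lit 0, nat_lit 3, nat_lit 2, nat_lit 0, nat_lit 1, nat_lit 0])) (.node (nat_lit 2086) (.leaf ((nat_lit 1125), [nat_lit 1, nat_lit 5, nat_lit 1, nat_lit 0, nat_lit 4, nat_lit 3, nat_lit 0, nat_lit 3, nat_lit 2, nat_lit 0, nat_lit 1, nat_lit 0, nat_lit 1])) (.leaf ((nat_lit 1326), [nat_lit 4, nat_lit 5, nat_lit 3, nat_lit 0, nat_lit 5, nat_lit 0, nat_lit 3, nat_lit 2, nat_lit 0, nat_lit 1, nat_lit 0, nat_lit 2, nat_lit 2])))) (.node (nat_lit 2088) (.leaf ((nat_lit 892), [nat_lit 1, nat_lit 5, nat_lit 3, nat_lit 5, nat_lit 0, nat_lit 2, nat_lit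 2, nat_lit 3, nat_lit 1, nat_lit 0, nat_lit 2, nat_lit 2, nat_lit 0, nat_lit 2, nat_lit 0])) (.node (nat_lit 2089) (.leaf ((nat_lit 1163), [nat_lit 1, nat_lit 3, nat_lit 2, nat_lit 5, nat_lit 0, nat_lit 4, nat_lit 2, nat_lit 3, nat_lit 4, nat_lit 2, nat_lit 2, nat_lit 0, nat_lit 2, nat_lit 2])) (.leaf ((nat_lit 1327), [nat_lit 3, nat_lit 5, nat_lit 4, nat_lit 2, nat_lit 3, nat_lit 2, nat_lit 2, nat_lit 3, nat_lit 0, nat_lit 1, nat_lit 0, nat_lit 1, nat_lit 0, nat_lit 2, nat_lit 0])))))))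
 (.node (nat_lit 2101) (.node (nat_lit 2095) (.node (nat_lit 2092) (.node (nat_lit 2091) (.leaf ((nat_lit 725), [nat_lit 5, nat_lit 1, nat_lit 0, nat_lit 3, nat_lit 5, nat_lit 3, nat_lit 2, nat_lit 2, nat_lit 0, nat_lit 4, nat_lit 1, nat_lit 0, nat_lit 1])) (.leaf ((nat_lit 691), [nat_lit 4, nat_lit 5, nat_lit 2, nat_lit 3, nat_lit 5, nat_lit 4, nat_lit 3, nat_lit 2, nat_lit 4, nat_lit 2, nat_lit 0, nat_lit 2, nat_lit 2, nat_lit 0, nat_lit 2, nat_lit 2, nat_lit 0]))) (.node (nat_lit 2093) (.leaf ((nat_lit 81), [nat_lit 3, nat_lit 2, nat_lit 3, nat_lit 5, nat_lit 1, nat_lit 0, nat_lit 3, nat_lit 1, nat_lit 4, nat_lit 0, nat_lit 1])) (.node (nat_lit 2094) (.leaf ((nat_lit 1328), [nat_lit 2, nat_lit 4, nat_lit 5, nat_lit 2, nat_lit 0, nat_lit 5, nat_lit 2, nat_lit 2, nat_lit 0, nat_lit 3, nat_lit 0, nat_lit 2, nat_lit 0, nat_lit 2, nat_lit 2, nat_lit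 0, nat_lit 2, nat_lit 0])) (.leaf ((nat_lit 1279), [nat_lit 3, nat_lit 5, nat_lit 1, nat_lit 3, nat_lit 2, nat_lit 5, nat_lit 4, nat_lit 0, nat_lit 3, nat_lit 0, nat_lit 2, nat_lit 3, nat_lit 2, nat_lit 2, nat_lit 0, nat_lit 2, nat_lit 2, nat_lit 0, nat_lit 1, nat_lit 0])))))
 (.node (nat_lit 2098) (.node (nat_lit 2096) (.leaf ((nat_lit 847), [nat_lit 5, nat_lit 4, nat_lit 5, nat_lit 3, nat_lit 5, nat_lit 3, nat_lit 0, nat_lit 3, nat_lit 2, nat_lit 0, nat_lit 2, nat_lit 2, nat_lit 0, nat_lit 2])) (.node (nat_lit 2097) (.leaf ((nat_lit 1242), [nat_lit 5, nat_lit 2, nat_lit 2, nat_lit 0, nat_lit 5, nat_lit 1, nat_lit 3, nat_lit 2, nat_lit 3, nat_lit 0, nat_lit 4, nat_lit 2, nat_lit 0, nat_lit 2, nat_lit 0, nat_lit 1, nat_lit 0, nat_lit 1, nat_lit 0])) (.leaf ((nat_lit 900), [nat_lit 3, nat_lit 1, nat_lit 5, nat_lit 0, nat_lit 5, nat_lit 4, nat_lit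 2, nat_lit 0, nat_lit 2, nat_lit 3, nat_lit 2, nat_lit 2, nat_lit 0, nat_lit 1])))) (.node (nat_lit 2099) (.leaf ((nat_lit 1329), [nat_lit 3, nat_lit 4, nat_lit 5, nat_lit 3, nat_lit 2, nat_lit 3, nat_lit 0, nat_lit 4, nat_lit 0, nat_lit 2, nat_lit 0, nat_lit 1])) (.node (nat_lit 2100) (.leaf ((nat_lit 1160), [nat_lit 5, nat_lit 1, nat_lit 0, nat_lit 2, nat_lit 5, nat_lit 2, nat_lit 2, nat_lit 3, nat_lit 2, nat_lit 2, nat_lit 3, nat_lit 2, nat_lit 0, nat_lit 2, nat_lit 2, nat_lit 0, nat_lit 2, nat_lit 0])) (.leaf ((nat_lit 713), [nat_lit 3, nat_lit 2, nat_lit 3, nat_lit 5, nat_lit 2, nat_lit 0, nat_lit 2, nat_lit 2, nat_lit 3, nat_lit 0, nat_lit 2, nat_lit 2, nat_lit 0, nat_lit 1, nat_lit 0, nat_lit 2]))))))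
 (.node (nat_lit 2106) (.node (nat_lit 2103) (.node (nat_lit 2102) (.leaf ((nat_lit 1330), [nat_lit 4, nat_lit 3, nat_lit 2, nat_lit 5, nat_lit 0, nat_lit 2, nat_lit 0, nat_lit 4, nat_lit 1, nat_lit 4, nat_lit 2, nat_lit 0, nat_lit 1, nat_lit 0, nat_lit 2])) (.leaf ((nat_lit 166), [nat_lit 1, nat_lit 5, nat_lit 3, nat_lit 5, nat_lit 1, nat_lit 0, nat_lit 2, nat_lit 0, nat_lit 2, nat_lit 4, nat_lit 0, nat_lit 2, nat_lit 0, nat_lit 2, nat_lit 2]))) (.node (nat_lit 2104) (.leaf ((nat_lit 68), [nat_lit 0, nat_lit 5, nat_lit 3, nat_lit 0, nat_lit 5, nat_lit 2, nat_lit 0, nat_lit 3, nat_lit 0, nat_lit 4, nat_lit 0, nat_lit 1, nat_lit 0, nat_lit 2, nat_lit 2, nat_lit 0, nat_lit 2])) (.node (nat_lit 2105) (.leaf ((nat_lit 1331), [nat_lit 3, nat_lit 2, nat_lit 0, nat_lit 5, nat_lit 1, nat_lit 0, nat_lit 1, nat_lit 0, nat_lit 3, nat_lit 0, nat_lit 1, nat_lit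 0, nat_lit 1, nat_lit 0, nat_lit 2])) (.leaf ((nat_lit 217), [nat_lit 0, nat_lit 5, nat_lit 3, nat_lit 0, nat_lit 5, nat_lit 3, nat_lit 4, nat_lit 3, nat_lit 0, nat_lit 2, nat_lit 2, nat_lit 0, nat_lit 1, nat_lit 0, nat_lit 2])))))
 (.node (nat_lit 2109) (.node (nat_lit 2107) (.leaf ((nat_lit 454), [nat_lit 2, nat_lit 5, nat_lit 2, nat_lit 3, nat_lit 5, nat_lit 2, nat_lit 0, nat_lit 3, nat_lit 2, nat_lit 3, nat_lit 1, nat_lit 0, nat_lit 2, nat_lit 2, nat_lit 0, nat_lit 2, nat_lit 2, nat_lit 0])) (.node (nat_lit 2108) (.leaf ((nat_lit 1332), [nat_lit 4, nat_lit 3, nat_lit 5, nat_lit 0, nat_lit 5, nat_lit 4, nat_lit 1, nat_lit 0, nat_lit 3, nat_lit 2, nat_lit 0, nat_lit 1])) (.leaf ((nat_lit 93), [nat_lit 3, nat_lit 2, nat_lit 0, nat_lit 5, nat_lit 3, nat_lit 1, nat_lit 3, nat_lit 1, nat_lit 0, nat_lit 2, nat_lit 0, nat_lit 1])))) (.node (nat_lit 2110)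 (.leaf ((nat_lit 1091), [nat_lit 4, nat_lit 2, nat_lit 0, nat_lit 5, nat_lit 1, nat_lit 4, nat_lit 3, nat_lit 1, nat_lit 4, nat_lit 1, nat_lit 0])) (.node (nat_lit 2111) (.leaf ((nat_lit 1179), [nat_lit 1, nat_lit 5, nat_lit 1, nat_lit 5, nat_lit 0, nat_lit 1, nat_lit 4, nat_lit 1, nat_lit 0, nat_lit 3, nat_lit 1, nat_lit 0, nat_lit 1, nat_lit 0, nat_lit 2, nat_lit 0, nat_lit 2, nat_lit 0])) (.leaf ((nat_lit 1209), [nat_lit 2, nat_lit 4, nat_lit 0, nat_lit 5, nat_lit 3, nat_lit 1, nat_lit 3, nat_lit 0, nat_lit 3, nat_lit 2, nat_lit 2, nat_lit 0, nat_lit 2, nat_lit 0]))))))))))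
noncomputable def pWd_12 : Tr (ℕ × List ℕ) := (.node (nat_lit 2200) (.node (nat_lit 2156) (.node (nat_lit 2134) (.node (nat_lit 2123) (.node (nat_lit 2117) (.node (nat_lit 2114) (.node (nat_lit 2113) (.leaf ((nat_lit 36), [nat_lit 4, nat_lit 5, nat_lit 4, nat_lit 0, nat_lit 5, nat_lit 2, nat_lit 4, nat_lit 0, nat_lit 4, nat_lit 0, nat_lit 4, nat_lit 2, nat_lit 2, nat_lit 0, nat_lit 2, nat_lit 2])) (.leaf ((nat_lit 1333), [nat_lit 5, nat_lit 4, nat_lit 5, nat_lit 1, nat_lit 5, nat_lit 3, nat_lit 4, nat_lit 3, nat_lit 2, nat_lit 3, nat_lit 1, nat_lit 0, nat_lit 2, nat_lit 2, nat_lit 0, nat_lit 2, nat_lit 2, nat_lit 0]))) (.node (nat_lit 2115) (.leaf ((nat_lit 1172), [nat_lit 4, nat_lit 5, nat_lit 2, nat_lit 5, nat_lit 0, nat_lit 4, nat_lit 0, nat_lit 4, nat_lit 1, nat_lit 3, nat_lit 0, nat_lit 1, nat_lit 0, nat_lit 2, nat_lit 2, nat_lit 0, nat_lit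 1, nat_lit 0])) (.node (nat_lit 2116) (.leaf ((nat_lit 1058), [nat_lit 0, nat_lit 5, nat_lit 0, nat_lit 1, nat_lit 5, nat_lit 3, nat_lit 1, nat_lit 0, nat_lit 3, nat_lit 1, nat_lit 3, nat_lit 0, nat_lit 1])) (.leaf ((nat_lit 57), [nat_lit 3, nat_lit 2, nat_lit 0, nat_lit 4, nat_lit 1, nat_lit 0, nat_lit 2])))))
 (.node (nat_lit 2120) (.node (nat_lit 2118) (.leaf ((nat_lit 1334), [nat_lit 4, nat_lit 5, nat_lit 3, nat_lit 5, nat_lit 1, nat_lit 3, nat_lit 0, nat_lit 3, nat_lit 2, nat_lit 3, nat_lit 2, nat_lit 0, nat_lit 2, nat_lit 0])) (.node (nat_lit 2119) (.leaf ((nat_lit 1312), [nat_lit 2, nat_lit 5, nat_lit 3, nat_lit 5, nat_lit 3, nat_lit 0, nat_lit 3, nat_lit 0, nat_lit 2, nat_lit 4, nat_lit 0, nat_lit 2, nat_lit 0, nat_lit 2, nat_lit 2, nat_lit 0, nat_lit 2])) (.leaf ((nat_lit 1259), [nat_lit 5, nat_lit 3, nat_lit 2, nat_lit 0, nat_lit 5, nat_lit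 1, nat_lit 0, nat_lit 3, nat_lit 1, nat_lit 4, nat_lit 0, nat_lit 2])))) (.node (nat_lit 2121) (.leaf ((nat_lit 487), [nat_lit 1, nat_lit 5, nat_lit 1, nat_lit 3, nat_lit 0, nat_lit 3, nat_lit 2, nat_lit 2, nat_lit 0])) (.node (nat_lit 2122) (.leaf ((nat_lit 1035), [nat_lit 4, nat_lit 2, nat_lit 5, nat_lit 1, nat_lit 5, nat_lit 0, nat_lit 4, nat_lit 1, nat_lit 0, nat_lit 3, nat_lit 0, nat_lit 1, nat_lit 0, nat_lit 2, nat_lit 2, nat_lit 0, nat_lit 1, nat_lit 0])) (.leaf ((nat_lit 1145), [nat_lit 5, nat_lit 4, nat_lit 3, nat_lit 0, nat_lit 5, nat_lit 2, nat_lit 0, nat_lit 2, nat_lit 4, nat_lit 3, nat_lit 2, nat_lit 2, nat_lit 0, nat_lit 1, nat_lit 0, nat_lit 2, nat_lit 2]))))))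
 (.node (nat_lit 2128) (.node (nat_lit 2125) (.node (nat_lit 2124) (.leaf ((nat_lit 1219), [nat_lit 5, nat_lit 1, nat_lit 3, nat_lit 2, nat_lit 5, nat_lit 4, nat_lit 1, nat_lit 3, nat_lit 2, nat_lit 4, nat_lit 2, nat_lit 2, nat_lit 0])) (.leaf ((nat_lit 174), [nat_lit 0, nat_lit 5, nat_lit 3, nat_lit 5, nat_lit 2, nat_lit 3, nat_lit 1, nat_lit 3, nat_lit 4, nat_lit 3, nat_lit 0]))) (.node (nat_lit 2126) (.leaf ((nat_lit 1253), [nat_lit 4, nat_lit 3, nat_lit 0, nat_lit 5, nat_lit 3, nat_lit 2, nat_lit 2, nat_lit 3, nat_lit 2, nat_lit 2, nat_lit 0, nat_lit 1])) (.node (nat_lit 2127) (.leaf ((nat_lit 1006), [nat_lit 5, nat_lit 4, nat_lit 2, nat_lit 0, nat_lit 5, nat_lit 0, nat_lit 4, nat_lit 1, nat_lit 3, nat_lit 0, nat_lit 3, nat_lit 0, nat_lit 1, nat_lit 0, nat_lit 2, nat_lit 2, nat_lit 0, nat_lit 2, nat_lit 0])) (.leaf ((nat_lit 979), [nat_lit 4,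 nat_lit 0, nat_lit 5, nat_lit 0, nat_lit 3, nat_lit 0, nat_lit 2, nat_lit 4, nat_lit 3, nat_lit 1, nat_lit 0, nat_lit 2, nat_lit 2])))))
 (.node (nat_lit 2131) (.node (nat_lit 2129) (.leaf ((nat_lit 337), [nat_lit 1, nat_lit 5, nat_lit 3, nat_lit 5, nat_lit 2, nat_lit 4, nat_lit 1, nat_lit 0, nat_lit 2, nat_lit 3, nat_lit 1, nat_lit 0, nat_lit 1, nat_lit 0, nat_lit 2, nat_lit 2])) (.node (nat_lit 2130) (.leaf ((nat_lit 1002), [nat_lit 2, nat_lit 5, nat_lit 2, nat_lit 3, nat_lit 5, nat_lit 4, nat_lit 2, nat_lit 4, nat_lit 2, nat_lit 3, nat_lit 0, nat_lit 2, nat_lit 0, nat_lit 1])) (.leaf ((nat_lit 1335), [nat_lit 2, nat_lit 4, nat_lit 5, nat_lit 2, nat_lit 0, nat_lit 5, nat_lit 2, nat_lit 4, nat_lit 2, nat_lit 4, nat_lit 0, nat_lit 1, nat_lit 0, nat_lit 2])))) (.node (nat_lit 2132) (.leaf ((nat_lit 440), [nat_lit 3, nat_lit 0, nat_lit 5, nat_lit 3,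 nat_lit 5, nat_lit 2, nat_lit 3, nat_lit 0, nat_lit 3, nat_lit 0, nat_lit 2, nat_lit 2])) (.node (nat_lit 2133) (.leaf ((nat_lit 20), [nat_lit 3, nat_lit 5, nat_lit 1, nat_lit 3, nat_lit 0, nat_lit 5, nat_lit 3, nat_lit 2, nat_lit 3, nat_lit 0, nat_lit 3, nat_lit 2, nat_lit 2, nat_lit 0, nat_lit 2, nat_lit 0])) (.leaf ((nat_lit 872), [nat_lit 0, nat_lit 5, nat_lit 2, nat_lit 5, nat_lit 1, nat_lit 3, nat_lit 0, nat_lit 1, nat_lit 4, nat_lit 2, nat_lit 0, nat_lit 2, nat_lit 0, nat_lit 1])))))))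
 (.node (nat_lit 2145) (.node (nat_lit 2139) (.node (nat_lit 2136) (.node (nat_lit 2135) (.leaf ((nat_lit 1336), [nat_lit 4, nat_lit 1, nat_lit 5, nat_lit 3, nat_lit 5, nat_lit 2, nat_lit 4, nat_lit 3, nat_lit 0, nat_lit 4, nat_lit 0, nat_lit 2, nat_lit 0, nat_lit 2])) (.leaf ((nat_lit 449), [nat_lit 4, nat_lit 5, nat_lit 1, nat_lit 0, nat_lit 4, nat_lit 0, nat_lit 2, nat_lit 2, nat_lit 0, nat_lit 2, nat_lit 0, nat_lit 1]))) (.node (nat_lit 2137) (.leaf ((nat_lit 1067), [nat_lit 4, nat_lit 0, nat_lit 2, nat_lit 2, nat_lit 0, nat_lit 1, nat_lit 0, nat_lit 2])) (.node (nat_lit 2138) (.leaf ((nat_lit 1337), [nat_lit 2, nat_lit 2, nat_lit 0, nat_lit 5, nat_lit 4, nat_lit 3, nat_lit 1, nat_lit 4, nat_lit 3, nat_lit 1, nat_lit 0])) (.leaf ((nat_lit 1287), [nat_lit 2, nat_lit 5, nat_lit 0, nat_lit 5, nat_lit 0, nat_lit 2, nat_lit 3, nat_lit 1, nat_lit 3,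 nat_lit 1, nat_lit 0, nat_lit 2, nat_lit 0, nat_lit 1, nat_lit 0])))))
 (.node (nat_lit 2142) (.node (nat_lit 2140) (.leaf ((nat_lit 743), [nat_lit 0, nat_lit 5, nat_lit 2, nat_lit 5, nat_lit 2, nat_lit 4, nat_lit 2, nat_lit 3, nat_lit 1, nat_lit 3, nat_lit 2])) (.node (nat_lit 2141) (.leaf ((nat_lit 108), [nat_lit 2, nat_lit 2, nat_lit 0, nat_lit 5, nat_lit 4, nat_lit 3, nat_lit 2, nat_lit 3, nat_lit 0, nat_lit 3, nat_lit 2, nat_lit 0, nat_lit 1, nat_lit 0, nat_lit 1])) (.leaf ((nat_lit 1305), [nat_lit 3, nat_lit 1, nat_lit 5, nat_lit 2, nat_lit 5, nat_lit 3, nat_lit 1, nat_lit 3, nat_lit 1, nat_lit 3, nat_lit 1, nat_lit 0, nat_lit 2, nat_lit 2, nat_lit 0, nat_lit 2, nat_lit 2, nat_lit 0])))) (.node (nat_lit 2143) (.leaf ((nat_lit 856), [nat_lit 2, nat_lit 2, nat_lit 0, nat_lit 5, nat_lit 0, nat_lit 2, nat_lit 0, nat_lit 2, nat_lit 4, nat_lit 2,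 nat_lit 2, nat_lit 0, nat_lit 1, nat_lit 0, nat_lit 2, nat_lit 2])) (.node (nat_lit 2144) (.leaf ((nat_lit 1063), [nat_lit 0, nat_lit 1, nat_lit 5, nat_lit 3, nat_lit 4, nat_lit 2, nat_lit 2, nat_lit 0, nat_lit 2, nat_lit 2, nat_lit 0, nat_lit 1])) (.leaf ((nat_lit 852), [nat_lit 5, nat_lit 1, nat_lit 3, nat_lit 0, nat_lit 5, nat_lit 4, nat_lit 0, nat_lit 3, nat_lit 2, nat_lit 3, nat_lit 0, nat_lit 2, nat_lit 0, nat_lit 2, nat_lit 2, nat_lit 0, nat_lit 2, nat_lit 0]))))))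
 (.node (nat_lit 2150) (.node (nat_lit 2147) (.node (nat_lit 2146) (.leaf ((nat_lit 1205), [nat_lit 3, nat_lit 4, nat_lit 3, nat_lit 5, nat_lit 0, nat_lit 4, nat_lit 0, nat_lit 4, nat_lit 1, nat_lit 3, nat_lit 2, nat_lit 0, nat_lit 2, nat_lit 0])) (.leaf ((nat_lit 1182), [nat_lit 0, nat_lit 4, nat_lit 5, nat_lit 0, nat_lit 4, nat_lit 3, nat_lit 2, nat_lit 0, nat_lit 3, nat_lit 2, nat_lit 2, nat_lit 0, nat_lit 2, nat_lit 2, nat_lit 0, nat_lit 2]))) (.node (nat_lit 2148) (.leaf ((nat_lit 733), [nat_lit 2, nat_lit 5, nat_lit 4, nat_lit 5, nat_lit 1, nat_lit 4, nat_lit 0, nat_lit 3, nat_lit 4, nat_lit 2, nat_lit 2, nat_lit 0, nat_lit 2, nat_lit 2, nat_lit 0])) (.node (nat_lit 2149) (.leaf ((nat_lit 339), [nat_lit 4, nat_lit 3, nat_lit 5, nat_lit 2, nat_lit 4, nat_lit 2, nat_lit 3, nat_lit 1, nat_lit 3, nat_lit 2, nat_lit 2])) (.leaf ((nat_lit 29), [nat_lit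 5, nat_lit 3, nat_lit 2, nat_lit 3, nat_lit 2, nat_lit 0, nat_lit 4, nat_lit 2, nat_lit 0, nat_lit 2, nat_lit 2])))))
 (.node (nat_lit 2153) (.node (nat_lit 2151) (.leaf ((nat_lit 1251), [nat_lit 2, nat_lit 5, nat_lit 0, nat_lit 5, nat_lit 2, nat_lit 2, nat_lit 4, nat_lit 0, nat_lit 4, nat_lit 3, nat_lit 2, nat_lit 2, nat_lit 0, nat_lit 2, nat_lit 2, nat_lit 0, nat_lit 2, nat_lit 0])) (.node (nat_lit 2152) (.leaf ((nat_lit 981), [nat_lit 1, nat_lit 0, nat_lit 2, nat_lit 5, nat_lit 4, nat_lit 2, nat_lit 3, nat_lit 0, nat_lit 4, nat_lit 1, nat_lit 0, nat_lit 2])) (.leaf ((nat_lit 1131), [nat_lit 2, nat_lit 4, nat_lit 2, nat_lit 0, nat_lit 5, nat_lit 2, nat_lit 2, nat_lit 0, nat_lit 3, nat_lit 0, nat_lit 4, nat_lit 2, nat_lit 0, nat_lit 2, nat_lit 2, nat_lit 0])))) (.node (nat_lit 2154) (.leaf ((nat_lit 1338), [nat_lit 5, nat_lit 1, nat_lit 5, nat_lit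 0, nat_lit 5, nat_lit 3, nat_lit 0, nat_lit 4, nat_lit 3, nat_lit 2, nat_lit 3, nat_lit 2, nat_lit 0, nat_lit 2, nat_lit 2, nat_lit 0, nat_lit 1, nat_lit 0])) (.node (nat_lit 2155) (.leaf ((nat_lit 1121), [nat_lit 5, nat_lit 2, nat_lit 4, nat_lit 0, nat_lit 5, nat_lit 0, nat_lit 2, nat_lit 2, nat_lit 3, nat_lit 0, nat_lit 2, nat_lit 0, nat_lit 2, nat_lit 2, nat_lit 0])) (.leaf ((nat_lit 880), [nat_lit 1, nat_lit 3, nat_lit 0, nat_lit 5, nat_lit 3, nat_lit 4, nat_lit 3, nat_lit 2, nat_lit 2, nat_lit 0, nat_lit 2, nat_lit 0, nat_lit 1]))))))))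
 (.node (nat_lit 2178) (.node (nat_lit 2167) (.node (nat_lit 2161) (.node (nat_lit 2158) (.node (nat_lit 2157) (.leaf ((nat_lit 1339), [nat_lit 0, nat_lit 5, nat_lit 2, nat_lit 3, nat_lit 5, nat_lit 0, nat_lit 1, nat_lit 3, nat_lit 1, nat_lit 0, nat_lit 4, nat_lit 2, nat_lit 2])) (.leaf ((nat_lit 1095), [nat_lit 5, nat_lit 2, nat_lit 3, nat_lit 5, nat_lit 0, nat_lit 3, nat_lit 4, nat_lit 2, nat_lit 0, nat_lit 1, nat_lit 0, nat_lit 1, nat_lit 0, nat_lit 2, nat_lit 0]))) (.node (nat_lit 2159) (.leaf ((nat_lit 753), [nat_lit 1, nat_lit 4, nat_lit 5, nat_lit 1, nat_lit 5, nat_lit 3, nat_lit 2, nat_lit 4, nat_lit 1, nat_lit 0, nat_lit 2, nat_lit 2, nat_lit 0, nat_lit 1])) (.node (nat_lit 2160) (.leaf ((nat_lit 1080), [nat_lit 4, nat_lit 5, nat_lit 2, nat_lit 0, nat_lit 5, nat_lit 4, nat_lit 3, nat_lit 0, nat_lit 3, nat_lit 1, nat_lit 0, nat_lit 1, nat_lit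 0, nat_lit 2, nat_lit 0, nat_lit 2])) (.leaf ((nat_lit 1221), [nat_lit 5, nat_lit 1, nat_lit 3, nat_lit 0, nat_lit 5, nat_lit 3, nat_lit 4, nat_lit 2, nat_lit 0, nat_lit 4, nat_lit 2, nat_lit 0, nat_lit 1, nat_lit 0, nat_lit 2])))))
 (.node (nat_lit 2164) (.node (nat_lit 2162) (.leaf ((nat_lit 1069), [nat_lit 1, nat_lit 0, nat_lit 3, nat_lit 5, nat_lit 4, nat_lit 1, nat_lit 0, nat_lit 1, nat_lit 0, nat_lit 3, nat_lit 2, nat_lit 0, nat_lit 1])) (.node (nat_lit 2163) (.leaf ((nat_lit 1340), [nat_lit 5, nat_lit 0, nat_lit 1, nat_lit 5, nat_lit 4, nat_lit 0, nat_lit 3, nat_lit 0, nat_lit 2, nat_lit 3, nat_lit 2, nat_lit 0, nat_lit 2, nat_lit 2, nat_lit 0, nat_lit 1])) (.leaf ((nat_lit 555), [nat_lit 4, nat_lit 0, nat_lit 5, nat_lit 2, nat_lit 5, nat_lit 1, nat_lit 4, nat_lit 0, nat_lit 3, nat_lit 2, nat_lit 3, nat_lit 0, nat_lit 1, nat_lit 0, nat_lit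 2, nat_lit 2, nat_lit 0, nat_lit 1])))) (.node (nat_lit 2165) (.leaf ((nat_lit 1078), [nat_lit 5, nat_lit 0, nat_lit 3, nat_lit 5, nat_lit 2, nat_lit 2, nat_lit 4, nat_lit 1, nat_lit 0, nat_lit 3, nat_lit 0, nat_lit 1])) (.node (nat_lit 2166) (.leaf ((nat_lit 1278), [nat_lit 0, nat_lit 1, nat_lit 5, nat_lit 2, nat_lit 0, nat_lit 3, nat_lit 2, nat_lit 3, nat_lit 2, nat_lit 0])) (.leaf ((nat_lit 401), [nat_lit 1, nat_lit 4, nat_lit 5, nat_lit 1, nat_lit 5, nat_lit 2, nat_lit 0, nat_lit 1, nat_lit 0, nat_lit 3, nat_lit 0, nat_lit 2, nat_lit 0, nat_lit 1, nat_lit 0, nat_lit 1, nat_lit 0]))))))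
 (.node (nat_lit 2172) (.node (nat_lit 2169) (.node (nat_lit 2168) (.leaf ((nat_lit 863), [nat_lit 4, nat_lit 3, nat_lit 2, nat_lit 5, nat_lit 3, nat_lit 0, nat_lit 3, nat_lit 1, nat_lit 0, nat_lit 1, nat_lit 0, nat_lit 2, nat_lit 0, nat_lit 2])) (.leaf ((nat_lit 1341), [nat_lit 4, nat_lit 5, nat_lit 2, nat_lit 0, nat_lit 5, nat_lit 3, nat_lit 1, nat_lit 4, nat_lit 2, nat_lit 4, nat_lit 3, nat_lit 0, nat_lit 2, nat_lit 2, nat_lit 0, nat_lit 2, nat_lit 0, nat_lit 1]))) (.node (nat_lit 2170) (.leaf ((nat_lit 601), [nat_lit 2, nat_lit 4, nat_lit 5, nat_lit 2, nat_lit 0, nat_lit 5, nat_lit 3, nat_lit 4, nat_lit 0, nat_lit 4, nat_lit 3, nat_lit 1, nat_lit 0, nat_lit 2, nat_lit 0, nat_lit 2, nat_lit 0])) (.node (nat_lit 2171) (.leaf ((nat_lit 1342), [nat_lit 5, nat_lit 2, nat_lit 3, nat_lit 0, nat_lit 5, nat_lit 4, nat_lit 1, nat_lit 4, nat_lit 3, nat_lit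 0, nat_lit 1, nat_lit 0, nat_lit 1, nat_lit 0, nat_lit 2])) (.leaf ((nat_lit 936), [nat_lit 1, nat_lit 3, nat_lit 2, nat_lit 5, nat_lit 2, nat_lit 3, nat_lit 1, nat_lit 3, nat_lit 0, nat_lit 3, nat_lit 0, nat_lit 2, nat_lit 2])))))
 (.node (nat_lit 2175) (.node (nat_lit 2173) (.leaf ((nat_lit 146), [nat_lit 3, nat_lit 0, nat_lit 2, nat_lit 5, nat_lit 0, nat_lit 4, nat_lit 0, nat_lit 1, nat_lit 0, nat_lit 3, nat_lit 0, nat_lit 1, nat_lit 0, nat_lit 2, nat_lit 2, nat_lit 0, nat_lit 2])) (.node (nat_lit 2174) (.leaf ((nat_lit 766), [nat_lit 0, nat_lit 2, nat_lit 4, nat_lit 0, nat_lit 5, nat_lit 4, nat_lit 3, nat_lit 0, nat_lit 2, nat_lit 3, nat_lit 2, nat_lit 2, nat_lit 0, nat_lit 2, nat_lit 2, nat_lit 0, nat_lit 2, nat_lit 2])) (.leaf ((nat_lit 1343), [nat_lit 5, nat_lit 4, nat_lit 5, nat_lit 2, nat_lit 5, nat_lit 4, nat_lit 3, nat_lit 2, nat_lit 4,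 nat_lit 2, nat_lit 3, nat_lit 2, nat_lit 2, nat_lit 0, nat_lit 2, nat_lit 0, nat_lit 1, nat_lit 0])))) (.node (nat_lit 2176) (.leaf ((nat_lit 1344), [nat_lit 0, nat_lit 5, nat_lit 2, nat_lit 3, nat_lit 5, nat_lit 4, nat_lit 2, nat_lit 0, nat_lit 4, nat_lit 3, nat_lit 2, nat_lit 2, nat_lit 0, nat_lit 2, nat_lit 0, nat_lit 1])) (.node (nat_lit 2177) (.leaf ((nat_lit 343), [nat_lit 3, nat_lit 1, nat_lit 5, nat_lit 2, nat_lit 5, nat_lit 4, nat_lit 0, nat_lit 3, nat_lit 1, nat_lit 3, nat_lit 0, nat_lit 1, nat_lit 0, nat_lit 1, nat_lit 0, nat_lit 2, nat_lit 0])) (.leaf ((nat_lit 314), [nat_lit 5, nat_lit 4, nat_lit 3, nat_lit 2, nat_lit 5, nat_lit 4, nat_lit 3, nat_lit 2, nat_lit 4, nat_lit 3, nat_lit 2, nat_lit 2, nat_lit 0, nat_lit 2, nat_lit 0, nat_lit 1])))))))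
 (.node (nat_lit 2189) (.node (nat_lit 2183) (.node (nat_lit 2180) (.node (nat_lit 2179) (.leaf ((nat_lit 1150), [nat_lit 4, nat_lit 1, nat_lit 5, nat_lit 0, nat_lit 5, nat_lit 4, nat_lit 2, nat_lit 0, nat_lit 4, nat_lit 3, nat_lit 0, nat_lit 2, nat_lit 0, nat_lit 2])) (.leaf ((nat_lit 1345), [nat_lit 5, nat_lit 1, nat_lit 5, nat_lit 4, nat_lit 0, nat_lit 2, nat_lit 4, nat_lit 0, nat_lit 2, nat_lit 0, nat_lit 2, nat_lit 2, nat_lit 0, nat_lit 1]))) (.node (nat_lit 2181) (.leaf ((nat_lit 1346), [nat_lit 3, nat_lit 5, nat_lit 0, nat_lit 3, nat_lit 5, nat_lit 3, nat_lit 0, nat_lit 3, nat_lit 0, nat_lit 4, nat_lit 0, nat_lit 1])) (.node (nat_lit 2182) (.leaf ((nat_lit 1347), [nat_lit 2, nat_lit 5, nat_lit 0, nat_lit 1, nat_lit 5, nat_lit 4, nat_lit 2, nat_lit 0, nat_lit 1, nat_lit 0, nat_lit 3, nat_lit 0, nat_lit 1, nat_lit 0, nat_lit 2, nat_lit 2, nat_lit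 0, nat_lit 2])) (.leaf ((nat_lit 403), [nat_lit 0, nat_lit 5, nat_lit 2, nat_lit 5, nat_lit 1, nat_lit 3, nat_lit 0, nat_lit 2, nat_lit 4, nat_lit 1, nat_lit 0, nat_lit 1])))))
 (.node (nat_lit 2186) (.node (nat_lit 2184) (.leaf ((nat_lit 414), [nat_lit 2, nat_lit 0, nat_lit 1, nat_lit 5, nat_lit 2, nat_lit 4, nat_lit 2, nat_lit 3, nat_lit 4, nat_lit 2, nat_lit 0, nat_lit 1, nat_lit 0, nat_lit 1])) (.node (nat_lit 2185) (.leaf ((nat_lit 802), [nat_lit 5, nat_lit 2, nat_lit 3, nat_lit 0, nat_lit 5, nat_lit 0, nat_lit 2, nat_lit 4, nat_lit 1, nat_lit 0, nat_lit 2, nat_lit 2, nat_lit 0, nat_lit 1])) (.leaf ((nat_lit 662), [nat_lit 5, nat_lit 4, nat_lit 3, nat_lit 5, nat_lit 2, nat_lit 5, nat_lit 4, nat_lit 3, nat_lit 2, nat_lit 3, nat_lit 0, nat_lit 3, nat_lit 0, nat_lit 1, nat_lit 0, nat_lit 2, nat_lit 2, nat_lit 0, nat_lit 1, nat_lit 0])))) (.node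 (nat_lit 2187) (.leaf ((nat_lit 1178), [nat_lit 3, nat_lit 2, nat_lit 5, nat_lit 0, nat_lit 5, nat_lit 2, nat_lit 2, nat_lit 3, nat_lit 2, nat_lit 2, nat_lit 0, nat_lit 1, nat_lit 0, nat_lit 2])) (.node (nat_lit 2188) (.leaf ((nat_lit 1061), [nat_lit 3, nat_lit 1, nat_lit 3, nat_lit 0, nat_lit 5, nat_lit 2, nat_lit 4, nat_lit 2, nat_lit 3, nat_lit 2, nat_lit 3, nat_lit 0, nat_lit 2, nat_lit 0, nat_lit 1, nat_lit 0, nat_lit 1, nat_lit 0])) (.leaf ((nat_lit 1348), [nat_lit 2, nat_lit 4, nat_lit 2, nat_lit 0, nat_lit 5, nat_lit 0, nat_lit 4, nat_lit 1, nat_lit 4, nat_lit 0, nat_lit 1]))))))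
 (.node (nat_lit 2194) (.node (nat_lit 2191) (.node (nat_lit 2190) (.leaf ((nat_lit 428), [nat_lit 4, nat_lit 0, nat_lit 5, nat_lit 2, nat_lit 5, nat_lit 4, nat_lit 1, nat_lit 3, nat_lit 0, nat_lit 3, nat_lit 2, nat_lit 0, nat_lit 1, nat_lit 0, nat_lit 1, nat_lit 0, nat_lit 2])) (.leaf ((nat_lit 1210), [nat_lit 5, nat_lit 0, nat_lit 1, nat_lit 5, nat_lit 0, nat_lit 3, nat_lit 1, nat_lit 3, nat_lit 4, nat_lit 0, nat_lit 1, nat_lit 0, nat_lit 1, nat_lit 0]))) (.node (nat_lit 2192) (.leaf ((nat_lit 1198), [nat_lit 2, nat_lit 4, nat_lit 0, nat_lit 5, nat_lit 2, nat_lit 4, nat_lit 3, nat_lit 2, nat_lit 3, nat_lit 0, nat_lit 1, nat_lit 0, nat_lit 2, nat_lit 2, nat_lit 0, nat_lit 1])) (.node (nat_lit 2193) (.leaf ((nat_lit 128), [nat_lit 4, nat_lit 1, nat_lit 5, nat_lit 3, nat_lit 5, nat_lit 4, nat_lit 3, nat_lit 0, nat_lit 2, nat_lit 4, nat_lit 0, nat_lit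 1, nat_lit 0, nat_lit 2, nat_lit 2, nat_lit 0, nat_lit 1])) (.leaf ((nat_lit 934), [nat_lit 2, nat_lit 0, nat_lit 5, nat_lit 3, nat_lit 1, nat_lit 4, nat_lit 3, nat_lit 2, nat_lit 0, nat_lit 3, nat_lit 2, nat_lit 0, nat_lit 1, nat_lit 0, nat_lit 1, nat_lit 0, nat_lit 2])))))
 (.node (nat_lit 2197) (.node (nat_lit 2195) (.leaf ((nat_lit 197), [nat_lit 4, nat_lit 5, nat_lit 3, nat_lit 0, nat_lit 5, nat_lit 2, nat_lit 4, nat_lit 0, nat_lit 3, nat_lit 4, nat_lit 0, nat_lit 2, nat_lit 2, nat_lit 0, nat_lit 2, nat_lit 0])) (.node (nat_lit 2196) (.leaf ((nat_lit 1045), [nat_lit 2, nat_lit 3, nat_lit 0, nat_lit 5, nat_lit 2, nat_lit 4, nat_lit 2, nat_lit 2, nat_lit 4, nat_lit 3, nat_lit 2, nat_lit 0, nat_lit 1, nat_lit 0, nat_lit 2, nat_lit 0])) (.leaf ((nat_lit 1349), [nat_lit 0, nat_lit 3, nat_lit 5, nat_lit 2, nat_lit 4, nat_lit 2, nat_lit 3, nat_lit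 4, nat_lit 1, nat_lit 0, nat_lit 2, nat_lit 2, nat_lit 0])))) (.node (nat_lit 2198) (.leaf ((nat_lit 830), [nat_lit 4, nat_lit 2, nat_lit 5, nat_lit 3, nat_lit 5, nat_lit 3, nat_lit 2, nat_lit 0, nat_lit 3, nat_lit 2, nat_lit 2, nat_lit 0, nat_lit 1, nat_lit 0, nat_lit 2, nat_lit 2, nat_lit 0])) (.node (nat_lit 2199) (.leaf ((nat_lit 1301), [nat_lit 3, nat_lit 4, nat_lit 5, nat_lit 2, nat_lit 5, nat_lit 2, nat_lit 3, nat_lit 4, nat_lit 3, nat_lit 2, nat_lit 3, nat_lit 0, nat_lit 1, nat_lit 0, nat_lit 2, nat_lit 0])) (.leaf ((nat_lit 1336), [nat_lit 5, nat_lit 2, nat_lit 0, nat_lit 5, nat_lit 4, nat_lit 3, nat_lit 1, nat_lit 3, nat_lit 1, nat_lit 3, nat_lit 0, nat_lit 1])))))))))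
 (.node (nat_lit 2244) (.node (nat_lit 2222) (.node (nat_lit 2211) (.node (nat_lit 2205) (.node (nat_lit 2202) (.node (nat_lit 2201) (.leaf ((nat_lit 1350), [nat_lit 5, nat_lit 4, nat_lit 5, nat_lit 0, nat_lit 1, nat_lit 3, nat_lit 1, nat_lit 3, nat_lit 2, nat_lit 0, nat_lit 2, nat_lit 2, nat_lit 0, nat_lit 2, nat_lit 2])) (.leaf ((nat_lit 696), [nat_lit 5, nat_lit 4, nat_lit 3, nat_lit 5, nat_lit 2, nat_lit 5, nat_lit 0, nat_lit 4, nat_lit 0, nat_lit 1, nat_lit 0, nat_lit 3, nat_lit 2, nat_lit 0, nat_lit 1, nat_lit 0, nat_lit 1, nat_lit 0]))) (.node (nat_lit 2203) (.leaf ((nat_lit 1204), [nat_lit 4, nat_lit 5, nat_lit 2, nat_lit 5, nat_lit 3, nat_lit 2, nat_lit 2, nat_lit 0, nat_lit 4, nat_lit 2, nat_lit 2, nat_lit 0, nat_lit 1, nat_lit 0, nat_lit 2, nat_lit 0])) (.node (nat_lit 2204) (.leaf ((nat_lit 783), [nat_lit 5, nat_lit 4, nat_lit 2, nat_lit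 0, nat_lit 3, nat_lit 0, nat_lit 1])) (.leaf ((nat_lit 1096), [nat_lit 2, nat_lit 5, nat_lit 4, nat_lit 5, nat_lit 1, nat_lit 3, nat_lit 4, nat_lit 3, nat_lit 1, nat_lit 3, nat_lit 0, nat_lit 1, nat_lit 0, nat_lit 2, nat_lit 0, nat_lit 2, nat_lit 2, nat_lit 0])))))
 (.node (nat_lit 2208) (.node (nat_lit 2206) (.leaf ((nat_lit 1351), [nat_lit 0, nat_lit 5, nat_lit 0, nat_lit 1, nat_lit 5, nat_lit 3, nat_lit 2, nat_lit 2, nat_lit 4, nat_lit 3, nat_lit 1, nat_lit 0])) (.node (nat_lit 2207) (.leaf ((nat_lit 1166), [nat_lit 3, nat_lit 5, nat_lit 1, nat_lit 3, nat_lit 2, nat_lit 5, nat_lit 4, nat_lit 3, nat_lit 0, nat_lit 4, nat_lit 2, nat_lit 0, nat_lit 2, nat_lit 2])) (.leaf ((nat_lit 1352), [nat_lit 4, nat_lit 3, nat_lit 0, nat_lit 5, nat_lit 4, nat_lit 2, nat_lit 4, nat_lit 1, nat_lit 0, nat_lit 2, nat_lit 0, nat_lit 2, nat_lit 0])))) (.node (nat_lit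 2209) (.leaf ((nat_lit 1353), [nat_lit 1, nat_lit 4, nat_lit 2, nat_lit 5, nat_lit 4, nat_lit 1, nat_lit 4, nat_lit 3, nat_lit 2, nat_lit 0, nat_lit 2, nat_lit 0, nat_lit 1, nat_lit 0])) (.node (nat_lit 2210) (.leaf ((nat_lit 1220), [nat_lit 3, nat_lit 1, nat_lit 5, nat_lit 2, nat_lit 5, nat_lit 1, nat_lit 3, nat_lit 4, nat_lit 2, nat_lit 0, nat_lit 2, nat_lit 2, nat_lit 0, nat_lit 2])) (.leaf ((nat_lit 1230), [nat_lit 3, nat_lit 5, nat_lit 2, nat_lit 3, nat_lit 0, nat_lit 5, nat_lit 3, nat_lit 4, nat_lit 1, nat_lit 3, nat_lit 2, nat_lit 0, nat_lit 2, nat_lit 2, nat_lit 0]))))))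
 (.node (nat_lit 2216) (.node (nat_lit 2213) (.node (nat_lit 2212) (.leaf ((nat_lit 453), [nat_lit 5, nat_lit 4, nat_lit 5, nat_lit 3, nat_lit 5, nat_lit 3, nat_lit 1, nat_lit 4, nat_lit 3, nat_lit 2, nat_lit 0, nat_lit 3, nat_lit 2, nat_lit 2, nat_lit 0, nat_lit 2, nat_lit 2, nat_lit 0, nat_lit 2, nat_lit 0])) (.leaf ((nat_lit 1354), [nat_lit 4, nat_lit 1, nat_lit 5, nat_lit 3, nat_lit 5, nat_lit 4, nat_lit 0, nat_lit 1, nat_lit 0, nat_lit 3, nat_lit 0, nat_lit 1, nat_lit 0, nat_lit 1, nat_lit 0]))) (.node (nat_lit 2214) (.leaf ((nat_lit 1308), [nat_lit 2, nat_lit 0, nat_lit 2, nat_lit 5, nat_lit 4, nat_lit 1, nat_lit 4, nat_lit 2, nat_lit 4, nat_lit 3, nat_lit 1, nat_lit 0, nat_lit 2, nat_lit 0, nat_lit 2])) (.node (nat_lit 2215) (.leaf ((nat_lit 642), [nat_lit 5, nat_lit 0, nat_lit 3, nat_lit 5, nat_lit 3, nat_lit 2, nat_lit 3, nat_lit 1, nat_lit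 0, nat_lit 1, nat_lit 0])) (.leaf ((nat_lit 1355), [nat_lit 5, nat_lit 4, nat_lit 5, nat_lit 4, nat_lit 1, nat_lit 0, nat_lit 3, nat_lit 1, nat_lit 4, nat_lit 1, nat_lit 0, nat_lit 2, nat_lit 0])))))
 (.node (nat_lit 2219) (.node (nat_lit 2217) (.leaf ((nat_lit 1356), [nat_lit 4, nat_lit 5, nat_lit 2, nat_lit 5, nat_lit 1, nat_lit 0, nat_lit 2, nat_lit 3, nat_lit 2, nat_lit 0, nat_lit 2, nat_lit 0, nat_lit 1, nat_lit 0, nat_lit 1])) (.node (nat_lit 2218) (.leaf ((nat_lit 1314), [nat_lit 1, nat_lit 5, nat_lit 0, nat_lit 5, nat_lit 3, nat_lit 0, nat_lit 3, nat_lit 1, nat_lit 4, nat_lit 2, nat_lit 2, nat_lit 0, nat_lit 2, nat_lit 2, nat_lit 0])) (.leaf ((nat_lit 526), [nat_lit 4, nat_lit 1, nat_lit 0, nat_lit 5, nat_lit 2, nat_lit 0, nat_lit 3, nat_lit 1, nat_lit 3, nat_lit 0, nat_lit 1, nat_lit 0, nat_lit 2, nat_lit 2, nat_lit 0])))) (.node (nat_lit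 2220) (.leaf ((nat_lit 1346), [nat_lit 4, nat_lit 5, nat_lit 0, nat_lit 4, nat_lit 1, nat_lit 3, nat_lit 1, nat_lit 3, nat_lit 2, nat_lit 0])) (.node (nat_lit 2221) (.leaf ((nat_lit 1015), [nat_lit 2, nat_lit 0, nat_lit 2, nat_lit 5, nat_lit 4, nat_lit 1, nat_lit 0, nat_lit 1, nat_lit 0, nat_lit 3, nat_lit 1, nat_lit 0, nat_lit 1, nat_lit 0, nat_lit 2])) (.leaf ((nat_lit 1171), [nat_lit 2, nat_lit 0, nat_lit 1, nat_lit 5, nat_lit 0, nat_lit 1, nat_lit 3, nat_lit 4, nat_lit 2, nat_lit 3, nat_lit 0, nat_lit 1, nat_lit 0, nat_lit 2, nat_lit 0, nat_lit 2, nat_lit 2])))))))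
 (.node (nat_lit 2233) (.node (nat_lit 2227) (.node (nat_lit 2224) (.node (nat_lit 2223) (.leaf ((nat_lit 214), [nat_lit 0, nat_lit 5, nat_lit 3, nat_lit 5, nat_lit 3, nat_lit 0, nat_lit 3, nat_lit 0, nat_lit 1, nat_lit 0, nat_lit 2, nat_lit 0, nat_lit 2])) (.leaf ((nat_lit 1053), [nat_lit 3, nat_lit 4, nat_lit 5, nat_lit 2, nat_lit 5, nat_lit 2, nat_lit 3, nat_lit 4, nat_lit 3, nat_lit 0, nat_lit 3, nat_lit 2, nat_lit 0, nat_lit 2, nat_lit 2, nat_lit 0, nat_lit 2, nat_lit 2]))) (.node (nat_lit 2225) (.leaf ((nat_lit 681), [nat_lit 1, nat_lit 5, nat_lit 3, nat_lit 5, nat_lit 2, nat_lit 3, nat_lit 2, nat_lit 4, nat_lit 3, nat_lit 0, nat_lit 1, nat_lit 0, nat_lit 1, nat_lit 0])) (.node (nat_lit 2226) (.leaf ((nat_lit 664), [nat_lit 1, nat_lit 5, nat_lit 1, nat_lit 5, nat_lit 2, nat_lit 4, nat_lit 1, nat_lit 0, nat_lit 2, nat_lit 3, nat_lit 1, nat_lit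 0, nat_lit 2, nat_lit 2, nat_lit 0, nat_lit 2, nat_lit 2])) (.leaf ((nat_lit 1258), [nat_lit 5, nat_lit 4, nat_lit 3, nat_lit 2, nat_lit 5, nat_lit 2, nat_lit 0, nat_lit 2, nat_lit 4, nat_lit 3, nat_lit 0, nat_lit 1, nat_lit 0, nat_lit 1, nat_lit 0, nat_lit 2, nat_lit 0])))))
 (.node (nat_lit 2230) (.node (nat_lit 2228) (.leaf ((nat_lit 756), [nat_lit 1, nat_lit 5, nat_lit 3, nat_lit 2, nat_lit 0, nat_lit 1, nat_lit 0, nat_lit 1, nat_lit 0, nat_lit 2, nat_lit 0])) (.node (nat_lit 2229) (.leaf ((nat_lit 1357), [nat_lit 3, nat_lit 5, nat_lit 3, nat_lit 0, nat_lit 5, nat_lit 1, nat_lit 0, nat_lit 1, nat_lit 4, nat_lit 3, nat_lit 2, nat_lit 0, nat_lit 2, nat_lit 0, nat_lit 1, nat_lit 0, nat_lit 1, nat_lit 0])) (.leaf ((nat_lit 845), [nat_lit 5, nat_lit 4, nat_lit 5, nat_lit 3, nat_lit 5, nat_lit 1, nat_lit 0, nat_lit 4, nat_lit 1, nat_lit 3, nat_lit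 0, nat_lit 1, nat_lit 0, nat_lit 2, nat_lit 2, nat_lit 0])))) (.node (nat_lit 2231) (.leaf ((nat_lit 772), [nat_lit 4, nat_lit 0, nat_lit 5, nat_lit 3, nat_lit 4, nat_lit 1, nat_lit 0, nat_lit 3, nat_lit 0, nat_lit 1, nat_lit 0, nat_lit 2, nat_lit 2])) (.node (nat_lit 2232) (.leaf ((nat_lit 649), [nat_lit 4, nat_lit 3, nat_lit 2, nat_lit 5, nat_lit 3, nat_lit 2, nat_lit 0, nat_lit 4, nat_lit 3, nat_lit 2, nat_lit 0, nat_lit 1, nat_lit 0, nat_lit 1, nat_lit 0, nat_lit 2, nat_lit 0])) (.leaf ((nat_lit 1039), [nat_lit 3, nat_lit 5, nat_lit 2, nat_lit 3, nat_lit 0, nat_lit 5, nat_lit 4, nat_lit 3, nat_lit 1, nat_lit 4, nat_lit 1, nat_lit 3, nat_lit 1, nat_lit 0, nat_lit 1, nat_lit 0, nat_lit 2, nat_lit 0, nat_lit 2, nat_lit 0]))))))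
 (.node (nat_lit 2238) (.node (nat_lit 2235) (.node (nat_lit 2234) (.leaf ((nat_lit 1340), [nat_lit 0, nat_lit 5, nat_lit 2, nat_lit 2, nat_lit 4, nat_lit 0, nat_lit 4, nat_lit 0, nat_lit 2, nat_lit 2, nat_lit 0, nat_lit 2, nat_lit 2, nat_lit 0])) (.leaf ((nat_lit 1022), [nat_lit 5, nat_lit 0, nat_lit 5, nat_lit 0, nat_lit 2, nat_lit 0, nat_lit 4, nat_lit 1, nat_lit 4, nat_lit 0, nat_lit 1, nat_lit 0, nat_lit 2, nat_lit 2, nat_lit 0, nat_lit 2, nat_lit 0]))) (.node (nat_lit 2236) (.leaf ((nat_lit 1115), [nat_lit 4, nat_lit 5, nat_lit 3, nat_lit 0, nat_lit 5, nat_lit 1, nat_lit 3, nat_lit 1, nat_lit 3, nat_lit 0, nat_lit 3, nat_lit 0, nat_lit 2, nat_lit 2, nat_lit 0])) (.node (nat_lit 2237) (.leaf ((nat_lit 533), [nat_lit 4, nat_lit 5, nat_lit 4, nat_lit 0, nat_lit 5, nat_lit 1, nat_lit 0, nat_lit 1, nat_lit 0, nat_lit 3, nat_lit 1, nat_lit 0, nat_lit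 1, nat_lit 0])) (.leaf ((nat_lit 1162), [nat_lit 0, nat_lit 5, nat_lit 3, nat_lit 0, nat_lit 5, nat_lit 2, nat_lit 0, nat_lit 3, nat_lit 0, nat_lit 4, nat_lit 0, nat_lit 1, nat_lit 0, nat_lit 2, nat_lit 2, nat_lit 0, nat_lit 2])))))
 (.node (nat_lit 2241) (.node (nat_lit 2239) (.leaf ((nat_lit 1026), [nat_lit 4, nat_lit 0, nat_lit 5, nat_lit 3, nat_lit 2, nat_lit 2, nat_lit 0, nat_lit 4, nat_lit 2, nat_lit 0, nat_lit 2, nat_lit 2, nat_lit 0, nat_lit 2])) (.node (nat_lit 2240) (.leaf ((nat_lit 451), [nat_lit 5, nat_lit 4, nat_lit 5, nat_lit 2, nat_lit 5, nat_lit 1, nat_lit 4, nat_lit 0, nat_lit 3, nat_lit 2, nat_lit 3, nat_lit 2, nat_lit 2, nat_lit 0, nat_lit 2, nat_lit 0, nat_lit 1])) (.leaf ((nat_lit 150), [nat_lit 2, nat_lit 3, nat_lit 5, nat_lit 2, nat_lit 4, nat_lit 1, nat_lit 0, nat_lit 1, nat_lit 0, nat_lit 3, nat_lit 0, nat_lit 2, nat_lit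 0, nat_lit 1, nat_lit 0])))) (.node (nat_lit 2242) (.leaf ((nat_lit 320), [nat_lit 2, nat_lit 5, nat_lit 2, nat_lit 3, nat_lit 5, nat_lit 3, nat_lit 0, nat_lit 1, nat_lit 3, nat_lit 4, nat_lit 2, nat_lit 3, nat_lit 1, nat_lit 0, nat_lit 2, nat_lit 0, nat_lit 2, nat_lit 2, nat_lit 0])) (.node (nat_lit 2243) (.leaf ((nat_lit 1358), [nat_lit 0, nat_lit 5, nat_lit 3, nat_lit 5, nat_lit 2, nat_lit 0, nat_lit 4, nat_lit 1, nat_lit 4, nat_lit 1, nat_lit 0, nat_lit 2, nat_lit 2, nat_lit 0, nat_lit 1, nat_lit 0])) (.leaf ((nat_lit 1267), [nat_lit 0, nat_lit 5, nat_lit 3, nat_lit 5, nat_lit 3, nat_lit 0, nat_lit 4, nat_lit 1, nat_lit 3, nat_lit 0, nat_lit 2, nat_lit 2, nat_lit 0, nat_lit 1, nat_lit 0, nat_lit 2]))))))))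
 (.node (nat_lit 2266) (.node (nat_lit 2255) (.node (nat_lit 2249) (.node (nat_lit 2246) (.node (nat_lit 2245) (.leaf ((nat_lit 1052), [nat_lit 1, nat_lit 5, nat_lit 3, nat_lit 0, nat_lit 4, nat_lit 1, nat_lit 0, nat_lit 3, nat_lit 2, nat_lit 2, nat_lit 0, nat_lit 2, nat_lit 2, nat_lit 0])) (.leaf ((nat_lit 1302), [nat_lit 5, nat_lit 3, nat_lit 2, nat_lit 0, nat_lit 5, nat_lit 0, nat_lit 3, nat_lit 0, nat_lit 2, nat_lit 3, nat_lit 0, nat_lit 1, nat_lit 0, nat_lit 2, nat_lit 2, nat_lit 0]))) (.node (nat_lit 2247) (.leaf ((nat_lit 721), [nat_lit 4, nat_lit 5, nat_lit 3, nat_lit 0, nat_lit 5, nat_lit 2, nat_lit 0, nat_lit 1, nat_lit 4, nat_lit 3, nat_lit 2, nat_lit 0, nat_lit 2, nat_lit 0, nat_lit 1, nat_lit 0, nat_lit 1, nat_lit 0])) (.node (nat_lit 2248) (.leaf ((nat_lit 1359), [nat_lit 4, nat_lit 0, nat_lit 5, nat_lit 3, nat_lit 0, nat_lit 4, nat_lit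 1, nat_lit 4, nat_lit 2, nat_lit 0, nat_lit 1, nat_lit 0, nat_lit 1, nat_lit 0, nat_lit 2, nat_lit 0])) (.leaf ((nat_lit 1327), [nat_lit 5, nat_lit 0, nat_lit 4, nat_lit 5, nat_lit 3, nat_lit 0, nat_lit 1, nat_lit 3, nat_lit 4, nat_lit 2, nat_lit 3, nat_lit 0, nat_lit 2, nat_lit 2])))))
 (.node (nat_lit 2252) (.node (nat_lit 2250) (.leaf ((nat_lit 300), [nat_lit 2, nat_lit 0, nat_lit 1, nat_lit 5, nat_lit 2, nat_lit 3, nat_lit 4, nat_lit 0, nat_lit 1, nat_lit 0, nat_lit 1])) (.node (nat_lit 2251) (.leaf ((nat_lit 1177), [nat_lit 5, nat_lit 0, nat_lit 5, nat_lit 0, nat_lit 1, nat_lit 4, nat_lit 1, nat_lit 0, nat_lit 3, nat_lit 0, nat_lit 2, nat_lit 0, nat_lit 2, nat_lit 0])) (.leaf ((nat_lit 1274), [nat_lit 4, nat_lit 2, nat_lit 5, nat_lit 3, nat_lit 5, nat_lit 3, nat_lit 4, nat_lit 3, nat_lit 0, nat_lit 3, nat_lit 0, nat_lit 1, nat_lit 0, nat_lit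 2, nat_lit 0, nat_lit 2, nat_lit 2])))) (.node (nat_lit 2253) (.leaf ((nat_lit 632), [nat_lit 2, nat_lit 5, nat_lit 0, nat_lit 1, nat_lit 5, nat_lit 3, nat_lit 0, nat_lit 3, nat_lit 2, nat_lit 4, nat_lit 0, nat_lit 1, nat_lit 0, nat_lit 2, nat_lit 2, nat_lit 0, nat_lit 1, nat_lit 0])) (.node (nat_lit 2254) (.leaf ((nat_lit 985), [nat_lit 5, nat_lit 2, nat_lit 4, nat_lit 0, nat_lit 5, nat_lit 3, nat_lit 4, nat_lit 2, nat_lit 4, nat_lit 2, nat_lit 3, nat_lit 1, nat_lit 0, nat_lit 2, nat_lit 0, nat_lit 1])) (.leaf ((nat_lit 1042), [nat_lit 1, nat_lit 4, nat_lit 2, nat_lit 5, nat_lit 3, nat_lit 2, nat_lit 0, nat_lit 2, nat_lit 2, nat_lit 3, nat_lit 0, nat_lit 1, nat_lit 0, nat_lit 1, nat_lit 0, nat_lit 2, nat_lit 0]))))))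
 (.node (nat_lit 2260) (.node (nat_lit 2257) (.node (nat_lit 2256) (.leaf ((nat_lit 1097), [nat_lit 0, nat_lit 1, nat_lit 5, nat_lit 2, nat_lit 2, nat_lit 3, nat_lit 4, nat_lit 3, nat_lit 2, nat_lit 2, nat_lit 0])) (.leaf ((nat_lit 578), [nat_lit 4, nat_lit 3, nat_lit 5, nat_lit 2, nat_lit 5, nat_lit 4, nat_lit 0, nat_lit 3, nat_lit 4, nat_lit 0, nat_lit 1, nat_lit 0, nat_lit 1, nat_lit 0, nat_lit 2]))) (.node (nat_lit 2258) (.leaf ((nat_lit 1114), [nat_lit 4, nat_lit 5, nat_lit 3, nat_lit 2, nat_lit 5, nat_lit 0, nat_lit 2, nat_lit 4, nat_lit 2, nat_lit 2, nat_lit 0, nat_lit 2, nat_lit 2, nat_lit 0, nat_lit 2])) (.node (nat_lit 2259) (.leaf ((nat_lit 1360), [nat_lit 3, nat_lit 0, nat_lit 5, nat_lit 3, nat_lit 5, nat_lit 2, nat_lit 3, nat_lit 4, nat_lit 1, nat_lit 0, nat_lit 3, nat_lit 2, nat_lit 0, nat_lit 1, nat_lit 0, nat_lit 1, nat_lit 0, nat_lit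 2])) (.leaf ((nat_lit 1118), [nat_lit 4, nat_lit 3, nat_lit 0, nat_lit 5, nat_lit 3, nat_lit 1, nat_lit 0, nat_lit 4, nat_lit 1, nat_lit 3, nat_lit 0, nat_lit 2, nat_lit 0, nat_lit 2, nat_lit 2, nat_lit 0])))))
 (.node (nat_lit 2263) (.node (nat_lit 2261) (.leaf ((nat_lit 834), [nat_lit 2, nat_lit 4, nat_lit 5, nat_lit 2, nat_lit 0, nat_lit 5, nat_lit 0, nat_lit 4, nat_lit 2, nat_lit 3, nat_lit 4, nat_lit 0, nat_lit 1, nat_lit 0, nat_lit 2, nat_lit 2, nat_lit 0, nat_lit 2, nat_lit 0])) (.node (nat_lit 2262) (.leaf ((nat_lit 296), [nat_lit 5, nat_lit 1, nat_lit 3, nat_lit 2, nat_lit 5, nat_lit 2, nat_lit 0, nat_lit 3, nat_lit 1, nat_lit 3, nat_lit 2, nat_lit 2, nat_lit 0, nat_lit 2, nat_lit 2, nat_lit 0, nat_lit 1])) (.leaf ((nat_lit 1021), [nat_lit 4, nat_lit 3, nat_lit 0, nat_lit 5, nat_lit 3, nat_lit 0, nat_lit 3, nat_lit 0, nat_lit 2, nat_lit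 4, nat_lit 1, nat_lit 0, nat_lit 2, nat_lit 0, nat_lit 2, nat_lit 0])))) (.node (nat_lit 2264) (.leaf ((nat_lit 1187), [nat_lit 5, nat_lit 0, nat_lit 1, nat_lit 0, nat_lit 3, nat_lit 2, nat_lit 3, nat_lit 0, nat_lit 2, nat_lit 2, nat_lit 0])) (.node (nat_lit 2265) (.leaf ((nat_lit 156), [nat_lit 5, nat_lit 2, nat_lit 2, nat_lit 0, nat_lit 5, nat_lit 4, nat_lit 0, nat_lit 4, nat_lit 2, nat_lit 0, nat_lit 3, nat_lit 0, nat_lit 2, nat_lit 0, nat_lit 2, nat_lit 2, nat_lit 0, nat_lit 2, nat_lit 0])) (.leaf ((nat_lit 764), [nat_lit 1, nat_lit 4, nat_lit 2, nat_lit 5, nat_lit 4, nat_lit 3, nat_lit 0, nat_lit 3, nat_lit 0, nat_lit 1, nat_lit 0, nat_lit 2, nat_lit 0, nat_lit 2])))))))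
 (.node (nat_lit 2277) (.node (nat_lit 2271) (.node (nat_lit 2268) (.node (nat_lit 2267) (.leaf ((nat_lit 1361), [nat_lit 5, nat_lit 0, nat_lit 3, nat_lit 5, nat_lit 2, nat_lit 4, nat_lit 2, nat_lit 0, nat_lit 3, nat_lit 2, nat_lit 0, nat_lit 2, nat_lit 2, nat_lit 0, nat_lit 2])) (.leaf ((nat_lit 525), [nat_lit 5, nat_lit 4, nat_lit 0, nat_lit 5, nat_lit 4, nat_lit 3, nat_lit 2, nat_lit 0, nat_lit 3, nat_lit 1, nat_lit 0, nat_lit 1]))) (.node (nat_lit 2269) (.leaf ((nat_lit 435), [nat_lit 2, nat_lit 0, nat_lit 5, nat_lit 0, nat_lit 4, nat_lit 0, nat_lit 4, nat_lit 1, nat_lit 0, nat_lit 2, nat_lit 2, nat_lit 0, nat_lit 1])) (.node (nat_lit 2270) (.leaf ((nat_lit 145), [nat_lit 1, nat_lit 5, nat_lit 2, nat_lit 5, nat_lit 3, nat_lit 2, nat_lit 0, nat_lit 4, nat_lit 1, nat_lit 4, nat_lit 2, nat_lit 2, nat_lit 0, nat_lit 2, nat_lit 2, nat_lit 0, nat_lit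 2, nat_lit 2, nat_lit 0])) (.leaf ((nat_lit 531), [nat_lit 2, nat_lit 5, nat_lit 3, nat_lit 5, nat_lit 0, nat_lit 4, nat_lit 0, nat_lit 4, nat_lit 1, nat_lit 3, nat_lit 2, nat_lit 0, nat_lit 2, nat_lit 0, nat_lit 1, nat_lit 0, nat_lit 1, nat_lit 0])))))
 (.node (nat_lit 2274) (.node (nat_lit 2272) (.leaf ((nat_lit 658), [nat_lit 2, nat_lit 4, nat_lit 5, nat_lit 2, nat_lit 0, nat_lit 5, nat_lit 4, nat_lit 2, nat_lit 0, nat_lit 2, nat_lit 3, nat_lit 2, nat_lit 2, nat_lit 0, nat_lit 1, nat_lit 0, nat_lit 2, nat_lit 2])) (.node (nat_lit 2273) (.leaf ((nat_lit 1362), [nat_lit 4, nat_lit 5, nat_lit 3, nat_lit 2, nat_lit 5, nat_lit 0, nat_lit 1, nat_lit 4, nat_lit 3, nat_lit 0, nat_lit 1, nat_lit 0, nat_lit 2, nat_lit 0, nat_lit 2, nat_lit 2, nat_lit 0])) (.leaf ((nat_lit 1261), [nat_lit 5, nat_lit 1, nat_lit 3, nat_lit 0, nat_lit 5, nat_lit 0, nat_lit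 3, nat_lit 2, nat_lit 0, nat_lit 3, nat_lit 1, nat_lit 0, nat_lit 2, nat_lit 2, nat_lit 0, nat_lit 2, nat_lit 2])))) (.node (nat_lit 2275) (.leaf ((nat_lit 1169), [nat_lit 5, nat_lit 2, nat_lit 3, nat_lit 0, nat_lit 5, nat_lit 0, nat_lit 4, nat_lit 1, nat_lit 3, nat_lit 2, nat_lit 2, nat_lit 0, nat_lit 2, nat_lit 0])) (.node (nat_lit 2276) (.leaf ((nat_lit 1363), [nat_lit 0, nat_lit 4, nat_lit 5, nat_lit 2, nat_lit 4, nat_lit 0, nat_lit 4, nat_lit 0, nat_lit 2, nat_lit 0, nat_lit 2, nat_lit 0])) (.leaf ((nat_lit 614), [nat_lit 4, nat_lit 5, nat_lit 2, nat_lit 3, nat_lit 5, nat_lit 2, nat_lit 4, nat_lit 2, nat_lit 3, nat_lit 4, nat_lit 2, nat_lit 2, nat_lit 0, nat_lit 2, nat_lit 2, nat_lit 0, nat_lit 2, nat_lit 2, nat_lit 0]))))))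
 (.node (nat_lit 2282) (.node (nat_lit 2279) (.node (nat_lit 2278) (.leaf ((nat_lit 1306), [nat_lit 4, nat_lit 1, nat_lit 0, nat_lit 5, nat_lit 1, nat_lit 0, nat_lit 2, nat_lit 4, nat_lit 1, nat_lit 0, nat_lit 1, nat_lit 0])) (.leaf ((nat_lit 1364), [nat_lit 5, nat_lit 0, nat_lit 1, nat_lit 5, nat_lit 0, nat_lit 4, nat_lit 0, nat_lit 1, nat_lit 0, nat_lit 3, nat_lit 0, nat_lit 2, nat_lit 2, nat_lit 0, nat_lit 2, nat_lit 2]))) (.node (nat_lit 2280) (.leaf ((nat_lit 966), [nat_lit 0, nat_lit 5, nat_lit 1, nat_lit 4, nat_lit 3, nat_lit 2, nat_lit 0, nat_lit 3, nat_lit 0, nat_lit 2, nat_lit 0])) (.node (nat_lit 2281) (.leaf ((nat_lit 1038), [nat_lit 0, nat_lit 5, nat_lit 3, nat_lit 5, nat_lit 2, nat_lit 2, nat_lit 0, nat_lit 3, nat_lit 0, nat_lit 4, nat_lit 2, nat_lit 0, nat_lit 1, nat_lit 0, nat_lit 2, nat_lit 2, nat_lit 0])) (.leaf ((nat_lit 1365),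 [nat_lit 2, nat_lit 0, nat_lit 1, nat_lit 5, nat_lit 3, nat_lit 0, nat_lit 2, nat_lit 4, nat_lit 1, nat_lit 0, nat_lit 2, nat_lit 0, nat_lit 2])))))
 (.node (nat_lit 2285) (.node (nat_lit 2283) (.leaf ((nat_lit 1325), [nat_lit 4, nat_lit 2, nat_lit 0, nat_lit 5, nat_lit 2, nat_lit 0, nat_lit 3, nat_lit 2, nat_lit 3, nat_lit 1, nat_lit 0, nat_lit 1, nat_lit 0, nat_lit 2, nat_lit 2, nat_lit 0])) (.node (nat_lit 2284) (.leaf ((nat_lit 843), [nat_lit 4, nat_lit 0, nat_lit 5, nat_lit 1, nat_lit 3, nat_lit 1, nat_lit 4, nat_lit 1, nat_lit 0, nat_lit 2, nat_lit 2, nat_lit 0, nat_lit 1, nat_lit 0])) (.leaf ((nat_lit 653), [nat_lit 3, nat_lit 0, nat_lit 5, nat_lit 3, nat_lit 5, nat_lit 4, nat_lit 0, nat_lit 3, nat_lit 0, nat_lit 2, nat_lit 3, nat_lit 0, nat_lit 1, nat_lit 0, nat_lit 2, nat_lit 0, nat_lit 2, nat_lit 2, nat_lit 0])))) (.node (nat_lit 2286)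 (.leaf ((nat_lit 896), [nat_lit 4, nat_lit 5, nat_lit 3, nat_lit 5, nat_lit 4, nat_lit 0, nat_lit 4, nat_lit 0, nat_lit 2, nat_lit 0, nat_lit 2, nat_lit 2, nat_lit 0, nat_lit 1])) (.node (nat_lit 2287) (.leaf ((nat_lit 321), [nat_lit 0, nat_lit 5, nat_lit 2, nat_lit 0, nat_lit 5, nat_lit 3, nat_lit 0, nat_lit 4, nat_lit 3, nat_lit 0, nat_lit 4, nat_lit 2, nat_lit 2, nat_lit 0, nat_lit 2, nat_lit 0, nat_lit 1, nat_lit 0])) (.leaf ((nat_lit 1349), [nat_lit 0, nat_lit 4, nat_lit 2, nat_lit 0, nat_lit 5, nat_lit 4, nat_lit 0, nat_lit 3, nat_lit 0, nat_lit 2, nat_lit 3, nat_lit 0, nat_lit 1, nat_lit 0, nat_lit 2]))))))))))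
noncomputable def pWd_13 : Tr (ℕ × List ℕ) := (.node (nat_lit 2376) (.node (nat_lit 2332) (.node (nat_lit 2310) (.node (nat_lit 2299) (.node (nat_lit 2293) (.node (nat_lit 2290) (.node (nat_lit 2289) (.leaf ((nat_lit 719), [nat_lit 5, nat_lit 3, nat_lit 5, nat_lit 1, nat_lit 0, nat_lit 3, nat_lit 4, nat_lit 0, nat_lit 3, nat_lit 2, nat_lit 0, nat_lit 2])) (.leaf ((nat_lit 165), [nat_lit 2, nat_lit 3, nat_lit 0, nat_lit 5, nat_lit 0, nat_lit 3, nat_lit 0, nat_lit 2, nat_lit 3, nat_lit 0, nat_lit 2, nat_lit 0, nat_lit 1]))) (.node (nat_lit 2291) (.leaf ((nat_lit 789), [nat_lit 0, nat_lit 5, nat_lit 3, nat_lit 5, nat_lit 3, nat_lit 0, nat_lit 3, nat_lit 1, nat_lit 4, nat_lit 2, nat_lit 2, nat_lit 0, nat_lit 1, nat_lit 0, nat_lit 2, nat_lit 2, nat_lit 0])) (.node (nat_lit 2292) (.leaf ((nat_lit 1366), [nat_lit 2, nat_lit 5, nat_lit 1, nat_lit 5, nat_lit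 2, nat_lit 3, nat_lit 4, nat_lit 2, nat_lit 4, nat_lit 0, nat_lit 2, nat_lit 0])) (.leaf ((nat_lit 10), [nat_lit 3, nat_lit 2, nat_lit 5, nat_lit 0, nat_lit 5, nat_lit 2, nat_lit 4, nat_lit 0, nat_lit 4, nat_lit 1, nat_lit 0, nat_lit 2])))))
 (.node (nat_lit 2296) (.node (nat_lit 2294) (.leaf ((nat_lit 1367), [nat_lit 4, nat_lit 5, nat_lit 4, nat_lit 1, nat_lit 0, nat_lit 3, nat_lit 4, nat_lit 2, nat_lit 2, nat_lit 0, nat_lit 2, nat_lit 2, nat_lit 0, nat_lit 1])) (.node (nat_lit 2295) (.leaf ((nat_lit 1174), [nat_lit 3, nat_lit 0, nat_lit 2, nat_lit 5, nat_lit 3, nat_lit 2, nat_lit 0, nat_lit 4, nat_lit 1, nat_lit 4, nat_lit 2, nat_lit 0, nat_lit 2, nat_lit 2, nat_lit 0])) (.leaf ((nat_lit 45), [nat_lit 2, nat_lit 4, nat_lit 0, nat_lit 5, nat_lit 3, nat_lit 2, nat_lit 3, nat_lit 2, nat_lit 3, nat_lit 0, nat_lit 2, nat_lit 0, nat_lit 2, nat_lit 2,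 nat_lit 0, nat_lit 1])))) (.node (nat_lit 2297) (.leaf ((nat_lit 1368), [nat_lit 4, nat_lit 5, nat_lit 1, nat_lit 5, nat_lit 0, nat_lit 3, nat_lit 2, nat_lit 2, nat_lit 0, nat_lit 2, nat_lit 2, nat_lit 0, nat_lit 2, nat_lit 2])) (.node (nat_lit 2298) (.leaf ((nat_lit 954), [nat_lit 0, nat_lit 4, nat_lit 2, nat_lit 0, nat_lit 5, nat_lit 0, nat_lit 1, nat_lit 3, nat_lit 1, nat_lit 3, nat_lit 0, nat_lit 2, nat_lit 0, nat_lit 1, nat_lit 0])) (.leaf ((nat_lit 480), [nat_lit 1, nat_lit 0, nat_lit 3, nat_lit 5, nat_lit 3, nat_lit 0, nat_lit 1, nat_lit 3, nat_lit 4, nat_lit 2, nat_lit 3, nat_lit 2, nat_lit 0, nat_lit 1, nat_lit 0, nat_lit 2, nat_lit 2, nat_lit 0]))))))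
 (.node (nat_lit 2304) (.node (nat_lit 2301) (.node (nat_lit 2300) (.leaf ((nat_lit 871), [nat_lit 4, nat_lit 1, nat_lit 5, nat_lit 0, nat_lit 5, nat_lit 4, nat_lit 3, nat_lit 0, nat_lit 3, nat_lit 1, nat_lit 0, nat_lit 1, nat_lit 0, nat_lit 2])) (.leaf ((nat_lit 1369), [nat_lit 1, nat_lit 4, nat_lit 2, nat_lit 5, nat_lit 4, nat_lit 2, nat_lit 2, nat_lit 4, nat_lit 3, nat_lit 2, nat_lit 2, nat_lit 0, nat_lit 2, nat_lit 2, nat_lit 0, nat_lit 1, nat_lit 0]))) (.node (nat_lit 2302) (.leaf ((nat_lit 1153), [nat_lit 1, nat_lit 5, nat_lit 3, nat_lit 5, nat_lit 2, nat_lit 4, nat_lit 2, nat_lit 4, nat_lit 0, nat_lit 1, nat_lit 0, nat_lit 2, nat_lit 2, nat_lit 0, nat_lit 2, nat_lit 0])) (.node (nat_lit 2303) (.leaf ((nat_lit 999), [nat_lit 1, nat_lit 4, nat_lit 2, nat_lit 5, nat_lit 3, nat_lit 0, nat_lit 4, nat_lit 3, nat_lit 0, nat_lit 4, nat_lit 0, nat_lit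 1, nat_lit 0, nat_lit 2, nat_lit 0, nat_lit 2, nat_lit 2, nat_lit 0])) (.leaf ((nat_lit 1263), [nat_lit 3, nat_lit 5, nat_lit 2, nat_lit 5, nat_lit 3, nat_lit 1, nat_lit 3, nat_lit 4, nat_lit 3, nat_lit 0, nat_lit 2, nat_lit 2, nat_lit 0, nat_lit 1, nat_lit 0, nat_lit 2])))))
 (.node (nat_lit 2307) (.node (nat_lit 2305) (.leaf ((nat_lit 865), [nat_lit 3, nat_lit 0, nat_lit 5, nat_lit 3, nat_lit 5, nat_lit 4, nat_lit 0, nat_lit 3, nat_lit 0, nat_lit 2, nat_lit 3, nat_lit 2, nat_lit 0, nat_lit 1, nat_lit 0, nat_lit 1, nat_lit 0, nat_lit 2])) (.node (nat_lit 2306) (.leaf ((nat_lit 1223), [nat_lit 3, nat_lit 5, nat_lit 0, nat_lit 3, nat_lit 5, nat_lit 1, nat_lit 0, nat_lit 4, nat_lit 1, nat_lit 3, nat_lit 2, nat_lit 2, nat_lit 0, nat_lit 1, nat_lit 0])) (.leaf ((nat_lit 1351), [nat_lit 1, nat_lit 0, nat_lit 5, nat_lit 3, nat_lit 5, nat_lit 2, nat_lit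 4, nat_lit 0, nat_lit 1, nat_lit 4, nat_lit 1, nat_lit 0, nat_lit 1, nat_lit 0, nat_lit 2, nat_lit 2])))) (.node (nat_lit 2308) (.leaf ((nat_lit 888), [nat_lit 2, nat_lit 3, nat_lit 5, nat_lit 0, nat_lit 5, nat_lit 4, nat_lit 1, nat_lit 4, nat_lit 3, nat_lit 2])) (.node (nat_lit 2309) (.leaf ((nat_lit 203), [nat_lit 1, nat_lit 4, nat_lit 2, nat_lit 5, nat_lit 0, nat_lit 3, nat_lit 4, nat_lit 2, nat_lit 0, nat_lit 4, nat_lit 1, nat_lit 0, nat_lit 1, nat_lit 0])) (.leaf ((nat_lit 1370), [nat_lit 5, nat_lit 3, nat_lit 0, nat_lit 5, nat_lit 2, nat_lit 3, nat_lit 2, nat_lit 3, nat_lit 0])))))))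
 (.node (nat_lit 2321) (.node (nat_lit 2315) (.node (nat_lit 2312) (.node (nat_lit 2311) (.leaf ((nat_lit 590), [nat_lit 2, nat_lit 0, nat_lit 2, nat_lit 5, nat_lit 2, nat_lit 3, nat_lit 2, nat_lit 4, nat_lit 2, nat_lit 0])) (.leaf ((nat_lit 724), [nat_lit 1, nat_lit 3, nat_lit 2, nat_lit 5, nat_lit 3, nat_lit 0, nat_lit 3, nat_lit 0, nat_lit 4, nat_lit 2, nat_lit 0, nat_lit 1, nat_lit 0, nat_lit 2, nat_lit 0, nat_lit 2]))) (.node (nat_lit 2313) (.leaf ((nat_lit 1218), [nat_lit 3, nat_lit 0, nat_lit 2, nat_lit 5, nat_lit 3, nat_lit 0, nat_lit 3, nat_lit 2, nat_lit 4, nat_lit 0, nat_lit 2, nat_lit 0, nat_lit 2, nat_lit 2])) (.node (nat_lit 2314) (.leaf ((nat_lit 682), [nat_lit 3, nat_lit 5, nat_lit 2, nat_lit 5, nat_lit 3, nat_lit 1, nat_lit 4, nat_lit 0, nat_lit 4, nat_lit 0, nat_lit 2, nat_lit 2, nat_lit 0, nat_lit 2, nat_lit 0, nat_lit 1, nat_lit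 0])) (.leaf ((nat_lit 1322), [nat_lit 2, nat_lit 5, nat_lit 4, nat_lit 5, nat_lit 2, nat_lit 0, nat_lit 2, nat_lit 2, nat_lit 3, nat_lit 2, nat_lit 2, nat_lit 0, nat_lit 2, nat_lit 0])))))
 (.node (nat_lit 2318) (.node (nat_lit 2316) (.leaf ((nat_lit 169), [nat_lit 2, nat_lit 5, nat_lit 2, nat_lit 3, nat_lit 2, nat_lit 0, nat_lit 3, nat_lit 0, nat_lit 2, nat_lit 0, nat_lit 1, nat_lit 0, nat_lit 1, nat_lit 0])) (.node (nat_lit 2317) (.leaf ((nat_lit 251), [nat_lit 1, nat_lit 5, nat_lit 1, nat_lit 5, nat_lit 0, nat_lit 4, nat_lit 3, nat_lit 2, nat_lit 3, nat_lit 0, nat_lit 1, nat_lit 0, nat_lit 2, nat_lit 0])) (.leaf ((nat_lit 907), [nat_lit 5, nat_lit 1, nat_lit 0, nat_lit 2, nat_lit 5, nat_lit 1, nat_lit 0, nat_lit 3, nat_lit 2, nat_lit 3, nat_lit 2, nat_lit 2, nat_lit 0, nat_lit 2, nat_lit 2, nat_lit 0])))) (.node (nat_lit 2319) (.leaf ((nat_lit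 1227), [nat_lit 1, nat_lit 3, nat_lit 2, nat_lit 5, nat_lit 3, nat_lit 2, nat_lit 0, nat_lit 3, nat_lit 1, nat_lit 4, nat_lit 1, nat_lit 0, nat_lit 2, nat_lit 2, nat_lit 0, nat_lit 2, nat_lit 2, nat_lit 0])) (.node (nat_lit 2320) (.leaf ((nat_lit 1356), [nat_lit 4, nat_lit 3, nat_lit 5, nat_lit 2, nat_lit 5, nat_lit 4, nat_lit 3, nat_lit 2, nat_lit 2, nat_lit 3, nat_lit 1, nat_lit 0, nat_lit 2, nat_lit 2, nat_lit 0, nat_lit 2, nat_lit 0])) (.leaf ((nat_lit 1222), [nat_lit 5, nat_lit 1, nat_lit 3, nat_lit 0, nat_lit 5, nat_lit 2, nat_lit 4, nat_lit 2, nat_lit 3, nat_lit 4, nat_lit 1, nat_lit 0, nat_lit 2, nat_lit 2, nat_lit 0, nat_lit 1, nat_lit 0]))))))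
 (.node (nat_lit 2326) (.node (nat_lit 2323) (.node (nat_lit 2322) (.leaf ((nat_lit 1154), [nat_lit 2, nat_lit 2, nat_lit 5, nat_lit 1, nat_lit 3, nat_lit 4, nat_lit 3, nat_lit 2, nat_lit 0, nat_lit 1, nat_lit 0, nat_lit 1, nat_lit 0, nat_lit 2, nat_lit 0])) (.leaf ((nat_lit 158), [nat_lit 5, nat_lit 0, nat_lit 4, nat_lit 5, nat_lit 4, nat_lit 3, nat_lit 0, nat_lit 2, nat_lit 2, nat_lit 3, nat_lit 1, nat_lit 0, nat_lit 2, nat_lit 0, nat_lit 2, nat_lit 2]))) (.node (nat_lit 2324) (.leaf ((nat_lit 876), [nat_lit 4, nat_lit 2, nat_lit 5, nat_lit 1, nat_lit 5, nat_lit 2, nat_lit 3, nat_lit 1, nat_lit 3, nat_lit 0, nat_lit 3, nat_lit 1, nat_lit 0, nat_lit 2, nat_lit 0, nat_lit 2, nat_lit 2])) (.node (nat_lit 2325) (.leaf ((nat_lit 583), [nat_lit 4, nat_lit 5, nat_lit 3, nat_lit 2, nat_lit 5, nat_lit 4, nat_lit 0, nat_lit 3, nat_lit 4, nat_lit 2, nat_lit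 0])) (.leaf ((nat_lit 1348), [nat_lit 1, nat_lit 5, nat_lit 2, nat_lit 5, nat_lit 3, nat_lit 4, nat_lit 1, nat_lit 3, nat_lit 0, nat_lit 2, nat_lit 0])))))
 (.node (nat_lit 2329) (.node (nat_lit 2327) (.leaf ((nat_lit 996), [nat_lit 2, nat_lit 3, nat_lit 0, nat_lit 5, nat_lit 2, nat_lit 3, nat_lit 0, nat_lit 3, nat_lit 1, nat_lit 0, nat_lit 1, nat_lit 0, nat_lit 2, nat_lit 0, nat_lit 2])) (.node (nat_lit 2328) (.leaf ((nat_lit 919), [nat_lit 3, nat_lit 5, nat_lit 2, nat_lit 3, nat_lit 0, nat_lit 5, nat_lit 2, nat_lit 0, nat_lit 3, nat_lit 4, nat_lit 0, nat_lit 1, nat_lit 0, nat_lit 2, nat_lit 2])) (.leaf ((nat_lit 1126), [nat_lit 5, nat_lit 1, nat_lit 3, nat_lit 2, nat_lit 5, nat_lit 0, nat_lit 4, nat_lit 1, nat_lit 3, nat_lit 2])))) (.node (nat_lit 2330) (.leaf ((nat_lit 1139), [nat_lit 3, nat_lit 5, nat_lit 0, nat_lit 5, nat_lit 0, nat_lit 1, nat_lit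 3, nat_lit 0, nat_lit 3, nat_lit 0, nat_lit 1, nat_lit 0, nat_lit 2, nat_lit 2])) (.node (nat_lit 2331) (.leaf ((nat_lit 1355), [nat_lit 5, nat_lit 2, nat_lit 0, nat_lit 5, nat_lit 2, nat_lit 4, nat_lit 0, nat_lit 1, nat_lit 4, nat_lit 0, nat_lit 2, nat_lit 2, nat_lit 0, nat_lit 2, nat_lit 0, nat_lit 1, nat_lit 0])) (.leaf ((nat_lit 1028), [nat_lit 0, nat_lit 4, nat_lit 5, nat_lit 2, nat_lit 3, nat_lit 1, nat_lit 3, nat_lit 4, nat_lit 3, nat_lit 2, nat_lit 2, nat_lit 0, nat_lit 2, nat_lit 2, nat_lit 0]))))))))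
 (.node (nat_lit 2354) (.node (nat_lit 2343) (.node (nat_lit 2337) (.node (nat_lit 2334) (.node (nat_lit 2333) (.leaf ((nat_lit 1184), [nat_lit 2, nat_lit 5, nat_lit 0, nat_lit 5, nat_lit 2, nat_lit 2, nat_lit 4, nat_lit 3, nat_lit 2, nat_lit 0, nat_lit 2, nat_lit 0])) (.leaf ((nat_lit 1085), [nat_lit 0, nat_lit 5, nat_lit 2, nat_lit 0, nat_lit 5, nat_lit 2, nat_lit 4, nat_lit 2, nat_lit 3, nat_lit 2, nat_lit 3, nat_lit 0, nat_lit 1, nat_lit 0, nat_lit 2, nat_lit 0, nat_lit 2]))) (.node (nat_lit 2335) (.leaf ((nat_lit 1365), [nat_lit 5, nat_lit 3, nat_lit 2, nat_lit 5, nat_lit 4, nat_lit 0, nat_lit 1, nat_lit 4, nat_lit 0, nat_lit 2, nat_lit 0, nat_lit 2, nat_lit 2, nat_lit 0])) (.node (nat_lit 2336) (.leaf ((nat_lit 624), [nat_lit 1, nat_lit 3, nat_lit 2, nat_lit 5, nat_lit 4, nat_lit 3, nat_lit 2, nat_lit 0, nat_lit 2, nat_lit 3, nat_lit 2, nat_lit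 0, nat_lit 2, nat_lit 2, nat_lit 0, nat_lit 2])) (.leaf ((nat_lit 914), [nat_lit 0, nat_lit 5, nat_lit 2, nat_lit 5, nat_lit 1, nat_lit 3, nat_lit 2, nat_lit 2, nat_lit 3, nat_lit 2, nat_lit 0, nat_lit 2, nat_lit 0, nat_lit 1])))))
 (.node (nat_lit 2340) (.node (nat_lit 2338) (.leaf ((nat_lit 1371), [nat_lit 5, nat_lit 1, nat_lit 5, nat_lit 3, nat_lit 0, nat_lit 4, nat_lit 1, nat_lit 3, nat_lit 0, nat_lit 2, nat_lit 0, nat_lit 2, nat_lit 2, nat_lit 0])) (.node (nat_lit 2339) (.leaf ((nat_lit 464), [nat_lit 0, nat_lit 2, nat_lit 5, nat_lit 3, nat_lit 5, nat_lit 1, nat_lit 3, nat_lit 2, nat_lit 3, nat_lit 0, nat_lit 4, nat_lit 0, nat_lit 1, nat_lit 0, nat_lit 1, nat_lit 0, nat_lit 2])) (.leaf ((nat_lit 609), [nat_lit 4, nat_lit 2, nat_lit 0, nat_lit 5, nat_lit 3, nat_lit 1, nat_lit 3, nat_lit 0, nat_lit 3, nat_lit 1, nat_lit 0])))) (.node (nat_lit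 2341) (.leaf ((nat_lit 1359), [nat_lit 4, nat_lit 1, nat_lit 5, nat_lit 0, nat_lit 5, nat_lit 4, nat_lit 2, nat_lit 4, nat_lit 2, nat_lit 2, nat_lit 0, nat_lit 2, nat_lit 2, nat_lit 0, nat_lit 2, nat_lit 2])) (.node (nat_lit 2342) (.leaf ((nat_lit 689), [nat_lit 4, nat_lit 1, nat_lit 0, nat_lit 5, nat_lit 0, nat_lit 1, nat_lit 0, nat_lit 3, nat_lit 2, nat_lit 3, nat_lit 1, nat_lit 0, nat_lit 1, nat_lit 0, nat_lit 2, nat_lit 2])) (.leaf ((nat_lit 1149), [nat_lit 4, nat_lit 3, nat_lit 2, nat_lit 5, nat_lit 3, nat_lit 4, nat_lit 2, nat_lit 0, nat_lit 2, nat_lit 3, nat_lit 2, nat_lit 0, nat_lit 1, nat_lit 0, nat_lit 2, nat_lit 0, nat_lit 2, nat_lit 0]))))))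
 (.node (nat_lit 2348) (.node (nat_lit 2345) (.node (nat_lit 2344) (.leaf ((nat_lit 1256), [nat_lit 2, nat_lit 2, nat_lit 5, nat_lit 0, nat_lit 1, nat_lit 3, nat_lit 0, nat_lit 4, nat_lit 0, nat_lit 2, nat_lit 0, nat_lit 1])) (.leaf ((nat_lit 1372), [nat_lit 1, nat_lit 5, nat_lit 3, nat_lit 5, nat_lit 0, nat_lit 4, nat_lit 1, nat_lit 3, nat_lit 0, nat_lit 3, nat_lit 1, nat_lit 0, nat_lit 1, nat_lit 0, nat_lit 2]))) (.node (nat_lit 2346) (.leaf ((nat_lit 1373), [nat_lit 4, nat_lit 3, nat_lit 5, nat_lit 2, nat_lit 5, nat_lit 0, nat_lit 4, nat_lit 0, nat_lit 4, nat_lit 2, nat_lit 2, nat_lit 0, nat_lit 1])) (.node (nat_lit 2347) (.leaf ((nat_lit 811), [nat_lit 2, nat_lit 4, nat_lit 0, nat_lit 5, nat_lit 2, nat_lit 4, nat_lit 0, nat_lit 4, nat_lit 2, nat_lit 2, nat_lit 0, nat_lit 1, nat_lit 0, nat_lit 2, nat_lit 2, nat_lit 0])) (.leaf ((nat_lit 974),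 [nat_lit 5, nat_lit 1, nat_lit 5, nat_lit 0, nat_lit 5, nat_lit 4, nat_lit 3, nat_lit 2, nat_lit 4, nat_lit 2, nat_lit 3, nat_lit 0, nat_lit 1, nat_lit 0, nat_lit 2, nat_lit 2])))))
 (.node (nat_lit 2351) (.node (nat_lit 2349) (.leaf ((nat_lit 1374), [nat_lit 3, nat_lit 2, nat_lit 3, nat_lit 5, nat_lit 1, nat_lit 3, nat_lit 4, nat_lit 3, nat_lit 0, nat_lit 1, nat_lit 0, nat_lit 2, nat_lit 2, nat_lit 0, nat_lit 2])) (.node (nat_lit 2350) (.leaf ((nat_lit 670), [nat_lit 1, nat_lit 4, nat_lit 5, nat_lit 1, nat_lit 5, nat_lit 3, nat_lit 0, nat_lit 3, nat_lit 2, nat_lit 3, nat_lit 0, nat_lit 2, nat_lit 0, nat_lit 2, nat_lit 2, nat_lit 0])) (.leaf ((nat_lit 1083), [nat_lit 4, nat_lit 5, nat_lit 2, nat_lit 5, nat_lit 1, nat_lit 3, nat_lit 1, nat_lit 4, nat_lit 0, nat_lit 1, nat_lit 0, nat_lit 2, nat_lit 0])))) (.node (nat_lit 2352) (.leaf ((nat_lit 693),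 [nat_lit 2, nat_lit 5, nat_lit 0, nat_lit 5, nat_lit 0, nat_lit 1, nat_lit 4, nat_lit 0, nat_lit 2, nat_lit 0, nat_lit 1, nat_lit 0, nat_lit 1])) (.node (nat_lit 2353) (.leaf ((nat_lit 820), [nat_lit 5, nat_lit 4, nat_lit 0, nat_lit 5, nat_lit 4, nat_lit 3, nat_lit 2, nat_lit 4, nat_lit 2, nat_lit 3, nat_lit 0, nat_lit 2, nat_lit 0, nat_lit 2, nat_lit 2, nat_lit 0, nat_lit 1, nat_lit 0])) (.leaf ((nat_lit 1032), [nat_lit 5, nat_lit 1, nat_lit 5, nat_lit 0, nat_lit 5, nat_lit 4, nat_lit 2, nat_lit 0, nat_lit 3, nat_lit 0, nat_lit 1, nat_lit 0])))))))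
 (.node (nat_lit 2365) (.node (nat_lit 2359) (.node (nat_lit 2356) (.node (nat_lit 2355) (.leaf ((nat_lit 793), [nat_lit 3, nat_lit 2, nat_lit 5, nat_lit 0, nat_lit 5, nat_lit 3, nat_lit 4, nat_lit 1, nat_lit 3, nat_lit 0, nat_lit 3, nat_lit 2, nat_lit 0, nat_lit 2, nat_lit 2])) (.leaf ((nat_lit 600), [nat_lit 5, nat_lit 2, nat_lit 4, nat_lit 0, nat_lit 5, nat_lit 3, nat_lit 2, nat_lit 4, nat_lit 3, nat_lit 2, nat_lit 3, nat_lit 0, nat_lit 2, nat_lit 0, nat_lit 1, nat_lit 0]))) (.node (nat_lit 2357) (.leaf ((nat_lit 1247), [nat_lit 4, nat_lit 3, nat_lit 5, nat_lit 0, nat_lit 5, nat_lit 4, nat_lit 1, nat_lit 0, nat_lit 2, nat_lit 3, nat_lit 2, nat_lit 2, nat_lit 0, nat_lit 1, nat_lit 0])) (.node (nat_lit 2358) (.leaf ((nat_lit 1252), [nat_lit 0, nat_lit 2, nat_lit 4, nat_lit 0, nat_lit 5, nat_lit 1, nat_lit 0, nat_lit 3, nat_lit 0, nat_lit 4, nat_lit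 0, nat_lit 2, nat_lit 2, nat_lit 0, nat_lit 2, nat_lit 0])) (.leaf ((nat_lit 98), [nat_lit 3, nat_lit 4, nat_lit 5, nat_lit 4, nat_lit 2, nat_lit 4, nat_lit 1, nat_lit 0, nat_lit 3, nat_lit 1, nat_lit 0, nat_lit 1, nat_lit 0, nat_lit 2, nat_lit 0])))))
 (.node (nat_lit 2362) (.node (nat_lit 2360) (.leaf ((nat_lit 1368), [nat_lit 3, nat_lit 2, nat_lit 5, nat_lit 0, nat_lit 1, nat_lit 3, nat_lit 4, nat_lit 1, nat_lit 3, nat_lit 1, nat_lit 0, nat_lit 2, nat_lit 2, nat_lit 0, nat_lit 1])) (.node (nat_lit 2361) (.leaf ((nat_lit 1363), [nat_lit 0, nat_lit 2, nat_lit 5, nat_lit 3, nat_lit 5, nat_lit 2, nat_lit 4, nat_lit 1, nat_lit 3, nat_lit 1, nat_lit 3, nat_lit 0, nat_lit 2, nat_lit 0, nat_lit 2, nat_lit 2, nat_lit 0])) (.leaf ((nat_lit 252), [nat_lit 3, nat_lit 0, nat_lit 5, nat_lit 0, nat_lit 3, nat_lit 1, nat_lit 3, nat_lit 4, nat_lit 3, nat_lit 2,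 nat_lit 2, nat_lit 0, nat_lit 1, nat_lit 0])))) (.node (nat_lit 2363) (.leaf ((nat_lit 1129), [nat_lit 5, nat_lit 2, nat_lit 0, nat_lit 5, nat_lit 3, nat_lit 1, nat_lit 3, nat_lit 4, nat_lit 1, nat_lit 0, nat_lit 2, nat_lit 0, nat_lit 2, nat_lit 2, nat_lit 0])) (.node (nat_lit 2364) (.leaf ((nat_lit 913), [nat_lit 1, nat_lit 0, nat_lit 2, nat_lit 5, nat_lit 2, nat_lit 2, nat_lit 4, nat_lit 0, nat_lit 4, nat_lit 3, nat_lit 2, nat_lit 2, nat_lit 0, nat_lit 2, nat_lit 2, nat_lit 0, nat_lit 2])) (.leaf ((nat_lit 474), [nat_lit 2, nat_lit 5, nat_lit 3, nat_lit 5, nat_lit 2, nat_lit 4, nat_lit 0, nat_lit 3, nat_lit 2, nat_lit 3, nat_lit 0, nat_lit 2, nat_lit 0, nat_lit 2, nat_lit 0]))))))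
 (.node (nat_lit 2370) (.node (nat_lit 2367) (.node (nat_lit 2366) (.leaf ((nat_lit 864), [nat_lit 3, nat_lit 5, nat_lit 2, nat_lit 5, nat_lit 3, nat_lit 2, nat_lit 0, nat_lit 2, nat_lit 4, nat_lit 3, nat_lit 0, nat_lit 1, nat_lit 0, nat_lit 2])) (.leaf ((nat_lit 1295), [nat_lit 2, nat_lit 3, nat_lit 0, nat_lit 5, nat_lit 3, nat_lit 2, nat_lit 3, nat_lit 2, nat_lit 0, nat_lit 3, nat_lit 0, nat_lit 1, nat_lit 0, nat_lit 1, nat_lit 0]))) (.node (nat_lit 2368) (.leaf ((nat_lit 1018), [nat_lit 1, nat_lit 3, nat_lit 2, nat_lit 5, nat_lit 3, nat_lit 2, nat_lit 3, nat_lit 0, nat_lit 4, nat_lit 2, nat_lit 0, nat_lit 2, nat_lit 2, nat_lit 0])) (.node (nat_lit 2369) (.leaf ((nat_lit 1330), [nat_lit 4, nat_lit 1, nat_lit 0, nat_lit 5, nat_lit 4, nat_lit 0, nat_lit 3, nat_lit 0, nat_lit 1, nat_lit 0, nat_lit 2, nat_lit 0, nat_lit 2, nat_lit 2, nat_lit 0])) (.leaf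 ((nat_lit 486), [nat_lit 1, nat_lit 0, nat_lit 5, nat_lit 1, nat_lit 0, nat_lit 3, nat_lit 2, nat_lit 3, nat_lit 1, nat_lit 0, nat_lit 2])))))
 (.node (nat_lit 2373) (.node (nat_lit 2371) (.leaf ((nat_lit 970), [nat_lit 0, nat_lit 4, nat_lit 2, nat_lit 0, nat_lit 5, nat_lit 4, nat_lit 0, nat_lit 2, nat_lit 4, nat_lit 0, nat_lit 2, nat_lit 2, nat_lit 0, nat_lit 2])) (.node (nat_lit 2372) (.leaf ((nat_lit 1105), [nat_lit 2, nat_lit 5, nat_lit 2, nat_lit 3, nat_lit 4, nat_lit 3, nat_lit 2, nat_lit 2, nat_lit 0, nat_lit 1, nat_lit 0, nat_lit 2, nat_lit 2])) (.leaf ((nat_lit 1375), [nat_lit 4, nat_lit 5, nat_lit 2, nat_lit 3, nat_lit 5, nat_lit 2, nat_lit 4, nat_lit 2, nat_lit 3, nat_lit 1, nat_lit 3, nat_lit 2, nat_lit 2, nat_lit 0, nat_lit 1])))) (.node (nat_lit 2374) (.leaf ((nat_lit 983), [nat_lit 2, nat_lit 5, nat_lit 0, nat_lit 1, nat_lit 5, nat_lit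 3, nat_lit 1, nat_lit 3, nat_lit 4, nat_lit 3, nat_lit 1, nat_lit 0, nat_lit 2, nat_lit 0, nat_lit 2, nat_lit 2, nat_lit 0])) (.node (nat_lit 2375) (.leaf ((nat_lit 709), [nat_lit 0, nat_lit 5, nat_lit 3, nat_lit 0, nat_lit 5, nat_lit 2, nat_lit 0, nat_lit 3, nat_lit 0, nat_lit 4, nat_lit 1, nat_lit 0, nat_lit 1, nat_lit 0])) (.leaf ((nat_lit 626), [nat_lit 3, nat_lit 2, nat_lit 0, nat_lit 5, nat_lit 3, nat_lit 4, nat_lit 2, nat_lit 4, nat_lit 3, nat_lit 2, nat_lit 0, nat_lit 1, nat_lit 0, nat_lit 1, nat_lit 0, nat_lit 2, nat_lit 0])))))))))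
 (.node (nat_lit 2420) (.node (nat_lit 2398) (.node (nat_lit 2387) (.node (nat_lit 2381) (.node (nat_lit 2378) (.node (nat_lit 2377) (.leaf ((nat_lit 1376), [nat_lit 1, nat_lit 5, nat_lit 1, nat_lit 5, nat_lit 3, nat_lit 2, nat_lit 0, nat_lit 4, nat_lit 2, nat_lit 0, nat_lit 1])) (.leaf ((nat_lit 188), [nat_lit 2, nat_lit 5, nat_lit 3, nat_lit 5, nat_lit 0, nat_lit 4, nat_lit 3, nat_lit 0, nat_lit 4, nat_lit 1, nat_lit 0, nat_lit 2, nat_lit 2, nat_lit 0, nat_lit 2, nat_lit 2]))) (.node (nat_lit 2379) (.leaf ((nat_lit 79), [nat_lit 5, nat_lit 1, nat_lit 3, nat_lit 0, nat_lit 5, nat_lit 0, nat_lit 2, nat_lit 3, nat_lit 0, nat_lit 2, nat_lit 2, nat_lit 0, nat_lit 2, nat_lit 2, nat_lit 0])) (.node (nat_lit 2380) (.leaf ((nat_lit 1265), [nat_lit 5, nat_lit 2, nat_lit 5, nat_lit 1, nat_lit 3, nat_lit 1, nat_lit 3, nat_lit 2, nat_lit 2, nat_lit 0, nat_lit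 2, nat_lit 2])) (.leaf ((nat_lit 183), [nat_lit 3, nat_lit 2, nat_lit 3, nat_lit 5, nat_lit 2, nat_lit 2, nat_lit 4, nat_lit 0, nat_lit 4, nat_lit 0, nat_lit 2, nat_lit 2, nat_lit 0, nat_lit 1, nat_lit 0])))))
 (.node (nat_lit 2384) (.node (nat_lit 2382) (.leaf ((nat_lit 906), [nat_lit 5, nat_lit 2, nat_lit 4, nat_lit 0, nat_lit 5, nat_lit 3, nat_lit 2, nat_lit 0, nat_lit 2, nat_lit 4, nat_lit 1])) (.node (nat_lit 2383) (.leaf ((nat_lit 1047), [nat_lit 2, nat_lit 3, nat_lit 5, nat_lit 0, nat_lit 5, nat_lit 4, nat_lit 3, nat_lit 2, nat_lit 4, nat_lit 3, nat_lit 2, nat_lit 2, nat_lit 0, nat_lit 1, nat_lit 0, nat_lit 2, nat_lit 2, nat_lit 0])) (.leaf ((nat_lit 646), [nat_lit 1, nat_lit 4, nat_lit 5, nat_lit 1, nat_lit 5, nat_lit 2, nat_lit 4, nat_lit 2, nat_lit 4, nat_lit 3, nat_lit 2, nat_lit 2, nat_lit 0, nat_lit 2, nat_lit 2, nat_lit 0])))) (.node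 (nat_lit 2385) (.leaf ((nat_lit 2), [nat_lit 2, nat_lit 0, nat_lit 1, nat_lit 5, nat_lit 1, nat_lit 4, nat_lit 1, nat_lit 4, nat_lit 0, nat_lit 2, nat_lit 2, nat_lit 0, nat_lit 2])) (.node (nat_lit 2386) (.leaf ((nat_lit 1213), [nat_lit 3, nat_lit 0, nat_lit 2, nat_lit 5, nat_lit 2, nat_lit 3, nat_lit 4, nat_lit 2, nat_lit 4, nat_lit 0, nat_lit 2, nat_lit 0])) (.leaf ((nat_lit 172), [nat_lit 5, nat_lit 3, nat_lit 2, nat_lit 0, nat_lit 5, nat_lit 3, nat_lit 1, nat_lit 0, nat_lit 3, nat_lit 1, nat_lit 3, nat_lit 1, nat_lit 0, nat_lit 2, nat_lit 0, nat_lit 2]))))))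
 (.node (nat_lit 2392) (.node (nat_lit 2389) (.node (nat_lit 2388) (.leaf ((nat_lit 777), [nat_lit 4, nat_lit 5, nat_lit 4, nat_lit 0, nat_lit 5, nat_lit 3, nat_lit 4, nat_lit 2, nat_lit 4, nat_lit 2, nat_lit 3, nat_lit 2, nat_lit 0, nat_lit 2, nat_lit 0, nat_lit 1])) (.leaf ((nat_lit 1010), [nat_lit 5, nat_lit 2, nat_lit 4, nat_lit 0, nat_lit 5, nat_lit 0, nat_lit 3, nat_lit 2, nat_lit 3, nat_lit 2, nat_lit 3, nat_lit 2, nat_lit 2, nat_lit 0, nat_lit 2]))) (.node (nat_lit 2390) (.leaf ((nat_lit 62), [nat_lit 4, nat_lit 3, nat_lit 2, nat_lit 5, nat_lit 4, nat_lit 3, nat_lit 1, nat_lit 0, nat_lit 2, nat_lit 3, nat_lit 0, nat_lit 2])) (.node (nat_lit 2391) (.leaf ((nat_lit 282), [nat_lit 5, nat_lit 2, nat_lit 4, nat_lit 0, nat_lit 5, nat_lit 0, nat_lit 4, nat_lit 1, nat_lit 4, nat_lit 1, nat_lit 0, nat_lit 1, nat_lit 0, nat_lit 2])) (.leaf ((nat_lit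 643), [nat_lit 4, nat_lit 5, nat_lit 2, nat_lit 3, nat_lit 5, nat_lit 4, nat_lit 1, nat_lit 0, nat_lit 4, nat_lit 3, nat_lit 2, nat_lit 2, nat_lit 0, nat_lit 2, nat_lit 2, nat_lit 0, nat_lit 2])))))
 (.node (nat_lit 2395) (.node (nat_lit 2393) (.leaf ((nat_lit 1186), [nat_lit 4, nat_lit 5, nat_lit 3, nat_lit 0, nat_lit 5, nat_lit 3, nat_lit 2, nat_lit 0, nat_lit 2, nat_lit 4, nat_lit 3, nat_lit 2, nat_lit 0, nat_lit 1, nat_lit 0, nat_lit 1, nat_lit 0, nat_lit 2, nat_lit 0])) (.node (nat_lit 2394) (.leaf ((nat_lit 635), [nat_lit 3, nat_lit 5, nat_lit 1, nat_lit 3, nat_lit 0, nat_lit 5, nat_lit 1, nat_lit 3, nat_lit 4, nat_lit 3, nat_lit 0, nat_lit 3, nat_lit 1, nat_lit 0, nat_lit 2, nat_lit 0, nat_lit 2, nat_lit 0])) (.leaf ((nat_lit 1119), [nat_lit 0, nat_lit 4, nat_lit 2, nat_lit 0, nat_lit 5, nat_lit 0, nat_lit 1, nat_lit 3, nat_lit 0, nat_lit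 4, nat_lit 2, nat_lit 0, nat_lit 1, nat_lit 0, nat_lit 1, nat_lit 0])))) (.node (nat_lit 2396) (.leaf ((nat_lit 1354), [nat_lit 4, nat_lit 5, nat_lit 2, nat_lit 3, nat_lit 5, nat_lit 4, nat_lit 2, nat_lit 0, nat_lit 2, nat_lit 4, nat_lit 2, nat_lit 2, nat_lit 0, nat_lit 2])) (.node (nat_lit 2397) (.leaf ((nat_lit 673), [nat_lit 4, nat_lit 5, nat_lit 2, nat_lit 0, nat_lit 1, nat_lit 0, nat_lit 4, nat_lit 2, nat_lit 0, nat_lit 1, nat_lit 0, nat_lit 2, nat_lit 2, nat_lit 0])) (.leaf ((nat_lit 1377), [nat_lit 3, nat_lit 1, nat_lit 5, nat_lit 2, nat_lit 5, nat_lit 4, nat_lit 2, nat_lit 0, nat_lit 2, nat_lit 4, nat_lit 2, nat_lit 0, nat_lit 2])))))))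
 (.node (nat_lit 2409) (.node (nat_lit 2403) (.node (nat_lit 2400) (.node (nat_lit 2399) (.leaf ((nat_lit 257), [nat_lit 4, nat_lit 0, nat_lit 5, nat_lit 2, nat_lit 5, nat_lit 0, nat_lit 4, nat_lit 2, nat_lit 3, nat_lit 4, nat_lit 0, nat_lit 1, nat_lit 0])) (.leaf ((nat_lit 1033), [nat_lit 5, nat_lit 4, nat_lit 3, nat_lit 5, nat_lit 2, nat_lit 5, nat_lit 3, nat_lit 1, nat_lit 0, nat_lit 2, nat_lit 3, nat_lit 2, nat_lit 0, nat_lit 1, nat_lit 0, nat_lit 1, nat_lit 0]))) (.node (nat_lit 2401) (.leaf ((nat_lit 1378), [nat_lit 5, nat_lit 2, nat_lit 0, nat_lit 2, nat_lit 5, nat_lit 2, nat_lit 0, nat_lit 3, nat_lit 1, nat_lit 3, nat_lit 2, nat_lit 2, nat_lit 0, nat_lit 1, nat_lit 0, nat_lit 2, nat_lit 0])) (.node (nat_lit 2402) (.leaf ((nat_lit 1235), [nat_lit 4, nat_lit 5, nat_lit 4, nat_lit 0, nat_lit 5, nat_lit 0, nat_lit 1, nat_lit 3, nat_lit 0, nat_lit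 3, nat_lit 0, nat_lit 1, nat_lit 0, nat_lit 1, nat_lit 0, nat_lit 2, nat_lit 0])) (.leaf ((nat_lit 1289), [nat_lit 5, nat_lit 3, nat_lit 5, nat_lit 0, nat_lit 1, nat_lit 4, nat_lit 1, nat_lit 0, nat_lit 3, nat_lit 1, nat_lit 0, nat_lit 1, nat_lit 0, nat_lit 2, nat_lit 0, nat_lit 2, nat_lit 0])))))
 (.node (nat_lit 2406) (.node (nat_lit 2404) (.leaf ((nat_lit 1362), [nat_lit 5, nat_lit 3, nat_lit 2, nat_lit 5, nat_lit 4, nat_lit 1, nat_lit 0, nat_lit 2, nat_lit 2, nat_lit 0, nat_lit 1])) (.node (nat_lit 2405) (.leaf ((nat_lit 604), [nat_lit 5, nat_lit 4, nat_lit 2, nat_lit 5, nat_lit 1, nat_lit 0, nat_lit 2, nat_lit 0, nat_lit 2, nat_lit 4, nat_lit 2, nat_lit 0, nat_lit 1, nat_lit 0, nat_lit 2, nat_lit 0, nat_lit 2])) (.leaf ((nat_lit 1183), [nat_lit 4, nat_lit 5, nat_lit 3, nat_lit 2, nat_lit 5, nat_lit 4, nat_lit 1, nat_lit 0, nat_lit 4, nat_lit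 2, nat_lit 2, nat_lit 0, nat_lit 2, nat_lit 2, nat_lit 0, nat_lit 2])))) (.node (nat_lit 2407) (.leaf ((nat_lit 1379), [nat_lit 2, nat_lit 4, nat_lit 5, nat_lit 2, nat_lit 0, nat_lit 5, nat_lit 3, nat_lit 0, nat_lit 3, nat_lit 1, nat_lit 4, nat_lit 2, nat_lit 0, nat_lit 2, nat_lit 2, nat_lit 0, nat_lit 2])) (.node (nat_lit 2408) (.leaf ((nat_lit 1214), [nat_lit 5, nat_lit 2, nat_lit 4, nat_lit 0, nat_lit 3, nat_lit 2, nat_lit 3, nat_lit 2, nat_lit 2, nat_lit 0, nat_lit 2, nat_lit 2, nat_lit 0, nat_lit 2, nat_lit 2, nat_lit 0])) (.leaf ((nat_lit 592), [nat_lit 3, nat_lit 0, nat_lit 5, nat_lit 3, nat_lit 5, nat_lit 3, nat_lit 2, nat_lit 0, nat_lit 2, nat_lit 4, nat_lit 3, nat_lit 2, nat_lit 2, nat_lit 0, nat_lit 1, nat_lit 0, nat_lit 2, nat_lit 2]))))))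
 (.node (nat_lit 2414) (.node (nat_lit 2411) (.node (nat_lit 2410) (.leaf ((nat_lit 1369), [nat_lit 5, nat_lit 4, nat_lit 1, nat_lit 0, nat_lit 5, nat_lit 0, nat_lit 2, nat_lit 0, nat_lit 2, nat_lit 3, nat_lit 2, nat_lit 0, nat_lit 2, nat_lit 0, nat_lit 1, nat_lit 0])) (.leaf ((nat_lit 1257), [nat_lit 5, nat_lit 2, nat_lit 0, nat_lit 2, nat_lit 5, nat_lit 3, nat_lit 1, nat_lit 4, nat_lit 0, nat_lit 4, nat_lit 1, nat_lit 0, nat_lit 2, nat_lit 0, nat_lit 2]))) (.node (nat_lit 2412) (.leaf ((nat_lit 56), [nat_lit 4, nat_lit 5, nat_lit 3, nat_lit 5, nat_lit 4, nat_lit 2, nat_lit 4, nat_lit 3, nat_lit 2, nat_lit 2, nat_lit 0, nat_lit 2, nat_lit 2, nat_lit 0])) (.node (nat_lit 2413) (.leaf ((nat_lit 1380), [nat_lit 4, nat_lit 5, nat_lit 1, nat_lit 5, nat_lit 2, nat_lit 0, nat_lit 3, nat_lit 0, nat_lit 2, nat_lit 3, nat_lit 2, nat_lit 0, nat_lit 1, nat_lit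 0])) (.leaf ((nat_lit 256), [nat_lit 4, nat_lit 3, nat_lit 5, nat_lit 0, nat_lit 4, nat_lit 2, nat_lit 0, nat_lit 2, nat_lit 3, nat_lit 2, nat_lit 0, nat_lit 2, nat_lit 2, nat_lit 0, nat_lit 1])))))
 (.node (nat_lit 2417) (.node (nat_lit 2415) (.leaf ((nat_lit 809), [nat_lit 3, nat_lit 0, nat_lit 2, nat_lit 5, nat_lit 2, nat_lit 3, nat_lit 1, nat_lit 3, nat_lit 4, nat_lit 3, nat_lit 2, nat_lit 2, nat_lit 0, nat_lit 1, nat_lit 0])) (.node (nat_lit 2416) (.leaf ((nat_lit 1381), [nat_lit 1, nat_lit 0, nat_lit 3, nat_lit 5, nat_lit 2, nat_lit 4, nat_lit 2, nat_lit 3, nat_lit 1, nat_lit 3, nat_lit 0, nat_lit 2, nat_lit 0, nat_lit 1, nat_lit 0])) (.leaf ((nat_lit 239), [nat_lit 0, nat_lit 2, nat_lit 5, nat_lit 3, nat_lit 5, nat_lit 2, nat_lit 4, nat_lit 0, nat_lit 1, nat_lit 0, nat_lit 2, nat_lit 2, nat_lit 0, nat_lit 2, nat_lit 0])))) (.node (nat_lit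 2418) (.leaf ((nat_lit 1044), [nat_lit 0, nat_lit 5, nat_lit 2, nat_lit 5, nat_lit 2, nat_lit 0, nat_lit 1, nat_lit 0, nat_lit 3, nat_lit 2, nat_lit 0])) (.node (nat_lit 2419) (.leaf ((nat_lit 364), [nat_lit 4, nat_lit 1, nat_lit 5, nat_lit 0, nat_lit 5, nat_lit 4, nat_lit 0, nat_lit 4, nat_lit 3, nat_lit 1, nat_lit 0, nat_lit 1, nat_lit 0, nat_lit 2, nat_lit 0, nat_lit 2])) (.leaf ((nat_lit 1192), [nat_lit 4, nat_lit 2, nat_lit 0, nat_lit 5, nat_lit 0, nat_lit 4, nat_lit 3, nat_lit 0, nat_lit 3, nat_lit 2, nat_lit 0, nat_lit 1, nat_lit 0, nat_lit 2, nat_lit 2, nat_lit 0]))))))))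
 (.node (nat_lit 2442) (.node (nat_lit 2431) (.node (nat_lit 2425) (.node (nat_lit 2422) (.node (nat_lit 2421) (.leaf ((nat_lit 817), [nat_lit 5, nat_lit 4, nat_lit 1, nat_lit 0, nat_lit 5, nat_lit 0, nat_lit 1, nat_lit 4, nat_lit 1, nat_lit 0, nat_lit 3, nat_lit 0, nat_lit 2, nat_lit 2, nat_lit 0, nat_lit 1, nat_lit 0, nat_lit 2, nat_lit 0])) (.leaf ((nat_lit 1013), [nat_lit 3, nat_lit 2, nat_lit 5, nat_lit 0, nat_lit 5, nat_lit 4, nat_lit 0, nat_lit 4, nat_lit 0, nat_lit 4, nat_lit 0, nat_lit 2, nat_lit 0, nat_lit 2]))) (.node (nat_lit 2423) (.leaf ((nat_lit 784), [nat_lit 2, nat_lit 4, nat_lit 0, nat_lit 5, nat_lit 1, nat_lit 4, nat_lit 2, nat_lit 4, nat_lit 2, nat_lit 0, nat_lit 1, nat_lit 0])) (.node (nat_lit 2424) (.leaf ((nat_lit 666), [nat_lit 3, nat_lit 4, nat_lit 5, nat_lit 3, nat_lit 4, nat_lit 1, nat_lit 3, nat_lit 1, nat_lit 3, nat_lit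 1, nat_lit 0, nat_lit 2, nat_lit 0, nat_lit 2, nat_lit 2])) (.leaf ((nat_lit 857), [nat_lit 2, nat_lit 5, nat_lit 0, nat_lit 1, nat_lit 5, nat_lit 0, nat_lit 4, nat_lit 0, nat_lit 1, nat_lit 4, nat_lit 3, nat_lit 0, nat_lit 1, nat_lit 0, nat_lit 2, nat_lit 0, nat_lit 2])))))
 (.node (nat_lit 2428) (.node (nat_lit 2426) (.leaf ((nat_lit 945), [nat_lit 5, nat_lit 4, nat_lit 5, nat_lit 3, nat_lit 5, nat_lit 2, nat_lit 4, nat_lit 2, nat_lit 3, nat_lit 1, nat_lit 3, nat_lit 0, nat_lit 1, nat_lit 0, nat_lit 1, nat_lit 0, nat_lit 2, nat_lit 0])) (.node (nat_lit 2427) (.leaf ((nat_lit 1211), [nat_lit 5, nat_lit 2, nat_lit 0, nat_lit 2, nat_lit 5, nat_lit 3, nat_lit 2, nat_lit 0, nat_lit 3, nat_lit 2, nat_lit 0, nat_lit 1, nat_lit 0, nat_lit 2, nat_lit 0, nat_lit 2])) (.leaf ((nat_lit 1286), [nat_lit 2, nat_lit 4, nat_lit 0, nat_lit 5, nat_lit 3, nat_lit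 2, nat_lit 0, nat_lit 3, nat_lit 4, nat_lit 2, nat_lit 2, nat_lit 0, nat_lit 1])))) (.node (nat_lit 2429) (.leaf ((nat_lit 1321), [nat_lit 4, nat_lit 3, nat_lit 2, nat_lit 5, nat_lit 1, nat_lit 3, nat_lit 1, nat_lit 3, nat_lit 4, nat_lit 2, nat_lit 0, nat_lit 2, nat_lit 2])) (.node (nat_lit 2430) (.leaf ((nat_lit 224), [nat_lit 0, nat_lit 5, nat_lit 3, nat_lit 5, nat_lit 4, nat_lit 3, nat_lit 2, nat_lit 4, nat_lit 2, nat_lit 3, nat_lit 2, nat_lit 0, nat_lit 2, nat_lit 2, nat_lit 0, nat_lit 2, nat_lit 0])) (.leaf ((nat_lit 71), [nat_lit 5, nat_lit 0, nat_lit 5, nat_lit 2, nat_lit 3, nat_lit 1, nat_lit 0, nat_lit 2, nat_lit 3, nat_lit 2, nat_lit 0, nat_lit 2]))))))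
 (.node (nat_lit 2436) (.node (nat_lit 2433) (.node (nat_lit 2432) (.leaf ((nat_lit 1111), [nat_lit 4, nat_lit 3, nat_lit 2, nat_lit 5, nat_lit 3, nat_lit 1, nat_lit 0, nat_lit 4, nat_lit 0, nat_lit 2, nat_lit 2, nat_lit 0, nat_lit 1])) (.leaf ((nat_lit 564), [nat_lit 0, nat_lit 4, nat_lit 5, nat_lit 4, nat_lit 0, nat_lit 1, nat_lit 4, nat_lit 2, nat_lit 0, nat_lit 1, nat_lit 0, nat_lit 1, nat_lit 0, nat_lit 2, nat_lit 0]))) (.node (nat_lit 2434) (.leaf ((nat_lit 119), [nat_lit 1, nat_lit 5, nat_lit 1, nat_lit 5, nat_lit 3, nat_lit 1, nat_lit 4, nat_lit 3, nat_lit 0, nat_lit 3, nat_lit 1, nat_lit 0, nat_lit 2, nat_lit 0])) (.node (nat_lit 2435) (.leaf ((nat_lit 263), [nat_lit 4, nat_lit 1, nat_lit 5, nat_lit 0, nat_lit 5, nat_lit 2, nat_lit 4, nat_lit 2, nat_lit 3, nat_lit 0, nat_lit 3, nat_lit 2, nat_lit 0, nat_lit 2, nat_lit 2, nat_lit 0, nat_lit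 1])) (.leaf ((nat_lit 356), [nat_lit 0, nat_lit 5, nat_lit 3, nat_lit 5, nat_lit 4, nat_lit 0, nat_lit 3, nat_lit 0, nat_lit 2, nat_lit 3, nat_lit 1, nat_lit 0, nat_lit 2])))))
 (.node (nat_lit 2439) (.node (nat_lit 2437) (.leaf ((nat_lit 1159), [nat_lit 4, nat_lit 0, nat_lit 5, nat_lit 2, nat_lit 5, nat_lit 3, nat_lit 0, nat_lit 3, nat_lit 1, nat_lit 0, nat_lit 2, nat_lit 2, nat_lit 0, nat_lit 2, nat_lit 2, nat_lit 0])) (.node (nat_lit 2438) (.leaf ((nat_lit 260), [nat_lit 5, nat_lit 3, nat_lit 2, nat_lit 5, nat_lit 1, nat_lit 4, nat_lit 3, nat_lit 2, nat_lit 0, nat_lit 2, nat_lit 2, nat_lit 0])) (.leaf ((nat_lit 216), [nat_lit 4, nat_lit 1, nat_lit 0, nat_lit 5, nat_lit 1, nat_lit 4, nat_lit 1, nat_lit 0, nat_lit 1, nat_lit 0, nat_lit 2, nat_lit 2])))) (.node (nat_lit 2440) (.leaf ((nat_lit 1382), [nat_lit 4, nat_lit 5, nat_lit 2, nat_lit 3, nat_lit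 5, nat_lit 2, nat_lit 0, nat_lit 1, nat_lit 4, nat_lit 3, nat_lit 1, nat_lit 0, nat_lit 2, nat_lit 0])) (.node (nat_lit 2441) (.leaf ((nat_lit 950), [nat_lit 5, nat_lit 0, nat_lit 3, nat_lit 5, nat_lit 2, nat_lit 4, nat_lit 2, nat_lit 0, nat_lit 2, nat_lit 3, nat_lit 2, nat_lit 0, nat_lit 2, nat_lit 0, nat_lit 1, nat_lit 0, nat_lit 1])) (.leaf ((nat_lit 1383), [nat_lit 3, nat_lit 5, nat_lit 0, nat_lit 3, nat_lit 5, nat_lit 2, nat_lit 3, nat_lit 2, nat_lit 4, nat_lit 3, nat_lit 0, nat_lit 1, nat_lit 0])))))))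
 (.node (nat_lit 2453) (.node (nat_lit 2447) (.node (nat_lit 2444) (.node (nat_lit 2443) (.leaf ((nat_lit 1285), [nat_lit 0, nat_lit 1, nat_lit 5, nat_lit 4, nat_lit 1, nat_lit 3, nat_lit 4, nat_lit 1, nat_lit 0, nat_lit 2, nat_lit 2, nat_lit 0])) (.leaf ((nat_lit 1384), [nat_lit 3, nat_lit 5, nat_lit 1, nat_lit 3, nat_lit 0, nat_lit 5, nat_lit 0, nat_lit 3, nat_lit 2, nat_lit 0, nat_lit 3, nat_lit 2, nat_lit 2, nat_lit 0, nat_lit 1, nat_lit 0, nat_lit 2, nat_lit 0]))) (.node (nat_lit 2445) (.leaf ((nat_lit 1383), [nat_lit 1, nat_lit 5, nat_lit 2, nat_lit 3, nat_lit 4, nat_lit 2, nat_lit 4, nat_lit 2, nat_lit 0, nat_lit 2, nat_lit 0, nat_lit 1, nat_lit 0, nat_lit 1])) (.node (nat_lit 2446) (.leaf ((nat_lit 760), [nat_lit 5, nat_lit 0, nat_lit 4, nat_lit 5, nat_lit 0, nat_lit 4, nat_lit 2, nat_lit 0, nat_lit 2, nat_lit 3, nat_lit 1, nat_lit 0, nat_lit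 2])) (.leaf ((nat_lit 873), [nat_lit 4, nat_lit 5, nat_lit 3, nat_lit 1, nat_lit 4, nat_lit 3, nat_lit 0, nat_lit 3, nat_lit 1, nat_lit 0, nat_lit 2, nat_lit 0, nat_lit 2, nat_lit 2])))))
 (.node (nat_lit 2450) (.node (nat_lit 2448) (.leaf ((nat_lit 371), [nat_lit 5, nat_lit 4, nat_lit 3, nat_lit 2, nat_lit 5, nat_lit 4, nat_lit 1, nat_lit 0, nat_lit 3, nat_lit 2, nat_lit 0, nat_lit 2, nat_lit 0])) (.node (nat_lit 2449) (.leaf ((nat_lit 1337), [nat_lit 3, nat_lit 4, nat_lit 5, nat_lit 2, nat_lit 5, nat_lit 3, nat_lit 2, nat_lit 4, nat_lit 1, nat_lit 0, nat_lit 1])) (.leaf ((nat_lit 39), [nat_lit 5, nat_lit 3, nat_lit 0, nat_lit 5, nat_lit 1, nat_lit 0, nat_lit 1, nat_lit 4, nat_lit 3, nat_lit 2, nat_lit 0, nat_lit 1])))) (.node (nat_lit 2451) (.leaf ((nat_lit 1282), [nat_lit 3, nat_lit 5, nat_lit 3, nat_lit 0, nat_lit 5, nat_lit 2, nat_lit 0, nat_lit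 3, nat_lit 0, nat_lit 4, nat_lit 1, nat_lit 0, nat_lit 2, nat_lit 2, nat_lit 0, nat_lit 2, nat_lit 0])) (.node (nat_lit 2452) (.leaf ((nat_lit 1385), [nat_lit 5, nat_lit 4, nat_lit 5, nat_lit 1, nat_lit 5, nat_lit 3, nat_lit 2, nat_lit 2, nat_lit 0, nat_lit 4, nat_lit 0, nat_lit 1, nat_lit 0, nat_lit 2, nat_lit 2, nat_lit 0, nat_lit 1])) (.leaf ((nat_lit 177), [nat_lit 0, nat_lit 5, nat_lit 2, nat_lit 5, nat_lit 3, nat_lit 2, nat_lit 4, nat_lit 2, nat_lit 4, nat_lit 0, nat_lit 2, nat_lit 0, nat_lit 2, nat_lit 2, nat_lit 0, nat_lit 1, nat_lit 0]))))))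
 (.node (nat_lit 2458) (.node (nat_lit 2455) (.node (nat_lit 2454) (.leaf ((nat_lit 1005), [nat_lit 0, nat_lit 5, nat_lit 3, nat_lit 2, nat_lit 0, nat_lit 3, nat_lit 0, nat_lit 2, nat_lit 0, nat_lit 2, nat_lit 2, nat_lit 0, nat_lit 1, nat_lit 0])) (.leaf ((nat_lit 903), [nat_lit 3, nat_lit 5, nat_lit 2, nat_lit 3, nat_lit 0, nat_lit 5, nat_lit 1, nat_lit 3, nat_lit 1, nat_lit 3, nat_lit 0, nat_lit 3, nat_lit 1, nat_lit 0, nat_lit 2, nat_lit 0]))) (.node (nat_lit 2456) (.leaf ((nat_lit 1296), [nat_lit 2, nat_lit 0, nat_lit 2, nat_lit 5, nat_lit 4, nat_lit 1, nat_lit 0, nat_lit 3, nat_lit 1, nat_lit 0, nat_lit 2])) (.node (nat_lit 2457) (.leaf ((nat_lit 83), [nat_lit 1, nat_lit 3, nat_lit 2, nat_lit 5, nat_lit 4, nat_lit 3, nat_lit 2, nat_lit 4, nat_lit 3, nat_lit 0, nat_lit 1, nat_lit 0, nat_lit 2, nat_lit 0, nat_lit 2, nat_lit 0])) (.leaf ((nat_lit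 1195), [nat_lit 4, nat_lit 2, nat_lit 5, nat_lit 1, nat_lit 5, nat_lit 2, nat_lit 4, nat_lit 3, nat_lit 2, nat_lit 2, nat_lit 3, nat_lit 0, nat_lit 1, nat_lit 0, nat_lit 2, nat_lit 2, nat_lit 0])))))
 (.node (nat_lit 2461) (.node (nat_lit 2459) (.leaf ((nat_lit 73), [nat_lit 2, nat_lit 4, nat_lit 0, nat_lit 5, nat_lit 3, nat_lit 2, nat_lit 3, nat_lit 0, nat_lit 4, nat_lit 1, nat_lit 0, nat_lit 2, nat_lit 2, nat_lit 0])) (.node (nat_lit 2460) (.leaf ((nat_lit 1272), [nat_lit 2, nat_lit 0, nat_lit 1, nat_lit 5, nat_lit 1, nat_lit 3, nat_lit 2, nat_lit 2, nat_lit 3, nat_lit 0, nat_lit 1, nat_lit 0, nat_lit 1, nat_lit 0])) (.leaf ((nat_lit 558), [nat_lit 5, nat_lit 4, nat_lit 2, nat_lit 5, nat_lit 2, nat_lit 3, nat_lit 4, nat_lit 1, nat_lit 3, nat_lit 0, nat_lit 1, nat_lit 0, nat_lit 2, nat_lit 2, nat_lit 0])))) (.node (nat_lit 2462) (.leaf ((nat_lit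 1180), [nat_lit 1, nat_lit 5, nat_lit 0, nat_lit 5, nat_lit 3, nat_lit 4, nat_lit 2, nat_lit 4, nat_lit 2, nat_lit 3, nat_lit 0, nat_lit 2, nat_lit 0, nat_lit 1, nat_lit 0])) (.node (nat_lit 2463) (.leaf ((nat_lit 812), [nat_lit 3, nat_lit 5, nat_lit 1, nat_lit 3, nat_lit 2, nat_lit 5, nat_lit 4, nat_lit 2, nat_lit 2, nat_lit 4, nat_lit 3, nat_lit 2, nat_lit 2, nat_lit 0, nat_lit 2, nat_lit 2, nat_lit 0])) (.leaf ((nat_lit 131), [nat_lit 1, nat_lit 0, nat_lit 5, nat_lit 3, nat_lit 5, nat_lit 3, nat_lit 1, nat_lit 3, nat_lit 2, nat_lit 0]))))))))))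
noncomputable def pWd_14 : Tr (ℕ × List ℕ) := (.node (nat_lit 2552) (.node (nat_lit 2508) (.node (nat_lit 2486) (.node (nat_lit 2475) (.node (nat_lit 2469) (.node (nat_lit 2466) (.node (nat_lit 2465) (.leaf ((nat_lit 538), [nat_lit 5, nat_lit 2, nat_lit 3, nat_lit 5, nat_lit 2, nat_lit 4, nat_lit 2, nat_lit 3, nat_lit 1, nat_lit 3, nat_lit 2, nat_lit 0, nat_lit 2, nat_lit 2, nat_lit 0, nat_lit 2])) (.leaf ((nat_lit 550), [nat_lit 1, nat_lit 4, nat_lit 5, nat_lit 1, nat_lit 5, nat_lit 0, nat_lit 2, nat_lit 4, nat_lit 3, nat_lit 0, nat_lit 2, nat_lit 0]))) (.node (nat_lit 2467) (.leaf ((nat_lit 629), [nat_lit 3, nat_lit 5, nat_lit 2, nat_lit 3, nat_lit 2, nat_lit 4, nat_lit 0, nat_lit 2, nat_lit 0, nat_lit 2, nat_lit 2, nat_lit 0, nat_lit 1])) (.node (nat_lit 2468) (.leaf ((nat_lit 1341), [nat_lit 2, nat_lit 0, nat_lit 2, nat_lit 5, nat_lit 1, nat_lit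 0, nat_lit 2, nat_lit 3, nat_lit 0, nat_lit 2, nat_lit 2, nat_lit 0, nat_lit 2, nat_lit 2])) (.leaf ((nat_lit 1161), [nat_lit 0, nat_lit 5, nat_lit 3, nat_lit 5, nat_lit 3, nat_lit 4, nat_lit 1, nat_lit 4, nat_lit 3, nat_lit 0, nat_lit 2, nat_lit 2, nat_lit 0, nat_lit 2, nat_lit 0])))))
 (.node (nat_lit 2472) (.node (nat_lit 2470) (.leaf ((nat_lit 1316), [nat_lit 1, nat_lit 5, nat_lit 2, nat_lit 5, nat_lit 3, nat_lit 0, nat_lit 4, nat_lit 1, nat_lit 0, nat_lit 3, nat_lit 0, nat_lit 1, nat_lit 0])) (.node (nat_lit 2471) (.leaf ((nat_lit 831), [nat_lit 5, nat_lit 3, nat_lit 5, nat_lit 2, nat_lit 0, nat_lit 4, nat_lit 1, nat_lit 4, nat_lit 0, nat_lit 2, nat_lit 2, nat_lit 0, nat_lit 1, nat_lit 0])) (.leaf ((nat_lit 818), [nat_lit 4, nat_lit 5, nat_lit 2, nat_lit 0, nat_lit 5, nat_lit 3, nat_lit 2, nat_lit 0, nat_lit 3, nat_lit 1, nat_lit 0, nat_lit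 2, nat_lit 2, nat_lit 0, nat_lit 1, nat_lit 0])))) (.node (nat_lit 2473) (.leaf ((nat_lit 631), [nat_lit 3, nat_lit 1, nat_lit 5, nat_lit 0, nat_lit 5, nat_lit 2, nat_lit 2, nat_lit 4, nat_lit 3, nat_lit 2, nat_lit 2])) (.node (nat_lit 2474) (.leaf ((nat_lit 1342), [nat_lit 3, nat_lit 5, nat_lit 2, nat_lit 3, nat_lit 0, nat_lit 5, nat_lit 4, nat_lit 0, nat_lit 1, nat_lit 4, nat_lit 0, nat_lit 1, nat_lit 0, nat_lit 2, nat_lit 0, nat_lit 2])) (.leaf ((nat_lit 994), [nat_lit 5, nat_lit 4, nat_lit 2, nat_lit 5, nat_lit 2, nat_lit 4, nat_lit 0, nat_lit 1, nat_lit 4, nat_lit 1, nat_lit 0, nat_lit 2, nat_lit 2]))))))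
 (.node (nat_lit 2480) (.node (nat_lit 2477) (.node (nat_lit 2476) (.leaf ((nat_lit 1361), [nat_lit 1, nat_lit 5, nat_lit 3, nat_lit 5, nat_lit 3, nat_lit 1, nat_lit 3, nat_lit 4, nat_lit 3, nat_lit 2, nat_lit 0, nat_lit 2, nat_lit 0, nat_lit 1, nat_lit 0])) (.leaf ((nat_lit 1345), [nat_lit 3, nat_lit 4, nat_lit 3, nat_lit 5, nat_lit 1, nat_lit 0, nat_lit 4, nat_lit 1, nat_lit 4, nat_lit 0, nat_lit 2, nat_lit 0, nat_lit 2]))) (.node (nat_lit 2478) (.leaf ((nat_lit 539), [nat_lit 5, nat_lit 0, nat_lit 4, nat_lit 5, nat_lit 3, nat_lit 0, nat_lit 1, nat_lit 4, nat_lit 0, nat_lit 2, nat_lit 2, nat_lit 0, nat_lit 2, nat_lit 0, nat_lit 1])) (.node (nat_lit 2479) (.leaf ((nat_lit 1024), [nat_lit 4, nat_lit 5, nat_lit 2, nat_lit 5, nat_lit 2, nat_lit 3, nat_lit 4, nat_lit 0, nat_lit 2, nat_lit 4, nat_lit 2, nat_lit 0, nat_lit 1, nat_lit 0, nat_lit 2, nat_lit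 2, nat_lit 0])) (.leaf ((nat_lit 973), [nat_lit 0, nat_lit 4, nat_lit 5, nat_lit 2, nat_lit 3, nat_lit 1, nat_lit 0, nat_lit 2, nat_lit 3, nat_lit 0, nat_lit 2, nat_lit 2, nat_lit 0, nat_lit 1, nat_lit 0])))))
 (.node (nat_lit 2483) (.node (nat_lit 2481) (.leaf ((nat_lit 1370), [nat_lit 2, nat_lit 5, nat_lit 4, nat_lit 5, nat_lit 3, nat_lit 0, nat_lit 1, nat_lit 3, nat_lit 4, nat_lit 2, nat_lit 3, nat_lit 0, nat_lit 2, nat_lit 0, nat_lit 2, nat_lit 0])) (.node (nat_lit 2482) (.leaf ((nat_lit 1343), [nat_lit 4, nat_lit 5, nat_lit 0, nat_lit 3, nat_lit 5, nat_lit 1, nat_lit 4, nat_lit 0, nat_lit 3, nat_lit 4, nat_lit 2, nat_lit 0, nat_lit 2, nat_lit 2, nat_lit 0, nat_lit 2, nat_lit 2, nat_lit 0])) (.leaf ((nat_lit 931), [nat_lit 2, nat_lit 4, nat_lit 5, nat_lit 2, nat_lit 0, nat_lit 5, nat_lit 2, nat_lit 4, nat_lit 3, nat_lit 0, nat_lit 2, nat_lit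 4, nat_lit 0, nat_lit 2, nat_lit 2])))) (.node (nat_lit 2484) (.leaf ((nat_lit 995), [nat_lit 2, nat_lit 5, nat_lit 1, nat_lit 5, nat_lit 3, nat_lit 2, nat_lit 0, nat_lit 2, nat_lit 3, nat_lit 0, nat_lit 1, nat_lit 0])) (.node (nat_lit 2485) (.leaf ((nat_lit 953), [nat_lit 4, nat_lit 5, nat_lit 0, nat_lit 3, nat_lit 5, nat_lit 3, nat_lit 4, nat_lit 2, nat_lit 3, nat_lit 2, nat_lit 0, nat_lit 2])) (.leaf ((nat_lit 1358), [nat_lit 5, nat_lit 2, nat_lit 3, nat_lit 5, nat_lit 3, nat_lit 1, nat_lit 3, nat_lit 1, nat_lit 3, nat_lit 2, nat_lit 0, nat_lit 2, nat_lit 2, nat_lit 0, nat_lit 2, nat_lit 2])))))))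
 (.node (nat_lit 2497) (.node (nat_lit 2491) (.node (nat_lit 2488) (.node (nat_lit 2487) (.leaf ((nat_lit 1157), [nat_lit 2, nat_lit 0, nat_lit 2, nat_lit 5, nat_lit 3, nat_lit 0, nat_lit 1, nat_lit 3, nat_lit 4, nat_lit 2, nat_lit 3, nat_lit 2, nat_lit 2, nat_lit 0, nat_lit 2, nat_lit 2, nat_lit 0, nat_lit 1, nat_lit 0])) (.leaf ((nat_lit 503), [nat_lit 4, nat_lit 2, nat_lit 0, nat_lit 5, nat_lit 4, nat_lit 1, nat_lit 0, nat_lit 3, nat_lit 4, nat_lit 0, nat_lit 1, nat_lit 0, nat_lit 2, nat_lit 2, nat_lit 0, nat_lit 2, nat_lit 0]))) (.node (nat_lit 2489) (.leaf ((nat_lit 362), [nat_lit 0, nat_lit 5, nat_lit 0, nat_lit 1, nat_lit 5, nat_lit 3, nat_lit 4, nat_lit 0, nat_lit 2, nat_lit 4, nat_lit 2, nat_lit 2, nat_lit 0, nat_lit 2, nat_lit 0, nat_lit 1])) (.node (nat_lit 2490) (.leaf ((nat_lit 354), [nat_lit 1, nat_lit 5, nat_lit 3, nat_lit 5, nat_lit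 2, nat_lit 2, nat_lit 4, nat_lit 2, nat_lit 4, nat_lit 0, nat_lit 1, nat_lit 0, nat_lit 1, nat_lit 0])) (.leaf ((nat_lit 922), [nat_lit 5, nat_lit 2, nat_lit 5, nat_lit 2, nat_lit 3, nat_lit 1, nat_lit 3, nat_lit 1, nat_lit 0, nat_lit 1, nat_lit 0])))))
 (.node (nat_lit 2494) (.node (nat_lit 2492) (.leaf ((nat_lit 1331), [nat_lit 3, nat_lit 5, nat_lit 2, nat_lit 5, nat_lit 3, nat_lit 4, nat_lit 2, nat_lit 3, nat_lit 0, nat_lit 2, nat_lit 0, nat_lit 1, nat_lit 0, nat_lit 1])) (.node (nat_lit 2493) (.leaf ((nat_lit 610), [nat_lit 5, nat_lit 1, nat_lit 3, nat_lit 2, nat_lit 5, nat_lit 3, nat_lit 4, nat_lit 3, nat_lit 1, nat_lit 4, nat_lit 3, nat_lit 0, nat_lit 2, nat_lit 0, nat_lit 1])) (.leaf ((nat_lit 344), [nat_lit 2, nat_lit 3, nat_lit 5, nat_lit 0, nat_lit 5, nat_lit 1, nat_lit 3, nat_lit 2, nat_lit 4, nat_lit 3, nat_lit 2, nat_lit 0, nat_lit 2,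 nat_lit 0, nat_lit 1, nat_lit 0, nat_lit 1])))) (.node (nat_lit 2495) (.leaf ((nat_lit 318), [nat_lit 4, nat_lit 1, nat_lit 0, nat_lit 5, nat_lit 3, nat_lit 2, nat_lit 0, nat_lit 2, nat_lit 3, nat_lit 0, nat_lit 2, nat_lit 0, nat_lit 1, nat_lit 0, nat_lit 1])) (.node (nat_lit 2496) (.leaf ((nat_lit 660), [nat_lit 0, nat_lit 4, nat_lit 5, nat_lit 3, nat_lit 0, nat_lit 4, nat_lit 1, nat_lit 3, nat_lit 0, nat_lit 1, nat_lit 0, nat_lit 1, nat_lit 0])) (.leaf ((nat_lit 935), [nat_lit 3, nat_lit 2, nat_lit 0, nat_lit 3, nat_lit 1, nat_lit 4, nat_lit 2, nat_lit 0, nat_lit 1, nat_lit 0]))))))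
 (.node (nat_lit 2502) (.node (nat_lit 2499) (.node (nat_lit 2498) (.leaf ((nat_lit 1066), [nat_lit 2, nat_lit 5, nat_lit 4, nat_lit 5, nat_lit 2, nat_lit 4, nat_lit 2, nat_lit 3, nat_lit 2, nat_lit 3, nat_lit 2, nat_lit 0, nat_lit 1, nat_lit 0, nat_lit 2, nat_lit 0, nat_lit 2, nat_lit 0])) (.leaf ((nat_lit 1386), [nat_lit 4, nat_lit 5, nat_lit 3, nat_lit 0, nat_lit 5, nat_lit 3, nat_lit 0, nat_lit 3, nat_lit 2, nat_lit 2, nat_lit 0, nat_lit 2, nat_lit 2, nat_lit 0, nat_lit 2, nat_lit 0]))) (.node (nat_lit 2500) (.leaf ((nat_lit 1151), [nat_lit 4, nat_lit 5, nat_lit 4, nat_lit 0, nat_lit 5, nat_lit 2, nat_lit 3, nat_lit 4, nat_lit 1, nat_lit 0, nat_lit 3, nat_lit 1, nat_lit 0, nat_lit 2, nat_lit 2, nat_lit 0, nat_lit 1, nat_lit 0])) (.node (nat_lit 2501) (.leaf ((nat_lit 1098), [nat_lit 2, nat_lit 5, nat_lit 2, nat_lit 0, nat_lit 1, nat_lit 4, nat_lit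 3, nat_lit 0, nat_lit 2, nat_lit 2, nat_lit 0, nat_lit 1])) (.leaf ((nat_lit 1262), [nat_lit 3, nat_lit 5, nat_lit 2, nat_lit 3, nat_lit 0, nat_lit 5, nat_lit 1, nat_lit 4, nat_lit 2, nat_lit 4, nat_lit 3, nat_lit 1, nat_lit 0, nat_lit 2, nat_lit 0])))))
 (.node (nat_lit 2505) (.node (nat_lit 2503) (.leaf ((nat_lit 1324), [nat_lit 2, nat_lit 4, nat_lit 2, nat_lit 0, nat_lit 5, nat_lit 1, nat_lit 4, nat_lit 0, nat_lit 2, nat_lit 0, nat_lit 2, nat_lit 2, nat_lit 0, nat_lit 1])) (.node (nat_lit 2504) (.leaf ((nat_lit 821), [nat_lit 5, nat_lit 0, nat_lit 1, nat_lit 5, nat_lit 2, nat_lit 2, nat_lit 3, nat_lit 0, nat_lit 2, nat_lit 2, nat_lit 0, nat_lit 1])) (.leaf ((nat_lit 651), [nat_lit 5, nat_lit 3, nat_lit 0, nat_lit 5, nat_lit 4, nat_lit 1, nat_lit 3, nat_lit 0, nat_lit 1, nat_lit 4, nat_lit 2, nat_lit 2, nat_lit 0, nat_lit 1, nat_lit 0, nat_lit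 2, nat_lit 2, nat_lit 0])))) (.node (nat_lit 2506) (.leaf ((nat_lit 1197), [nat_lit 2, nat_lit 0, nat_lit 5, nat_lit 1, nat_lit 0, nat_lit 2, nat_lit 0, nat_lit 2, nat_lit 4, nat_lit 1, nat_lit 0, nat_lit 2, nat_lit 0, nat_lit 2, nat_lit 2, nat_lit 0])) (.node (nat_lit 2507) (.leaf ((nat_lit 1271), [nat_lit 4, nat_lit 3, nat_lit 0, nat_lit 5, nat_lit 0, nat_lit 3, nat_lit 4, nat_lit 1, nat_lit 0, nat_lit 3, nat_lit 0, nat_lit 1, nat_lit 0, nat_lit 2, nat_lit 2, nat_lit 0])) (.leaf ((nat_lit 521), [nat_lit 1, nat_lit 3, nat_lit 2, nat_lit 5, nat_lit 2, nat_lit 2, nat_lit 4, nat_lit 3, nat_lit 1, nat_lit 0, nat_lit 1, nat_lit 0]))))))))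
 (.node (nat_lit 2530) (.node (nat_lit 2519) (.node (nat_lit 2513) (.node (nat_lit 2510) (.node (nat_lit 2509) (.leaf ((nat_lit 1049), [nat_lit 3, nat_lit 2, nat_lit 3, nat_lit 5, nat_lit 4, nat_lit 2, nat_lit 3, nat_lit 0, nat_lit 1, nat_lit 0, nat_lit 2, nat_lit 2, nat_lit 0, nat_lit 2, nat_lit 0])) (.leaf ((nat_lit 1378), [nat_lit 0, nat_lit 2, nat_lit 5, nat_lit 3, nat_lit 5, nat_lit 2, nat_lit 4, nat_lit 0, nat_lit 4, nat_lit 0, nat_lit 4, nat_lit 2, nat_lit 0, nat_lit 1, nat_lit 0, nat_lit 2, nat_lit 2]))) (.node (nat_lit 2511) (.leaf ((nat_lit 775), [nat_lit 0, nat_lit 4, nat_lit 5, nat_lit 3, nat_lit 2, nat_lit 3, nat_lit 1, nat_lit 0, nat_lit 1])) (.node (nat_lit 2512) (.leaf ((nat_lit 848), [nat_lit 2, nat_lit 5, nat_lit 1, nat_lit 5, nat_lit 0, nat_lit 1, nat_lit 4, nat_lit 3, nat_lit 2, nat_lit 0, nat_lit 2, nat_lit 2, nat_lit 0, nat_lit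 2, nat_lit 0])) (.leaf ((nat_lit 755), [nat_lit 1, nat_lit 4, nat_lit 1, nat_lit 0, nat_lit 2, nat_lit 0, nat_lit 1, nat_lit 0])))))
 (.node (nat_lit 2516) (.node (nat_lit 2514) (.leaf ((nat_lit 463), [nat_lit 0, nat_lit 5, nat_lit 3, nat_lit 5, nat_lit 1, nat_lit 3, nat_lit 0, nat_lit 3, nat_lit 2, nat_lit 0, nat_lit 2, nat_lit 2, nat_lit 0, nat_lit 2, nat_lit 2, nat_lit 0])) (.node (nat_lit 2515) (.leaf ((nat_lit 425), [nat_lit 4, nat_lit 3, nat_lit 5, nat_lit 0, nat_lit 3, nat_lit 4, nat_lit 2, nat_lit 0, nat_lit 2, nat_lit 0, nat_lit 1, nat_lit 0, nat_lit 1, nat_lit 0])) (.leaf ((nat_lit 1232), [nat_lit 5, nat_lit 4, nat_lit 2, nat_lit 5, nat_lit 0, nat_lit 2, nat_lit 2, nat_lit 3, nat_lit 2, nat_lit 0, nat_lit 2, nat_lit 2, nat_lit 0, nat_lit 2, nat_lit 0])))) (.node (nat_lit 2517) (.leaf ((nat_lit 661), [nat_lit 4, nat_lit 5, nat_lit 0, nat_lit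 3, nat_lit 5, nat_lit 1, nat_lit 4, nat_lit 0, nat_lit 4, nat_lit 3, nat_lit 0, nat_lit 2, nat_lit 2, nat_lit 0, nat_lit 1, nat_lit 0, nat_lit 2, nat_lit 0])) (.node (nat_lit 2518) (.leaf ((nat_lit 101), [nat_lit 1, nat_lit 0, nat_lit 2, nat_lit 5, nat_lit 0, nat_lit 4, nat_lit 3, nat_lit 2, nat_lit 0, nat_lit 3, nat_lit 2, nat_lit 2, nat_lit 0, nat_lit 2, nat_lit 0, nat_lit 1, nat_lit 0])) (.leaf ((nat_lit 988), [nat_lit 3, nat_lit 2, nat_lit 3, nat_lit 5, nat_lit 0, nat_lit 3, nat_lit 1, nat_lit 3, nat_lit 4, nat_lit 3, nat_lit 0, nat_lit 1, nat_lit 0, nat_lit 2, nat_lit 2, nat_lit 0, nat_lit 1, nat_lit 0]))))))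
 (.node (nat_lit 2524) (.node (nat_lit 2521) (.node (nat_lit 2520) (.leaf ((nat_lit 792), [nat_lit 2, nat_lit 3, nat_lit 0, nat_lit 5, nat_lit 4, nat_lit 1, nat_lit 0, nat_lit 3, nat_lit 2, nat_lit 3, nat_lit 0, nat_lit 1, nat_lit 0, nat_lit 2, nat_lit 0, nat_lit 2])) (.leaf ((nat_lit 1377), [nat_lit 4, nat_lit 3, nat_lit 5, nat_lit 2, nat_lit 5, nat_lit 4, nat_lit 1, nat_lit 3, nat_lit 4, nat_lit 2, nat_lit 3, nat_lit 0, nat_lit 1, nat_lit 0, nat_lit 2, nat_lit 2, nat_lit 0, nat_lit 2]))) (.node (nat_lit 2522) (.leaf ((nat_lit 1236), [nat_lit 2, nat_lit 3, nat_lit 0, nat_lit 5, nat_lit 3, nat_lit 0, nat_lit 2, nat_lit 3, nat_lit 1, nat_lit 0, nat_lit 2, nat_lit 2, nat_lit 0, nat_lit 2, nat_lit 2])) (.node (nat_lit 2523) (.leaf ((nat_lit 410), [nat_lit 1, nat_lit 5, nat_lit 3, nat_lit 5, nat_lit 4, nat_lit 1, nat_lit 0, nat_lit 2, nat_lit 4, nat_lit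 0, nat_lit 1, nat_lit 0, nat_lit 2, nat_lit 2, nat_lit 0, nat_lit 2, nat_lit 0])) (.leaf ((nat_lit 90), [nat_lit 2, nat_lit 0, nat_lit 2, nat_lit 5, nat_lit 1, nat_lit 4, nat_lit 0, nat_lit 3, nat_lit 2, nat_lit 3, nat_lit 0, nat_lit 2, nat_lit 2, nat_lit 0, nat_lit 2, nat_lit 2, nat_lit 0])))))
 (.node (nat_lit 2527) (.node (nat_lit 2525) (.leaf ((nat_lit 341), [nat_lit 0, nat_lit 4, nat_lit 5, nat_lit 0, nat_lit 1, nat_lit 4, nat_lit 3, nat_lit 0, nat_lit 1])) (.node (nat_lit 2526) (.leaf ((nat_lit 1387), [nat_lit 0, nat_lit 2, nat_lit 5, nat_lit 3, nat_lit 1, nat_lit 4, nat_lit 0, nat_lit 4, nat_lit 3, nat_lit 0, nat_lit 1, nat_lit 0, nat_lit 2, nat_lit 2, nat_lit 0, nat_lit 1, nat_lit 0])) (.leaf ((nat_lit 1190), [nat_lit 0, nat_lit 5, nat_lit 2, nat_lit 3, nat_lit 4, nat_lit 1, nat_lit 3, nat_lit 2, nat_lit 0, nat_lit 1, nat_lit 0, nat_lit 1,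 nat_lit 0, nat_lit 2, nat_lit 0])))) (.node (nat_lit 2528) (.leaf ((nat_lit 184), [nat_lit 5, nat_lit 1, nat_lit 5, nat_lit 4, nat_lit 0, nat_lit 1, nat_lit 4, nat_lit 1, nat_lit 0, nat_lit 2])) (.node (nat_lit 2529) (.leaf ((nat_lit 890), [nat_lit 3, nat_lit 5, nat_lit 2, nat_lit 3, nat_lit 0, nat_lit 5, nat_lit 1, nat_lit 3, nat_lit 4, nat_lit 3, nat_lit 1, nat_lit 0, nat_lit 2, nat_lit 0, nat_lit 2])) (.leaf ((nat_lit 1148), [nat_lit 4, nat_lit 2, nat_lit 5, nat_lit 3, nat_lit 5, nat_lit 3, nat_lit 4, nat_lit 0, nat_lit 3, nat_lit 4, nat_lit 2, nat_lit 2, nat_lit 0, nat_lit 1, nat_lit 0, nat_lit 2, nat_lit 2])))))))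
 (.node (nat_lit 2541) (.node (nat_lit 2535) (.node (nat_lit 2532) (.node (nat_lit 2531) (.leaf ((nat_lit 1328), [nat_lit 5, nat_lit 4, nat_lit 3, nat_lit 5, nat_lit 2, nat_lit 5, nat_lit 4, nat_lit 3, nat_lit 1, nat_lit 4, nat_lit 3, nat_lit 1, nat_lit 0, nat_lit 1, nat_lit 0, nat_lit 2, nat_lit 0])) (.leaf ((nat_lit 1388), [nat_lit 3, nat_lit 5, nat_lit 0, nat_lit 5, nat_lit 2, nat_lit 3, nat_lit 4, nat_lit 3, nat_lit 1, nat_lit 0, nat_lit 2, nat_lit 2]))) (.node (nat_lit 2533) (.leaf ((nat_lit 1320), [nat_lit 4, nat_lit 3, nat_lit 5, nat_lit 2, nat_lit 5, nat_lit 1, nat_lit 3, nat_lit 2, nat_lit 4, nat_lit 2, nat_lit 3, nat_lit 0, nat_lit 1, nat_lit 0])) (.node (nat_lit 2534) (.leaf ((nat_lit 471), [nat_lit 0, nat_lit 2, nat_lit 4, nat_lit 0, nat_lit 5, nat_lit 4, nat_lit 3, nat_lit 0, nat_lit 2, nat_lit 3, nat_lit 2, nat_lit 0, nat_lit 1, nat_lit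 0, nat_lit 1, nat_lit 0, nat_lit 2, nat_lit 0])) (.leaf ((nat_lit 869), [nat_lit 5, nat_lit 2, nat_lit 3, nat_lit 5, nat_lit 0, nat_lit 2, nat_lit 4, nat_lit 2, nat_lit 4, nat_lit 1, nat_lit 0, nat_lit 2, nat_lit 2, nat_lit 0, nat_lit 2, nat_lit 2])))))
 (.node (nat_lit 2538) (.node (nat_lit 2536) (.leaf ((nat_lit 1389), [nat_lit 4, nat_lit 2, nat_lit 5, nat_lit 4, nat_lit 1, nat_lit 0, nat_lit 1, nat_lit 0, nat_lit 3, nat_lit 2, nat_lit 0, nat_lit 2, nat_lit 2, nat_lit 0])) (.node (nat_lit 2537) (.leaf ((nat_lit 1390), [nat_lit 3, nat_lit 0, nat_lit 5, nat_lit 3, nat_lit 5, nat_lit 4, nat_lit 0, nat_lit 3, nat_lit 0, nat_lit 2, nat_lit 3, nat_lit 0, nat_lit 1, nat_lit 0, nat_lit 2, nat_lit 0, nat_lit 2, nat_lit 2, nat_lit 0])) (.leaf ((nat_lit 1173), [nat_lit 2, nat_lit 4, nat_lit 2, nat_lit 0, nat_lit 5, nat_lit 0, nat_lit 3, nat_lit 0, nat_lit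 2, nat_lit 3, nat_lit 0, nat_lit 2, nat_lit 0, nat_lit 1, nat_lit 0, nat_lit 1, nat_lit 0])))) (.node (nat_lit 2539) (.leaf ((nat_lit 1332), [nat_lit 4, nat_lit 5, nat_lit 1, nat_lit 5, nat_lit 3, nat_lit 4, nat_lit 2, nat_lit 0, nat_lit 2, nat_lit 3, nat_lit 2, nat_lit 0, nat_lit 2, nat_lit 2, nat_lit 0])) (.node (nat_lit 2540) (.leaf ((nat_lit 612), [nat_lit 3, nat_lit 0, nat_lit 2, nat_lit 5, nat_lit 3, nat_lit 2, nat_lit 0, nat_lit 2, nat_lit 3, nat_lit 0, nat_lit 2])) (.leaf ((nat_lit 1224), [nat_lit 4, nat_lit 5, nat_lit 3, nat_lit 2, nat_lit 5, nat_lit 0, nat_lit 3, nat_lit 2, nat_lit 4, nat_lit 2]))))))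
 (.node (nat_lit 2546) (.node (nat_lit 2543) (.node (nat_lit 2542) (.leaf ((nat_lit 1391), [nat_lit 5, nat_lit 0, nat_lit 3, nat_lit 5, nat_lit 1, nat_lit 4, nat_lit 1, nat_lit 3, nat_lit 0, nat_lit 1, nat_lit 0])) (.leaf ((nat_lit 716), [nat_lit 4, nat_lit 5, nat_lit 4, nat_lit 0, nat_lit 5, nat_lit 4, nat_lit 2, nat_lit 0, nat_lit 2, nat_lit 4, nat_lit 2, nat_lit 2, nat_lit 0, nat_lit 2, nat_lit 2, nat_lit 0, nat_lit 2, nat_lit 2]))) (.node (nat_lit 2544) (.leaf ((nat_lit 816), [nat_lit 5, nat_lit 4, nat_lit 3, nat_lit 5, nat_lit 2, nat_lit 5, nat_lit 3, nat_lit 4, nat_lit 0, nat_lit 2, nat_lit 4, nat_lit 1, nat_lit 0, nat_lit 1, nat_lit 0, nat_lit 2])) (.node (nat_lit 2545) (.leaf ((nat_lit 507), [nat_lit 5, nat_lit 4, nat_lit 5, nat_lit 4, nat_lit 2, nat_lit 3, nat_lit 2, nat_lit 2, nat_lit 0, nat_lit 1])) (.leaf ((nat_lit 773), [nat_lit 1, nat_lit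 4, nat_lit 2, nat_lit 5, nat_lit 1, nat_lit 3, nat_lit 4, nat_lit 3, nat_lit 1, nat_lit 3, nat_lit 2, nat_lit 0, nat_lit 1, nat_lit 0, nat_lit 2, nat_lit 0])))))
 (.node (nat_lit 2549) (.node (nat_lit 2547) (.leaf ((nat_lit 1086), [nat_lit 3, nat_lit 0, nat_lit 5, nat_lit 3, nat_lit 5, nat_lit 3, nat_lit 0, nat_lit 4, nat_lit 0, nat_lit 4, nat_lit 1, nat_lit 0, nat_lit 2])) (.node (nat_lit 2548) (.leaf ((nat_lit 799), [nat_lit 3, nat_lit 1, nat_lit 3, nat_lit 0, nat_lit 5, nat_lit 3, nat_lit 2, nat_lit 3, nat_lit 0, nat_lit 3, nat_lit 2, nat_lit 2])) (.leaf ((nat_lit 1281), [nat_lit 3, nat_lit 1, nat_lit 3, nat_lit 0, nat_lit 5, nat_lit 0, nat_lit 2, nat_lit 3, nat_lit 1, nat_lit 3, nat_lit 0, nat_lit 2, nat_lit 0, nat_lit 2, nat_lit 0])))) (.node (nat_lit 2550) (.leaf ((nat_lit 854), [nat_lit 0, nat_lit 5, nat_lit 4, nat_lit 1, nat_lit 0, nat_lit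 4, nat_lit 3, nat_lit 1, nat_lit 0, nat_lit 2, nat_lit 0, nat_lit 2])) (.node (nat_lit 2551) (.leaf ((nat_lit 1298), [nat_lit 4, nat_lit 0, nat_lit 5, nat_lit 2, nat_lit 5, nat_lit 2, nat_lit 4, nat_lit 3, nat_lit 0, nat_lit 3, nat_lit 0, nat_lit 1, nat_lit 0, nat_lit 2, nat_lit 0, nat_lit 2, nat_lit 0])) (.leaf ((nat_lit 581), [nat_lit 0, nat_lit 5, nat_lit 3, nat_lit 5, nat_lit 3, nat_lit 0, nat_lit 3, nat_lit 0, nat_lit 4, nat_lit 2, nat_lit 2, nat_lit 0, nat_lit 2, nat_lit 2, nat_lit 0, nat_lit 2, nat_lit 2])))))))))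
 (.node (nat_lit 2596) (.node (nat_lit 2574) (.node (nat_lit 2563) (.node (nat_lit 2557) (.node (nat_lit 2554) (.node (nat_lit 2553) (.leaf ((nat_lit 1241), [nat_lit 0, nat_lit 2, nat_lit 4, nat_lit 0, nat_lit 5, nat_lit 3, nat_lit 0, nat_lit 3, nat_lit 1, nat_lit 4, nat_lit 2, nat_lit 0, nat_lit 1, nat_lit 0, nat_lit 2])) (.leaf ((nat_lit 595), [nat_lit 4, nat_lit 3, nat_lit 5, nat_lit 0, nat_lit 5, nat_lit 3, nat_lit 4, nat_lit 1, nat_lit 0, nat_lit 4, nat_lit 2, nat_lit 0, nat_lit 2, nat_lit 0, nat_lit 1, nat_lit 0, nat_lit 1]))) (.node (nat_lit 2555) (.leaf ((nat_lit 1250), [nat_lit 2, nat_lit 4, nat_lit 5, nat_lit 2, nat_lit 0, nat_lit 5, nat_lit 1, nat_lit 4, nat_lit 0, nat_lit 4, nat_lit 0, nat_lit 1, nat_lit 0, nat_lit 2])) (.node (nat_lit 2556) (.leaf ((nat_lit 1270), [nat_lit 5, nat_lit 2, nat_lit 3, nat_lit 0, nat_lit 5, nat_lit 3, nat_lit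 2, nat_lit 3, nat_lit 2, nat_lit 2, nat_lit 3, nat_lit 1, nat_lit 0, nat_lit 2, nat_lit 2, nat_lit 0, nat_lit 2, nat_lit 2, nat_lit 0])) (.leaf ((nat_lit 191), [nat_lit 1, nat_lit 4, nat_lit 5, nat_lit 1, nat_lit 5, nat_lit 3, nat_lit 1, nat_lit 4, nat_lit 0, nat_lit 4, nat_lit 3, nat_lit 2, nat_lit 2, nat_lit 0, nat_lit 2, nat_lit 2, nat_lit 0, nat_lit 2])))))
 (.node (nat_lit 2560) (.node (nat_lit 2558) (.leaf ((nat_lit 1260), [nat_lit 3, nat_lit 2, nat_lit 5, nat_lit 0, nat_lit 5, nat_lit 1, nat_lit 0, nat_lit 4, nat_lit 3, nat_lit 2, nat_lit 0, nat_lit 1, nat_lit 0, nat_lit 1, nat_lit 0])) (.node (nat_lit 2559) (.leaf ((nat_lit 1347), [nat_lit 5, nat_lit 1, nat_lit 3, nat_lit 0, nat_lit 5, nat_lit 1, nat_lit 3, nat_lit 1, nat_lit 3, nat_lit 0, nat_lit 3, nat_lit 0, nat_lit 2, nat_lit 2, nat_lit 0, nat_lit 2])) (.leaf ((nat_lit 1269), [nat_lit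 5, nat_lit 1, nat_lit 3, nat_lit 0, nat_lit 5, nat_lit 0, nat_lit 2, nat_lit 4, nat_lit 3, nat_lit 2, nat_lit 3, nat_lit 0, nat_lit 2, nat_lit 2, nat_lit 0, nat_lit 2, nat_lit 0])))) (.node (nat_lit 2561) (.leaf ((nat_lit 1134), [nat_lit 2, nat_lit 3, nat_lit 0, nat_lit 5, nat_lit 4, nat_lit 3, nat_lit 2, nat_lit 3, nat_lit 0, nat_lit 3, nat_lit 2, nat_lit 0, nat_lit 2])) (.node (nat_lit 2562) (.leaf ((nat_lit 430), [nat_lit 2, nat_lit 5, nat_lit 2, nat_lit 3, nat_lit 4, nat_lit 0, nat_lit 2, nat_lit 4, nat_lit 1, nat_lit 0, nat_lit 1, nat_lit 0, nat_lit 2, nat_lit 0])) (.leaf ((nat_lit 1036), [nat_lit 4, nat_lit 5, nat_lit 1, nat_lit 5, nat_lit 2, nat_lit 0, nat_lit 4, nat_lit 2, nat_lit 0, nat_lit 2, nat_lit 0, nat_lit 1]))))))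
 (.node (nat_lit 2568) (.node (nat_lit 2565) (.node (nat_lit 2564) (.leaf ((nat_lit 426), [nat_lit 5, nat_lit 2, nat_lit 5, nat_lit 3, nat_lit 4, nat_lit 3, nat_lit 2, nat_lit 3, nat_lit 0, nat_lit 2, nat_lit 0, nat_lit 2, nat_lit 0])) (.leaf ((nat_lit 24), [nat_lit 3, nat_lit 1, nat_lit 3, nat_lit 0, nat_lit 5, nat_lit 3, nat_lit 0, nat_lit 4, nat_lit 1, nat_lit 3, nat_lit 1, nat_lit 0, nat_lit 2, nat_lit 2, nat_lit 0, nat_lit 1]))) (.node (nat_lit 2566) (.leaf ((nat_lit 159), [nat_lit 5, nat_lit 2, nat_lit 0, nat_lit 5, nat_lit 3, nat_lit 2, nat_lit 3, nat_lit 4, nat_lit 1, nat_lit 3, nat_lit 2, nat_lit 2, nat_lit 0, nat_lit 1, nat_lit 0, nat_lit 2])) (.node (nat_lit 2567) (.leaf ((nat_lit 16), [nat_lit 0, nat_lit 2, nat_lit 4, nat_lit 0, nat_lit 5, nat_lit 0, nat_lit 4, nat_lit 1, nat_lit 0, nat_lit 4, nat_lit 0, nat_lit 2, nat_lit 2, nat_lit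 0, nat_lit 1, nat_lit 0])) (.leaf ((nat_lit 1353), [nat_lit 1, nat_lit 5, nat_lit 4, nat_lit 1, nat_lit 0, nat_lit 1, nat_lit 0, nat_lit 3, nat_lit 0, nat_lit 2, nat_lit 2, nat_lit 0, nat_lit 1, nat_lit 0, nat_lit 2])))))
 (.node (nat_lit 2571) (.node (nat_lit 2569) (.leaf ((nat_lit 1100), [nat_lit 1, nat_lit 0, nat_lit 5, nat_lit 3, nat_lit 5, nat_lit 2, nat_lit 4, nat_lit 2, nat_lit 3, nat_lit 1, nat_lit 3, nat_lit 0, nat_lit 2, nat_lit 0, nat_lit 2])) (.node (nat_lit 2570) (.leaf ((nat_lit 1335), [nat_lit 4, nat_lit 1, nat_lit 5, nat_lit 0, nat_lit 5, nat_lit 4, nat_lit 3, nat_lit 1, nat_lit 3, nat_lit 1, nat_lit 3, nat_lit 1, nat_lit 0, nat_lit 1, nat_lit 0, nat_lit 2, nat_lit 0])) (.leaf ((nat_lit 1392), [nat_lit 5, nat_lit 2, nat_lit 5, nat_lit 4, nat_lit 1, nat_lit 3, nat_lit 2, nat_lit 2, nat_lit 3, nat_lit 1, nat_lit 0, nat_lit 2, nat_lit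 2, nat_lit 0, nat_lit 2, nat_lit 0])))) (.node (nat_lit 2572) (.leaf ((nat_lit 898), [nat_lit 3, nat_lit 4, nat_lit 3, nat_lit 5, nat_lit 3, nat_lit 2, nat_lit 3, nat_lit 2, nat_lit 0, nat_lit 4, nat_lit 2, nat_lit 2, nat_lit 0, nat_lit 2, nat_lit 2, nat_lit 0, nat_lit 1])) (.node (nat_lit 2573) (.leaf ((nat_lit 220), [nat_lit 3, nat_lit 5, nat_lit 3, nat_lit 0, nat_lit 5, nat_lit 2, nat_lit 3, nat_lit 2, nat_lit 2, nat_lit 0, nat_lit 2, nat_lit 2, nat_lit 0])) (.leaf ((nat_lit 786), [nat_lit 3, nat_lit 0, nat_lit 5, nat_lit 3, nat_lit 5, nat_lit 3, nat_lit 4, nat_lit 2, nat_lit 0, nat_lit 2, nat_lit 3, nat_lit 2, nat_lit 2])))))))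
 (.node (nat_lit 2585) (.node (nat_lit 2579) (.node (nat_lit 2576) (.node (nat_lit 2575) (.leaf ((nat_lit 1284), [nat_lit 2, nat_lit 2, nat_lit 5, nat_lit 1, nat_lit 5, nat_lit 2, nat_lit 0, nat_lit 2, nat_lit 3, nat_lit 0, nat_lit 2, nat_lit 0, nat_lit 1, nat_lit 0, nat_lit 1])) (.leaf ((nat_lit 1266), [nat_lit 5, nat_lit 1, nat_lit 0, nat_lit 3, nat_lit 5, nat_lit 3, nat_lit 0, nat_lit 3, nat_lit 4, nat_lit 1, nat_lit 0, nat_lit 1, nat_lit 0, nat_lit 2, nat_lit 2, nat_lit 0]))) (.node (nat_lit 2577) (.leaf ((nat_lit 1393), [nat_lit 4, nat_lit 5, nat_lit 3, nat_lit 5, nat_lit 3, nat_lit 0, nat_lit 4, nat_lit 1, nat_lit 0, nat_lit 3, nat_lit 2, nat_lit 2, nat_lit 0, nat_lit 1, nat_lit 0, nat_lit 2, nat_lit 2, nat_lit 0])) (.node (nat_lit 2578) (.leaf ((nat_lit 1380), [nat_lit 4, nat_lit 0, nat_lit 5, nat_lit 2, nat_lit 5, nat_lit 1, nat_lit 3, nat_lit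 1, nat_lit 3, nat_lit 2, nat_lit 2, nat_lit 0, nat_lit 1, nat_lit 0])) (.leaf ((nat_lit 1394), [nat_lit 0, nat_lit 4, nat_lit 5, nat_lit 3, nat_lit 1, nat_lit 4, nat_lit 0, nat_lit 4, nat_lit 3, nat_lit 1, nat_lit 0, nat_lit 2, nat_lit 2, nat_lit 0, nat_lit 1])))))
 (.node (nat_lit 2582) (.node (nat_lit 2580) (.leaf ((nat_lit 1288), [nat_lit 3, nat_lit 2, nat_lit 3, nat_lit 5, nat_lit 0, nat_lit 1, nat_lit 3, nat_lit 4, nat_lit 1, nat_lit 3, nat_lit 2, nat_lit 2, nat_lit 0, nat_lit 1, nat_lit 0, nat_lit 2, nat_lit 2, nat_lit 0])) (.node (nat_lit 2581) (.leaf ((nat_lit 757), [nat_lit 4, nat_lit 0, nat_lit 4, nat_lit 2, nat_lit 0, nat_lit 3, nat_lit 1, nat_lit 0, nat_lit 1, nat_lit 0, nat_lit 2, nat_lit 0])) (.leaf ((nat_lit 161), [nat_lit 3, nat_lit 5, nat_lit 0, nat_lit 3, nat_lit 5, nat_lit 4, nat_lit 0, nat_lit 1, nat_lit 0, nat_lit 1, nat_lit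 0, nat_lit 3, nat_lit 1, nat_lit 0, nat_lit 2, nat_lit 0])))) (.node (nat_lit 2583) (.leaf ((nat_lit 602), [nat_lit 3, nat_lit 5, nat_lit 0, nat_lit 5, nat_lit 0, nat_lit 3, nat_lit 0, nat_lit 2, nat_lit 4, nat_lit 0, nat_lit 2, nat_lit 0, nat_lit 2, nat_lit 2, nat_lit 0, nat_lit 2])) (.node (nat_lit 2584) (.leaf ((nat_lit 1311), [nat_lit 3, nat_lit 4, nat_lit 3, nat_lit 5, nat_lit 4, nat_lit 0, nat_lit 2, nat_lit 2, nat_lit 3, nat_lit 1, nat_lit 0, nat_lit 1, nat_lit 0, nat_lit 2, nat_lit 2, nat_lit 0])) (.leaf ((nat_lit 1323), [nat_lit 1, nat_lit 5, nat_lit 0, nat_lit 5, nat_lit 3, nat_lit 2, nat_lit 4, nat_lit 2, nat_lit 4, nat_lit 2, nat_lit 2, nat_lit 0, nat_lit 1, nat_lit 0, nat_lit 2, nat_lit 2]))))))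
 (.node (nat_lit 2590) (.node (nat_lit 2587) (.node (nat_lit 2586) (.leaf ((nat_lit 1303), [nat_lit 2, nat_lit 4, nat_lit 2, nat_lit 0, nat_lit 5, nat_lit 1, nat_lit 3, nat_lit 1, nat_lit 3, nat_lit 0, nat_lit 3, nat_lit 2, nat_lit 2, nat_lit 0, nat_lit 1, nat_lit 0, nat_lit 2])) (.leaf ((nat_lit 89), [nat_lit 4, nat_lit 5, nat_lit 3, nat_lit 0, nat_lit 5, nat_lit 0, nat_lit 1, nat_lit 0, nat_lit 4, nat_lit 1, nat_lit 3, nat_lit 0, nat_lit 2, nat_lit 2, nat_lit 0, nat_lit 2]))) (.node (nat_lit 2588) (.leaf ((nat_lit 1329), [nat_lit 0, nat_lit 5, nat_lit 2, nat_lit 3, nat_lit 5, nat_lit 4, nat_lit 0, nat_lit 3, nat_lit 0, nat_lit 2, nat_lit 3, nat_lit 2, nat_lit 2, nat_lit 0, nat_lit 2, nat_lit 2, nat_lit 0, nat_lit 1])) (.node (nat_lit 2589) (.leaf ((nat_lit 744), [nat_lit 1, nat_lit 3, nat_lit 2, nat_lit 5, nat_lit 3, nat_lit 4, nat_lit 3, nat_lit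 1, nat_lit 4, nat_lit 3, nat_lit 0, nat_lit 2, nat_lit 0, nat_lit 2, nat_lit 2, nat_lit 0, nat_lit 1])) (.leaf ((nat_lit 1088), [nat_lit 4, nat_lit 1, nat_lit 5, nat_lit 0, nat_lit 5, nat_lit 2, nat_lit 3, nat_lit 1, nat_lit 3, nat_lit 0, nat_lit 2, nat_lit 0, nat_lit 2, nat_lit 2, nat_lit 0, nat_lit 1])))))
 (.node (nat_lit 2593) (.node (nat_lit 2591) (.leaf ((nat_lit 1167), [nat_lit 4, nat_lit 1, nat_lit 5, nat_lit 0, nat_lit 5, nat_lit 1, nat_lit 3, nat_lit 1, nat_lit 3, nat_lit 4, nat_lit 1, nat_lit 0])) (.node (nat_lit 2592) (.leaf ((nat_lit 1374), [nat_lit 5, nat_lit 3, nat_lit 2, nat_lit 0, nat_lit 5, nat_lit 2, nat_lit 4, nat_lit 0, nat_lit 3, nat_lit 4, nat_lit 0, nat_lit 1, nat_lit 0, nat_lit 2, nat_lit 2])) (.leaf ((nat_lit 1199), [nat_lit 4, nat_lit 3, nat_lit 5, nat_lit 2, nat_lit 5, nat_lit 1, nat_lit 0, nat_lit 3, nat_lit 1, nat_lit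 3, nat_lit 0, nat_lit 2, nat_lit 2])))) (.node (nat_lit 2594) (.leaf ((nat_lit 940), [nat_lit 5, nat_lit 1, nat_lit 5, nat_lit 0, nat_lit 5, nat_lit 3, nat_lit 1, nat_lit 3, nat_lit 4, nat_lit 1, nat_lit 0, nat_lit 1, nat_lit 0])) (.node (nat_lit 2595) (.leaf ((nat_lit 485), [nat_lit 5, nat_lit 2, nat_lit 3, nat_lit 0, nat_lit 5, nat_lit 3, nat_lit 2, nat_lit 2, nat_lit 3, nat_lit 1, nat_lit 0, nat_lit 1, nat_lit 0, nat_lit 2])) (.leaf ((nat_lit 1059), [nat_lit 5, nat_lit 3, nat_lit 2, nat_lit 5, nat_lit 0, nat_lit 1, nat_lit 3, nat_lit 4, nat_lit 1, nat_lit 3, nat_lit 2, nat_lit 2, nat_lit 0, nat_lit 1, nat_lit 0, nat_lit 2, nat_lit 0]))))))))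
 (.node (nat_lit 2618) (.node (nat_lit 2607) (.node (nat_lit 2601) (.node (nat_lit 2598) (.node (nat_lit 2597) (.leaf ((nat_lit 946), [nat_lit 1, nat_lit 0, nat_lit 5, nat_lit 3, nat_lit 5, nat_lit 3, nat_lit 2, nat_lit 0, nat_lit 4, nat_lit 0, nat_lit 1, nat_lit 0, nat_lit 2, nat_lit 2, nat_lit 0, nat_lit 2])) (.leaf ((nat_lit 1243), [nat_lit 1, nat_lit 0, nat_lit 3, nat_lit 5, nat_lit 0, nat_lit 4, nat_lit 3, nat_lit 0, nat_lit 3, nat_lit 0, nat_lit 2, nat_lit 2, nat_lit 0, nat_lit 2, nat_lit 0, nat_lit 1]))) (.node (nat_lit 2599) (.leaf ((nat_lit 1395), [nat_lit 1, nat_lit 5, nat_lit 1, nat_lit 0, nat_lit 4, nat_lit 3, nat_lit 0, nat_lit 2])) (.node (nat_lit 2600) (.leaf ((nat_lit 886), [nat_lit 5, nat_lit 4, nat_lit 5, nat_lit 1, nat_lit 5, nat_lit 0, nat_lit 1, nat_lit 0, nat_lit 4, nat_lit 2, nat_lit 0, nat_lit 2, nat_lit 2, nat_lit 0, nat_lit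 2, nat_lit 2])) (.leaf ((nat_lit 1140), [nat_lit 2, nat_lit 5, nat_lit 4, nat_lit 5, nat_lit 3, nat_lit 0, nat_lit 3, nat_lit 4, nat_lit 2, nat_lit 0, nat_lit 2, nat_lit 2, nat_lit 0, nat_lit 2, nat_lit 2, nat_lit 0])))))
 (.node (nat_lit 2604) (.node (nat_lit 2602) (.leaf ((nat_lit 1376), [nat_lit 5, nat_lit 4, nat_lit 5, nat_lit 2, nat_lit 5, nat_lit 4, nat_lit 2, nat_lit 3, nat_lit 2, nat_lit 3, nat_lit 0, nat_lit 2])) (.node (nat_lit 2603) (.leaf ((nat_lit 1396), [nat_lit 5, nat_lit 2, nat_lit 5, nat_lit 2, nat_lit 4, nat_lit 0, nat_lit 2, nat_lit 0, nat_lit 1, nat_lit 0, nat_lit 1])) (.leaf ((nat_lit 1397), [nat_lit 3, nat_lit 5, nat_lit 0, nat_lit 1, nat_lit 4, nat_lit 2, nat_lit 0, nat_lit 2, nat_lit 2, nat_lit 0, nat_lit 2, nat_lit 2])))) (.node (nat_lit 2605) (.leaf ((nat_lit 650), [nat_lit 4, nat_lit 0, nat_lit 4, nat_lit 2, nat_lit 0,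 nat_lit 3, nat_lit 0, nat_lit 1])) (.node (nat_lit 2606) (.leaf ((nat_lit 409), [nat_lit 3, nat_lit 5, nat_lit 1, nat_lit 3, nat_lit 2, nat_lit 5, nat_lit 1, nat_lit 0, nat_lit 4, nat_lit 3, nat_lit 2, nat_lit 0, nat_lit 1, nat_lit 0, nat_lit 1, nat_lit 0, nat_lit 2])) (.leaf ((nat_lit 1367), [nat_lit 4, nat_lit 3, nat_lit 5, nat_lit 4, nat_lit 2, nat_lit 3, nat_lit 2, nat_lit 3, nat_lit 0, nat_lit 2, nat_lit 2, nat_lit 0, nat_lit 2]))))))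
 (.node (nat_lit 2612) (.node (nat_lit 2609) (.node (nat_lit 2608) (.leaf ((nat_lit 532), [nat_lit 3, nat_lit 5, nat_lit 2, nat_lit 3, nat_lit 4, nat_lit 1, nat_lit 0, nat_lit 3, nat_lit 2, nat_lit 0, nat_lit 2, nat_lit 0, nat_lit 1])) (.leaf ((nat_lit 1389), [nat_lit 3, nat_lit 0, nat_lit 2, nat_lit 5, nat_lit 3, nat_lit 0, nat_lit 3, nat_lit 0, nat_lit 1, nat_lit 0, nat_lit 2, nat_lit 2, nat_lit 0]))) (.node (nat_lit 2610) (.leaf ((nat_lit 192), [nat_lit 3, nat_lit 5, nat_lit 0, nat_lit 5, nat_lit 3, nat_lit 4, nat_lit 1, nat_lit 0, nat_lit 3, nat_lit 1, nat_lit 0, nat_lit 2, nat_lit 0])) (.node (nat_lit 2611) (.leaf ((nat_lit 1188), [nat_lit 2, nat_lit 2, nat_lit 5, nat_lit 1, nat_lit 5, nat_lit 4, nat_lit 1, nat_lit 3, nat_lit 4, nat_lit 2, nat_lit 3, nat_lit 1, nat_lit 0, nat_lit 2, nat_lit 2, nat_lit 0, nat_lit 1])) (.leaf ((nat_lit 781), [nat_lit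 3, nat_lit 4, nat_lit 5, nat_lit 4, nat_lit 0, nat_lit 3, nat_lit 4, nat_lit 2, nat_lit 2])))))
 (.node (nat_lit 2615) (.node (nat_lit 2613) (.leaf ((nat_lit 623), [nat_lit 0, nat_lit 4, nat_lit 5, nat_lit 0, nat_lit 4, nat_lit 3, nat_lit 0, nat_lit 3, nat_lit 2, nat_lit 0])) (.node (nat_lit 2614) (.leaf ((nat_lit 1240), [nat_lit 4, nat_lit 3, nat_lit 0, nat_lit 5, nat_lit 2, nat_lit 4, nat_lit 0, nat_lit 1, nat_lit 0, nat_lit 3, nat_lit 0, nat_lit 1, nat_lit 0, nat_lit 1])) (.leaf ((nat_lit 1309), [nat_lit 3, nat_lit 5, nat_lit 2, nat_lit 3, nat_lit 0, nat_lit 5, nat_lit 2, nat_lit 3, nat_lit 4, nat_lit 3, nat_lit 0, nat_lit 3, nat_lit 0, nat_lit 2, nat_lit 0, nat_lit 2, nat_lit 2, nat_lit 0, nat_lit 1, nat_lit 0])))) (.node (nat_lit 2616) (.leaf ((nat_lit 1395), [nat_lit 5, nat_lit 0, nat_lit 5, nat_lit 1, nat_lit 0, nat_lit 3, nat_lit 2, nat_lit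 3, nat_lit 2, nat_lit 2, nat_lit 0, nat_lit 2, nat_lit 0, nat_lit 1])) (.node (nat_lit 2617) (.leaf ((nat_lit 1391), [nat_lit 0, nat_lit 4, nat_lit 2, nat_lit 0, nat_lit 5, nat_lit 3, nat_lit 0, nat_lit 3, nat_lit 4, nat_lit 3, nat_lit 1, nat_lit 0, nat_lit 2])) (.leaf ((nat_lit 416), [nat_lit 4, nat_lit 5, nat_lit 2, nat_lit 5, nat_lit 0, nat_lit 4, nat_lit 2, nat_lit 0, nat_lit 4, nat_lit 1, nat_lit 0, nat_lit 2, nat_lit 0, nat_lit 1])))))))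
 (.node (nat_lit 2629) (.node (nat_lit 2623) (.node (nat_lit 2620) (.node (nat_lit 2619) (.leaf ((nat_lit 745), [nat_lit 3, nat_lit 5, nat_lit 0, nat_lit 5, nat_lit 2, nat_lit 2, nat_lit 3, nat_lit 2, nat_lit 4, nat_lit 2, nat_lit 2, nat_lit 0, nat_lit 2, nat_lit 0, nat_lit 1, nat_lit 0])) (.leaf ((nat_lit 527), [nat_lit 3, nat_lit 2, nat_lit 5, nat_lit 0, nat_lit 5, nat_lit 4, nat_lit 2, nat_lit 3, nat_lit 4, nat_lit 3, nat_lit 1, nat_lit 0, nat_lit 1, nat_lit 0, nat_lit 2, nat_lit 2, nat_lit 0]))) (.node (nat_lit 2621) (.leaf ((nat_lit 1398), [nat_lit 2, nat_lit 2, nat_lit 0, nat_lit 5, nat_lit 3, nat_lit 2, nat_lit 3, nat_lit 0, nat_lit 4, nat_lit 1, nat_lit 0])) (.node (nat_lit 2622) (.leaf ((nat_lit 74), [nat_lit 3, nat_lit 5, nat_lit 0, nat_lit 3, nat_lit 5, nat_lit 0, nat_lit 4, nat_lit 0, nat_lit 4, nat_lit 1, nat_lit 3, nat_lit 2, nat_lit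 2, nat_lit 0, nat_lit 1, nat_lit 0, nat_lit 2, nat_lit 2, nat_lit 0])) (.leaf ((nat_lit 1109), [nat_lit 0, nat_lit 4, nat_lit 2, nat_lit 0, nat_lit 5, nat_lit 3, nat_lit 4, nat_lit 0, nat_lit 3, nat_lit 2, nat_lit 0, nat_lit 1, nat_lit 0, nat_lit 2])))))
 (.node (nat_lit 2626) (.node (nat_lit 2624) (.leaf ((nat_lit 96), [nat_lit 3, nat_lit 5, nat_lit 3, nat_lit 0, nat_lit 5, nat_lit 3, nat_lit 4, nat_lit 0, nat_lit 3, nat_lit 1, nat_lit 3, nat_lit 1, nat_lit 0, nat_lit 2, nat_lit 2, nat_lit 0])) (.node (nat_lit 2625) (.leaf ((nat_lit 1208), [nat_lit 1, nat_lit 0, nat_lit 5, nat_lit 1, nat_lit 0, nat_lit 4, nat_lit 0, nat_lit 2, nat_lit 0, nat_lit 2, nat_lit 0])) (.leaf ((nat_lit 1238), [nat_lit 5, nat_lit 4, nat_lit 3, nat_lit 0, nat_lit 5, nat_lit 4, nat_lit 0, nat_lit 4, nat_lit 2, nat_lit 0])))) (.node (nat_lit 2627) (.leaf ((nat_lit 1352), [nat_lit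 2, nat_lit 5, nat_lit 1, nat_lit 4, nat_lit 1, nat_lit 4, nat_lit 3, nat_lit 2, nat_lit 2, nat_lit 0, nat_lit 1, nat_lit 0, nat_lit 2, nat_lit 0])) (.node (nat_lit 2628) (.leaf ((nat_lit 746), [nat_lit 5, nat_lit 0, nat_lit 1, nat_lit 5, nat_lit 0, nat_lit 2, nat_lit 3, nat_lit 2, nat_lit 3, nat_lit 0, nat_lit 2, nat_lit 2, nat_lit 0, nat_lit 1, nat_lit 0])) (.leaf ((nat_lit 1137), [nat_lit 3, nat_lit 0, nat_lit 5, nat_lit 3, nat_lit 5, nat_lit 2, nat_lit 3, nat_lit 4, nat_lit 3, nat_lit 1]))))))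
 (.node (nat_lit 2634) (.node (nat_lit 2631) (.node (nat_lit 2630) (.leaf ((nat_lit 1229), [nat_lit 0, nat_lit 4, nat_lit 2, nat_lit 0, nat_lit 5, nat_lit 3, nat_lit 0, nat_lit 4, nat_lit 0, nat_lit 4, nat_lit 2, nat_lit 0, nat_lit 1, nat_lit 0, nat_lit 2, nat_lit 0])) (.leaf ((nat_lit 317), [nat_lit 4, nat_lit 3, nat_lit 2, nat_lit 5, nat_lit 1, nat_lit 4, nat_lit 2, nat_lit 4, nat_lit 2, nat_lit 0]))) (.node (nat_lit 2632) (.leaf ((nat_lit 223), [nat_lit 5, nat_lit 2, nat_lit 0, nat_lit 5, nat_lit 2, nat_lit 3, nat_lit 2, nat_lit 4, nat_lit 3, nat_lit 1, nat_lit 0, nat_lit 1, nat_lit 0, nat_lit 2, nat_lit 0])) (.node (nat_lit 2633) (.leaf ((nat_lit 1142), [nat_lit 4, nat_lit 5, nat_lit 1, nat_lit 5, nat_lit 2, nat_lit 4, nat_lit 1, nat_lit 0, nat_lit 1, nat_lit 0, nat_lit 3, nat_lit 2, nat_lit 2, nat_lit 0, nat_lit 1])) (.leaf ((nat_lit 266), [nat_lit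 4, nat_lit 0, nat_lit 5, nat_lit 2, nat_lit 5, nat_lit 2, nat_lit 4, nat_lit 2, nat_lit 4])))))
 (.node (nat_lit 2637) (.node (nat_lit 2635) (.leaf ((nat_lit 1344), [nat_lit 3, nat_lit 5, nat_lit 2, nat_lit 3, nat_lit 0, nat_lit 5, nat_lit 0, nat_lit 4, nat_lit 2, nat_lit 3, nat_lit 1, nat_lit 3, nat_lit 0, nat_lit 2, nat_lit 0, nat_lit 2, nat_lit 2, nat_lit 0, nat_lit 2, nat_lit 0])) (.node (nat_lit 2636) (.leaf ((nat_lit 648), [nat_lit 3, nat_lit 0, nat_lit 5, nat_lit 0, nat_lit 3, nat_lit 2, nat_lit 3, nat_lit 2, nat_lit 3, nat_lit 1, nat_lit 0, nat_lit 2, nat_lit 2, nat_lit 0, nat_lit 2, nat_lit 0])) (.leaf ((nat_lit 1334), [nat_lit 5, nat_lit 4, nat_lit 3, nat_lit 5, nat_lit 2, nat_lit 5, nat_lit 2, nat_lit 2, nat_lit 3, nat_lit 2, nat_lit 4, nat_lit 2, nat_lit 2, nat_lit 0, nat_lit 1, nat_lit 0, nat_lit 2, nat_lit 2, nat_lit 0])))) (.node (nat_lit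 2638) (.leaf ((nat_lit 215), [nat_lit 3, nat_lit 5, nat_lit 0, nat_lit 5, nat_lit 4, nat_lit 1, nat_lit 0, nat_lit 4, nat_lit 3, nat_lit 2, nat_lit 2, nat_lit 0, nat_lit 2, nat_lit 0, nat_lit 1])) (.node (nat_lit 2639) (.leaf ((nat_lit 181), [nat_lit 4, nat_lit 5, nat_lit 4, nat_lit 0, nat_lit 5, nat_lit 4, nat_lit 2, nat_lit 0, nat_lit 3, nat_lit 1, nat_lit 0, nat_lit 1, nat_lit 0, nat_lit 2, nat_lit 2])) (.leaf ((nat_lit 810), [nat_lit 1, nat_lit 3, nat_lit 1, nat_lit 4, nat_lit 0, nat_lit 2, nat_lit 0, nat_lit 2, nat_lit 2, nat_lit 0, nat_lit 2]))))))))))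
noncomputable def pWd_15 : Tr (ℕ × List ℕ) := (.node (nat_lit 2728) (.node (nat_lit 2684) (.node (nat_lit 2662) (.node (nat_lit 2651) (.node (nat_lit 2645) (.node (nat_lit 2642) (.node (nat_lit 2641) (.leaf ((nat_lit 384), [nat_lit 4, nat_lit 0, nat_lit 5, nat_lit 2, nat_lit 5, nat_lit 2, nat_lit 0, nat_lit 3, nat_lit 1, nat_lit 3, nat_lit 0, nat_lit 2, nat_lit 2, nat_lit 0, nat_lit 2, nat_lit 0])) (.leaf ((nat_lit 1207), [nat_lit 3, nat_lit 5, nat_lit 2, nat_lit 3, nat_lit 0, nat_lit 5, nat_lit 3, nat_lit 0, nat_lit 2, nat_lit 3, nat_lit 1, nat_lit 0, nat_lit 2, nat_lit 2, nat_lit 0, nat_lit 2, nat_lit 2]))) (.node (nat_lit 2643) (.leaf ((nat_lit 6), [nat_lit 3, nat_lit 1, nat_lit 3, nat_lit 0, nat_lit 5, nat_lit 2, nat_lit 4, nat_lit 1, nat_lit 3, nat_lit 1, nat_lit 3, nat_lit 2, nat_lit 0])) (.node (nat_lit 2644) (.leaf ((nat_lit 960), [nat_lit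 5, nat_lit 4, nat_lit 2, nat_lit 5, nat_lit 0, nat_lit 2, nat_lit 2, nat_lit 0, nat_lit 4, nat_lit 2, nat_lit 0])) (.leaf ((nat_lit 1116), [nat_lit 1, nat_lit 0, nat_lit 5, nat_lit 3, nat_lit 5, nat_lit 3, nat_lit 2, nat_lit 0, nat_lit 3, nat_lit 2, nat_lit 2, nat_lit 0, nat_lit 2, nat_lit 0, nat_lit 1])))))
 (.node (nat_lit 2648) (.node (nat_lit 2646) (.leaf ((nat_lit 58), [nat_lit 4, nat_lit 1, nat_lit 0, nat_lit 5, nat_lit 4, nat_lit 2, nat_lit 3, nat_lit 4, nat_lit 0, nat_lit 2, nat_lit 0])) (.node (nat_lit 2647) (.leaf ((nat_lit 1225), [nat_lit 5, nat_lit 0, nat_lit 1, nat_lit 5, nat_lit 3, nat_lit 0, nat_lit 4, nat_lit 3, nat_lit 0, nat_lit 3, nat_lit 0, nat_lit 1, nat_lit 0, nat_lit 2, nat_lit 2, nat_lit 0, nat_lit 2, nat_lit 0])) (.leaf ((nat_lit 841), [nat_lit 4, nat_lit 3, nat_lit 5, nat_lit 0, nat_lit 5, nat_lit 3, nat_lit 0, nat_lit 3,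 nat_lit 2, nat_lit 3, nat_lit 0, nat_lit 1, nat_lit 0, nat_lit 2, nat_lit 2, nat_lit 0, nat_lit 2])))) (.node (nat_lit 2649) (.leaf ((nat_lit 348), [nat_lit 0, nat_lit 5, nat_lit 4, nat_lit 0, nat_lit 4, nat_lit 0, nat_lit 4, nat_lit 0, nat_lit 1, nat_lit 0, nat_lit 2, nat_lit 0, nat_lit 2, nat_lit 2])) (.node (nat_lit 2650) (.leaf ((nat_lit 1176), [nat_lit 3, nat_lit 5, nat_lit 0, nat_lit 5, nat_lit 4, nat_lit 2, nat_lit 0, nat_lit 3, nat_lit 1, nat_lit 0, nat_lit 1, nat_lit 0, nat_lit 2])) (.leaf ((nat_lit 1333), [nat_lit 0, nat_lit 2, nat_lit 4, nat_lit 0, nat_lit 5, nat_lit 3, nat_lit 0, nat_lit 4, nat_lit 1, nat_lit 3, nat_lit 2, nat_lit 0, nat_lit 2, nat_lit 2, nat_lit 0, nat_lit 2, nat_lit 2, nat_lit 0]))))))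
 (.node (nat_lit 2656) (.node (nat_lit 2653) (.node (nat_lit 2652) (.leaf ((nat_lit 1103), [nat_lit 4, nat_lit 1, nat_lit 5, nat_lit 0, nat_lit 5, nat_lit 1, nat_lit 3, nat_lit 1, nat_lit 0, nat_lit 4, nat_lit 1, nat_lit 0, nat_lit 2, nat_lit 2, nat_lit 0, nat_lit 2, nat_lit 0])) (.leaf ((nat_lit 825), [nat_lit 4, nat_lit 3, nat_lit 5, nat_lit 1, nat_lit 0, nat_lit 3, nat_lit 0, nat_lit 4, nat_lit 0, nat_lit 1, nat_lit 0, nat_lit 2]))) (.node (nat_lit 2654) (.leaf ((nat_lit 655), [nat_lit 1, nat_lit 4, nat_lit 5, nat_lit 1, nat_lit 5, nat_lit 3, nat_lit 0, nat_lit 2, nat_lit 3, nat_lit 2, nat_lit 2, nat_lit 0, nat_lit 2, nat_lit 0, nat_lit 1])) (.node (nat_lit 2655) (.leaf ((nat_lit 911), [nat_lit 5, nat_lit 4, nat_lit 5, nat_lit 2, nat_lit 5, nat_lit 2, nat_lit 3, nat_lit 2, nat_lit 0, nat_lit 4, nat_lit 0, nat_lit 1, nat_lit 0, nat_lit 2, nat_lit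 0, nat_lit 2, nat_lit 2, nat_lit 0])) (.leaf ((nat_lit 1292), [nat_lit 4, nat_lit 3, nat_lit 5, nat_lit 0, nat_lit 4, nat_lit 0, nat_lit 4, nat_lit 0, nat_lit 2, nat_lit 0, nat_lit 2, nat_lit 2, nat_lit 0, nat_lit 2, nat_lit 0])))))
 (.node (nat_lit 2659) (.node (nat_lit 2657) (.leaf ((nat_lit 1387), [nat_lit 1, nat_lit 4, nat_lit 2, nat_lit 5, nat_lit 4, nat_lit 2, nat_lit 4, nat_lit 2, nat_lit 2, nat_lit 0, nat_lit 2, nat_lit 2, nat_lit 0, nat_lit 2, nat_lit 2])) (.node (nat_lit 2658) (.leaf ((nat_lit 1357), [nat_lit 5, nat_lit 4, nat_lit 5, nat_lit 3, nat_lit 5, nat_lit 3, nat_lit 4, nat_lit 1, nat_lit 3, nat_lit 0, nat_lit 1, nat_lit 0, nat_lit 2, nat_lit 0])) (.leaf ((nat_lit 488), [nat_lit 4, nat_lit 1, nat_lit 0, nat_lit 5, nat_lit 2, nat_lit 0, nat_lit 3, nat_lit 0, nat_lit 4, nat_lit 1, nat_lit 0, nat_lit 2, nat_lit 0, nat_lit 1, nat_lit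 0])))) (.node (nat_lit 2660) (.leaf ((nat_lit 1399), [nat_lit 3, nat_lit 5, nat_lit 2, nat_lit 3, nat_lit 0, nat_lit 3, nat_lit 2, nat_lit 0, nat_lit 2, nat_lit 2])) (.node (nat_lit 2661) (.leaf ((nat_lit 524), [nat_lit 4, nat_lit 3, nat_lit 5, nat_lit 2, nat_lit 5, nat_lit 2, nat_lit 4, nat_lit 2, nat_lit 3, nat_lit 0])) (.leaf ((nat_lit 866), [nat_lit 5, nat_lit 1, nat_lit 0, nat_lit 3, nat_lit 5, nat_lit 3, nat_lit 2, nat_lit 2, nat_lit 3, nat_lit 2, nat_lit 0, nat_lit 2, nat_lit 0, nat_lit 1, nat_lit 0])))))))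
 (.node (nat_lit 2673) (.node (nat_lit 2667) (.node (nat_lit 2664) (.node (nat_lit 2663) (.leaf ((nat_lit 1226), [nat_lit 0, nat_lit 2, nat_lit 5, nat_lit 1, nat_lit 0, nat_lit 4, nat_lit 1, nat_lit 3, nat_lit 1, nat_lit 0, nat_lit 2, nat_lit 2, nat_lit 0, nat_lit 2, nat_lit 2])) (.leaf ((nat_lit 129), [nat_lit 2, nat_lit 0, nat_lit 1, nat_lit 5, nat_lit 4, nat_lit 3, nat_lit 1, nat_lit 4, nat_lit 0, nat_lit 2, nat_lit 2, nat_lit 0, nat_lit 2, nat_lit 0]))) (.node (nat_lit 2665) (.leaf ((nat_lit 1217), [nat_lit 3, nat_lit 4, nat_lit 5, nat_lit 1, nat_lit 0, nat_lit 4, nat_lit 1, nat_lit 3, nat_lit 0, nat_lit 2, nat_lit 0, nat_lit 2, nat_lit 2, nat_lit 0, nat_lit 1, nat_lit 0])) (.node (nat_lit 2666) (.leaf ((nat_lit 808), [nat_lit 4, nat_lit 3, nat_lit 2, nat_lit 5, nat_lit 4, nat_lit 2, nat_lit 3, nat_lit 0, nat_lit 3, nat_lit 1, nat_lit 0])) (.leaf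 ((nat_lit 38), [nat_lit 5, nat_lit 0, nat_lit 1, nat_lit 5, nat_lit 4, nat_lit 2, nat_lit 0, nat_lit 2, nat_lit 4, nat_lit 1, nat_lit 0, nat_lit 2, nat_lit 2, nat_lit 0, nat_lit 1])))))
 (.node (nat_lit 2670) (.node (nat_lit 2668) (.leaf ((nat_lit 149), [nat_lit 4, nat_lit 1, nat_lit 0, nat_lit 5, nat_lit 0, nat_lit 2, nat_lit 4, nat_lit 3, nat_lit 0, nat_lit 1, nat_lit 0, nat_lit 2])) (.node (nat_lit 2669) (.leaf ((nat_lit 366), [nat_lit 5, nat_lit 4, nat_lit 5, nat_lit 2, nat_lit 5, nat_lit 2, nat_lit 4, nat_lit 2, nat_lit 0, nat_lit 3, nat_lit 1, nat_lit 0, nat_lit 1, nat_lit 0, nat_lit 2, nat_lit 2])) (.leaf ((nat_lit 1375), [nat_lit 2, nat_lit 0, nat_lit 5, nat_lit 4, nat_lit 0, nat_lit 1, nat_lit 4, nat_lit 3, nat_lit 0, nat_lit 2, nat_lit 0, nat_lit 1, nat_lit 0, nat_lit 1, nat_lit 0])))) (.node (nat_lit 2671) (.leaf ((nat_lit 867), [nat_lit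 0, nat_lit 5, nat_lit 2, nat_lit 3, nat_lit 5, nat_lit 1, nat_lit 4, nat_lit 1, nat_lit 3, nat_lit 0, nat_lit 2, nat_lit 2, nat_lit 0, nat_lit 2, nat_lit 2, nat_lit 0])) (.node (nat_lit 2672) (.leaf ((nat_lit 1393), [nat_lit 4, nat_lit 5, nat_lit 1, nat_lit 5, nat_lit 2, nat_lit 4, nat_lit 2, nat_lit 0, nat_lit 3, nat_lit 2, nat_lit 0, nat_lit 2, nat_lit 2, nat_lit 0, nat_lit 2, nat_lit 0])) (.leaf ((nat_lit 327), [nat_lit 3, nat_lit 0, nat_lit 5, nat_lit 3, nat_lit 5, nat_lit 1, nat_lit 4, nat_lit 0, nat_lit 4, nat_lit 3, nat_lit 0, nat_lit 2, nat_lit 0, nat_lit 2, nat_lit 2, nat_lit 0]))))))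
 (.node (nat_lit 2678) (.node (nat_lit 2675) (.node (nat_lit 2674) (.leaf ((nat_lit 242), [nat_lit 3, nat_lit 5, nat_lit 1, nat_lit 3, nat_lit 2, nat_lit 5, nat_lit 2, nat_lit 2, nat_lit 4, nat_lit 2, nat_lit 4, nat_lit 2, nat_lit 0, nat_lit 2, nat_lit 0])) (.leaf ((nat_lit 420), [nat_lit 5, nat_lit 2, nat_lit 4, nat_lit 0, nat_lit 5, nat_lit 0, nat_lit 1, nat_lit 0, nat_lit 4, nat_lit 1, nat_lit 0, nat_lit 2, nat_lit 2]))) (.node (nat_lit 2676) (.leaf ((nat_lit 1299), [nat_lit 0, nat_lit 5, nat_lit 4, nat_lit 2, nat_lit 4, nat_lit 2, nat_lit 0, nat_lit 3, nat_lit 2, nat_lit 0, nat_lit 1, nat_lit 0, nat_lit 1, nat_lit 0, nat_lit 2])) (.node (nat_lit 2677) (.leaf ((nat_lit 1244), [nat_lit 0, nat_lit 5, nat_lit 3, nat_lit 5, nat_lit 3, nat_lit 4, nat_lit 0, nat_lit 2, nat_lit 2, nat_lit 3, nat_lit 2, nat_lit 0, nat_lit 2, nat_lit 0])) (.leaf ((nat_lit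 290), [nat_lit 1, nat_lit 3, nat_lit 0, nat_lit 5, nat_lit 3, nat_lit 0, nat_lit 3, nat_lit 0, nat_lit 2, nat_lit 4, nat_lit 0, nat_lit 2, nat_lit 0, nat_lit 2, nat_lit 2, nat_lit 0, nat_lit 2])))))
 (.node (nat_lit 2681) (.node (nat_lit 2679) (.leaf ((nat_lit 516), [nat_lit 3, nat_lit 5, nat_lit 0, nat_lit 5, nat_lit 2, nat_lit 2, nat_lit 3, nat_lit 2, nat_lit 4, nat_lit 2, nat_lit 2, nat_lit 0, nat_lit 2, nat_lit 0, nat_lit 1, nat_lit 0])) (.node (nat_lit 2680) (.leaf ((nat_lit 1268), [nat_lit 5, nat_lit 3, nat_lit 2, nat_lit 5, nat_lit 2, nat_lit 3, nat_lit 1, nat_lit 3, nat_lit 0, nat_lit 3, nat_lit 1, nat_lit 0, nat_lit 2, nat_lit 2, nat_lit 0])) (.leaf ((nat_lit 977), [nat_lit 2, nat_lit 5, nat_lit 2, nat_lit 3, nat_lit 2, nat_lit 4, nat_lit 3, nat_lit 2, nat_lit 2, nat_lit 0, nat_lit 2, nat_lit 0])))) (.node (nat_lit 2682) (.leaf ((nat_lit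 720), [nat_lit 4, nat_lit 5, nat_lit 1, nat_lit 5, nat_lit 3, nat_lit 2, nat_lit 4, nat_lit 3, nat_lit 2, nat_lit 3, nat_lit 0, nat_lit 2, nat_lit 0, nat_lit 2, nat_lit 2, nat_lit 0, nat_lit 1, nat_lit 0])) (.node (nat_lit 2683) (.leaf ((nat_lit 1400), [nat_lit 5, nat_lit 2, nat_lit 3, nat_lit 0, nat_lit 5, nat_lit 0, nat_lit 2, nat_lit 0, nat_lit 4, nat_lit 1, nat_lit 4, nat_lit 2, nat_lit 0, nat_lit 1, nat_lit 0, nat_lit 2, nat_lit 2])) (.leaf ((nat_lit 687), [nat_lit 5, nat_lit 2, nat_lit 2, nat_lit 0, nat_lit 5, nat_lit 1, nat_lit 0, nat_lit 3, nat_lit 2, nat_lit 3, nat_lit 0, nat_lit 1, nat_lit 0, nat_lit 1, nat_lit 0, nat_lit 2]))))))))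
 (.node (nat_lit 2706) (.node (nat_lit 2695) (.node (nat_lit 2689) (.node (nat_lit 2686) (.node (nat_lit 2685) (.leaf ((nat_lit 1371), [nat_lit 2, nat_lit 5, nat_lit 2, nat_lit 3, nat_lit 5, nat_lit 4, nat_lit 1, nat_lit 0, nat_lit 3, nat_lit 2, nat_lit 3, nat_lit 0, nat_lit 2, nat_lit 2, nat_lit 0, nat_lit 2, nat_lit 0, nat_lit 1, nat_lit 0])) (.leaf ((nat_lit 637), [nat_lit 4, nat_lit 5, nat_lit 0, nat_lit 3, nat_lit 5, nat_lit 1, nat_lit 4, nat_lit 1, nat_lit 4, nat_lit 2, nat_lit 0, nat_lit 2, nat_lit 2, nat_lit 0, nat_lit 2, nat_lit 2]))) (.node (nat_lit 2687) (.leaf ((nat_lit 295), [nat_lit 1, nat_lit 5, nat_lit 1, nat_lit 5, nat_lit 2, nat_lit 0, nat_lit 3, nat_lit 0, nat_lit 4, nat_lit 0, nat_lit 1, nat_lit 0, nat_lit 2, nat_lit 2, nat_lit 0, nat_lit 2])) (.node (nat_lit 2688) (.leaf ((nat_lit 1107), [nat_lit 5, nat_lit 3, nat_lit 0, nat_lit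 5, nat_lit 3, nat_lit 0, nat_lit 3, nat_lit 0, nat_lit 4, nat_lit 2])) (.leaf ((nat_lit 1277), [nat_lit 1, nat_lit 5, nat_lit 1, nat_lit 5, nat_lit 2, nat_lit 4, nat_lit 3, nat_lit 2, nat_lit 2, nat_lit 3, nat_lit 1, nat_lit 0, nat_lit 2, nat_lit 0])))))
 (.node (nat_lit 2692) (.node (nat_lit 2690) (.leaf ((nat_lit 1158), [nat_lit 1, nat_lit 5, nat_lit 0, nat_lit 5, nat_lit 3, nat_lit 2, nat_lit 0, nat_lit 3, nat_lit 4, nat_lit 2, nat_lit 2, nat_lit 0, nat_lit 1])) (.node (nat_lit 2691) (.leaf ((nat_lit 236), [nat_lit 4, nat_lit 0, nat_lit 5, nat_lit 2, nat_lit 3, nat_lit 2, nat_lit 0, nat_lit 3, nat_lit 2, nat_lit 2, nat_lit 0, nat_lit 1])) (.leaf ((nat_lit 814), [nat_lit 3, nat_lit 0, nat_lit 5, nat_lit 3, nat_lit 5, nat_lit 3, nat_lit 2, nat_lit 3, nat_lit 2, nat_lit 2, nat_lit 3, nat_lit 0, nat_lit 1])))) (.node (nat_lit 2693) (.leaf ((nat_lit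 1401), [nat_lit 4, nat_lit 3, nat_lit 0, nat_lit 5, nat_lit 1, nat_lit 4, nat_lit 1, nat_lit 4, nat_lit 3, nat_lit 0, nat_lit 2, nat_lit 2, nat_lit 0, nat_lit 1])) (.node (nat_lit 2694) (.leaf ((nat_lit 1402), [nat_lit 4, nat_lit 3, nat_lit 5, nat_lit 2, nat_lit 5, nat_lit 0, nat_lit 4, nat_lit 1, nat_lit 4, nat_lit 0, nat_lit 1, nat_lit 0, nat_lit 1])) (.leaf ((nat_lit 437), [nat_lit 5, nat_lit 4, nat_lit 3, nat_lit 0, nat_lit 5, nat_lit 3, nat_lit 1, nat_lit 3, nat_lit 2, nat_lit 2, nat_lit 0, nat_lit 1, nat_lit 0, nat_lit 2]))))))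
 (.node (nat_lit 2700) (.node (nat_lit 2697) (.node (nat_lit 2696) (.leaf ((nat_lit 805), [nat_lit 3, nat_lit 4, nat_lit 3, nat_lit 5, nat_lit 4, nat_lit 2, nat_lit 0, nat_lit 2, nat_lit 3, nat_lit 1, nat_lit 0, nat_lit 2, nat_lit 2, nat_lit 0, nat_lit 2, nat_lit 2, nat_lit 0])) (.leaf ((nat_lit 1397), [nat_lit 4, nat_lit 5, nat_lit 3, nat_lit 5, nat_lit 2, nat_lit 4, nat_lit 2, nat_lit 0, nat_lit 2, nat_lit 0, nat_lit 1]))) (.node (nat_lit 2698) (.leaf ((nat_lit 1317), [nat_lit 4, nat_lit 3, nat_lit 0, nat_lit 5, nat_lit 3, nat_lit 2, nat_lit 4, nat_lit 3, nat_lit 2, nat_lit 3, nat_lit 0, nat_lit 2, nat_lit 0, nat_lit 2, nat_lit 0])) (.node (nat_lit 2699) (.leaf ((nat_lit 1403), [nat_lit 3, nat_lit 4, nat_lit 5, nat_lit 2, nat_lit 5, nat_lit 4, nat_lit 3, nat_lit 0, nat_lit 1, nat_lit 0, nat_lit 3, nat_lit 2, nat_lit 0, nat_lit 2, nat_lit 2])) (.leaf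 ((nat_lit 78), [nat_lit 3, nat_lit 1, nat_lit 3, nat_lit 0, nat_lit 5, nat_lit 0, nat_lit 3, nat_lit 4, nat_lit 1, nat_lit 0, nat_lit 3, nat_lit 0, nat_lit 2, nat_lit 0, nat_lit 1, nat_lit 0])))))
 (.node (nat_lit 2703) (.node (nat_lit 2701) (.leaf ((nat_lit 1051), [nat_lit 2, nat_lit 3, nat_lit 0, nat_lit 5, nat_lit 2, nat_lit 4, nat_lit 3, nat_lit 0, nat_lit 2, nat_lit 3, nat_lit 0, nat_lit 1, nat_lit 0, nat_lit 2, nat_lit 0, nat_lit 2, nat_lit 0])) (.node (nat_lit 2702) (.leaf ((nat_lit 587), [nat_lit 1, nat_lit 3, nat_lit 2, nat_lit 5, nat_lit 4, nat_lit 3, nat_lit 2, nat_lit 0, nat_lit 2, nat_lit 3, nat_lit 0, nat_lit 2, nat_lit 2, nat_lit 0, nat_lit 2, nat_lit 0])) (.leaf ((nat_lit 1065), [nat_lit 1, nat_lit 4, nat_lit 5, nat_lit 1, nat_lit 5, nat_lit 3, nat_lit 4, nat_lit 1, nat_lit 0, nat_lit 3, nat_lit 1, nat_lit 0, nat_lit 1, nat_lit 0,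 nat_lit 2, nat_lit 2])))) (.node (nat_lit 2704) (.leaf ((nat_lit 1216), [nat_lit 0, nat_lit 1, nat_lit 5, nat_lit 3, nat_lit 4, nat_lit 3, nat_lit 0, nat_lit 3, nat_lit 0, nat_lit 2, nat_lit 2, nat_lit 0, nat_lit 2, nat_lit 0, nat_lit 1, nat_lit 0])) (.node (nat_lit 2705) (.leaf ((nat_lit 1293), [nat_lit 1, nat_lit 5, nat_lit 3, nat_lit 5, nat_lit 3, nat_lit 4, nat_lit 1])) (.leaf ((nat_lit 1233), [nat_lit 3, nat_lit 5, nat_lit 4, nat_lit 0, nat_lit 3, nat_lit 2, nat_lit 3, nat_lit 0, nat_lit 2, nat_lit 2, nat_lit 0, nat_lit 2, nat_lit 2, nat_lit 0])))))))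
 (.node (nat_lit 2717) (.node (nat_lit 2711) (.node (nat_lit 2708) (.node (nat_lit 2707) (.leaf ((nat_lit 1008), [nat_lit 1, nat_lit 5, nat_lit 0, nat_lit 5, nat_lit 4, nat_lit 1, nat_lit 3, nat_lit 2, nat_lit 4, nat_lit 2, nat_lit 0, nat_lit 2])) (.leaf ((nat_lit 1392), [nat_lit 2, nat_lit 5, nat_lit 0, nat_lit 1, nat_lit 5, nat_lit 0, nat_lit 4, nat_lit 1, nat_lit 4, nat_lit 2, nat_lit 2, nat_lit 0, nat_lit 2, nat_lit 2, nat_lit 0, nat_lit 1, nat_lit 0]))) (.node (nat_lit 2709) (.leaf ((nat_lit 1202), [nat_lit 4, nat_lit 2, nat_lit 5, nat_lit 2, nat_lit 2, nat_lit 0, nat_lit 3, nat_lit 0, nat_lit 2, nat_lit 0, nat_lit 2, nat_lit 2, nat_lit 0])) (.node (nat_lit 2710) (.leaf ((nat_lit 1276), [nat_lit 4, nat_lit 5, nat_lit 3, nat_lit 5, nat_lit 2, nat_lit 4, nat_lit 2, nat_lit 4, nat_lit 2, nat_lit 0, nat_lit 1])) (.leaf ((nat_lit 1399), [nat_lit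 5, nat_lit 1, nat_lit 5, nat_lit 1, nat_lit 3, nat_lit 4, nat_lit 3, nat_lit 0, nat_lit 3, nat_lit 1, nat_lit 0, nat_lit 2, nat_lit 2, nat_lit 0, nat_lit 1])))))
 (.node (nat_lit 2714) (.node (nat_lit 2712) (.leaf ((nat_lit 929), [nat_lit 2, nat_lit 4, nat_lit 5, nat_lit 2, nat_lit 0, nat_lit 5, nat_lit 0, nat_lit 2, nat_lit 2, nat_lit 3, nat_lit 2, nat_lit 4, nat_lit 0, nat_lit 2, nat_lit 0, nat_lit 2, nat_lit 0])) (.node (nat_lit 2713) (.leaf ((nat_lit 1141), [nat_lit 1, nat_lit 3, nat_lit 2, nat_lit 5, nat_lit 2, nat_lit 0, nat_lit 1, nat_lit 0, nat_lit 3, nat_lit 2, nat_lit 2, nat_lit 0, nat_lit 1, nat_lit 0, nat_lit 2])) (.leaf ((nat_lit 123), [nat_lit 4, nat_lit 2, nat_lit 5, nat_lit 1, nat_lit 5, nat_lit 3, nat_lit 1, nat_lit 3, nat_lit 1, nat_lit 4, nat_lit 0, nat_lit 1, nat_lit 0, nat_lit 2, nat_lit 0, nat_lit 2, nat_lit 0])))) (.node (nat_lit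 2715) (.leaf ((nat_lit 546), [nat_lit 1, nat_lit 5, nat_lit 1, nat_lit 3, nat_lit 0, nat_lit 2, nat_lit 4, nat_lit 2, nat_lit 2, nat_lit 0, nat_lit 2, nat_lit 2, nat_lit 0, nat_lit 1])) (.node (nat_lit 2716) (.leaf ((nat_lit 1127), [nat_lit 5, nat_lit 1, nat_lit 3, nat_lit 2, nat_lit 5, nat_lit 3, nat_lit 2, nat_lit 4, nat_lit 3, nat_lit 2, nat_lit 3, nat_lit 1, nat_lit 0, nat_lit 1, nat_lit 0, nat_lit 2])) (.leaf ((nat_lit 1193), [nat_lit 4, nat_lit 2, nat_lit 5, nat_lit 2, nat_lit 3, nat_lit 1, nat_lit 3, nat_lit 1, nat_lit 3, nat_lit 2, nat_lit 0, nat_lit 2, nat_lit 2, nat_lit 0, nat_lit 2]))))))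
 (.node (nat_lit 2722) (.node (nat_lit 2719) (.node (nat_lit 2718) (.leaf ((nat_lit 1144), [nat_lit 4, nat_lit 3, nat_lit 5, nat_lit 0, nat_lit 5, nat_lit 1, nat_lit 0, nat_lit 4, nat_lit 3, nat_lit 0, nat_lit 3, nat_lit 0, nat_lit 1, nat_lit 0, nat_lit 2, nat_lit 2, nat_lit 0, nat_lit 1, nat_lit 0])) (.leaf ((nat_lit 228), [nat_lit 2, nat_lit 2, nat_lit 0, nat_lit 5, nat_lit 2, nat_lit 4, nat_lit 1, nat_lit 0, nat_lit 2, nat_lit 3, nat_lit 2, nat_lit 0, nat_lit 2]))) (.node (nat_lit 2720) (.leaf ((nat_lit 1401), [nat_lit 5, nat_lit 1, nat_lit 5, nat_lit 1, nat_lit 0, nat_lit 3, nat_lit 1, nat_lit 0, nat_lit 2, nat_lit 2, nat_lit 0])) (.node (nat_lit 2721) (.leaf ((nat_lit 1307), [nat_lit 0, nat_lit 4, nat_lit 2, nat_lit 0, nat_lit 5, nat_lit 1, nat_lit 4, nat_lit 1, nat_lit 3, nat_lit 1, nat_lit 3, nat_lit 2, nat_lit 0, nat_lit 2, nat_lit 0])) (.leaf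 ((nat_lit 1400), [nat_lit 0, nat_lit 4, nat_lit 2, nat_lit 0, nat_lit 5, nat_lit 4, nat_lit 2, nat_lit 3, nat_lit 4, nat_lit 2, nat_lit 3, nat_lit 0, nat_lit 2, nat_lit 2, nat_lit 0, nat_lit 1, nat_lit 0, nat_lit 2])))))
 (.node (nat_lit 2725) (.node (nat_lit 2723) (.leaf ((nat_lit 494), [nat_lit 5, nat_lit 4, nat_lit 2, nat_lit 0, nat_lit 5, nat_lit 2, nat_lit 4, nat_lit 1, nat_lit 0, nat_lit 3, nat_lit 0, nat_lit 2, nat_lit 2, nat_lit 0, nat_lit 1, nat_lit 0, nat_lit 2, nat_lit 0])) (.node (nat_lit 2724) (.leaf ((nat_lit 109), [nat_lit 5, nat_lit 0, nat_lit 4, nat_lit 5, nat_lit 0, nat_lit 1, nat_lit 3, nat_lit 1, nat_lit 0, nat_lit 4, nat_lit 0, nat_lit 2, nat_lit 2, nat_lit 0, nat_lit 2, nat_lit 0])) (.leaf ((nat_lit 429), [nat_lit 1, nat_lit 3, nat_lit 2, nat_lit 5, nat_lit 4, nat_lit 3, nat_lit 0, nat_lit 4, nat_lit 0, nat_lit 2, nat_lit 2,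 nat_lit 0])))) (.node (nat_lit 2726) (.leaf ((nat_lit 1404), [nat_lit 2, nat_lit 0, nat_lit 5, nat_lit 0, nat_lit 4, nat_lit 1, nat_lit 3, nat_lit 2, nat_lit 0, nat_lit 1, nat_lit 0, nat_lit 2, nat_lit 2])) (.node (nat_lit 2727) (.leaf ((nat_lit 1200), [nat_lit 5, nat_lit 4, nat_lit 0, nat_lit 5, nat_lit 2, nat_lit 0, nat_lit 4, nat_lit 1, nat_lit 3, nat_lit 2, nat_lit 0, nat_lit 2, nat_lit 0, nat_lit 1, nat_lit 0, nat_lit 1])) (.leaf ((nat_lit 1360), [nat_lit 2, nat_lit 0, nat_lit 3, nat_lit 1, nat_lit 0, nat_lit 2, nat_lit 2, nat_lit 0, nat_lit 2])))))))))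
 (.node (nat_lit 2772) (.node (nat_lit 2750) (.node (nat_lit 2739) (.node (nat_lit 2733) (.node (nat_lit 2730) (.node (nat_lit 2729) (.leaf ((nat_lit 544), [nat_lit 2, nat_lit 5, nat_lit 0, nat_lit 5, nat_lit 0, nat_lit 1, nat_lit 3, nat_lit 1, nat_lit 3, nat_lit 0, nat_lit 1, nat_lit 0, nat_lit 2, nat_lit 2, nat_lit 0, nat_lit 1])) (.leaf ((nat_lit 1403), [nat_lit 3, nat_lit 1, nat_lit 5, nat_lit 2, nat_lit 5, nat_lit 0, nat_lit 2, nat_lit 0, nat_lit 2, nat_lit 4, nat_lit 2, nat_lit 2, nat_lit 0, nat_lit 2, nat_lit 0, nat_lit 1, nat_lit 0]))) (.node (nat_lit 2731) (.leaf ((nat_lit 1249), [nat_lit 5, nat_lit 4, nat_lit 5, nat_lit 2, nat_lit 5, nat_lit 3, nat_lit 4, nat_lit 0, nat_lit 4, nat_lit 1, nat_lit 3, nat_lit 0, nat_lit 1, nat_lit 0, nat_lit 2, nat_lit 0, nat_lit 2, nat_lit 0])) (.node (nat_lit 2732) (.leaf ((nat_lit 706), [nat_lit 5, nat_lit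 4, nat_lit 5, nat_lit 2, nat_lit 4, nat_lit 1, nat_lit 0, nat_lit 2, nat_lit 3, nat_lit 2, nat_lit 0, nat_lit 2, nat_lit 2, nat_lit 0, nat_lit 2, nat_lit 0])) (.leaf ((nat_lit 1181), [nat_lit 4, nat_lit 3, nat_lit 5, nat_lit 3, nat_lit 1, nat_lit 0, nat_lit 2, nat_lit 3, nat_lit 2, nat_lit 2, nat_lit 0, nat_lit 2, nat_lit 0])))))
 (.node (nat_lit 2736) (.node (nat_lit 2734) (.leaf ((nat_lit 1231), [nat_lit 5, nat_lit 4, nat_lit 1, nat_lit 0, nat_lit 5, nat_lit 3, nat_lit 0, nat_lit 4, nat_lit 2, nat_lit 0, nat_lit 1, nat_lit 0, nat_lit 1, nat_lit 0, nat_lit 2])) (.node (nat_lit 2735) (.leaf ((nat_lit 1405), [nat_lit 5, nat_lit 1, nat_lit 5, nat_lit 2, nat_lit 0, nat_lit 4, nat_lit 3, nat_lit 0, nat_lit 2, nat_lit 2, nat_lit 0, nat_lit 2, nat_lit 0])) (.leaf ((nat_lit 1406), [nat_lit 5, nat_lit 2, nat_lit 3, nat_lit 0, nat_lit 5, nat_lit 0, nat_lit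 3, nat_lit 4, nat_lit 3, nat_lit 2, nat_lit 0, nat_lit 2])))) (.node (nat_lit 2737) (.leaf ((nat_lit 1381), [nat_lit 4, nat_lit 5, nat_lit 2, nat_lit 0, nat_lit 5, nat_lit 3, nat_lit 4, nat_lit 0, nat_lit 3, nat_lit 1, nat_lit 3, nat_lit 2, nat_lit 2, nat_lit 0, nat_lit 1, nat_lit 0, nat_lit 2, nat_lit 2, nat_lit 0])) (.node (nat_lit 2738) (.leaf ((nat_lit 1318), [nat_lit 1, nat_lit 5, nat_lit 0, nat_lit 5, nat_lit 0, nat_lit 1, nat_lit 4, nat_lit 3, nat_lit 2, nat_lit 2, nat_lit 0, nat_lit 2, nat_lit 2, nat_lit 0, nat_lit 1])) (.leaf ((nat_lit 1102), [nat_lit 1, nat_lit 5, nat_lit 3, nat_lit 5, nat_lit 2, nat_lit 3, nat_lit 0, nat_lit 1, nat_lit 0, nat_lit 3, nat_lit 0, nat_lit 2, nat_lit 0, nat_lit 2, nat_lit 2, nat_lit 0]))))))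
 (.node (nat_lit 2744) (.node (nat_lit 2741) (.node (nat_lit 2740) (.leaf ((nat_lit 285), [nat_lit 5, nat_lit 0, nat_lit 5, nat_lit 0, nat_lit 1, nat_lit 0, nat_lit 3, nat_lit 0, nat_lit 1, nat_lit 0, nat_lit 1])) (.leaf ((nat_lit 573), [nat_lit 2, nat_lit 3, nat_lit 0, nat_lit 5, nat_lit 1, nat_lit 0, nat_lit 3, nat_lit 1, nat_lit 4, nat_lit 2, nat_lit 0, nat_lit 2, nat_lit 0, nat_lit 1, nat_lit 0, nat_lit 1, nat_lit 0]))) (.node (nat_lit 2742) (.leaf ((nat_lit 1372), [nat_lit 1, nat_lit 5, nat_lit 2, nat_lit 5, nat_lit 4, nat_lit 3, nat_lit 2, nat_lit 3, nat_lit 0, nat_lit 3, nat_lit 0, nat_lit 1, nat_lit 0, nat_lit 2, nat_lit 2, nat_lit 0, nat_lit 2, nat_lit 0])) (.node (nat_lit 2743) (.leaf ((nat_lit 859), [nat_lit 0, nat_lit 5, nat_lit 0, nat_lit 1, nat_lit 5, nat_lit 0, nat_lit 4, nat_lit 1, nat_lit 3, nat_lit 0, nat_lit 3, nat_lit 1, nat_lit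 0, nat_lit 2, nat_lit 2, nat_lit 0, nat_lit 2])) (.leaf ((nat_lit 1379), [nat_lit 1, nat_lit 5, nat_lit 0, nat_lit 5, nat_lit 3, nat_lit 1, nat_lit 4, nat_lit 0, nat_lit 1, nat_lit 0, nat_lit 2])))))
 (.node (nat_lit 2747) (.node (nat_lit 2745) (.leaf ((nat_lit 1170), [nat_lit 3, nat_lit 1, nat_lit 5, nat_lit 2, nat_lit 5, nat_lit 2, nat_lit 4, nat_lit 3, nat_lit 0, nat_lit 3])) (.node (nat_lit 2746) (.leaf ((nat_lit 1175), [nat_lit 4, nat_lit 5, nat_lit 2, nat_lit 5, nat_lit 3, nat_lit 2, nat_lit 3, nat_lit 2, nat_lit 2, nat_lit 3, nat_lit 2, nat_lit 0, nat_lit 1, nat_lit 0, nat_lit 2, nat_lit 0, nat_lit 2])) (.leaf ((nat_lit 142), [nat_lit 2, nat_lit 5, nat_lit 0, nat_lit 1, nat_lit 5, nat_lit 0, nat_lit 3, nat_lit 4, nat_lit 2, nat_lit 0, nat_lit 4, nat_lit 2, nat_lit 2, nat_lit 0, nat_lit 2, nat_lit 2, nat_lit 0, nat_lit 2, nat_lit 2, nat_lit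 0])))) (.node (nat_lit 2748) (.leaf ((nat_lit 1405), [nat_lit 2, nat_lit 2, nat_lit 5, nat_lit 1, nat_lit 5, nat_lit 4, nat_lit 3, nat_lit 0, nat_lit 1, nat_lit 0, nat_lit 3, nat_lit 2, nat_lit 0])) (.node (nat_lit 2749) (.leaf ((nat_lit 1310), [nat_lit 3, nat_lit 5, nat_lit 0, nat_lit 3, nat_lit 5, nat_lit 3, nat_lit 0, nat_lit 3, nat_lit 2, nat_lit 3, nat_lit 2, nat_lit 2, nat_lit 0, nat_lit 1])) (.leaf ((nat_lit 97), [nat_lit 5, nat_lit 4, nat_lit 3, nat_lit 5, nat_lit 2, nat_lit 5, nat_lit 4, nat_lit 3, nat_lit 1, nat_lit 3, nat_lit 0, nat_lit 3, nat_lit 2, nat_lit 0, nat_lit 2, nat_lit 2, nat_lit 0, nat_lit 2, nat_lit 2, nat_lit 0])))))))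
 (.node (nat_lit 2761) (.node (nat_lit 2755) (.node (nat_lit 2752) (.node (nat_lit 2751) (.leaf ((nat_lit 806), [nat_lit 0, nat_lit 1, nat_lit 5, nat_lit 2, nat_lit 4, nat_lit 1, nat_lit 4, nat_lit 1, nat_lit 3, nat_lit 1, nat_lit 0, nat_lit 1])) (.leaf ((nat_lit 1283), [nat_lit 2, nat_lit 5, nat_lit 4, nat_lit 5, nat_lit 3, nat_lit 2, nat_lit 2, nat_lit 0, nat_lit 4, nat_lit 0, nat_lit 2]))) (.node (nat_lit 2753) (.leaf ((nat_lit 1290), [nat_lit 5, nat_lit 1, nat_lit 0, nat_lit 2, nat_lit 5, nat_lit 3, nat_lit 2, nat_lit 2, nat_lit 3, nat_lit 0, nat_lit 2, nat_lit 2, nat_lit 0, nat_lit 1, nat_lit 0, nat_lit 2])) (.node (nat_lit 2754) (.leaf ((nat_lit 1156), [nat_lit 5, nat_lit 0, nat_lit 4, nat_lit 5, nat_lit 3, nat_lit 0, nat_lit 3, nat_lit 2, nat_lit 0, nat_lit 3, nat_lit 2, nat_lit 0, nat_lit 2, nat_lit 0, nat_lit 1, nat_lit 0, nat_lit 1, nat_lit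 0])) (.leaf ((nat_lit 255), [nat_lit 5, nat_lit 3, nat_lit 0, nat_lit 5, nat_lit 3, nat_lit 2, nat_lit 0, nat_lit 2, nat_lit 2, nat_lit 0, nat_lit 2, nat_lit 0])))))
 (.node (nat_lit 2758) (.node (nat_lit 2756) (.leaf ((nat_lit 584), [nat_lit 0, nat_lit 5, nat_lit 3, nat_lit 0, nat_lit 5, nat_lit 1, nat_lit 3, nat_lit 4, nat_lit 0, nat_lit 2, nat_lit 4, nat_lit 0, nat_lit 1, nat_lit 0, nat_lit 2, nat_lit 2, nat_lit 0, nat_lit 2, nat_lit 0])) (.node (nat_lit 2757) (.leaf ((nat_lit 1385), [nat_lit 2, nat_lit 2, nat_lit 0, nat_lit 5, nat_lit 4, nat_lit 1, nat_lit 3, nat_lit 0, nat_lit 2, nat_lit 2, nat_lit 0, nat_lit 2, nat_lit 0])) (.leaf ((nat_lit 1407), [nat_lit 4, nat_lit 3, nat_lit 2, nat_lit 5, nat_lit 4, nat_lit 0, nat_lit 4, nat_lit 0, nat_lit 4, nat_lit 2, nat_lit 0, nat_lit 2, nat_lit 2, nat_lit 0, nat_lit 2, nat_lit 2, nat_lit 0])))) (.node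 (nat_lit 2759) (.leaf ((nat_lit 483), [nat_lit 3, nat_lit 1, nat_lit 5, nat_lit 2, nat_lit 5, nat_lit 2, nat_lit 3, nat_lit 4, nat_lit 2, nat_lit 3, nat_lit 1, nat_lit 0, nat_lit 1, nat_lit 0, nat_lit 2, nat_lit 0, nat_lit 2])) (.node (nat_lit 2760) (.leaf ((nat_lit 840), [nat_lit 2, nat_lit 3, nat_lit 0, nat_lit 5, nat_lit 0, nat_lit 3, nat_lit 2, nat_lit 0, nat_lit 3, nat_lit 1, nat_lit 0, nat_lit 2, nat_lit 0, nat_lit 1, nat_lit 0])) (.leaf ((nat_lit 1407), [nat_lit 2, nat_lit 2, nat_lit 5, nat_lit 4, nat_lit 3, nat_lit 1, nat_lit 0, nat_lit 2, nat_lit 3, nat_lit 2, nat_lit 2, nat_lit 0, nat_lit 1, nat_lit 0]))))))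
 (.node (nat_lit 2766) (.node (nat_lit 2763) (.node (nat_lit 2762) (.leaf ((nat_lit 1394), [nat_lit 5, nat_lit 0, nat_lit 1, nat_lit 5, nat_lit 4, nat_lit 0, nat_lit 4, nat_lit 1, nat_lit 3, nat_lit 2, nat_lit 2, nat_lit 0, nat_lit 1, nat_lit 0])) (.leaf ((nat_lit 1070), [nat_lit 5, nat_lit 4, nat_lit 3, nat_lit 0, nat_lit 5, nat_lit 3, nat_lit 0, nat_lit 1, nat_lit 3, nat_lit 4, nat_lit 2, nat_lit 3, nat_lit 2, nat_lit 2, nat_lit 0, nat_lit 1, nat_lit 0, nat_lit 2, nat_lit 2]))) (.node (nat_lit 2764) (.leaf ((nat_lit 1319), [nat_lit 2, nat_lit 3, nat_lit 5, nat_lit 0, nat_lit 5, nat_lit 2, nat_lit 0, nat_lit 3, nat_lit 1, nat_lit 3, nat_lit 1, nat_lit 0, nat_lit 2, nat_lit 0])) (.node (nat_lit 2765) (.leaf ((nat_lit 1239), [nat_lit 5, nat_lit 1, nat_lit 0, nat_lit 3, nat_lit 5, nat_lit 4, nat_lit 3, nat_lit 2, nat_lit 0, nat_lit 3, nat_lit 2, nat_lit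 2, nat_lit 0, nat_lit 2, nat_lit 2, nat_lit 0, nat_lit 2, nat_lit 0])) (.leaf ((nat_lit 980), [nat_lit 0, nat_lit 2, nat_lit 5, nat_lit 0, nat_lit 1, nat_lit 4, nat_lit 3, nat_lit 2, nat_lit 3])))))
 (.node (nat_lit 2769) (.node (nat_lit 2767) (.leaf ((nat_lit 1056), [nat_lit 1, nat_lit 5, nat_lit 3, nat_lit 5, nat_lit 4, nat_lit 0, nat_lit 3, nat_lit 0, nat_lit 2, nat_lit 3, nat_lit 2, nat_lit 2, nat_lit 0, nat_lit 1, nat_lit 0, nat_lit 2, nat_lit 2])) (.node (nat_lit 2768) (.leaf ((nat_lit 1079), [nat_lit 5, nat_lit 3, nat_lit 5, nat_lit 4, nat_lit 2, nat_lit 3, nat_lit 4, nat_lit 2, nat_lit 0, nat_lit 1, nat_lit 0])) (.leaf ((nat_lit 1338), [nat_lit 3, nat_lit 4, nat_lit 5, nat_lit 2, nat_lit 5, nat_lit 0, nat_lit 2, nat_lit 0, nat_lit 2, nat_lit 3, nat_lit 2, nat_lit 2, nat_lit 0, nat_lit 1, nat_lit 0, nat_lit 2, nat_lit 0])))) (.node (nat_lit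 2770) (.leaf ((nat_lit 694), [nat_lit 3, nat_lit 4, nat_lit 3, nat_lit 5, nat_lit 1, nat_lit 3, nat_lit 0, nat_lit 2, nat_lit 2, nat_lit 0, nat_lit 1, nat_lit 0, nat_lit 2])) (.node (nat_lit 2771) (.leaf ((nat_lit 1228), [nat_lit 2, nat_lit 4, nat_lit 2, nat_lit 0, nat_lit 5, nat_lit 1, nat_lit 4, nat_lit 1, nat_lit 3, nat_lit 4, nat_lit 2, nat_lit 0, nat_lit 2, nat_lit 2, nat_lit 0, nat_lit 2, nat_lit 2, nat_lit 0])) (.leaf ((nat_lit 391), [nat_lit 5, nat_lit 2, nat_lit 0, nat_lit 5, nat_lit 3, nat_lit 4, nat_lit 1, nat_lit 3, nat_lit 0, nat_lit 3, nat_lit 2, nat_lit 2, nat_lit 0, nat_lit 2, nat_lit 2, nat_lit 0, nat_lit 2, nat_lit 2]))))))))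
 (.node (nat_lit 2794) (.node (nat_lit 2783) (.node (nat_lit 2777) (.node (nat_lit 2774) (.node (nat_lit 2773) (.leaf ((nat_lit 1406), [nat_lit 4, nat_lit 5, nat_lit 4, nat_lit 0, nat_lit 5, nat_lit 0, nat_lit 4, nat_lit 2, nat_lit 0, nat_lit 4, nat_lit 1, nat_lit 0, nat_lit 1, nat_lit 0, nat_lit 2, nat_lit 0, nat_lit 2, nat_lit 0])) (.leaf ((nat_lit 1398), [nat_lit 3, nat_lit 1, nat_lit 3, nat_lit 0, nat_lit 5, nat_lit 2, nat_lit 0, nat_lit 4, nat_lit 1, nat_lit 3, nat_lit 2, nat_lit 2, nat_lit 0, nat_lit 1, nat_lit 0, nat_lit 2, nat_lit 0]))) (.node (nat_lit 2775) (.leaf ((nat_lit 947), [nat_lit 1, nat_lit 0, nat_lit 5, nat_lit 2, nat_lit 4, nat_lit 3, nat_lit 0, nat_lit 2, nat_lit 2, nat_lit 0, nat_lit 1, nat_lit 0, nat_lit 2, nat_lit 0])) (.node (nat_lit 2776) (.leaf ((nat_lit 1120), [nat_lit 5, nat_lit 1, nat_lit 0, nat_lit 2, nat_lit 5, nat_lit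 2, nat_lit 4, nat_lit 2, nat_lit 0, nat_lit 2, nat_lit 3, nat_lit 0, nat_lit 2, nat_lit 0, nat_lit 2, nat_lit 2, nat_lit 0, nat_lit 2])) (.leaf ((nat_lit 1212), [nat_lit 4, nat_lit 5, nat_lit 2, nat_lit 0, nat_lit 5, nat_lit 4, nat_lit 1, nat_lit 0, nat_lit 1, nat_lit 0, nat_lit 3, nat_lit 1, nat_lit 0, nat_lit 1, nat_lit 0])))))
 (.node (nat_lit 2780) (.node (nat_lit 2778) (.leaf ((nat_lit 628), [nat_lit 2, nat_lit 5, nat_lit 0, nat_lit 5, nat_lit 2, nat_lit 4, nat_lit 3, nat_lit 0, nat_lit 3, nat_lit 2, nat_lit 2, nat_lit 0, nat_lit 1, nat_lit 0, nat_lit 2])) (.node (nat_lit 2779) (.leaf ((nat_lit 1315), [nat_lit 4, nat_lit 2, nat_lit 5, nat_lit 1, nat_lit 3, nat_lit 0, nat_lit 3, nat_lit 2, nat_lit 3, nat_lit 1, nat_lit 0, nat_lit 2, nat_lit 2, nat_lit 0, nat_lit 2, nat_lit 2])) (.leaf ((nat_lit 1364), [nat_lit 4, nat_lit 5, nat_lit 2, nat_lit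 4, nat_lit 0, nat_lit 4, nat_lit 0, nat_lit 4, nat_lit 1, nat_lit 0])))) (.node (nat_lit 2781) (.leaf ((nat_lit 205), [nat_lit 2, nat_lit 4, nat_lit 2, nat_lit 0, nat_lit 5, nat_lit 2, nat_lit 3, nat_lit 4, nat_lit 1, nat_lit 0, nat_lit 2, nat_lit 2, nat_lit 0, nat_lit 2, nat_lit 2, nat_lit 0])) (.node (nat_lit 2782) (.leaf ((nat_lit 1390), [nat_lit 5, nat_lit 0, nat_lit 3, nat_lit 5, nat_lit 0, nat_lit 1, nat_lit 3, nat_lit 4, nat_lit 2, nat_lit 3, nat_lit 2, nat_lit 2, nat_lit 0, nat_lit 2, nat_lit 2, nat_lit 0, nat_lit 1, nat_lit 0])) (.leaf ((nat_lit 514), [nat_lit 0, nat_lit 1, nat_lit 5, nat_lit 3, nat_lit 4, nat_lit 0, nat_lit 2, nat_lit 2, nat_lit 3, nat_lit 2, nat_lit 0, nat_lit 2]))))))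
 (.node (nat_lit 2788) (.node (nat_lit 2785) (.node (nat_lit 2784) (.leaf ((nat_lit 998), [nat_lit 4, nat_lit 5, nat_lit 0, nat_lit 3, nat_lit 5, nat_lit 4, nat_lit 1, nat_lit 0, nat_lit 4, nat_lit 2, nat_lit 0])) (.leaf ((nat_lit 14), [nat_lit 4, nat_lit 5, nat_lit 1, nat_lit 5, nat_lit 3, nat_lit 0, nat_lit 4, nat_lit 1, nat_lit 4, nat_lit 2, nat_lit 0, nat_lit 2, nat_lit 2, nat_lit 0, nat_lit 2, nat_lit 0]))) (.node (nat_lit 2786) (.leaf ((nat_lit 1057), [nat_lit 2, nat_lit 4, nat_lit 2, nat_lit 0, nat_lit 5, nat_lit 4, nat_lit 0, nat_lit 2, nat_lit 3, nat_lit 2, nat_lit 0, nat_lit 3, nat_lit 0, nat_lit 2, nat_lit 2, nat_lit 0, nat_lit 1, nat_lit 0, nat_lit 2])) (.node (nat_lit 2787) (.leaf ((nat_lit 1074), [nat_lit 2, nat_lit 5, nat_lit 3, nat_lit 0, nat_lit 1, nat_lit 0, nat_lit 3, nat_lit 2, nat_lit 0, nat_lit 2, nat_lit 0])) (.leaf ((nat_lit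 1339), [nat_lit 2, nat_lit 5, nat_lit 4, nat_lit 5, nat_lit 0, nat_lit 4, nat_lit 2, nat_lit 2, nat_lit 0, nat_lit 2, nat_lit 2, nat_lit 0, nat_lit 2])))))
 (.node (nat_lit 2791) (.node (nat_lit 2789) (.leaf ((nat_lit 1402), [nat_lit 5, nat_lit 2, nat_lit 0, nat_lit 2, nat_lit 5, nat_lit 0, nat_lit 2, nat_lit 2, nat_lit 3, nat_lit 2, nat_lit 4, nat_lit 2, nat_lit 2, nat_lit 0, nat_lit 1, nat_lit 0, nat_lit 2, nat_lit 2])) (.node (nat_lit 2790) (.leaf ((nat_lit 1071), [nat_lit 5, nat_lit 2, nat_lit 0, nat_lit 2, nat_lit 5, nat_lit 4, nat_lit 2, nat_lit 0, nat_lit 4, nat_lit 3, nat_lit 0, nat_lit 2, nat_lit 0, nat_lit 2, nat_lit 2, nat_lit 0, nat_lit 1, nat_lit 0])) (.leaf ((nat_lit 1384), [nat_lit 5, nat_lit 4, nat_lit 5, nat_lit 2, nat_lit 5, nat_lit 1, nat_lit 4, nat_lit 3, nat_lit 2, nat_lit 0, nat_lit 2, nat_lit 2, nat_lit 0])))) (.node (nat_lit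 2792) (.leaf ((nat_lit 1326), [nat_lit 3, nat_lit 2, nat_lit 5, nat_lit 0, nat_lit 1, nat_lit 3, nat_lit 1, nat_lit 0, nat_lit 4, nat_lit 0, nat_lit 2, nat_lit 2, nat_lit 0, nat_lit 2, nat_lit 0, nat_lit 1, nat_lit 0])) (.node (nat_lit 2793) (.leaf ((nat_lit 1388), [nat_lit 5, nat_lit 4, nat_lit 5, nat_lit 1, nat_lit 5, nat_lit 1, nat_lit 4, nat_lit 2, nat_lit 3, nat_lit 1, nat_lit 3, nat_lit 0, nat_lit 2, nat_lit 2, nat_lit 0, nat_lit 2, nat_lit 0])) (.leaf ((nat_lit 570), [nat_lit 4, nat_lit 5, nat_lit 3, nat_lit 0, nat_lit 5, nat_lit 4, nat_lit 2, nat_lit 0, nat_lit 3, nat_lit 0, nat_lit 4, nat_lit 0, nat_lit 2, nat_lit 0, nat_lit 1])))))))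
 (.node (nat_lit 2805) (.node (nat_lit 2799) (.node (nat_lit 2796) (.node (nat_lit 2795) (.leaf ((nat_lit 1054), [nat_lit 5, nat_lit 4, nat_lit 2, nat_lit 0, nat_lit 5, nat_lit 3, nat_lit 2, nat_lit 4, nat_lit 0, nat_lit 1, nat_lit 0, nat_lit 2, nat_lit 0, nat_lit 2, nat_lit 2])) (.leaf ((nat_lit 1386), [nat_lit 5, nat_lit 4, nat_lit 1, nat_lit 0, nat_lit 5, nat_lit 0, nat_lit 2, nat_lit 0, nat_lit 3, nat_lit 4, nat_lit 1, nat_lit 0, nat_lit 2, nat_lit 2]))) (.node (nat_lit 2797) (.leaf ((nat_lit 965), [nat_lit 2, nat_lit 4, nat_lit 5, nat_lit 2, nat_lit 0, nat_lit 5, nat_lit 4, nat_lit 1, nat_lit 3, nat_lit 2, nat_lit 4, nat_lit 0, nat_lit 2, nat_lit 2, nat_lit 0, nat_lit 1, nat_lit 0, nat_lit 2, nat_lit 0])) (.node (nat_lit 2798) (.leaf ((nat_lit 736), [nat_lit 5, nat_lit 2, nat_lit 3, nat_lit 5, nat_lit 3, nat_lit 4, nat_lit 1, nat_lit 3, nat_lit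 1, nat_lit 3, nat_lit 2, nat_lit 2, nat_lit 0, nat_lit 1])) (.leaf ((nat_lit 247), [nat_lit 5, nat_lit 4, nat_lit 3, nat_lit 5, nat_lit 2, nat_lit 5, nat_lit 1, nat_lit 3, nat_lit 0, nat_lit 3, nat_lit 0, nat_lit 2, nat_lit 2, nat_lit 0, nat_lit 2, nat_lit 0, nat_lit 1, nat_lit 0])))))
 (.node (nat_lit 2802) (.node (nat_lit 2800) (.leaf ((nat_lit 902), [nat_lit 1, nat_lit 5, nat_lit 0, nat_lit 5, nat_lit 2, nat_lit 3, nat_lit 1, nat_lit 3, nat_lit 0, nat_lit 3, nat_lit 2, nat_lit 2, nat_lit 0, nat_lit 2, nat_lit 2, nat_lit 0, nat_lit 2, nat_lit 2, nat_lit 0])) (.node (nat_lit 2801) (.leaf ((nat_lit 1373), [nat_lit 5, nat_lit 1, nat_lit 0, nat_lit 2, nat_lit 5, nat_lit 0, nat_lit 4, nat_lit 2, nat_lit 0, nat_lit 4, nat_lit 2, nat_lit 2])) (.leaf ((nat_lit 833), [nat_lit 4, nat_lit 3, nat_lit 0, nat_lit 5, nat_lit 0, nat_lit 2, nat_lit 2, nat_lit 0,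 nat_lit 4, nat_lit 0, nat_lit 2, nat_lit 0, nat_lit 1, nat_lit 0, nat_lit 1, nat_lit 0])))) (.node (nat_lit 2803) (.leaf ((nat_lit 1366), [nat_lit 0, nat_lit 5, nat_lit 0, nat_lit 1, nat_lit 5, nat_lit 4, nat_lit 1, nat_lit 4, nat_lit 2, nat_lit 4, nat_lit 3, nat_lit 2, nat_lit 2, nat_lit 0, nat_lit 1, nat_lit 0])) (.node (nat_lit 2804) (.leaf ((nat_lit 1185), [nat_lit 4, nat_lit 3, nat_lit 5, nat_lit 3, nat_lit 0, nat_lit 3, nat_lit 2, nat_lit 0, nat_lit 3, nat_lit 2, nat_lit 0, nat_lit 2, nat_lit 2, nat_lit 0, nat_lit 2, nat_lit 2, nat_lit 0])) (.leaf ((nat_lit 769), [nat_lit 2, nat_lit 3, nat_lit 0, nat_lit 5, nat_lit 4, nat_lit 3, nat_lit 1, nat_lit 4, nat_lit 1, nat_lit 3, nat_lit 2, nat_lit 2, nat_lit 0, nat_lit 2, nat_lit 2, nat_lit 0, nat_lit 2]))))))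
 (.node (nat_lit 2810) (.node (nat_lit 2807) (.node (nat_lit 2806) (.leaf ((nat_lit 1396), [nat_lit 0, nat_lit 4, nat_lit 5, nat_lit 4, nat_lit 2, nat_lit 0, nat_lit 2, nat_lit 4, nat_lit 0, nat_lit 1, nat_lit 0, nat_lit 2, nat_lit 2, nat_lit 0, nat_lit 2, nat_lit 0])) (.leaf ((nat_lit 1404), [nat_lit 2, nat_lit 2, nat_lit 0, nat_lit 5, nat_lit 1, nat_lit 0, nat_lit 3, nat_lit 0, nat_lit 2, nat_lit 2, nat_lit 0, nat_lit 2, nat_lit 0, nat_lit 1]))) (.node (nat_lit 2808) (.leaf ((nat_lit 1132), [nat_lit 2, nat_lit 5, nat_lit 3, nat_lit 5, nat_lit 2, nat_lit 0, nat_lit 1, nat_lit 4, nat_lit 3, nat_lit 2, nat_lit 2, nat_lit 0, nat_lit 2, nat_lit 2])) (.node (nat_lit 2809) (.leaf ((nat_lit 1382), [nat_lit 3, nat_lit 4, nat_lit 5, nat_lit 2, nat_lit 5, nat_lit 3, nat_lit 1, nat_lit 3, nat_lit 1, nat_lit 4, nat_lit 0, nat_lit 2, nat_lit 0, nat_lit 2, nat_lit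 2, nat_lit 0])) (.leaf ((nat_lit 342), [nat_lit 3, nat_lit 0, nat_lit 5, nat_lit 3, nat_lit 5, nat_lit 3, nat_lit 2, nat_lit 3, nat_lit 2, nat_lit 3, nat_lit 0, nat_lit 1, nat_lit 0, nat_lit 2, nat_lit 2, nat_lit 0, nat_lit 2])))))
 (.node (nat_lit 2813) (.node (nat_lit 2811) (.leaf ((nat_lit 245), [nat_lit 2, nat_lit 2, nat_lit 0, nat_lit 5, nat_lit 3, nat_lit 0, nat_lit 4, nat_lit 1, nat_lit 4, nat_lit 1, nat_lit 0, nat_lit 2, nat_lit 2])) (.node (nat_lit 2812) (.leaf ((nat_lit 137), [nat_lit 5, nat_lit 3, nat_lit 2, nat_lit 5, nat_lit 0, nat_lit 4, nat_lit 0, nat_lit 1, nat_lit 0, nat_lit 3, nat_lit 2, nat_lit 0, nat_lit 2])) (.leaf ((nat_lit 740), [nat_lit 3, nat_lit 4, nat_lit 5, nat_lit 2, nat_lit 5, nat_lit 3, nat_lit 2, nat_lit 0, nat_lit 2, nat_lit 2, nat_lit 3, nat_lit 0, nat_lit 1, nat_lit 0, nat_lit 2, nat_lit 2, nat_lit 0, nat_lit 2,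 nat_lit 0])))) (.node (nat_lit 2814) (.leaf ((nat_lit 1350), [nat_lit 5, nat_lit 0, nat_lit 4, nat_lit 5, nat_lit 3, nat_lit 2, nat_lit 2, nat_lit 4, nat_lit 3, nat_lit 2, nat_lit 2, nat_lit 0, nat_lit 2, nat_lit 2, nat_lit 0, nat_lit 2])) (.node (nat_lit 2815) (.leaf ((nat_lit 1297), [nat_lit 3, nat_lit 1, nat_lit 5, nat_lit 2, nat_lit 5, nat_lit 1, nat_lit 4, nat_lit 3, nat_lit 1, nat_lit 0, nat_lit 4, nat_lit 2, nat_lit 0, nat_lit 2, nat_lit 2, nat_lit 0, nat_lit 2])) (.leaf ((nat_lit 1255), [nat_lit 4, nat_lit 5, nat_lit 2, nat_lit 5, nat_lit 3, nat_lit 4, nat_lit 3, nat_lit 2, nat_lit 4, nat_lit 3, nat_lit 0, nat_lit 1, nat_lit 0, nat_lit 1, nat_lit 0]))))))))))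
noncomputable def pWd : Tr (ℕ × List ℕ) := (.node (nat_lit 1408) (.node (nat_lit 704) (.node (nat_lit 352) (.node (nat_lit 176) pWd_0 pWd_1) (.node (nat_lit 528) pWd_2 pWd_3)) (.node (nat_lit 1056) (.node (nat_lit 880) pWd_4 pWd_5) (.node (nat_lit 1232) pWd_6 pWd_7))) (.node (nat_lit 2112) (.node (nat_lit 1760) (.node (nat_lit 1584) pWd_8 pWd_9) (.node (nat_lit 1936) pWd_10 pWd_11)) (.node (nat_lit 2464) (.node (nat_lit 2288) pWd_12 pWd_13) (.node (nat_lit 2640) pWd_14 pWd_15))))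
theorem pq_0 : allR 0 407 (dbl2Chk (nat_lit 10) (nat_lit 1023) (U62.L.map Lev.b) xS h2T v1T pDd 2 1408 2 pPA pWd) = true := by decide +kernel
theorem pq_1 : allR 407 407 (dbl2Chk (nat_lit 10) (nat_lit 1023) (U62.L.map Lev.b) xS h2T v1T pDd 2 1408 2 pPA pWd) = true := by decide +kernel
theorem pq_2 : allR 814 406 (dbl2Chk (nat_lit 10) (nat_lit 1023) (U62.L.map Lev.b) xS h2T v1T pDd 2 1408 2 pPA pWd) = true := by decide +kernel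
theorem pq_3 : allR 1220 188 (dbl2Chk (nat_lit 10) (nat_lit 1023) (U62.L.map Lev.b) xS h2T v1T pDd 2 1408 2 pPA pWd) = true := by decide +kernel
theorem pq : allR 0 1408 (dbl2Chk (nat_lit 10) (nat_lit 1023) (U62.L.map Lev.b) xS h2T v1T pDd 2 1408 2 pPA pWd) = true := (allR_add (allR_add (allR_add pq_0 pq_1) pq_2) pq_3)
theorem pD {G : Type*} [Group G] [Finite G] {X : Type*} [MulAction G X] {pt : ℕ → X} (C : Ch G 693 (nat_lit 10) (nat_lit 1023) pt U62.T U62.L) : Lets G 693 (nat_lit 10) (nat_lit 1023) pt pDd := lets_words C.lets pdE pdw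
theorem pd {G : Type*} [Group G] [Finite G] {X : Type*} [MulAction G X] {pt : ℕ → X} (C : Ch G 693 (nat_lit 10) (nat_lit 1023) pt U62.T U62.L) {U V : Subgroup G} (hU : Lets U 693 (nat_lit 10) (nat_lit 1023) pt h2T) (hV : Lets V 693 (nat_lit 10) (nat_lit 1023) pt v1T) (g : G) :
    ∃ i < 2, ∃ u ∈ U, ∃ x ∈ V, g = u * (pD C).e i * x :=
  C.dbl3 (xl C) xslp (by decide +kernel) hU hV (pD C) pq (by decide +kernel) g
noncomputable def pNE : Tr (List ℕ × List ℕ × List ℕ) := (.node (nat_lit 1) (.leaf ([], [nat_lit 0], [nat_lit 5, nat_lit 99, nat_lit 4])) (.leaf ([nat_lit 0, nat_lit 9, nat_lit 6, nat_lit 0, nat_lit 9, nat_lit 0, nat_lit 5, nat_lit 1, nat_lit 8, nat_lit 7, nat_lit 3, nat_lit 7, nat_lit 5, nat_lit 3, nat_lit 5, nat_lit 1], [nat_lit 0], [nat_lit 99, nat_lit 2, nat_lit 0])))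
theorem pn : allB 2 (ncjChk (nat_lit 10) (nat_lit 1023) (U62.L.map Lev.b) U62.T h1T h2T pDd 11 pNE) = true := by decide +kernel
theorem ncp {G : Type*} [Group G] [Finite G] {X : Type*} [MulAction G X] {pt : ℕ → X} (C : Ch G 693 (nat_lit 10) (nat_lit 1023) pt U62.T U62.L) {A B : Subgroup G} (hA : Ch A 693 (nat_lit 10) (nat_lit 1023) pt h1T h1L) (hB : Ch B 693 (nat_lit 10) (nat_lit 1023) pt h2T h2L) :
    ¬ ∃ g : G, A.map (MulAut.conj g).toMonoidHom = B :=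
  let ⟨V, h, h'⟩ := exV1 C
  C.nconj hA.lets hB.lets (pD C) (pd C hB.lets h) (h' _ (hA.le_norm C.base (v1l C) v1n)) (by norm_num) (by rw [hA.card]; decide +kernel) pn
noncomputable def qDd : Tr ℕ := (.node (nat_lit 1) (.leaf (nat_lit 0x2b4aceb2ac6b0abeaeab6acaaeaaaa6a8a9ea6a96a4a8ea2a86a0a7e9ea769ca6e9aa6698a5e96a5694a4e92a4690a3e8ea368ca2e8aa2688a1e86a1684a0e82a06809fe7e9f67c9ee7a9e6789de769d6749ce729c6709be6e9b66c9ae6a9a66899e669966498e629866097e5e9765c96e5a9665895e569565494e529465093e4e9364c92e4a9264891e469164490e42906408fe3e8f63c8ee3a8e6388de368d6348ce328c6308be2e8b62c8ae2a8a62889e268962488e228862087e1e8761c86e1a8661885e168561484e128461083e0e8360c82e0a8260881e068160480e02806007fdfe7f5fc7edfa7e5f87ddf67d5f47cdf27c5f07bdee7b5ec7adea7a5e879de6795e478de2785e077dde775dc76dda765d875dd6755d474dd2745d073dce735cc72dca725c871dc6715c470dc2705c06fdbe6f5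bc6edba6e5b86ddb66d5b46cdb26c5b06bdae6b5ac6adaa6a5a869da6695a468da2685a067d9e6759c66d9a6659865d966559464d926459063d8e6358c62d8a6258861d866158460d82605805fd7e5f57c5ed7a5e5785dd765d5745cd725c5705bd6e5b56c5ad6a5a56859d665956458d625856057d5e5755c56d5a5655855d565555454d525455053d4e5354c52d4a5254851d465154450d42505404fd3e4f53c4ed3a4e5384dd364d5344cd324c5304bd2e4b52c4ad2a4a52849d264952448d224852047d1e4751c46d1a4651845d164551444d124451043d0e4350c42d0a4250841d064150440d02405003fcfe3f4fc3ecfa3e4f83dcf63d4f43ccf23c4f03bcee3b4ec3acea3a4e839ce6394e438ce2384e037cde374dc36cda364d835cd6354d434cd2344d033cce334cc32cca324c831cc6314c430cc2304c02fcbe2f4bc2ecba2e4b82dcb62d4b42ccb22c4b02bcae2b4ac2acaa2a4a829ca6294a428ca2284a027c9e2749c26c9a2649825c962549424c922449023c8e2348c22c8a2248821c862148420c82204801fc7e1f47c1ec7a1e4781dc761d4741cc721c4701bc6e1b46c1ac6a1a46819c661946418c621846017c5e1745c16c5a1645815c561545414c521445013c4e1344c12c4a1244811c461144410c42104400fc3e0f43c0ec3a0e4380dc360d4340cc320c4300bc2e0b42c0ac2a0a42809c260942408c220842007c1e0741c06c1a0641805c160541404c120441003c0e0340c02c0a0240801c060140400c0200400))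 (.leaf (nat_lit 0x199960da18c15278c77a67a3c2526125a5c4db79cf19e4fe4b15d061971922c668dc98e8f570891889c744327a1b60b4785052e751d250112ac93341d8f3224d2a5b17744670c8b71e2b4d83a10c4c539bb88961aba36008551fa4169cbf44e9a4fe31aaa6f80a87440d18fc9452d1fa99067193477a106c0160ec4e7f4806f07d004569b5ff394e79097a82105a6d70ad1082306c084f26364c6228034a5b7d0f6484918d4930e474ac0cc0009b455b3801a63a21a6aab32f0a8a5c6d5a0f393a2f7212253414838450284da11f5a18b5024951d52059ea89122729c59014886a23a3a6994697755df8391f070a828c15633c131bc968dc5ba867daa56c8858b3ea8c2b65e0fe250906a4e0cd14d6a86d2f83103660ba95a885f4fb1a49206a120d2750c0330d9d68554585d48741826723894d9e2e01d1948e784c56d5eb8a958400d77927807d5e2402019dee899c078db7549014b60903e7c13e7f7daab2600d1c5644714a6fdef60482170075ee9645e6b309fe35972844ed43e677657609cf787d91180a2430a60aa7290cb09828e2b0b2632a41c9851cc9a041194ee3b6b5f91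454f915bd21c032145f812683023d3b1a28d1ca680b97ca83a89235a57e8b8ce1510b109044c96d0946823e4b598f949cb42ac7f16086a48bd992166a4eb4a53a46d3e72d7882e930f61d6d1e22cdc17b47728011a8d89495534c4d34f1c48a61e545be6b2054a83e2dc1742aac9f9db2bdaf0b0702651815cef920840a1747626930e3e690060c4384453d84e39755433f4e251cde95173569024c0a30707c51008310e065a559d0c97b155a28fc124dd11c9f93d6007a767955f97e8b64dcd7dda18ccc10329d58e71a805d1e59f6029573a6a7f026891df12a4a6e5b27820a5ad0e5bab1918f5641da970a502d3914a4065201351141418a924f86385a1ae982a8bb8f17c3a83c7c60f0494c492065fcd04d5c94de515261c4760d6b9dc1d8d9121ba204449b12b38e9499916a7250696322f8236e22055290a0623588613540e1eca442595436af25c291b8ca91d92a9df39748a71662104f45422d6ad283fead47987088ae2342b19a6e3617981ce610165a95260b8830bc5e3ba1868d759969160e8580d9d37e2831a70a7a8d56661274b606d6f386571e8a10669f9cdea9ed9ba243501037519fb73dcc7ea1456e5975e192c5d36194212de69dccb)))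
noncomputable def qdE : Tr (List ℕ) := (.node (nat_lit 1) (.leaf []) (.leaf [nat_lit 1, nat_lit 9, nat_lit 6, nat_lit 0, nat_lit 9, nat_lit 6, nat_lit 1, nat_lit 8, nat_lit 6, nat_lit 4, nat_lit 8, nat_lit 1, nat_lit 3, nat_lit 7, nat_lit 4, nat_lit 7, nat_lit 5, nat_lit 4, nat_lit 5, nat_lit 2, nat_lit 0]))
theorem qdw_0 : qDd.all2 (fun c w => isProd 693 (nat_lit 10) (nat_lit 1023) U62.T c w) qdE = true := by decide +kernel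
theorem qdw : qDd.all2 (fun c w => isProd 693 (nat_lit 10) (nat_lit 1023) U62.T c w) qdE = true := qdw_0
noncomputable def qPA_0 : Tr (ℕ × List ℕ) := (.node (nat_lit 88) (.node (nat_lit 44) (.node (nat_lit 22) (.node (nat_lit 11) (.node (nat_lit 5) (.node (nat_lit 2) (.node (nat_lit 1) (.leaf ((nat_lit 0), [])) (.leaf ((nat_lit 1), []))) (.node (nat_lit 3) (.leaf ((nat_lit 1), [nat_lit 5, nat_lit 7, nat_lit 1, nat_lit 5])) (.node (nat_lit 4) (.leaf ((nat_lit 1), [nat_lit 0, nat_lit 5, nat_lit 3, nat_lit 7, nat_lit 1])) (.leaf ((nat_lit 1), [nat_lit 2, nat_lit 7, nat_lit 3, nat_lit 7, nat_lit 0])))))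
 (.node (nat_lit 8) (.node (nat_lit 6) (.leaf ((nat_lit 1), [nat_lit 6, nat_lit 4, nat_lit 7, nat_lit 0])) (.node (nat_lit 7) (.leaf ((nat_lit 1), [nat_lit 3, nat_lit 0, nat_lit 7, nat_lit 0])) (.leaf ((nat_lit 1), [nat_lit 6, nat_lit 7, nat_lit 1, nat_lit 5])))) (.node (nat_lit 9) (.leaf ((nat_lit 1), [nat_lit 6, nat_lit 3, nat_lit 1, nat_lit 7, nat_lit 4, nat_lit 0])) (.node (nat_lit 10) (.leaf ((nat_lit 1), [nat_lit 4, nat_lit 7, nat_lit 0])) (.leaf ((nat_lit 1), [nat_lit 2, nat_lit 1, nat_lit 7, nat_lit 2]))))))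
 (.node (nat_lit 16) (.node (nat_lit 13) (.node (nat_lit 12) (.leaf ((nat_lit 1), [nat_lit 4, nat_lit 5, nat_lit 7, nat_lit 5])) (.leaf ((nat_lit 1), [nat_lit 2, nat_lit 7, nat_lit 6]))) (.node (nat_lit 14) (.leaf ((nat_lit 1), [nat_lit 7, nat_lit 4, nat_lit 7, nat_lit 2])) (.node (nat_lit 15) (.leaf ((nat_lit 1), [nat_lit 2, nat_lit 7, nat_lit 4, nat_lit 7, nat_lit 0])) (.leaf ((nat_lit 1), [nat_lit 6, nat_lit 7, nat_lit 2, nat_lit 5])))))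
 (.node (nat_lit 19) (.node (nat_lit 17) (.leaf ((nat_lit 1), [nat_lit 2, nat_lit 6, nat_lit 7, nat_lit 0])) (.node (nat_lit 18) (.leaf ((nat_lit 1), [nat_lit 2, nat_lit 5, nat_lit 7, nat_lit 2, nat_lit 1])) (.leaf ((nat_lit 1), [nat_lit 6, nat_lit 7, nat_lit 1, nat_lit 5, nat_lit 0])))) (.node (nat_lit 20) (.leaf ((nat_lit 1), [nat_lit 7, nat_lit 6, nat_lit 2, nat_lit 7])) (.node (nat_lit 21) (.leaf ((nat_lit 1), [nat_lit 4, nat_lit 6, nat_lit 7])) (.leaf ((nat_lit 1), [nat_lit 2, nat_lit 6, nat_lit 0, nat_lit 7, nat_lit 2])))))))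
 (.node (nat_lit 33) (.node (nat_lit 27) (.node (nat_lit 24) (.node (nat_lit 23) (.leaf ((nat_lit 1), [nat_lit 6, nat_lit 0, nat_lit 5, nat_lit 7, nat_lit 1])) (.leaf ((nat_lit 1), [nat_lit 3, nat_lit 5, nat_lit 4, nat_lit 7]))) (.node (nat_lit 25) (.leaf ((nat_lit 0), [nat_lit 5, nat_lit 1])) (.node (nat_lit 26) (.leaf ((nat_lit 1), [nat_lit 7, nat_lit 3, nat_lit 1, nat_lit 7])) (.leaf ((nat_lit 1), [nat_lit 3, nat_lit 5, nat_lit 0, nat_lit 7, nat_lit 1])))))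
 (.node (nat_lit 30) (.node (nat_lit 28) (.leaf ((nat_lit 1), [nat_lit 3, nat_lit 6, nat_lit 5, nat_lit 7, nat_lit 0])) (.node (nat_lit 29) (.leaf ((nat_lit 1), [nat_lit 4, nat_lit 0, nat_lit 7, nat_lit 5, nat_lit 2])) (.leaf ((nat_lit 1), [nat_lit 5, nat_lit 6, nat_lit 4, nat_lit 7, nat_lit 0])))) (.node (nat_lit 31) (.leaf ((nat_lit 1), [nat_lit 3, nat_lit 5, nat_lit 7, nat_lit 1, nat_lit 5])) (.node (nat_lit 32) (.leaf ((nat_lit 1), [nat_lit 7, nat_lit 2, nat_lit 7, nat_lit 2, nat_lit 1])) (.leaf ((nat_lit 1), [nat_lit 5, nat_lit 6, nat_lit 1, nat_lit 5, nat_lit 7, nat_lit 1]))))))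
 (.node (nat_lit 38) (.node (nat_lit 35) (.node (nat_lit 34) (.leaf ((nat_lit 1), [nat_lit 3, nat_lit 7, nat_lit 5, nat_lit 0, nat_lit 7])) (.leaf ((nat_lit 1), [nat_lit 2, nat_lit 7, nat_lit 4, nat_lit 1, nat_lit 5]))) (.node (nat_lit 36) (.leaf ((nat_lit 1), [nat_lit 7, nat_lit 6, nat_lit 7, nat_lit 5, nat_lit 2])) (.node (nat_lit 37) (.leaf ((nat_lit 1), [nat_lit 5, nat_lit 6, nat_lit 7, nat_lit 0, nat_lit 7])) (.leaf ((nat_lit 1), [nat_lit 3, nat_lit 7, nat_lit 1])))))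
 (.node (nat_lit 41) (.node (nat_lit 39) (.leaf ((nat_lit 1), [nat_lit 3, nat_lit 1, nat_lit 5, nat_lit 7, nat_lit 1])) (.node (nat_lit 40) (.leaf ((nat_lit 0), [nat_lit 5, nat_lit 2, nat_lit 7, nat_lit 2, nat_lit 0])) (.leaf ((nat_lit 0), [nat_lit 1, nat_lit 7, nat_lit 2, nat_lit 0])))) (.node (nat_lit 42) (.leaf ((nat_lit 1), [nat_lit 1, nat_lit 7, nat_lit 2, nat_lit 1])) (.node (nat_lit 43) (.leaf ((nat_lit 1), [nat_lit 6, nat_lit 7, nat_lit 3, nat_lit 5, nat_lit 2])) (.leaf ((nat_lit 1), [nat_lit 0, nat_lit 7, nat_lit 6, nat_lit 7, nat_lit 3]))))))))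
 (.node (nat_lit 66) (.node (nat_lit 55) (.node (nat_lit 49) (.node (nat_lit 46) (.node (nat_lit 45) (.leaf ((nat_lit 1), [nat_lit 7, nat_lit 1, nat_lit 5, nat_lit 7])) (.leaf ((nat_lit 1), [nat_lit 2, nat_lit 7, nat_lit 6, nat_lit 3, nat_lit 7]))) (.node (nat_lit 47) (.leaf ((nat_lit 1), [nat_lit 2, nat_lit 7, nat_lit 0, nat_lit 5, nat_lit 3])) (.node (nat_lit 48) (.leaf ((nat_lit 1), [nat_lit 4, nat_lit 3, nat_lit 1, nat_lit 7, nat_lit 1])) (.leaf ((nat_lit 1), [nat_lit 7, nat_lit 4, nat_lit 2, nat_lit 5])))))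
 (.node (nat_lit 52) (.node (nat_lit 50) (.leaf ((nat_lit 0), [nat_lit 4, nat_lit 0, nat_lit 7, nat_lit 3])) (.node (nat_lit 51) (.leaf ((nat_lit 1), [nat_lit 7, nat_lit 3, nat_lit 5, nat_lit 2])) (.leaf ((nat_lit 1), [nat_lit 0, nat_lit 5, nat_lit 3])))) (.node (nat_lit 53) (.leaf ((nat_lit 1), [nat_lit 6, nat_lit 7, nat_lit 5, nat_lit 2])) (.node (nat_lit 54) (.leaf ((nat_lit 1), [nat_lit 5, nat_lit 3, nat_lit 7, nat_lit 3, nat_lit 1])) (.leaf ((nat_lit 1), [nat_lit 7, nat_lit 0, nat_lit 7, nat_lit 4, nat_lit 0]))))))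
 (.node (nat_lit 60) (.node (nat_lit 57) (.node (nat_lit 56) (.leaf ((nat_lit 1), [nat_lit 4, nat_lit 3, nat_lit 0, nat_lit 7])) (.leaf ((nat_lit 1), [nat_lit 0, nat_lit 7, nat_lit 1, nat_lit 7, nat_lit 0]))) (.node (nat_lit 58) (.leaf ((nat_lit 0), [nat_lit 5, nat_lit 7, nat_lit 5])) (.node (nat_lit 59) (.leaf ((nat_lit 1), [nat_lit 5, nat_lit 7, nat_lit 6, nat_lit 2])) (.leaf ((nat_lit 1), [nat_lit 0, nat_lit 6, nat_lit 1, nat_lit 7])))))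
 (.node (nat_lit 63) (.node (nat_lit 61) (.leaf ((nat_lit 0), [nat_lit 3, nat_lit 7])) (.node (nat_lit 62) (.leaf ((nat_lit 1), [nat_lit 7, nat_lit 5, nat_lit 0, nat_lit 7, nat_lit 1])) (.leaf ((nat_lit 0), [nat_lit 0, nat_lit 7, nat_lit 3])))) (.node (nat_lit 64) (.leaf ((nat_lit 0), [nat_lit 3, nat_lit 7, nat_lit 2, nat_lit 0])) (.node (nat_lit 65) (.leaf ((nat_lit 1), [nat_lit 7, nat_lit 6, nat_lit 4, nat_lit 7, nat_lit 1])) (.leaf ((nat_lit 1), [nat_lit 4, nat_lit 7, nat_lit 1, nat_lit 7])))))))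
 (.node (nat_lit 77) (.node (nat_lit 71) (.node (nat_lit 68) (.node (nat_lit 67) (.leaf ((nat_lit 1), [nat_lit 0, nat_lit 5, nat_lit 2, nat_lit 7, nat_lit 1])) (.leaf ((nat_lit 1), [nat_lit 3, nat_lit 5]))) (.node (nat_lit 69) (.leaf ((nat_lit 1), [nat_lit 5, nat_lit 3, nat_lit 7, nat_lit 1])) (.node (nat_lit 70) (.leaf ((nat_lit 1), [nat_lit 3])) (.leaf ((nat_lit 0), [nat_lit 3, nat_lit 7, nat_lit 2])))))
 (.node (nat_lit 74) (.node (nat_lit 72) (.leaf ((nat_lit 1), [nat_lit 4, nat_lit 6, nat_lit 7, nat_lit 6, nat_lit 2])) (.node (nat_lit 73) (.leaf ((nat_lit 1), [nat_lit 3, nat_lit 7, nat_lit 2, nat_lit 1])) (.leaf ((nat_lit 1), [nat_lit 5, nat_lit 6])))) (.node (nat_lit 75) (.leaf ((nat_lit 1), [nat_lit 2, nat_lit 5, nat_lit 6, nat_lit 7])) (.node (nat_lit 76) (.leaf ((nat_lit 1), [nat_lit 3, nat_lit 5, nat_lit 7, nat_lit 6, nat_lit 2])) (.leaf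 ((nat_lit 1), [nat_lit 4, nat_lit 7, nat_lit 0, nat_lit 7, nat_lit 2]))))))
 (.node (nat_lit 82) (.node (nat_lit 79) (.node (nat_lit 78) (.leaf ((nat_lit 1), [nat_lit 2, nat_lit 7, nat_lit 6, nat_lit 2])) (.leaf ((nat_lit 0), [nat_lit 5, nat_lit 7, nat_lit 3, nat_lit 0]))) (.node (nat_lit 80) (.leaf ((nat_lit 1), [nat_lit 5, nat_lit 1, nat_lit 7, nat_lit 6, nat_lit 2])) (.node (nat_lit 81) (.leaf ((nat_lit 1), [nat_lit 4, nat_lit 0])) (.leaf ((nat_lit 1), [nat_lit 2, nat_lit 0, nat_lit 6, nat_lit 7, nat_lit 1])))))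
 (.node (nat_lit 85) (.node (nat_lit 83) (.leaf ((nat_lit 1), [nat_lit 2, nat_lit 7, nat_lit 0])) (.node (nat_lit 84) (.leaf ((nat_lit 1), [nat_lit 6, nat_lit 1])) (.leaf ((nat_lit 1), [nat_lit 1, nat_lit 5, nat_lit 7, nat_lit 3, nat_lit 0])))) (.node (nat_lit 86) (.leaf ((nat_lit 1), [nat_lit 0, nat_lit 5, nat_lit 7, nat_lit 1])) (.node (nat_lit 87) (.leaf ((nat_lit 1), [nat_lit 6, nat_lit 2, nat_lit 7, nat_lit 6, nat_lit 1])) (.leaf ((nat_lit 1), [nat_lit 1, nat_lit 7, nat_lit 3, nat_lit 0])))))))))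
 (.node (nat_lit 132) (.node (nat_lit 110) (.node (nat_lit 99) (.node (nat_lit 93) (.node (nat_lit 90) (.node (nat_lit 89) (.leaf ((nat_lit 1), [nat_lit 2, nat_lit 6, nat_lit 7, nat_lit 2])) (.leaf ((nat_lit 1), [nat_lit 0, nat_lit 5, nat_lit 0]))) (.node (nat_lit 91) (.leaf ((nat_lit 1), [nat_lit 3, nat_lit 6, nat_lit 1, nat_lit 5, nat_lit 7])) (.node (nat_lit 92) (.leaf ((nat_lit 1), [nat_lit 7, nat_lit 6, nat_lit 7, nat_lit 2])) (.leaf ((nat_lit 1), [nat_lit 5, nat_lit 3, nat_lit 7])))))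
 (.node (nat_lit 96) (.node (nat_lit 94) (.leaf ((nat_lit 1), [nat_lit 4, nat_lit 3, nat_lit 1, nat_lit 7])) (.node (nat_lit 95) (.leaf ((nat_lit 1), [nat_lit 1, nat_lit 5, nat_lit 7, nat_lit 2])) (.leaf ((nat_lit 1), [nat_lit 2, nat_lit 7, nat_lit 1, nat_lit 5, nat_lit 3])))) (.node (nat_lit 97) (.leaf ((nat_lit 1), [nat_lit 1, nat_lit 7, nat_lit 2, nat_lit 7, nat_lit 0])) (.node (nat_lit 98) (.leaf ((nat_lit 1), [nat_lit 4, nat_lit 2, nat_lit 7, nat_lit 2])) (.leaf ((nat_lit 1), [nat_lit 5, nat_lit 7, nat_lit 3, nat_lit 6]))))))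
 (.node (nat_lit 104) (.node (nat_lit 101) (.node (nat_lit 100) (.leaf ((nat_lit 1), [nat_lit 0, nat_lit 5, nat_lit 1, nat_lit 7, nat_lit 5, nat_lit 0])) (.leaf ((nat_lit 1), [nat_lit 1, nat_lit 5, nat_lit 2]))) (.node (nat_lit 102) (.leaf ((nat_lit 1), [nat_lit 3, nat_lit 5, nat_lit 3, nat_lit 7])) (.node (nat_lit 103) (.leaf ((nat_lit 1), [nat_lit 5, nat_lit 4, nat_lit 2, nat_lit 1, nat_lit 7, nat_lit 1])) (.leaf ((nat_lit 1), [nat_lit 7, nat_lit 2, nat_lit 7, nat_lit 2])))))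
 (.node (nat_lit 107) (.node (nat_lit 105) (.leaf ((nat_lit 1), [nat_lit 3, nat_lit 7, nat_lit 6, nat_lit 3, nat_lit 0])) (.node (nat_lit 106) (.leaf ((nat_lit 1), [nat_lit 3, nat_lit 0, nat_lit 7, nat_lit 6])) (.leaf ((nat_lit 1), [nat_lit 2, nat_lit 7, nat_lit 0, nat_lit 7, nat_lit 0])))) (.node (nat_lit 108) (.leaf ((nat_lit 0), [nat_lit 5, nat_lit 2, nat_lit 0])) (.node (nat_lit 109) (.leaf ((nat_lit 1), [nat_lit 0, nat_lit 6, nat_lit 7, nat_lit 3, nat_lit 7])) (.leaf ((nat_lit 1), [nat_lit 5, nat_lit 7, nat_lit 4, nat_lit 3])))))))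
 (.node (nat_lit 121) (.node (nat_lit 115) (.node (nat_lit 112) (.node (nat_lit 111) (.leaf ((nat_lit 1), [nat_lit 2, nat_lit 5, nat_lit 4, nat_lit 7])) (.leaf ((nat_lit 1), [nat_lit 5, nat_lit 1, nat_lit 7, nat_lit 3, nat_lit 1]))) (.node (nat_lit 113) (.leaf ((nat_lit 1), [nat_lit 1, nat_lit 6, nat_lit 3, nat_lit 7, nat_lit 1])) (.node (nat_lit 114) (.leaf ((nat_lit 1), [nat_lit 4, nat_lit 6, nat_lit 7, nat_lit 0, nat_lit 7])) (.leaf ((nat_lit 1), [nat_lit 7, nat_lit 4, nat_lit 0, nat_lit 5])))))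
 (.node (nat_lit 118) (.node (nat_lit 116) (.leaf ((nat_lit 1), [nat_lit 4, nat_lit 6, nat_lit 7, nat_lit 6, nat_lit 4])) (.node (nat_lit 117) (.leaf ((nat_lit 1), [nat_lit 1, nat_lit 7, nat_lit 6, nat_lit 7])) (.leaf ((nat_lit 1), [nat_lit 1, nat_lit 5, nat_lit 7, nat_lit 0])))) (.node (nat_lit 119) (.leaf ((nat_lit 1), [nat_lit 4, nat_lit 1, nat_lit 6, nat_lit 7, nat_lit 2])) (.node (nat_lit 120) (.leaf ((nat_lit 1), [nat_lit 7, nat_lit 5, nat_lit 7, nat_lit 4, nat_lit 0])) (.leaf ((nat_lit 1), [nat_lit 6, nat_lit 2, nat_lit 7, nat_lit 0]))))))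
 (.node (nat_lit 126) (.node (nat_lit 123) (.node (nat_lit 122) (.leaf ((nat_lit 1), [nat_lit 5, nat_lit 7, nat_lit 2, nat_lit 7, nat_lit 2, nat_lit 5])) (.leaf ((nat_lit 1), [nat_lit 7, nat_lit 4, nat_lit 7]))) (.node (nat_lit 124) (.leaf ((nat_lit 0), [nat_lit 1])) (.node (nat_lit 125) (.leaf ((nat_lit 1), [nat_lit 3, nat_lit 5, nat_lit 3, nat_lit 7, nat_lit 1])) (.leaf ((nat_lit 1), [nat_lit 7, nat_lit 5, nat_lit 2, nat_lit 1])))))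
 (.node (nat_lit 129) (.node (nat_lit 127) (.leaf ((nat_lit 1), [nat_lit 4, nat_lit 7, nat_lit 6, nat_lit 3, nat_lit 0])) (.node (nat_lit 128) (.leaf ((nat_lit 1), [nat_lit 2, nat_lit 6, nat_lit 7, nat_lit 1])) (.leaf ((nat_lit 1), [nat_lit 3, nat_lit 6, nat_lit 7, nat_lit 5])))) (.node (nat_lit 130) (.leaf ((nat_lit 1), [nat_lit 2, nat_lit 7, nat_lit 2, nat_lit 6])) (.node (nat_lit 131) (.leaf ((nat_lit 1), [nat_lit 2, nat_lit 6, nat_lit 7, nat_lit 5])) (.leaf ((nat_lit 1), [nat_lit 7, nat_lit 6, nat_lit 7, nat_lit 3]))))))))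
 (.node (nat_lit 154) (.node (nat_lit 143) (.node (nat_lit 137) (.node (nat_lit 134) (.node (nat_lit 133) (.leaf ((nat_lit 1), [nat_lit 3, nat_lit 7, nat_lit 2, nat_lit 0])) (.leaf ((nat_lit 1), [nat_lit 2, nat_lit 7, nat_lit 6, nat_lit 7, nat_lit 2]))) (.node (nat_lit 135) (.leaf ((nat_lit 1), [nat_lit 6, nat_lit 1, nat_lit 7, nat_lit 5, nat_lit 2, nat_lit 0])) (.node (nat_lit 136) (.leaf ((nat_lit 1), [nat_lit 5, nat_lit 7, nat_lit 5, nat_lit 7, nat_lit 6])) (.leaf ((nat_lit 1), [nat_lit 6, nat_lit 5, nat_lit 7, nat_lit 4, nat_lit 3])))))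
 (.node (nat_lit 140) (.node (nat_lit 138) (.leaf ((nat_lit 1), [nat_lit 2, nat_lit 7, nat_lit 0, nat_lit 7, nat_lit 6])) (.node (nat_lit 139) (.leaf ((nat_lit 1), [nat_lit 0, nat_lit 6, nat_lit 7])) (.leaf ((nat_lit 1), [nat_lit 2, nat_lit 6, nat_lit 7, nat_lit 6, nat_lit 2])))) (.node (nat_lit 141) (.leaf ((nat_lit 1), [nat_lit 2, nat_lit 5, nat_lit 2, nat_lit 7, nat_lit 0])) (.node (nat_lit 142) (.leaf ((nat_lit 1), [nat_lit 2, nat_lit 5, nat_lit 2, nat_lit 7])) (.leaf ((nat_lit 1), [nat_lit 3, nat_lit 7, nat_lit 6, nat_lit 2]))))))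
 (.node (nat_lit 148) (.node (nat_lit 145) (.node (nat_lit 144) (.leaf ((nat_lit 1), [nat_lit 5, nat_lit 7, nat_lit 0, nat_lit 5, nat_lit 7, nat_lit 0])) (.leaf ((nat_lit 1), [nat_lit 0, nat_lit 5, nat_lit 2, nat_lit 7, nat_lit 0]))) (.node (nat_lit 146) (.leaf ((nat_lit 1), [nat_lit 2, nat_lit 7, nat_lit 5, nat_lit 2])) (.node (nat_lit 147) (.leaf ((nat_lit 1), [nat_lit 4, nat_lit 5, nat_lit 7, nat_lit 2])) (.leaf ((nat_lit 0), [nat_lit 6, nat_lit 1, nat_lit 7, nat_lit 1])))))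
 (.node (nat_lit 151) (.node (nat_lit 149) (.leaf ((nat_lit 1), [nat_lit 6, nat_lit 2, nat_lit 6, nat_lit 7, nat_lit 2])) (.node (nat_lit 150) (.leaf ((nat_lit 1), [nat_lit 7, nat_lit 5, nat_lit 4, nat_lit 7])) (.leaf ((nat_lit 1), [nat_lit 2, nat_lit 6, nat_lit 7, nat_lit 1, nat_lit 5])))) (.node (nat_lit 152) (.leaf ((nat_lit 1), [nat_lit 4, nat_lit 6, nat_lit 7, nat_lit 5])) (.node (nat_lit 153) (.leaf ((nat_lit 1), [nat_lit 0, nat_lit 7, nat_lit 4, nat_lit 2, nat_lit 0])) (.leaf ((nat_lit 1), [nat_lit 6, nat_lit 7, nat_lit 5, nat_lit 0])))))))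
 (.node (nat_lit 165) (.node (nat_lit 159) (.node (nat_lit 156) (.node (nat_lit 155) (.leaf ((nat_lit 1), [nat_lit 2, nat_lit 1, nat_lit 6, nat_lit 7, nat_lit 2])) (.leaf ((nat_lit 1), [nat_lit 5, nat_lit 7, nat_lit 2, nat_lit 5, nat_lit 0]))) (.node (nat_lit 157) (.leaf ((nat_lit 1), [nat_lit 6, nat_lit 2, nat_lit 1, nat_lit 6, nat_lit 7])) (.node (nat_lit 158) (.leaf ((nat_lit 1), [nat_lit 3, nat_lit 0, nat_lit 7, nat_lit 3, nat_lit 7])) (.leaf ((nat_lit 1), [nat_lit 6, nat_lit 3, nat_lit 7, nat_lit 4, nat_lit 0])))))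
 (.node (nat_lit 162) (.node (nat_lit 160) (.leaf ((nat_lit 0), [nat_lit 2, nat_lit 7])) (.node (nat_lit 161) (.leaf ((nat_lit 1), [nat_lit 7, nat_lit 2, nat_lit 7, nat_lit 4, nat_lit 3])) (.leaf ((nat_lit 1), [nat_lit 3, nat_lit 7, nat_lit 2, nat_lit 6, nat_lit 7])))) (.node (nat_lit 163) (.leaf ((nat_lit 1), [nat_lit 0, nat_lit 5, nat_lit 1, nat_lit 7, nat_lit 5])) (.node (nat_lit 164) (.leaf ((nat_lit 1), [nat_lit 0, nat_lit 6, nat_lit 5, nat_lit 0, nat_lit 7])) (.leaf ((nat_lit 1), [nat_lit 0, nat_lit 7, nat_lit 5, nat_lit 2]))))))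
 (.node (nat_lit 170) (.node (nat_lit 167) (.node (nat_lit 166) (.leaf ((nat_lit 0), [nat_lit 3, nat_lit 7, nat_lit 1])) (.leaf ((nat_lit 1), [nat_lit 2, nat_lit 1, nat_lit 7, nat_lit 3, nat_lit 6]))) (.node (nat_lit 168) (.leaf ((nat_lit 1), [nat_lit 2, nat_lit 1, nat_lit 7, nat_lit 0])) (.node (nat_lit 169) (.leaf ((nat_lit 1), [nat_lit 6, nat_lit 3, nat_lit 6, nat_lit 7, nat_lit 1])) (.leaf ((nat_lit 1), [nat_lit 5, nat_lit 6, nat_lit 1, nat_lit 7, nat_lit 0])))))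
 (.node (nat_lit 173) (.node (nat_lit 171) (.leaf ((nat_lit 1), [nat_lit 1, nat_lit 7, nat_lit 4, nat_lit 7, nat_lit 0])) (.node (nat_lit 172) (.leaf ((nat_lit 1), [nat_lit 0, nat_lit 7, nat_lit 5, nat_lit 4])) (.leaf ((nat_lit 1), [nat_lit 7, nat_lit 3, nat_lit 7, nat_lit 2, nat_lit 0])))) (.node (nat_lit 174) (.leaf ((nat_lit 0), [nat_lit 4, nat_lit 0, nat_lit 7])) (.node (nat_lit 175) (.leaf ((nat_lit 1), [nat_lit 2, nat_lit 5, nat_lit 7, nat_lit 1])) (.leaf ((nat_lit 1), [nat_lit 5, nat_lit 7, nat_lit 0, nat_lit 5, nat_lit 7]))))))))))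
noncomputable def qPA_1 : Tr (ℕ × List ℕ) := (.node (nat_lit 264) (.node (nat_lit 220) (.node (nat_lit 198) (.node (nat_lit 187) (.node (nat_lit 181) (.node (nat_lit 178) (.node (nat_lit 177) (.leaf ((nat_lit 1), [nat_lit 7, nat_lit 1, nat_lit 7])) (.leaf ((nat_lit 1), [nat_lit 6, nat_lit 0, nat_lit 7, nat_lit 2]))) (.node (nat_lit 179) (.leaf ((nat_lit 1), [nat_lit 2, nat_lit 1, nat_lit 7, nat_lit 2, nat_lit 7])) (.node (nat_lit 180) (.leaf ((nat_lit 1), [nat_lit 4, nat_lit 7, nat_lit 0, nat_lit 7, nat_lit 0])) (.leaf ((nat_lit 1), [nat_lit 7, nat_lit 5, nat_lit 2, nat_lit 7])))))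
 (.node (nat_lit 184) (.node (nat_lit 182) (.leaf ((nat_lit 1), [nat_lit 1, nat_lit 7, nat_lit 4, nat_lit 1, nat_lit 5])) (.node (nat_lit 183) (.leaf ((nat_lit 1), [nat_lit 2, nat_lit 5, nat_lit 3])) (.leaf ((nat_lit 1), [nat_lit 2, nat_lit 0, nat_lit 7, nat_lit 3, nat_lit 7])))) (.node (nat_lit 185) (.leaf ((nat_lit 1), [nat_lit 4, nat_lit 2, nat_lit 1, nat_lit 7, nat_lit 5, nat_lit 0])) (.node (nat_lit 186) (.leaf ((nat_lit 1), [nat_lit 7, nat_lit 5, nat_lit 4])) (.leaf ((nat_lit 1), [nat_lit 5, nat_lit 2, nat_lit 7, nat_lit 1]))))))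
 (.node (nat_lit 192) (.node (nat_lit 189) (.node (nat_lit 188) (.leaf ((nat_lit 1), [nat_lit 6, nat_lit 5, nat_lit 0, nat_lit 7])) (.leaf ((nat_lit 1), [nat_lit 2, nat_lit 5]))) (.node (nat_lit 190) (.leaf ((nat_lit 1), [nat_lit 7, nat_lit 4, nat_lit 3, nat_lit 5])) (.node (nat_lit 191) (.leaf ((nat_lit 1), [nat_lit 7, nat_lit 6, nat_lit 7, nat_lit 5, nat_lit 4])) (.leaf ((nat_lit 1), [nat_lit 1, nat_lit 5, nat_lit 3, nat_lit 7])))))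
 (.node (nat_lit 195) (.node (nat_lit 193) (.leaf ((nat_lit 1), [nat_lit 3, nat_lit 7, nat_lit 0, nat_lit 7, nat_lit 0])) (.node (nat_lit 194) (.leaf ((nat_lit 1), [nat_lit 6, nat_lit 7, nat_lit 6, nat_lit 4])) (.leaf ((nat_lit 1), [nat_lit 1, nat_lit 6, nat_lit 7, nat_lit 5, nat_lit 0])))) (.node (nat_lit 196) (.leaf ((nat_lit 1), [nat_lit 6, nat_lit 1, nat_lit 7, nat_lit 3, nat_lit 6])) (.node (nat_lit 197) (.leaf ((nat_lit 0), [nat_lit 2])) (.leaf ((nat_lit 1), [nat_lit 5, nat_lit 1, nat_lit 6, nat_lit 7])))))))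
 (.node (nat_lit 209) (.node (nat_lit 203) (.node (nat_lit 200) (.node (nat_lit 199) (.leaf ((nat_lit 1), [nat_lit 3, nat_lit 7, nat_lit 3, nat_lit 7])) (.leaf ((nat_lit 1), [nat_lit 0, nat_lit 5, nat_lit 7, nat_lit 2, nat_lit 0]))) (.node (nat_lit 201) (.leaf ((nat_lit 1), [nat_lit 5, nat_lit 1, nat_lit 6, nat_lit 5, nat_lit 7, nat_lit 1])) (.node (nat_lit 202) (.leaf ((nat_lit 1), [nat_lit 6, nat_lit 4, nat_lit 7, nat_lit 3, nat_lit 6])) (.leaf ((nat_lit 0), [nat_lit 1, nat_lit 7, nat_lit 3])))))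
 (.node (nat_lit 206) (.node (nat_lit 204) (.leaf ((nat_lit 0), [nat_lit 1, nat_lit 5, nat_lit 7, nat_lit 1])) (.node (nat_lit 205) (.leaf ((nat_lit 1), [nat_lit 2, nat_lit 7])) (.leaf ((nat_lit 1), [nat_lit 6, nat_lit 1, nat_lit 7, nat_lit 5, nat_lit 7])))) (.node (nat_lit 207) (.leaf ((nat_lit 1), [nat_lit 4, nat_lit 1, nat_lit 7, nat_lit 2])) (.node (nat_lit 208) (.leaf ((nat_lit 1), [nat_lit 1, nat_lit 7, nat_lit 4, nat_lit 7, nat_lit 5, nat_lit 0])) (.leaf ((nat_lit 1), [nat_lit 3, nat_lit 6, nat_lit 7, nat_lit 2, nat_lit 6]))))))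
 (.node (nat_lit 214) (.node (nat_lit 211) (.node (nat_lit 210) (.leaf ((nat_lit 1), [nat_lit 2, nat_lit 7, nat_lit 1, nat_lit 5, nat_lit 2])) (.leaf ((nat_lit 0), [nat_lit 5, nat_lit 1, nat_lit 7, nat_lit 1]))) (.node (nat_lit 212) (.leaf ((nat_lit 1), [nat_lit 6, nat_lit 3, nat_lit 7, nat_lit 2, nat_lit 0])) (.node (nat_lit 213) (.leaf ((nat_lit 1), [nat_lit 1, nat_lit 5, nat_lit 7, nat_lit 3, nat_lit 7, nat_lit 0])) (.leaf ((nat_lit 1), [nat_lit 7, nat_lit 1, nat_lit 5, nat_lit 3])))))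
 (.node (nat_lit 217) (.node (nat_lit 215) (.leaf ((nat_lit 1), [nat_lit 4, nat_lit 0, nat_lit 5])) (.node (nat_lit 216) (.leaf ((nat_lit 0), [nat_lit 2, nat_lit 7, nat_lit 2, nat_lit 0])) (.leaf ((nat_lit 1), [nat_lit 7, nat_lit 2, nat_lit 7, nat_lit 1])))) (.node (nat_lit 218) (.leaf ((nat_lit 1), [nat_lit 0, nat_lit 5, nat_lit 7, nat_lit 0])) (.node (nat_lit 219) (.leaf ((nat_lit 1), [nat_lit 7, nat_lit 3, nat_lit 7, nat_lit 2, nat_lit 5, nat_lit 0])) (.leaf ((nat_lit 1), [nat_lit 5, nat_lit 7, nat_lit 6]))))))))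
 (.node (nat_lit 242) (.node (nat_lit 231) (.node (nat_lit 225) (.node (nat_lit 222) (.node (nat_lit 221) (.leaf ((nat_lit 1), [nat_lit 6, nat_lit 5, nat_lit 7])) (.leaf ((nat_lit 1), [nat_lit 5, nat_lit 2, nat_lit 0, nat_lit 7, nat_lit 1]))) (.node (nat_lit 223) (.leaf ((nat_lit 1), [nat_lit 7, nat_lit 1, nat_lit 5, nat_lit 7, nat_lit 0])) (.node (nat_lit 224) (.leaf ((nat_lit 1), [nat_lit 3, nat_lit 7, nat_lit 2, nat_lit 7, nat_lit 1])) (.leaf ((nat_lit 1), [nat_lit 6, nat_lit 4, nat_lit 7, nat_lit 1])))))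
 (.node (nat_lit 228) (.node (nat_lit 226) (.leaf ((nat_lit 1), [nat_lit 5, nat_lit 1, nat_lit 7])) (.node (nat_lit 227) (.leaf ((nat_lit 1), [nat_lit 5, nat_lit 7, nat_lit 0])) (.leaf ((nat_lit 1), [nat_lit 4, nat_lit 5, nat_lit 3, nat_lit 7, nat_lit 6, nat_lit 2])))) (.node (nat_lit 229) (.leaf ((nat_lit 1), [nat_lit 7, nat_lit 6, nat_lit 2, nat_lit 7, nat_lit 1])) (.node (nat_lit 230) (.leaf ((nat_lit 1), [nat_lit 2, nat_lit 6, nat_lit 5, nat_lit 7, nat_lit 0])) (.leaf ((nat_lit 1), [nat_lit 1, nat_lit 6, nat_lit 7, nat_lit 2, nat_lit 5, nat_lit 0]))))))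
 (.node (nat_lit 236) (.node (nat_lit 233) (.node (nat_lit 232) (.leaf ((nat_lit 1), [nat_lit 0, nat_lit 5, nat_lit 6, nat_lit 7, nat_lit 1])) (.leaf ((nat_lit 1), [nat_lit 7, nat_lit 6, nat_lit 7, nat_lit 3, nat_lit 1]))) (.node (nat_lit 234) (.leaf ((nat_lit 1), [nat_lit 7, nat_lit 2, nat_lit 7, nat_lit 4, nat_lit 0])) (.node (nat_lit 235) (.leaf ((nat_lit 1), [nat_lit 5, nat_lit 7, nat_lit 6, nat_lit 3, nat_lit 0])) (.leaf ((nat_lit 0), [nat_lit 6, nat_lit 1, nat_lit 7, nat_lit 2, nat_lit 0])))))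
 (.node (nat_lit 239) (.node (nat_lit 237) (.leaf ((nat_lit 1), [nat_lit 4, nat_lit 1, nat_lit 7])) (.node (nat_lit 238) (.leaf ((nat_lit 1), [nat_lit 7, nat_lit 5, nat_lit 7])) (.leaf ((nat_lit 1), [nat_lit 6, nat_lit 4, nat_lit 7, nat_lit 4, nat_lit 2])))) (.node (nat_lit 240) (.leaf ((nat_lit 1), [nat_lit 7, nat_lit 5, nat_lit 6, nat_lit 7, nat_lit 1])) (.node (nat_lit 241) (.leaf ((nat_lit 0), [nat_lit 7, nat_lit 6, nat_lit 7, nat_lit 2])) (.leaf ((nat_lit 1), [nat_lit 6, nat_lit 4, nat_lit 3, nat_lit 0, nat_lit 7])))))))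
 (.node (nat_lit 253) (.node (nat_lit 247) (.node (nat_lit 244) (.node (nat_lit 243) (.leaf ((nat_lit 1), [nat_lit 6, nat_lit 0, nat_lit 7, nat_lit 5, nat_lit 0])) (.leaf ((nat_lit 1), [nat_lit 7, nat_lit 1, nat_lit 6, nat_lit 7, nat_lit 6, nat_lit 2]))) (.node (nat_lit 245) (.leaf ((nat_lit 1), [nat_lit 3, nat_lit 1, nat_lit 7, nat_lit 5, nat_lit 6])) (.node (nat_lit 246) (.leaf ((nat_lit 1), [nat_lit 3, nat_lit 5, nat_lit 2, nat_lit 7, nat_lit 2])) (.leaf ((nat_lit 1), [nat_lit 0, nat_lit 7, nat_lit 0])))))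
 (.node (nat_lit 250) (.node (nat_lit 248) (.leaf ((nat_lit 1), [nat_lit 7, nat_lit 2, nat_lit 7, nat_lit 6])) (.node (nat_lit 249) (.leaf ((nat_lit 1), [nat_lit 5, nat_lit 3, nat_lit 0, nat_lit 7, nat_lit 6])) (.leaf ((nat_lit 1), [nat_lit 2, nat_lit 7, nat_lit 6, nat_lit 4])))) (.node (nat_lit 251) (.leaf ((nat_lit 1), [nat_lit 4, nat_lit 7, nat_lit 6, nat_lit 7, nat_lit 2])) (.node (nat_lit 252) (.leaf ((nat_lit 1), [nat_lit 6, nat_lit 1, nat_lit 7, nat_lit 1])) (.leaf ((nat_lit 1), [nat_lit 5, nat_lit 7, nat_lit 2, nat_lit 7, nat_lit 5]))))))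
 (.node (nat_lit 258) (.node (nat_lit 255) (.node (nat_lit 254) (.leaf ((nat_lit 1), [nat_lit 6, nat_lit 3, nat_lit 0, nat_lit 7])) (.leaf ((nat_lit 1), [nat_lit 0, nat_lit 7, nat_lit 2, nat_lit 7, nat_lit 1]))) (.node (nat_lit 256) (.leaf ((nat_lit 1), [nat_lit 0, nat_lit 7, nat_lit 6, nat_lit 7, nat_lit 2])) (.node (nat_lit 257) (.leaf ((nat_lit 1), [nat_lit 4, nat_lit 7, nat_lit 6, nat_lit 2, nat_lit 7, nat_lit 0])) (.leaf ((nat_lit 1), [nat_lit 7, nat_lit 5, nat_lit 7, nat_lit 2, nat_lit 7])))))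
 (.node (nat_lit 261) (.node (nat_lit 259) (.leaf ((nat_lit 1), [nat_lit 4, nat_lit 2, nat_lit 6, nat_lit 7, nat_lit 2])) (.node (nat_lit 260) (.leaf ((nat_lit 1), [nat_lit 5, nat_lit 7, nat_lit 3, nat_lit 5, nat_lit 2])) (.leaf ((nat_lit 1), [nat_lit 5, nat_lit 7, nat_lit 4, nat_lit 7, nat_lit 0])))) (.node (nat_lit 262) (.leaf ((nat_lit 1), [nat_lit 7, nat_lit 2, nat_lit 6, nat_lit 7])) (.node (nat_lit 263) (.leaf ((nat_lit 1), [nat_lit 1, nat_lit 7, nat_lit 3, nat_lit 6, nat_lit 7, nat_lit 0])) (.leaf ((nat_lit 1), [nat_lit 7, nat_lit 3, nat_lit 7])))))))))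
 (.node (nat_lit 308) (.node (nat_lit 286) (.node (nat_lit 275) (.node (nat_lit 269) (.node (nat_lit 266) (.node (nat_lit 265) (.leaf ((nat_lit 1), [nat_lit 2, nat_lit 7, nat_lit 2, nat_lit 7])) (.leaf ((nat_lit 1), [nat_lit 7, nat_lit 2, nat_lit 7, nat_lit 6, nat_lit 1]))) (.node (nat_lit 267) (.leaf ((nat_lit 1), [nat_lit 4, nat_lit 5, nat_lit 4, nat_lit 7, nat_lit 5])) (.node (nat_lit 268) (.leaf ((nat_lit 0), [nat_lit 4, nat_lit 1, nat_lit 7, nat_lit 3])) (.leaf ((nat_lit 1), [nat_lit 4, nat_lit 2, nat_lit 7, nat_lit 6, nat_lit 2])))))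
 (.node (nat_lit 272) (.node (nat_lit 270) (.leaf ((nat_lit 1), [nat_lit 5, nat_lit 7, nat_lit 6, nat_lit 7, nat_lit 1])) (.node (nat_lit 271) (.leaf ((nat_lit 1), [nat_lit 7, nat_lit 5, nat_lit 7, nat_lit 0, nat_lit 7, nat_lit 0])) (.leaf ((nat_lit 1), [nat_lit 3, nat_lit 7, nat_lit 5, nat_lit 2])))) (.node (nat_lit 273) (.leaf ((nat_lit 0), [nat_lit 7, nat_lit 3, nat_lit 5, nat_lit 7, nat_lit 1])) (.node (nat_lit 274) (.leaf ((nat_lit 1), [nat_lit 1, nat_lit 7, nat_lit 2])) (.leaf ((nat_lit 1), [nat_lit 3, nat_lit 7, nat_lit 5, nat_lit 7, nat_lit 1]))))))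
 (.node (nat_lit 280) (.node (nat_lit 277) (.node (nat_lit 276) (.leaf ((nat_lit 1), [nat_lit 3, nat_lit 7, nat_lit 3, nat_lit 5])) (.leaf ((nat_lit 1), [nat_lit 4, nat_lit 2, nat_lit 7, nat_lit 4, nat_lit 3]))) (.node (nat_lit 278) (.leaf ((nat_lit 1), [nat_lit 1, nat_lit 5, nat_lit 3])) (.node (nat_lit 279) (.leaf ((nat_lit 1), [nat_lit 6, nat_lit 7, nat_lit 6, nat_lit 3, nat_lit 7])) (.leaf ((nat_lit 0), [nat_lit 3, nat_lit 1, nat_lit 7, nat_lit 1])))))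
 (.node (nat_lit 283) (.node (nat_lit 281) (.leaf ((nat_lit 1), [nat_lit 0, nat_lit 7, nat_lit 5, nat_lit 7, nat_lit 2, nat_lit 5])) (.node (nat_lit 282) (.leaf ((nat_lit 1), [nat_lit 7, nat_lit 2, nat_lit 7, nat_lit 4, nat_lit 7, nat_lit 0])) (.leaf ((nat_lit 1), [nat_lit 4, nat_lit 0, nat_lit 7, nat_lit 0])))) (.node (nat_lit 284) (.leaf ((nat_lit 1), [nat_lit 3, nat_lit 7, nat_lit 3, nat_lit 7, nat_lit 1])) (.node (nat_lit 285) (.leaf ((nat_lit 1), [nat_lit 1, nat_lit 7, nat_lit 2, nat_lit 6])) (.leaf ((nat_lit 1), [nat_lit 4, nat_lit 7, nat_lit 6, nat_lit 2])))))))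
 (.node (nat_lit 297) (.node (nat_lit 291) (.node (nat_lit 288) (.node (nat_lit 287) (.leaf ((nat_lit 1), [nat_lit 4, nat_lit 6, nat_lit 3, nat_lit 0])) (.leaf ((nat_lit 1), [nat_lit 7]))) (.node (nat_lit 289) (.leaf ((nat_lit 1), [nat_lit 2, nat_lit 7, nat_lit 1, nat_lit 7])) (.node (nat_lit 290) (.leaf ((nat_lit 0), [nat_lit 3, nat_lit 7, nat_lit 3])) (.leaf ((nat_lit 1), [nat_lit 0, nat_lit 6, nat_lit 7, nat_lit 5, nat_lit 2])))))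
 (.node (nat_lit 294) (.node (nat_lit 292) (.leaf ((nat_lit 1), [nat_lit 0, nat_lit 5, nat_lit 3, nat_lit 7])) (.node (nat_lit 293) (.leaf ((nat_lit 1), [nat_lit 4, nat_lit 5, nat_lit 4])) (.leaf ((nat_lit 1), [nat_lit 0, nat_lit 6, nat_lit 3, nat_lit 7, nat_lit 1])))) (.node (nat_lit 295) (.leaf ((nat_lit 1), [nat_lit 0, nat_lit 6, nat_lit 1, nat_lit 7, nat_lit 1])) (.node (nat_lit 296) (.leaf ((nat_lit 1), [nat_lit 7, nat_lit 2, nat_lit 7, nat_lit 0, nat_lit 7])) (.leaf ((nat_lit 1), [nat_lit 2, nat_lit 7, nat_lit 3, nat_lit 7, nat_lit 4, nat_lit 2]))))))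
 (.node (nat_lit 302) (.node (nat_lit 299) (.node (nat_lit 298) (.leaf ((nat_lit 1), [nat_lit 2, nat_lit 0, nat_lit 7, nat_lit 6])) (.leaf ((nat_lit 0), [nat_lit 1, nat_lit 7]))) (.node (nat_lit 300) (.leaf ((nat_lit 0), [nat_lit 7, nat_lit 6, nat_lit 2, nat_lit 7])) (.node (nat_lit 301) (.leaf ((nat_lit 1), [nat_lit 7, nat_lit 3, nat_lit 6, nat_lit 7, nat_lit 5, nat_lit 0])) (.leaf ((nat_lit 1), [nat_lit 0, nat_lit 7, nat_lit 6, nat_lit 4])))))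
 (.node (nat_lit 305) (.node (nat_lit 303) (.leaf ((nat_lit 1), [nat_lit 3, nat_lit 7, nat_lit 1, nat_lit 5, nat_lit 2])) (.node (nat_lit 304) (.leaf ((nat_lit 1), [nat_lit 1, nat_lit 5, nat_lit 2, nat_lit 7, nat_lit 0])) (.leaf ((nat_lit 1), [nat_lit 3, nat_lit 7, nat_lit 4, nat_lit 2])))) (.node (nat_lit 306) (.leaf ((nat_lit 1), [nat_lit 2, nat_lit 6, nat_lit 2, nat_lit 7, nat_lit 1])) (.node (nat_lit 307) (.leaf ((nat_lit 1), [nat_lit 7, nat_lit 3, nat_lit 5, nat_lit 3])) (.leaf ((nat_lit 0), [nat_lit 4, nat_lit 7, nat_lit 3]))))))))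
 (.node (nat_lit 330) (.node (nat_lit 319) (.node (nat_lit 313) (.node (nat_lit 310) (.node (nat_lit 309) (.leaf ((nat_lit 1), [nat_lit 2, nat_lit 7, nat_lit 2, nat_lit 5])) (.leaf ((nat_lit 1), [nat_lit 4, nat_lit 7, nat_lit 5, nat_lit 0]))) (.node (nat_lit 311) (.leaf ((nat_lit 1), [nat_lit 1, nat_lit 5, nat_lit 2, nat_lit 7, nat_lit 2])) (.node (nat_lit 312) (.leaf ((nat_lit 1), [nat_lit 7, nat_lit 0])) (.leaf ((nat_lit 1), [nat_lit 0, nat_lit 7, nat_lit 5, nat_lit 7])))))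
 (.node (nat_lit 316) (.node (nat_lit 314) (.leaf ((nat_lit 1), [nat_lit 1, nat_lit 5, nat_lit 0])) (.node (nat_lit 315) (.leaf ((nat_lit 1), [nat_lit 7, nat_lit 1, nat_lit 5, nat_lit 2])) (.leaf ((nat_lit 1), [nat_lit 1, nat_lit 7])))) (.node (nat_lit 317) (.leaf ((nat_lit 1), [nat_lit 6, nat_lit 5, nat_lit 4, nat_lit 7])) (.node (nat_lit 318) (.leaf ((nat_lit 1), [nat_lit 0, nat_lit 5, nat_lit 7, nat_lit 2, nat_lit 5, nat_lit 0])) (.leaf ((nat_lit 1), [nat_lit 4, nat_lit 5, nat_lit 4, nat_lit 7]))))))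
 (.node (nat_lit 324) (.node (nat_lit 321) (.node (nat_lit 320) (.leaf ((nat_lit 1), [nat_lit 4, nat_lit 7, nat_lit 2])) (.leaf ((nat_lit 1), [nat_lit 1, nat_lit 7, nat_lit 6, nat_lit 0, nat_lit 7]))) (.node (nat_lit 322) (.leaf ((nat_lit 1), [nat_lit 7, nat_lit 5, nat_lit 2])) (.node (nat_lit 323) (.leaf ((nat_lit 1), [nat_lit 4, nat_lit 5, nat_lit 3, nat_lit 7, nat_lit 3, nat_lit 1])) (.leaf ((nat_lit 1), [nat_lit 4, nat_lit 3, nat_lit 7, nat_lit 1])))))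
 (.node (nat_lit 327) (.node (nat_lit 325) (.leaf ((nat_lit 1), [nat_lit 6, nat_lit 1, nat_lit 5, nat_lit 7, nat_lit 5])) (.node (nat_lit 326) (.leaf ((nat_lit 1), [nat_lit 3, nat_lit 7, nat_lit 2, nat_lit 6, nat_lit 1])) (.leaf ((nat_lit 1), [nat_lit 7, nat_lit 0, nat_lit 6, nat_lit 7, nat_lit 2])))) (.node (nat_lit 328) (.leaf ((nat_lit 1), [nat_lit 4, nat_lit 7, nat_lit 0, nat_lit 5, nat_lit 7])) (.node (nat_lit 329) (.leaf ((nat_lit 1), [nat_lit 1, nat_lit 5, nat_lit 2, nat_lit 0])) (.leaf ((nat_lit 1), [nat_lit 6, nat_lit 5, nat_lit 1, nat_lit 7, nat_lit 1])))))))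
 (.node (nat_lit 341) (.node (nat_lit 335) (.node (nat_lit 332) (.node (nat_lit 331) (.leaf ((nat_lit 1), [nat_lit 2, nat_lit 0, nat_lit 7])) (.leaf ((nat_lit 1), [nat_lit 0, nat_lit 5, nat_lit 2, nat_lit 7]))) (.node (nat_lit 333) (.leaf ((nat_lit 1), [nat_lit 5, nat_lit 6, nat_lit 3, nat_lit 7, nat_lit 0])) (.node (nat_lit 334) (.leaf ((nat_lit 1), [nat_lit 5, nat_lit 7, nat_lit 5])) (.leaf ((nat_lit 1), [nat_lit 4, nat_lit 7, nat_lit 6, nat_lit 2, nat_lit 1])))))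
 (.node (nat_lit 338) (.node (nat_lit 336) (.leaf ((nat_lit 1), [nat_lit 3, nat_lit 1, nat_lit 6, nat_lit 7, nat_lit 2])) (.node (nat_lit 337) (.leaf ((nat_lit 1), [nat_lit 2, nat_lit 0, nat_lit 7, nat_lit 2])) (.leaf ((nat_lit 1), [nat_lit 5, nat_lit 4, nat_lit 7])))) (.node (nat_lit 339) (.leaf ((nat_lit 1), [nat_lit 4, nat_lit 3, nat_lit 7, nat_lit 0])) (.node (nat_lit 340) (.leaf ((nat_lit 1), [nat_lit 3, nat_lit 7, nat_lit 4, nat_lit 5, nat_lit 7])) (.leaf ((nat_lit 1), [nat_lit 4, nat_lit 3, nat_lit 5, nat_lit 7, nat_lit 1]))))))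
 (.node (nat_lit 346) (.node (nat_lit 343) (.node (nat_lit 342) (.leaf ((nat_lit 1), [nat_lit 4, nat_lit 1, nat_lit 6, nat_lit 7, nat_lit 5])) (.leaf ((nat_lit 1), [nat_lit 2, nat_lit 1, nat_lit 7, nat_lit 1]))) (.node (nat_lit 344) (.leaf ((nat_lit 1), [nat_lit 6, nat_lit 7, nat_lit 5, nat_lit 6])) (.node (nat_lit 345) (.leaf ((nat_lit 1), [nat_lit 7, nat_lit 0, nat_lit 5, nat_lit 4])) (.leaf ((nat_lit 1), [nat_lit 7, nat_lit 5, nat_lit 2, nat_lit 7, nat_lit 0])))))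
 (.node (nat_lit 349) (.node (nat_lit 347) (.leaf ((nat_lit 1), [nat_lit 5, nat_lit 7, nat_lit 6, nat_lit 7, nat_lit 3])) (.node (nat_lit 348) (.leaf ((nat_lit 1), [nat_lit 2, nat_lit 7, nat_lit 3, nat_lit 7, nat_lit 1])) (.leaf ((nat_lit 1), [nat_lit 4, nat_lit 2, nat_lit 1, nat_lit 7, nat_lit 1])))) (.node (nat_lit 350) (.leaf ((nat_lit 1), [nat_lit 7, nat_lit 4, nat_lit 2, nat_lit 0])) (.node (nat_lit 351) (.leaf ((nat_lit 1), [nat_lit 4, nat_lit 7, nat_lit 3, nat_lit 6])) (.leaf ((nat_lit 1), [nat_lit 3, nat_lit 1, nat_lit 7, nat_lit 0]))))))))))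
noncomputable def qPA_2 : Tr (ℕ × List ℕ) := (.node (nat_lit 440) (.node (nat_lit 396) (.node (nat_lit 374) (.node (nat_lit 363) (.node (nat_lit 357) (.node (nat_lit 354) (.node (nat_lit 353) (.leaf ((nat_lit 1), [nat_lit 5, nat_lit 4, nat_lit 2, nat_lit 7, nat_lit 1])) (.leaf ((nat_lit 1), [nat_lit 3, nat_lit 5, nat_lit 1, nat_lit 7]))) (.node (nat_lit 355) (.leaf ((nat_lit 1), [nat_lit 6, nat_lit 7, nat_lit 5, nat_lit 4, nat_lit 2])) (.node (nat_lit 356) (.leaf ((nat_lit 1), [nat_lit 3, nat_lit 6, nat_lit 7, nat_lit 2, nat_lit 5, nat_lit 0])) (.leaf ((nat_lit 1), [nat_lit 1, nat_lit 7, nat_lit 5, nat_lit 4])))))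
 (.node (nat_lit 360) (.node (nat_lit 358) (.leaf ((nat_lit 1), [nat_lit 5, nat_lit 2, nat_lit 1, nat_lit 7, nat_lit 0])) (.node (nat_lit 359) (.leaf ((nat_lit 1), [nat_lit 5, nat_lit 1, nat_lit 7, nat_lit 5, nat_lit 2, nat_lit 0])) (.leaf ((nat_lit 1), [nat_lit 7, nat_lit 2, nat_lit 7, nat_lit 2, nat_lit 5])))) (.node (nat_lit 361) (.leaf ((nat_lit 0), [nat_lit 2, nat_lit 7, nat_lit 3])) (.node (nat_lit 362) (.leaf ((nat_lit 1), [nat_lit 5, nat_lit 7, nat_lit 3, nat_lit 7])) (.leaf ((nat_lit 1), [nat_lit 7, nat_lit 2, nat_lit 6, nat_lit 7, nat_lit 0]))))))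
 (.node (nat_lit 368) (.node (nat_lit 365) (.node (nat_lit 364) (.leaf ((nat_lit 1), [nat_lit 3, nat_lit 6, nat_lit 5, nat_lit 7, nat_lit 1])) (.leaf ((nat_lit 1), [nat_lit 1, nat_lit 5, nat_lit 7, nat_lit 1, nat_lit 5]))) (.node (nat_lit 366) (.leaf ((nat_lit 1), [nat_lit 7, nat_lit 4, nat_lit 3, nat_lit 7, nat_lit 0])) (.node (nat_lit 367) (.leaf ((nat_lit 1), [nat_lit 5, nat_lit 7, nat_lit 6, nat_lit 4])) (.leaf ((nat_lit 1), [nat_lit 3, nat_lit 7, nat_lit 3, nat_lit 1])))))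
 (.node (nat_lit 371) (.node (nat_lit 369) (.leaf ((nat_lit 1), [nat_lit 7, nat_lit 4, nat_lit 7, nat_lit 3, nat_lit 6])) (.node (nat_lit 370) (.leaf ((nat_lit 0), [nat_lit 7, nat_lit 1, nat_lit 7])) (.leaf ((nat_lit 0), [nat_lit 3, nat_lit 6, nat_lit 7])))) (.node (nat_lit 372) (.leaf ((nat_lit 1), [nat_lit 0, nat_lit 5, nat_lit 4, nat_lit 3])) (.node (nat_lit 373) (.leaf ((nat_lit 1), [nat_lit 6, nat_lit 7, nat_lit 3, nat_lit 5])) (.leaf ((nat_lit 1), [nat_lit 6, nat_lit 2, nat_lit 7, nat_lit 5, nat_lit 2])))))))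
 (.node (nat_lit 385) (.node (nat_lit 379) (.node (nat_lit 376) (.node (nat_lit 375) (.leaf ((nat_lit 1), [nat_lit 5, nat_lit 3, nat_lit 6, nat_lit 7, nat_lit 2])) (.leaf ((nat_lit 1), [nat_lit 5, nat_lit 7, nat_lit 3, nat_lit 5, nat_lit 3]))) (.node (nat_lit 377) (.leaf ((nat_lit 0), [nat_lit 2, nat_lit 7, nat_lit 2])) (.node (nat_lit 378) (.leaf ((nat_lit 0), [nat_lit 1, nat_lit 5, nat_lit 2, nat_lit 0])) (.leaf ((nat_lit 1), [nat_lit 3, nat_lit 6, nat_lit 7])))))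
 (.node (nat_lit 382) (.node (nat_lit 380) (.leaf ((nat_lit 1), [nat_lit 6])) (.node (nat_lit 381) (.leaf ((nat_lit 1), [nat_lit 7, nat_lit 5, nat_lit 6, nat_lit 1])) (.leaf ((nat_lit 1), [nat_lit 7, nat_lit 2, nat_lit 7, nat_lit 5, nat_lit 4])))) (.node (nat_lit 383) (.leaf ((nat_lit 0), [nat_lit 5, nat_lit 3, nat_lit 1])) (.node (nat_lit 384) (.leaf ((nat_lit 1), [nat_lit 2, nat_lit 7, nat_lit 3, nat_lit 5])) (.leaf ((nat_lit 1), [nat_lit 6, nat_lit 1, nat_lit 7, nat_lit 5]))))))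
 (.node (nat_lit 390) (.node (nat_lit 387) (.node (nat_lit 386) (.leaf ((nat_lit 1), [nat_lit 7, nat_lit 5, nat_lit 2, nat_lit 7, nat_lit 1])) (.leaf ((nat_lit 1), [nat_lit 5, nat_lit 7, nat_lit 3, nat_lit 5]))) (.node (nat_lit 388) (.leaf ((nat_lit 1), [nat_lit 5, nat_lit 3, nat_lit 7, nat_lit 4, nat_lit 0])) (.node (nat_lit 389) (.leaf ((nat_lit 1), [nat_lit 6, nat_lit 2, nat_lit 1, nat_lit 7])) (.leaf ((nat_lit 1), [nat_lit 7, nat_lit 4, nat_lit 5, nat_lit 2, nat_lit 7])))))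
 (.node (nat_lit 393) (.node (nat_lit 391) (.leaf ((nat_lit 1), [nat_lit 6, nat_lit 3, nat_lit 6, nat_lit 2])) (.node (nat_lit 392) (.leaf ((nat_lit 1), [nat_lit 7, nat_lit 5, nat_lit 7, nat_lit 3, nat_lit 5])) (.leaf ((nat_lit 1), [nat_lit 0, nat_lit 7, nat_lit 1, nat_lit 7, nat_lit 5])))) (.node (nat_lit 394) (.leaf ((nat_lit 0), [nat_lit 7, nat_lit 3])) (.node (nat_lit 395) (.leaf ((nat_lit 0), [nat_lit 5, nat_lit 7, nat_lit 3])) (.leaf ((nat_lit 1), [nat_lit 6, nat_lit 3, nat_lit 7]))))))))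
 (.node (nat_lit 418) (.node (nat_lit 407) (.node (nat_lit 401) (.node (nat_lit 398) (.node (nat_lit 397) (.leaf ((nat_lit 1), [nat_lit 6, nat_lit 7, nat_lit 0, nat_lit 7, nat_lit 1])) (.leaf ((nat_lit 1), [nat_lit 2, nat_lit 7, nat_lit 4, nat_lit 5, nat_lit 7]))) (.node (nat_lit 399) (.leaf ((nat_lit 1), [nat_lit 6, nat_lit 7, nat_lit 0, nat_lit 7, nat_lit 2])) (.node (nat_lit 400) (.leaf ((nat_lit 1), [nat_lit 3, nat_lit 6, nat_lit 3, nat_lit 7, nat_lit 1])) (.leaf ((nat_lit 1), [nat_lit 1, nat_lit 5, nat_lit 1, nat_lit 7])))))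
 (.node (nat_lit 404) (.node (nat_lit 402) (.leaf ((nat_lit 1), [nat_lit 3, nat_lit 7, nat_lit 3, nat_lit 1, nat_lit 7, nat_lit 1])) (.node (nat_lit 403) (.leaf ((nat_lit 1), [nat_lit 7, nat_lit 3, nat_lit 6, nat_lit 3, nat_lit 7, nat_lit 1])) (.leaf ((nat_lit 1), [nat_lit 5, nat_lit 6, nat_lit 2, nat_lit 7])))) (.node (nat_lit 405) (.leaf ((nat_lit 1), [nat_lit 0, nat_lit 7, nat_lit 3, nat_lit 0])) (.node (nat_lit 406) (.leaf ((nat_lit 1), [nat_lit 5, nat_lit 4, nat_lit 7, nat_lit 1])) (.leaf ((nat_lit 1), [nat_lit 7, nat_lit 4, nat_lit 3, nat_lit 7, nat_lit 1]))))))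
 (.node (nat_lit 412) (.node (nat_lit 409) (.node (nat_lit 408) (.leaf ((nat_lit 1), [nat_lit 0, nat_lit 7, nat_lit 1, nat_lit 7, nat_lit 2, nat_lit 1])) (.leaf ((nat_lit 1), [nat_lit 1, nat_lit 6, nat_lit 5, nat_lit 7]))) (.node (nat_lit 410) (.leaf ((nat_lit 1), [nat_lit 2, nat_lit 1, nat_lit 7])) (.node (nat_lit 411) (.leaf ((nat_lit 1), [nat_lit 7, nat_lit 5, nat_lit 2, nat_lit 7, nat_lit 2, nat_lit 1])) (.leaf ((nat_lit 1), [nat_lit 0, nat_lit 7, nat_lit 1])))))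
 (.node (nat_lit 415) (.node (nat_lit 413) (.leaf ((nat_lit 1), [nat_lit 7, nat_lit 4, nat_lit 7, nat_lit 4, nat_lit 3])) (.node (nat_lit 414) (.leaf ((nat_lit 1), [nat_lit 5, nat_lit 2, nat_lit 7, nat_lit 4, nat_lit 3])) (.leaf ((nat_lit 1), [nat_lit 6, nat_lit 5, nat_lit 3, nat_lit 7, nat_lit 0])))) (.node (nat_lit 416) (.leaf ((nat_lit 1), [nat_lit 7, nat_lit 6, nat_lit 7, nat_lit 1])) (.node (nat_lit 417) (.leaf ((nat_lit 1), [nat_lit 6, nat_lit 7, nat_lit 3, nat_lit 7])) (.leaf ((nat_lit 0), [nat_lit 2, nat_lit 0])))))))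
 (.node (nat_lit 429) (.node (nat_lit 423) (.node (nat_lit 420) (.node (nat_lit 419) (.leaf ((nat_lit 1), [nat_lit 7, nat_lit 0, nat_lit 5, nat_lit 7, nat_lit 0])) (.leaf ((nat_lit 1), [nat_lit 0, nat_lit 5, nat_lit 4]))) (.node (nat_lit 421) (.leaf ((nat_lit 1), [nat_lit 1, nat_lit 7, nat_lit 3, nat_lit 7, nat_lit 5, nat_lit 0])) (.node (nat_lit 422) (.leaf ((nat_lit 1), [nat_lit 4, nat_lit 7, nat_lit 1, nat_lit 5, nat_lit 3])) (.leaf ((nat_lit 1), [nat_lit 6, nat_lit 5])))))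
 (.node (nat_lit 426) (.node (nat_lit 424) (.leaf ((nat_lit 1), [nat_lit 2, nat_lit 7, nat_lit 4, nat_lit 2, nat_lit 0])) (.node (nat_lit 425) (.leaf ((nat_lit 1), [nat_lit 5, nat_lit 7, nat_lit 6, nat_lit 7, nat_lit 2])) (.leaf ((nat_lit 1), [nat_lit 3, nat_lit 7, nat_lit 5, nat_lit 2, nat_lit 0])))) (.node (nat_lit 427) (.leaf ((nat_lit 1), [nat_lit 7, nat_lit 0, nat_lit 7, nat_lit 1])) (.node (nat_lit 428) (.leaf ((nat_lit 1), [nat_lit 7, nat_lit 0, nat_lit 7, nat_lit 5, nat_lit 6])) (.leaf ((nat_lit 1), [nat_lit 6, nat_lit 2, nat_lit 7, nat_lit 0, nat_lit 7, nat_lit 1]))))))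
 (.node (nat_lit 434) (.node (nat_lit 431) (.node (nat_lit 430) (.leaf ((nat_lit 1), [nat_lit 2, nat_lit 6, nat_lit 7, nat_lit 5, nat_lit 6])) (.leaf ((nat_lit 0), [nat_lit 2, nat_lit 7, nat_lit 5]))) (.node (nat_lit 432) (.leaf ((nat_lit 1), [nat_lit 2, nat_lit 6, nat_lit 7, nat_lit 2, nat_lit 1])) (.node (nat_lit 433) (.leaf ((nat_lit 1), [nat_lit 4, nat_lit 7, nat_lit 5, nat_lit 7])) (.leaf ((nat_lit 1), [nat_lit 7, nat_lit 3, nat_lit 1, nat_lit 7, nat_lit 2, nat_lit 0])))))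
 (.node (nat_lit 437) (.node (nat_lit 435) (.leaf ((nat_lit 1), [nat_lit 1, nat_lit 5, nat_lit 7, nat_lit 6, nat_lit 1])) (.node (nat_lit 436) (.leaf ((nat_lit 1), [nat_lit 7, nat_lit 6, nat_lit 3, nat_lit 0])) (.leaf ((nat_lit 1), [nat_lit 4, nat_lit 6, nat_lit 7, nat_lit 6, nat_lit 1])))) (.node (nat_lit 438) (.leaf ((nat_lit 1), [nat_lit 2, nat_lit 7, nat_lit 5, nat_lit 7])) (.node (nat_lit 439) (.leaf ((nat_lit 1), [nat_lit 3, nat_lit 5, nat_lit 1, nat_lit 7, nat_lit 5])) (.leaf ((nat_lit 0), [nat_lit 6, nat_lit 4, nat_lit 7, nat_lit 2])))))))))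
 (.node (nat_lit 484) (.node (nat_lit 462) (.node (nat_lit 451) (.node (nat_lit 445) (.node (nat_lit 442) (.node (nat_lit 441) (.leaf ((nat_lit 1), [nat_lit 7, nat_lit 3, nat_lit 6, nat_lit 7, nat_lit 0])) (.leaf ((nat_lit 1), [nat_lit 5, nat_lit 0, nat_lit 7, nat_lit 1, nat_lit 7, nat_lit 0]))) (.node (nat_lit 443) (.leaf ((nat_lit 0), [nat_lit 6, nat_lit 7, nat_lit 1])) (.node (nat_lit 444) (.leaf ((nat_lit 1), [nat_lit 2, nat_lit 7, nat_lit 2, nat_lit 1])) (.leaf ((nat_lit 1), [nat_lit 7, nat_lit 1, nat_lit 6, nat_lit 7, nat_lit 1])))))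
 (.node (nat_lit 448) (.node (nat_lit 446) (.leaf ((nat_lit 0), [nat_lit 0, nat_lit 7, nat_lit 1])) (.node (nat_lit 447) (.leaf ((nat_lit 1), [nat_lit 5, nat_lit 2, nat_lit 1])) (.leaf ((nat_lit 0), [nat_lit 0, nat_lit 7, nat_lit 5])))) (.node (nat_lit 449) (.leaf ((nat_lit 1), [nat_lit 1, nat_lit 5, nat_lit 7, nat_lit 2, nat_lit 5, nat_lit 0])) (.node (nat_lit 450) (.leaf ((nat_lit 1), [nat_lit 7, nat_lit 5, nat_lit 3, nat_lit 7, nat_lit 0])) (.leaf ((nat_lit 0), [nat_lit 3, nat_lit 0, nat_lit 7, nat_lit 3]))))))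
 (.node (nat_lit 456) (.node (nat_lit 453) (.node (nat_lit 452) (.leaf ((nat_lit 1), [nat_lit 0, nat_lit 7, nat_lit 5, nat_lit 6, nat_lit 4])) (.leaf ((nat_lit 1), [nat_lit 2, nat_lit 7, nat_lit 2, nat_lit 7, nat_lit 4, nat_lit 0]))) (.node (nat_lit 454) (.leaf ((nat_lit 1), [nat_lit 7, nat_lit 5, nat_lit 6, nat_lit 4])) (.node (nat_lit 455) (.leaf ((nat_lit 1), [nat_lit 5, nat_lit 6, nat_lit 4, nat_lit 7, nat_lit 1])) (.leaf ((nat_lit 1), [nat_lit 5, nat_lit 4, nat_lit 7, nat_lit 5])))))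
 (.node (nat_lit 459) (.node (nat_lit 457) (.leaf ((nat_lit 1), [nat_lit 5, nat_lit 4, nat_lit 0, nat_lit 7, nat_lit 5])) (.node (nat_lit 458) (.leaf ((nat_lit 1), [nat_lit 3, nat_lit 6, nat_lit 7, nat_lit 3, nat_lit 0])) (.leaf ((nat_lit 1), [nat_lit 7, nat_lit 2, nat_lit 7])))) (.node (nat_lit 460) (.leaf ((nat_lit 1), [nat_lit 7, nat_lit 1, nat_lit 7, nat_lit 2])) (.node (nat_lit 461) (.leaf ((nat_lit 1), [nat_lit 7, nat_lit 2])) (.leaf ((nat_lit 1), [nat_lit 1, nat_lit 6, nat_lit 1, nat_lit 7])))))))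
 (.node (nat_lit 473) (.node (nat_lit 467) (.node (nat_lit 464) (.node (nat_lit 463) (.leaf ((nat_lit 1), [nat_lit 5, nat_lit 7, nat_lit 4, nat_lit 1, nat_lit 5])) (.leaf ((nat_lit 1), [nat_lit 5, nat_lit 2, nat_lit 7, nat_lit 4, nat_lit 7]))) (.node (nat_lit 465) (.leaf ((nat_lit 1), [nat_lit 4, nat_lit 3, nat_lit 1, nat_lit 7, nat_lit 0])) (.node (nat_lit 466) (.leaf ((nat_lit 1), [nat_lit 5, nat_lit 7, nat_lit 4, nat_lit 5, nat_lit 7])) (.leaf ((nat_lit 0), [nat_lit 4, nat_lit 1, nat_lit 7, nat_lit 2])))))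
 (.node (nat_lit 470) (.node (nat_lit 468) (.leaf ((nat_lit 1), [nat_lit 1, nat_lit 5, nat_lit 4, nat_lit 7, nat_lit 1])) (.node (nat_lit 469) (.leaf ((nat_lit 1), [nat_lit 5, nat_lit 7, nat_lit 0, nat_lit 7, nat_lit 2])) (.leaf ((nat_lit 1), [nat_lit 0, nat_lit 7, nat_lit 0, nat_lit 5, nat_lit 0])))) (.node (nat_lit 471) (.leaf ((nat_lit 1), [nat_lit 2, nat_lit 6, nat_lit 7, nat_lit 2, nat_lit 0])) (.node (nat_lit 472) (.leaf ((nat_lit 1), [nat_lit 7, nat_lit 0, nat_lit 7, nat_lit 6])) (.leaf ((nat_lit 0), [nat_lit 3, nat_lit 0, nat_lit 7, nat_lit 1]))))))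
 (.node (nat_lit 478) (.node (nat_lit 475) (.node (nat_lit 474) (.leaf ((nat_lit 1), [nat_lit 7, nat_lit 2, nat_lit 7, nat_lit 5])) (.leaf ((nat_lit 1), [nat_lit 6, nat_lit 3, nat_lit 7, nat_lit 0]))) (.node (nat_lit 476) (.leaf ((nat_lit 1), [nat_lit 3, nat_lit 7, nat_lit 0, nat_lit 5, nat_lit 0])) (.node (nat_lit 477) (.leaf ((nat_lit 1), [nat_lit 4, nat_lit 5, nat_lit 3, nat_lit 7])) (.leaf ((nat_lit 1), [nat_lit 7, nat_lit 2, nat_lit 6, nat_lit 7, nat_lit 1])))))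
 (.node (nat_lit 481) (.node (nat_lit 479) (.leaf ((nat_lit 1), [nat_lit 6, nat_lit 7, nat_lit 3, nat_lit 0])) (.node (nat_lit 480) (.leaf ((nat_lit 1), [nat_lit 4, nat_lit 2])) (.leaf ((nat_lit 1), [nat_lit 5, nat_lit 1, nat_lit 7, nat_lit 4, nat_lit 0])))) (.node (nat_lit 482) (.leaf ((nat_lit 1), [nat_lit 7, nat_lit 5, nat_lit 7, nat_lit 5, nat_lit 4])) (.node (nat_lit 483) (.leaf ((nat_lit 1), [nat_lit 7, nat_lit 5, nat_lit 7, nat_lit 1, nat_lit 7, nat_lit 0])) (.leaf ((nat_lit 1), [nat_lit 7, nat_lit 5, nat_lit 6, nat_lit 7]))))))))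
 (.node (nat_lit 506) (.node (nat_lit 495) (.node (nat_lit 489) (.node (nat_lit 486) (.node (nat_lit 485) (.leaf ((nat_lit 1), [nat_lit 7, nat_lit 1, nat_lit 7, nat_lit 3, nat_lit 0])) (.leaf ((nat_lit 1), [nat_lit 7, nat_lit 6, nat_lit 7, nat_lit 5, nat_lit 0]))) (.node (nat_lit 487) (.leaf ((nat_lit 1), [nat_lit 0, nat_lit 5, nat_lit 7, nat_lit 2])) (.node (nat_lit 488) (.leaf ((nat_lit 1), [nat_lit 5, nat_lit 6, nat_lit 4, nat_lit 7])) (.leaf ((nat_lit 1), [nat_lit 7, nat_lit 5, nat_lit 7, nat_lit 5, nat_lit 6])))))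
 (.node (nat_lit 492) (.node (nat_lit 490) (.leaf ((nat_lit 1), [nat_lit 6, nat_lit 4])) (.node (nat_lit 491) (.leaf ((nat_lit 0), [nat_lit 6, nat_lit 7])) (.leaf ((nat_lit 1), [nat_lit 0, nat_lit 6, nat_lit 7, nat_lit 3, nat_lit 1])))) (.node (nat_lit 493) (.leaf ((nat_lit 1), [nat_lit 1, nat_lit 7, nat_lit 0, nat_lit 5, nat_lit 7])) (.node (nat_lit 494) (.leaf ((nat_lit 1), [nat_lit 4, nat_lit 2, nat_lit 7, nat_lit 2, nat_lit 1])) (.leaf ((nat_lit 1), [nat_lit 7, nat_lit 0, nat_lit 5, nat_lit 7, nat_lit 5]))))))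
 (.node (nat_lit 500) (.node (nat_lit 497) (.node (nat_lit 496) (.leaf ((nat_lit 1), [nat_lit 1, nat_lit 5, nat_lit 7, nat_lit 2, nat_lit 0])) (.leaf ((nat_lit 1), [nat_lit 3, nat_lit 5, nat_lit 7, nat_lit 5]))) (.node (nat_lit 498) (.leaf ((nat_lit 1), [nat_lit 2, nat_lit 7, nat_lit 2, nat_lit 0])) (.node (nat_lit 499) (.leaf ((nat_lit 0), [nat_lit 2, nat_lit 0, nat_lit 7, nat_lit 3])) (.leaf ((nat_lit 0), [nat_lit 7, nat_lit 1])))))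
 (.node (nat_lit 503) (.node (nat_lit 501) (.leaf ((nat_lit 1), [nat_lit 3, nat_lit 7, nat_lit 2])) (.node (nat_lit 502) (.leaf ((nat_lit 1), [nat_lit 1, nat_lit 6, nat_lit 7, nat_lit 0, nat_lit 7])) (.leaf ((nat_lit 1), [nat_lit 4, nat_lit 5, nat_lit 3, nat_lit 7, nat_lit 0])))) (.node (nat_lit 504) (.leaf ((nat_lit 1), [nat_lit 2, nat_lit 7, nat_lit 1, nat_lit 7, nat_lit 1])) (.node (nat_lit 505) (.leaf ((nat_lit 1), [nat_lit 7, nat_lit 5, nat_lit 7, nat_lit 5])) (.leaf ((nat_lit 1), [nat_lit 2, nat_lit 7, nat_lit 3])))))))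
 (.node (nat_lit 517) (.node (nat_lit 511) (.node (nat_lit 508) (.node (nat_lit 507) (.leaf ((nat_lit 1), [nat_lit 6, nat_lit 4, nat_lit 3, nat_lit 7])) (.leaf ((nat_lit 1), [nat_lit 0, nat_lit 5, nat_lit 3, nat_lit 7, nat_lit 4, nat_lit 0]))) (.node (nat_lit 509) (.leaf ((nat_lit 1), [nat_lit 5, nat_lit 2, nat_lit 6, nat_lit 7, nat_lit 1])) (.node (nat_lit 510) (.leaf ((nat_lit 1), [nat_lit 1, nat_lit 7, nat_lit 4, nat_lit 3])) (.leaf ((nat_lit 1), [nat_lit 0, nat_lit 6, nat_lit 3, nat_lit 7])))))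
 (.node (nat_lit 514) (.node (nat_lit 512) (.leaf ((nat_lit 1), [nat_lit 6, nat_lit 7, nat_lit 2, nat_lit 6, nat_lit 7])) (.node (nat_lit 513) (.leaf ((nat_lit 1), [nat_lit 6, nat_lit 5, nat_lit 1, nat_lit 7])) (.leaf ((nat_lit 1), [nat_lit 7, nat_lit 6])))) (.node (nat_lit 515) (.leaf ((nat_lit 1), [nat_lit 6, nat_lit 7, nat_lit 0])) (.node (nat_lit 516) (.leaf ((nat_lit 1), [nat_lit 2, nat_lit 1, nat_lit 7, nat_lit 3, nat_lit 7, nat_lit 0])) (.leaf ((nat_lit 1), [nat_lit 1, nat_lit 7, nat_lit 2, nat_lit 7, nat_lit 1]))))))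
 (.node (nat_lit 522) (.node (nat_lit 519) (.node (nat_lit 518) (.leaf ((nat_lit 1), [nat_lit 7, nat_lit 4, nat_lit 0, nat_lit 7, nat_lit 5, nat_lit 0])) (.leaf ((nat_lit 1), [nat_lit 2, nat_lit 7, nat_lit 0, nat_lit 7, nat_lit 6, nat_lit 1]))) (.node (nat_lit 520) (.leaf ((nat_lit 1), [nat_lit 7, nat_lit 0, nat_lit 7, nat_lit 5, nat_lit 4])) (.node (nat_lit 521) (.leaf ((nat_lit 1), [nat_lit 1, nat_lit 7, nat_lit 0])) (.leaf ((nat_lit 0), [nat_lit 3])))))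
 (.node (nat_lit 525) (.node (nat_lit 523) (.leaf ((nat_lit 1), [nat_lit 7, nat_lit 0, nat_lit 7, nat_lit 5, nat_lit 2])) (.node (nat_lit 524) (.leaf ((nat_lit 1), [nat_lit 5, nat_lit 4])) (.leaf ((nat_lit 1), [nat_lit 4, nat_lit 1, nat_lit 5, nat_lit 3, nat_lit 7, nat_lit 1])))) (.node (nat_lit 526) (.leaf ((nat_lit 1), [nat_lit 2, nat_lit 1])) (.node (nat_lit 527) (.leaf ((nat_lit 1), [nat_lit 2, nat_lit 6, nat_lit 3, nat_lit 0, nat_lit 7])) (.leaf ((nat_lit 1), [nat_lit 0, nat_lit 6, nat_lit 3, nat_lit 6, nat_lit 7, nat_lit 1]))))))))))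
noncomputable def qPA_3 : Tr (ℕ × List ℕ) := (.node (nat_lit 616) (.node (nat_lit 572) (.node (nat_lit 550) (.node (nat_lit 539) (.node (nat_lit 533) (.node (nat_lit 530) (.node (nat_lit 529) (.leaf ((nat_lit 1), [nat_lit 0, nat_lit 5, nat_lit 4, nat_lit 7])) (.leaf ((nat_lit 1), [nat_lit 0, nat_lit 7, nat_lit 2, nat_lit 0, nat_lit 7, nat_lit 0]))) (.node (nat_lit 531) (.leaf ((nat_lit 1), [nat_lit 1, nat_lit 5, nat_lit 7, nat_lit 1])) (.node (nat_lit 532) (.leaf ((nat_lit 1), [nat_lit 3, nat_lit 7, nat_lit 3, nat_lit 6, nat_lit 7, nat_lit 0])) (.leaf ((nat_lit 1), [nat_lit 0, nat_lit 7, nat_lit 2, nat_lit 6, nat_lit 7])))))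
 (.node (nat_lit 536) (.node (nat_lit 534) (.leaf ((nat_lit 1), [nat_lit 4, nat_lit 0, nat_lit 7])) (.node (nat_lit 535) (.leaf ((nat_lit 1), [nat_lit 3, nat_lit 7, nat_lit 0, nat_lit 7, nat_lit 5])) (.leaf ((nat_lit 1), [nat_lit 6, nat_lit 4, nat_lit 3, nat_lit 7, nat_lit 1])))) (.node (nat_lit 537) (.leaf ((nat_lit 1), [nat_lit 1, nat_lit 7, nat_lit 2, nat_lit 7, nat_lit 6])) (.node (nat_lit 538) (.leaf ((nat_lit 1), [nat_lit 1, nat_lit 7, nat_lit 0, nat_lit 5, nat_lit 3])) (.leaf ((nat_lit 1), [nat_lit 3, nat_lit 7, nat_lit 2, nat_lit 7, nat_lit 6]))))))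
 (.node (nat_lit 544) (.node (nat_lit 541) (.node (nat_lit 540) (.leaf ((nat_lit 1), [nat_lit 6, nat_lit 2, nat_lit 7, nat_lit 2, nat_lit 0])) (.leaf ((nat_lit 0), [nat_lit 6, nat_lit 7, nat_lit 2]))) (.node (nat_lit 542) (.leaf ((nat_lit 1), [nat_lit 5, nat_lit 6, nat_lit 1])) (.node (nat_lit 543) (.leaf ((nat_lit 1), [nat_lit 0, nat_lit 7, nat_lit 3, nat_lit 7])) (.leaf ((nat_lit 1), [nat_lit 5, nat_lit 7, nat_lit 2, nat_lit 7, nat_lit 2])))))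
 (.node (nat_lit 547) (.node (nat_lit 545) (.leaf ((nat_lit 1), [nat_lit 7, nat_lit 0, nat_lit 5, nat_lit 7])) (.node (nat_lit 546) (.leaf ((nat_lit 1), [nat_lit 5, nat_lit 3])) (.leaf ((nat_lit 1), [nat_lit 6, nat_lit 4, nat_lit 7, nat_lit 2, nat_lit 1])))) (.node (nat_lit 548) (.leaf ((nat_lit 1), [nat_lit 0, nat_lit 7, nat_lit 1, nat_lit 5, nat_lit 2])) (.node (nat_lit 549) (.leaf ((nat_lit 1), [nat_lit 7, nat_lit 3, nat_lit 1])) (.leaf ((nat_lit 0), [nat_lit 7, nat_lit 2, nat_lit 5, nat_lit 1])))))))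
 (.node (nat_lit 561) (.node (nat_lit 555) (.node (nat_lit 552) (.node (nat_lit 551) (.leaf ((nat_lit 1), [nat_lit 4, nat_lit 6, nat_lit 2, nat_lit 7, nat_lit 2])) (.leaf ((nat_lit 1), [nat_lit 0, nat_lit 6, nat_lit 5, nat_lit 7]))) (.node (nat_lit 553) (.leaf ((nat_lit 0), [nat_lit 7, nat_lit 2, nat_lit 0])) (.node (nat_lit 554) (.leaf ((nat_lit 1), [nat_lit 3, nat_lit 1])) (.leaf ((nat_lit 1), [nat_lit 1, nat_lit 7, nat_lit 6, nat_lit 7, nat_lit 3])))))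
 (.node (nat_lit 558) (.node (nat_lit 556) (.leaf ((nat_lit 1), [nat_lit 3, nat_lit 5, nat_lit 0])) (.node (nat_lit 557) (.leaf ((nat_lit 1), [nat_lit 6, nat_lit 3, nat_lit 0, nat_lit 7, nat_lit 0])) (.leaf ((nat_lit 1), [nat_lit 6, nat_lit 5, nat_lit 4])))) (.node (nat_lit 559) (.leaf ((nat_lit 1), [nat_lit 7, nat_lit 5, nat_lit 7, nat_lit 3, nat_lit 7, nat_lit 0])) (.node (nat_lit 560) (.leaf ((nat_lit 1), [nat_lit 5, nat_lit 7, nat_lit 5, nat_lit 4])) (.leaf ((nat_lit 1), [nat_lit 6, nat_lit 7, nat_lit 3, nat_lit 7, nat_lit 1]))))))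
 (.node (nat_lit 566) (.node (nat_lit 563) (.node (nat_lit 562) (.leaf ((nat_lit 1), [nat_lit 5, nat_lit 1, nat_lit 7, nat_lit 2, nat_lit 1])) (.leaf ((nat_lit 1), [nat_lit 3, nat_lit 1, nat_lit 6, nat_lit 7]))) (.node (nat_lit 564) (.leaf ((nat_lit 1), [nat_lit 2, nat_lit 6, nat_lit 7])) (.node (nat_lit 565) (.leaf ((nat_lit 1), [nat_lit 2])) (.leaf ((nat_lit 1), [nat_lit 2, nat_lit 6, nat_lit 7, nat_lit 5, nat_lit 0])))))
 (.node (nat_lit 569) (.node (nat_lit 567) (.leaf ((nat_lit 1), [nat_lit 3, nat_lit 5, nat_lit 4, nat_lit 1, nat_lit 7, nat_lit 1])) (.node (nat_lit 568) (.leaf ((nat_lit 1), [nat_lit 5, nat_lit 7, nat_lit 2])) (.leaf ((nat_lit 1), [nat_lit 5, nat_lit 4, nat_lit 7, nat_lit 2, nat_lit 7])))) (.node (nat_lit 570) (.leaf ((nat_lit 1), [nat_lit 5, nat_lit 6, nat_lit 7, nat_lit 6])) (.node (nat_lit 571) (.leaf ((nat_lit 1), [nat_lit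 1, nat_lit 7, nat_lit 3, nat_lit 5, nat_lit 0])) (.leaf ((nat_lit 1), [nat_lit 6, nat_lit 7, nat_lit 4, nat_lit 2]))))))))
 (.node (nat_lit 594) (.node (nat_lit 583) (.node (nat_lit 577) (.node (nat_lit 574) (.node (nat_lit 573) (.leaf ((nat_lit 0), [nat_lit 5])) (.leaf ((nat_lit 1), [nat_lit 3, nat_lit 7, nat_lit 4, nat_lit 0, nat_lit 5]))) (.node (nat_lit 575) (.leaf ((nat_lit 1), [nat_lit 0, nat_lit 7, nat_lit 3, nat_lit 7, nat_lit 0])) (.node (nat_lit 576) (.leaf ((nat_lit 1), [nat_lit 2, nat_lit 7, nat_lit 6, nat_lit 7, nat_lit 1])) (.leaf ((nat_lit 1), [nat_lit 3, nat_lit 7, nat_lit 4, nat_lit 7, nat_lit 6])))))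
 (.node (nat_lit 580) (.node (nat_lit 578) (.leaf ((nat_lit 1), [nat_lit 3, nat_lit 7, nat_lit 4, nat_lit 5, nat_lit 4])) (.node (nat_lit 579) (.leaf ((nat_lit 1), [nat_lit 7, nat_lit 2, nat_lit 0, nat_lit 7, nat_lit 0])) (.leaf ((nat_lit 1), [nat_lit 2, nat_lit 0, nat_lit 7, nat_lit 5])))) (.node (nat_lit 581) (.leaf ((nat_lit 1), [nat_lit 5, nat_lit 2, nat_lit 0, nat_lit 7, nat_lit 2])) (.node (nat_lit 582) (.leaf ((nat_lit 1), [nat_lit 4, nat_lit 5, nat_lit 1, nat_lit 7, nat_lit 1])) (.leaf ((nat_lit 1), [nat_lit 3, nat_lit 5, nat_lit 3, nat_lit 7, nat_lit 0]))))))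
 (.node (nat_lit 588) (.node (nat_lit 585) (.node (nat_lit 584) (.leaf ((nat_lit 1), [nat_lit 5, nat_lit 7, nat_lit 5, nat_lit 4, nat_lit 7, nat_lit 1])) (.leaf ((nat_lit 1), [nat_lit 5, nat_lit 6, nat_lit 7, nat_lit 0]))) (.node (nat_lit 586) (.leaf ((nat_lit 1), [nat_lit 6, nat_lit 7, nat_lit 2, nat_lit 1])) (.node (nat_lit 587) (.leaf ((nat_lit 0), [nat_lit 7, nat_lit 2, nat_lit 7])) (.leaf ((nat_lit 1), [nat_lit 7, nat_lit 0, nat_lit 7])))))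
 (.node (nat_lit 591) (.node (nat_lit 589) (.leaf ((nat_lit 1), [nat_lit 5, nat_lit 7, nat_lit 4, nat_lit 7])) (.node (nat_lit 590) (.leaf ((nat_lit 1), [nat_lit 6, nat_lit 2, nat_lit 6, nat_lit 7, nat_lit 1])) (.leaf ((nat_lit 1), [nat_lit 2, nat_lit 7, nat_lit 4, nat_lit 2])))) (.node (nat_lit 592) (.leaf ((nat_lit 1), [nat_lit 4, nat_lit 5, nat_lit 4, nat_lit 7, nat_lit 2])) (.node (nat_lit 593) (.leaf ((nat_lit 0), [nat_lit 0, nat_lit 6, nat_lit 7])) (.leaf ((nat_lit 1), [nat_lit 5, nat_lit 0, nat_lit 5, nat_lit 7, nat_lit 1])))))))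
 (.node (nat_lit 605) (.node (nat_lit 599) (.node (nat_lit 596) (.node (nat_lit 595) (.leaf ((nat_lit 1), [nat_lit 4, nat_lit 6, nat_lit 7, nat_lit 2, nat_lit 6])) (.leaf ((nat_lit 1), [nat_lit 3, nat_lit 6, nat_lit 2, nat_lit 1, nat_lit 7, nat_lit 1]))) (.node (nat_lit 597) (.leaf ((nat_lit 1), [nat_lit 0, nat_lit 7, nat_lit 0, nat_lit 5, nat_lit 7, nat_lit 0])) (.node (nat_lit 598) (.leaf ((nat_lit 1), [nat_lit 1, nat_lit 7, nat_lit 6, nat_lit 1])) (.leaf ((nat_lit 1), [nat_lit 3, nat_lit 5, nat_lit 3])))))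
 (.node (nat_lit 602) (.node (nat_lit 600) (.leaf ((nat_lit 1), [nat_lit 6, nat_lit 7, nat_lit 3])) (.node (nat_lit 601) (.leaf ((nat_lit 1), [nat_lit 5, nat_lit 1, nat_lit 7, nat_lit 2, nat_lit 0])) (.leaf ((nat_lit 1), [nat_lit 5, nat_lit 4, nat_lit 3, nat_lit 7, nat_lit 1])))) (.node (nat_lit 603) (.leaf ((nat_lit 1), [nat_lit 5, nat_lit 3, nat_lit 0, nat_lit 7, nat_lit 2])) (.node (nat_lit 604) (.leaf ((nat_lit 1), [nat_lit 0, nat_lit 6, nat_lit 7, nat_lit 6, nat_lit 7, nat_lit 2])) (.leaf ((nat_lit 1), [nat_lit 6, nat_lit 7, nat_lit 1, nat_lit 7, nat_lit 0]))))))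
 (.node (nat_lit 610) (.node (nat_lit 607) (.node (nat_lit 606) (.leaf ((nat_lit 1), [nat_lit 0, nat_lit 6, nat_lit 5, nat_lit 7, nat_lit 1])) (.leaf ((nat_lit 1), [nat_lit 4, nat_lit 2, nat_lit 7, nat_lit 3, nat_lit 7]))) (.node (nat_lit 608) (.leaf ((nat_lit 1), [nat_lit 7, nat_lit 6, nat_lit 2, nat_lit 1])) (.node (nat_lit 609) (.leaf ((nat_lit 1), [nat_lit 5, nat_lit 6, nat_lit 7, nat_lit 3, nat_lit 0])) (.leaf ((nat_lit 1), [nat_lit 3, nat_lit 7, nat_lit 2, nat_lit 7, nat_lit 2, nat_lit 0])))))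
 (.node (nat_lit 613) (.node (nat_lit 611) (.leaf ((nat_lit 1), [nat_lit 7, nat_lit 5, nat_lit 3, nat_lit 7, nat_lit 6])) (.node (nat_lit 612) (.leaf ((nat_lit 1), [nat_lit 4, nat_lit 7, nat_lit 2, nat_lit 5, nat_lit 0])) (.leaf ((nat_lit 1), [nat_lit 6, nat_lit 4, nat_lit 1, nat_lit 7, nat_lit 2])))) (.node (nat_lit 614) (.leaf ((nat_lit 1), [nat_lit 3, nat_lit 5, nat_lit 0, nat_lit 7])) (.node (nat_lit 615) (.leaf ((nat_lit 1), [nat_lit 0, nat_lit 5, nat_lit 4, nat_lit 7, nat_lit 1])) (.leaf ((nat_lit 1), [nat_lit 5, nat_lit 3, nat_lit 7, nat_lit 2])))))))))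
 (.node (nat_lit 660) (.node (nat_lit 638) (.node (nat_lit 627) (.node (nat_lit 621) (.node (nat_lit 618) (.node (nat_lit 617) (.leaf ((nat_lit 1), [nat_lit 7, nat_lit 4, nat_lit 0])) (.leaf ((nat_lit 1), [nat_lit 1, nat_lit 7, nat_lit 5, nat_lit 1, nat_lit 7]))) (.node (nat_lit 619) (.leaf ((nat_lit 1), [nat_lit 6, nat_lit 7, nat_lit 2, nat_lit 5, nat_lit 0])) (.node (nat_lit 620) (.leaf ((nat_lit 1), [nat_lit 6, nat_lit 1, nat_lit 7])) (.leaf ((nat_lit 1), [nat_lit 3, nat_lit 1, nat_lit 5])))))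
 (.node (nat_lit 624) (.node (nat_lit 622) (.leaf ((nat_lit 1), [nat_lit 7, nat_lit 3, nat_lit 7, nat_lit 2])) (.node (nat_lit 623) (.leaf ((nat_lit 1), [nat_lit 5, nat_lit 1, nat_lit 7, nat_lit 5, nat_lit 6])) (.leaf ((nat_lit 1), [nat_lit 2, nat_lit 7, nat_lit 1, nat_lit 6, nat_lit 7])))) (.node (nat_lit 625) (.leaf ((nat_lit 0), [nat_lit 5, nat_lit 7, nat_lit 1])) (.node (nat_lit 626) (.leaf ((nat_lit 1), [nat_lit 5, nat_lit 7, nat_lit 2, nat_lit 7, nat_lit 0])) (.leaf ((nat_lit 1), [nat_lit 6, nat_lit 5, nat_lit 3, nat_lit 7]))))))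
 (.node (nat_lit 632) (.node (nat_lit 629) (.node (nat_lit 628) (.leaf ((nat_lit 1), [nat_lit 5])) (.leaf ((nat_lit 1), [nat_lit 7, nat_lit 1, nat_lit 7, nat_lit 4, nat_lit 3]))) (.node (nat_lit 630) (.leaf ((nat_lit 1), [nat_lit 6, nat_lit 3, nat_lit 7, nat_lit 0, nat_lit 7, nat_lit 0])) (.node (nat_lit 631) (.leaf ((nat_lit 1), [nat_lit 0, nat_lit 6, nat_lit 3, nat_lit 7, nat_lit 2])) (.leaf ((nat_lit 1), [nat_lit 7, nat_lit 2, nat_lit 0, nat_lit 7, nat_lit 1])))))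
 (.node (nat_lit 635) (.node (nat_lit 633) (.leaf ((nat_lit 1), [nat_lit 7, nat_lit 3, nat_lit 0, nat_lit 5])) (.node (nat_lit 634) (.leaf ((nat_lit 1), [nat_lit 4, nat_lit 1, nat_lit 6, nat_lit 7])) (.leaf ((nat_lit 1), [nat_lit 4, nat_lit 6, nat_lit 3, nat_lit 7, nat_lit 1])))) (.node (nat_lit 636) (.leaf ((nat_lit 1), [nat_lit 3, nat_lit 0, nat_lit 7])) (.node (nat_lit 637) (.leaf ((nat_lit 1), [nat_lit 5, nat_lit 1, nat_lit 7, nat_lit 5, nat_lit 0])) (.leaf ((nat_lit 1), [nat_lit 2, nat_lit 6, nat_lit 7, nat_lit 6, nat_lit 1])))))))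
 (.node (nat_lit 649) (.node (nat_lit 643) (.node (nat_lit 640) (.node (nat_lit 639) (.leaf ((nat_lit 1), [nat_lit 2, nat_lit 5, nat_lit 0, nat_lit 7, nat_lit 1])) (.leaf ((nat_lit 0), [nat_lit 2, nat_lit 7, nat_lit 3, nat_lit 0]))) (.node (nat_lit 641) (.leaf ((nat_lit 1), [nat_lit 3, nat_lit 1, nat_lit 7, nat_lit 2, nat_lit 1])) (.node (nat_lit 642) (.leaf ((nat_lit 1), [nat_lit 5, nat_lit 6, nat_lit 7, nat_lit 2, nat_lit 7])) (.leaf ((nat_lit 1), [nat_lit 7, nat_lit 4, nat_lit 5, nat_lit 4])))))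
 (.node (nat_lit 646) (.node (nat_lit 644) (.leaf ((nat_lit 1), [nat_lit 2, nat_lit 7, nat_lit 6, nat_lit 7, nat_lit 3, nat_lit 0])) (.node (nat_lit 645) (.leaf ((nat_lit 1), [nat_lit 6, nat_lit 3, nat_lit 1, nat_lit 7])) (.leaf ((nat_lit 1), [nat_lit 7, nat_lit 5, nat_lit 4, nat_lit 7, nat_lit 4, nat_lit 0])))) (.node (nat_lit 647) (.leaf ((nat_lit 1), [nat_lit 7, nat_lit 1, nat_lit 7, nat_lit 3, nat_lit 7, nat_lit 0])) (.node (nat_lit 648) (.leaf ((nat_lit 1), [nat_lit 3, nat_lit 5, nat_lit 7, nat_lit 2, nat_lit 0])) (.leaf ((nat_lit 1), [nat_lit 4, nat_lit 6, nat_lit 7, nat_lit 3, nat_lit 6]))))))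
 (.node (nat_lit 654) (.node (nat_lit 651) (.node (nat_lit 650) (.leaf ((nat_lit 0), [nat_lit 1, nat_lit 7, nat_lit 2])) (.leaf ((nat_lit 1), [nat_lit 5, nat_lit 7, nat_lit 1, nat_lit 7, nat_lit 0]))) (.node (nat_lit 652) (.leaf ((nat_lit 1), [nat_lit 0, nat_lit 7, nat_lit 2, nat_lit 6, nat_lit 1])) (.node (nat_lit 653) (.leaf ((nat_lit 0), [nat_lit 4, nat_lit 7, nat_lit 2, nat_lit 0])) (.leaf ((nat_lit 1), [nat_lit 3, nat_lit 6, nat_lit 3, nat_lit 0, nat_lit 7])))))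
 (.node (nat_lit 657) (.node (nat_lit 655) (.leaf ((nat_lit 1), [nat_lit 2, nat_lit 7, nat_lit 4, nat_lit 0])) (.node (nat_lit 656) (.leaf ((nat_lit 0), [nat_lit 7, nat_lit 0, nat_lit 7, nat_lit 1])) (.leaf ((nat_lit 1), [nat_lit 7, nat_lit 0, nat_lit 7, nat_lit 2, nat_lit 5])))) (.node (nat_lit 658) (.leaf ((nat_lit 1), [nat_lit 7, nat_lit 5, nat_lit 2, nat_lit 0, nat_lit 7, nat_lit 2])) (.node (nat_lit 659) (.leaf ((nat_lit 1), [nat_lit 2, nat_lit 7, nat_lit 6, nat_lit 3, nat_lit 0])) (.leaf ((nat_lit 1), [nat_lit 1, nat_lit 7, nat_lit 5, nat_lit 7]))))))))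
 (.node (nat_lit 682) (.node (nat_lit 671) (.node (nat_lit 665) (.node (nat_lit 662) (.node (nat_lit 661) (.leaf ((nat_lit 0), [nat_lit 0, nat_lit 7])) (.leaf ((nat_lit 0), [nat_lit 1, nat_lit 7, nat_lit 1]))) (.node (nat_lit 663) (.leaf ((nat_lit 1), [nat_lit 7, nat_lit 5, nat_lit 7, nat_lit 2, nat_lit 0])) (.node (nat_lit 664) (.leaf ((nat_lit 1), [nat_lit 7, nat_lit 0, nat_lit 7, nat_lit 6, nat_lit 5])) (.leaf ((nat_lit 1), [nat_lit 0, nat_lit 7])))))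
 (.node (nat_lit 668) (.node (nat_lit 666) (.leaf ((nat_lit 1), [nat_lit 7, nat_lit 2, nat_lit 7, nat_lit 0])) (.node (nat_lit 667) (.leaf ((nat_lit 1), [nat_lit 6, nat_lit 2, nat_lit 6, nat_lit 7, nat_lit 6, nat_lit 2])) (.leaf ((nat_lit 1), [nat_lit 6, nat_lit 1, nat_lit 7, nat_lit 5, nat_lit 2])))) (.node (nat_lit 669) (.leaf ((nat_lit 1), [nat_lit 3, nat_lit 5, nat_lit 2, nat_lit 7])) (.node (nat_lit 670) (.leaf ((nat_lit 1), [nat_lit 5, nat_lit 2, nat_lit 7, nat_lit 2, nat_lit 1])) (.leaf ((nat_lit 1), [nat_lit 0, nat_lit 7, nat_lit 6]))))))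
 (.node (nat_lit 676) (.node (nat_lit 673) (.node (nat_lit 672) (.leaf ((nat_lit 1), [nat_lit 7, nat_lit 3, nat_lit 1, nat_lit 7, nat_lit 2, nat_lit 1])) (.leaf ((nat_lit 0), [nat_lit 7, nat_lit 2]))) (.node (nat_lit 674) (.leaf ((nat_lit 1), [nat_lit 4, nat_lit 7, nat_lit 6, nat_lit 1])) (.node (nat_lit 675) (.leaf ((nat_lit 1), [nat_lit 6, nat_lit 1, nat_lit 5, nat_lit 7, nat_lit 2])) (.leaf ((nat_lit 1), [nat_lit 4, nat_lit 1, nat_lit 7, nat_lit 5, nat_lit 0])))))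
 (.node (nat_lit 679) (.node (nat_lit 677) (.leaf ((nat_lit 1), [nat_lit 5, nat_lit 4, nat_lit 2])) (.node (nat_lit 678) (.leaf ((nat_lit 1), [nat_lit 2, nat_lit 5, nat_lit 7, nat_lit 6, nat_lit 2])) (.leaf ((nat_lit 1), [nat_lit 5, nat_lit 4, nat_lit 7, nat_lit 4, nat_lit 0])))) (.node (nat_lit 680) (.leaf ((nat_lit 1), [nat_lit 1, nat_lit 5, nat_lit 7])) (.node (nat_lit 681) (.leaf ((nat_lit 1), [nat_lit 3, nat_lit 0, nat_lit 7, nat_lit 2])) (.leaf ((nat_lit 1), [nat_lit 5, nat_lit 2, nat_lit 7, nat_lit 5, nat_lit 2])))))))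
 (.node (nat_lit 693) (.node (nat_lit 687) (.node (nat_lit 684) (.node (nat_lit 683) (.leaf ((nat_lit 1), [nat_lit 7, nat_lit 5, nat_lit 7, nat_lit 2, nat_lit 5])) (.leaf ((nat_lit 0), [nat_lit 7, nat_lit 5]))) (.node (nat_lit 685) (.leaf ((nat_lit 1), [nat_lit 4, nat_lit 7, nat_lit 1])) (.node (nat_lit 686) (.leaf ((nat_lit 1), [nat_lit 1, nat_lit 7, nat_lit 1, nat_lit 5, nat_lit 2])) (.leaf ((nat_lit 1), [nat_lit 2, nat_lit 7, nat_lit 3, nat_lit 5, nat_lit 2])))))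
 (.node (nat_lit 690) (.node (nat_lit 688) (.leaf ((nat_lit 1), [nat_lit 3, nat_lit 7, nat_lit 3, nat_lit 7, nat_lit 0])) (.node (nat_lit 689) (.leaf ((nat_lit 1), [nat_lit 7, nat_lit 4, nat_lit 6, nat_lit 3, nat_lit 0])) (.leaf ((nat_lit 1), [nat_lit 4, nat_lit 3, nat_lit 5])))) (.node (nat_lit 691) (.leaf ((nat_lit 1), [nat_lit 6, nat_lit 2, nat_lit 7, nat_lit 4, nat_lit 3])) (.node (nat_lit 692) (.leaf ((nat_lit 1), [nat_lit 2, nat_lit 5, nat_lit 4, nat_lit 7, nat_lit 1])) (.leaf ((nat_lit 1), [nat_lit 6, nat_lit 4, nat_lit 7]))))))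
 (.node (nat_lit 698) (.node (nat_lit 695) (.node (nat_lit 694) (.leaf ((nat_lit 1), [nat_lit 4, nat_lit 2, nat_lit 0, nat_lit 7])) (.leaf ((nat_lit 1), [nat_lit 7, nat_lit 0, nat_lit 7, nat_lit 2, nat_lit 0]))) (.node (nat_lit 696) (.leaf ((nat_lit 1), [nat_lit 1, nat_lit 7, nat_lit 4, nat_lit 3, nat_lit 0])) (.node (nat_lit 697) (.leaf ((nat_lit 1), [nat_lit 7, nat_lit 5, nat_lit 7, nat_lit 4, nat_lit 7, nat_lit 0])) (.leaf ((nat_lit 1), [nat_lit 6, nat_lit 3, nat_lit 5, nat_lit 7, nat_lit 1])))))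
 (.node (nat_lit 701) (.node (nat_lit 699) (.leaf ((nat_lit 1), [nat_lit 5, nat_lit 7, nat_lit 4, nat_lit 7, nat_lit 2])) (.node (nat_lit 700) (.leaf ((nat_lit 1), [nat_lit 0, nat_lit 5])) (.leaf ((nat_lit 0), [nat_lit 2, nat_lit 5, nat_lit 1])))) (.node (nat_lit 702) (.leaf ((nat_lit 1), [nat_lit 4, nat_lit 7, nat_lit 3, nat_lit 7])) (.node (nat_lit 703) (.leaf ((nat_lit 1), [nat_lit 6, nat_lit 5, nat_lit 7, nat_lit 0])) (.leaf ((nat_lit 1), [nat_lit 0, nat_lit 7, nat_lit 4, nat_lit 3]))))))))))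
noncomputable def qPA_4 : Tr (ℕ × List ℕ) := (.node (nat_lit 792) (.node (nat_lit 748) (.node (nat_lit 726) (.node (nat_lit 715) (.node (nat_lit 709) (.node (nat_lit 706) (.node (nat_lit 705) (.leaf ((nat_lit 1), [nat_lit 5, nat_lit 2])) (.leaf ((nat_lit 1), [nat_lit 4, nat_lit 2, nat_lit 0]))) (.node (nat_lit 707) (.leaf ((nat_lit 1), [nat_lit 1, nat_lit 7, nat_lit 3, nat_lit 7, nat_lit 0])) (.node (nat_lit 708) (.leaf ((nat_lit 1), [nat_lit 4, nat_lit 6, nat_lit 1, nat_lit 7])) (.leaf ((nat_lit 1), [nat_lit 7, nat_lit 1, nat_lit 5, nat_lit 6, nat_lit 7])))))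
 (.node (nat_lit 712) (.node (nat_lit 710) (.leaf ((nat_lit 0), [nat_lit 2, nat_lit 0, nat_lit 7, nat_lit 1])) (.node (nat_lit 711) (.leaf ((nat_lit 1), [nat_lit 6, nat_lit 7, nat_lit 3, nat_lit 1])) (.leaf ((nat_lit 1), [nat_lit 5, nat_lit 6, nat_lit 7, nat_lit 1])))) (.node (nat_lit 713) (.leaf ((nat_lit 1), [nat_lit 4, nat_lit 2, nat_lit 7, nat_lit 4, nat_lit 2, nat_lit 0])) (.node (nat_lit 714) (.leaf ((nat_lit 1), [nat_lit 3, nat_lit 5, nat_lit 6, nat_lit 7])) (.leaf ((nat_lit 1), [nat_lit 7, nat_lit 5]))))))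
 (.node (nat_lit 720) (.node (nat_lit 717) (.node (nat_lit 716) (.leaf ((nat_lit 1), [nat_lit 5, nat_lit 4, nat_lit 2, nat_lit 7, nat_lit 0])) (.leaf ((nat_lit 1), [nat_lit 5, nat_lit 2, nat_lit 7, nat_lit 3, nat_lit 1]))) (.node (nat_lit 718) (.leaf ((nat_lit 1), [nat_lit 3, nat_lit 6, nat_lit 4, nat_lit 7, nat_lit 1])) (.node (nat_lit 719) (.leaf ((nat_lit 1), [nat_lit 3, nat_lit 6, nat_lit 7, nat_lit 1])) (.leaf ((nat_lit 0), [nat_lit 7, nat_lit 0, nat_lit 7, nat_lit 2])))))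
 (.node (nat_lit 723) (.node (nat_lit 721) (.leaf ((nat_lit 1), [nat_lit 6, nat_lit 7, nat_lit 5, nat_lit 4])) (.node (nat_lit 722) (.leaf ((nat_lit 1), [nat_lit 2, nat_lit 5, nat_lit 6, nat_lit 7, nat_lit 0])) (.leaf ((nat_lit 1), [nat_lit 7, nat_lit 5, nat_lit 7, nat_lit 6])))) (.node (nat_lit 724) (.leaf ((nat_lit 1), [nat_lit 5, nat_lit 6, nat_lit 7, nat_lit 1, nat_lit 7, nat_lit 0])) (.node (nat_lit 725) (.leaf ((nat_lit 1), [nat_lit 1, nat_lit 7, nat_lit 3, nat_lit 1])) (.leaf ((nat_lit 0), [nat_lit 3, nat_lit 1, nat_lit 7])))))))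
 (.node (nat_lit 737) (.node (nat_lit 731) (.node (nat_lit 728) (.node (nat_lit 727) (.leaf ((nat_lit 1), [nat_lit 4, nat_lit 2, nat_lit 1, nat_lit 7, nat_lit 2])) (.leaf ((nat_lit 1), [nat_lit 6, nat_lit 3, nat_lit 5, nat_lit 0, nat_lit 7]))) (.node (nat_lit 729) (.leaf ((nat_lit 1), [nat_lit 1, nat_lit 5, nat_lit 2, nat_lit 7])) (.node (nat_lit 730) (.leaf ((nat_lit 1), [nat_lit 6, nat_lit 1, nat_lit 7, nat_lit 5, nat_lit 4])) (.leaf ((nat_lit 1), [nat_lit 3, nat_lit 1, nat_lit 7, nat_lit 5, nat_lit 0])))))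
 (.node (nat_lit 734) (.node (nat_lit 732) (.leaf ((nat_lit 1), [nat_lit 4, nat_lit 1, nat_lit 7, nat_lit 2, nat_lit 0])) (.node (nat_lit 733) (.leaf ((nat_lit 1), [nat_lit 4, nat_lit 1, nat_lit 7, nat_lit 0])) (.leaf ((nat_lit 1), [nat_lit 7, nat_lit 2, nat_lit 5, nat_lit 0])))) (.node (nat_lit 735) (.leaf ((nat_lit 1), [nat_lit 3, nat_lit 0])) (.node (nat_lit 736) (.leaf ((nat_lit 1), [nat_lit 2, nat_lit 5, nat_lit 2])) (.leaf ((nat_lit 1), [nat_lit 7, nat_lit 3, nat_lit 7, nat_lit 5, nat_lit 0]))))))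
 (.node (nat_lit 742) (.node (nat_lit 739) (.node (nat_lit 738) (.leaf ((nat_lit 1), [nat_lit 6, nat_lit 7, nat_lit 6, nat_lit 1])) (.leaf ((nat_lit 1), [nat_lit 1, nat_lit 6, nat_lit 3, nat_lit 7, nat_lit 2]))) (.node (nat_lit 740) (.leaf ((nat_lit 1), [nat_lit 6, nat_lit 7, nat_lit 1, nat_lit 5, nat_lit 2])) (.node (nat_lit 741) (.leaf ((nat_lit 1), [nat_lit 1, nat_lit 7, nat_lit 5, nat_lit 2])) (.leaf ((nat_lit 1), [nat_lit 2, nat_lit 0])))))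
 (.node (nat_lit 745) (.node (nat_lit 743) (.leaf ((nat_lit 1), [nat_lit 6, nat_lit 7, nat_lit 6, nat_lit 7, nat_lit 2])) (.node (nat_lit 744) (.leaf ((nat_lit 1), [nat_lit 3, nat_lit 5, nat_lit 2])) (.leaf ((nat_lit 1), [nat_lit 3, nat_lit 1, nat_lit 7, nat_lit 4, nat_lit 0])))) (.node (nat_lit 746) (.leaf ((nat_lit 1), [nat_lit 1, nat_lit 7, nat_lit 2, nat_lit 7, nat_lit 5])) (.node (nat_lit 747) (.leaf ((nat_lit 1), [nat_lit 7, nat_lit 3, nat_lit 7, nat_lit 1])) (.leaf ((nat_lit 1), [nat_lit 6, nat_lit 4, nat_lit 7, nat_lit 1, nat_lit 5]))))))))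
 (.node (nat_lit 770) (.node (nat_lit 759) (.node (nat_lit 753) (.node (nat_lit 750) (.node (nat_lit 749) (.leaf ((nat_lit 0), [nat_lit 2, nat_lit 1, nat_lit 7, nat_lit 2])) (.leaf ((nat_lit 0), [nat_lit 6, nat_lit 2, nat_lit 7]))) (.node (nat_lit 751) (.leaf ((nat_lit 1), [nat_lit 5, nat_lit 7, nat_lit 3, nat_lit 1])) (.node (nat_lit 752) (.leaf ((nat_lit 1), [nat_lit 0, nat_lit 6, nat_lit 7, nat_lit 3, nat_lit 0])) (.leaf ((nat_lit 1), [nat_lit 7, nat_lit 6, nat_lit 7, nat_lit 6])))))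
 (.node (nat_lit 756) (.node (nat_lit 754) (.leaf ((nat_lit 1), [nat_lit 5, nat_lit 1, nat_lit 5, nat_lit 7, nat_lit 2])) (.node (nat_lit 755) (.leaf ((nat_lit 1), [nat_lit 3, nat_lit 7, nat_lit 4, nat_lit 7, nat_lit 0])) (.leaf ((nat_lit 1), [nat_lit 4, nat_lit 5, nat_lit 7, nat_lit 1])))) (.node (nat_lit 757) (.leaf ((nat_lit 1), [nat_lit 3, nat_lit 7, nat_lit 3, nat_lit 6])) (.node (nat_lit 758) (.leaf ((nat_lit 1), [nat_lit 2, nat_lit 0, nat_lit 7, nat_lit 3, nat_lit 7, nat_lit 0])) (.leaf ((nat_lit 1), [nat_lit 6, nat_lit 5, nat_lit 7, nat_lit 5]))))))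
 (.node (nat_lit 764) (.node (nat_lit 761) (.node (nat_lit 760) (.leaf ((nat_lit 1), [nat_lit 6, nat_lit 1, nat_lit 7, nat_lit 0])) (.leaf ((nat_lit 1), [nat_lit 3, nat_lit 6, nat_lit 2]))) (.node (nat_lit 762) (.leaf ((nat_lit 1), [nat_lit 7, nat_lit 3, nat_lit 5])) (.node (nat_lit 763) (.leaf ((nat_lit 1), [nat_lit 6, nat_lit 7, nat_lit 0, nat_lit 7])) (.leaf ((nat_lit 1), [nat_lit 1, nat_lit 7, nat_lit 4, nat_lit 2])))))
 (.node (nat_lit 767) (.node (nat_lit 765) (.leaf ((nat_lit 1), [nat_lit 4, nat_lit 0, nat_lit 7, nat_lit 2])) (.node (nat_lit 766) (.leaf ((nat_lit 1), [nat_lit 1, nat_lit 5, nat_lit 6, nat_lit 7])) (.leaf ((nat_lit 1), [nat_lit 6, nat_lit 1, nat_lit 7, nat_lit 2])))) (.node (nat_lit 768) (.leaf ((nat_lit 1), [nat_lit 2, nat_lit 1, nat_lit 6, nat_lit 7])) (.node (nat_lit 769) (.leaf ((nat_lit 1), [nat_lit 3, nat_lit 5, nat_lit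 4, nat_lit 7, nat_lit 1])) (.leaf ((nat_lit 1), [nat_lit 0, nat_lit 7, nat_lit 0, nat_lit 7, nat_lit 5])))))))
 (.node (nat_lit 781) (.node (nat_lit 775) (.node (nat_lit 772) (.node (nat_lit 771) (.leaf ((nat_lit 1), [nat_lit 7, nat_lit 4, nat_lit 5, nat_lit 7, nat_lit 2])) (.leaf ((nat_lit 1), [nat_lit 2, nat_lit 7, nat_lit 6, nat_lit 1]))) (.node (nat_lit 773) (.leaf ((nat_lit 1), [nat_lit 0, nat_lit 6, nat_lit 7, nat_lit 1])) (.node (nat_lit 774) (.leaf ((nat_lit 1), [nat_lit 7, nat_lit 1, nat_lit 5, nat_lit 7, nat_lit 1, nat_lit 5])) (.leaf ((nat_lit 1), [nat_lit 1, nat_lit 5, nat_lit 3, nat_lit 7, nat_lit 1])))))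
 (.node (nat_lit 778) (.node (nat_lit 776) (.leaf ((nat_lit 1), [nat_lit 3, nat_lit 7, nat_lit 1, nat_lit 7, nat_lit 1])) (.node (nat_lit 777) (.leaf ((nat_lit 1), [nat_lit 3, nat_lit 6, nat_lit 1, nat_lit 7, nat_lit 1])) (.leaf ((nat_lit 1), [nat_lit 7, nat_lit 6, nat_lit 7, nat_lit 5, nat_lit 6])))) (.node (nat_lit 779) (.leaf ((nat_lit 1), [nat_lit 7, nat_lit 3, nat_lit 0])) (.node (nat_lit 780) (.leaf ((nat_lit 1), [nat_lit 5, nat_lit 2, nat_lit 0])) (.leaf ((nat_lit 1), [nat_lit 7, nat_lit 5, nat_lit 7, nat_lit 3, nat_lit 0]))))))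
 (.node (nat_lit 786) (.node (nat_lit 783) (.node (nat_lit 782) (.leaf ((nat_lit 1), [nat_lit 4, nat_lit 6, nat_lit 7, nat_lit 1, nat_lit 5])) (.leaf ((nat_lit 1), [nat_lit 7, nat_lit 6, nat_lit 1]))) (.node (nat_lit 784) (.leaf ((nat_lit 1), [nat_lit 4, nat_lit 7, nat_lit 2, nat_lit 6])) (.node (nat_lit 785) (.leaf ((nat_lit 1), [nat_lit 2, nat_lit 6, nat_lit 2, nat_lit 7])) (.leaf ((nat_lit 1), [nat_lit 1, nat_lit 6, nat_lit 7, nat_lit 3, nat_lit 0])))))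
 (.node (nat_lit 789) (.node (nat_lit 787) (.leaf ((nat_lit 1), [nat_lit 4, nat_lit 6, nat_lit 2, nat_lit 7, nat_lit 1])) (.node (nat_lit 788) (.leaf ((nat_lit 1), [nat_lit 3, nat_lit 5, nat_lit 7, nat_lit 1])) (.leaf ((nat_lit 1), [nat_lit 3, nat_lit 6, nat_lit 7, nat_lit 2, nat_lit 0])))) (.node (nat_lit 790) (.leaf ((nat_lit 1), [nat_lit 4, nat_lit 1, nat_lit 7, nat_lit 6, nat_lit 2])) (.node (nat_lit 791) (.leaf ((nat_lit 0), [nat_lit 1, nat_lit 7, nat_lit 5])) (.leaf ((nat_lit 1), [nat_lit 2, nat_lit 0, nat_lit 7, nat_lit 4, nat_lit 3])))))))))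
 (.node (nat_lit 836) (.node (nat_lit 814) (.node (nat_lit 803) (.node (nat_lit 797) (.node (nat_lit 794) (.node (nat_lit 793) (.leaf ((nat_lit 0), [nat_lit 2, nat_lit 1])) (.leaf ((nat_lit 1), [nat_lit 7, nat_lit 1, nat_lit 5, nat_lit 7, nat_lit 2, nat_lit 1]))) (.node (nat_lit 795) (.leaf ((nat_lit 1), [nat_lit 5, nat_lit 4, nat_lit 3, nat_lit 0])) (.node (nat_lit 796) (.leaf ((nat_lit 1), [nat_lit 5, nat_lit 6, nat_lit 7, nat_lit 2, nat_lit 5, nat_lit 0])) (.leaf ((nat_lit 1), [nat_lit 7, nat_lit 5, nat_lit 6])))))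
 (.node (nat_lit 800) (.node (nat_lit 798) (.leaf ((nat_lit 0), [nat_lit 3, nat_lit 7, nat_lit 1, nat_lit 7])) (.node (nat_lit 799) (.leaf ((nat_lit 1), [nat_lit 5, nat_lit 3, nat_lit 0, nat_lit 7])) (.leaf ((nat_lit 1), [nat_lit 3, nat_lit 1, nat_lit 7, nat_lit 6, nat_lit 2])))) (.node (nat_lit 801) (.leaf ((nat_lit 1), [nat_lit 1, nat_lit 7, nat_lit 0, nat_lit 5, nat_lit 4])) (.node (nat_lit 802) (.leaf ((nat_lit 1), [nat_lit 6, nat_lit 5, nat_lit 7, nat_lit 2])) (.leaf ((nat_lit 1), [nat_lit 6, nat_lit 7, nat_lit 2, nat_lit 7]))))))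
 (.node (nat_lit 808) (.node (nat_lit 805) (.node (nat_lit 804) (.leaf ((nat_lit 1), [nat_lit 2, nat_lit 7, nat_lit 0, nat_lit 7, nat_lit 2])) (.leaf ((nat_lit 1), [nat_lit 2, nat_lit 6, nat_lit 1, nat_lit 7]))) (.node (nat_lit 806) (.leaf ((nat_lit 1), [nat_lit 5, nat_lit 6, nat_lit 5, nat_lit 7, nat_lit 1])) (.node (nat_lit 807) (.leaf ((nat_lit 1), [nat_lit 3, nat_lit 1, nat_lit 6, nat_lit 7, nat_lit 1])) (.leaf ((nat_lit 1), [nat_lit 2, nat_lit 0, nat_lit 7, nat_lit 2, nat_lit 1])))))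
 (.node (nat_lit 811) (.node (nat_lit 809) (.leaf ((nat_lit 1), [nat_lit 7, nat_lit 5, nat_lit 0, nat_lit 7])) (.node (nat_lit 810) (.leaf ((nat_lit 1), [nat_lit 1, nat_lit 7, nat_lit 5, nat_lit 2, nat_lit 7])) (.leaf ((nat_lit 1), [nat_lit 6, nat_lit 0, nat_lit 5, nat_lit 7])))) (.node (nat_lit 812) (.leaf ((nat_lit 0), [nat_lit 7, nat_lit 3, nat_lit 7, nat_lit 2])) (.node (nat_lit 813) (.leaf ((nat_lit 1), [nat_lit 5, nat_lit 3, nat_lit 7, nat_lit 6])) (.leaf ((nat_lit 1), [nat_lit 3, nat_lit 7, nat_lit 6, nat_lit 5])))))))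
 (.node (nat_lit 825) (.node (nat_lit 819) (.node (nat_lit 816) (.node (nat_lit 815) (.leaf ((nat_lit 1), [nat_lit 4, nat_lit 7, nat_lit 4, nat_lit 2])) (.leaf ((nat_lit 1), [nat_lit 7, nat_lit 4, nat_lit 7, nat_lit 2, nat_lit 0]))) (.node (nat_lit 817) (.leaf ((nat_lit 1), [nat_lit 0, nat_lit 7, nat_lit 4, nat_lit 5, nat_lit 7, nat_lit 2])) (.node (nat_lit 818) (.leaf ((nat_lit 1), [nat_lit 7, nat_lit 6, nat_lit 4])) (.leaf ((nat_lit 1), [nat_lit 6, nat_lit 0, nat_lit 7])))))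
 (.node (nat_lit 822) (.node (nat_lit 820) (.leaf ((nat_lit 1), [nat_lit 0, nat_lit 7, nat_lit 3, nat_lit 5])) (.node (nat_lit 821) (.leaf ((nat_lit 1), [nat_lit 3, nat_lit 6, nat_lit 1, nat_lit 7, nat_lit 0])) (.leaf ((nat_lit 1), [nat_lit 7, nat_lit 3, nat_lit 7, nat_lit 4, nat_lit 0])))) (.node (nat_lit 823) (.leaf ((nat_lit 1), [nat_lit 7, nat_lit 5, nat_lit 2, nat_lit 7, nat_lit 6])) (.node (nat_lit 824) (.leaf ((nat_lit 1), [nat_lit 7, nat_lit 1, nat_lit 7, nat_lit 2, nat_lit 1])) (.leaf ((nat_lit 1), [nat_lit 0, nat_lit 6, nat_lit 3, nat_lit 7, nat_lit 0]))))))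
 (.node (nat_lit 830) (.node (nat_lit 827) (.node (nat_lit 826) (.leaf ((nat_lit 1), [nat_lit 0, nat_lit 7, nat_lit 4, nat_lit 3, nat_lit 5])) (.leaf ((nat_lit 1), [nat_lit 5, nat_lit 0, nat_lit 5, nat_lit 1, nat_lit 7]))) (.node (nat_lit 828) (.leaf ((nat_lit 1), [nat_lit 3, nat_lit 5, nat_lit 7, nat_lit 3, nat_lit 7])) (.node (nat_lit 829) (.leaf ((nat_lit 1), [nat_lit 3, nat_lit 1, nat_lit 7, nat_lit 2, nat_lit 0])) (.leaf ((nat_lit 1), [nat_lit 0, nat_lit 5, nat_lit 1, nat_lit 7, nat_lit 2, nat_lit 0])))))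
 (.node (nat_lit 833) (.node (nat_lit 831) (.leaf ((nat_lit 1), [nat_lit 1, nat_lit 5, nat_lit 7, nat_lit 2, nat_lit 1])) (.node (nat_lit 832) (.leaf ((nat_lit 1), [nat_lit 7, nat_lit 4, nat_lit 7, nat_lit 5, nat_lit 0])) (.leaf ((nat_lit 1), [nat_lit 7, nat_lit 6, nat_lit 7, nat_lit 2, nat_lit 6])))) (.node (nat_lit 834) (.leaf ((nat_lit 1), [nat_lit 7, nat_lit 2, nat_lit 7, nat_lit 3])) (.node (nat_lit 835) (.leaf ((nat_lit 1), [nat_lit 4, nat_lit 7, nat_lit 4, nat_lit 7, nat_lit 3])) (.leaf ((nat_lit 1), [nat_lit 3, nat_lit 7, nat_lit 1, nat_lit 7, nat_lit 5]))))))))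
 (.node (nat_lit 858) (.node (nat_lit 847) (.node (nat_lit 841) (.node (nat_lit 838) (.node (nat_lit 837) (.leaf ((nat_lit 1), [nat_lit 7, nat_lit 6, nat_lit 2])) (.leaf ((nat_lit 1), [nat_lit 1, nat_lit 6, nat_lit 7, nat_lit 5]))) (.node (nat_lit 839) (.leaf ((nat_lit 1), [nat_lit 1, nat_lit 6, nat_lit 7, nat_lit 2])) (.node (nat_lit 840) (.leaf ((nat_lit 1), [nat_lit 7, nat_lit 0, nat_lit 7, nat_lit 2, nat_lit 1])) (.leaf ((nat_lit 1), [nat_lit 7, nat_lit 1, nat_lit 7, nat_lit 6, nat_lit 1])))))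
 (.node (nat_lit 844) (.node (nat_lit 842) (.leaf ((nat_lit 1), [nat_lit 7, nat_lit 6, nat_lit 3, nat_lit 7, nat_lit 2, nat_lit 0])) (.node (nat_lit 843) (.leaf ((nat_lit 1), [nat_lit 0, nat_lit 7, nat_lit 5])) (.leaf ((nat_lit 1), [nat_lit 2, nat_lit 5, nat_lit 7, nat_lit 4, nat_lit 0])))) (.node (nat_lit 845) (.leaf ((nat_lit 1), [nat_lit 7, nat_lit 3, nat_lit 7, nat_lit 4, nat_lit 2])) (.node (nat_lit 846) (.leaf ((nat_lit 1), [nat_lit 0, nat_lit 7, nat_lit 4, nat_lit 5, nat_lit 4])) (.leaf ((nat_lit 1), [nat_lit 7, nat_lit 4, nat_lit 6, nat_lit 7, nat_lit 2]))))))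
 (.node (nat_lit 852) (.node (nat_lit 849) (.node (nat_lit 848) (.leaf ((nat_lit 1), [nat_lit 7, nat_lit 0, nat_lit 5, nat_lit 0])) (.leaf ((nat_lit 1), [nat_lit 6, nat_lit 5, nat_lit 7, nat_lit 3, nat_lit 0]))) (.node (nat_lit 850) (.leaf ((nat_lit 1), [nat_lit 6, nat_lit 4, nat_lit 5, nat_lit 7])) (.node (nat_lit 851) (.leaf ((nat_lit 1), [nat_lit 4, nat_lit 2, nat_lit 7, nat_lit 1])) (.leaf ((nat_lit 1), [nat_lit 7, nat_lit 5, nat_lit 7, nat_lit 4, nat_lit 7])))))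
 (.node (nat_lit 855) (.node (nat_lit 853) (.leaf ((nat_lit 1), [nat_lit 5, nat_lit 2, nat_lit 0, nat_lit 7])) (.node (nat_lit 854) (.leaf ((nat_lit 1), [nat_lit 0, nat_lit 7, nat_lit 4, nat_lit 5, nat_lit 3])) (.leaf ((nat_lit 1), [nat_lit 5, nat_lit 0, nat_lit 6, nat_lit 7])))) (.node (nat_lit 856) (.leaf ((nat_lit 1), [nat_lit 4, nat_lit 0, nat_lit 7, nat_lit 5])) (.node (nat_lit 857) (.leaf ((nat_lit 1), [nat_lit 7, nat_lit 5, nat_lit 0])) (.leaf ((nat_lit 1), [nat_lit 7, nat_lit 6, nat_lit 5, nat_lit 7])))))))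
 (.node (nat_lit 869) (.node (nat_lit 863) (.node (nat_lit 860) (.node (nat_lit 859) (.leaf ((nat_lit 1), [nat_lit 5, nat_lit 6, nat_lit 7, nat_lit 5])) (.leaf ((nat_lit 1), [nat_lit 6, nat_lit 4, nat_lit 7, nat_lit 6, nat_lit 1]))) (.node (nat_lit 861) (.leaf ((nat_lit 1), [nat_lit 7, nat_lit 2, nat_lit 7, nat_lit 2, nat_lit 0])) (.node (nat_lit 862) (.leaf ((nat_lit 0), [nat_lit 7, nat_lit 0, nat_lit 7, nat_lit 5])) (.leaf ((nat_lit 1), [nat_lit 7, nat_lit 4, nat_lit 0, nat_lit 7, nat_lit 1])))))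
 (.node (nat_lit 866) (.node (nat_lit 864) (.leaf ((nat_lit 1), [nat_lit 3, nat_lit 6, nat_lit 3, nat_lit 7, nat_lit 0])) (.node (nat_lit 865) (.leaf ((nat_lit 1), [nat_lit 7, nat_lit 3, nat_lit 6, nat_lit 3])) (.leaf ((nat_lit 1), [nat_lit 4, nat_lit 7, nat_lit 2, nat_lit 0])))) (.node (nat_lit 867) (.leaf ((nat_lit 1), [nat_lit 3, nat_lit 7, nat_lit 0, nat_lit 7, nat_lit 6])) (.node (nat_lit 868) (.leaf ((nat_lit 1), [nat_lit 2, nat_lit 7, nat_lit 3, nat_lit 0])) (.leaf ((nat_lit 1), [nat_lit 7, nat_lit 6, nat_lit 7, nat_lit 5]))))))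
 (.node (nat_lit 874) (.node (nat_lit 871) (.node (nat_lit 870) (.leaf ((nat_lit 1), [nat_lit 6, nat_lit 7, nat_lit 4, nat_lit 2, nat_lit 0])) (.leaf ((nat_lit 1), [nat_lit 6, nat_lit 1, nat_lit 7, nat_lit 6, nat_lit 1]))) (.node (nat_lit 872) (.leaf ((nat_lit 1), [nat_lit 5, nat_lit 0])) (.node (nat_lit 873) (.leaf ((nat_lit 1), [nat_lit 4, nat_lit 5, nat_lit 3])) (.leaf ((nat_lit 1), [nat_lit 6, nat_lit 5, nat_lit 7, nat_lit 1])))))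
 (.node (nat_lit 877) (.node (nat_lit 875) (.leaf ((nat_lit 1), [nat_lit 7, nat_lit 6, nat_lit 3, nat_lit 7])) (.node (nat_lit 876) (.leaf ((nat_lit 1), [nat_lit 1, nat_lit 7, nat_lit 5, nat_lit 2, nat_lit 0])) (.leaf ((nat_lit 1), [nat_lit 1, nat_lit 6, nat_lit 2, nat_lit 6, nat_lit 7])))) (.node (nat_lit 878) (.leaf ((nat_lit 1), [nat_lit 4, nat_lit 2, nat_lit 5, nat_lit 7, nat_lit 1])) (.node (nat_lit 879) (.leaf ((nat_lit 1), [nat_lit 6, nat_lit 3, nat_lit 7, nat_lit 3, nat_lit 7])) (.leaf ((nat_lit 1), [nat_lit 0, nat_lit 7, nat_lit 1, nat_lit 7, nat_lit 1]))))))))))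
noncomputable def qPA_5 : Tr (ℕ × List ℕ) := (.node (nat_lit 968) (.node (nat_lit 924) (.node (nat_lit 902) (.node (nat_lit 891) (.node (nat_lit 885) (.node (nat_lit 882) (.node (nat_lit 881) (.leaf ((nat_lit 1), [nat_lit 5, nat_lit 1, nat_lit 5, nat_lit 1, nat_lit 7])) (.leaf ((nat_lit 1), [nat_lit 7, nat_lit 3]))) (.node (nat_lit 883) (.leaf ((nat_lit 1), [nat_lit 7, nat_lit 0, nat_lit 5, nat_lit 2, nat_lit 7])) (.node (nat_lit 884) (.leaf ((nat_lit 1), [nat_lit 4, nat_lit 7, nat_lit 5, nat_lit 4, nat_lit 3])) (.leaf ((nat_lit 1), [nat_lit 2, nat_lit 7, nat_lit 5, nat_lit 0])))))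
 (.node (nat_lit 888) (.node (nat_lit 886) (.leaf ((nat_lit 0), [nat_lit 2, nat_lit 0, nat_lit 7])) (.node (nat_lit 887) (.leaf ((nat_lit 0), [nat_lit 6, nat_lit 3, nat_lit 6, nat_lit 7])) (.leaf ((nat_lit 1), [nat_lit 6, nat_lit 3, nat_lit 0])))) (.node (nat_lit 889) (.leaf ((nat_lit 1), [nat_lit 4, nat_lit 0, nat_lit 7, nat_lit 2, nat_lit 1])) (.node (nat_lit 890) (.leaf ((nat_lit 1), [nat_lit 2, nat_lit 5, nat_lit 3, nat_lit 7])) (.leaf ((nat_lit 1), [nat_lit 4, nat_lit 7, nat_lit 0, nat_lit 7, nat_lit 1]))))))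
 (.node (nat_lit 896) (.node (nat_lit 893) (.node (nat_lit 892) (.leaf ((nat_lit 1), [nat_lit 7, nat_lit 4, nat_lit 3, nat_lit 0])) (.leaf ((nat_lit 1), [nat_lit 6, nat_lit 5, nat_lit 2, nat_lit 7]))) (.node (nat_lit 894) (.leaf ((nat_lit 1), [nat_lit 4, nat_lit 6, nat_lit 7, nat_lit 2])) (.node (nat_lit 895) (.leaf ((nat_lit 1), [nat_lit 7, nat_lit 0, nat_lit 7, nat_lit 5])) (.leaf ((nat_lit 1), [nat_lit 4])))))
 (.node (nat_lit 899) (.node (nat_lit 897) (.leaf ((nat_lit 1), [nat_lit 4, nat_lit 2, nat_lit 0, nat_lit 7, nat_lit 0])) (.node (nat_lit 898) (.leaf ((nat_lit 1), [nat_lit 6, nat_lit 7, nat_lit 5])) (.leaf ((nat_lit 1), [nat_lit 6, nat_lit 5, nat_lit 3, nat_lit 7, nat_lit 1])))) (.node (nat_lit 900) (.leaf ((nat_lit 1), [nat_lit 5, nat_lit 4, nat_lit 2, nat_lit 0, nat_lit 7, nat_lit 1])) (.node (nat_lit 901) (.leaf ((nat_lit 1), [nat_lit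 4, nat_lit 6, nat_lit 3, nat_lit 7, nat_lit 0])) (.leaf ((nat_lit 1), [nat_lit 4, nat_lit 5, nat_lit 2, nat_lit 7, nat_lit 2])))))))
 (.node (nat_lit 913) (.node (nat_lit 907) (.node (nat_lit 904) (.node (nat_lit 903) (.leaf ((nat_lit 1), [nat_lit 2, nat_lit 5, nat_lit 0])) (.leaf ((nat_lit 1), [nat_lit 3, nat_lit 5, nat_lit 7, nat_lit 6]))) (.node (nat_lit 905) (.leaf ((nat_lit 1), [nat_lit 5, nat_lit 7, nat_lit 2, nat_lit 0])) (.node (nat_lit 906) (.leaf ((nat_lit 1), [nat_lit 5, nat_lit 6, nat_lit 2, nat_lit 7, nat_lit 2])) (.leaf ((nat_lit 1), [nat_lit 4, nat_lit 5])))))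
 (.node (nat_lit 910) (.node (nat_lit 908) (.leaf ((nat_lit 1), [nat_lit 2, nat_lit 0, nat_lit 7, nat_lit 1])) (.node (nat_lit 909) (.leaf ((nat_lit 1), [nat_lit 4, nat_lit 3, nat_lit 7])) (.leaf ((nat_lit 1), [nat_lit 3, nat_lit 5, nat_lit 7, nat_lit 5, nat_lit 2, nat_lit 0])))) (.node (nat_lit 911) (.leaf ((nat_lit 0), [nat_lit 3, nat_lit 5, nat_lit 7, nat_lit 1])) (.node (nat_lit 912) (.leaf ((nat_lit 1), [nat_lit 7, nat_lit 2, nat_lit 7, nat_lit 3, nat_lit 6])) (.leaf ((nat_lit 1), [nat_lit 7, nat_lit 5, nat_lit 4, nat_lit 2]))))))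
 (.node (nat_lit 918) (.node (nat_lit 915) (.node (nat_lit 914) (.leaf ((nat_lit 1), [nat_lit 5, nat_lit 7, nat_lit 6, nat_lit 5])) (.leaf ((nat_lit 1), [nat_lit 7, nat_lit 6, nat_lit 4, nat_lit 7, nat_lit 2, nat_lit 1]))) (.node (nat_lit 916) (.leaf ((nat_lit 1), [nat_lit 0, nat_lit 5, nat_lit 7, nat_lit 6])) (.node (nat_lit 917) (.leaf ((nat_lit 1), [nat_lit 7, nat_lit 6, nat_lit 0, nat_lit 7])) (.leaf ((nat_lit 1), [nat_lit 1, nat_lit 7, nat_lit 3, nat_lit 7, nat_lit 1])))))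
 (.node (nat_lit 921) (.node (nat_lit 919) (.leaf ((nat_lit 0), [nat_lit 3, nat_lit 1])) (.node (nat_lit 920) (.leaf ((nat_lit 1), [nat_lit 0, nat_lit 5, nat_lit 2])) (.leaf ((nat_lit 1), [nat_lit 7, nat_lit 4, nat_lit 2, nat_lit 7, nat_lit 1])))) (.node (nat_lit 922) (.leaf ((nat_lit 1), [nat_lit 5, nat_lit 4, nat_lit 7, nat_lit 4, nat_lit 2, nat_lit 0])) (.node (nat_lit 923) (.leaf ((nat_lit 1), [nat_lit 7, nat_lit 4, nat_lit 6, nat_lit 7, nat_lit 6, nat_lit 2])) (.leaf ((nat_lit 1), [nat_lit 7, nat_lit 6, nat_lit 2, nat_lit 7, nat_lit 0]))))))))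
 (.node (nat_lit 946) (.node (nat_lit 935) (.node (nat_lit 929) (.node (nat_lit 926) (.node (nat_lit 925) (.leaf ((nat_lit 1), [nat_lit 6, nat_lit 2, nat_lit 5, nat_lit 7, nat_lit 6])) (.leaf ((nat_lit 1), [nat_lit 7, nat_lit 5, nat_lit 2, nat_lit 7, nat_lit 2]))) (.node (nat_lit 927) (.leaf ((nat_lit 1), [nat_lit 4, nat_lit 1, nat_lit 7, nat_lit 1])) (.node (nat_lit 928) (.leaf ((nat_lit 0), [nat_lit 2, nat_lit 0, nat_lit 7, nat_lit 2])) (.leaf ((nat_lit 1), [nat_lit 2, nat_lit 7, nat_lit 6, nat_lit 5, nat_lit 7])))))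
 (.node (nat_lit 932) (.node (nat_lit 930) (.leaf ((nat_lit 1), [nat_lit 7, nat_lit 0, nat_lit 7, nat_lit 2])) (.node (nat_lit 931) (.leaf ((nat_lit 1), [nat_lit 3, nat_lit 5, nat_lit 6])) (.leaf ((nat_lit 1), [nat_lit 6, nat_lit 4, nat_lit 7, nat_lit 2])))) (.node (nat_lit 933) (.leaf ((nat_lit 1), [nat_lit 5, nat_lit 2, nat_lit 0, nat_lit 5, nat_lit 7, nat_lit 1])) (.node (nat_lit 934) (.leaf ((nat_lit 1), [nat_lit 0, nat_lit 5, nat_lit 7, nat_lit 5])) (.leaf ((nat_lit 1), [nat_lit 7, nat_lit 4, nat_lit 5, nat_lit 7, nat_lit 1]))))))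
 (.node (nat_lit 940) (.node (nat_lit 937) (.node (nat_lit 936) (.leaf ((nat_lit 1), [nat_lit 6, nat_lit 7, nat_lit 0, nat_lit 7, nat_lit 5])) (.leaf ((nat_lit 1), [nat_lit 4, nat_lit 7, nat_lit 2, nat_lit 7, nat_lit 3]))) (.node (nat_lit 938) (.leaf ((nat_lit 1), [nat_lit 6, nat_lit 5, nat_lit 4, nat_lit 7, nat_lit 1])) (.node (nat_lit 939) (.leaf ((nat_lit 1), [nat_lit 4, nat_lit 5, nat_lit 1, nat_lit 7])) (.leaf ((nat_lit 1), [nat_lit 6, nat_lit 7, nat_lit 2, nat_lit 7, nat_lit 2, nat_lit 0])))))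
 (.node (nat_lit 943) (.node (nat_lit 941) (.leaf ((nat_lit 1), [nat_lit 7, nat_lit 1, nat_lit 6, nat_lit 7])) (.node (nat_lit 942) (.leaf ((nat_lit 0), [nat_lit 3, nat_lit 6, nat_lit 7, nat_lit 3])) (.leaf ((nat_lit 1), [nat_lit 4, nat_lit 7, nat_lit 2, nat_lit 1])))) (.node (nat_lit 944) (.leaf ((nat_lit 1), [nat_lit 5, nat_lit 7, nat_lit 6, nat_lit 2, nat_lit 7, nat_lit 0])) (.node (nat_lit 945) (.leaf ((nat_lit 1), [nat_lit 7, nat_lit 3, nat_lit 7, nat_lit 5, nat_lit 6])) (.leaf ((nat_lit 1), [nat_lit 7, nat_lit 3, nat_lit 7, nat_lit 6, nat_lit 2])))))))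
 (.node (nat_lit 957) (.node (nat_lit 951) (.node (nat_lit 948) (.node (nat_lit 947) (.leaf ((nat_lit 1), [nat_lit 1, nat_lit 7, nat_lit 1, nat_lit 7, nat_lit 1])) (.leaf ((nat_lit 1), [nat_lit 6, nat_lit 5, nat_lit 2, nat_lit 7, nat_lit 1]))) (.node (nat_lit 949) (.leaf ((nat_lit 1), [nat_lit 3, nat_lit 1, nat_lit 7, nat_lit 1])) (.node (nat_lit 950) (.leaf ((nat_lit 1), [nat_lit 4, nat_lit 5, nat_lit 4, nat_lit 7, nat_lit 1])) (.leaf ((nat_lit 1), [nat_lit 3, nat_lit 6, nat_lit 2, nat_lit 7, nat_lit 1])))))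
 (.node (nat_lit 954) (.node (nat_lit 952) (.leaf ((nat_lit 1), [nat_lit 0, nat_lit 6, nat_lit 0, nat_lit 5, nat_lit 7])) (.node (nat_lit 953) (.leaf ((nat_lit 1), [nat_lit 6, nat_lit 4, nat_lit 7, nat_lit 2, nat_lit 7, nat_lit 1])) (.leaf ((nat_lit 1), [nat_lit 4, nat_lit 5, nat_lit 7])))) (.node (nat_lit 955) (.leaf ((nat_lit 0), [nat_lit 7])) (.node (nat_lit 956) (.leaf ((nat_lit 0), [nat_lit 4, nat_lit 7, nat_lit 1])) (.leaf ((nat_lit 1), [nat_lit 2, nat_lit 0, nat_lit 7, nat_lit 5, nat_lit 0]))))))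
 (.node (nat_lit 962) (.node (nat_lit 959) (.node (nat_lit 958) (.leaf ((nat_lit 1), [nat_lit 4, nat_lit 2, nat_lit 7, nat_lit 5, nat_lit 0])) (.leaf ((nat_lit 1), [nat_lit 4, nat_lit 3, nat_lit 7, nat_lit 4, nat_lit 0]))) (.node (nat_lit 960) (.leaf ((nat_lit 1), [nat_lit 6, nat_lit 7, nat_lit 6, nat_lit 7])) (.node (nat_lit 961) (.leaf ((nat_lit 1), [nat_lit 6, nat_lit 7, nat_lit 4, nat_lit 1, nat_lit 5])) (.leaf ((nat_lit 1), [nat_lit 5, nat_lit 7, nat_lit 2, nat_lit 1])))))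
 (.node (nat_lit 965) (.node (nat_lit 963) (.leaf ((nat_lit 1), [nat_lit 0, nat_lit 7, nat_lit 3, nat_lit 6, nat_lit 7, nat_lit 0])) (.node (nat_lit 964) (.leaf ((nat_lit 1), [nat_lit 6, nat_lit 7, nat_lit 3, nat_lit 5, nat_lit 3])) (.leaf ((nat_lit 1), [nat_lit 5, nat_lit 6, nat_lit 4, nat_lit 7, nat_lit 5])))) (.node (nat_lit 966) (.leaf ((nat_lit 1), [nat_lit 7, nat_lit 1])) (.node (nat_lit 967) (.leaf ((nat_lit 1), [nat_lit 1, nat_lit 6, nat_lit 7, nat_lit 1, nat_lit 5])) (.leaf ((nat_lit 1), [nat_lit 3, nat_lit 5, nat_lit 4, nat_lit 2, nat_lit 7, nat_lit 1])))))))))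
 (.node (nat_lit 1012) (.node (nat_lit 990) (.node (nat_lit 979) (.node (nat_lit 973) (.node (nat_lit 970) (.node (nat_lit 969) (.leaf ((nat_lit 1), [nat_lit 3, nat_lit 5, nat_lit 1, nat_lit 7, nat_lit 1])) (.leaf ((nat_lit 1), [nat_lit 0, nat_lit 7, nat_lit 2, nat_lit 6]))) (.node (nat_lit 971) (.leaf ((nat_lit 1), [nat_lit 6, nat_lit 7, nat_lit 2, nat_lit 6])) (.node (nat_lit 972) (.leaf ((nat_lit 1), [nat_lit 3, nat_lit 7, nat_lit 5, nat_lit 7])) (.leaf ((nat_lit 1), [nat_lit 7, nat_lit 4, nat_lit 2])))))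
 (.node (nat_lit 976) (.node (nat_lit 974) (.leaf ((nat_lit 1), [nat_lit 3, nat_lit 7, nat_lit 4, nat_lit 7])) (.node (nat_lit 975) (.leaf ((nat_lit 1), [nat_lit 2, nat_lit 6, nat_lit 7, nat_lit 3, nat_lit 6])) (.leaf ((nat_lit 1), [nat_lit 0, nat_lit 5, nat_lit 6, nat_lit 7])))) (.node (nat_lit 977) (.leaf ((nat_lit 1), [nat_lit 1, nat_lit 7, nat_lit 4, nat_lit 5, nat_lit 7])) (.node (nat_lit 978) (.leaf ((nat_lit 1), [nat_lit 7, nat_lit 5, nat_lit 7, nat_lit 6, nat_lit 4])) (.leaf ((nat_lit 1), [nat_lit 4, nat_lit 7, nat_lit 1, nat_lit 7, nat_lit 1]))))))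
 (.node (nat_lit 984) (.node (nat_lit 981) (.node (nat_lit 980) (.leaf ((nat_lit 1), [nat_lit 2, nat_lit 7, nat_lit 4, nat_lit 3])) (.leaf ((nat_lit 1), [nat_lit 0, nat_lit 5, nat_lit 7, nat_lit 3, nat_lit 0]))) (.node (nat_lit 982) (.leaf ((nat_lit 1), [nat_lit 0, nat_lit 5, nat_lit 7])) (.node (nat_lit 983) (.leaf ((nat_lit 1), [nat_lit 1, nat_lit 7, nat_lit 5])) (.leaf ((nat_lit 1), [nat_lit 2, nat_lit 5, nat_lit 3, nat_lit 7, nat_lit 1])))))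
 (.node (nat_lit 987) (.node (nat_lit 985) (.leaf ((nat_lit 1), [nat_lit 5, nat_lit 3, nat_lit 7, nat_lit 0, nat_lit 7, nat_lit 2])) (.node (nat_lit 986) (.leaf ((nat_lit 1), [nat_lit 4, nat_lit 7, nat_lit 5, nat_lit 4])) (.leaf ((nat_lit 1), [nat_lit 7, nat_lit 1, nat_lit 5, nat_lit 7, nat_lit 1])))) (.node (nat_lit 988) (.leaf ((nat_lit 1), [nat_lit 0, nat_lit 7, nat_lit 2, nat_lit 1])) (.node (nat_lit 989) (.leaf ((nat_lit 1), [nat_lit 7, nat_lit 4, nat_lit 5, nat_lit 3])) (.leaf ((nat_lit 1), [nat_lit 7, nat_lit 1, nat_lit 5, nat_lit 2, nat_lit 0])))))))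
 (.node (nat_lit 1001) (.node (nat_lit 995) (.node (nat_lit 992) (.node (nat_lit 991) (.leaf ((nat_lit 1), [nat_lit 7, nat_lit 2, nat_lit 7, nat_lit 3, nat_lit 7])) (.leaf ((nat_lit 1), [nat_lit 0, nat_lit 7, nat_lit 4, nat_lit 5, nat_lit 7]))) (.node (nat_lit 993) (.leaf ((nat_lit 1), [nat_lit 7, nat_lit 5, nat_lit 7, nat_lit 1])) (.node (nat_lit 994) (.leaf ((nat_lit 1), [nat_lit 4, nat_lit 5, nat_lit 7, nat_lit 1, nat_lit 5])) (.leaf ((nat_lit 1), [nat_lit 5, nat_lit 2, nat_lit 7, nat_lit 5])))))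
 (.node (nat_lit 998) (.node (nat_lit 996) (.leaf ((nat_lit 1), [nat_lit 2, nat_lit 7, nat_lit 5, nat_lit 4])) (.node (nat_lit 997) (.leaf ((nat_lit 1), [nat_lit 3, nat_lit 7, nat_lit 5, nat_lit 0])) (.leaf ((nat_lit 1), [nat_lit 6, nat_lit 2, nat_lit 6, nat_lit 7])))) (.node (nat_lit 999) (.leaf ((nat_lit 1), [nat_lit 4, nat_lit 7, nat_lit 3, nat_lit 6, nat_lit 3])) (.node (nat_lit 1000) (.leaf ((nat_lit 1), [nat_lit 4, nat_lit 1, nat_lit 5, nat_lit 7, nat_lit 0])) (.leaf ((nat_lit 1), [nat_lit 6, nat_lit 7, nat_lit 2, nat_lit 7, nat_lit 6, nat_lit 1]))))))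
 (.node (nat_lit 1006) (.node (nat_lit 1003) (.node (nat_lit 1002) (.leaf ((nat_lit 1), [nat_lit 4, nat_lit 5, nat_lit 2, nat_lit 7])) (.leaf ((nat_lit 1), [nat_lit 1, nat_lit 7, nat_lit 2, nat_lit 7]))) (.node (nat_lit 1004) (.leaf ((nat_lit 0), [nat_lit 3, nat_lit 1, nat_lit 7, nat_lit 2, nat_lit 0])) (.node (nat_lit 1005) (.leaf ((nat_lit 1), [nat_lit 1, nat_lit 7, nat_lit 1])) (.leaf ((nat_lit 1), [nat_lit 5, nat_lit 1, nat_lit 7, nat_lit 4, nat_lit 7, nat_lit 0])))))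
 (.node (nat_lit 1009) (.node (nat_lit 1007) (.leaf ((nat_lit 1), [nat_lit 5, nat_lit 0, nat_lit 5])) (.node (nat_lit 1008) (.leaf ((nat_lit 1), [nat_lit 0, nat_lit 5, nat_lit 7, nat_lit 6, nat_lit 2])) (.leaf ((nat_lit 1), [nat_lit 1, nat_lit 5, nat_lit 3, nat_lit 0, nat_lit 7])))) (.node (nat_lit 1010) (.leaf ((nat_lit 1), [nat_lit 2, nat_lit 7, nat_lit 6, nat_lit 5])) (.node (nat_lit 1011) (.leaf ((nat_lit 1), [nat_lit 1, nat_lit 6, nat_lit 7, nat_lit 1])) (.leaf ((nat_lit 1), [nat_lit 2, nat_lit 7, nat_lit 2, nat_lit 7, nat_lit 1]))))))))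
 (.node (nat_lit 1034) (.node (nat_lit 1023) (.node (nat_lit 1017) (.node (nat_lit 1014) (.node (nat_lit 1013) (.leaf ((nat_lit 1), [nat_lit 5, nat_lit 7, nat_lit 5, nat_lit 4, nat_lit 3])) (.leaf ((nat_lit 0), [nat_lit 7, nat_lit 3, nat_lit 0]))) (.node (nat_lit 1015) (.leaf ((nat_lit 1), [nat_lit 4, nat_lit 7, nat_lit 1, nat_lit 5])) (.node (nat_lit 1016) (.leaf ((nat_lit 1), [nat_lit 2, nat_lit 7, nat_lit 5, nat_lit 7, nat_lit 1])) (.leaf ((nat_lit 1), [nat_lit 5, nat_lit 7, nat_lit 4, nat_lit 6, nat_lit 3, nat_lit 0])))))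
 (.node (nat_lit 1020) (.node (nat_lit 1018) (.leaf ((nat_lit 1), [nat_lit 4, nat_lit 3, nat_lit 0])) (.node (nat_lit 1019) (.leaf ((nat_lit 1), [nat_lit 6, nat_lit 3, nat_lit 0, nat_lit 7, nat_lit 2])) (.leaf ((nat_lit 1), [nat_lit 0, nat_lit 7, nat_lit 2, nat_lit 5])))) (.node (nat_lit 1021) (.leaf ((nat_lit 1), [nat_lit 7, nat_lit 3, nat_lit 0, nat_lit 7, nat_lit 6])) (.node (nat_lit 1022) (.leaf ((nat_lit 1), [nat_lit 7, nat_lit 4, nat_lit 7, nat_lit 6])) (.leaf ((nat_lit 1), [nat_lit 6, nat_lit 2, nat_lit 5, nat_lit 7, nat_lit 1]))))))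
 (.node (nat_lit 1028) (.node (nat_lit 1025) (.node (nat_lit 1024) (.leaf ((nat_lit 1), [nat_lit 2, nat_lit 7, nat_lit 2, nat_lit 5, nat_lit 0])) (.leaf ((nat_lit 1), [nat_lit 0, nat_lit 7, nat_lit 4, nat_lit 2]))) (.node (nat_lit 1026) (.leaf ((nat_lit 1), [nat_lit 5, nat_lit 4, nat_lit 3, nat_lit 7, nat_lit 0])) (.node (nat_lit 1027) (.leaf ((nat_lit 1), [nat_lit 2, nat_lit 7, nat_lit 4, nat_lit 7, nat_lit 6])) (.leaf ((nat_lit 1), [nat_lit 1, nat_lit 7, nat_lit 2, nat_lit 0])))))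
 (.node (nat_lit 1031) (.node (nat_lit 1029) (.leaf ((nat_lit 1), [nat_lit 3, nat_lit 6, nat_lit 5, nat_lit 7, nat_lit 5])) (.node (nat_lit 1030) (.leaf ((nat_lit 1), [nat_lit 5, nat_lit 6, nat_lit 5, nat_lit 4, nat_lit 7])) (.leaf ((nat_lit 1), [nat_lit 1, nat_lit 7, nat_lit 6, nat_lit 2])))) (.node (nat_lit 1032) (.leaf ((nat_lit 1), [nat_lit 4, nat_lit 7, nat_lit 2, nat_lit 7, nat_lit 2])) (.node (nat_lit 1033) (.leaf ((nat_lit 1), [nat_lit 6, nat_lit 1, nat_lit 5, nat_lit 7, nat_lit 1])) (.leaf ((nat_lit 1), [nat_lit 2, nat_lit 6, nat_lit 1])))))))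
 (.node (nat_lit 1045) (.node (nat_lit 1039) (.node (nat_lit 1036) (.node (nat_lit 1035) (.leaf ((nat_lit 1), [nat_lit 2, nat_lit 5, nat_lit 4, nat_lit 7, nat_lit 2])) (.leaf ((nat_lit 1), [nat_lit 5, nat_lit 3, nat_lit 7, nat_lit 6, nat_lit 2]))) (.node (nat_lit 1037) (.leaf ((nat_lit 1), [nat_lit 4, nat_lit 5, nat_lit 7, nat_lit 0, nat_lit 7])) (.node (nat_lit 1038) (.leaf ((nat_lit 1), [nat_lit 7, nat_lit 3, nat_lit 7, nat_lit 3, nat_lit 1])) (.leaf ((nat_lit 1), [nat_lit 1, nat_lit 5, nat_lit 4, nat_lit 7, nat_lit 2])))))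
 (.node (nat_lit 1042) (.node (nat_lit 1040) (.leaf ((nat_lit 1), [nat_lit 2, nat_lit 7, nat_lit 5])) (.node (nat_lit 1041) (.leaf ((nat_lit 0), [nat_lit 3, nat_lit 6, nat_lit 7, nat_lit 1])) (.leaf ((nat_lit 1), [nat_lit 5, nat_lit 2, nat_lit 7, nat_lit 2, nat_lit 7, nat_lit 1])))) (.node (nat_lit 1043) (.leaf ((nat_lit 1), [nat_lit 7, nat_lit 5, nat_lit 7, nat_lit 3, nat_lit 1])) (.node (nat_lit 1044) (.leaf ((nat_lit 1), [nat_lit 5, nat_lit 2, nat_lit 7])) (.leaf ((nat_lit 1), [nat_lit 6, nat_lit 2]))))))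
 (.node (nat_lit 1050) (.node (nat_lit 1047) (.node (nat_lit 1046) (.leaf ((nat_lit 1), [nat_lit 1, nat_lit 5, nat_lit 7, nat_lit 6, nat_lit 4])) (.leaf ((nat_lit 1), [nat_lit 1, nat_lit 5, nat_lit 7, nat_lit 6, nat_lit 2]))) (.node (nat_lit 1048) (.leaf ((nat_lit 0), [nat_lit 3, nat_lit 7, nat_lit 3, nat_lit 0])) (.node (nat_lit 1049) (.leaf ((nat_lit 1), [nat_lit 3, nat_lit 6])) (.leaf ((nat_lit 1), [nat_lit 1, nat_lit 5, nat_lit 7, nat_lit 5])))))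
 (.node (nat_lit 1053) (.node (nat_lit 1051) (.leaf ((nat_lit 1), [nat_lit 1, nat_lit 7, nat_lit 1, nat_lit 7, nat_lit 0])) (.node (nat_lit 1052) (.leaf ((nat_lit 1), [nat_lit 6, nat_lit 7, nat_lit 2, nat_lit 6, nat_lit 1])) (.leaf ((nat_lit 1), [nat_lit 0, nat_lit 6, nat_lit 7, nat_lit 5, nat_lit 0])))) (.node (nat_lit 1054) (.leaf ((nat_lit 1), [nat_lit 2, nat_lit 7, nat_lit 3, nat_lit 6])) (.node (nat_lit 1055) (.leaf ((nat_lit 1), [nat_lit 1, nat_lit 7, nat_lit 0, nat_lit 5, nat_lit 0])) (.leaf ((nat_lit 1), [nat_lit 1, nat_lit 7, nat_lit 1, nat_lit 7, nat_lit 2]))))))))))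
noncomputable def qPA_6 : Tr (ℕ × List ℕ) := (.node (nat_lit 1144) (.node (nat_lit 1100) (.node (nat_lit 1078) (.node (nat_lit 1067) (.node (nat_lit 1061) (.node (nat_lit 1058) (.node (nat_lit 1057) (.leaf ((nat_lit 1), [nat_lit 6, nat_lit 7, nat_lit 2, nat_lit 7, nat_lit 5])) (.leaf ((nat_lit 1), [nat_lit 1, nat_lit 5, nat_lit 1, nat_lit 7, nat_lit 1]))) (.node (nat_lit 1059) (.leaf ((nat_lit 1), [nat_lit 3, nat_lit 1, nat_lit 7, nat_lit 3, nat_lit 1])) (.node (nat_lit 1060) (.leaf ((nat_lit 1), [nat_lit 3, nat_lit 6, nat_lit 7, nat_lit 6, nat_lit 4])) (.leaf ((nat_lit 1), [nat_lit 0, nat_lit 7, nat_lit 4, nat_lit 7, nat_lit 0])))))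
 (.node (nat_lit 1064) (.node (nat_lit 1062) (.leaf ((nat_lit 0), [nat_lit 2, nat_lit 6, nat_lit 7, nat_lit 2])) (.node (nat_lit 1063) (.leaf ((nat_lit 1), [nat_lit 7, nat_lit 1, nat_lit 5, nat_lit 1, nat_lit 7])) (.leaf ((nat_lit 1), [nat_lit 4, nat_lit 7, nat_lit 4, nat_lit 3])))) (.node (nat_lit 1065) (.leaf ((nat_lit 1), [nat_lit 2, nat_lit 5, nat_lit 6, nat_lit 7, nat_lit 1])) (.node (nat_lit 1066) (.leaf ((nat_lit 0), [nat_lit 5, nat_lit 3, nat_lit 7, nat_lit 1])) (.leaf ((nat_lit 1), [nat_lit 6, nat_lit 7, nat_lit 4, nat_lit 7, nat_lit 2, nat_lit 0]))))))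
 (.node (nat_lit 1072) (.node (nat_lit 1069) (.node (nat_lit 1068) (.leaf ((nat_lit 1), [nat_lit 0, nat_lit 7, nat_lit 5, nat_lit 1, nat_lit 7])) (.leaf ((nat_lit 1), [nat_lit 1, nat_lit 7, nat_lit 2, nat_lit 6, nat_lit 7]))) (.node (nat_lit 1070) (.leaf ((nat_lit 1), [nat_lit 4, nat_lit 1, nat_lit 5, nat_lit 7, nat_lit 1])) (.node (nat_lit 1071) (.leaf ((nat_lit 1), [nat_lit 6, nat_lit 7, nat_lit 4, nat_lit 3])) (.leaf ((nat_lit 1), [nat_lit 2, nat_lit 6, nat_lit 7, nat_lit 2, nat_lit 5, nat_lit 0])))))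
 (.node (nat_lit 1075) (.node (nat_lit 1073) (.leaf ((nat_lit 1), [nat_lit 6, nat_lit 3])) (.node (nat_lit 1074) (.leaf ((nat_lit 1), [nat_lit 7, nat_lit 0, nat_lit 5, nat_lit 7, nat_lit 6])) (.leaf ((nat_lit 1), [nat_lit 5, nat_lit 4, nat_lit 7, nat_lit 2, nat_lit 1])))) (.node (nat_lit 1076) (.leaf ((nat_lit 1), [nat_lit 2, nat_lit 1, nat_lit 7, nat_lit 5, nat_lit 0])) (.node (nat_lit 1077) (.leaf ((nat_lit 1), [nat_lit 5, nat_lit 7, nat_lit 5, nat_lit 2, nat_lit 0])) (.leaf ((nat_lit 1), [nat_lit 1, nat_lit 6, nat_lit 3, nat_lit 7])))))))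
 (.node (nat_lit 1089) (.node (nat_lit 1083) (.node (nat_lit 1080) (.node (nat_lit 1079) (.leaf ((nat_lit 1), [nat_lit 6, nat_lit 2, nat_lit 1, nat_lit 7, nat_lit 1])) (.leaf ((nat_lit 1), [nat_lit 3, nat_lit 6, nat_lit 7, nat_lit 5, nat_lit 0]))) (.node (nat_lit 1081) (.leaf ((nat_lit 1), [nat_lit 7, nat_lit 2, nat_lit 6, nat_lit 2, nat_lit 7])) (.node (nat_lit 1082) (.leaf ((nat_lit 1), [nat_lit 6, nat_lit 2, nat_lit 7, nat_lit 1])) (.leaf ((nat_lit 1), [nat_lit 7, nat_lit 2, nat_lit 6, nat_lit 1])))))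
 (.node (nat_lit 1086) (.node (nat_lit 1084) (.leaf ((nat_lit 1), [nat_lit 2, nat_lit 7, nat_lit 2, nat_lit 7, nat_lit 3])) (.node (nat_lit 1085) (.leaf ((nat_lit 1), [nat_lit 6, nat_lit 7, nat_lit 3, nat_lit 6, nat_lit 3])) (.leaf ((nat_lit 1), [nat_lit 5, nat_lit 7, nat_lit 4, nat_lit 0])))) (.node (nat_lit 1087) (.leaf ((nat_lit 1), [nat_lit 1, nat_lit 5])) (.node (nat_lit 1088) (.leaf ((nat_lit 1), [nat_lit 2, nat_lit 7, nat_lit 0, nat_lit 7, nat_lit 2, nat_lit 0])) (.leaf ((nat_lit 0), [nat_lit 7, nat_lit 5, nat_lit 3, nat_lit 1]))))))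
 (.node (nat_lit 1094) (.node (nat_lit 1091) (.node (nat_lit 1090) (.leaf ((nat_lit 1), [nat_lit 4, nat_lit 7, nat_lit 6])) (.leaf ((nat_lit 1), [nat_lit 5, nat_lit 2, nat_lit 7, nat_lit 3, nat_lit 0]))) (.node (nat_lit 1092) (.leaf ((nat_lit 1), [nat_lit 3, nat_lit 5, nat_lit 1, nat_lit 7, nat_lit 2, nat_lit 1])) (.node (nat_lit 1093) (.leaf ((nat_lit 1), [nat_lit 6, nat_lit 5, nat_lit 7, nat_lit 5, nat_lit 2, nat_lit 0])) (.leaf ((nat_lit 1), [nat_lit 7, nat_lit 1, nat_lit 6, nat_lit 3, nat_lit 7])))))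
 (.node (nat_lit 1097) (.node (nat_lit 1095) (.leaf ((nat_lit 1), [nat_lit 2, nat_lit 7, nat_lit 4, nat_lit 5, nat_lit 3])) (.node (nat_lit 1096) (.leaf ((nat_lit 1), [nat_lit 5, nat_lit 1, nat_lit 7, nat_lit 4, nat_lit 3, nat_lit 0])) (.leaf ((nat_lit 0), [nat_lit 2, nat_lit 7, nat_lit 1])))) (.node (nat_lit 1098) (.leaf ((nat_lit 1), [nat_lit 5, nat_lit 4, nat_lit 0, nat_lit 7])) (.node (nat_lit 1099) (.leaf ((nat_lit 1), [nat_lit 6, nat_lit 3, nat_lit 1, nat_lit 7, nat_lit 0])) (.leaf ((nat_lit 1), [nat_lit 6, nat_lit 7, nat_lit 0, nat_lit 5, nat_lit 7]))))))))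
 (.node (nat_lit 1122) (.node (nat_lit 1111) (.node (nat_lit 1105) (.node (nat_lit 1102) (.node (nat_lit 1101) (.leaf ((nat_lit 1), [nat_lit 2, nat_lit 0, nat_lit 5, nat_lit 7, nat_lit 6, nat_lit 2])) (.leaf ((nat_lit 1), [nat_lit 3, nat_lit 7, nat_lit 4, nat_lit 0]))) (.node (nat_lit 1103) (.leaf ((nat_lit 0), [nat_lit 5, nat_lit 3, nat_lit 0])) (.node (nat_lit 1104) (.leaf ((nat_lit 1), [nat_lit 7, nat_lit 4, nat_lit 0, nat_lit 7, nat_lit 0])) (.leaf ((nat_lit 0), [nat_lit 5, nat_lit 0, nat_lit 7])))))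
 (.node (nat_lit 1108) (.node (nat_lit 1106) (.leaf ((nat_lit 1), [nat_lit 7, nat_lit 4, nat_lit 1, nat_lit 5])) (.node (nat_lit 1107) (.leaf ((nat_lit 0), [nat_lit 5, nat_lit 1, nat_lit 7, nat_lit 2, nat_lit 0])) (.leaf ((nat_lit 1), [nat_lit 1, nat_lit 5, nat_lit 7, nat_lit 4, nat_lit 3])))) (.node (nat_lit 1109) (.leaf ((nat_lit 1), [nat_lit 5, nat_lit 7, nat_lit 3, nat_lit 0])) (.node (nat_lit 1110) (.leaf ((nat_lit 1), [nat_lit 7, nat_lit 2, nat_lit 7, nat_lit 3, nat_lit 1])) (.leaf ((nat_lit 1), [nat_lit 7, nat_lit 2, nat_lit 5, nat_lit 3]))))))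
 (.node (nat_lit 1116) (.node (nat_lit 1113) (.node (nat_lit 1112) (.leaf ((nat_lit 1), [nat_lit 2, nat_lit 7, nat_lit 0, nat_lit 5, nat_lit 0])) (.leaf ((nat_lit 1), [nat_lit 4, nat_lit 0, nat_lit 5, nat_lit 7]))) (.node (nat_lit 1114) (.leaf ((nat_lit 1), [nat_lit 3, nat_lit 7, nat_lit 6, nat_lit 1])) (.node (nat_lit 1115) (.leaf ((nat_lit 1), [nat_lit 6, nat_lit 3, nat_lit 7, nat_lit 1, nat_lit 7, nat_lit 1])) (.leaf ((nat_lit 1), [nat_lit 5, nat_lit 7, nat_lit 5, nat_lit 6])))))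
 (.node (nat_lit 1119) (.node (nat_lit 1117) (.leaf ((nat_lit 1), [nat_lit 2, nat_lit 0, nat_lit 5, nat_lit 7, nat_lit 1])) (.node (nat_lit 1118) (.leaf ((nat_lit 1), [nat_lit 3, nat_lit 7, nat_lit 0, nat_lit 7, nat_lit 1])) (.leaf ((nat_lit 1), [nat_lit 4, nat_lit 7, nat_lit 4, nat_lit 0])))) (.node (nat_lit 1120) (.leaf ((nat_lit 1), [nat_lit 7, nat_lit 1, nat_lit 7, nat_lit 5, nat_lit 4])) (.node (nat_lit 1121) (.leaf ((nat_lit 1), [nat_lit 0, nat_lit 6, nat_lit 2, nat_lit 7])) (.leaf ((nat_lit 1), [nat_lit 5, nat_lit 0, nat_lit 7, nat_lit 5, nat_lit 0])))))))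
 (.node (nat_lit 1133) (.node (nat_lit 1127) (.node (nat_lit 1124) (.node (nat_lit 1123) (.leaf ((nat_lit 1), [nat_lit 7, nat_lit 3, nat_lit 5, nat_lit 2, nat_lit 7])) (.leaf ((nat_lit 1), [nat_lit 3, nat_lit 7, nat_lit 2, nat_lit 5, nat_lit 0]))) (.node (nat_lit 1125) (.leaf ((nat_lit 1), [nat_lit 7, nat_lit 2, nat_lit 0])) (.node (nat_lit 1126) (.leaf ((nat_lit 1), [nat_lit 7, nat_lit 6, nat_lit 5])) (.leaf ((nat_lit 1), [nat_lit 1, nat_lit 7, nat_lit 2, nat_lit 5])))))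
 (.node (nat_lit 1130) (.node (nat_lit 1128) (.leaf ((nat_lit 1), [nat_lit 3, nat_lit 6, nat_lit 7, nat_lit 0])) (.node (nat_lit 1129) (.leaf ((nat_lit 1), [nat_lit 0, nat_lit 5, nat_lit 1, nat_lit 7, nat_lit 2])) (.leaf ((nat_lit 1), [nat_lit 2, nat_lit 7, nat_lit 3, nat_lit 7])))) (.node (nat_lit 1131) (.leaf ((nat_lit 1), [nat_lit 4, nat_lit 7, nat_lit 4, nat_lit 3, nat_lit 5])) (.node (nat_lit 1132) (.leaf ((nat_lit 1), [nat_lit 3, nat_lit 6, nat_lit 1, nat_lit 7])) (.leaf ((nat_lit 1), [nat_lit 3, nat_lit 7, nat_lit 6]))))))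
 (.node (nat_lit 1138) (.node (nat_lit 1135) (.node (nat_lit 1134) (.leaf ((nat_lit 1), [nat_lit 5, nat_lit 6, nat_lit 5, nat_lit 7, nat_lit 5])) (.leaf ((nat_lit 1), [nat_lit 0, nat_lit 6, nat_lit 7, nat_lit 5]))) (.node (nat_lit 1136) (.leaf ((nat_lit 0), [nat_lit 7, nat_lit 4, nat_lit 7, nat_lit 1])) (.node (nat_lit 1137) (.leaf ((nat_lit 1), [nat_lit 2, nat_lit 7, nat_lit 6, nat_lit 7])) (.leaf ((nat_lit 1), [nat_lit 2, nat_lit 7, nat_lit 2, nat_lit 7, nat_lit 3, nat_lit 1])))))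
 (.node (nat_lit 1141) (.node (nat_lit 1139) (.leaf ((nat_lit 1), [nat_lit 7, nat_lit 3, nat_lit 5, nat_lit 6, nat_lit 7])) (.node (nat_lit 1140) (.leaf ((nat_lit 1), [nat_lit 5, nat_lit 2, nat_lit 7, nat_lit 2])) (.leaf ((nat_lit 1), [nat_lit 3, nat_lit 7, nat_lit 0, nat_lit 7, nat_lit 2])))) (.node (nat_lit 1142) (.leaf ((nat_lit 1), [nat_lit 5, nat_lit 7, nat_lit 0, nat_lit 7, nat_lit 5])) (.node (nat_lit 1143) (.leaf ((nat_lit 1), [nat_lit 3, nat_lit 6, nat_lit 7, nat_lit 2])) (.leaf ((nat_lit 1), [nat_lit 7, nat_lit 0, nat_lit 7, nat_lit 3, nat_lit 5])))))))))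
 (.node (nat_lit 1188) (.node (nat_lit 1166) (.node (nat_lit 1155) (.node (nat_lit 1149) (.node (nat_lit 1146) (.node (nat_lit 1145) (.leaf ((nat_lit 1), [nat_lit 6, nat_lit 7, nat_lit 0, nat_lit 5, nat_lit 4])) (.leaf ((nat_lit 1), [nat_lit 7, nat_lit 2, nat_lit 1]))) (.node (nat_lit 1147) (.leaf ((nat_lit 0), [nat_lit 3, nat_lit 0, nat_lit 7])) (.node (nat_lit 1148) (.leaf ((nat_lit 1), [nat_lit 4, nat_lit 7, nat_lit 3, nat_lit 5, nat_lit 2])) (.leaf ((nat_lit 1), [nat_lit 4, nat_lit 7, nat_lit 3, nat_lit 1])))))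
 (.node (nat_lit 1152) (.node (nat_lit 1150) (.leaf ((nat_lit 1), [nat_lit 3, nat_lit 6, nat_lit 7, nat_lit 3, nat_lit 1])) (.node (nat_lit 1151) (.leaf ((nat_lit 1), [nat_lit 3, nat_lit 1, nat_lit 7, nat_lit 5, nat_lit 2])) (.leaf ((nat_lit 1), [nat_lit 2, nat_lit 0, nat_lit 7, nat_lit 5, nat_lit 7])))) (.node (nat_lit 1153) (.leaf ((nat_lit 1), [nat_lit 7, nat_lit 5, nat_lit 1, nat_lit 7])) (.node (nat_lit 1154) (.leaf ((nat_lit 1), [nat_lit 4, nat_lit 5, nat_lit 7, nat_lit 0])) (.leaf ((nat_lit 1), [nat_lit 7, nat_lit 4, nat_lit 6, nat_lit 7, nat_lit 5]))))))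
 (.node (nat_lit 1160) (.node (nat_lit 1157) (.node (nat_lit 1156) (.leaf ((nat_lit 1), [nat_lit 3, nat_lit 0, nat_lit 7, nat_lit 2, nat_lit 1])) (.leaf ((nat_lit 1), [nat_lit 5, nat_lit 0, nat_lit 6, nat_lit 7, nat_lit 5]))) (.node (nat_lit 1158) (.leaf ((nat_lit 0), [nat_lit 0, nat_lit 7, nat_lit 3, nat_lit 0])) (.node (nat_lit 1159) (.leaf ((nat_lit 1), [nat_lit 0, nat_lit 5, nat_lit 2, nat_lit 7, nat_lit 2])) (.leaf ((nat_lit 1), [nat_lit 4, nat_lit 2, nat_lit 5])))))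
 (.node (nat_lit 1163) (.node (nat_lit 1161) (.leaf ((nat_lit 1), [nat_lit 2, nat_lit 6])) (.node (nat_lit 1162) (.leaf ((nat_lit 1), [nat_lit 4, nat_lit 7, nat_lit 2, nat_lit 7, nat_lit 1])) (.leaf ((nat_lit 1), [nat_lit 5, nat_lit 7, nat_lit 1])))) (.node (nat_lit 1164) (.leaf ((nat_lit 1), [nat_lit 5, nat_lit 4, nat_lit 3, nat_lit 0, nat_lit 7])) (.node (nat_lit 1165) (.leaf ((nat_lit 1), [nat_lit 4, nat_lit 0, nat_lit 7, nat_lit 4, nat_lit 3])) (.leaf ((nat_lit 1), [nat_lit 4, nat_lit 5, nat_lit 1, nat_lit 7, nat_lit 2])))))))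
 (.node (nat_lit 1177) (.node (nat_lit 1171) (.node (nat_lit 1168) (.node (nat_lit 1167) (.leaf ((nat_lit 1), [nat_lit 4, nat_lit 5, nat_lit 7, nat_lit 6])) (.leaf ((nat_lit 1), [nat_lit 5, nat_lit 3, nat_lit 1, nat_lit 7, nat_lit 0]))) (.node (nat_lit 1169) (.leaf ((nat_lit 1), [nat_lit 2, nat_lit 7, nat_lit 1])) (.node (nat_lit 1170) (.leaf ((nat_lit 1), [nat_lit 2, nat_lit 7, nat_lit 2])) (.leaf ((nat_lit 1), [nat_lit 2, nat_lit 7, nat_lit 6, nat_lit 0, nat_lit 7])))))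
 (.node (nat_lit 1174) (.node (nat_lit 1172) (.leaf ((nat_lit 1), [nat_lit 6, nat_lit 2, nat_lit 1, nat_lit 7, nat_lit 0])) (.node (nat_lit 1173) (.leaf ((nat_lit 1), [nat_lit 5, nat_lit 7, nat_lit 6, nat_lit 1])) (.leaf ((nat_lit 1), [nat_lit 2, nat_lit 7, nat_lit 0, nat_lit 5, nat_lit 4])))) (.node (nat_lit 1175) (.leaf ((nat_lit 1), [nat_lit 7, nat_lit 1, nat_lit 7, nat_lit 5])) (.node (nat_lit 1176) (.leaf ((nat_lit 1), [nat_lit 4, nat_lit 7, nat_lit 5, nat_lit 7, nat_lit 5])) (.leaf ((nat_lit 1), [nat_lit 3, nat_lit 7, nat_lit 4, nat_lit 1, nat_lit 5]))))))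
 (.node (nat_lit 1182) (.node (nat_lit 1179) (.node (nat_lit 1178) (.leaf ((nat_lit 1), [nat_lit 5, nat_lit 7, nat_lit 4, nat_lit 7, nat_lit 6])) (.leaf ((nat_lit 1), [nat_lit 7, nat_lit 3, nat_lit 6]))) (.node (nat_lit 1180) (.leaf ((nat_lit 1), [nat_lit 5, nat_lit 7, nat_lit 0, nat_lit 7])) (.node (nat_lit 1181) (.leaf ((nat_lit 1), [nat_lit 4, nat_lit 7, nat_lit 5])) (.leaf ((nat_lit 1), [nat_lit 4, nat_lit 3])))))
 (.node (nat_lit 1185) (.node (nat_lit 1183) (.leaf ((nat_lit 1), [nat_lit 7, nat_lit 6, nat_lit 3, nat_lit 7, nat_lit 0])) (.node (nat_lit 1184) (.leaf ((nat_lit 0), [nat_lit 1, nat_lit 7, nat_lit 6, nat_lit 2, nat_lit 7])) (.leaf ((nat_lit 1), [nat_lit 2, nat_lit 7, nat_lit 0, nat_lit 7, nat_lit 1])))) (.node (nat_lit 1186) (.leaf ((nat_lit 1), [nat_lit 7, nat_lit 5, nat_lit 4, nat_lit 3])) (.node (nat_lit 1187) (.leaf ((nat_lit 1),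 [nat_lit 5, nat_lit 3, nat_lit 0, nat_lit 7, nat_lit 0])) (.leaf ((nat_lit 1), [nat_lit 5, nat_lit 0, nat_lit 7]))))))))
 (.node (nat_lit 1210) (.node (nat_lit 1199) (.node (nat_lit 1193) (.node (nat_lit 1190) (.node (nat_lit 1189) (.leaf ((nat_lit 1), [nat_lit 3, nat_lit 7, nat_lit 3, nat_lit 7, nat_lit 4, nat_lit 0])) (.leaf ((nat_lit 1), [nat_lit 3, nat_lit 0, nat_lit 5]))) (.node (nat_lit 1191) (.leaf ((nat_lit 1), [nat_lit 5, nat_lit 6, nat_lit 0, nat_lit 7])) (.node (nat_lit 1192) (.leaf ((nat_lit 1), [nat_lit 3, nat_lit 7, nat_lit 2, nat_lit 7, nat_lit 3, nat_lit 1])) (.leaf ((nat_lit 1), [nat_lit 5, nat_lit 4, nat_lit 7, nat_lit 2])))))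
 (.node (nat_lit 1196) (.node (nat_lit 1194) (.leaf ((nat_lit 1), [nat_lit 5, nat_lit 1, nat_lit 7, nat_lit 1])) (.node (nat_lit 1195) (.leaf ((nat_lit 1), [nat_lit 2, nat_lit 7, nat_lit 4, nat_lit 7])) (.leaf ((nat_lit 1), [nat_lit 5, nat_lit 2, nat_lit 7, nat_lit 5, nat_lit 0])))) (.node (nat_lit 1197) (.leaf ((nat_lit 1), [nat_lit 2, nat_lit 5, nat_lit 1, nat_lit 7, nat_lit 1])) (.node (nat_lit 1198) (.leaf ((nat_lit 1), [nat_lit 2, nat_lit 1, nat_lit 7, nat_lit 6, nat_lit 2])) (.leaf ((nat_lit 1), [nat_lit 7, nat_lit 4, nat_lit 7, nat_lit 0]))))))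
 (.node (nat_lit 1204) (.node (nat_lit 1201) (.node (nat_lit 1200) (.leaf ((nat_lit 1), [nat_lit 4, nat_lit 7, nat_lit 5, nat_lit 2, nat_lit 7, nat_lit 0])) (.leaf ((nat_lit 1), [nat_lit 4, nat_lit 2, nat_lit 1, nat_lit 7, nat_lit 0]))) (.node (nat_lit 1202) (.leaf ((nat_lit 1), [nat_lit 1])) (.node (nat_lit 1203) (.leaf ((nat_lit 1), [nat_lit 7, nat_lit 2, nat_lit 0, nat_lit 7])) (.leaf ((nat_lit 1), [nat_lit 7, nat_lit 2, nat_lit 7, nat_lit 0, nat_lit 7, nat_lit 0])))))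
 (.node (nat_lit 1207) (.node (nat_lit 1205) (.leaf ((nat_lit 1), [nat_lit 6, nat_lit 7, nat_lit 6, nat_lit 7, nat_lit 1])) (.node (nat_lit 1206) (.leaf ((nat_lit 1), [nat_lit 0, nat_lit 6, nat_lit 7, nat_lit 0, nat_lit 7, nat_lit 1])) (.leaf ((nat_lit 1), [nat_lit 7, nat_lit 2, nat_lit 0, nat_lit 7, nat_lit 5])))) (.node (nat_lit 1208) (.leaf ((nat_lit 1), [nat_lit 6, nat_lit 1, nat_lit 5, nat_lit 7])) (.node (nat_lit 1209) (.leaf ((nat_lit 1), [nat_lit 6, nat_lit 2, nat_lit 7, nat_lit 2])) (.leaf ((nat_lit 1), [nat_lit 0, nat_lit 7, nat_lit 5, nat_lit 2, nat_lit 7, nat_lit 0])))))))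
 (.node (nat_lit 1221) (.node (nat_lit 1215) (.node (nat_lit 1212) (.node (nat_lit 1211) (.leaf ((nat_lit 1), [nat_lit 2, nat_lit 7, nat_lit 4, nat_lit 0, nat_lit 7, nat_lit 0])) (.leaf ((nat_lit 1), [nat_lit 4, nat_lit 0, nat_lit 7, nat_lit 5, nat_lit 0]))) (.node (nat_lit 1213) (.leaf ((nat_lit 1), [nat_lit 6, nat_lit 7, nat_lit 3, nat_lit 5, nat_lit 0])) (.node (nat_lit 1214) (.leaf ((nat_lit 1), [nat_lit 2, nat_lit 5, nat_lit 2, nat_lit 1, nat_lit 7])) (.leaf ((nat_lit 1), [nat_lit 7, nat_lit 4, nat_lit 2, nat_lit 7])))))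
 (.node (nat_lit 1218) (.node (nat_lit 1216) (.leaf ((nat_lit 1), [nat_lit 5, nat_lit 7, nat_lit 3, nat_lit 7, nat_lit 0])) (.node (nat_lit 1217) (.leaf ((nat_lit 1), [nat_lit 3, nat_lit 7])) (.leaf ((nat_lit 1), [nat_lit 4, nat_lit 6, nat_lit 3, nat_lit 7])))) (.node (nat_lit 1219) (.leaf ((nat_lit 1), [nat_lit 4, nat_lit 6, nat_lit 2, nat_lit 7])) (.node (nat_lit 1220) (.leaf ((nat_lit 1), [nat_lit 5, nat_lit 7, nat_lit 0, nat_lit 7, nat_lit 0])) (.leaf ((nat_lit 1), [nat_lit 0, nat_lit 5, nat_lit 4, nat_lit 7, nat_lit 5]))))))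
 (.node (nat_lit 1226) (.node (nat_lit 1223) (.node (nat_lit 1222) (.leaf ((nat_lit 1), [nat_lit 4, nat_lit 0, nat_lit 7, nat_lit 1])) (.leaf ((nat_lit 1), [nat_lit 7, nat_lit 5, nat_lit 7, nat_lit 0, nat_lit 7]))) (.node (nat_lit 1224) (.leaf ((nat_lit 1), [nat_lit 7, nat_lit 3, nat_lit 5, nat_lit 0])) (.node (nat_lit 1225) (.leaf ((nat_lit 1), [nat_lit 7, nat_lit 0, nat_lit 7, nat_lit 0])) (.leaf ((nat_lit 1), [nat_lit 5, nat_lit 2, nat_lit 7, nat_lit 6])))))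
 (.node (nat_lit 1229) (.node (nat_lit 1227) (.leaf ((nat_lit 1), [nat_lit 5, nat_lit 6, nat_lit 4])) (.node (nat_lit 1228) (.leaf ((nat_lit 1), [nat_lit 5, nat_lit 7, nat_lit 2, nat_lit 7])) (.leaf ((nat_lit 1), [nat_lit 1, nat_lit 7, nat_lit 5, nat_lit 6])))) (.node (nat_lit 1230) (.leaf ((nat_lit 1), [nat_lit 1, nat_lit 7, nat_lit 0, nat_lit 7, nat_lit 2])) (.node (nat_lit 1231) (.leaf ((nat_lit 1), [nat_lit 0, nat_lit 5, nat_lit 7, nat_lit 1, nat_lit 5])) (.leaf ((nat_lit 1), [nat_lit 4, nat_lit 6, nat_lit 0, nat_lit 5, nat_lit 7]))))))))))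
noncomputable def qPA_7 : Tr (ℕ × List ℕ) := (.node (nat_lit 1320) (.node (nat_lit 1276) (.node (nat_lit 1254) (.node (nat_lit 1243) (.node (nat_lit 1237) (.node (nat_lit 1234) (.node (nat_lit 1233) (.leaf ((nat_lit 1), [nat_lit 5, nat_lit 6, nat_lit 3])) (.leaf ((nat_lit 1), [nat_lit 7, nat_lit 1, nat_lit 7, nat_lit 1]))) (.node (nat_lit 1235) (.leaf ((nat_lit 1), [nat_lit 5, nat_lit 4, nat_lit 1, nat_lit 7, nat_lit 1])) (.node (nat_lit 1236) (.leaf ((nat_lit 1), [nat_lit 0, nat_lit 6, nat_lit 5, nat_lit 7, nat_lit 0])) (.leaf ((nat_lit 1), [nat_lit 5, nat_lit 3, nat_lit 7, nat_lit 3, nat_lit 6])))))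
 (.node (nat_lit 1240) (.node (nat_lit 1238) (.leaf ((nat_lit 1), [nat_lit 7, nat_lit 4, nat_lit 7, nat_lit 3])) (.node (nat_lit 1239) (.leaf ((nat_lit 0), [nat_lit 3, nat_lit 1, nat_lit 7, nat_lit 3])) (.leaf ((nat_lit 1), [nat_lit 0, nat_lit 7, nat_lit 3, nat_lit 7, nat_lit 2])))) (.node (nat_lit 1241) (.leaf ((nat_lit 1), [nat_lit 1, nat_lit 7, nat_lit 3, nat_lit 5, nat_lit 2])) (.node (nat_lit 1242) (.leaf ((nat_lit 1), [nat_lit 3, nat_lit 7, nat_lit 4, nat_lit 7, nat_lit 2, nat_lit 0])) (.leaf ((nat_lit 1), [nat_lit 2, nat_lit 7, nat_lit 5, nat_lit 2, nat_lit 0]))))))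
 (.node (nat_lit 1248) (.node (nat_lit 1245) (.node (nat_lit 1244) (.leaf ((nat_lit 1), [nat_lit 5, nat_lit 2, nat_lit 7, nat_lit 6, nat_lit 7, nat_lit 1])) (.leaf ((nat_lit 1), [nat_lit 3, nat_lit 7, nat_lit 3, nat_lit 5, nat_lit 3]))) (.node (nat_lit 1246) (.leaf ((nat_lit 1), [nat_lit 0, nat_lit 7, nat_lit 0, nat_lit 7])) (.node (nat_lit 1247) (.leaf ((nat_lit 1), [nat_lit 5, nat_lit 4, nat_lit 0, nat_lit 7, nat_lit 2])) (.leaf ((nat_lit 1), [nat_lit 6, nat_lit 7, nat_lit 2])))))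
 (.node (nat_lit 1251) (.node (nat_lit 1249) (.leaf ((nat_lit 1), [nat_lit 7, nat_lit 6, nat_lit 7, nat_lit 3, nat_lit 0])) (.node (nat_lit 1250) (.leaf ((nat_lit 1), [nat_lit 3, nat_lit 7, nat_lit 4, nat_lit 2, nat_lit 0])) (.leaf ((nat_lit 1), [nat_lit 0, nat_lit 7, nat_lit 0, nat_lit 7, nat_lit 1])))) (.node (nat_lit 1252) (.leaf ((nat_lit 1), [nat_lit 7, nat_lit 4, nat_lit 3, nat_lit 1, nat_lit 7])) (.node (nat_lit 1253) (.leaf ((nat_lit 1), [nat_lit 4, nat_lit 2, nat_lit 0, nat_lit 7, nat_lit 1])) (.leaf ((nat_lit 1), [nat_lit 6, nat_lit 7, nat_lit 2, nat_lit 0])))))))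
 (.node (nat_lit 1265) (.node (nat_lit 1259) (.node (nat_lit 1256) (.node (nat_lit 1255) (.leaf ((nat_lit 1), [nat_lit 5, nat_lit 3, nat_lit 7, nat_lit 0])) (.leaf ((nat_lit 1), [nat_lit 7, nat_lit 5, nat_lit 4, nat_lit 7, nat_lit 1]))) (.node (nat_lit 1257) (.leaf ((nat_lit 1), [nat_lit 7, nat_lit 4, nat_lit 5, nat_lit 7, nat_lit 6])) (.node (nat_lit 1258) (.leaf ((nat_lit 1), [nat_lit 1, nat_lit 5, nat_lit 4, nat_lit 7])) (.leaf ((nat_lit 1), [nat_lit 7, nat_lit 6, nat_lit 7, nat_lit 1, nat_lit 5, nat_lit 0])))))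
 (.node (nat_lit 1262) (.node (nat_lit 1260) (.leaf ((nat_lit 1), [nat_lit 3, nat_lit 7, nat_lit 0, nat_lit 5, nat_lit 7])) (.node (nat_lit 1261) (.leaf ((nat_lit 1), [nat_lit 6, nat_lit 3, nat_lit 7, nat_lit 1])) (.leaf ((nat_lit 1), [nat_lit 4, nat_lit 1, nat_lit 7, nat_lit 5])))) (.node (nat_lit 1263) (.leaf ((nat_lit 1), [nat_lit 5, nat_lit 7, nat_lit 3, nat_lit 1, nat_lit 7])) (.node (nat_lit 1264) (.leaf ((nat_lit 1), [nat_lit 4, nat_lit 1, nat_lit 7, nat_lit 1, nat_lit 7])) (.leaf ((nat_lit 1), [nat_lit 2, nat_lit 7, nat_lit 2, nat_lit 6, nat_lit 7]))))))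
 (.node (nat_lit 1270) (.node (nat_lit 1267) (.node (nat_lit 1266) (.leaf ((nat_lit 1), [nat_lit 6, nat_lit 7, nat_lit 5, nat_lit 2, nat_lit 1])) (.leaf ((nat_lit 1), [nat_lit 6, nat_lit 2, nat_lit 7]))) (.node (nat_lit 1268) (.leaf ((nat_lit 1), [nat_lit 5, nat_lit 3, nat_lit 7, nat_lit 5, nat_lit 2, nat_lit 0])) (.node (nat_lit 1269) (.leaf ((nat_lit 1), [nat_lit 7, nat_lit 2, nat_lit 5])) (.leaf ((nat_lit 1), [nat_lit 3, nat_lit 0, nat_lit 5, nat_lit 4, nat_lit 7, nat_lit 1])))))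
 (.node (nat_lit 1273) (.node (nat_lit 1271) (.leaf ((nat_lit 1), [nat_lit 1, nat_lit 5, nat_lit 3, nat_lit 7, nat_lit 6])) (.node (nat_lit 1272) (.leaf ((nat_lit 1), [nat_lit 1, nat_lit 6, nat_lit 0, nat_lit 7])) (.leaf ((nat_lit 1), [nat_lit 7, nat_lit 2, nat_lit 6])))) (.node (nat_lit 1274) (.leaf ((nat_lit 1), [nat_lit 6, nat_lit 4, nat_lit 7, nat_lit 2, nat_lit 7])) (.node (nat_lit 1275) (.leaf ((nat_lit 1), [nat_lit 6, nat_lit 4, nat_lit 7, nat_lit 5, nat_lit 7])) (.leaf ((nat_lit 1), [nat_lit 5, nat_lit 6, nat_lit 7]))))))))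
 (.node (nat_lit 1298) (.node (nat_lit 1287) (.node (nat_lit 1281) (.node (nat_lit 1278) (.node (nat_lit 1277) (.leaf ((nat_lit 1), [nat_lit 5, nat_lit 2, nat_lit 7, nat_lit 4, nat_lit 0])) (.leaf ((nat_lit 1), [nat_lit 6, nat_lit 4, nat_lit 7, nat_lit 0, nat_lit 7, nat_lit 0]))) (.node (nat_lit 1279) (.leaf ((nat_lit 1), [nat_lit 4, nat_lit 2, nat_lit 7, nat_lit 0])) (.node (nat_lit 1280) (.leaf ((nat_lit 0), [nat_lit 0])) (.leaf ((nat_lit 1), [nat_lit 4, nat_lit 7, nat_lit 5, nat_lit 2])))))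
 (.node (nat_lit 1284) (.node (nat_lit 1282) (.leaf ((nat_lit 1), [nat_lit 2, nat_lit 7, nat_lit 0, nat_lit 7])) (.node (nat_lit 1283) (.leaf ((nat_lit 1), [nat_lit 7, nat_lit 3, nat_lit 1, nat_lit 7, nat_lit 1])) (.leaf ((nat_lit 0), [nat_lit 3, nat_lit 0])))) (.node (nat_lit 1285) (.leaf ((nat_lit 1), [nat_lit 4, nat_lit 7])) (.node (nat_lit 1286) (.leaf ((nat_lit 1), [nat_lit 3, nat_lit 1, nat_lit 7])) (.leaf ((nat_lit 1), [nat_lit 6, nat_lit 3, nat_lit 7, nat_lit 2, nat_lit 1]))))))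
 (.node (nat_lit 1292) (.node (nat_lit 1289) (.node (nat_lit 1288) (.leaf ((nat_lit 1), [nat_lit 4, nat_lit 3, nat_lit 7, nat_lit 3, nat_lit 7])) (.leaf ((nat_lit 1), [nat_lit 1, nat_lit 7, nat_lit 4, nat_lit 0]))) (.node (nat_lit 1290) (.leaf ((nat_lit 1), [nat_lit 6, nat_lit 0, nat_lit 7, nat_lit 6])) (.node (nat_lit 1291) (.leaf ((nat_lit 1), [nat_lit 2, nat_lit 0, nat_lit 7, nat_lit 0, nat_lit 7])) (.leaf ((nat_lit 1), [nat_lit 3, nat_lit 6, nat_lit 2, nat_lit 7, nat_lit 2])))))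
 (.node (nat_lit 1295) (.node (nat_lit 1293) (.leaf ((nat_lit 1), [nat_lit 7, nat_lit 0, nat_lit 5, nat_lit 7, nat_lit 1])) (.node (nat_lit 1294) (.leaf ((nat_lit 1), [nat_lit 1, nat_lit 6, nat_lit 1, nat_lit 7, nat_lit 5])) (.leaf ((nat_lit 1), [nat_lit 2, nat_lit 7, nat_lit 3, nat_lit 1])))) (.node (nat_lit 1296) (.leaf ((nat_lit 1), [nat_lit 6, nat_lit 7, nat_lit 6])) (.node (nat_lit 1297) (.leaf ((nat_lit 1), [nat_lit 1, nat_lit 5, nat_lit 6, nat_lit 3])) (.leaf ((nat_lit 1), [nat_lit 7, nat_lit 4, nat_lit 5, nat_lit 7])))))))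
 (.node (nat_lit 1309) (.node (nat_lit 1303) (.node (nat_lit 1300) (.node (nat_lit 1299) (.leaf ((nat_lit 1), [nat_lit 5, nat_lit 3, nat_lit 7, nat_lit 3, nat_lit 5])) (.leaf ((nat_lit 1), [nat_lit 0, nat_lit 6, nat_lit 7, nat_lit 2]))) (.node (nat_lit 1301) (.leaf ((nat_lit 1), [nat_lit 6, nat_lit 4, nat_lit 5, nat_lit 7, nat_lit 1])) (.node (nat_lit 1302) (.leaf ((nat_lit 0), [nat_lit 4, nat_lit 7, nat_lit 2])) (.leaf ((nat_lit 1), [nat_lit 4, nat_lit 1, nat_lit 5])))))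
 (.node (nat_lit 1306) (.node (nat_lit 1304) (.leaf ((nat_lit 1), [nat_lit 7, nat_lit 1, nat_lit 7, nat_lit 0])) (.node (nat_lit 1305) (.leaf ((nat_lit 1), [nat_lit 1, nat_lit 6, nat_lit 5, nat_lit 7, nat_lit 1])) (.leaf ((nat_lit 0), [nat_lit 5, nat_lit 2, nat_lit 7, nat_lit 1])))) (.node (nat_lit 1307) (.leaf ((nat_lit 1), [nat_lit 5, nat_lit 4, nat_lit 3])) (.node (nat_lit 1308) (.leaf ((nat_lit 1), [nat_lit 6, nat_lit 7, nat_lit 1])) (.leaf ((nat_lit 1), [nat_lit 5, nat_lit 1, nat_lit 7, nat_lit 2]))))))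
 (.node (nat_lit 1314) (.node (nat_lit 1311) (.node (nat_lit 1310) (.leaf ((nat_lit 1), [nat_lit 5, nat_lit 7, nat_lit 4, nat_lit 2])) (.leaf ((nat_lit 1), [nat_lit 6, nat_lit 4, nat_lit 7, nat_lit 5]))) (.node (nat_lit 1312) (.leaf ((nat_lit 1), [nat_lit 5, nat_lit 0, nat_lit 7, nat_lit 3, nat_lit 7])) (.node (nat_lit 1313) (.leaf ((nat_lit 1), [nat_lit 5, nat_lit 7, nat_lit 0, nat_lit 7, nat_lit 6])) (.leaf ((nat_lit 1), [nat_lit 0, nat_lit 7, nat_lit 2])))))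
 (.node (nat_lit 1317) (.node (nat_lit 1315) (.leaf ((nat_lit 1), [nat_lit 7, nat_lit 4, nat_lit 3])) (.node (nat_lit 1316) (.leaf ((nat_lit 1), [nat_lit 3, nat_lit 0, nat_lit 7, nat_lit 5, nat_lit 0])) (.leaf ((nat_lit 1), [nat_lit 4, nat_lit 7, nat_lit 2, nat_lit 7])))) (.node (nat_lit 1318) (.leaf ((nat_lit 0), [nat_lit 0, nat_lit 7, nat_lit 2])) (.node (nat_lit 1319) (.leaf ((nat_lit 1), [nat_lit 4, nat_lit 7, nat_lit 3])) (.leaf ((nat_lit 1), [nat_lit 6, nat_lit 4, nat_lit 2, nat_lit 7])))))))))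
 (.node (nat_lit 1364) (.node (nat_lit 1342) (.node (nat_lit 1331) (.node (nat_lit 1325) (.node (nat_lit 1322) (.node (nat_lit 1321) (.leaf ((nat_lit 1), [nat_lit 0, nat_lit 7, nat_lit 6, nat_lit 5])) (.leaf ((nat_lit 1), [nat_lit 5, nat_lit 0, nat_lit 7, nat_lit 4, nat_lit 5, nat_lit 7]))) (.node (nat_lit 1323) (.leaf ((nat_lit 1), [nat_lit 0])) (.node (nat_lit 1324) (.leaf ((nat_lit 1), [nat_lit 5, nat_lit 7, nat_lit 4, nat_lit 0, nat_lit 7, nat_lit 0])) (.leaf ((nat_lit 1), [nat_lit 2, nat_lit 1, nat_lit 7, nat_lit 4, nat_lit 3])))))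
 (.node (nat_lit 1328) (.node (nat_lit 1326) (.leaf ((nat_lit 1), [nat_lit 3, nat_lit 7, nat_lit 5, nat_lit 7, nat_lit 5])) (.node (nat_lit 1327) (.leaf ((nat_lit 1), [nat_lit 2, nat_lit 6, nat_lit 1, nat_lit 7, nat_lit 1])) (.leaf ((nat_lit 0), [nat_lit 6, nat_lit 7, nat_lit 2, nat_lit 0])))) (.node (nat_lit 1329) (.leaf ((nat_lit 1), [nat_lit 1, nat_lit 6, nat_lit 7, nat_lit 6, nat_lit 4])) (.node (nat_lit 1330) (.leaf ((nat_lit 1), [nat_lit 3, nat_lit 6, nat_lit 7, nat_lit 2, nat_lit 1])) (.leaf ((nat_lit 1), [nat_lit 7, nat_lit 6, nat_lit 0, nat_lit 7, nat_lit 2]))))))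
 (.node (nat_lit 1336) (.node (nat_lit 1333) (.node (nat_lit 1332) (.leaf ((nat_lit 1), [nat_lit 1, nat_lit 7, nat_lit 5, nat_lit 0])) (.leaf ((nat_lit 1), [nat_lit 0, nat_lit 5, nat_lit 1, nat_lit 7]))) (.node (nat_lit 1334) (.leaf ((nat_lit 1), [nat_lit 7, nat_lit 2, nat_lit 5, nat_lit 3, nat_lit 7])) (.node (nat_lit 1335) (.leaf ((nat_lit 1), [nat_lit 5, nat_lit 2, nat_lit 1, nat_lit 7])) (.leaf ((nat_lit 0), [nat_lit 6, nat_lit 7, nat_lit 3])))))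
 (.node (nat_lit 1339) (.node (nat_lit 1337) (.leaf ((nat_lit 1), [nat_lit 5, nat_lit 7, nat_lit 6, nat_lit 3, nat_lit 7])) (.node (nat_lit 1338) (.leaf ((nat_lit 1), [nat_lit 5, nat_lit 1, nat_lit 7, nat_lit 5])) (.leaf ((nat_lit 1), [nat_lit 6, nat_lit 7, nat_lit 6, nat_lit 3, nat_lit 0])))) (.node (nat_lit 1340) (.leaf ((nat_lit 1), [nat_lit 5, nat_lit 6, nat_lit 1, nat_lit 7, nat_lit 1])) (.node (nat_lit 1341) (.leaf ((nat_lit 1), [nat_lit 3, nat_lit 6, nat_lit 3])) (.leaf ((nat_lit 1), [nat_lit 0, nat_lit 7, nat_lit 2, nat_lit 0])))))))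
 (.node (nat_lit 1353) (.node (nat_lit 1347) (.node (nat_lit 1344) (.node (nat_lit 1343) (.leaf ((nat_lit 1), [nat_lit 7, nat_lit 1, nat_lit 5, nat_lit 0])) (.leaf ((nat_lit 1), [nat_lit 2, nat_lit 0, nat_lit 7, nat_lit 0]))) (.node (nat_lit 1345) (.leaf ((nat_lit 1), [nat_lit 7, nat_lit 6, nat_lit 1, nat_lit 5, nat_lit 7])) (.node (nat_lit 1346) (.leaf ((nat_lit 1), [nat_lit 1, nat_lit 5, nat_lit 2, nat_lit 7, nat_lit 1])) (.leaf ((nat_lit 1), [nat_lit 2, nat_lit 6, nat_lit 4, nat_lit 7])))))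
 (.node (nat_lit 1350) (.node (nat_lit 1348) (.leaf ((nat_lit 1), [nat_lit 1, nat_lit 7, nat_lit 5, nat_lit 7, nat_lit 1])) (.node (nat_lit 1349) (.leaf ((nat_lit 1), [nat_lit 6, nat_lit 7])) (.leaf ((nat_lit 1), [nat_lit 6, nat_lit 2, nat_lit 1])))) (.node (nat_lit 1351) (.leaf ((nat_lit 1), [nat_lit 1, nat_lit 5, nat_lit 7, nat_lit 0, nat_lit 7])) (.node (nat_lit 1352) (.leaf ((nat_lit 1), [nat_lit 2, nat_lit 7, nat_lit 4, nat_lit 5, nat_lit 7, nat_lit 2])) (.leaf ((nat_lit 1), [nat_lit 4, nat_lit 7, nat_lit 4, nat_lit 2, nat_lit 0]))))))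
 (.node (nat_lit 1358) (.node (nat_lit 1355) (.node (nat_lit 1354) (.leaf ((nat_lit 1), [nat_lit 0, nat_lit 7, nat_lit 6, nat_lit 1])) (.leaf ((nat_lit 1), [nat_lit 0, nat_lit 7, nat_lit 5, nat_lit 6]))) (.node (nat_lit 1356) (.leaf ((nat_lit 1), [nat_lit 4, nat_lit 7, nat_lit 5, nat_lit 6])) (.node (nat_lit 1357) (.leaf ((nat_lit 1), [nat_lit 0, nat_lit 6, nat_lit 7, nat_lit 4, nat_lit 3])) (.leaf ((nat_lit 1), [nat_lit 6, nat_lit 2, nat_lit 7, nat_lit 2, nat_lit 7])))))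
 (.node (nat_lit 1361) (.node (nat_lit 1359) (.leaf ((nat_lit 1), [nat_lit 5, nat_lit 6, nat_lit 7, nat_lit 2])) (.node (nat_lit 1360) (.leaf ((nat_lit 1), [nat_lit 6, nat_lit 2, nat_lit 0, nat_lit 7, nat_lit 2])) (.leaf ((nat_lit 1), [nat_lit 7, nat_lit 5, nat_lit 2, nat_lit 0])))) (.node (nat_lit 1362) (.leaf ((nat_lit 1), [nat_lit 7, nat_lit 5, nat_lit 4, nat_lit 3, nat_lit 7, nat_lit 1])) (.node (nat_lit 1363) (.leaf ((nat_lit 1), [nat_lit 6, nat_lit 0, nat_lit 7, nat_lit 0, nat_lit 7])) (.leaf ((nat_lit 1), [nat_lit 0, nat_lit 7, nat_lit 5, nat_lit 0]))))))))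
 (.node (nat_lit 1386) (.node (nat_lit 1375) (.node (nat_lit 1369) (.node (nat_lit 1366) (.node (nat_lit 1365) (.leaf ((nat_lit 1), [nat_lit 5, nat_lit 7, nat_lit 1, nat_lit 7, nat_lit 5])) (.leaf ((nat_lit 1), [nat_lit 5, nat_lit 0, nat_lit 7, nat_lit 1]))) (.node (nat_lit 1367) (.leaf ((nat_lit 1), [nat_lit 1, nat_lit 6, nat_lit 7, nat_lit 6])) (.node (nat_lit 1368) (.leaf ((nat_lit 1), [nat_lit 5, nat_lit 7, nat_lit 2, nat_lit 5])) (.leaf ((nat_lit 1), [nat_lit 5, nat_lit 4, nat_lit 7, nat_lit 1, nat_lit 5])))))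
 (.node (nat_lit 1372) (.node (nat_lit 1370) (.leaf ((nat_lit 0), [nat_lit 7, nat_lit 1, nat_lit 5, nat_lit 2, nat_lit 0])) (.node (nat_lit 1371) (.leaf ((nat_lit 1), [nat_lit 5, nat_lit 2, nat_lit 7, nat_lit 0])) (.leaf ((nat_lit 1), [nat_lit 5, nat_lit 6, nat_lit 2, nat_lit 1, nat_lit 7, nat_lit 1])))) (.node (nat_lit 1373) (.leaf ((nat_lit 1), [nat_lit 2, nat_lit 5, nat_lit 7, nat_lit 6])) (.node (nat_lit 1374) (.leaf ((nat_lit 1), [nat_lit 6, nat_lit 2, nat_lit 7, nat_lit 4, nat_lit 0])) (.leaf ((nat_lit 1), [nat_lit 4, nat_lit 1, nat_lit 6, nat_lit 3, nat_lit 7, nat_lit 1]))))))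
 (.node (nat_lit 1380) (.node (nat_lit 1377) (.node (nat_lit 1376) (.leaf ((nat_lit 1), [nat_lit 1, nat_lit 6, nat_lit 7])) (.leaf ((nat_lit 1), [nat_lit 4, nat_lit 2, nat_lit 7]))) (.node (nat_lit 1378) (.leaf ((nat_lit 1), [nat_lit 6, nat_lit 7, nat_lit 6, nat_lit 2])) (.node (nat_lit 1379) (.leaf ((nat_lit 1), [nat_lit 6, nat_lit 7, nat_lit 4, nat_lit 6, nat_lit 3, nat_lit 0])) (.leaf ((nat_lit 1), [nat_lit 0, nat_lit 7, nat_lit 4, nat_lit 0])))))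
 (.node (nat_lit 1383) (.node (nat_lit 1381) (.leaf ((nat_lit 1), [nat_lit 7, nat_lit 0, nat_lit 6, nat_lit 1, nat_lit 7])) (.node (nat_lit 1382) (.leaf ((nat_lit 1), [nat_lit 3, nat_lit 7, nat_lit 0])) (.leaf ((nat_lit 1), [nat_lit 6, nat_lit 7, nat_lit 3, nat_lit 6])))) (.node (nat_lit 1384) (.leaf ((nat_lit 1), [nat_lit 5, nat_lit 6, nat_lit 7, nat_lit 1, nat_lit 5])) (.node (nat_lit 1385) (.leaf ((nat_lit 1), [nat_lit 5, nat_lit 7, nat_lit 6, nat_lit 7])) (.leaf ((nat_lit 1), [nat_lit 0, nat_lit 7, nat_lit 0, nat_lit 7, nat_lit 2])))))))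
 (.node (nat_lit 1397) (.node (nat_lit 1391) (.node (nat_lit 1388) (.node (nat_lit 1387) (.leaf ((nat_lit 1), [nat_lit 3, nat_lit 7, nat_lit 1, nat_lit 7])) (.leaf ((nat_lit 1), [nat_lit 5, nat_lit 2, nat_lit 7, nat_lit 2, nat_lit 0]))) (.node (nat_lit 1389) (.leaf ((nat_lit 0), [nat_lit 0, nat_lit 7, nat_lit 2, nat_lit 0])) (.node (nat_lit 1390) (.leaf ((nat_lit 1), [nat_lit 7, nat_lit 3, nat_lit 7, nat_lit 0])) (.leaf ((nat_lit 1), [nat_lit 7, nat_lit 0, nat_lit 5, nat_lit 3])))))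
 (.node (nat_lit 1394) (.node (nat_lit 1392) (.leaf ((nat_lit 1), [nat_lit 3, nat_lit 7, nat_lit 0, nat_lit 7])) (.node (nat_lit 1393) (.leaf ((nat_lit 1), [nat_lit 5, nat_lit 7])) (.leaf ((nat_lit 1), [nat_lit 7, nat_lit 6, nat_lit 7])))) (.node (nat_lit 1395) (.leaf ((nat_lit 1), [nat_lit 4, nat_lit 5, nat_lit 3, nat_lit 7, nat_lit 1])) (.node (nat_lit 1396) (.leaf ((nat_lit 1), [nat_lit 6, nat_lit 3, nat_lit 6, nat_lit 1, nat_lit 7, nat_lit 1])) (.leaf ((nat_lit 1), [nat_lit 3, nat_lit 1, nat_lit 7, nat_lit 4, nat_lit 2]))))))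
 (.node (nat_lit 1402) (.node (nat_lit 1399) (.node (nat_lit 1398) (.leaf ((nat_lit 1), [nat_lit 1, nat_lit 7, nat_lit 3, nat_lit 6])) (.leaf ((nat_lit 1), [nat_lit 3, nat_lit 7, nat_lit 5, nat_lit 6]))) (.node (nat_lit 1400) (.leaf ((nat_lit 1), [nat_lit 1, nat_lit 7, nat_lit 1, nat_lit 7])) (.node (nat_lit 1401) (.leaf ((nat_lit 0), [nat_lit 5, nat_lit 1, nat_lit 7])) (.leaf ((nat_lit 1), [nat_lit 5, nat_lit 3, nat_lit 7, nat_lit 5, nat_lit 2])))))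
 (.node (nat_lit 1405) (.node (nat_lit 1403) (.leaf ((nat_lit 1), [nat_lit 4, nat_lit 0, nat_lit 7, nat_lit 3, nat_lit 7])) (.node (nat_lit 1404) (.leaf ((nat_lit 1), [nat_lit 3, nat_lit 0, nat_lit 7, nat_lit 4, nat_lit 0])) (.leaf ((nat_lit 1), [nat_lit 7, nat_lit 1, nat_lit 5])))) (.node (nat_lit 1406) (.leaf ((nat_lit 1), [nat_lit 1, nat_lit 6, nat_lit 7, nat_lit 6, nat_lit 2])) (.node (nat_lit 1407) (.leaf ((nat_lit 1), [nat_lit 7, nat_lit 0, nat_lit 7, nat_lit 6, nat_lit 1])) (.leaf ((nat_lit 1), [nat_lit 6, nat_lit 3, nat_lit 7, nat_lit 2]))))))))))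
noncomputable def qPA : Tr (ℕ × List ℕ) := (.node (nat_lit 704) (.node (nat_lit 352) (.node (nat_lit 176) qPA_0 qPA_1) (.node (nat_lit 528) qPA_2 qPA_3)) (.node (nat_lit 1056) (.node (nat_lit 880) qPA_4 qPA_5) (.node (nat_lit 1232) qPA_6 qPA_7)))
noncomputable def qWd_0 : Tr (ℕ × List ℕ) := (.node (nat_lit 88) (.node (nat_lit 44) (.node (nat_lit 22) (.node (nat_lit 11) (.node (nat_lit 5) (.node (nat_lit 2) (.node (nat_lit 1) (.leaf ((nat_lit 1), [])) (.leaf ((nat_lit 2), [nat_lit 5, nat_lit 4, nat_lit 2, nat_lit 5, nat_lit 4, nat_lit 2, nat_lit 4, nat_lit 0, nat_lit 1, nat_lit 0, nat_lit 3, nat_lit 1, nat_lit 0, nat_lit 2, nat_lit 0, nat_lit 2]))) (.node (nat_lit 3) (.leaf ((nat_lit 3), [nat_lit 3, nat_lit 2, nat_lit 3, nat_lit 5, nat_lit 2, nat_lit 2, nat_lit 3, nat_lit 2, nat_lit 2, nat_lit 3, nat_lit 0, nat_lit 1, nat_lit 0, nat_lit 1, nat_lit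 0])) (.node (nat_lit 4) (.leaf ((nat_lit 4), [nat_lit 2, nat_lit 5, nat_lit 4, nat_lit 5, nat_lit 3, nat_lit 2, nat_lit 3, nat_lit 2, nat_lit 2, nat_lit 3, nat_lit 2, nat_lit 2, nat_lit 0, nat_lit 2, nat_lit 2])) (.leaf ((nat_lit 5), [nat_lit 5, nat_lit 2, nat_lit 5, nat_lit 2, nat_lit 4, nat_lit 3, nat_lit 0, nat_lit 2, nat_lit 4, nat_lit 1, nat_lit 0, nat_lit 2, nat_lit 2])))))
 (.node (nat_lit 8) (.node (nat_lit 6) (.leaf ((nat_lit 6), [nat_lit 5, nat_lit 2, nat_lit 4, nat_lit 0, nat_lit 5, nat_lit 3, nat_lit 0, nat_lit 4, nat_lit 3, nat_lit 2, nat_lit 3, nat_lit 1, nat_lit 0, nat_lit 2, nat_lit 0, nat_lit 2, nat_lit 2])) (.node (nat_lit 7) (.leaf ((nat_lit 7), [nat_lit 4, nat_lit 5, nat_lit 4, nat_lit 3, nat_lit 0, nat_lit 2, nat_lit 3, nat_lit 0, nat_lit 1])) (.leaf ((nat_lit 8), [nat_lit 2, nat_lit 0, nat_lit 5, nat_lit 2, nat_lit 0, nat_lit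 4, nat_lit 1, nat_lit 4, nat_lit 1, nat_lit 0, nat_lit 2, nat_lit 2, nat_lit 0, nat_lit 1])))) (.node (nat_lit 9) (.leaf ((nat_lit 9), [nat_lit 2, nat_lit 4, nat_lit 0, nat_lit 5, nat_lit 1, nat_lit 3, nat_lit 0, nat_lit 4, nat_lit 2, nat_lit 2, nat_lit 0, nat_lit 2, nat_lit 0, nat_lit 1, nat_lit 0])) (.node (nat_lit 10) (.leaf ((nat_lit 10), [nat_lit 4, nat_lit 1, nat_lit 0, nat_lit 5, nat_lit 4, nat_lit 3, nat_lit 2, nat_lit 4, nat_lit 2, nat_lit 3, nat_lit 1, nat_lit 0, nat_lit 2, nat_lit 2, nat_lit 0, nat_lit 1, nat_lit 0])) (.leaf ((nat_lit 11), [nat_lit 1, nat_lit 3, nat_lit 2, nat_lit 5, nat_lit 1, nat_lit 3, nat_lit 4, nat_lit 3, nat_lit 0, nat_lit 3, nat_lit 2, nat_lit 0, nat_lit 2, nat_lit 2, nat_lit 0, nat_lit 2, nat_lit 2, nat_lit 0]))))))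
 (.node (nat_lit 16) (.node (nat_lit 13) (.node (nat_lit 12) (.leaf ((nat_lit 12), [nat_lit 5, nat_lit 4, nat_lit 1, nat_lit 0, nat_lit 5, nat_lit 3, nat_lit 1, nat_lit 3, nat_lit 2, nat_lit 0, nat_lit 1, nat_lit 0, nat_lit 2, nat_lit 0, nat_lit 2])) (.leaf ((nat_lit 13), [nat_lit 3, nat_lit 0, nat_lit 2, nat_lit 5, nat_lit 2, nat_lit 4, nat_lit 2, nat_lit 3, nat_lit 0, nat_lit 2, nat_lit 0, nat_lit 1, nat_lit 0, nat_lit 1, nat_lit 0]))) (.node (nat_lit 14) (.leaf ((nat_lit 14), [nat_lit 1, nat_lit 5, nat_lit 1, nat_lit 5, nat_lit 2, nat_lit 4, nat_lit 1, nat_lit 4, nat_lit 1, nat_lit 3, nat_lit 1, nat_lit 0, nat_lit 2, nat_lit 2, nat_lit 0, nat_lit 2])) (.node (nat_lit 15) (.leaf ((nat_lit 15), [nat_lit 4, nat_lit 2, nat_lit 0, nat_lit 5, nat_lit 2, nat_lit 4, nat_lit 0, nat_lit 4, nat_lit 0, nat_lit 4, nat_lit 0, nat_lit 1, nat_lit 0, nat_lit 2,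 nat_lit 2, nat_lit 0, nat_lit 1])) (.leaf ((nat_lit 16), [nat_lit 5, nat_lit 4, nat_lit 2, nat_lit 0, nat_lit 5, nat_lit 4, nat_lit 0, nat_lit 4, nat_lit 3, nat_lit 2, nat_lit 0, nat_lit 1, nat_lit 0, nat_lit 2])))))
 (.node (nat_lit 19) (.node (nat_lit 17) (.leaf ((nat_lit 17), [nat_lit 3, nat_lit 5, nat_lit 0, nat_lit 3, nat_lit 5, nat_lit 3, nat_lit 0, nat_lit 4, nat_lit 3, nat_lit 2, nat_lit 3, nat_lit 1, nat_lit 0, nat_lit 1, nat_lit 0, nat_lit 2, nat_lit 0])) (.node (nat_lit 18) (.leaf ((nat_lit 18), [nat_lit 1, nat_lit 0, nat_lit 5, nat_lit 3, nat_lit 4, nat_lit 0, nat_lit 2, nat_lit 4, nat_lit 0, nat_lit 2, nat_lit 0, nat_lit 2])) (.leaf ((nat_lit 19), [nat_lit 4, nat_lit 3, nat_lit 0, nat_lit 5, nat_lit 1, nat_lit 0, nat_lit 4, nat_lit 3, nat_lit 0, nat_lit 3, nat_lit 2, nat_lit 0, nat_lit 1, nat_lit 0, nat_lit 2, nat_lit 2])))) (.node (nat_lit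 20) (.leaf ((nat_lit 20), [nat_lit 5, nat_lit 4, nat_lit 0, nat_lit 5, nat_lit 1, nat_lit 0, nat_lit 1, nat_lit 4, nat_lit 3, nat_lit 1, nat_lit 0, nat_lit 1, nat_lit 0, nat_lit 2, nat_lit 0])) (.node (nat_lit 21) (.leaf ((nat_lit 21), [nat_lit 1, nat_lit 4, nat_lit 2, nat_lit 5, nat_lit 1, nat_lit 4, nat_lit 2, nat_lit 3, nat_lit 1, nat_lit 3, nat_lit 2, nat_lit 2, nat_lit 0, nat_lit 2, nat_lit 2, nat_lit 0, nat_lit 2, nat_lit 2])) (.leaf ((nat_lit 22), [nat_lit 0, nat_lit 3, nat_lit 5, nat_lit 4, nat_lit 2, nat_lit 0, nat_lit 3, nat_lit 0, nat_lit 4, nat_lit 0, nat_lit 2, nat_lit 0, nat_lit 2, nat_lit 2, nat_lit 0, nat_lit 1, nat_lit 0])))))))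
 (.node (nat_lit 33) (.node (nat_lit 27) (.node (nat_lit 24) (.node (nat_lit 23) (.leaf ((nat_lit 23), [nat_lit 2, nat_lit 5, nat_lit 3, nat_lit 5, nat_lit 2, nat_lit 4, nat_lit 2, nat_lit 0, nat_lit 3, nat_lit 2])) (.leaf ((nat_lit 24), [nat_lit 5, nat_lit 4, nat_lit 2, nat_lit 5, nat_lit 1, nat_lit 4, nat_lit 1, nat_lit 3, nat_lit 4, nat_lit 0, nat_lit 1, nat_lit 0, nat_lit 2, nat_lit 2, nat_lit 0]))) (.node (nat_lit 25) (.leaf ((nat_lit 25), [nat_lit 3, nat_lit 2, nat_lit 3, nat_lit 5, nat_lit 4, nat_lit 0, nat_lit 4, nat_lit 3, nat_lit 0, nat_lit 2, nat_lit 2, nat_lit 0, nat_lit 1, nat_lit 0, nat_lit 2, nat_lit 0])) (.node (nat_lit 26) (.leaf ((nat_lit 26), [nat_lit 5, nat_lit 1, nat_lit 0, nat_lit 3, nat_lit 5, nat_lit 0, nat_lit 3, nat_lit 4, nat_lit 1, nat_lit 0, nat_lit 3, nat_lit 2, nat_lit 2, nat_lit 0, nat_lit 1, nat_lit 0, nat_lit 2,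 nat_lit 2, nat_lit 0])) (.leaf ((nat_lit 27), [nat_lit 2, nat_lit 4, nat_lit 2, nat_lit 0, nat_lit 5, nat_lit 3, nat_lit 2, nat_lit 3, nat_lit 0, nat_lit 3, nat_lit 0, nat_lit 1, nat_lit 0, nat_lit 2, nat_lit 0])))))
 (.node (nat_lit 30) (.node (nat_lit 28) (.leaf ((nat_lit 28), [nat_lit 1, nat_lit 0, nat_lit 5, nat_lit 3, nat_lit 5, nat_lit 1, nat_lit 3, nat_lit 0, nat_lit 1, nat_lit 4])) (.node (nat_lit 29) (.leaf ((nat_lit 29), [nat_lit 5, nat_lit 0, nat_lit 5, nat_lit 4, nat_lit 2, nat_lit 3, nat_lit 0, nat_lit 3, nat_lit 1, nat_lit 0, nat_lit 2, nat_lit 2, nat_lit 0, nat_lit 2, nat_lit 2])) (.leaf ((nat_lit 30), [nat_lit 1, nat_lit 5, nat_lit 0, nat_lit 5, nat_lit 2, nat_lit 0, nat_lit 2, nat_lit 2, nat_lit 3, nat_lit 2, nat_lit 0])))) (.node (nat_lit 31) (.leaf ((nat_lit 31), [nat_lit 0, nat_lit 5, nat_lit 3, nat_lit 0, nat_lit 5, nat_lit 4,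 nat_lit 0, nat_lit 3, nat_lit 0, nat_lit 1, nat_lit 0, nat_lit 2, nat_lit 2])) (.node (nat_lit 32) (.leaf ((nat_lit 32), [nat_lit 3, nat_lit 2, nat_lit 0, nat_lit 2, nat_lit 4, nat_lit 0, nat_lit 2, nat_lit 2, nat_lit 0, nat_lit 2, nat_lit 0, nat_lit 1, nat_lit 0])) (.leaf ((nat_lit 33), [nat_lit 4, nat_lit 5, nat_lit 4, nat_lit 0, nat_lit 5, nat_lit 2, nat_lit 2, nat_lit 0, nat_lit 3, nat_lit 2, nat_lit 0, nat_lit 1, nat_lit 0, nat_lit 2]))))))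
 (.node (nat_lit 38) (.node (nat_lit 35) (.node (nat_lit 34) (.leaf ((nat_lit 34), [nat_lit 4, nat_lit 1, nat_lit 0, nat_lit 2, nat_lit 4, nat_lit 2, nat_lit 0, nat_lit 2, nat_lit 2, nat_lit 0, nat_lit 2, nat_lit 2, nat_lit 0])) (.leaf ((nat_lit 35), [nat_lit 4, nat_lit 2, nat_lit 5, nat_lit 3, nat_lit 5, nat_lit 2, nat_lit 4, nat_lit 2, nat_lit 2, nat_lit 4, nat_lit 3, nat_lit 1]))) (.node (nat_lit 36) (.leaf ((nat_lit 36), [nat_lit 0, nat_lit 5, nat_lit 2, nat_lit 3, nat_lit 5, nat_lit 3, nat_lit 1, nat_lit 4, nat_lit 1, nat_lit 3, nat_lit 1, nat_lit 0, nat_lit 2, nat_lit 0])) (.node (nat_lit 37) (.leaf ((nat_lit 37), [nat_lit 2, nat_lit 0, nat_lit 5, nat_lit 1, nat_lit 0, nat_lit 3, nat_lit 4, nat_lit 0, nat_lit 3, nat_lit 0, nat_lit 2, nat_lit 0, nat_lit 1])) (.leaf ((nat_lit 38), [nat_lit 0, nat_lit 2, nat_lit 5, nat_lit 3, nat_lit 5, nat_lit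 3, nat_lit 2, nat_lit 4, nat_lit 3, nat_lit 2, nat_lit 3, nat_lit 1, nat_lit 0, nat_lit 2, nat_lit 0, nat_lit 2])))))
 (.node (nat_lit 41) (.node (nat_lit 39) (.leaf ((nat_lit 39), [nat_lit 4, nat_lit 5, nat_lit 3, nat_lit 2, nat_lit 5, nat_lit 4, nat_lit 1, nat_lit 0, nat_lit 4, nat_lit 3, nat_lit 1, nat_lit 0, nat_lit 1])) (.node (nat_lit 40) (.leaf ((nat_lit 40), [nat_lit 2, nat_lit 0, nat_lit 2, nat_lit 5, nat_lit 3, nat_lit 0, nat_lit 3, nat_lit 0, nat_lit 2, nat_lit 3, nat_lit 2, nat_lit 2, nat_lit 0, nat_lit 2])) (.leaf ((nat_lit 41), [nat_lit 1, nat_lit 5, nat_lit 0, nat_lit 5, nat_lit 0, nat_lit 4, nat_lit 2, nat_lit 3, nat_lit 4, nat_lit 0, nat_lit 1, nat_lit 0, nat_lit 2, nat_lit 0, nat_lit 2, nat_lit 0])))) (.node (nat_lit 42) (.leaf ((nat_lit 42), [nat_lit 4, nat_lit 3, nat_lit 5, nat_lit 0, nat_lit 5, nat_lit 4, nat_lit 1, nat_lit 4,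 nat_lit 2, nat_lit 4, nat_lit 3, nat_lit 2, nat_lit 2, nat_lit 0, nat_lit 2, nat_lit 2, nat_lit 0, nat_lit 1, nat_lit 0])) (.node (nat_lit 43) (.leaf ((nat_lit 43), [nat_lit 0, nat_lit 5, nat_lit 2, nat_lit 5, nat_lit 0, nat_lit 1, nat_lit 3, nat_lit 4, nat_lit 1, nat_lit 3, nat_lit 2, nat_lit 0, nat_lit 1, nat_lit 0, nat_lit 1, nat_lit 0, nat_lit 2, nat_lit 0])) (.leaf ((nat_lit 44), [nat_lit 4, nat_lit 5, nat_lit 2, nat_lit 5, nat_lit 3, nat_lit 0, nat_lit 3, nat_lit 4]))))))))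
 (.node (nat_lit 66) (.node (nat_lit 55) (.node (nat_lit 49) (.node (nat_lit 46) (.node (nat_lit 45) (.leaf ((nat_lit 45), [nat_lit 2, nat_lit 5, nat_lit 3, nat_lit 5, nat_lit 3, nat_lit 4, nat_lit 1, nat_lit 0, nat_lit 1])) (.leaf ((nat_lit 46), [nat_lit 5, nat_lit 2, nat_lit 3, nat_lit 0, nat_lit 5, nat_lit 1, nat_lit 4, nat_lit 1, nat_lit 3, nat_lit 1, nat_lit 3, nat_lit 1, nat_lit 0, nat_lit 2, nat_lit 0, nat_lit 2]))) (.node (nat_lit 47) (.leaf ((nat_lit 47), [nat_lit 1, nat_lit 4, nat_lit 5, nat_lit 1, nat_lit 5, nat_lit 3, nat_lit 4, nat_lit 0, nat_lit 4, nat_lit 3, nat_lit 2, nat_lit 0])) (.node (nat_lit 48) (.leaf ((nat_lit 48), [nat_lit 2, nat_lit 5, nat_lit 0, nat_lit 1, nat_lit 5, nat_lit 3, nat_lit 2, nat_lit 4, nat_lit 2, nat_lit 3, nat_lit 4, nat_lit 2, nat_lit 0, nat_lit 2, nat_lit 0])) (.leaf ((nat_lit 49), [nat_lit 5, nat_lit 1,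 nat_lit 5, nat_lit 4, nat_lit 2, nat_lit 3, nat_lit 4, nat_lit 2, nat_lit 3, nat_lit 0, nat_lit 2, nat_lit 2, nat_lit 0, nat_lit 2, nat_lit 0, nat_lit 1, nat_lit 0])))))
 (.node (nat_lit 52) (.node (nat_lit 50) (.leaf ((nat_lit 31), [nat_lit 5, nat_lit 3, nat_lit 2, nat_lit 0, nat_lit 5, nat_lit 3, nat_lit 1, nat_lit 4, nat_lit 3, nat_lit 0, nat_lit 3, nat_lit 0, nat_lit 2, nat_lit 0])) (.node (nat_lit 51) (.leaf ((nat_lit 50), [nat_lit 5, nat_lit 4, nat_lit 0, nat_lit 5, nat_lit 4, nat_lit 3, nat_lit 2, nat_lit 0, nat_lit 2, nat_lit 3, nat_lit 2, nat_lit 2, nat_lit 0, nat_lit 1, nat_lit 0, nat_lit 2, nat_lit 0])) (.leaf ((nat_lit 51), [nat_lit 5, nat_lit 1, nat_lit 0, nat_lit 2, nat_lit 5, nat_lit 2, nat_lit 4, nat_lit 1, nat_lit 0, nat_lit 3, nat_lit 1, nat_lit 0, nat_lit 2, nat_lit 0, nat_lit 2, nat_lit 2])))) (.node (nat_lit 53) (.leaf ((nat_lit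 52), [nat_lit 5, nat_lit 2, nat_lit 0, nat_lit 2, nat_lit 5, nat_lit 3, nat_lit 0, nat_lit 4, nat_lit 1, nat_lit 4, nat_lit 2, nat_lit 2, nat_lit 0, nat_lit 2])) (.node (nat_lit 54) (.leaf ((nat_lit 53), [nat_lit 0, nat_lit 5, nat_lit 2, nat_lit 3, nat_lit 5, nat_lit 4, nat_lit 1, nat_lit 0, nat_lit 2, nat_lit 2, nat_lit 0, nat_lit 2])) (.leaf ((nat_lit 54), [nat_lit 5, nat_lit 3, nat_lit 2, nat_lit 0, nat_lit 5, nat_lit 3, nat_lit 4, nat_lit 3, nat_lit 2, nat_lit 4, nat_lit 3, nat_lit 2, nat_lit 2]))))))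
 (.node (nat_lit 60) (.node (nat_lit 57) (.node (nat_lit 56) (.leaf ((nat_lit 55), [nat_lit 0, nat_lit 5, nat_lit 3, nat_lit 5, nat_lit 2, nat_lit 3, nat_lit 1, nat_lit 0, nat_lit 2, nat_lit 3, nat_lit 0, nat_lit 1, nat_lit 0, nat_lit 2, nat_lit 2, nat_lit 0, nat_lit 2])) (.leaf ((nat_lit 56), [nat_lit 2, nat_lit 2, nat_lit 5, nat_lit 1, nat_lit 5, nat_lit 3, nat_lit 4, nat_lit 2, nat_lit 4, nat_lit 2, nat_lit 3, nat_lit 2, nat_lit 0, nat_lit 1, nat_lit 0, nat_lit 1, nat_lit 0, nat_lit 2]))) (.node (nat_lit 58) (.leaf ((nat_lit 57), [nat_lit 5, nat_lit 4, nat_lit 2, nat_lit 0, nat_lit 5, nat_lit 0, nat_lit 1, nat_lit 0, nat_lit 3, nat_lit 2, nat_lit 3, nat_lit 2, nat_lit 2, nat_lit 0, nat_lit 2, nat_lit 2, nat_lit 0, nat_lit 1, nat_lit 0])) (.node (nat_lit 59) (.leaf ((nat_lit 58), [nat_lit 4, nat_lit 1, nat_lit 5, nat_lit 0, nat_lit 5, nat_lit 3,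 nat_lit 2, nat_lit 3, nat_lit 2, nat_lit 3, nat_lit 0, nat_lit 2, nat_lit 2, nat_lit 0, nat_lit 1, nat_lit 0])) (.leaf ((nat_lit 59), [nat_lit 4, nat_lit 5, nat_lit 3, nat_lit 2, nat_lit 5, nat_lit 2, nat_lit 3, nat_lit 4, nat_lit 2, nat_lit 3, nat_lit 2, nat_lit 2, nat_lit 0, nat_lit 2])))))
 (.node (nat_lit 63) (.node (nat_lit 61) (.leaf ((nat_lit 60), [nat_lit 5, nat_lit 4, nat_lit 3, nat_lit 5, nat_lit 2, nat_lit 5, nat_lit 3, nat_lit 0, nat_lit 1, nat_lit 3, nat_lit 0, nat_lit 3, nat_lit 0, nat_lit 1, nat_lit 0, nat_lit 2, nat_lit 2, nat_lit 0, nat_lit 1, nat_lit 0])) (.node (nat_lit 62) (.leaf ((nat_lit 61), [nat_lit 5, nat_lit 4, nat_lit 1, nat_lit 0, nat_lit 5, nat_lit 1, nat_lit 3, nat_lit 1, nat_lit 4, nat_lit 2, nat_lit 0, nat_lit 1, nat_lit 0, nat_lit 1, nat_lit 0, nat_lit 2])) (.leaf ((nat_lit 62), [nat_lit 0, nat_lit 5, nat_lit 2, nat_lit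 3, nat_lit 5, nat_lit 2, nat_lit 3, nat_lit 0, nat_lit 2, nat_lit 4, nat_lit 3, nat_lit 1, nat_lit 0, nat_lit 2, nat_lit 2, nat_lit 0])))) (.node (nat_lit 64) (.leaf ((nat_lit 63), [nat_lit 1, nat_lit 0, nat_lit 5, nat_lit 3, nat_lit 5, nat_lit 0, nat_lit 1, nat_lit 0, nat_lit 4, nat_lit 2, nat_lit 0, nat_lit 2, nat_lit 2, nat_lit 0, nat_lit 1])) (.node (nat_lit 65) (.leaf ((nat_lit 64), [nat_lit 0, nat_lit 5, nat_lit 1, nat_lit 0, nat_lit 4, nat_lit 1, nat_lit 3, nat_lit 1, nat_lit 0, nat_lit 1, nat_lit 0, nat_lit 2, nat_lit 0, nat_lit 2])) (.leaf ((nat_lit 65), [nat_lit 2, nat_lit 0, nat_lit 5, nat_lit 2, nat_lit 2, nat_lit 4, nat_lit 2, nat_lit 4, nat_lit 2, nat_lit 0, nat_lit 1, nat_lit 0, nat_lit 2, nat_lit 0])))))))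
 (.node (nat_lit 77) (.node (nat_lit 71) (.node (nat_lit 68) (.node (nat_lit 67) (.leaf ((nat_lit 66), [nat_lit 3, nat_lit 5, nat_lit 3, nat_lit 0, nat_lit 5, nat_lit 1, nat_lit 4, nat_lit 3, nat_lit 0, nat_lit 3, nat_lit 1, nat_lit 0, nat_lit 2, nat_lit 0])) (.leaf ((nat_lit 67), [nat_lit 5, nat_lit 1, nat_lit 0, nat_lit 2, nat_lit 5, nat_lit 1, nat_lit 0, nat_lit 2, nat_lit 3, nat_lit 0, nat_lit 2, nat_lit 2, nat_lit 0, nat_lit 2, nat_lit 0, nat_lit 1]))) (.node (nat_lit 69) (.leaf ((nat_lit 68), [nat_lit 4, nat_lit 5, nat_lit 3, nat_lit 0, nat_lit 5, nat_lit 1, nat_lit 0, nat_lit 4, nat_lit 3, nat_lit 1, nat_lit 0, nat_lit 2, nat_lit 2, nat_lit 0, nat_lit 2, nat_lit 0])) (.node (nat_lit 70) (.leaf ((nat_lit 69), [nat_lit 2, nat_lit 3, nat_lit 0, nat_lit 5, nat_lit 2, nat_lit 3, nat_lit 4, nat_lit 2, nat_lit 3, nat_lit 0, nat_lit 2, nat_lit 0,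 nat_lit 2, nat_lit 2, nat_lit 0, nat_lit 2])) (.leaf ((nat_lit 70), [nat_lit 4, nat_lit 5, nat_lit 0, nat_lit 3, nat_lit 5, nat_lit 0, nat_lit 4, nat_lit 3, nat_lit 2, nat_lit 0, nat_lit 3, nat_lit 2, nat_lit 2, nat_lit 0, nat_lit 2, nat_lit 2, nat_lit 0, nat_lit 1, nat_lit 0])))))
 (.node (nat_lit 74) (.node (nat_lit 72) (.leaf ((nat_lit 71), [nat_lit 3, nat_lit 2, nat_lit 0, nat_lit 5, nat_lit 0, nat_lit 4, nat_lit 2, nat_lit 3, nat_lit 4, nat_lit 2, nat_lit 2, nat_lit 0, nat_lit 2, nat_lit 2, nat_lit 0, nat_lit 2, nat_lit 2, nat_lit 0])) (.node (nat_lit 73) (.leaf ((nat_lit 72), [nat_lit 3, nat_lit 2, nat_lit 5, nat_lit 0, nat_lit 5, nat_lit 3, nat_lit 4, nat_lit 2, nat_lit 0, nat_lit 2, nat_lit 3, nat_lit 0, nat_lit 2, nat_lit 0, nat_lit 1, nat_lit 0, nat_lit 1])) (.leaf ((nat_lit 73), [nat_lit 5, nat_lit 3, nat_lit 5, nat_lit 1, nat_lit 4, nat_lit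 2, nat_lit 4, nat_lit 3, nat_lit 0, nat_lit 1, nat_lit 0, nat_lit 2, nat_lit 0, nat_lit 2, nat_lit 0])))) (.node (nat_lit 75) (.leaf ((nat_lit 74), [nat_lit 4, nat_lit 2, nat_lit 5, nat_lit 2, nat_lit 2, nat_lit 3, nat_lit 2, nat_lit 0, nat_lit 1])) (.node (nat_lit 76) (.leaf ((nat_lit 75), [nat_lit 0, nat_lit 1, nat_lit 5, nat_lit 4, nat_lit 3, nat_lit 2, nat_lit 4, nat_lit 2, nat_lit 0, nat_lit 1, nat_lit 0])) (.leaf ((nat_lit 76), [nat_lit 3, nat_lit 5, nat_lit 1, nat_lit 3, nat_lit 2, nat_lit 5, nat_lit 3, nat_lit 4, nat_lit 3, nat_lit 2, nat_lit 4, nat_lit 3, nat_lit 2, nat_lit 0, nat_lit 2, nat_lit 2, nat_lit 0, nat_lit 2, nat_lit 2]))))))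
 (.node (nat_lit 82) (.node (nat_lit 79) (.node (nat_lit 78) (.leaf ((nat_lit 77), [nat_lit 5, nat_lit 4, nat_lit 1, nat_lit 0, nat_lit 5, nat_lit 2, nat_lit 3, nat_lit 2, nat_lit 4, nat_lit 1, nat_lit 0, nat_lit 1, nat_lit 0, nat_lit 2, nat_lit 0])) (.leaf ((nat_lit 78), [nat_lit 4, nat_lit 3, nat_lit 5, nat_lit 2, nat_lit 5, nat_lit 0, nat_lit 2, nat_lit 0, nat_lit 2, nat_lit 3, nat_lit 2, nat_lit 0]))) (.node (nat_lit 80) (.leaf ((nat_lit 79), [nat_lit 0, nat_lit 3, nat_lit 2, nat_lit 4, nat_lit 2, nat_lit 0, nat_lit 2, nat_lit 0, nat_lit 1])) (.node (nat_lit 81) (.leaf ((nat_lit 80), [nat_lit 4, nat_lit 5, nat_lit 2, nat_lit 0, nat_lit 5, nat_lit 3, nat_lit 1, nat_lit 3, nat_lit 0, nat_lit 4, nat_lit 0, nat_lit 1, nat_lit 0, nat_lit 1, nat_lit 0, nat_lit 2])) (.leaf ((nat_lit 81), [nat_lit 3, nat_lit 5, nat_lit 3, nat_lit 0, nat_lit 5, nat_lit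 0, nat_lit 4, nat_lit 0, nat_lit 1, nat_lit 0, nat_lit 3, nat_lit 2, nat_lit 2, nat_lit 0, nat_lit 1, nat_lit 0, nat_lit 2, nat_lit 2, nat_lit 0])))))
 (.node (nat_lit 85) (.node (nat_lit 83) (.leaf ((nat_lit 82), [nat_lit 2, nat_lit 3, nat_lit 5, nat_lit 0, nat_lit 5, nat_lit 4, nat_lit 2, nat_lit 3, nat_lit 0, nat_lit 3, nat_lit 0, nat_lit 1, nat_lit 0, nat_lit 2, nat_lit 2, nat_lit 0, nat_lit 2])) (.node (nat_lit 84) (.leaf ((nat_lit 83), [nat_lit 3, nat_lit 5, nat_lit 0, nat_lit 5, nat_lit 1, nat_lit 3, nat_lit 4, nat_lit 1, nat_lit 0, nat_lit 3, nat_lit 0, nat_lit 2, nat_lit 0, nat_lit 1, nat_lit 0, nat_lit 1])) (.leaf ((nat_lit 84), [nat_lit 5, nat_lit 3, nat_lit 2, nat_lit 0, nat_lit 5, nat_lit 1, nat_lit 3, nat_lit 1, nat_lit 0, nat_lit 4, nat_lit 0, nat_lit 2, nat_lit 0, nat_lit 2, nat_lit 0])))) (.node (nat_lit 86) (.leaf ((nat_lit 85),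 [nat_lit 1, nat_lit 3, nat_lit 0, nat_lit 5, nat_lit 4, nat_lit 2, nat_lit 3, nat_lit 4, nat_lit 2, nat_lit 2, nat_lit 0, nat_lit 2, nat_lit 2, nat_lit 0, nat_lit 2])) (.node (nat_lit 87) (.leaf ((nat_lit 86), [nat_lit 5, nat_lit 2, nat_lit 0, nat_lit 5, nat_lit 1, nat_lit 0, nat_lit 4, nat_lit 1, nat_lit 3, nat_lit 1, nat_lit 0, nat_lit 1, nat_lit 0, nat_lit 2, nat_lit 0])) (.leaf ((nat_lit 87), [nat_lit 5, nat_lit 1, nat_lit 5, nat_lit 0, nat_lit 5, nat_lit 0, nat_lit 1, nat_lit 3, nat_lit 1, nat_lit 3, nat_lit 2, nat_lit 2, nat_lit 0, nat_lit 2, nat_lit 2, nat_lit 0, nat_lit 2, nat_lit 2])))))))))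
 (.node (nat_lit 132) (.node (nat_lit 110) (.node (nat_lit 99) (.node (nat_lit 93) (.node (nat_lit 90) (.node (nat_lit 89) (.leaf ((nat_lit 88), [nat_lit 0, nat_lit 4, nat_lit 2, nat_lit 0, nat_lit 5, nat_lit 4, nat_lit 3, nat_lit 2, nat_lit 3, nat_lit 0, nat_lit 3, nat_lit 0, nat_lit 1, nat_lit 0, nat_lit 2, nat_lit 0, nat_lit 2, nat_lit 0])) (.leaf ((nat_lit 89), [nat_lit 0, nat_lit 5, nat_lit 2, nat_lit 3, nat_lit 5, nat_lit 0, nat_lit 3, nat_lit 2, nat_lit 3, nat_lit 0, nat_lit 1, nat_lit 0, nat_lit 1]))) (.node (nat_lit 91) (.leaf ((nat_lit 90), [nat_lit 5, nat_lit 1, nat_lit 0, nat_lit 3, nat_lit 5, nat_lit 0, nat_lit 2, nat_lit 3, nat_lit 2, nat_lit 0, nat_lit 3, nat_lit 1, nat_lit 0, nat_lit 2, nat_lit 2, nat_lit 0, nat_lit 1])) (.node (nat_lit 92) (.leaf ((nat_lit 91), [nat_lit 4, nat_lit 5, nat_lit 1, nat_lit 5, nat_lit 0, nat_lit 4, nat_lit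 3, nat_lit 0, nat_lit 3, nat_lit 2, nat_lit 2, nat_lit 0, nat_lit 1, nat_lit 0, nat_lit 2, nat_lit 2])) (.leaf ((nat_lit 92), [nat_lit 0, nat_lit 5, nat_lit 2, nat_lit 3, nat_lit 5, nat_lit 2, nat_lit 0, nat_lit 3, nat_lit 4, nat_lit 0, nat_lit 2, nat_lit 0, nat_lit 2, nat_lit 2, nat_lit 0])))))
 (.node (nat_lit 96) (.node (nat_lit 94) (.leaf ((nat_lit 93), [nat_lit 5, nat_lit 2, nat_lit 2, nat_lit 0, nat_lit 5, nat_lit 3, nat_lit 2, nat_lit 3, nat_lit 2, nat_lit 0, nat_lit 4, nat_lit 0, nat_lit 2, nat_lit 2, nat_lit 0, nat_lit 2, nat_lit 2, nat_lit 0])) (.node (nat_lit 95) (.leaf ((nat_lit 94), [nat_lit 5, nat_lit 2, nat_lit 2, nat_lit 0, nat_lit 5, nat_lit 0, nat_lit 4, nat_lit 1, nat_lit 3, nat_lit 0, nat_lit 3, nat_lit 0, nat_lit 1, nat_lit 0, nat_lit 1, nat_lit 0])) (.leaf ((nat_lit 95), [nat_lit 5, nat_lit 4, nat_lit 2, nat_lit 5, nat_lit 1,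 nat_lit 0, nat_lit 3, nat_lit 1, nat_lit 4, nat_lit 2, nat_lit 2])))) (.node (nat_lit 97) (.leaf ((nat_lit 96), [nat_lit 5, nat_lit 1, nat_lit 3, nat_lit 0, nat_lit 5, nat_lit 4, nat_lit 1, nat_lit 3, nat_lit 2, nat_lit 4, nat_lit 1, nat_lit 0, nat_lit 2, nat_lit 0, nat_lit 2, nat_lit 2])) (.node (nat_lit 98) (.leaf ((nat_lit 76), [nat_lit 3, nat_lit 0, nat_lit 5, nat_lit 2, nat_lit 4, nat_lit 0, nat_lit 1, nat_lit 4, nat_lit 2, nat_lit 2])) (.leaf ((nat_lit 97), [nat_lit 5, nat_lit 2, nat_lit 3, nat_lit 0, nat_lit 5, nat_lit 2, nat_lit 2, nat_lit 4, nat_lit 0, nat_lit 4, nat_lit 3, nat_lit 1, nat_lit 0, nat_lit 2, nat_lit 2, nat_lit 0, nat_lit 2, nat_lit 0]))))))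
 (.node (nat_lit 104) (.node (nat_lit 101) (.node (nat_lit 100) (.leaf ((nat_lit 98), [nat_lit 5, nat_lit 3, nat_lit 2, nat_lit 5, nat_lit 3, nat_lit 4, nat_lit 1, nat_lit 3, nat_lit 1, nat_lit 3, nat_lit 2, nat_lit 2, nat_lit 0, nat_lit 2, nat_lit 2])) (.leaf ((nat_lit 99), [nat_lit 5, nat_lit 4, nat_lit 2, nat_lit 0, nat_lit 5, nat_lit 1, nat_lit 3, nat_lit 2, nat_lit 3, nat_lit 0, nat_lit 4, nat_lit 0, nat_lit 1, nat_lit 0, nat_lit 2, nat_lit 0, nat_lit 2, nat_lit 2, nat_lit 0]))) (.node (nat_lit 102) (.leaf ((nat_lit 100), [nat_lit 4, nat_lit 1, nat_lit 5, nat_lit 3, nat_lit 5, nat_lit 2, nat_lit 0, nat_lit 4, nat_lit 0, nat_lit 1, nat_lit 0, nat_lit 1, nat_lit 0])) (.node (nat_lit 103) (.leaf ((nat_lit 101), [nat_lit 3, nat_lit 1, nat_lit 3, nat_lit 0, nat_lit 5, nat_lit 3, nat_lit 1, nat_lit 3, nat_lit 1, nat_lit 3, nat_lit 0, nat_lit 2, nat_lit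 0, nat_lit 2, nat_lit 2, nat_lit 0, nat_lit 1, nat_lit 0])) (.leaf ((nat_lit 102), [nat_lit 4, nat_lit 1, nat_lit 5, nat_lit 3, nat_lit 5, nat_lit 0, nat_lit 2, nat_lit 2, nat_lit 3, nat_lit 2, nat_lit 4, nat_lit 0, nat_lit 2, nat_lit 0, nat_lit 2, nat_lit 2, nat_lit 0, nat_lit 1, nat_lit 0])))))
 (.node (nat_lit 107) (.node (nat_lit 105) (.leaf ((nat_lit 103), [nat_lit 4, nat_lit 1, nat_lit 5, nat_lit 0, nat_lit 5, nat_lit 3, nat_lit 4, nat_lit 0, nat_lit 3, nat_lit 2, nat_lit 2, nat_lit 0, nat_lit 2, nat_lit 2])) (.node (nat_lit 106) (.leaf ((nat_lit 104), [nat_lit 5, nat_lit 3, nat_lit 5, nat_lit 2, nat_lit 4, nat_lit 2, nat_lit 3, nat_lit 4, nat_lit 1, nat_lit 0, nat_lit 2, nat_lit 2, nat_lit 0, nat_lit 2, nat_lit 0])) (.leaf ((nat_lit 105), [nat_lit 2, nat_lit 5, nat_lit 0, nat_lit 2, nat_lit 4, nat_lit 2, nat_lit 4, nat_lit 1, nat_lit 0, nat_lit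 2, nat_lit 2, nat_lit 0, nat_lit 2])))) (.node (nat_lit 108) (.leaf ((nat_lit 106), [nat_lit 5, nat_lit 4, nat_lit 3, nat_lit 0, nat_lit 5, nat_lit 2, nat_lit 2, nat_lit 4, nat_lit 2, nat_lit 4, nat_lit 1, nat_lit 0, nat_lit 1, nat_lit 0, nat_lit 2, nat_lit 0, nat_lit 2])) (.node (nat_lit 109) (.leaf ((nat_lit 107), [nat_lit 0, nat_lit 5, nat_lit 2, nat_lit 5, nat_lit 3, nat_lit 1, nat_lit 3, nat_lit 0, nat_lit 2, nat_lit 0, nat_lit 2, nat_lit 2, nat_lit 0, nat_lit 1])) (.leaf ((nat_lit 108), [nat_lit 3, nat_lit 5, nat_lit 2, nat_lit 5, nat_lit 1, nat_lit 3, nat_lit 4, nat_lit 1, nat_lit 3, nat_lit 2, nat_lit 2, nat_lit 0, nat_lit 1, nat_lit 0])))))))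
 (.node (nat_lit 121) (.node (nat_lit 115) (.node (nat_lit 112) (.node (nat_lit 111) (.leaf ((nat_lit 109), [nat_lit 5, nat_lit 4, nat_lit 2, nat_lit 5, nat_lit 3, nat_lit 4, nat_lit 2, nat_lit 3, nat_lit 2, nat_lit 2, nat_lit 0, nat_lit 2, nat_lit 2, nat_lit 0, nat_lit 2, nat_lit 2, nat_lit 0])) (.leaf ((nat_lit 110), [nat_lit 1, nat_lit 0, nat_lit 5, nat_lit 1, nat_lit 4, nat_lit 3, nat_lit 0, nat_lit 3]))) (.node (nat_lit 113) (.leaf ((nat_lit 111), [nat_lit 0, nat_lit 5, nat_lit 3, nat_lit 1, nat_lit 4, nat_lit 0, nat_lit 4, nat_lit 2])) (.node (nat_lit 114) (.leaf ((nat_lit 112), [nat_lit 5, nat_lit 4, nat_lit 5, nat_lit 1, nat_lit 5, nat_lit 2, nat_lit 4, nat_lit 0, nat_lit 4, nat_lit 2, nat_lit 2, nat_lit 0, nat_lit 2])) (.leaf ((nat_lit 113), [nat_lit 5, nat_lit 2, nat_lit 3, nat_lit 0, nat_lit 5, nat_lit 2, nat_lit 2, nat_lit 3, nat_lit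 2, nat_lit 4, nat_lit 1, nat_lit 0, nat_lit 1, nat_lit 0, nat_lit 2, nat_lit 0])))))
 (.node (nat_lit 118) (.node (nat_lit 116) (.leaf ((nat_lit 114), [nat_lit 5, nat_lit 1, nat_lit 0, nat_lit 2, nat_lit 5, nat_lit 1, nat_lit 4, nat_lit 1, nat_lit 3, nat_lit 2, nat_lit 0, nat_lit 2, nat_lit 2, nat_lit 0, nat_lit 2])) (.node (nat_lit 117) (.leaf ((nat_lit 115), [nat_lit 3, nat_lit 5, nat_lit 0, nat_lit 5, nat_lit 1, nat_lit 4, nat_lit 2, nat_lit 0, nat_lit 2, nat_lit 3, nat_lit 2, nat_lit 2, nat_lit 0, nat_lit 2, nat_lit 2, nat_lit 0, nat_lit 2, nat_lit 2, nat_lit 0])) (.leaf ((nat_lit 116), [nat_lit 2, nat_lit 4, nat_lit 0, nat_lit 5, nat_lit 4, nat_lit 1, nat_lit 0, nat_lit 3, nat_lit 1, nat_lit 4, nat_lit 0])))) (.node (nat_lit 119) (.leaf ((nat_lit 117), [nat_lit 0, nat_lit 1, nat_lit 5, nat_lit 2, nat_lit 2, nat_lit 3, nat_lit 4, nat_lit 2, nat_lit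 2, nat_lit 0, nat_lit 2, nat_lit 2, nat_lit 0, nat_lit 2])) (.node (nat_lit 120) (.leaf ((nat_lit 118), [nat_lit 2, nat_lit 0, nat_lit 1, nat_lit 5, nat_lit 3, nat_lit 2, nat_lit 0, nat_lit 1, nat_lit 0, nat_lit 2, nat_lit 2])) (.leaf ((nat_lit 119), [nat_lit 3, nat_lit 5, nat_lit 2, nat_lit 3, nat_lit 0, nat_lit 5, nat_lit 4, nat_lit 0, nat_lit 3, nat_lit 4, nat_lit 3, nat_lit 2, nat_lit 0, nat_lit 2, nat_lit 0, nat_lit 1]))))))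
 (.node (nat_lit 126) (.node (nat_lit 123) (.node (nat_lit 122) (.leaf ((nat_lit 120), [nat_lit 4, nat_lit 2, nat_lit 5, nat_lit 3, nat_lit 1, nat_lit 3, nat_lit 4, nat_lit 3, nat_lit 0, nat_lit 2, nat_lit 2, nat_lit 0, nat_lit 2, nat_lit 0, nat_lit 1])) (.leaf ((nat_lit 121), [nat_lit 3, nat_lit 1, nat_lit 5, nat_lit 2, nat_lit 5, nat_lit 4, nat_lit 3, nat_lit 1, nat_lit 4, nat_lit 1, nat_lit 3, nat_lit 0, nat_lit 2]))) (.node (nat_lit 124) (.leaf ((nat_lit 122), [nat_lit 3, nat_lit 5, nat_lit 2, nat_lit 5, nat_lit 4, nat_lit 2, nat_lit 4, nat_lit 1, nat_lit 0, nat_lit 3, nat_lit 0, nat_lit 1, nat_lit 0, nat_lit 2, nat_lit 2, nat_lit 0])) (.node (nat_lit 125) (.leaf ((nat_lit 123), [nat_lit 5, nat_lit 2, nat_lit 0, nat_lit 2, nat_lit 5, nat_lit 2, nat_lit 3, nat_lit 2, nat_lit 4, nat_lit 3, nat_lit 1, nat_lit 0, nat_lit 1, nat_lit 0, nat_lit 2,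 nat_lit 2])) (.leaf ((nat_lit 124), [nat_lit 5, nat_lit 4, nat_lit 2, nat_lit 5, nat_lit 0, nat_lit 4, nat_lit 3, nat_lit 0, nat_lit 3, nat_lit 2, nat_lit 2, nat_lit 0, nat_lit 2, nat_lit 0, nat_lit 1])))))
 (.node (nat_lit 129) (.node (nat_lit 127) (.leaf ((nat_lit 125), [nat_lit 5, nat_lit 4, nat_lit 0, nat_lit 5, nat_lit 0, nat_lit 2, nat_lit 4, nat_lit 0, nat_lit 2, nat_lit 2, nat_lit 0, nat_lit 2, nat_lit 2, nat_lit 0])) (.node (nat_lit 128) (.leaf ((nat_lit 126), [nat_lit 5, nat_lit 4, nat_lit 5, nat_lit 1, nat_lit 4, nat_lit 3, nat_lit 1, nat_lit 3, nat_lit 2, nat_lit 2, nat_lit 0, nat_lit 1, nat_lit 0])) (.leaf ((nat_lit 127), [nat_lit 3, nat_lit 5, nat_lit 2, nat_lit 4, nat_lit 0, nat_lit 4, nat_lit 0, nat_lit 4, nat_lit 2, nat_lit 0, nat_lit 2, nat_lit 0, nat_lit 1, nat_lit 0, nat_lit 1, nat_lit 0])))) (.node (nat_lit 130) (.leaf ((nat_lit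 128), [nat_lit 5, nat_lit 4, nat_lit 5, nat_lit 3, nat_lit 4, nat_lit 1, nat_lit 4, nat_lit 3, nat_lit 0, nat_lit 1, nat_lit 0, nat_lit 2, nat_lit 2, nat_lit 0, nat_lit 2, nat_lit 0])) (.node (nat_lit 131) (.leaf ((nat_lit 129), [nat_lit 5, nat_lit 2, nat_lit 3, nat_lit 5, nat_lit 1, nat_lit 4, nat_lit 1, nat_lit 0, nat_lit 3, nat_lit 2, nat_lit 2, nat_lit 0, nat_lit 2, nat_lit 2, nat_lit 0, nat_lit 2, nat_lit 0])) (.leaf ((nat_lit 130), [nat_lit 3, nat_lit 0, nat_lit 2, nat_lit 5, nat_lit 3, nat_lit 2, nat_lit 3, nat_lit 2, nat_lit 2, nat_lit 3, nat_lit 0, nat_lit 2, nat_lit 0, nat_lit 1, nat_lit 0]))))))))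
 (.node (nat_lit 154) (.node (nat_lit 143) (.node (nat_lit 137) (.node (nat_lit 134) (.node (nat_lit 133) (.leaf ((nat_lit 131), [nat_lit 3, nat_lit 5, nat_lit 3, nat_lit 0, nat_lit 3, nat_lit 0, nat_lit 2, nat_lit 4, nat_lit 2, nat_lit 2, nat_lit 0, nat_lit 2, nat_lit 2])) (.leaf ((nat_lit 132), [nat_lit 5, nat_lit 4, nat_lit 0, nat_lit 5, nat_lit 1, nat_lit 4, nat_lit 0, nat_lit 3, nat_lit 4, nat_lit 2, nat_lit 2, nat_lit 0, nat_lit 2, nat_lit 0]))) (.node (nat_lit 135) (.leaf ((nat_lit 133), [nat_lit 5, nat_lit 4, nat_lit 2, nat_lit 5, nat_lit 0, nat_lit 3, nat_lit 1, nat_lit 3, nat_lit 4, nat_lit 3, nat_lit 2, nat_lit 0, nat_lit 2, nat_lit 0, nat_lit 1, nat_lit 0])) (.node (nat_lit 136) (.leaf ((nat_lit 134), [nat_lit 1, nat_lit 3, nat_lit 2, nat_lit 5, nat_lit 1, nat_lit 4, nat_lit 2, nat_lit 4, nat_lit 3, nat_lit 0, nat_lit 2, nat_lit 2, nat_lit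 0, nat_lit 2, nat_lit 0, nat_lit 1, nat_lit 0])) (.leaf ((nat_lit 135), [nat_lit 2, nat_lit 5, nat_lit 4, nat_lit 5, nat_lit 3, nat_lit 2, nat_lit 4, nat_lit 3, nat_lit 1])))))
 (.node (nat_lit 140) (.node (nat_lit 138) (.leaf ((nat_lit 136), [nat_lit 3, nat_lit 5, nat_lit 3, nat_lit 0, nat_lit 5, nat_lit 4, nat_lit 0, nat_lit 3, nat_lit 4, nat_lit 3, nat_lit 2, nat_lit 0, nat_lit 2, nat_lit 2, nat_lit 0, nat_lit 2])) (.node (nat_lit 139) (.leaf ((nat_lit 137), [nat_lit 4, nat_lit 0, nat_lit 5, nat_lit 2, nat_lit 5, nat_lit 0, nat_lit 4, nat_lit 3, nat_lit 0, nat_lit 3, nat_lit 1, nat_lit 0, nat_lit 2])) (.leaf ((nat_lit 138), [nat_lit 5, nat_lit 1, nat_lit 0, nat_lit 3, nat_lit 5, nat_lit 1, nat_lit 0, nat_lit 3, nat_lit 1, nat_lit 0, nat_lit 1, nat_lit 0, nat_lit 2, nat_lit 2, nat_lit 0])))) (.node (nat_lit 141) (.leaf ((nat_lit 139), [nat_lit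 5, nat_lit 3, nat_lit 0, nat_lit 5, nat_lit 0, nat_lit 4, nat_lit 0, nat_lit 1, nat_lit 0, nat_lit 3, nat_lit 1, nat_lit 0, nat_lit 1])) (.node (nat_lit 142) (.leaf ((nat_lit 140), [nat_lit 1, nat_lit 0, nat_lit 5, nat_lit 3, nat_lit 5, nat_lit 3, nat_lit 0, nat_lit 3, nat_lit 0, nat_lit 2, nat_lit 4, nat_lit 2, nat_lit 2, nat_lit 0, nat_lit 1])) (.leaf ((nat_lit 141), [nat_lit 4, nat_lit 1, nat_lit 5, nat_lit 3, nat_lit 5, nat_lit 2, nat_lit 3, nat_lit 0, nat_lit 2, nat_lit 4, nat_lit 1, nat_lit 0, nat_lit 2, nat_lit 2, nat_lit 0, nat_lit 1, nat_lit 0]))))))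
 (.node (nat_lit 148) (.node (nat_lit 145) (.node (nat_lit 144) (.leaf ((nat_lit 142), [nat_lit 3, nat_lit 2, nat_lit 0, nat_lit 5, nat_lit 3, nat_lit 4, nat_lit 3, nat_lit 1, nat_lit 4, nat_lit 3, nat_lit 1, nat_lit 0, nat_lit 1, nat_lit 0, nat_lit 2, nat_lit 2])) (.leaf ((nat_lit 143), [nat_lit 2, nat_lit 5, nat_lit 2, nat_lit 3, nat_lit 5, nat_lit 2, nat_lit 3, nat_lit 4, nat_lit 3, nat_lit 0, nat_lit 3, nat_lit 0, nat_lit 2, nat_lit 0]))) (.node (nat_lit 146) (.leaf ((nat_lit 144), [nat_lit 5, nat_lit 2, nat_lit 4, nat_lit 0, nat_lit 5, nat_lit 4, nat_lit 1, nat_lit 4, nat_lit 2, nat_lit 4, nat_lit 3, nat_lit 0, nat_lit 2, nat_lit 2, nat_lit 0, nat_lit 1, nat_lit 0])) (.node (nat_lit 147) (.leaf ((nat_lit 145), [nat_lit 5, nat_lit 3, nat_lit 2, nat_lit 5, nat_lit 3, nat_lit 0, nat_lit 2, nat_lit 4, nat_lit 3, nat_lit 2, nat_lit 0, nat_lit 1,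 nat_lit 0])) (.leaf ((nat_lit 146), [nat_lit 5, nat_lit 4, nat_lit 2, nat_lit 0, nat_lit 5, nat_lit 0, nat_lit 4, nat_lit 2, nat_lit 3, nat_lit 4, nat_lit 1])))))
 (.node (nat_lit 151) (.node (nat_lit 149) (.leaf ((nat_lit 147), [nat_lit 5, nat_lit 0, nat_lit 4, nat_lit 5, nat_lit 2, nat_lit 0, nat_lit 1, nat_lit 0, nat_lit 3, nat_lit 2, nat_lit 2, nat_lit 0])) (.node (nat_lit 150) (.leaf ((nat_lit 148), [nat_lit 4, nat_lit 3, nat_lit 5, nat_lit 2, nat_lit 5, nat_lit 1, nat_lit 0, nat_lit 2, nat_lit 4, nat_lit 2, nat_lit 2, nat_lit 0, nat_lit 2])) (.leaf ((nat_lit 149), [nat_lit 2, nat_lit 5, nat_lit 3, nat_lit 4, nat_lit 3, nat_lit 1, nat_lit 3, nat_lit 0, nat_lit 2, nat_lit 2, nat_lit 0, nat_lit 1])))) (.node (nat_lit 152) (.leaf ((nat_lit 150), [nat_lit 1, nat_lit 5, nat_lit 1, nat_lit 5, nat_lit 4, nat_lit 1, nat_lit 4, nat_lit 3, nat_lit 2,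 nat_lit 0, nat_lit 2, nat_lit 2, nat_lit 0, nat_lit 2, nat_lit 2, nat_lit 0])) (.node (nat_lit 153) (.leaf ((nat_lit 151), [nat_lit 3, nat_lit 2, nat_lit 3, nat_lit 5, nat_lit 0, nat_lit 4, nat_lit 1, nat_lit 3, nat_lit 1, nat_lit 0, nat_lit 2, nat_lit 0, nat_lit 2, nat_lit 0])) (.leaf ((nat_lit 152), [nat_lit 5, nat_lit 4, nat_lit 5, nat_lit 3, nat_lit 5, nat_lit 4, nat_lit 3, nat_lit 0, nat_lit 2, nat_lit 3, nat_lit 0, nat_lit 1, nat_lit 0, nat_lit 2, nat_lit 2, nat_lit 0])))))))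
 (.node (nat_lit 165) (.node (nat_lit 159) (.node (nat_lit 156) (.node (nat_lit 155) (.leaf ((nat_lit 153), [nat_lit 2, nat_lit 5, nat_lit 4, nat_lit 5, nat_lit 1, nat_lit 4, nat_lit 0, nat_lit 1, nat_lit 0, nat_lit 1, nat_lit 0])) (.leaf ((nat_lit 154), [nat_lit 0, nat_lit 5, nat_lit 1, nat_lit 4, nat_lit 3, nat_lit 1, nat_lit 4, nat_lit 2, nat_lit 2, nat_lit 0, nat_lit 2, nat_lit 0]))) (.node (nat_lit 157) (.leaf ((nat_lit 155), [nat_lit 5, nat_lit 2, nat_lit 4, nat_lit 3, nat_lit 0, nat_lit 2, nat_lit 0, nat_lit 2, nat_lit 2, nat_lit 0, nat_lit 1, nat_lit 0])) (.node (nat_lit 158) (.leaf ((nat_lit 156), [nat_lit 5, nat_lit 2, nat_lit 4, nat_lit 0, nat_lit 5, nat_lit 2, nat_lit 0, nat_lit 3, nat_lit 2, nat_lit 0, nat_lit 2, nat_lit 0, nat_lit 1, nat_lit 0, nat_lit 1])) (.leaf ((nat_lit 157), [nat_lit 1, nat_lit 5, nat_lit 0, nat_lit 5, nat_lit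 3, nat_lit 0, nat_lit 2, nat_lit 3, nat_lit 2, nat_lit 0, nat_lit 1, nat_lit 0, nat_lit 2, nat_lit 2, nat_lit 0])))))
 (.node (nat_lit 162) (.node (nat_lit 160) (.leaf ((nat_lit 158), [nat_lit 5, nat_lit 4, nat_lit 0, nat_lit 5, nat_lit 1, nat_lit 3, nat_lit 4, nat_lit 0, nat_lit 2, nat_lit 4, nat_lit 1, nat_lit 0, nat_lit 2, nat_lit 0, nat_lit 2, nat_lit 0])) (.node (nat_lit 161) (.leaf ((nat_lit 159), [nat_lit 2, nat_lit 2, nat_lit 5, nat_lit 1, nat_lit 5, nat_lit 3, nat_lit 0, nat_lit 1, nat_lit 4, nat_lit 2, nat_lit 0, nat_lit 1])) (.leaf ((nat_lit 160), [nat_lit 5, nat_lit 4, nat_lit 5, nat_lit 3, nat_lit 0, nat_lit 2, nat_lit 4, nat_lit 2, nat_lit 0, nat_lit 2, nat_lit 2, nat_lit 0, nat_lit 2])))) (.node (nat_lit 163) (.leaf ((nat_lit 161), [nat_lit 4, nat_lit 2, nat_lit 5, nat_lit 4, nat_lit 1, nat_lit 4, nat_lit 1, nat_lit 4, nat_lit 0, nat_lit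 1, nat_lit 0, nat_lit 2, nat_lit 2])) (.node (nat_lit 164) (.leaf ((nat_lit 162), [nat_lit 5, nat_lit 4, nat_lit 1, nat_lit 0, nat_lit 5, nat_lit 3, nat_lit 0, nat_lit 4, nat_lit 0, nat_lit 4, nat_lit 2, nat_lit 0, nat_lit 2, nat_lit 2, nat_lit 0])) (.leaf ((nat_lit 163), [nat_lit 5, nat_lit 4, nat_lit 5, nat_lit 1, nat_lit 5, nat_lit 3, nat_lit 2, nat_lit 0, nat_lit 2, nat_lit 4, nat_lit 0, nat_lit 2, nat_lit 2, nat_lit 0, nat_lit 2, nat_lit 2]))))))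
 (.node (nat_lit 170) (.node (nat_lit 167) (.node (nat_lit 166) (.leaf ((nat_lit 164), [nat_lit 4, nat_lit 5, nat_lit 2, nat_lit 0, nat_lit 5, nat_lit 1, nat_lit 4, nat_lit 0, nat_lit 3, nat_lit 2, nat_lit 3, nat_lit 1, nat_lit 0, nat_lit 1, nat_lit 0, nat_lit 2])) (.leaf ((nat_lit 165), [nat_lit 4, nat_lit 1, nat_lit 5, nat_lit 3, nat_lit 5, nat_lit 0, nat_lit 4, nat_lit 2, nat_lit 3, nat_lit 1, nat_lit 3, nat_lit 2, nat_lit 0, nat_lit 1, nat_lit 0, nat_lit 1, nat_lit 0, nat_lit 2, nat_lit 0]))) (.node (nat_lit 168) (.leaf ((nat_lit 166), [nat_lit 2, nat_lit 3, nat_lit 5, nat_lit 0, nat_lit 5, nat_lit 0, nat_lit 1, nat_lit 4, nat_lit 1, nat_lit 0, nat_lit 3, nat_lit 2, nat_lit 2, nat_lit 0, nat_lit 2, nat_lit 2, nat_lit 0, nat_lit 1])) (.node (nat_lit 169) (.leaf ((nat_lit 167), [nat_lit 4, nat_lit 1, nat_lit 5, nat_lit 0, nat_lit 5, nat_lit 0,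 nat_lit 1, nat_lit 3, nat_lit 4, nat_lit 1, nat_lit 3, nat_lit 0, nat_lit 2, nat_lit 2, nat_lit 0])) (.leaf ((nat_lit 168), [nat_lit 3, nat_lit 1, nat_lit 5, nat_lit 0, nat_lit 5, nat_lit 3, nat_lit 0, nat_lit 3, nat_lit 1, nat_lit 0, nat_lit 2, nat_lit 2, nat_lit 0])))))
 (.node (nat_lit 173) (.node (nat_lit 171) (.leaf ((nat_lit 169), [nat_lit 5, nat_lit 1, nat_lit 3, nat_lit 0, nat_lit 5, nat_lit 1, nat_lit 0, nat_lit 4, nat_lit 1, nat_lit 3, nat_lit 0, nat_lit 2, nat_lit 2, nat_lit 0, nat_lit 2, nat_lit 0, nat_lit 1])) (.node (nat_lit 172) (.leaf ((nat_lit 170), [nat_lit 5, nat_lit 3, nat_lit 2, nat_lit 0, nat_lit 5, nat_lit 4, nat_lit 1, nat_lit 3, nat_lit 4, nat_lit 2, nat_lit 3, nat_lit 2, nat_lit 0, nat_lit 1, nat_lit 0, nat_lit 2, nat_lit 0, nat_lit 2, nat_lit 0])) (.leaf ((nat_lit 171), [nat_lit 0, nat_lit 5, nat_lit 1, nat_lit 3, nat_lit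 1, nat_lit 4, nat_lit 2, nat_lit 2, nat_lit 0, nat_lit 2, nat_lit 2, nat_lit 0, nat_lit 2])))) (.node (nat_lit 174) (.leaf ((nat_lit 172), [nat_lit 1, nat_lit 5, nat_lit 1, nat_lit 5, nat_lit 0, nat_lit 4, nat_lit 3, nat_lit 0, nat_lit 2, nat_lit 0, nat_lit 1, nat_lit 0, nat_lit 1])) (.node (nat_lit 175) (.leaf ((nat_lit 173), [nat_lit 2, nat_lit 2, nat_lit 5, nat_lit 1, nat_lit 4, nat_lit 3, nat_lit 2, nat_lit 3, nat_lit 1, nat_lit 0, nat_lit 2, nat_lit 0, nat_lit 2])) (.leaf ((nat_lit 174), [nat_lit 4, nat_lit 2, nat_lit 5, nat_lit 3, nat_lit 5, nat_lit 0, nat_lit 4, nat_lit 3, nat_lit 2, nat_lit 0, nat_lit 3, nat_lit 1, nat_lit 0, nat_lit 2, nat_lit 0, nat_lit 2, nat_lit 0]))))))))))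
noncomputable def qWd_1 : Tr (ℕ × List ℕ) := (.node (nat_lit 264) (.node (nat_lit 220) (.node (nat_lit 198) (.node (nat_lit 187) (.node (nat_lit 181) (.node (nat_lit 178) (.node (nat_lit 177) (.leaf ((nat_lit 53), [nat_lit 0, nat_lit 2, nat_lit 5, nat_lit 0, nat_lit 2, nat_lit 3, nat_lit 0, nat_lit 2, nat_lit 2, nat_lit 0, nat_lit 2, nat_lit 0])) (.leaf ((nat_lit 175), [nat_lit 2, nat_lit 5, nat_lit 3, nat_lit 5, nat_lit 3, nat_lit 0, nat_lit 3, nat_lit 2, nat_lit 3, nat_lit 0, nat_lit 2]))) (.node (nat_lit 179) (.leaf ((nat_lit 176), [nat_lit 5, nat_lit 4, nat_lit 3, nat_lit 5, nat_lit 2, nat_lit 5, nat_lit 0, nat_lit 3, nat_lit 1, nat_lit 3, nat_lit 4, nat_lit 3, nat_lit 2, nat_lit 0, nat_lit 2, nat_lit 2, nat_lit 0, nat_lit 2])) (.node (nat_lit 180) (.leaf ((nat_lit 177), [nat_lit 2, nat_lit 5, nat_lit 2, nat_lit 3, nat_lit 1, nat_lit 3, nat_lit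 4, nat_lit 2, nat_lit 0, nat_lit 1, nat_lit 0, nat_lit 1, nat_lit 0, nat_lit 2])) (.leaf ((nat_lit 178), [nat_lit 5, nat_lit 0, nat_lit 4, nat_lit 5, nat_lit 3, nat_lit 2, nat_lit 3, nat_lit 0, nat_lit 2, nat_lit 0, nat_lit 1, nat_lit 0, nat_lit 1])))))
 (.node (nat_lit 184) (.node (nat_lit 182) (.leaf ((nat_lit 179), [nat_lit 0, nat_lit 5, nat_lit 2, nat_lit 4, nat_lit 3, nat_lit 1, nat_lit 0, nat_lit 1, nat_lit 0, nat_lit 2, nat_lit 0, nat_lit 2, nat_lit 0])) (.node (nat_lit 183) (.leaf ((nat_lit 180), [nat_lit 0, nat_lit 4, nat_lit 5, nat_lit 2, nat_lit 3, nat_lit 4, nat_lit 1, nat_lit 3, nat_lit 2, nat_lit 0])) (.leaf ((nat_lit 181), [nat_lit 5, nat_lit 2, nat_lit 2, nat_lit 0, nat_lit 5, nat_lit 3, nat_lit 0, nat_lit 3, nat_lit 2, nat_lit 2, nat_lit 0])))) (.node (nat_lit 185) (.leaf ((nat_lit 120), [nat_lit 0, nat_lit 1, nat_lit 5, nat_lit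 0, nat_lit 1, nat_lit 0, nat_lit 3, nat_lit 2, nat_lit 3, nat_lit 1, nat_lit 0, nat_lit 1, nat_lit 0, nat_lit 2, nat_lit 2])) (.node (nat_lit 186) (.leaf ((nat_lit 125), [nat_lit 5, nat_lit 1, nat_lit 0, nat_lit 2, nat_lit 5, nat_lit 2, nat_lit 4, nat_lit 2, nat_lit 4, nat_lit 1, nat_lit 0, nat_lit 2, nat_lit 2, nat_lit 0, nat_lit 2, nat_lit 2])) (.leaf ((nat_lit 182), [nat_lit 5, nat_lit 4, nat_lit 2, nat_lit 0, nat_lit 5, nat_lit 2, nat_lit 4, nat_lit 1, nat_lit 0, nat_lit 3, nat_lit 0, nat_lit 2, nat_lit 0, nat_lit 2, nat_lit 2, nat_lit 0, nat_lit 2, nat_lit 0]))))))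
 (.node (nat_lit 192) (.node (nat_lit 189) (.node (nat_lit 188) (.leaf ((nat_lit 183), [nat_lit 2, nat_lit 5, nat_lit 0, nat_lit 1, nat_lit 5, nat_lit 3, nat_lit 1, nat_lit 3, nat_lit 0, nat_lit 4, nat_lit 1, nat_lit 0, nat_lit 2, nat_lit 0, nat_lit 2, nat_lit 0])) (.leaf ((nat_lit 184), [nat_lit 3, nat_lit 5, nat_lit 2, nat_lit 3, nat_lit 0, nat_lit 5, nat_lit 4, nat_lit 1, nat_lit 4, nat_lit 3, nat_lit 1, nat_lit 0, nat_lit 2, nat_lit 0, nat_lit 1, nat_lit 0]))) (.node (nat_lit 190) (.leaf ((nat_lit 185), [nat_lit 3, nat_lit 1, nat_lit 5, nat_lit 0, nat_lit 5, nat_lit 0, nat_lit 1, nat_lit 3, nat_lit 1, nat_lit 0, nat_lit 4, nat_lit 1, nat_lit 0, nat_lit 2, nat_lit 2, nat_lit 0, nat_lit 2, nat_lit 2, nat_lit 0])) (.node (nat_lit 191) (.leaf ((nat_lit 186), [nat_lit 1, nat_lit 0, nat_lit 2, nat_lit 5, nat_lit 4, nat_lit 1, nat_lit 3, nat_lit 2,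 nat_lit 4, nat_lit 2, nat_lit 2, nat_lit 0, nat_lit 2, nat_lit 2, nat_lit 0, nat_lit 2, nat_lit 2, nat_lit 0])) (.leaf ((nat_lit 187), [nat_lit 0, nat_lit 5, nat_lit 4, nat_lit 0, nat_lit 4, nat_lit 1, nat_lit 0, nat_lit 1, nat_lit 0])))))
 (.node (nat_lit 195) (.node (nat_lit 193) (.leaf ((nat_lit 188), [nat_lit 4, nat_lit 2, nat_lit 5, nat_lit 2, nat_lit 0, nat_lit 3, nat_lit 0, nat_lit 2, nat_lit 3, nat_lit 2, nat_lit 2, nat_lit 0, nat_lit 1, nat_lit 0, nat_lit 2, nat_lit 0])) (.node (nat_lit 194) (.leaf ((nat_lit 189), [nat_lit 4, nat_lit 0, nat_lit 5, nat_lit 2, nat_lit 5, nat_lit 2, nat_lit 0, nat_lit 4, nat_lit 1, nat_lit 3, nat_lit 1, nat_lit 0, nat_lit 2, nat_lit 0, nat_lit 2])) (.leaf ((nat_lit 190), [nat_lit 0, nat_lit 5, nat_lit 2, nat_lit 3, nat_lit 5, nat_lit 4, nat_lit 3, nat_lit 2, nat_lit 4, nat_lit 3, nat_lit 0, nat_lit 1, nat_lit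 0, nat_lit 2])))) (.node (nat_lit 196) (.leaf ((nat_lit 191), [nat_lit 5, nat_lit 3, nat_lit 5, nat_lit 0, nat_lit 4, nat_lit 2, nat_lit 3, nat_lit 4, nat_lit 1, nat_lit 0, nat_lit 1, nat_lit 0, nat_lit 2, nat_lit 0])) (.node (nat_lit 197) (.leaf ((nat_lit 192), [nat_lit 5, nat_lit 1, nat_lit 0, nat_lit 3, nat_lit 5, nat_lit 2, nat_lit 0, nat_lit 2, nat_lit 3, nat_lit 0, nat_lit 1, nat_lit 0, nat_lit 1, nat_lit 0])) (.leaf ((nat_lit 193), [nat_lit 2, nat_lit 4, nat_lit 5, nat_lit 2, nat_lit 0, nat_lit 5, nat_lit 4, nat_lit 0, nat_lit 3, nat_lit 4, nat_lit 3, nat_lit 0, nat_lit 2, nat_lit 2, nat_lit 0, nat_lit 2, nat_lit 2])))))))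
 (.node (nat_lit 209) (.node (nat_lit 203) (.node (nat_lit 200) (.node (nat_lit 199) (.leaf ((nat_lit 194), [nat_lit 1, nat_lit 5, nat_lit 2, nat_lit 5, nat_lit 4, nat_lit 3, nat_lit 2, nat_lit 3, nat_lit 2, nat_lit 3, nat_lit 0, nat_lit 1, nat_lit 0])) (.leaf ((nat_lit 195), [nat_lit 4, nat_lit 3, nat_lit 0, nat_lit 5, nat_lit 0, nat_lit 3, nat_lit 4, nat_lit 3, nat_lit 2, nat_lit 0, nat_lit 1, nat_lit 0, nat_lit 2, nat_lit 0]))) (.node (nat_lit 201) (.leaf ((nat_lit 196), [nat_lit 4, nat_lit 3, nat_lit 5, nat_lit 0, nat_lit 5, nat_lit 4, nat_lit 1, nat_lit 0, nat_lit 2, nat_lit 4, nat_lit 2, nat_lit 0, nat_lit 2, nat_lit 0, nat_lit 1, nat_lit 0])) (.node (nat_lit 202) (.leaf ((nat_lit 197), [nat_lit 3, nat_lit 5, nat_lit 2, nat_lit 3, nat_lit 0, nat_lit 5, nat_lit 3, nat_lit 0, nat_lit 1, nat_lit 4, nat_lit 2, nat_lit 0, nat_lit 1, nat_lit 0, nat_lit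 1, nat_lit 0, nat_lit 2])) (.leaf ((nat_lit 198), [nat_lit 2, nat_lit 5, nat_lit 2, nat_lit 3, nat_lit 5, nat_lit 2, nat_lit 4, nat_lit 0, nat_lit 4, nat_lit 0, nat_lit 4, nat_lit 2, nat_lit 0, nat_lit 2, nat_lit 0, nat_lit 1, nat_lit 0, nat_lit 1, nat_lit 0])))))
 (.node (nat_lit 206) (.node (nat_lit 204) (.leaf ((nat_lit 199), [nat_lit 4, nat_lit 2, nat_lit 5, nat_lit 1, nat_lit 5, nat_lit 0, nat_lit 3, nat_lit 2, nat_lit 0, nat_lit 3, nat_lit 0, nat_lit 2, nat_lit 0, nat_lit 2, nat_lit 2, nat_lit 0, nat_lit 1])) (.node (nat_lit 205) (.leaf ((nat_lit 200), [nat_lit 1, nat_lit 5, nat_lit 3, nat_lit 4, nat_lit 1, nat_lit 0, nat_lit 4, nat_lit 2, nat_lit 2])) (.leaf ((nat_lit 201), [nat_lit 0, nat_lit 5, nat_lit 0, nat_lit 1, nat_lit 5, nat_lit 0, nat_lit 1, nat_lit 3, nat_lit 4, nat_lit 2, nat_lit 3, nat_lit 1, nat_lit 0, nat_lit 2])))) (.node (nat_lit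 207) (.leaf ((nat_lit 202), [nat_lit 5, nat_lit 4, nat_lit 3, nat_lit 5, nat_lit 2, nat_lit 5, nat_lit 4, nat_lit 3, nat_lit 0, nat_lit 2, nat_lit 3])) (.node (nat_lit 208) (.leaf ((nat_lit 203), [nat_lit 5, nat_lit 2, nat_lit 4, nat_lit 0, nat_lit 5, nat_lit 0, nat_lit 1, nat_lit 4, nat_lit 0, nat_lit 2, nat_lit 0, nat_lit 2, nat_lit 2, nat_lit 0, nat_lit 2])) (.leaf ((nat_lit 204), [nat_lit 5, nat_lit 3, nat_lit 2, nat_lit 0, nat_lit 5, nat_lit 1, nat_lit 0, nat_lit 3, nat_lit 0, nat_lit 1, nat_lit 0, nat_lit 1]))))))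
 (.node (nat_lit 214) (.node (nat_lit 211) (.node (nat_lit 210) (.leaf ((nat_lit 205), [nat_lit 5, nat_lit 4, nat_lit 5, nat_lit 1, nat_lit 5, nat_lit 4, nat_lit 2, nat_lit 2, nat_lit 4, nat_lit 1, nat_lit 0, nat_lit 3, nat_lit 0, nat_lit 2, nat_lit 0, nat_lit 2, nat_lit 0])) (.leaf ((nat_lit 206), [nat_lit 5, nat_lit 0, nat_lit 4, nat_lit 5, nat_lit 2, nat_lit 3, nat_lit 4, nat_lit 1, nat_lit 3, nat_lit 2, nat_lit 0, nat_lit 2, nat_lit 2, nat_lit 0, nat_lit 2]))) (.node (nat_lit 212) (.leaf ((nat_lit 207), [nat_lit 2, nat_lit 3, nat_lit 0, nat_lit 5, nat_lit 1, nat_lit 4, nat_lit 0, nat_lit 1, nat_lit 0, nat_lit 3, nat_lit 1, nat_lit 0, nat_lit 2, nat_lit 0, nat_lit 1, nat_lit 0])) (.node (nat_lit 213) (.leaf ((nat_lit 208), [nat_lit 4, nat_lit 3, nat_lit 5, nat_lit 4, nat_lit 1, nat_lit 4, nat_lit 2, nat_lit 0, nat_lit 1, nat_lit 0, nat_lit 2,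 nat_lit 2])) (.leaf ((nat_lit 209), [nat_lit 5, nat_lit 0, nat_lit 5, nat_lit 0, nat_lit 1, nat_lit 3, nat_lit 4, nat_lit 1, nat_lit 3, nat_lit 2, nat_lit 2, nat_lit 0, nat_lit 1, nat_lit 0, nat_lit 2])))))
 (.node (nat_lit 217) (.node (nat_lit 215) (.leaf ((nat_lit 210), [nat_lit 4, nat_lit 0, nat_lit 5, nat_lit 4, nat_lit 1, nat_lit 0, nat_lit 4, nat_lit 3, nat_lit 0, nat_lit 2, nat_lit 2])) (.node (nat_lit 216) (.leaf ((nat_lit 52), [nat_lit 2, nat_lit 0, nat_lit 5, nat_lit 0, nat_lit 3, nat_lit 2, nat_lit 4, nat_lit 1, nat_lit 0, nat_lit 2, nat_lit 2, nat_lit 0, nat_lit 2, nat_lit 2])) (.leaf ((nat_lit 211), [nat_lit 0, nat_lit 5, nat_lit 2, nat_lit 3, nat_lit 5, nat_lit 3, nat_lit 4, nat_lit 1, nat_lit 4, nat_lit 3, nat_lit 0, nat_lit 2, nat_lit 2, nat_lit 0, nat_lit 1, nat_lit 0, nat_lit 2, nat_lit 0])))) (.node (nat_lit 218) (.leaf ((nat_lit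 212), [nat_lit 2, nat_lit 0, nat_lit 1, nat_lit 5, nat_lit 4, nat_lit 0, nat_lit 4, nat_lit 0, nat_lit 1, nat_lit 0, nat_lit 2, nat_lit 0, nat_lit 2, nat_lit 0])) (.node (nat_lit 219) (.leaf ((nat_lit 213), [nat_lit 0, nat_lit 2, nat_lit 5, nat_lit 3, nat_lit 5, nat_lit 4, nat_lit 2, nat_lit 0, nat_lit 4, nat_lit 3, nat_lit 1, nat_lit 0, nat_lit 2, nat_lit 2, nat_lit 0, nat_lit 2, nat_lit 0])) (.leaf ((nat_lit 214), [nat_lit 5, nat_lit 4, nat_lit 3, nat_lit 0, nat_lit 5, nat_lit 3, nat_lit 4, nat_lit 3, nat_lit 2, nat_lit 4, nat_lit 3, nat_lit 0, nat_lit 2, nat_lit 0, nat_lit 1, nat_lit 0, nat_lit 1]))))))))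
 (.node (nat_lit 242) (.node (nat_lit 231) (.node (nat_lit 225) (.node (nat_lit 222) (.node (nat_lit 221) (.leaf ((nat_lit 215), [nat_lit 5, nat_lit 1, nat_lit 5, nat_lit 2, nat_lit 3, nat_lit 4, nat_lit 0, nat_lit 2, nat_lit 4, nat_lit 2, nat_lit 2, nat_lit 0, nat_lit 2, nat_lit 2, nat_lit 0, nat_lit 1, nat_lit 0])) (.leaf ((nat_lit 216), [nat_lit 5, nat_lit 2, nat_lit 3, nat_lit 0, nat_lit 5, nat_lit 4, nat_lit 2, nat_lit 0, nat_lit 4, nat_lit 1, nat_lit 0, nat_lit 2, nat_lit 0]))) (.node (nat_lit 223) (.leaf ((nat_lit 217), [nat_lit 4, nat_lit 5, nat_lit 0, nat_lit 3, nat_lit 5, nat_lit 2, nat_lit 3, nat_lit 1, nat_lit 3, nat_lit 4, nat_lit 2, nat_lit 2, nat_lit 0, nat_lit 2, nat_lit 2, nat_lit 0, nat_lit 2, nat_lit 0])) (.node (nat_lit 224) (.leaf ((nat_lit 218), [nat_lit 2, nat_lit 3, nat_lit 0, nat_lit 5, nat_lit 3, nat_lit 2, nat_lit 3, nat_lit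 2, nat_lit 4, nat_lit 0, nat_lit 2, nat_lit 0, nat_lit 1])) (.leaf ((nat_lit 219), [nat_lit 2, nat_lit 5, nat_lit 3, nat_lit 5, nat_lit 3, nat_lit 4, nat_lit 1, nat_lit 3, nat_lit 2, nat_lit 2, nat_lit 0, nat_lit 1, nat_lit 0, nat_lit 2, nat_lit 0])))))
 (.node (nat_lit 228) (.node (nat_lit 226) (.leaf ((nat_lit 220), [nat_lit 0, nat_lit 5, nat_lit 2, nat_lit 0, nat_lit 5, nat_lit 3, nat_lit 4, nat_lit 2, nat_lit 4, nat_lit 2, nat_lit 2, nat_lit 0, nat_lit 2])) (.node (nat_lit 227) (.leaf ((nat_lit 221), [nat_lit 5, nat_lit 4, nat_lit 2, nat_lit 5, nat_lit 3, nat_lit 4, nat_lit 0, nat_lit 4, nat_lit 1, nat_lit 3, nat_lit 0, nat_lit 2, nat_lit 2, nat_lit 0, nat_lit 1])) (.leaf ((nat_lit 222), [nat_lit 4, nat_lit 5, nat_lit 3, nat_lit 5, nat_lit 3, nat_lit 0, nat_lit 2, nat_lit 4, nat_lit 2, nat_lit 0, nat_lit 2, nat_lit 2, nat_lit 0, nat_lit 1]))))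 (.node (nat_lit 229) (.leaf ((nat_lit 223), [nat_lit 2, nat_lit 5, nat_lit 0, nat_lit 1, nat_lit 5, nat_lit 1, nat_lit 0, nat_lit 3, nat_lit 1, nat_lit 3, nat_lit 1, nat_lit 0, nat_lit 2])) (.node (nat_lit 230) (.leaf ((nat_lit 204), [nat_lit 5, nat_lit 0, nat_lit 4, nat_lit 5, nat_lit 0, nat_lit 4, nat_lit 1, nat_lit 3, nat_lit 0, nat_lit 1, nat_lit 0, nat_lit 2, nat_lit 2, nat_lit 0])) (.leaf ((nat_lit 224), [nat_lit 4, nat_lit 5, nat_lit 2, nat_lit 3, nat_lit 5, nat_lit 0, nat_lit 3, nat_lit 4, nat_lit 2, nat_lit 0, nat_lit 1, nat_lit 0, nat_lit 1]))))))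
 (.node (nat_lit 236) (.node (nat_lit 233) (.node (nat_lit 232) (.leaf ((nat_lit 171), [nat_lit 5, nat_lit 2, nat_lit 2, nat_lit 0, nat_lit 5, nat_lit 0, nat_lit 3, nat_lit 0, nat_lit 1, nat_lit 4, nat_lit 1, nat_lit 0])) (.leaf ((nat_lit 225), [nat_lit 1, nat_lit 5, nat_lit 0, nat_lit 5, nat_lit 2, nat_lit 4, nat_lit 2, nat_lit 3, nat_lit 2, nat_lit 3, nat_lit 2, nat_lit 0, nat_lit 1, nat_lit 0, nat_lit 1, nat_lit 0, nat_lit 2, nat_lit 0]))) (.node (nat_lit 234) (.leaf ((nat_lit 226), [nat_lit 5, nat_lit 3, nat_lit 5, nat_lit 3, nat_lit 4, nat_lit 1, nat_lit 0, nat_lit 3, nat_lit 2, nat_lit 2, nat_lit 0, nat_lit 2, nat_lit 2])) (.node (nat_lit 235) (.leaf ((nat_lit 227), [nat_lit 3, nat_lit 0, nat_lit 5, nat_lit 0, nat_lit 1, nat_lit 4, nat_lit 3, nat_lit 2, nat_lit 3, nat_lit 2, nat_lit 0, nat_lit 1])) (.leaf ((nat_lit 228), [nat_lit 2, nat_lit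 5, nat_lit 0, nat_lit 5, nat_lit 2, nat_lit 4, nat_lit 3, nat_lit 0, nat_lit 2, nat_lit 4, nat_lit 2, nat_lit 0, nat_lit 2, nat_lit 2, nat_lit 0, nat_lit 2, nat_lit 2, nat_lit 0])))))
 (.node (nat_lit 239) (.node (nat_lit 237) (.leaf ((nat_lit 229), [nat_lit 4, nat_lit 5, nat_lit 2, nat_lit 4, nat_lit 0, nat_lit 4, nat_lit 2, nat_lit 2, nat_lit 0, nat_lit 2])) (.node (nat_lit 238) (.leaf ((nat_lit 230), [nat_lit 3, nat_lit 5, nat_lit 1, nat_lit 3, nat_lit 0, nat_lit 5, nat_lit 3, nat_lit 0, nat_lit 3, nat_lit 0, nat_lit 2, nat_lit 3, nat_lit 0, nat_lit 2, nat_lit 0, nat_lit 2, nat_lit 2, nat_lit 0, nat_lit 1, nat_lit 0])) (.leaf ((nat_lit 231), [nat_lit 5, nat_lit 2, nat_lit 2, nat_lit 0, nat_lit 5, nat_lit 4, nat_lit 1, nat_lit 3, nat_lit 0, nat_lit 2, nat_lit 0, nat_lit 1, nat_lit 0])))) (.node (nat_lit 240) (.leaf ((nat_lit 232), [nat_lit 2, nat_lit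 5, nat_lit 3, nat_lit 5, nat_lit 0, nat_lit 4, nat_lit 3, nat_lit 0, nat_lit 4, nat_lit 2, nat_lit 2, nat_lit 0, nat_lit 2, nat_lit 2, nat_lit 0, nat_lit 2])) (.node (nat_lit 241) (.leaf ((nat_lit 233), [nat_lit 2, nat_lit 5, nat_lit 3, nat_lit 5, nat_lit 4, nat_lit 2, nat_lit 0, nat_lit 3, nat_lit 0, nat_lit 4, nat_lit 2, nat_lit 0, nat_lit 2, nat_lit 0, nat_lit 1, nat_lit 0])) (.leaf ((nat_lit 234), [nat_lit 3, nat_lit 5, nat_lit 2, nat_lit 3, nat_lit 0, nat_lit 5, nat_lit 2, nat_lit 4, nat_lit 3, nat_lit 2, nat_lit 2, nat_lit 3, nat_lit 0, nat_lit 1, nat_lit 0, nat_lit 2, nat_lit 2, nat_lit 0, nat_lit 2, nat_lit 0])))))))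
 (.node (nat_lit 253) (.node (nat_lit 247) (.node (nat_lit 244) (.node (nat_lit 243) (.leaf ((nat_lit 235), [nat_lit 4, nat_lit 0, nat_lit 5, nat_lit 2, nat_lit 5, nat_lit 0, nat_lit 1, nat_lit 3, nat_lit 4, nat_lit 1, nat_lit 3, nat_lit 1, nat_lit 0, nat_lit 2, nat_lit 0, nat_lit 2, nat_lit 0])) (.leaf ((nat_lit 236), [nat_lit 4, nat_lit 5, nat_lit 2, nat_lit 3, nat_lit 5, nat_lit 3, nat_lit 4, nat_lit 0, nat_lit 3, nat_lit 1, nat_lit 3, nat_lit 0, nat_lit 1, nat_lit 0, nat_lit 2, nat_lit 2, nat_lit 0, nat_lit 2]))) (.node (nat_lit 245) (.leaf ((nat_lit 189), [nat_lit 4, nat_lit 3, nat_lit 5, nat_lit 2, nat_lit 5, nat_lit 2, nat_lit 4, nat_lit 0, nat_lit 4, nat_lit 2, nat_lit 0, nat_lit 2, nat_lit 2, nat_lit 0])) (.node (nat_lit 246) (.leaf ((nat_lit 0), [nat_lit 5, nat_lit 4, nat_lit 3, nat_lit 5, nat_lit 2, nat_lit 5, nat_lit 4, nat_lit 3, nat_lit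 2, nat_lit 3, nat_lit 1])) (.leaf ((nat_lit 237), [nat_lit 4, nat_lit 5, nat_lit 2, nat_lit 5, nat_lit 0, nat_lit 3, nat_lit 2, nat_lit 4, nat_lit 0, nat_lit 2, nat_lit 0, nat_lit 2, nat_lit 0])))))
 (.node (nat_lit 250) (.node (nat_lit 248) (.leaf ((nat_lit 133), [nat_lit 3, nat_lit 5, nat_lit 2, nat_lit 5, nat_lit 1, nat_lit 3, nat_lit 1, nat_lit 3, nat_lit 0, nat_lit 3, nat_lit 0, nat_lit 1, nat_lit 0, nat_lit 2])) (.node (nat_lit 249) (.leaf ((nat_lit 238), [nat_lit 4, nat_lit 5, nat_lit 1, nat_lit 5, nat_lit 1, nat_lit 3, nat_lit 1, nat_lit 4, nat_lit 2, nat_lit 2, nat_lit 0, nat_lit 2, nat_lit 2, nat_lit 0])) (.leaf ((nat_lit 239), [nat_lit 5, nat_lit 1, nat_lit 0, nat_lit 2, nat_lit 5, nat_lit 4, nat_lit 1, nat_lit 3, nat_lit 2, nat_lit 2, nat_lit 3, nat_lit 0, nat_lit 2, nat_lit 0, nat_lit 2])))) (.node (nat_lit 251) (.leaf ((nat_lit 240),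 [nat_lit 2, nat_lit 5, nat_lit 3, nat_lit 5, nat_lit 4, nat_lit 1, nat_lit 3, nat_lit 1, nat_lit 3, nat_lit 2, nat_lit 2, nat_lit 0, nat_lit 2, nat_lit 0, nat_lit 1, nat_lit 0])) (.node (nat_lit 252) (.leaf ((nat_lit 241), [nat_lit 1, nat_lit 5, nat_lit 0, nat_lit 5, nat_lit 3, nat_lit 4, nat_lit 3, nat_lit 0, nat_lit 3, nat_lit 1, nat_lit 0, nat_lit 2, nat_lit 0, nat_lit 2, nat_lit 2, nat_lit 0])) (.leaf ((nat_lit 242), [nat_lit 3, nat_lit 1, nat_lit 5, nat_lit 0, nat_lit 5, nat_lit 0, nat_lit 2, nat_lit 2, nat_lit 0, nat_lit 4, nat_lit 0, nat_lit 2, nat_lit 2, nat_lit 0, nat_lit 1, nat_lit 0, nat_lit 2, nat_lit 0]))))))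
 (.node (nat_lit 258) (.node (nat_lit 255) (.node (nat_lit 254) (.leaf ((nat_lit 243), [nat_lit 5, nat_lit 3, nat_lit 2, nat_lit 5, nat_lit 4, nat_lit 0, nat_lit 3, nat_lit 0, nat_lit 2, nat_lit 3, nat_lit 1, nat_lit 0, nat_lit 1])) (.leaf ((nat_lit 244), [nat_lit 4, nat_lit 2, nat_lit 5, nat_lit 3, nat_lit 5, nat_lit 3, nat_lit 2, nat_lit 3, nat_lit 0, nat_lit 4, nat_lit 2, nat_lit 0, nat_lit 2, nat_lit 0]))) (.node (nat_lit 256) (.leaf ((nat_lit 245), [nat_lit 4, nat_lit 2, nat_lit 5, nat_lit 3, nat_lit 5, nat_lit 4, nat_lit 1, nat_lit 3, nat_lit 4, nat_lit 2, nat_lit 3, nat_lit 0, nat_lit 2])) (.node (nat_lit 257) (.leaf ((nat_lit 246), [nat_lit 4, nat_lit 1, nat_lit 5, nat_lit 0, nat_lit 5, nat_lit 4, nat_lit 2, nat_lit 3, nat_lit 1, nat_lit 3, nat_lit 0, nat_lit 2, nat_lit 0])) (.leaf ((nat_lit 247), [nat_lit 5, nat_lit 2, nat_lit 3, nat_lit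 0, nat_lit 5, nat_lit 0, nat_lit 3, nat_lit 2, nat_lit 0, nat_lit 3, nat_lit 2, nat_lit 0, nat_lit 2])))))
 (.node (nat_lit 261) (.node (nat_lit 259) (.leaf ((nat_lit 248), [nat_lit 5, nat_lit 0, nat_lit 3, nat_lit 5, nat_lit 3, nat_lit 2, nat_lit 4, nat_lit 2, nat_lit 3, nat_lit 4, nat_lit 2, nat_lit 2, nat_lit 0, nat_lit 2, nat_lit 2, nat_lit 0, nat_lit 1, nat_lit 0])) (.node (nat_lit 260) (.leaf ((nat_lit 249), [nat_lit 3, nat_lit 5, nat_lit 3, nat_lit 0, nat_lit 5, nat_lit 1, nat_lit 0, nat_lit 4, nat_lit 1, nat_lit 3, nat_lit 0, nat_lit 2, nat_lit 2, nat_lit 0, nat_lit 2, nat_lit 0, nat_lit 1])) (.leaf ((nat_lit 250), [nat_lit 3, nat_lit 2, nat_lit 3, nat_lit 5, nat_lit 1, nat_lit 3, nat_lit 0, nat_lit 2, nat_lit 4, nat_lit 2, nat_lit 0, nat_lit 1, nat_lit 0, nat_lit 2])))) (.node (nat_lit 262) (.leaf ((nat_lit 251), [nat_lit 3, nat_lit 5, nat_lit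 1, nat_lit 3, nat_lit 0, nat_lit 5, nat_lit 3, nat_lit 0, nat_lit 1, nat_lit 0, nat_lit 3, nat_lit 1, nat_lit 0, nat_lit 2, nat_lit 0, nat_lit 2, nat_lit 0])) (.node (nat_lit 263) (.leaf ((nat_lit 252), [nat_lit 0, nat_lit 4, nat_lit 5, nat_lit 4, nat_lit 1, nat_lit 0, nat_lit 4, nat_lit 1, nat_lit 0, nat_lit 2, nat_lit 0, nat_lit 1])) (.leaf ((nat_lit 253), [nat_lit 4, nat_lit 0, nat_lit 5, nat_lit 2, nat_lit 5, nat_lit 4, nat_lit 1, nat_lit 4, nat_lit 2, nat_lit 4, nat_lit 1, nat_lit 0, nat_lit 2, nat_lit 2, nat_lit 0, nat_lit 2, nat_lit 2, nat_lit 0])))))))))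
 (.node (nat_lit 308) (.node (nat_lit 286) (.node (nat_lit 275) (.node (nat_lit 269) (.node (nat_lit 266) (.node (nat_lit 265) (.leaf ((nat_lit 254), [nat_lit 5, nat_lit 0, nat_lit 3, nat_lit 5, nat_lit 4, nat_lit 1, nat_lit 0, nat_lit 3, nat_lit 2, nat_lit 3, nat_lit 2, nat_lit 2, nat_lit 0])) (.leaf ((nat_lit 255), [nat_lit 4, nat_lit 3, nat_lit 5, nat_lit 2, nat_lit 5, nat_lit 4, nat_lit 3, nat_lit 0, nat_lit 4, nat_lit 1, nat_lit 0, nat_lit 3, nat_lit 1, nat_lit 0, nat_lit 2, nat_lit 0, nat_lit 1]))) (.node (nat_lit 267) (.leaf ((nat_lit 256), [nat_lit 0, nat_lit 2, nat_lit 4, nat_lit 0, nat_lit 5, nat_lit 4, nat_lit 0, nat_lit 4, nat_lit 0, nat_lit 2, nat_lit 2, nat_lit 0, nat_lit 2, nat_lit 0, nat_lit 1])) (.node (nat_lit 268) (.leaf ((nat_lit 257), [nat_lit 5, nat_lit 2, nat_lit 0, nat_lit 2, nat_lit 5, nat_lit 3, nat_lit 2, nat_lit 0, nat_lit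 3, nat_lit 1, nat_lit 4, nat_lit 1, nat_lit 0, nat_lit 1, nat_lit 0, nat_lit 2, nat_lit 0, nat_lit 2])) (.leaf ((nat_lit 258), [nat_lit 4, nat_lit 5, nat_lit 0, nat_lit 3, nat_lit 5, nat_lit 3, nat_lit 2, nat_lit 0, nat_lit 2, nat_lit 4, nat_lit 1, nat_lit 0, nat_lit 1, nat_lit 0, nat_lit 2, nat_lit 0])))))
 (.node (nat_lit 272) (.node (nat_lit 270) (.leaf ((nat_lit 259), [nat_lit 5, nat_lit 4, nat_lit 0, nat_lit 5, nat_lit 3, nat_lit 1, nat_lit 0, nat_lit 4, nat_lit 1, nat_lit 0, nat_lit 2, nat_lit 0, nat_lit 2, nat_lit 2])) (.node (nat_lit 271) (.leaf ((nat_lit 260), [nat_lit 3, nat_lit 0, nat_lit 5, nat_lit 3, nat_lit 5, nat_lit 0, nat_lit 4, nat_lit 3, nat_lit 2, nat_lit 3, nat_lit 2, nat_lit 2, nat_lit 0, nat_lit 2, nat_lit 2, nat_lit 0, nat_lit 1, nat_lit 0])) (.leaf ((nat_lit 261), [nat_lit 2, nat_lit 0, nat_lit 1, nat_lit 5, nat_lit 2, nat_lit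 4, nat_lit 0, nat_lit 3, nat_lit 2, nat_lit 3, nat_lit 1])))) (.node (nat_lit 273) (.leaf ((nat_lit 262), [nat_lit 3, nat_lit 2, nat_lit 5, nat_lit 2, nat_lit 3, nat_lit 4, nat_lit 3, nat_lit 2, nat_lit 3, nat_lit 0, nat_lit 1, nat_lit 0, nat_lit 1, nat_lit 0])) (.node (nat_lit 274) (.leaf ((nat_lit 263), [nat_lit 5, nat_lit 2, nat_lit 5, nat_lit 2, nat_lit 4, nat_lit 0, nat_lit 4, nat_lit 3, nat_lit 2, nat_lit 0, nat_lit 2, nat_lit 0, nat_lit 1, nat_lit 0])) (.leaf ((nat_lit 264), [nat_lit 1, nat_lit 3, nat_lit 2, nat_lit 5, nat_lit 4, nat_lit 1, nat_lit 0, nat_lit 3, nat_lit 2, nat_lit 2, nat_lit 0]))))))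
 (.node (nat_lit 280) (.node (nat_lit 277) (.node (nat_lit 276) (.leaf ((nat_lit 265), [nat_lit 4, nat_lit 5, nat_lit 4, nat_lit 0, nat_lit 5, nat_lit 4, nat_lit 3, nat_lit 0, nat_lit 4, nat_lit 0, nat_lit 2, nat_lit 2])) (.leaf ((nat_lit 266), [nat_lit 5, nat_lit 0, nat_lit 5, nat_lit 4, nat_lit 2, nat_lit 3, nat_lit 0, nat_lit 2, nat_lit 2, nat_lit 0, nat_lit 1, nat_lit 0, nat_lit 2, nat_lit 0]))) (.node (nat_lit 278) (.leaf ((nat_lit 267), [nat_lit 4, nat_lit 3, nat_lit 5, nat_lit 2, nat_lit 5, nat_lit 3, nat_lit 0, nat_lit 2, nat_lit 4, nat_lit 1, nat_lit 0, nat_lit 1, nat_lit 0, nat_lit 2, nat_lit 0, nat_lit 2])) (.node (nat_lit 279) (.leaf ((nat_lit 268), [nat_lit 5, nat_lit 2, nat_lit 4, nat_lit 0, nat_lit 5, nat_lit 1, nat_lit 3, nat_lit 2, nat_lit 2, nat_lit 3, nat_lit 1, nat_lit 0, nat_lit 2, nat_lit 2, nat_lit 0, nat_lit 1])) (.leaf ((nat_lit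 269), [nat_lit 2, nat_lit 2, nat_lit 5, nat_lit 1, nat_lit 5, nat_lit 4, nat_lit 2, nat_lit 3, nat_lit 4, nat_lit 2, nat_lit 0, nat_lit 2, nat_lit 0])))))
 (.node (nat_lit 283) (.node (nat_lit 281) (.leaf ((nat_lit 270), [nat_lit 4, nat_lit 5, nat_lit 0, nat_lit 3, nat_lit 5, nat_lit 1, nat_lit 0, nat_lit 3, nat_lit 0, nat_lit 4, nat_lit 2, nat_lit 2, nat_lit 0, nat_lit 1, nat_lit 0, nat_lit 2, nat_lit 2])) (.node (nat_lit 282) (.leaf ((nat_lit 271), [nat_lit 3, nat_lit 1, nat_lit 5, nat_lit 0, nat_lit 5, nat_lit 0, nat_lit 3, nat_lit 4, nat_lit 3, nat_lit 2, nat_lit 2, nat_lit 0, nat_lit 1, nat_lit 0, nat_lit 2, nat_lit 2])) (.leaf ((nat_lit 272), [nat_lit 4, nat_lit 5, nat_lit 3, nat_lit 2, nat_lit 5, nat_lit 2, nat_lit 3, nat_lit 1, nat_lit 3, nat_lit 0, nat_lit 1, nat_lit 0, nat_lit 2, nat_lit 0, nat_lit 2, nat_lit 0])))) (.node (nat_lit 284)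 (.leaf ((nat_lit 210), [nat_lit 5, nat_lit 1, nat_lit 3, nat_lit 2, nat_lit 5, nat_lit 3, nat_lit 1, nat_lit 4, nat_lit 3, nat_lit 2, nat_lit 0, nat_lit 3, nat_lit 2, nat_lit 2, nat_lit 0, nat_lit 2])) (.node (nat_lit 285) (.leaf ((nat_lit 273), [nat_lit 5, nat_lit 2, nat_lit 4, nat_lit 0, nat_lit 5, nat_lit 3, nat_lit 0, nat_lit 2, nat_lit 4, nat_lit 2, nat_lit 2, nat_lit 0, nat_lit 1, nat_lit 0, nat_lit 2, nat_lit 0])) (.leaf ((nat_lit 274), [nat_lit 0, nat_lit 2, nat_lit 4, nat_lit 0, nat_lit 5, nat_lit 2, nat_lit 3, nat_lit 1, nat_lit 3, nat_lit 4, nat_lit 3, nat_lit 2])))))))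
 (.node (nat_lit 297) (.node (nat_lit 291) (.node (nat_lit 288) (.node (nat_lit 287) (.leaf ((nat_lit 275), [nat_lit 5, nat_lit 0, nat_lit 4, nat_lit 5, nat_lit 1, nat_lit 4, nat_lit 2, nat_lit 4, nat_lit 1, nat_lit 0, nat_lit 2, nat_lit 0, nat_lit 2, nat_lit 0])) (.leaf ((nat_lit 153), [nat_lit 5, nat_lit 4, nat_lit 5, nat_lit 1, nat_lit 5, nat_lit 4, nat_lit 0, nat_lit 3, nat_lit 1, nat_lit 3, nat_lit 2, nat_lit 2, nat_lit 0, nat_lit 2, nat_lit 2, nat_lit 0, nat_lit 2, nat_lit 0]))) (.node (nat_lit 289) (.leaf ((nat_lit 276), [nat_lit 4, nat_lit 0, nat_lit 5, nat_lit 2, nat_lit 4, nat_lit 2, nat_lit 0, nat_lit 2, nat_lit 3, nat_lit 2, nat_lit 2, nat_lit 0, nat_lit 2, nat_lit 0, nat_lit 1, nat_lit 0])) (.node (nat_lit 290) (.leaf ((nat_lit 277), [nat_lit 4, nat_lit 5, nat_lit 3, nat_lit 2, nat_lit 5, nat_lit 3, nat_lit 1, nat_lit 3, nat_lit 0, nat_lit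 3, nat_lit 0, nat_lit 1, nat_lit 0, nat_lit 2, nat_lit 2])) (.leaf ((nat_lit 278), [nat_lit 0, nat_lit 5, nat_lit 3, nat_lit 5, nat_lit 1, nat_lit 4, nat_lit 0, nat_lit 4, nat_lit 2, nat_lit 0, nat_lit 3, nat_lit 2])))))
 (.node (nat_lit 294) (.node (nat_lit 292) (.leaf ((nat_lit 279), [nat_lit 4, nat_lit 3, nat_lit 5, nat_lit 0, nat_lit 5, nat_lit 1, nat_lit 4, nat_lit 3, nat_lit 2, nat_lit 0, nat_lit 3, nat_lit 0, nat_lit 2])) (.node (nat_lit 293) (.leaf ((nat_lit 154), [nat_lit 5, nat_lit 2, nat_lit 3, nat_lit 5, nat_lit 4, nat_lit 1, nat_lit 0, nat_lit 3, nat_lit 4, nat_lit 1, nat_lit 0, nat_lit 2, nat_lit 2, nat_lit 0])) (.leaf ((nat_lit 280), [nat_lit 2, nat_lit 4, nat_lit 2, nat_lit 0, nat_lit 5, nat_lit 2, nat_lit 0, nat_lit 4, nat_lit 1, nat_lit 4, nat_lit 0, nat_lit 2, nat_lit 2, nat_lit 0, nat_lit 1, nat_lit 0, nat_lit 2, nat_lit 0]))))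 (.node (nat_lit 295) (.leaf ((nat_lit 281), [nat_lit 1, nat_lit 0, nat_lit 5, nat_lit 2, nat_lit 4, nat_lit 1, nat_lit 0, nat_lit 1, nat_lit 0, nat_lit 3, nat_lit 2, nat_lit 2, nat_lit 0])) (.node (nat_lit 296) (.leaf ((nat_lit 282), [nat_lit 4, nat_lit 5, nat_lit 2, nat_lit 4, nat_lit 0, nat_lit 4, nat_lit 1, nat_lit 0, nat_lit 2, nat_lit 2, nat_lit 0, nat_lit 2, nat_lit 0])) (.leaf ((nat_lit 283), [nat_lit 4, nat_lit 5, nat_lit 2, nat_lit 3, nat_lit 5, nat_lit 3, nat_lit 0, nat_lit 2, nat_lit 3, nat_lit 0, nat_lit 1, nat_lit 0, nat_lit 2, nat_lit 0, nat_lit 2]))))))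
 (.node (nat_lit 302) (.node (nat_lit 299) (.node (nat_lit 298) (.leaf ((nat_lit 284), [nat_lit 3, nat_lit 0, nat_lit 5, nat_lit 3, nat_lit 5, nat_lit 3, nat_lit 4, nat_lit 0, nat_lit 3, nat_lit 1, nat_lit 3, nat_lit 1, nat_lit 0, nat_lit 2, nat_lit 0, nat_lit 2, nat_lit 2, nat_lit 0])) (.leaf ((nat_lit 285), [nat_lit 3, nat_lit 4, nat_lit 5, nat_lit 3, nat_lit 1, nat_lit 3, nat_lit 0, nat_lit 3, nat_lit 0]))) (.node (nat_lit 300) (.leaf ((nat_lit 281), [nat_lit 3, nat_lit 5, nat_lit 1, nat_lit 3, nat_lit 2, nat_lit 5, nat_lit 3, nat_lit 2, nat_lit 0, nat_lit 4, nat_lit 3, nat_lit 0, nat_lit 2, nat_lit 0, nat_lit 1, nat_lit 0, nat_lit 1, nat_lit 0])) (.node (nat_lit 301) (.leaf ((nat_lit 286), [nat_lit 5, nat_lit 4, nat_lit 2, nat_lit 5, nat_lit 4, nat_lit 2, nat_lit 4, nat_lit 1, nat_lit 0, nat_lit 1])) (.leaf ((nat_lit 23), [nat_lit 5, nat_lit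 3, nat_lit 0, nat_lit 5, nat_lit 2, nat_lit 4, nat_lit 2, nat_lit 3, nat_lit 1, nat_lit 3, nat_lit 2, nat_lit 0, nat_lit 1, nat_lit 0])))))
 (.node (nat_lit 305) (.node (nat_lit 303) (.leaf ((nat_lit 287), [nat_lit 3, nat_lit 2, nat_lit 3, nat_lit 5, nat_lit 3, nat_lit 2, nat_lit 0, nat_lit 3, nat_lit 1, nat_lit 4, nat_lit 0, nat_lit 2, nat_lit 2, nat_lit 0, nat_lit 2, nat_lit 2, nat_lit 0])) (.node (nat_lit 304) (.leaf ((nat_lit 288), [nat_lit 4, nat_lit 1, nat_lit 5, nat_lit 0, nat_lit 5, nat_lit 3, nat_lit 0, nat_lit 2, nat_lit 2, nat_lit 3, nat_lit 2, nat_lit 0, nat_lit 1, nat_lit 0])) (.leaf ((nat_lit 289), [nat_lit 3, nat_lit 2, nat_lit 3, nat_lit 5, nat_lit 0, nat_lit 2, nat_lit 0, nat_lit 2, nat_lit 3, nat_lit 0, nat_lit 1, nat_lit 0, nat_lit 1])))) (.node (nat_lit 306) (.leaf ((nat_lit 37), [nat_lit 4, nat_lit 5, nat_lit 1, nat_lit 5, nat_lit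 4, nat_lit 2, nat_lit 0, nat_lit 4, nat_lit 0, nat_lit 2, nat_lit 2, nat_lit 0, nat_lit 2])) (.node (nat_lit 307) (.leaf ((nat_lit 290), [nat_lit 4, nat_lit 3, nat_lit 5, nat_lit 0, nat_lit 2, nat_lit 3, nat_lit 2, nat_lit 0, nat_lit 3, nat_lit 1, nat_lit 0, nat_lit 2, nat_lit 2, nat_lit 0, nat_lit 2, nat_lit 2])) (.leaf ((nat_lit 291), [nat_lit 5, nat_lit 0, nat_lit 3, nat_lit 5, nat_lit 2, nat_lit 3, nat_lit 2, nat_lit 0, nat_lit 4, nat_lit 2, nat_lit 0, nat_lit 1]))))))))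
 (.node (nat_lit 330) (.node (nat_lit 319) (.node (nat_lit 313) (.node (nat_lit 310) (.node (nat_lit 309) (.leaf ((nat_lit 292), [nat_lit 1, nat_lit 4, nat_lit 2, nat_lit 5, nat_lit 0, nat_lit 4, nat_lit 2, nat_lit 0, nat_lit 4, nat_lit 0, nat_lit 2, nat_lit 0, nat_lit 2, nat_lit 2, nat_lit 0, nat_lit 1])) (.leaf ((nat_lit 293), [nat_lit 2, nat_lit 4, nat_lit 2, nat_lit 0, nat_lit 5, nat_lit 0, nat_lit 2, nat_lit 3, nat_lit 0, nat_lit 2, nat_lit 0]))) (.node (nat_lit 311) (.leaf ((nat_lit 294), [nat_lit 4, nat_lit 1, nat_lit 5, nat_lit 0, nat_lit 5, nat_lit 3, nat_lit 2, nat_lit 2, nat_lit 4, nat_lit 3, nat_lit 1, nat_lit 0, nat_lit 2, nat_lit 2, nat_lit 0, nat_lit 2])) (.node (nat_lit 312) (.leaf ((nat_lit 295), [nat_lit 5, nat_lit 2, nat_lit 0, nat_lit 5, nat_lit 0, nat_lit 2, nat_lit 3, nat_lit 1, nat_lit 3, nat_lit 1, nat_lit 0, nat_lit 2, nat_lit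 0, nat_lit 2, nat_lit 0])) (.leaf ((nat_lit 296), [nat_lit 5, nat_lit 1, nat_lit 3, nat_lit 2, nat_lit 5, nat_lit 2, nat_lit 2, nat_lit 4, nat_lit 2, nat_lit 4, nat_lit 2, nat_lit 2, nat_lit 0, nat_lit 2, nat_lit 2, nat_lit 0, nat_lit 2, nat_lit 2])))))
 (.node (nat_lit 316) (.node (nat_lit 314) (.leaf ((nat_lit 297), [nat_lit 5, nat_lit 3, nat_lit 2, nat_lit 0, nat_lit 5, nat_lit 0, nat_lit 3, nat_lit 4, nat_lit 2, nat_lit 2, nat_lit 0])) (.node (nat_lit 315) (.leaf ((nat_lit 298), [nat_lit 2, nat_lit 5, nat_lit 4, nat_lit 5, nat_lit 4, nat_lit 0, nat_lit 4, nat_lit 0, nat_lit 4, nat_lit 0, nat_lit 2, nat_lit 2])) (.leaf ((nat_lit 299), [nat_lit 5, nat_lit 4, nat_lit 5, nat_lit 2, nat_lit 5, nat_lit 0, nat_lit 4, nat_lit 0, nat_lit 4, nat_lit 1, nat_lit 3, nat_lit 0, nat_lit 1, nat_lit 0, nat_lit 2, nat_lit 2, nat_lit 0, nat_lit 1, nat_lit 0]))))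 (.node (nat_lit 317) (.leaf ((nat_lit 300), [nat_lit 5, nat_lit 2, nat_lit 0, nat_lit 2, nat_lit 5, nat_lit 3, nat_lit 4, nat_lit 3, nat_lit 2, nat_lit 4, nat_lit 2, nat_lit 2, nat_lit 0, nat_lit 2, nat_lit 0])) (.node (nat_lit 318) (.leaf ((nat_lit 301), [nat_lit 4, nat_lit 5, nat_lit 3, nat_lit 0, nat_lit 5, nat_lit 1, nat_lit 0, nat_lit 3, nat_lit 1, nat_lit 4, nat_lit 2, nat_lit 0, nat_lit 1, nat_lit 0, nat_lit 2, nat_lit 2, nat_lit 0])) (.leaf ((nat_lit 302), [nat_lit 4, nat_lit 2, nat_lit 5, nat_lit 4, nat_lit 2, nat_lit 3, nat_lit 0, nat_lit 4, nat_lit 0, nat_lit 1, nat_lit 0, nat_lit 2]))))))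
 (.node (nat_lit 324) (.node (nat_lit 321) (.node (nat_lit 320) (.leaf ((nat_lit 303), [nat_lit 5, nat_lit 4, nat_lit 1, nat_lit 0, nat_lit 5, nat_lit 1, nat_lit 3, nat_lit 2, nat_lit 4, nat_lit 3, nat_lit 0, nat_lit 1, nat_lit 0, nat_lit 2])) (.leaf ((nat_lit 304), [nat_lit 0, nat_lit 5, nat_lit 0, nat_lit 1, nat_lit 5, nat_lit 0, nat_lit 4, nat_lit 1, nat_lit 4, nat_lit 0, nat_lit 1, nat_lit 0, nat_lit 2]))) (.node (nat_lit 322) (.leaf ((nat_lit 305), [nat_lit 0, nat_lit 2, nat_lit 4, nat_lit 0, nat_lit 5, nat_lit 0, nat_lit 1, nat_lit 3, nat_lit 0, nat_lit 3, nat_lit 2, nat_lit 0, nat_lit 2, nat_lit 2, nat_lit 0, nat_lit 2, nat_lit 2])) (.node (nat_lit 323) (.leaf ((nat_lit 306), [nat_lit 2, nat_lit 2, nat_lit 5, nat_lit 4, nat_lit 2, nat_lit 3, nat_lit 1, nat_lit 3, nat_lit 0, nat_lit 2, nat_lit 2, nat_lit 0, nat_lit 2, nat_lit 2])) (.leaf ((nat_lit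 307), [nat_lit 2, nat_lit 0, nat_lit 2, nat_lit 5, nat_lit 1, nat_lit 3, nat_lit 4, nat_lit 3, nat_lit 2, nat_lit 2, nat_lit 0, nat_lit 2, nat_lit 2, nat_lit 0])))))
 (.node (nat_lit 327) (.node (nat_lit 325) (.leaf ((nat_lit 308), [nat_lit 3, nat_lit 0, nat_lit 5, nat_lit 3, nat_lit 5, nat_lit 1, nat_lit 3, nat_lit 1, nat_lit 3, nat_lit 0, nat_lit 2, nat_lit 2, nat_lit 0, nat_lit 2, nat_lit 2])) (.node (nat_lit 326) (.leaf ((nat_lit 309), [nat_lit 5, nat_lit 4, nat_lit 0, nat_lit 5, nat_lit 4, nat_lit 2, nat_lit 0, nat_lit 1, nat_lit 0, nat_lit 2, nat_lit 0])) (.leaf ((nat_lit 310), [nat_lit 4, nat_lit 1, nat_lit 5, nat_lit 3, nat_lit 5, nat_lit 4, nat_lit 1, nat_lit 4, nat_lit 1, nat_lit 4, nat_lit 0, nat_lit 2, nat_lit 2, nat_lit 0, nat_lit 1, nat_lit 0])))) (.node (nat_lit 328) (.leaf ((nat_lit 311), [nat_lit 3, nat_lit 1, nat_lit 5, nat_lit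 2, nat_lit 5, nat_lit 2, nat_lit 3, nat_lit 2, nat_lit 4, nat_lit 3, nat_lit 1, nat_lit 0, nat_lit 2, nat_lit 0, nat_lit 2])) (.node (nat_lit 329) (.leaf ((nat_lit 312), [nat_lit 4, nat_lit 5, nat_lit 2, nat_lit 3, nat_lit 5, nat_lit 2, nat_lit 4, nat_lit 0, nat_lit 3, nat_lit 4, nat_lit 0, nat_lit 1, nat_lit 0, nat_lit 1, nat_lit 0, nat_lit 2])) (.leaf ((nat_lit 313), [nat_lit 5, nat_lit 2, nat_lit 3, nat_lit 0, nat_lit 5, nat_lit 0, nat_lit 1, nat_lit 3, nat_lit 0, nat_lit 4, nat_lit 0, nat_lit 2, nat_lit 0, nat_lit 2, nat_lit 2, nat_lit 0, nat_lit 2, nat_lit 0])))))))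
 (.node (nat_lit 341) (.node (nat_lit 335) (.node (nat_lit 332) (.node (nat_lit 331) (.leaf ((nat_lit 314), [nat_lit 0, nat_lit 5, nat_lit 3, nat_lit 0, nat_lit 5, nat_lit 2, nat_lit 3, nat_lit 2, nat_lit 0, nat_lit 3, nat_lit 2, nat_lit 2, nat_lit 0, nat_lit 1, nat_lit 0])) (.leaf ((nat_lit 315), [nat_lit 3, nat_lit 1, nat_lit 5, nat_lit 2, nat_lit 5, nat_lit 4, nat_lit 2, nat_lit 3, nat_lit 0, nat_lit 4, nat_lit 2, nat_lit 0, nat_lit 2, nat_lit 2, nat_lit 0]))) (.node (nat_lit 333) (.leaf ((nat_lit 316), [nat_lit 5, nat_lit 3, nat_lit 5, nat_lit 3, nat_lit 0, nat_lit 4, nat_lit 2, nat_lit 2, nat_lit 0, nat_lit 2, nat_lit 2, nat_lit 0, nat_lit 2, nat_lit 2, nat_lit 0])) (.node (nat_lit 334) (.leaf ((nat_lit 317), [nat_lit 5, nat_lit 4, nat_lit 0, nat_lit 5, nat_lit 3, nat_lit 2, nat_lit 3, nat_lit 2, nat_lit 0, nat_lit 3, nat_lit 0, nat_lit 2, nat_lit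 0, nat_lit 2, nat_lit 2, nat_lit 0, nat_lit 2])) (.leaf ((nat_lit 95), [nat_lit 5, nat_lit 4, nat_lit 5, nat_lit 3, nat_lit 5, nat_lit 2, nat_lit 2, nat_lit 4, nat_lit 1, nat_lit 0, nat_lit 3, nat_lit 0, nat_lit 2, nat_lit 2, nat_lit 0])))))
 (.node (nat_lit 338) (.node (nat_lit 336) (.leaf ((nat_lit 318), [nat_lit 0, nat_lit 5, nat_lit 1, nat_lit 3, nat_lit 0, nat_lit 3, nat_lit 2, nat_lit 3, nat_lit 2, nat_lit 2, nat_lit 0, nat_lit 1, nat_lit 0, nat_lit 2, nat_lit 0])) (.node (nat_lit 337) (.leaf ((nat_lit 311), [nat_lit 4, nat_lit 5, nat_lit 3, nat_lit 1, nat_lit 3, nat_lit 0, nat_lit 2, nat_lit 0, nat_lit 2, nat_lit 2, nat_lit 0, nat_lit 2])) (.leaf ((nat_lit 319), [nat_lit 3, nat_lit 5, nat_lit 0, nat_lit 3, nat_lit 5, nat_lit 4, nat_lit 0, nat_lit 4, nat_lit 2, nat_lit 0, nat_lit 3, nat_lit 2, nat_lit 0, nat_lit 1, nat_lit 0])))) (.node (nat_lit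 339) (.leaf ((nat_lit 320), [nat_lit 0, nat_lit 3, nat_lit 5, nat_lit 4, nat_lit 3, nat_lit 2, nat_lit 4, nat_lit 3, nat_lit 2, nat_lit 2, nat_lit 0, nat_lit 2, nat_lit 2, nat_lit 0, nat_lit 1])) (.node (nat_lit 340) (.leaf ((nat_lit 321), [nat_lit 4, nat_lit 0, nat_lit 5, nat_lit 4, nat_lit 0, nat_lit 2, nat_lit 4, nat_lit 2, nat_lit 2, nat_lit 0, nat_lit 1, nat_lit 0, nat_lit 2, nat_lit 2, nat_lit 0])) (.leaf ((nat_lit 322), [nat_lit 3, nat_lit 2, nat_lit 0, nat_lit 5, nat_lit 3, nat_lit 1, nat_lit 4, nat_lit 1, nat_lit 3, nat_lit 1, nat_lit 0, nat_lit 2, nat_lit 2, nat_lit 0, nat_lit 2, nat_lit 2]))))))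
 (.node (nat_lit 346) (.node (nat_lit 343) (.node (nat_lit 342) (.leaf ((nat_lit 323), [nat_lit 4, nat_lit 2, nat_lit 5, nat_lit 1, nat_lit 5, nat_lit 3, nat_lit 4, nat_lit 3, nat_lit 1, nat_lit 3, nat_lit 2, nat_lit 0, nat_lit 2, nat_lit 0, nat_lit 1])) (.leaf ((nat_lit 324), [nat_lit 4, nat_lit 3, nat_lit 2, nat_lit 5, nat_lit 1, nat_lit 4, nat_lit 1, nat_lit 4, nat_lit 3, nat_lit 0, nat_lit 1, nat_lit 0, nat_lit 2, nat_lit 2, nat_lit 0, nat_lit 1]))) (.node (nat_lit 344) (.leaf ((nat_lit 325), [nat_lit 5, nat_lit 0, nat_lit 1, nat_lit 5, nat_lit 1, nat_lit 4, nat_lit 1, nat_lit 4, nat_lit 1, nat_lit 0, nat_lit 2, nat_lit 2, nat_lit 0, nat_lit 2, nat_lit 2, nat_lit 0])) (.node (nat_lit 345) (.leaf ((nat_lit 326), [nat_lit 5, nat_lit 2, nat_lit 0, nat_lit 2, nat_lit 5, nat_lit 0, nat_lit 3, nat_lit 4, nat_lit 2, nat_lit 0, nat_lit 1, nat_lit 0,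 nat_lit 2, nat_lit 2])) (.leaf ((nat_lit 327), [nat_lit 0, nat_lit 4, nat_lit 2, nat_lit 0, nat_lit 5, nat_lit 0, nat_lit 3, nat_lit 2, nat_lit 3, nat_lit 0, nat_lit 1, nat_lit 0, nat_lit 2, nat_lit 0, nat_lit 2, nat_lit 2])))))
 (.node (nat_lit 349) (.node (nat_lit 347) (.leaf ((nat_lit 328), [nat_lit 4, nat_lit 3, nat_lit 0, nat_lit 5, nat_lit 3, nat_lit 0, nat_lit 4, nat_lit 1, nat_lit 3, nat_lit 0, nat_lit 2, nat_lit 2, nat_lit 0, nat_lit 1, nat_lit 0, nat_lit 2, nat_lit 0])) (.node (nat_lit 348) (.leaf ((nat_lit 329), [nat_lit 4, nat_lit 5, nat_lit 3, nat_lit 0, nat_lit 5, nat_lit 1, nat_lit 0, nat_lit 1, nat_lit 4, nat_lit 3, nat_lit 1, nat_lit 0, nat_lit 1, nat_lit 0, nat_lit 2, nat_lit 2])) (.leaf ((nat_lit 30), [nat_lit 5, nat_lit 2, nat_lit 4, nat_lit 0, nat_lit 5, nat_lit 3, nat_lit 0, nat_lit 1, nat_lit 0, nat_lit 3, nat_lit 2, nat_lit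 0, nat_lit 1, nat_lit 0, nat_lit 2])))) (.node (nat_lit 350) (.leaf ((nat_lit 330), [nat_lit 4, nat_lit 2, nat_lit 5, nat_lit 4, nat_lit 1, nat_lit 3, nat_lit 0, nat_lit 3, nat_lit 2, nat_lit 0, nat_lit 2, nat_lit 0])) (.node (nat_lit 351) (.leaf ((nat_lit 222), [nat_lit 4, nat_lit 2, nat_lit 0, nat_lit 5, nat_lit 3, nat_lit 4, nat_lit 0, nat_lit 2, nat_lit 2, nat_lit 3, nat_lit 2, nat_lit 0, nat_lit 1, nat_lit 0, nat_lit 2, nat_lit 2, nat_lit 0])) (.leaf ((nat_lit 331), [nat_lit 2, nat_lit 3, nat_lit 5, nat_lit 0, nat_lit 5, nat_lit 1, nat_lit 4, nat_lit 1, nat_lit 4, nat_lit 3, nat_lit 1, nat_lit 0, nat_lit 1, nat_lit 0, nat_lit 2, nat_lit 0, nat_lit 2, nat_lit 0]))))))))))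
noncomputable def qWd_2 : Tr (ℕ × List ℕ) := (.node (nat_lit 440) (.node (nat_lit 396) (.node (nat_lit 374) (.node (nat_lit 363) (.node (nat_lit 357) (.node (nat_lit 354) (.node (nat_lit 353) (.leaf ((nat_lit 332), [nat_lit 2, nat_lit 3, nat_lit 0, nat_lit 5, nat_lit 3, nat_lit 0, nat_lit 4, nat_lit 3, nat_lit 0, nat_lit 3, nat_lit 0, nat_lit 1, nat_lit 0, nat_lit 2, nat_lit 2, nat_lit 0, nat_lit 1])) (.leaf ((nat_lit 163), [nat_lit 3, nat_lit 5, nat_lit 0, nat_lit 5, nat_lit 3, nat_lit 1, nat_lit 3, nat_lit 4, nat_lit 3, nat_lit 1, nat_lit 0, nat_lit 2, nat_lit 0, nat_lit 2, nat_lit 2, nat_lit 0]))) (.node (nat_lit 355) (.leaf ((nat_lit 259), [nat_lit 4, nat_lit 5, nat_lit 4, nat_lit 2, nat_lit 3, nat_lit 1, nat_lit 3, nat_lit 0])) (.node (nat_lit 356) (.leaf ((nat_lit 333), [nat_lit 0, nat_lit 5, nat_lit 2, nat_lit 5, nat_lit 3, nat_lit 0, nat_lit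 4, nat_lit 2, nat_lit 0, nat_lit 1, nat_lit 0, nat_lit 1, nat_lit 0])) (.leaf ((nat_lit 334), [nat_lit 1, nat_lit 5, nat_lit 0, nat_lit 5, nat_lit 4, nat_lit 2, nat_lit 3, nat_lit 0, nat_lit 3, nat_lit 2, nat_lit 0, nat_lit 1, nat_lit 0])))))
 (.node (nat_lit 360) (.node (nat_lit 358) (.leaf ((nat_lit 335), [nat_lit 5, nat_lit 4, nat_lit 3, nat_lit 0, nat_lit 5, nat_lit 4, nat_lit 0, nat_lit 4, nat_lit 0, nat_lit 4, nat_lit 0, nat_lit 2, nat_lit 0, nat_lit 2, nat_lit 2, nat_lit 0, nat_lit 1, nat_lit 0])) (.node (nat_lit 359) (.leaf ((nat_lit 336), [nat_lit 4, nat_lit 5, nat_lit 3, nat_lit 0, nat_lit 4, nat_lit 1, nat_lit 3, nat_lit 0, nat_lit 1, nat_lit 0, nat_lit 2, nat_lit 2, nat_lit 0, nat_lit 2])) (.leaf ((nat_lit 337), [nat_lit 0, nat_lit 5, nat_lit 0, nat_lit 1, nat_lit 5, nat_lit 2, nat_lit 3, nat_lit 2, nat_lit 4, nat_lit 3, nat_lit 0, nat_lit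 2, nat_lit 2, nat_lit 0, nat_lit 1])))) (.node (nat_lit 361) (.leaf ((nat_lit 338), [nat_lit 5, nat_lit 3, nat_lit 2, nat_lit 0, nat_lit 5, nat_lit 4, nat_lit 2, nat_lit 2, nat_lit 4, nat_lit 1, nat_lit 0, nat_lit 3, nat_lit 0, nat_lit 2, nat_lit 0, nat_lit 2, nat_lit 0])) (.node (nat_lit 362) (.leaf ((nat_lit 339), [nat_lit 5, nat_lit 1, nat_lit 3, nat_lit 2, nat_lit 5, nat_lit 2, nat_lit 3, nat_lit 0, nat_lit 3, nat_lit 2, nat_lit 2, nat_lit 0, nat_lit 2, nat_lit 2, nat_lit 0, nat_lit 2, nat_lit 0])) (.leaf ((nat_lit 340), [nat_lit 3, nat_lit 1, nat_lit 3, nat_lit 0, nat_lit 5, nat_lit 2, nat_lit 2, nat_lit 3, nat_lit 2, nat_lit 4, nat_lit 0, nat_lit 1, nat_lit 0, nat_lit 1]))))))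
 (.node (nat_lit 368) (.node (nat_lit 365) (.node (nat_lit 364) (.leaf ((nat_lit 341), [nat_lit 4, nat_lit 5, nat_lit 3, nat_lit 4, nat_lit 1, nat_lit 3, nat_lit 1, nat_lit 3, nat_lit 2, nat_lit 2, nat_lit 0, nat_lit 2, nat_lit 2, nat_lit 0, nat_lit 1])) (.leaf ((nat_lit 342), [nat_lit 5, nat_lit 4, nat_lit 3, nat_lit 2, nat_lit 5, nat_lit 1, nat_lit 3, nat_lit 2, nat_lit 0, nat_lit 1, nat_lit 0, nat_lit 2, nat_lit 2, nat_lit 0]))) (.node (nat_lit 366) (.leaf ((nat_lit 343), [nat_lit 5, nat_lit 1, nat_lit 3, nat_lit 0, nat_lit 5, nat_lit 4, nat_lit 0, nat_lit 4, nat_lit 3, nat_lit 1, nat_lit 0, nat_lit 1, nat_lit 0])) (.node (nat_lit 367) (.leaf ((nat_lit 344), [nat_lit 3, nat_lit 5, nat_lit 0, nat_lit 2, nat_lit 2, nat_lit 0, nat_lit 4, nat_lit 0, nat_lit 2, nat_lit 0, nat_lit 2, nat_lit 2, nat_lit 0])) (.leaf ((nat_lit 1), [nat_lit 3, nat_lit 5,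 nat_lit 4, nat_lit 0, nat_lit 3, nat_lit 4, nat_lit 3, nat_lit 1, nat_lit 0, nat_lit 1, nat_lit 0, nat_lit 2, nat_lit 0])))))
 (.node (nat_lit 371) (.node (nat_lit 369) (.leaf ((nat_lit 345), [nat_lit 0, nat_lit 2, nat_lit 5, nat_lit 3, nat_lit 5, nat_lit 4, nat_lit 1, nat_lit 3, nat_lit 4, nat_lit 2, nat_lit 3, nat_lit 0, nat_lit 1, nat_lit 0, nat_lit 1, nat_lit 0, nat_lit 2])) (.node (nat_lit 370) (.leaf ((nat_lit 346), [nat_lit 3, nat_lit 0, nat_lit 5, nat_lit 3, nat_lit 2, nat_lit 4, nat_lit 3, nat_lit 2, nat_lit 3, nat_lit 1, nat_lit 0, nat_lit 2, nat_lit 0, nat_lit 2])) (.leaf ((nat_lit 347), [nat_lit 4, nat_lit 1, nat_lit 5, nat_lit 3, nat_lit 5, nat_lit 3, nat_lit 0, nat_lit 4, nat_lit 2, nat_lit 0, nat_lit 3, nat_lit 2, nat_lit 0, nat_lit 1, nat_lit 0, nat_lit 2, nat_lit 0, nat_lit 2])))) (.node (nat_lit 372) (.leaf ((nat_lit 348), [nat_lit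 2, nat_lit 0, nat_lit 2, nat_lit 5, nat_lit 3, nat_lit 0, nat_lit 4, nat_lit 3, nat_lit 0, nat_lit 4, nat_lit 0, nat_lit 2])) (.node (nat_lit 373) (.leaf ((nat_lit 349), [nat_lit 0, nat_lit 3, nat_lit 0, nat_lit 1, nat_lit 4, nat_lit 2, nat_lit 0, nat_lit 2, nat_lit 2, nat_lit 0, nat_lit 1])) (.leaf ((nat_lit 350), [nat_lit 5, nat_lit 1, nat_lit 5, nat_lit 3, nat_lit 1, nat_lit 0, nat_lit 4, nat_lit 1, nat_lit 3, nat_lit 2, nat_lit 0, nat_lit 2, nat_lit 0, nat_lit 1, nat_lit 0])))))))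
 (.node (nat_lit 385) (.node (nat_lit 379) (.node (nat_lit 376) (.node (nat_lit 375) (.leaf ((nat_lit 351), [nat_lit 5, nat_lit 2, nat_lit 0, nat_lit 2, nat_lit 5, nat_lit 3, nat_lit 4, nat_lit 0, nat_lit 3, nat_lit 0, nat_lit 2, nat_lit 0, nat_lit 2, nat_lit 0])) (.leaf ((nat_lit 64), [nat_lit 3, nat_lit 1, nat_lit 5, nat_lit 2, nat_lit 5, nat_lit 4, nat_lit 1, nat_lit 3, nat_lit 0, nat_lit 1, nat_lit 4, nat_lit 0, nat_lit 2, nat_lit 2, nat_lit 0, nat_lit 2, nat_lit 0]))) (.node (nat_lit 377) (.leaf ((nat_lit 352), [nat_lit 3, nat_lit 5, nat_lit 0, nat_lit 5, nat_lit 3, nat_lit 1, nat_lit 4, nat_lit 3, nat_lit 0, nat_lit 3, nat_lit 1, nat_lit 0, nat_lit 2, nat_lit 2])) (.node (nat_lit 378) (.leaf ((nat_lit 353), [nat_lit 0, nat_lit 4, nat_lit 5, nat_lit 1, nat_lit 3, nat_lit 0, nat_lit 2, nat_lit 4, nat_lit 0, nat_lit 1, nat_lit 0, nat_lit 1]))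 (.leaf ((nat_lit 354), [nat_lit 5, nat_lit 2, nat_lit 2, nat_lit 0, nat_lit 5, nat_lit 2, nat_lit 2, nat_lit 3, nat_lit 4, nat_lit 3, nat_lit 2, nat_lit 0])))))
 (.node (nat_lit 382) (.node (nat_lit 380) (.leaf ((nat_lit 355), [nat_lit 0, nat_lit 1, nat_lit 5, nat_lit 2, nat_lit 0, nat_lit 2, nat_lit 2, nat_lit 3, nat_lit 2, nat_lit 2, nat_lit 0, nat_lit 2, nat_lit 2, nat_lit 0, nat_lit 2, nat_lit 2, nat_lit 0])) (.node (nat_lit 381) (.leaf ((nat_lit 356), [nat_lit 4, nat_lit 0, nat_lit 5, nat_lit 2, nat_lit 5, nat_lit 4, nat_lit 1, nat_lit 0, nat_lit 3, nat_lit 1, nat_lit 4, nat_lit 1, nat_lit 0, nat_lit 1, nat_lit 0, nat_lit 2, nat_lit 0, nat_lit 2, nat_lit 0])) (.leaf ((nat_lit 357), [nat_lit 5, nat_lit 2, nat_lit 5, nat_lit 4, nat_lit 2, nat_lit 4, nat_lit 1, nat_lit 0, nat_lit 3, nat_lit 0])))) (.node (nat_lit 383) (.leaf ((nat_lit 358), [nat_lit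 3, nat_lit 1, nat_lit 5, nat_lit 0, nat_lit 5, nat_lit 1, nat_lit 3, nat_lit 0, nat_lit 3, nat_lit 2, nat_lit 2, nat_lit 0, nat_lit 1, nat_lit 0, nat_lit 2, nat_lit 2])) (.node (nat_lit 384) (.leaf ((nat_lit 359), [nat_lit 1, nat_lit 0, nat_lit 5, nat_lit 3, nat_lit 5, nat_lit 0, nat_lit 2, nat_lit 4, nat_lit 2, nat_lit 4, nat_lit 0, nat_lit 1, nat_lit 0, nat_lit 2, nat_lit 0, nat_lit 2, nat_lit 2])) (.leaf ((nat_lit 193), [nat_lit 5, nat_lit 4, nat_lit 2, nat_lit 5, nat_lit 4, nat_lit 1, nat_lit 0, nat_lit 3, nat_lit 4, nat_lit 0, nat_lit 1, nat_lit 0, nat_lit 2]))))))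
 (.node (nat_lit 390) (.node (nat_lit 387) (.node (nat_lit 386) (.leaf ((nat_lit 360), [nat_lit 3, nat_lit 1, nat_lit 5, nat_lit 0, nat_lit 5, nat_lit 1, nat_lit 0, nat_lit 3, nat_lit 1, nat_lit 4, nat_lit 2, nat_lit 2, nat_lit 0, nat_lit 1, nat_lit 0, nat_lit 2])) (.leaf ((nat_lit 361), [nat_lit 4, nat_lit 5, nat_lit 3, nat_lit 2, nat_lit 5, nat_lit 4, nat_lit 1, nat_lit 3, nat_lit 4, nat_lit 3, nat_lit 0, nat_lit 1, nat_lit 0, nat_lit 2, nat_lit 2]))) (.node (nat_lit 388) (.leaf ((nat_lit 362), [nat_lit 5, nat_lit 2, nat_lit 4, nat_lit 3, nat_lit 2, nat_lit 3, nat_lit 1, nat_lit 0, nat_lit 2, nat_lit 2, nat_lit 0, nat_lit 1, nat_lit 0])) (.node (nat_lit 389) (.leaf ((nat_lit 363), [nat_lit 4, nat_lit 3, nat_lit 5, nat_lit 2, nat_lit 5, nat_lit 0, nat_lit 2, nat_lit 4, nat_lit 2, nat_lit 0, nat_lit 1, nat_lit 0, nat_lit 2, nat_lit 2, nat_lit 0]))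 (.leaf ((nat_lit 364), [nat_lit 4, nat_lit 2, nat_lit 5, nat_lit 4, nat_lit 1, nat_lit 4, nat_lit 1, nat_lit 4, nat_lit 3, nat_lit 0, nat_lit 2, nat_lit 0, nat_lit 2, nat_lit 2])))))
 (.node (nat_lit 393) (.node (nat_lit 391) (.leaf ((nat_lit 199), [nat_lit 2, nat_lit 4, nat_lit 0, nat_lit 5, nat_lit 3, nat_lit 0, nat_lit 3, nat_lit 2, nat_lit 4, nat_lit 1, nat_lit 0, nat_lit 1, nat_lit 0, nat_lit 2, nat_lit 0, nat_lit 2])) (.node (nat_lit 392) (.leaf ((nat_lit 310), [nat_lit 4, nat_lit 5, nat_lit 3, nat_lit 2, nat_lit 5, nat_lit 2, nat_lit 4, nat_lit 0, nat_lit 4, nat_lit 3, nat_lit 0, nat_lit 1, nat_lit 0, nat_lit 2, nat_lit 0, nat_lit 2, nat_lit 2])) (.leaf ((nat_lit 365), [nat_lit 3, nat_lit 0, nat_lit 5, nat_lit 3, nat_lit 5, nat_lit 0, nat_lit 3, nat_lit 1, nat_lit 4, nat_lit 2, nat_lit 0, nat_lit 2, nat_lit 0, nat_lit 1, nat_lit 0, nat_lit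 1])))) (.node (nat_lit 394) (.leaf ((nat_lit 366), [nat_lit 2, nat_lit 2, nat_lit 5, nat_lit 1, nat_lit 5, nat_lit 4, nat_lit 0, nat_lit 3, nat_lit 0, nat_lit 2, nat_lit 3, nat_lit 2, nat_lit 2, nat_lit 0, nat_lit 2, nat_lit 2, nat_lit 0, nat_lit 1, nat_lit 0])) (.node (nat_lit 395) (.leaf ((nat_lit 367), [nat_lit 2, nat_lit 5, nat_lit 3, nat_lit 5, nat_lit 0, nat_lit 1, nat_lit 0, nat_lit 3, nat_lit 1, nat_lit 0, nat_lit 2, nat_lit 2])) (.leaf ((nat_lit 368), [nat_lit 1, nat_lit 5, nat_lit 1, nat_lit 5, nat_lit 3, nat_lit 1, nat_lit 3, nat_lit 4, nat_lit 3, nat_lit 2, nat_lit 0, nat_lit 2, nat_lit 2, nat_lit 0, nat_lit 1]))))))))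
 (.node (nat_lit 418) (.node (nat_lit 407) (.node (nat_lit 401) (.node (nat_lit 398) (.node (nat_lit 397) (.leaf ((nat_lit 369), [nat_lit 5, nat_lit 4, nat_lit 5, nat_lit 2, nat_lit 5, nat_lit 1, nat_lit 3, nat_lit 4, nat_lit 0, nat_lit 2, nat_lit 4, nat_lit 0, nat_lit 2, nat_lit 2, nat_lit 0, nat_lit 1])) (.leaf ((nat_lit 370), [nat_lit 3, nat_lit 4, nat_lit 5, nat_lit 4, nat_lit 0, nat_lit 1, nat_lit 0, nat_lit 3, nat_lit 1, nat_lit 0, nat_lit 2, nat_lit 0, nat_lit 1]))) (.node (nat_lit 399) (.leaf ((nat_lit 371), [nat_lit 1, nat_lit 5, nat_lit 0, nat_lit 5, nat_lit 4, nat_lit 0, nat_lit 3, nat_lit 2, nat_lit 3, nat_lit 1, nat_lit 0, nat_lit 2])) (.node (nat_lit 400) (.leaf ((nat_lit 372), [nat_lit 5, nat_lit 4, nat_lit 5, nat_lit 3, nat_lit 0, nat_lit 4, nat_lit 3, nat_lit 2, nat_lit 3, nat_lit 0, nat_lit 2, nat_lit 0])) (.leaf ((nat_lit 373),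 [nat_lit 3, nat_lit 5, nat_lit 1, nat_lit 3, nat_lit 2, nat_lit 5, nat_lit 1, nat_lit 0, nat_lit 3, nat_lit 1, nat_lit 3, nat_lit 2, nat_lit 2, nat_lit 0, nat_lit 2, nat_lit 2, nat_lit 0])))))
 (.node (nat_lit 404) (.node (nat_lit 402) (.leaf ((nat_lit 374), [nat_lit 1, nat_lit 3, nat_lit 0, nat_lit 5, nat_lit 0, nat_lit 4, nat_lit 2, nat_lit 2, nat_lit 0, nat_lit 1])) (.node (nat_lit 403) (.leaf ((nat_lit 375), [nat_lit 0, nat_lit 3, nat_lit 5, nat_lit 2, nat_lit 2, nat_lit 0, nat_lit 4, nat_lit 0, nat_lit 2, nat_lit 2, nat_lit 0, nat_lit 2, nat_lit 0, nat_lit 1, nat_lit 0])) (.leaf ((nat_lit 376), [nat_lit 2, nat_lit 0, nat_lit 5, nat_lit 4, nat_lit 3, nat_lit 1, nat_lit 4, nat_lit 0, nat_lit 2, nat_lit 2])))) (.node (nat_lit 405) (.leaf ((nat_lit 377), [nat_lit 5, nat_lit 1, nat_lit 0, nat_lit 2, nat_lit 5, nat_lit 3, nat_lit 0, nat_lit 4, nat_lit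 1])) (.node (nat_lit 406) (.leaf ((nat_lit 378), [nat_lit 4, nat_lit 1, nat_lit 5, nat_lit 0, nat_lit 5, nat_lit 2, nat_lit 0, nat_lit 2, nat_lit 2, nat_lit 3, nat_lit 0, nat_lit 1, nat_lit 0])) (.leaf ((nat_lit 379), [nat_lit 4, nat_lit 5, nat_lit 3, nat_lit 0, nat_lit 5, nat_lit 4, nat_lit 3, nat_lit 2, nat_lit 4, nat_lit 3, nat_lit 2, nat_lit 0, nat_lit 1, nat_lit 0, nat_lit 2, nat_lit 0, nat_lit 2, nat_lit 0]))))))
 (.node (nat_lit 412) (.node (nat_lit 409) (.node (nat_lit 408) (.leaf ((nat_lit 380), [nat_lit 0, nat_lit 5, nat_lit 2, nat_lit 0, nat_lit 5, nat_lit 3, nat_lit 0, nat_lit 3, nat_lit 1, nat_lit 4, nat_lit 0, nat_lit 2, nat_lit 2, nat_lit 0, nat_lit 2, nat_lit 0, nat_lit 1, nat_lit 0])) (.leaf ((nat_lit 381), [nat_lit 3, nat_lit 2, nat_lit 3, nat_lit 5, nat_lit 3, nat_lit 1, nat_lit 4, nat_lit 1, nat_lit 0, nat_lit 2]))) (.node (nat_lit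 410) (.leaf ((nat_lit 382), [nat_lit 4, nat_lit 5, nat_lit 4, nat_lit 2, nat_lit 0, nat_lit 3, nat_lit 0, nat_lit 4, nat_lit 1, nat_lit 0, nat_lit 2, nat_lit 0])) (.node (nat_lit 411) (.leaf ((nat_lit 383), [nat_lit 5, nat_lit 2, nat_lit 2, nat_lit 0, nat_lit 5, nat_lit 3, nat_lit 4, nat_lit 1, nat_lit 3, nat_lit 2, nat_lit 2, nat_lit 0, nat_lit 1, nat_lit 0])) (.leaf ((nat_lit 384), [nat_lit 0, nat_lit 5, nat_lit 3, nat_lit 0, nat_lit 5, nat_lit 4, nat_lit 1, nat_lit 3, nat_lit 4, nat_lit 0, nat_lit 1])))))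
 (.node (nat_lit 415) (.node (nat_lit 413) (.leaf ((nat_lit 385), [nat_lit 2, nat_lit 5, nat_lit 4, nat_lit 5, nat_lit 4, nat_lit 1, nat_lit 4, nat_lit 2, nat_lit 4, nat_lit 3, nat_lit 2, nat_lit 2, nat_lit 0, nat_lit 2, nat_lit 2, nat_lit 0, nat_lit 2])) (.node (nat_lit 414) (.leaf ((nat_lit 386), [nat_lit 3, nat_lit 5, nat_lit 2, nat_lit 3, nat_lit 0, nat_lit 5, nat_lit 0, nat_lit 3, nat_lit 4])) (.leaf ((nat_lit 387), [nat_lit 3, nat_lit 5, nat_lit 2, nat_lit 5, nat_lit 1, nat_lit 0, nat_lit 4, nat_lit 3, nat_lit 0, nat_lit 2, nat_lit 2, nat_lit 0, nat_lit 1])))) (.node (nat_lit 416) (.leaf ((nat_lit 388), [nat_lit 0, nat_lit 4, nat_lit 5, nat_lit 3, nat_lit 2, nat_lit 0, nat_lit 2, nat_lit 3, nat_lit 2])) (.node (nat_lit 417) (.leaf ((nat_lit 389), [nat_lit 1, nat_lit 4, nat_lit 2, nat_lit 5, nat_lit 3, nat_lit 0, nat_lit 4, nat_lit 2, nat_lit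 2, nat_lit 0, nat_lit 1, nat_lit 0, nat_lit 2, nat_lit 0])) (.leaf ((nat_lit 390), [nat_lit 1, nat_lit 0, nat_lit 5, nat_lit 3, nat_lit 5, nat_lit 4, nat_lit 0, nat_lit 2, nat_lit 3, nat_lit 2, nat_lit 0, nat_lit 3, nat_lit 1])))))))
 (.node (nat_lit 429) (.node (nat_lit 423) (.node (nat_lit 420) (.node (nat_lit 419) (.leaf ((nat_lit 391), [nat_lit 0, nat_lit 5, nat_lit 3, nat_lit 1, nat_lit 0, nat_lit 4, nat_lit 0, nat_lit 2, nat_lit 0, nat_lit 2, nat_lit 2, nat_lit 0, nat_lit 2])) (.leaf ((nat_lit 392), [nat_lit 2, nat_lit 0, nat_lit 1, nat_lit 5, nat_lit 4, nat_lit 1, nat_lit 4, nat_lit 2, nat_lit 4, nat_lit 1, nat_lit 0, nat_lit 2, nat_lit 2, nat_lit 0, nat_lit 1, nat_lit 0]))) (.node (nat_lit 421) (.leaf ((nat_lit 393), [nat_lit 4, nat_lit 0, nat_lit 5, nat_lit 2, nat_lit 5, nat_lit 2, nat_lit 4, nat_lit 2, nat_lit 0, nat_lit 3, nat_lit 0, nat_lit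 2, nat_lit 2, nat_lit 0])) (.node (nat_lit 422) (.leaf ((nat_lit 107), [nat_lit 5, nat_lit 4, nat_lit 5, nat_lit 1, nat_lit 5, nat_lit 3, nat_lit 0, nat_lit 4, nat_lit 1, nat_lit 0, nat_lit 1, nat_lit 0, nat_lit 2])) (.leaf ((nat_lit 394), [nat_lit 4, nat_lit 3, nat_lit 2, nat_lit 5, nat_lit 2, nat_lit 2, nat_lit 4, nat_lit 3, nat_lit 1, nat_lit 0, nat_lit 2, nat_lit 0])))))
 (.node (nat_lit 426) (.node (nat_lit 424) (.leaf ((nat_lit 395), [nat_lit 1, nat_lit 5, nat_lit 2, nat_lit 5, nat_lit 3, nat_lit 2, nat_lit 3, nat_lit 2, nat_lit 0, nat_lit 2])) (.node (nat_lit 425) (.leaf ((nat_lit 396), [nat_lit 3, nat_lit 2, nat_lit 3, nat_lit 5, nat_lit 0, nat_lit 1, nat_lit 0, nat_lit 1, nat_lit 0, nat_lit 3, nat_lit 0, nat_lit 1, nat_lit 0, nat_lit 2, nat_lit 2, nat_lit 0, nat_lit 1])) (.leaf ((nat_lit 397), [nat_lit 4, nat_lit 0, nat_lit 5, nat_lit 2,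 nat_lit 5, nat_lit 4, nat_lit 3, nat_lit 0, nat_lit 2, nat_lit 3, nat_lit 0, nat_lit 1, nat_lit 0, nat_lit 1, nat_lit 0, nat_lit 2])))) (.node (nat_lit 427) (.leaf ((nat_lit 398), [nat_lit 5, nat_lit 1, nat_lit 3, nat_lit 2, nat_lit 5, nat_lit 2, nat_lit 3, nat_lit 2, nat_lit 3, nat_lit 2, nat_lit 2, nat_lit 0, nat_lit 2, nat_lit 2])) (.node (nat_lit 428) (.leaf ((nat_lit 399), [nat_lit 4, nat_lit 0, nat_lit 5, nat_lit 3, nat_lit 2, nat_lit 4, nat_lit 3, nat_lit 2, nat_lit 0, nat_lit 1, nat_lit 0, nat_lit 1, nat_lit 0, nat_lit 2, nat_lit 0])) (.leaf ((nat_lit 400), [nat_lit 5, nat_lit 4, nat_lit 2, nat_lit 5, nat_lit 4, nat_lit 2, nat_lit 3, nat_lit 0, nat_lit 3, nat_lit 2, nat_lit 2, nat_lit 0, nat_lit 2]))))))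
 (.node (nat_lit 434) (.node (nat_lit 431) (.node (nat_lit 430) (.leaf ((nat_lit 401), [nat_lit 3, nat_lit 5, nat_lit 0, nat_lit 3, nat_lit 5, nat_lit 3, nat_lit 1, nat_lit 3, nat_lit 0, nat_lit 2, nat_lit 4, nat_lit 1, nat_lit 0, nat_lit 1, nat_lit 0, nat_lit 2, nat_lit 2, nat_lit 0])) (.leaf ((nat_lit 402), [nat_lit 5, nat_lit 2, nat_lit 0, nat_lit 2, nat_lit 5, nat_lit 2, nat_lit 4, nat_lit 2, nat_lit 3, nat_lit 2, nat_lit 3, nat_lit 1, nat_lit 0, nat_lit 2]))) (.node (nat_lit 432) (.leaf ((nat_lit 403), [nat_lit 3, nat_lit 0, nat_lit 5, nat_lit 4, nat_lit 3, nat_lit 2, nat_lit 4, nat_lit 3, nat_lit 2, nat_lit 0, nat_lit 1, nat_lit 0, nat_lit 1])) (.node (nat_lit 433) (.leaf ((nat_lit 404), [nat_lit 2, nat_lit 2, nat_lit 5, nat_lit 1, nat_lit 0, nat_lit 4, nat_lit 1, nat_lit 4, nat_lit 2, nat_lit 0, nat_lit 1, nat_lit 0, nat_lit 2])) (.leaf ((nat_lit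 240), [nat_lit 4, nat_lit 3, nat_lit 2, nat_lit 5, nat_lit 2, nat_lit 2, nat_lit 3, nat_lit 2, nat_lit 2, nat_lit 3, nat_lit 2, nat_lit 0, nat_lit 2, nat_lit 2, nat_lit 0, nat_lit 2, nat_lit 0])))))
 (.node (nat_lit 437) (.node (nat_lit 435) (.leaf ((nat_lit 405), [nat_lit 2, nat_lit 0, nat_lit 5, nat_lit 3, nat_lit 4, nat_lit 3, nat_lit 2, nat_lit 3, nat_lit 1, nat_lit 0, nat_lit 2, nat_lit 0])) (.node (nat_lit 436) (.leaf ((nat_lit 406), [nat_lit 5, nat_lit 4, nat_lit 3, nat_lit 0, nat_lit 5, nat_lit 1, nat_lit 3, nat_lit 2, nat_lit 2, nat_lit 3, nat_lit 1, nat_lit 0, nat_lit 2, nat_lit 0, nat_lit 2])) (.leaf ((nat_lit 407), [nat_lit 2, nat_lit 5, nat_lit 2, nat_lit 3, nat_lit 5, nat_lit 4, nat_lit 3, nat_lit 0, nat_lit 4, nat_lit 1, nat_lit 0, nat_lit 1, nat_lit 0, nat_lit 2])))) (.node (nat_lit 438) (.leaf ((nat_lit 408), [nat_lit 4, nat_lit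 2, nat_lit 5, nat_lit 4, nat_lit 1, nat_lit 4, nat_lit 2, nat_lit 2])) (.node (nat_lit 439) (.leaf ((nat_lit 409), [nat_lit 3, nat_lit 5, nat_lit 4, nat_lit 3, nat_lit 0, nat_lit 4, nat_lit 2, nat_lit 2, nat_lit 0])) (.leaf ((nat_lit 410), [nat_lit 5, nat_lit 2, nat_lit 0, nat_lit 2, nat_lit 5, nat_lit 2, nat_lit 4, nat_lit 2, nat_lit 2, nat_lit 4, nat_lit 3, nat_lit 2, nat_lit 0, nat_lit 2, nat_lit 0, nat_lit 1, nat_lit 0, nat_lit 1, nat_lit 0])))))))))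
 (.node (nat_lit 484) (.node (nat_lit 462) (.node (nat_lit 451) (.node (nat_lit 445) (.node (nat_lit 442) (.node (nat_lit 441) (.leaf ((nat_lit 207), [nat_lit 0, nat_lit 5, nat_lit 0, nat_lit 1, nat_lit 5, nat_lit 3, nat_lit 4, nat_lit 0, nat_lit 3, nat_lit 4, nat_lit 2, nat_lit 0, nat_lit 1, nat_lit 0, nat_lit 2, nat_lit 0, nat_lit 2, nat_lit 0])) (.leaf ((nat_lit 411), [nat_lit 3, nat_lit 5, nat_lit 2, nat_lit 5, nat_lit 2, nat_lit 0, nat_lit 1, nat_lit 4, nat_lit 3, nat_lit 2, nat_lit 0, nat_lit 2, nat_lit 2, nat_lit 0]))) (.node (nat_lit 443) (.leaf ((nat_lit 412), [nat_lit 4, nat_lit 5, nat_lit 4, nat_lit 0, nat_lit 5, nat_lit 3, nat_lit 4, nat_lit 2, nat_lit 0, nat_lit 2, nat_lit 3, nat_lit 2, nat_lit 2])) (.node (nat_lit 444) (.leaf ((nat_lit 413), [nat_lit 1, nat_lit 5, nat_lit 2, nat_lit 5, nat_lit 0, nat_lit 4, nat_lit 2, nat_lit 3, nat_lit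 1, nat_lit 3, nat_lit 2, nat_lit 0, nat_lit 1, nat_lit 0, nat_lit 1, nat_lit 0])) (.leaf ((nat_lit 414), [nat_lit 0, nat_lit 5, nat_lit 2, nat_lit 5, nat_lit 4, nat_lit 3, nat_lit 2, nat_lit 2, nat_lit 0, nat_lit 1, nat_lit 0, nat_lit 2])))))
 (.node (nat_lit 448) (.node (nat_lit 446) (.leaf ((nat_lit 407), [nat_lit 3, nat_lit 5, nat_lit 0, nat_lit 5, nat_lit 0, nat_lit 2, nat_lit 0, nat_lit 4, nat_lit 1, nat_lit 4, nat_lit 0, nat_lit 2, nat_lit 0, nat_lit 2, nat_lit 2, nat_lit 0, nat_lit 2, nat_lit 0])) (.node (nat_lit 447) (.leaf ((nat_lit 269), [nat_lit 0, nat_lit 4, nat_lit 2, nat_lit 0, nat_lit 5, nat_lit 4, nat_lit 1, nat_lit 3, nat_lit 0, nat_lit 1, nat_lit 4, nat_lit 2, nat_lit 0, nat_lit 2, nat_lit 2, nat_lit 0, nat_lit 2, nat_lit 2])) (.leaf ((nat_lit 415), [nat_lit 2, nat_lit 5, nat_lit 0, nat_lit 5, nat_lit 4, nat_lit 0, nat_lit 3, nat_lit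 4, nat_lit 1, nat_lit 0, nat_lit 2, nat_lit 2, nat_lit 0, nat_lit 1, nat_lit 0])))) (.node (nat_lit 449) (.leaf ((nat_lit 416), [nat_lit 0, nat_lit 5, nat_lit 1, nat_lit 3, nat_lit 2, nat_lit 4, nat_lit 2, nat_lit 0, nat_lit 1])) (.node (nat_lit 450) (.leaf ((nat_lit 417), [nat_lit 2, nat_lit 5, nat_lit 0, nat_lit 1, nat_lit 5, nat_lit 3, nat_lit 2, nat_lit 3, nat_lit 2, nat_lit 0, nat_lit 4, nat_lit 2, nat_lit 0, nat_lit 1, nat_lit 0, nat_lit 1])) (.leaf ((nat_lit 418), [nat_lit 5, nat_lit 1, nat_lit 0, nat_lit 3, nat_lit 5, nat_lit 1, nat_lit 4, nat_lit 0, nat_lit 4, nat_lit 2, nat_lit 0, nat_lit 1, nat_lit 0, nat_lit 2, nat_lit 0, nat_lit 2]))))))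
 (.node (nat_lit 456) (.node (nat_lit 453) (.node (nat_lit 452) (.leaf ((nat_lit 419), [nat_lit 4, nat_lit 5, nat_lit 3, nat_lit 0, nat_lit 5, nat_lit 1, nat_lit 4, nat_lit 2, nat_lit 3, nat_lit 1, nat_lit 3, nat_lit 0, nat_lit 2, nat_lit 2, nat_lit 0, nat_lit 1, nat_lit 0, nat_lit 2, nat_lit 0])) (.leaf ((nat_lit 201), [nat_lit 5, nat_lit 4, nat_lit 3, nat_lit 5, nat_lit 2, nat_lit 5, nat_lit 3, nat_lit 0, nat_lit 1, nat_lit 3, nat_lit 4, nat_lit 2, nat_lit 3, nat_lit 0, nat_lit 1, nat_lit 0]))) (.node (nat_lit 454) (.leaf ((nat_lit 420), [nat_lit 5, nat_lit 2, nat_lit 5, nat_lit 3, nat_lit 2, nat_lit 3, nat_lit 2, nat_lit 0, nat_lit 4, nat_lit 2, nat_lit 2, nat_lit 0, nat_lit 2, nat_lit 2, nat_lit 0, nat_lit 2, nat_lit 2, nat_lit 0])) (.node (nat_lit 455) (.leaf ((nat_lit 421), [nat_lit 2, nat_lit 2, nat_lit 0, nat_lit 5, nat_lit 4, nat_lit 0,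 nat_lit 1, nat_lit 4, nat_lit 3, nat_lit 1, nat_lit 0, nat_lit 1, nat_lit 0])) (.leaf ((nat_lit 422), [nat_lit 5, nat_lit 2, nat_lit 3, nat_lit 5, nat_lit 4, nat_lit 2, nat_lit 3, nat_lit 4, nat_lit 2, nat_lit 3, nat_lit 2, nat_lit 2, nat_lit 0, nat_lit 2, nat_lit 2, nat_lit 0, nat_lit 2, nat_lit 0])))))
 (.node (nat_lit 459) (.node (nat_lit 457) (.leaf ((nat_lit 423), [nat_lit 3, nat_lit 2, nat_lit 5, nat_lit 0, nat_lit 5, nat_lit 0, nat_lit 4, nat_lit 0, nat_lit 4, nat_lit 1, nat_lit 0, nat_lit 2, nat_lit 0, nat_lit 2, nat_lit 2, nat_lit 0])) (.node (nat_lit 458) (.leaf ((nat_lit 127), [nat_lit 5, nat_lit 1, nat_lit 0, nat_lit 2, nat_lit 5, nat_lit 2, nat_lit 4, nat_lit 2, nat_lit 3, nat_lit 1, nat_lit 3, nat_lit 2, nat_lit 2, nat_lit 0, nat_lit 2, nat_lit 2, nat_lit 0, nat_lit 2, nat_lit 2])) (.leaf ((nat_lit 424), [nat_lit 4, nat_lit 1, nat_lit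 5, nat_lit 0, nat_lit 5, nat_lit 3, nat_lit 2, nat_lit 3, nat_lit 2, nat_lit 3, nat_lit 0, nat_lit 2, nat_lit 2, nat_lit 0, nat_lit 1, nat_lit 0])))) (.node (nat_lit 460) (.leaf ((nat_lit 425), [nat_lit 0, nat_lit 5, nat_lit 0, nat_lit 1, nat_lit 5, nat_lit 1, nat_lit 4, nat_lit 1, nat_lit 4, nat_lit 2, nat_lit 2, nat_lit 0, nat_lit 2])) (.node (nat_lit 461) (.leaf ((nat_lit 426), [nat_lit 0, nat_lit 2, nat_lit 5, nat_lit 1, nat_lit 4, nat_lit 0, nat_lit 4, nat_lit 2, nat_lit 0, nat_lit 3, nat_lit 1, nat_lit 0, nat_lit 1, nat_lit 0, nat_lit 2, nat_lit 2, nat_lit 0])) (.leaf ((nat_lit 427), [nat_lit 3, nat_lit 5, nat_lit 0, nat_lit 5, nat_lit 4, nat_lit 3, nat_lit 1, nat_lit 0, nat_lit 4, nat_lit 2, nat_lit 0, nat_lit 1, nat_lit 0, nat_lit 2, nat_lit 2])))))))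
 (.node (nat_lit 473) (.node (nat_lit 467) (.node (nat_lit 464) (.node (nat_lit 463) (.leaf ((nat_lit 428), [nat_lit 0, nat_lit 5, nat_lit 2, nat_lit 3, nat_lit 5, nat_lit 0, nat_lit 1, nat_lit 0, nat_lit 1, nat_lit 0, nat_lit 3, nat_lit 2, nat_lit 2, nat_lit 0, nat_lit 1, nat_lit 0])) (.leaf ((nat_lit 429), [nat_lit 1, nat_lit 0, nat_lit 2, nat_lit 5, nat_lit 1, nat_lit 3, nat_lit 2, nat_lit 4, nat_lit 2, nat_lit 3, nat_lit 2, nat_lit 0, nat_lit 2, nat_lit 2, nat_lit 0, nat_lit 2, nat_lit 2, nat_lit 0]))) (.node (nat_lit 465) (.leaf ((nat_lit 430), [nat_lit 2, nat_lit 0, nat_lit 1, nat_lit 5, nat_lit 3, nat_lit 2, nat_lit 0, nat_lit 3, nat_lit 1, nat_lit 0, nat_lit 2, nat_lit 2])) (.node (nat_lit 466) (.leaf ((nat_lit 431), [nat_lit 5, nat_lit 0, nat_lit 1, nat_lit 5, nat_lit 0, nat_lit 1, nat_lit 3, nat_lit 4, nat_lit 1, nat_lit 3, nat_lit 2, nat_lit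 0, nat_lit 1, nat_lit 0, nat_lit 2, nat_lit 0, nat_lit 2])) (.leaf ((nat_lit 432), [nat_lit 4, nat_lit 5, nat_lit 3, nat_lit 5, nat_lit 2, nat_lit 0, nat_lit 4, nat_lit 1, nat_lit 3, nat_lit 1, nat_lit 0, nat_lit 2, nat_lit 2, nat_lit 0, nat_lit 2, nat_lit 2, nat_lit 0])))))
 (.node (nat_lit 470) (.node (nat_lit 468) (.leaf ((nat_lit 433), [nat_lit 3, nat_lit 1, nat_lit 5, nat_lit 0, nat_lit 5, nat_lit 2, nat_lit 3, nat_lit 2, nat_lit 2, nat_lit 0])) (.node (nat_lit 469) (.leaf ((nat_lit 434), [nat_lit 3, nat_lit 2, nat_lit 0, nat_lit 5, nat_lit 0, nat_lit 3, nat_lit 1, nat_lit 3, nat_lit 4, nat_lit 3, nat_lit 2, nat_lit 0, nat_lit 2, nat_lit 2, nat_lit 0])) (.leaf ((nat_lit 435), [nat_lit 4, nat_lit 3, nat_lit 5, nat_lit 0, nat_lit 4, nat_lit 1, nat_lit 3, nat_lit 1, nat_lit 3, nat_lit 2, nat_lit 0, nat_lit 1, nat_lit 0, nat_lit 1, nat_lit 0]))))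 (.node (nat_lit 471) (.leaf ((nat_lit 436), [nat_lit 2, nat_lit 0, nat_lit 2, nat_lit 5, nat_lit 4, nat_lit 3, nat_lit 2, nat_lit 3, nat_lit 0, nat_lit 3, nat_lit 2, nat_lit 0, nat_lit 2, nat_lit 2, nat_lit 0, nat_lit 2, nat_lit 2])) (.node (nat_lit 472) (.leaf ((nat_lit 437), [nat_lit 4, nat_lit 5, nat_lit 2, nat_lit 3, nat_lit 5, nat_lit 4, nat_lit 3, nat_lit 1, nat_lit 4, nat_lit 0])) (.leaf ((nat_lit 438), [nat_lit 2, nat_lit 5, nat_lit 3, nat_lit 5, nat_lit 0, nat_lit 4, nat_lit 3, nat_lit 0, nat_lit 2, nat_lit 2, nat_lit 0, nat_lit 2, nat_lit 2]))))))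
 (.node (nat_lit 478) (.node (nat_lit 475) (.node (nat_lit 474) (.leaf ((nat_lit 439), [nat_lit 5, nat_lit 4, nat_lit 0, nat_lit 5, nat_lit 1, nat_lit 3, nat_lit 2, nat_lit 2, nat_lit 3, nat_lit 2, nat_lit 0, nat_lit 2, nat_lit 2, nat_lit 0, nat_lit 2])) (.leaf ((nat_lit 440), [nat_lit 5, nat_lit 0, nat_lit 4, nat_lit 5, nat_lit 1, nat_lit 4, nat_lit 3, nat_lit 2, nat_lit 0, nat_lit 3, nat_lit 2, nat_lit 0, nat_lit 1, nat_lit 0, nat_lit 1]))) (.node (nat_lit 476) (.leaf ((nat_lit 441), [nat_lit 4, nat_lit 3, nat_lit 0, nat_lit 5, nat_lit 3, nat_lit 2, nat_lit 4, nat_lit 3, nat_lit 2, nat_lit 3, nat_lit 0, nat_lit 2, nat_lit 0, nat_lit 2, nat_lit 2])) (.node (nat_lit 477) (.leaf ((nat_lit 442), [nat_lit 0, nat_lit 3, nat_lit 2, nat_lit 0, nat_lit 3, nat_lit 1, nat_lit 0, nat_lit 1, nat_lit 0, nat_lit 2])) (.leaf ((nat_lit 443), [nat_lit 4, nat_lit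 5, nat_lit 3, nat_lit 0, nat_lit 5, nat_lit 1, nat_lit 0, nat_lit 4, nat_lit 1, nat_lit 3, nat_lit 2, nat_lit 0, nat_lit 1, nat_lit 0])))))
 (.node (nat_lit 481) (.node (nat_lit 479) (.leaf ((nat_lit 444), [nat_lit 2, nat_lit 5, nat_lit 4, nat_lit 5, nat_lit 2, nat_lit 0, nat_lit 3, nat_lit 1, nat_lit 3, nat_lit 0, nat_lit 2, nat_lit 2, nat_lit 0, nat_lit 2, nat_lit 2])) (.node (nat_lit 480) (.leaf ((nat_lit 445), [nat_lit 2, nat_lit 5, nat_lit 4, nat_lit 5, nat_lit 1, nat_lit 4, nat_lit 0, nat_lit 4, nat_lit 2, nat_lit 0, nat_lit 3, nat_lit 1, nat_lit 0, nat_lit 2])) (.leaf ((nat_lit 446), [nat_lit 1, nat_lit 3, nat_lit 2, nat_lit 5, nat_lit 4, nat_lit 0, nat_lit 4, nat_lit 1, nat_lit 3, nat_lit 2, nat_lit 0, nat_lit 2, nat_lit 2, nat_lit 0])))) (.node (nat_lit 482) (.leaf ((nat_lit 447), [nat_lit 3, nat_lit 2, nat_lit 5, nat_lit 3, nat_lit 0, nat_lit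 3, nat_lit 2, nat_lit 0, nat_lit 3, nat_lit 2, nat_lit 2, nat_lit 0, nat_lit 1])) (.node (nat_lit 483) (.leaf ((nat_lit 152), [nat_lit 3, nat_lit 5, nat_lit 0, nat_lit 2, nat_lit 4, nat_lit 0, nat_lit 1, nat_lit 0, nat_lit 1, nat_lit 0, nat_lit 2])) (.leaf ((nat_lit 448), [nat_lit 5, nat_lit 2, nat_lit 5, nat_lit 4, nat_lit 1, nat_lit 0, nat_lit 3, nat_lit 2, nat_lit 3, nat_lit 2, nat_lit 0]))))))))
 (.node (nat_lit 506) (.node (nat_lit 495) (.node (nat_lit 489) (.node (nat_lit 486) (.node (nat_lit 485) (.leaf ((nat_lit 449), [nat_lit 0, nat_lit 4, nat_lit 2, nat_lit 0, nat_lit 5, nat_lit 0, nat_lit 4, nat_lit 3, nat_lit 2, nat_lit 0, nat_lit 3, nat_lit 0, nat_lit 2, nat_lit 2, nat_lit 0, nat_lit 1, nat_lit 0, nat_lit 2])) (.leaf ((nat_lit 450), [nat_lit 5, nat_lit 3, nat_lit 4, nat_lit 0, nat_lit 4, nat_lit 3, nat_lit 2, nat_lit 2, nat_lit 0, nat_lit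 2, nat_lit 2, nat_lit 0]))) (.node (nat_lit 487) (.leaf ((nat_lit 451), [nat_lit 5, nat_lit 4, nat_lit 5, nat_lit 2, nat_lit 5, nat_lit 0, nat_lit 4, nat_lit 1, nat_lit 3, nat_lit 0, nat_lit 3, nat_lit 2, nat_lit 2, nat_lit 0, nat_lit 2, nat_lit 2, nat_lit 0, nat_lit 1, nat_lit 0])) (.node (nat_lit 488) (.leaf ((nat_lit 452), [nat_lit 5, nat_lit 2, nat_lit 0, nat_lit 2, nat_lit 5, nat_lit 2, nat_lit 4, nat_lit 3, nat_lit 1, nat_lit 0])) (.leaf ((nat_lit 453), [nat_lit 2, nat_lit 5, nat_lit 1, nat_lit 5, nat_lit 2, nat_lit 4, nat_lit 3, nat_lit 0, nat_lit 2, nat_lit 3, nat_lit 0, nat_lit 2, nat_lit 0, nat_lit 2, nat_lit 2, nat_lit 0, nat_lit 1, nat_lit 0])))))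
 (.node (nat_lit 492) (.node (nat_lit 490) (.leaf ((nat_lit 454), [nat_lit 5, nat_lit 4, nat_lit 3, nat_lit 5, nat_lit 2, nat_lit 5, nat_lit 1, nat_lit 4, nat_lit 3, nat_lit 2, nat_lit 0, nat_lit 3, nat_lit 1])) (.node (nat_lit 491) (.leaf ((nat_lit 455), [nat_lit 3, nat_lit 5, nat_lit 1, nat_lit 3, nat_lit 2, nat_lit 5, nat_lit 4, nat_lit 1, nat_lit 4, nat_lit 1, nat_lit 4, nat_lit 3, nat_lit 0, nat_lit 2, nat_lit 0, nat_lit 2, nat_lit 0])) (.leaf ((nat_lit 456), [nat_lit 4, nat_lit 1, nat_lit 5, nat_lit 0, nat_lit 5, nat_lit 0, nat_lit 4, nat_lit 1, nat_lit 3, nat_lit 0, nat_lit 3, nat_lit 1, nat_lit 0, nat_lit 2, nat_lit 2, nat_lit 0, nat_lit 1, nat_lit 0])))) (.node (nat_lit 493) (.leaf ((nat_lit 457), [nat_lit 2, nat_lit 5, nat_lit 2, nat_lit 3, nat_lit 5, nat_lit 2, nat_lit 0, nat_lit 4, nat_lit 2, nat_lit 2, nat_lit 0, nat_lit 2, nat_lit 2,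 nat_lit 0, nat_lit 2, nat_lit 2, nat_lit 0])) (.node (nat_lit 494) (.leaf ((nat_lit 458), [nat_lit 2, nat_lit 2, nat_lit 0, nat_lit 5, nat_lit 3, nat_lit 1, nat_lit 0, nat_lit 3, nat_lit 1, nat_lit 3, nat_lit 2, nat_lit 2, nat_lit 0, nat_lit 2, nat_lit 0])) (.leaf ((nat_lit 274), [nat_lit 3, nat_lit 2, nat_lit 0, nat_lit 5, nat_lit 4, nat_lit 3, nat_lit 0, nat_lit 2, nat_lit 2, nat_lit 3, nat_lit 2, nat_lit 0, nat_lit 1]))))))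
 (.node (nat_lit 500) (.node (nat_lit 497) (.node (nat_lit 496) (.leaf ((nat_lit 459), [nat_lit 4, nat_lit 3, nat_lit 5, nat_lit 2, nat_lit 5, nat_lit 0, nat_lit 2, nat_lit 4, nat_lit 2, nat_lit 4, nat_lit 0, nat_lit 2, nat_lit 2, nat_lit 0, nat_lit 2, nat_lit 0, nat_lit 1, nat_lit 0])) (.leaf ((nat_lit 460), [nat_lit 5, nat_lit 0, nat_lit 3, nat_lit 5, nat_lit 2, nat_lit 0, nat_lit 3, nat_lit 1, nat_lit 4, nat_lit 2, nat_lit 0, nat_lit 1, nat_lit 0, nat_lit 1]))) (.node (nat_lit 498) (.leaf ((nat_lit 338), [nat_lit 4, nat_lit 1, nat_lit 5, nat_lit 0, nat_lit 5, nat_lit 1, nat_lit 3, nat_lit 4, nat_lit 2, nat_lit 2, nat_lit 0, nat_lit 2])) (.node (nat_lit 499) (.leaf ((nat_lit 461), [nat_lit 5, nat_lit 4, nat_lit 2, nat_lit 0, nat_lit 4, nat_lit 3, nat_lit 2, nat_lit 2, nat_lit 0, nat_lit 2, nat_lit 0, nat_lit 1])) (.leaf ((nat_lit 462), [nat_lit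 0, nat_lit 4, nat_lit 5, nat_lit 3, nat_lit 0, nat_lit 1, nat_lit 0, nat_lit 3, nat_lit 2, nat_lit 0, nat_lit 1, nat_lit 0, nat_lit 2, nat_lit 2])))))
 (.node (nat_lit 503) (.node (nat_lit 501) (.leaf ((nat_lit 463), [nat_lit 4, nat_lit 5, nat_lit 2, nat_lit 0, nat_lit 5, nat_lit 4, nat_lit 2, nat_lit 4, nat_lit 0, nat_lit 2, nat_lit 0, nat_lit 1, nat_lit 0])) (.node (nat_lit 502) (.leaf ((nat_lit 464), [nat_lit 3, nat_lit 5, nat_lit 3, nat_lit 0, nat_lit 5, nat_lit 4, nat_lit 1, nat_lit 3, nat_lit 1, nat_lit 3, nat_lit 0, nat_lit 2, nat_lit 2, nat_lit 0, nat_lit 2, nat_lit 2])) (.leaf ((nat_lit 465), [nat_lit 3, nat_lit 5, nat_lit 1, nat_lit 3, nat_lit 2, nat_lit 5, nat_lit 1, nat_lit 3, nat_lit 0, nat_lit 2, nat_lit 4, nat_lit 0, nat_lit 2, nat_lit 2, nat_lit 0, nat_lit 2, nat_lit 0, nat_lit 1, nat_lit 0])))) (.node (nat_lit 504) (.leaf ((nat_lit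 466), [nat_lit 5, nat_lit 3, nat_lit 5, nat_lit 1, nat_lit 3, nat_lit 2, nat_lit 2, nat_lit 3, nat_lit 1, nat_lit 0, nat_lit 2, nat_lit 2, nat_lit 0, nat_lit 1])) (.node (nat_lit 505) (.leaf ((nat_lit 467), [nat_lit 5, nat_lit 3, nat_lit 2, nat_lit 5, nat_lit 3, nat_lit 2, nat_lit 2, nat_lit 4, nat_lit 3, nat_lit 0, nat_lit 2, nat_lit 0])) (.leaf ((nat_lit 468), [nat_lit 5, nat_lit 2, nat_lit 0, nat_lit 2, nat_lit 5, nat_lit 0, nat_lit 4, nat_lit 1, nat_lit 3, nat_lit 0, nat_lit 1])))))))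
 (.node (nat_lit 517) (.node (nat_lit 511) (.node (nat_lit 508) (.node (nat_lit 507) (.leaf ((nat_lit 469), [nat_lit 2, nat_lit 3, nat_lit 5, nat_lit 0, nat_lit 5, nat_lit 2, nat_lit 3, nat_lit 1, nat_lit 3, nat_lit 4, nat_lit 3, nat_lit 1])) (.leaf ((nat_lit 470), [nat_lit 4, nat_lit 5, nat_lit 4, nat_lit 0, nat_lit 5, nat_lit 2, nat_lit 2, nat_lit 3, nat_lit 4, nat_lit 3, nat_lit 0, nat_lit 2, nat_lit 0, nat_lit 2, nat_lit 2, nat_lit 0, nat_lit 1]))) (.node (nat_lit 509) (.leaf ((nat_lit 471), [nat_lit 5, nat_lit 3, nat_lit 5, nat_lit 2, nat_lit 3, nat_lit 0, nat_lit 2, nat_lit 4, nat_lit 1, nat_lit 0, nat_lit 2, nat_lit 2, nat_lit 0, nat_lit 1])) (.node (nat_lit 510) (.leaf ((nat_lit 472), [nat_lit 1, nat_lit 3, nat_lit 2, nat_lit 5, nat_lit 4, nat_lit 3, nat_lit 2, nat_lit 2, nat_lit 3, nat_lit 0, nat_lit 1, nat_lit 0, nat_lit 2, nat_lit 2, nat_lit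 0, nat_lit 2, nat_lit 0])) (.leaf ((nat_lit 473), [nat_lit 2, nat_lit 5, nat_lit 2, nat_lit 0, nat_lit 2, nat_lit 3, nat_lit 2, nat_lit 2, nat_lit 0, nat_lit 2, nat_lit 0])))))
 (.node (nat_lit 514) (.node (nat_lit 512) (.leaf ((nat_lit 474), [nat_lit 1, nat_lit 5, nat_lit 1, nat_lit 5, nat_lit 0, nat_lit 4, nat_lit 3, nat_lit 2, nat_lit 0, nat_lit 3, nat_lit 2, nat_lit 2, nat_lit 0, nat_lit 2])) (.node (nat_lit 513) (.leaf ((nat_lit 475), [nat_lit 4, nat_lit 0, nat_lit 5, nat_lit 4, nat_lit 3, nat_lit 2, nat_lit 0, nat_lit 2, nat_lit 3, nat_lit 0, nat_lit 2, nat_lit 2, nat_lit 0, nat_lit 2, nat_lit 2])) (.leaf ((nat_lit 476), [nat_lit 5, nat_lit 3, nat_lit 0, nat_lit 5, nat_lit 3, nat_lit 0, nat_lit 2, nat_lit 4, nat_lit 3, nat_lit 1, nat_lit 0, nat_lit 2, nat_lit 2, nat_lit 0])))) (.node (nat_lit 515) (.leaf ((nat_lit 477), [nat_lit 5, nat_lit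 4, nat_lit 5, nat_lit 2, nat_lit 5, nat_lit 2, nat_lit 3, nat_lit 2, nat_lit 3, nat_lit 2, nat_lit 2, nat_lit 0, nat_lit 2, nat_lit 2, nat_lit 0, nat_lit 2, nat_lit 0])) (.node (nat_lit 516) (.leaf ((nat_lit 478), [nat_lit 5, nat_lit 1, nat_lit 3, nat_lit 0, nat_lit 5, nat_lit 2, nat_lit 0, nat_lit 1, nat_lit 4, nat_lit 3, nat_lit 0, nat_lit 2, nat_lit 0, nat_lit 2, nat_lit 2, nat_lit 0, nat_lit 2])) (.leaf ((nat_lit 479), [nat_lit 2, nat_lit 2, nat_lit 0, nat_lit 5, nat_lit 3, nat_lit 2, nat_lit 4, nat_lit 3, nat_lit 2, nat_lit 3, nat_lit 1, nat_lit 0, nat_lit 1, nat_lit 0, nat_lit 2, nat_lit 0, nat_lit 2]))))))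
 (.node (nat_lit 522) (.node (nat_lit 519) (.node (nat_lit 518) (.leaf ((nat_lit 480), [nat_lit 4, nat_lit 5, nat_lit 3, nat_lit 5, nat_lit 1, nat_lit 3, nat_lit 4, nat_lit 3, nat_lit 0, nat_lit 3, nat_lit 1, nat_lit 0, nat_lit 2, nat_lit 0, nat_lit 2, nat_lit 2, nat_lit 0])) (.leaf ((nat_lit 170), [nat_lit 0, nat_lit 5, nat_lit 2, nat_lit 5, nat_lit 0, nat_lit 3, nat_lit 1, nat_lit 4, nat_lit 0, nat_lit 2, nat_lit 2, nat_lit 0, nat_lit 1, nat_lit 0]))) (.node (nat_lit 520) (.leaf ((nat_lit 352), [nat_lit 4, nat_lit 2, nat_lit 5, nat_lit 1, nat_lit 0, nat_lit 3, nat_lit 4, nat_lit 2, nat_lit 2, nat_lit 0, nat_lit 2, nat_lit 2, nat_lit 0, nat_lit 1])) (.node (nat_lit 521) (.leaf ((nat_lit 61), [nat_lit 5, nat_lit 4, nat_lit 5, nat_lit 0, nat_lit 3, nat_lit 2, nat_lit 3, nat_lit 0, nat_lit 1, nat_lit 0, nat_lit 1])) (.leaf ((nat_lit 481), [nat_lit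 4, nat_lit 5, nat_lit 0, nat_lit 3, nat_lit 5, nat_lit 3, nat_lit 4, nat_lit 0, nat_lit 3, nat_lit 2, nat_lit 2, nat_lit 0, nat_lit 2, nat_lit 0, nat_lit 1, nat_lit 0])))))
 (.node (nat_lit 525) (.node (nat_lit 523) (.leaf ((nat_lit 482), [nat_lit 5, nat_lit 4, nat_lit 1, nat_lit 0, nat_lit 5, nat_lit 3, nat_lit 4, nat_lit 3, nat_lit 2, nat_lit 3, nat_lit 2, nat_lit 0, nat_lit 1, nat_lit 0, nat_lit 2, nat_lit 2, nat_lit 0])) (.node (nat_lit 524) (.leaf ((nat_lit 483), [nat_lit 3, nat_lit 5, nat_lit 2, nat_lit 5, nat_lit 1, nat_lit 4, nat_lit 3, nat_lit 1, nat_lit 3, nat_lit 2, nat_lit 0, nat_lit 1, nat_lit 0, nat_lit 2, nat_lit 2, nat_lit 0])) (.leaf ((nat_lit 484), [nat_lit 0, nat_lit 5, nat_lit 3, nat_lit 5, nat_lit 3, nat_lit 0, nat_lit 4, nat_lit 3, nat_lit 2, nat_lit 3, nat_lit 0, nat_lit 1, nat_lit 0, nat_lit 2, nat_lit 2, nat_lit 0])))) (.node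 (nat_lit 526) (.leaf ((nat_lit 485), [nat_lit 5, nat_lit 1, nat_lit 3, nat_lit 0, nat_lit 5, nat_lit 3, nat_lit 1, nat_lit 3, nat_lit 4, nat_lit 1, nat_lit 0, nat_lit 2, nat_lit 2, nat_lit 0, nat_lit 1, nat_lit 0])) (.node (nat_lit 527) (.leaf ((nat_lit 486), [nat_lit 2, nat_lit 2, nat_lit 5, nat_lit 1, nat_lit 5, nat_lit 1, nat_lit 3, nat_lit 4, nat_lit 3, nat_lit 1, nat_lit 3, nat_lit 0, nat_lit 1, nat_lit 0, nat_lit 2, nat_lit 0, nat_lit 2, nat_lit 2])) (.leaf ((nat_lit 487), [nat_lit 5, nat_lit 4, nat_lit 3, nat_lit 5, nat_lit 2, nat_lit 5, nat_lit 3, nat_lit 1, nat_lit 3, nat_lit 4, nat_lit 3, nat_lit 2, nat_lit 0, nat_lit 2, nat_lit 2]))))))))))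
noncomputable def qWd_3 : Tr (ℕ × List ℕ) := (.node (nat_lit 616) (.node (nat_lit 572) (.node (nat_lit 550) (.node (nat_lit 539) (.node (nat_lit 533) (.node (nat_lit 530) (.node (nat_lit 529) (.leaf ((nat_lit 448), [nat_lit 5, nat_lit 1, nat_lit 5, nat_lit 0, nat_lit 5, nat_lit 1, nat_lit 4, nat_lit 1, nat_lit 3, nat_lit 1, nat_lit 3, nat_lit 2, nat_lit 0, nat_lit 1, nat_lit 0])) (.leaf ((nat_lit 488), [nat_lit 5, nat_lit 1, nat_lit 0, nat_lit 2, nat_lit 5, nat_lit 2, nat_lit 4, nat_lit 0, nat_lit 3, nat_lit 2, nat_lit 3, nat_lit 0]))) (.node (nat_lit 531) (.leaf ((nat_lit 489), [nat_lit 1, nat_lit 4, nat_lit 2, nat_lit 5, nat_lit 2, nat_lit 0, nat_lit 4, nat_lit 1, nat_lit 3, nat_lit 2, nat_lit 0, nat_lit 2, nat_lit 0, nat_lit 1, nat_lit 0, nat_lit 1])) (.node (nat_lit 532) (.leaf ((nat_lit 490), [nat_lit 0, nat_lit 5, nat_lit 2, nat_lit 0, nat_lit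 5, nat_lit 3, nat_lit 1, nat_lit 3, nat_lit 1, nat_lit 3, nat_lit 0, nat_lit 2, nat_lit 2, nat_lit 0])) (.leaf ((nat_lit 491), [nat_lit 3, nat_lit 0, nat_lit 5, nat_lit 2, nat_lit 3, nat_lit 2, nat_lit 4, nat_lit 3, nat_lit 0, nat_lit 1, nat_lit 0])))))
 (.node (nat_lit 536) (.node (nat_lit 534) (.leaf ((nat_lit 492), [nat_lit 5, nat_lit 2, nat_lit 2, nat_lit 0, nat_lit 5, nat_lit 1, nat_lit 3, nat_lit 1, nat_lit 3, nat_lit 2, nat_lit 0, nat_lit 2])) (.node (nat_lit 535) (.leaf ((nat_lit 493), [nat_lit 2, nat_lit 0, nat_lit 5, nat_lit 0, nat_lit 3, nat_lit 0, nat_lit 2, nat_lit 4, nat_lit 3, nat_lit 0, nat_lit 1, nat_lit 0, nat_lit 2, nat_lit 2, nat_lit 0, nat_lit 2, nat_lit 0])) (.leaf ((nat_lit 494), [nat_lit 2, nat_lit 5, nat_lit 3, nat_lit 5, nat_lit 4, nat_lit 0, nat_lit 2, nat_lit 2, nat_lit 3, nat_lit 1, nat_lit 0, nat_lit 2, nat_lit 0]))))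 (.node (nat_lit 537) (.leaf ((nat_lit 495), [nat_lit 3, nat_lit 2, nat_lit 5, nat_lit 2, nat_lit 3, nat_lit 1, nat_lit 0, nat_lit 2, nat_lit 3, nat_lit 2, nat_lit 0, nat_lit 2, nat_lit 0, nat_lit 1])) (.node (nat_lit 538) (.leaf ((nat_lit 238), [nat_lit 5, nat_lit 2, nat_lit 0, nat_lit 5, nat_lit 0, nat_lit 2, nat_lit 3, nat_lit 1, nat_lit 3, nat_lit 0, nat_lit 2, nat_lit 0, nat_lit 2, nat_lit 2, nat_lit 0, nat_lit 1, nat_lit 0])) (.leaf ((nat_lit 330), [nat_lit 0, nat_lit 5, nat_lit 2, nat_lit 5, nat_lit 2, nat_lit 4, nat_lit 1, nat_lit 0, nat_lit 2, nat_lit 3, nat_lit 2, nat_lit 2, nat_lit 0, nat_lit 2]))))))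
 (.node (nat_lit 544) (.node (nat_lit 541) (.node (nat_lit 540) (.leaf ((nat_lit 496), [nat_lit 2, nat_lit 5, nat_lit 3, nat_lit 5, nat_lit 4, nat_lit 3, nat_lit 1, nat_lit 3, nat_lit 2, nat_lit 0, nat_lit 2, nat_lit 0, nat_lit 1])) (.leaf ((nat_lit 497), [nat_lit 1, nat_lit 4, nat_lit 5, nat_lit 1, nat_lit 5, nat_lit 1, nat_lit 0, nat_lit 3, nat_lit 0, nat_lit 4, nat_lit 1, nat_lit 0, nat_lit 2, nat_lit 0, nat_lit 2, nat_lit 0]))) (.node (nat_lit 542) (.leaf ((nat_lit 498), [nat_lit 4, nat_lit 3, nat_lit 5, nat_lit 0, nat_lit 2, nat_lit 0, nat_lit 3, nat_lit 4, nat_lit 0, nat_lit 2, nat_lit 0, nat_lit 1, nat_lit 0])) (.node (nat_lit 543) (.leaf ((nat_lit 499), [nat_lit 3, nat_lit 2, nat_lit 0, nat_lit 3, nat_lit 1, nat_lit 4, nat_lit 0, nat_lit 1, nat_lit 0, nat_lit 2, nat_lit 2, nat_lit 0, nat_lit 2])) (.leaf ((nat_lit 500), [nat_lit 4, nat_lit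 1, nat_lit 5, nat_lit 2, nat_lit 5, nat_lit 3, nat_lit 2, nat_lit 3, nat_lit 2, nat_lit 4, nat_lit 2, nat_lit 0, nat_lit 2, nat_lit 2, nat_lit 0, nat_lit 2])))))
 (.node (nat_lit 547) (.node (nat_lit 545) (.leaf ((nat_lit 501), [nat_lit 3, nat_lit 5, nat_lit 0, nat_lit 3, nat_lit 5, nat_lit 3, nat_lit 0, nat_lit 4, nat_lit 1, nat_lit 4, nat_lit 2, nat_lit 0, nat_lit 1, nat_lit 0, nat_lit 1, nat_lit 0, nat_lit 2, nat_lit 0])) (.node (nat_lit 546) (.leaf ((nat_lit 502), [nat_lit 2, nat_lit 5, nat_lit 0, nat_lit 1, nat_lit 5, nat_lit 3, nat_lit 0, nat_lit 4, nat_lit 3, nat_lit 0, nat_lit 4, nat_lit 2, nat_lit 0, nat_lit 1, nat_lit 0, nat_lit 2, nat_lit 0])) (.leaf ((nat_lit 503), [nat_lit 1, nat_lit 4, nat_lit 5, nat_lit 1, nat_lit 5, nat_lit 4, nat_lit 1, nat_lit 3, nat_lit 0, nat_lit 3, nat_lit 1, nat_lit 0, nat_lit 2, nat_lit 2, nat_lit 0, nat_lit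 2, nat_lit 2])))) (.node (nat_lit 548) (.leaf ((nat_lit 504), [nat_lit 0, nat_lit 1, nat_lit 5, nat_lit 4, nat_lit 3, nat_lit 2, nat_lit 3, nat_lit 1, nat_lit 0, nat_lit 2, nat_lit 0])) (.node (nat_lit 549) (.leaf ((nat_lit 505), [nat_lit 2, nat_lit 0, nat_lit 1, nat_lit 5, nat_lit 3, nat_lit 1, nat_lit 4, nat_lit 0, nat_lit 4, nat_lit 3, nat_lit 1, nat_lit 0, nat_lit 2, nat_lit 0, nat_lit 1])) (.leaf ((nat_lit 340), [nat_lit 4, nat_lit 5, nat_lit 2, nat_lit 3, nat_lit 5, nat_lit 4, nat_lit 1, nat_lit 0, nat_lit 2, nat_lit 3, nat_lit 0, nat_lit 1, nat_lit 0, nat_lit 2, nat_lit 2, nat_lit 0, nat_lit 2])))))))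
 (.node (nat_lit 561) (.node (nat_lit 555) (.node (nat_lit 552) (.node (nat_lit 551) (.leaf ((nat_lit 506), [nat_lit 4, nat_lit 2, nat_lit 5, nat_lit 3, nat_lit 5, nat_lit 2, nat_lit 0, nat_lit 1, nat_lit 4, nat_lit 3, nat_lit 2, nat_lit 0, nat_lit 1])) (.leaf ((nat_lit 507), [nat_lit 3, nat_lit 2, nat_lit 2, nat_lit 4, nat_lit 3, nat_lit 0, nat_lit 2, nat_lit 0, nat_lit 2, nat_lit 0]))) (.node (nat_lit 553) (.leaf ((nat_lit 508), [nat_lit 2, nat_lit 3, nat_lit 5, nat_lit 2, nat_lit 3, nat_lit 2, nat_lit 4, nat_lit 2, nat_lit 0, nat_lit 1, nat_lit 0, nat_lit 1, nat_lit 0, nat_lit 2])) (.node (nat_lit 554) (.leaf ((nat_lit 509), [nat_lit 2, nat_lit 5, nat_lit 2, nat_lit 3, nat_lit 5, nat_lit 3, nat_lit 0, nat_lit 2, nat_lit 3, nat_lit 2, nat_lit 0, nat_lit 2, nat_lit 0, nat_lit 1, nat_lit 0])) (.leaf ((nat_lit 510), [nat_lit 3, nat_lit 5, nat_lit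 2, nat_lit 5, nat_lit 3, nat_lit 2, nat_lit 3, nat_lit 2, nat_lit 2, nat_lit 3, nat_lit 0, nat_lit 2, nat_lit 2])))))
 (.node (nat_lit 558) (.node (nat_lit 556) (.leaf ((nat_lit 511), [nat_lit 0, nat_lit 3, nat_lit 5, nat_lit 2, nat_lit 2, nat_lit 0, nat_lit 3, nat_lit 0, nat_lit 4, nat_lit 2, nat_lit 2, nat_lit 0, nat_lit 2, nat_lit 2])) (.node (nat_lit 557) (.leaf ((nat_lit 359), [nat_lit 5, nat_lit 4, nat_lit 3, nat_lit 0, nat_lit 5, nat_lit 2, nat_lit 3, nat_lit 0, nat_lit 4, nat_lit 2, nat_lit 0, nat_lit 1, nat_lit 0, nat_lit 2, nat_lit 0, nat_lit 2])) (.leaf ((nat_lit 512), [nat_lit 5, nat_lit 4, nat_lit 5, nat_lit 2, nat_lit 2, nat_lit 3, nat_lit 2, nat_lit 2, nat_lit 3, nat_lit 0, nat_lit 2, nat_lit 0, nat_lit 2, nat_lit 2])))) (.node (nat_lit 559) (.leaf ((nat_lit 513), [nat_lit 5, nat_lit 3, nat_lit 0, nat_lit 5, nat_lit 4, nat_lit 3, nat_lit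 2, nat_lit 3, nat_lit 2, nat_lit 3, nat_lit 1, nat_lit 0, nat_lit 2, nat_lit 2, nat_lit 0, nat_lit 2, nat_lit 0])) (.node (nat_lit 560) (.leaf ((nat_lit 514), [nat_lit 5, nat_lit 3, nat_lit 2, nat_lit 0, nat_lit 5, nat_lit 2, nat_lit 2, nat_lit 4, nat_lit 1, nat_lit 0, nat_lit 3, nat_lit 2, nat_lit 2, nat_lit 0, nat_lit 2, nat_lit 2, nat_lit 0, nat_lit 1])) (.leaf ((nat_lit 515), [nat_lit 4, nat_lit 5, nat_lit 0, nat_lit 3, nat_lit 5, nat_lit 4, nat_lit 2, nat_lit 3, nat_lit 0, nat_lit 3, nat_lit 2, nat_lit 0, nat_lit 2]))))))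
 (.node (nat_lit 566) (.node (nat_lit 563) (.node (nat_lit 562) (.leaf ((nat_lit 516), [nat_lit 0, nat_lit 5, nat_lit 2, nat_lit 0, nat_lit 3, nat_lit 1, nat_lit 3, nat_lit 2, nat_lit 0, nat_lit 1, nat_lit 0])) (.leaf ((nat_lit 517), [nat_lit 3, nat_lit 5, nat_lit 2, nat_lit 5, nat_lit 0, nat_lit 2, nat_lit 0, nat_lit 2, nat_lit 3, nat_lit 2, nat_lit 0, nat_lit 1]))) (.node (nat_lit 564) (.leaf ((nat_lit 518), [nat_lit 5, nat_lit 2, nat_lit 3, nat_lit 5, nat_lit 2, nat_lit 0, nat_lit 3, nat_lit 1, nat_lit 4, nat_lit 2, nat_lit 2, nat_lit 0, nat_lit 2, nat_lit 0, nat_lit 1])) (.node (nat_lit 565) (.leaf ((nat_lit 519), [nat_lit 1, nat_lit 5, nat_lit 3, nat_lit 5, nat_lit 1, nat_lit 4, nat_lit 3, nat_lit 1, nat_lit 4, nat_lit 0, nat_lit 2, nat_lit 2, nat_lit 0, nat_lit 1, nat_lit 0, nat_lit 2, nat_lit 0])) (.leaf ((nat_lit 520), [nat_lit 4, nat_lit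 2, nat_lit 5, nat_lit 1, nat_lit 5, nat_lit 2, nat_lit 4, nat_lit 0, nat_lit 1, nat_lit 4, nat_lit 2, nat_lit 2, nat_lit 0, nat_lit 2, nat_lit 0, nat_lit 1, nat_lit 0])))))
 (.node (nat_lit 569) (.node (nat_lit 567) (.leaf ((nat_lit 521), [nat_lit 0, nat_lit 4, nat_lit 2, nat_lit 0, nat_lit 5, nat_lit 3, nat_lit 2, nat_lit 4, nat_lit 2, nat_lit 3, nat_lit 0, nat_lit 1, nat_lit 0, nat_lit 2, nat_lit 2, nat_lit 0])) (.node (nat_lit 568) (.leaf ((nat_lit 522), [nat_lit 4, nat_lit 5, nat_lit 1, nat_lit 5, nat_lit 1, nat_lit 0, nat_lit 3, nat_lit 4, nat_lit 2, nat_lit 0, nat_lit 1, nat_lit 0, nat_lit 2, nat_lit 2, nat_lit 0])) (.leaf ((nat_lit 523), [nat_lit 2, nat_lit 5, nat_lit 4, nat_lit 2, nat_lit 4, nat_lit 2, nat_lit 0, nat_lit 3, nat_lit 1, nat_lit 0, nat_lit 1, nat_lit 0])))) (.node (nat_lit 570) (.leaf ((nat_lit 524), [nat_lit 3, nat_lit 5, nat_lit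 2, nat_lit 5, nat_lit 2, nat_lit 0, nat_lit 4, nat_lit 3, nat_lit 0, nat_lit 1, nat_lit 0, nat_lit 2, nat_lit 2, nat_lit 0])) (.node (nat_lit 571) (.leaf ((nat_lit 525), [nat_lit 1, nat_lit 4, nat_lit 2, nat_lit 5, nat_lit 3, nat_lit 2, nat_lit 3, nat_lit 2, nat_lit 3, nat_lit 2, nat_lit 0, nat_lit 2, nat_lit 2, nat_lit 0, nat_lit 1])) (.leaf ((nat_lit 526), [nat_lit 2, nat_lit 5, nat_lit 0, nat_lit 1, nat_lit 5, nat_lit 4, nat_lit 2, nat_lit 3, nat_lit 0, nat_lit 3, nat_lit 1, nat_lit 0, nat_lit 2, nat_lit 0, nat_lit 2, nat_lit 0]))))))))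
 (.node (nat_lit 594) (.node (nat_lit 583) (.node (nat_lit 577) (.node (nat_lit 574) (.node (nat_lit 573) (.leaf ((nat_lit 527), [nat_lit 1, nat_lit 5, nat_lit 3, nat_lit 5, nat_lit 0, nat_lit 2, nat_lit 0, nat_lit 3, nat_lit 4, nat_lit 0, nat_lit 2, nat_lit 2, nat_lit 0, nat_lit 2, nat_lit 2, nat_lit 0])) (.leaf ((nat_lit 528), [nat_lit 4, nat_lit 3, nat_lit 2, nat_lit 5, nat_lit 3, nat_lit 1, nat_lit 4, nat_lit 2, nat_lit 4, nat_lit 3, nat_lit 0]))) (.node (nat_lit 575) (.leaf ((nat_lit 529), [nat_lit 2, nat_lit 5, nat_lit 3, nat_lit 5, nat_lit 3, nat_lit 0, nat_lit 4, nat_lit 3, nat_lit 0, nat_lit 3, nat_lit 0, nat_lit 2, nat_lit 2, nat_lit 0, nat_lit 1, nat_lit 0])) (.node (nat_lit 576) (.leaf ((nat_lit 151), [nat_lit 4, nat_lit 0, nat_lit 5, nat_lit 3, nat_lit 4, nat_lit 1, nat_lit 3, nat_lit 1, nat_lit 3, nat_lit 0, nat_lit 1, nat_lit 0, nat_lit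 2, nat_lit 0])) (.leaf ((nat_lit 530), [nat_lit 5, nat_lit 0, nat_lit 5, nat_lit 3, nat_lit 2, nat_lit 0, nat_lit 4, nat_lit 1, nat_lit 4, nat_lit 1, nat_lit 0, nat_lit 2, nat_lit 2, nat_lit 0, nat_lit 2, nat_lit 2, nat_lit 0])))))
 (.node (nat_lit 580) (.node (nat_lit 578) (.leaf ((nat_lit 531), [nat_lit 1, nat_lit 3, nat_lit 2, nat_lit 5, nat_lit 0, nat_lit 2, nat_lit 3, nat_lit 1, nat_lit 3, nat_lit 0, nat_lit 1, nat_lit 0, nat_lit 1, nat_lit 0, nat_lit 2, nat_lit 0])) (.node (nat_lit 579) (.leaf ((nat_lit 532), [nat_lit 3, nat_lit 2, nat_lit 3, nat_lit 5, nat_lit 2, nat_lit 2, nat_lit 4, nat_lit 3, nat_lit 1, nat_lit 0, nat_lit 1, nat_lit 0, nat_lit 2, nat_lit 0, nat_lit 2, nat_lit 0])) (.leaf ((nat_lit 533), [nat_lit 3, nat_lit 1, nat_lit 5, nat_lit 2, nat_lit 5, nat_lit 4, nat_lit 3, nat_lit 2, nat_lit 2, nat_lit 3, nat_lit 1, nat_lit 0, nat_lit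 2, nat_lit 0, nat_lit 2, nat_lit 2])))) (.node (nat_lit 581) (.leaf ((nat_lit 534), [nat_lit 5, nat_lit 0, nat_lit 3, nat_lit 5, nat_lit 1, nat_lit 0, nat_lit 3, nat_lit 2, nat_lit 3, nat_lit 2, nat_lit 0])) (.node (nat_lit 582) (.leaf ((nat_lit 479), [nat_lit 1, nat_lit 3, nat_lit 2, nat_lit 5, nat_lit 2, nat_lit 3, nat_lit 2, nat_lit 0, nat_lit 3, nat_lit 2, nat_lit 2, nat_lit 0])) (.leaf ((nat_lit 535), [nat_lit 4, nat_lit 0, nat_lit 5, nat_lit 4, nat_lit 2, nat_lit 4, nat_lit 2, nat_lit 0, nat_lit 3, nat_lit 2, nat_lit 2]))))))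
 (.node (nat_lit 588) (.node (nat_lit 585) (.node (nat_lit 584) (.leaf ((nat_lit 536), [nat_lit 2, nat_lit 5, nat_lit 3, nat_lit 5, nat_lit 4, nat_lit 0, nat_lit 1, nat_lit 4, nat_lit 3, nat_lit 2, nat_lit 0, nat_lit 2, nat_lit 2, nat_lit 0, nat_lit 2, nat_lit 2])) (.leaf ((nat_lit 537), [nat_lit 1, nat_lit 5, nat_lit 1, nat_lit 5, nat_lit 2, nat_lit 3, nat_lit 1, nat_lit 3, nat_lit 0, nat_lit 3, nat_lit 2, nat_lit 2, nat_lit 0]))) (.node (nat_lit 586) (.leaf ((nat_lit 538), [nat_lit 4, nat_lit 3, nat_lit 5, nat_lit 0, nat_lit 5, nat_lit 0, nat_lit 2, nat_lit 0, nat_lit 4, nat_lit 1, nat_lit 4, nat_lit 0, nat_lit 2, nat_lit 2, nat_lit 0, nat_lit 2, nat_lit 2])) (.node (nat_lit 587) (.leaf ((nat_lit 496), [nat_lit 5, nat_lit 4, nat_lit 5, nat_lit 1, nat_lit 5, nat_lit 1, nat_lit 3, nat_lit 4, nat_lit 0, nat_lit 1, nat_lit 0, nat_lit 1])) (.leaf ((nat_lit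 3), [nat_lit 0, nat_lit 2, nat_lit 5, nat_lit 3, nat_lit 5, nat_lit 0, nat_lit 1, nat_lit 3, nat_lit 4, nat_lit 1, nat_lit 3, nat_lit 2, nat_lit 2, nat_lit 0, nat_lit 2, nat_lit 2])))))
 (.node (nat_lit 591) (.node (nat_lit 589) (.leaf ((nat_lit 539), [nat_lit 4, nat_lit 5, nat_lit 2, nat_lit 5, nat_lit 3, nat_lit 4, nat_lit 1, nat_lit 4, nat_lit 3, nat_lit 2, nat_lit 2, nat_lit 0, nat_lit 2, nat_lit 0])) (.node (nat_lit 590) (.leaf ((nat_lit 540), [nat_lit 5, nat_lit 3, nat_lit 5, nat_lit 4, nat_lit 0, nat_lit 3, nat_lit 0, nat_lit 1, nat_lit 4, nat_lit 1, nat_lit 0, nat_lit 2, nat_lit 2, nat_lit 0, nat_lit 2, nat_lit 2, nat_lit 0])) (.leaf ((nat_lit 541), [nat_lit 2, nat_lit 5, nat_lit 0, nat_lit 1, nat_lit 5, nat_lit 4, nat_lit 2, nat_lit 0, nat_lit 4, nat_lit 0, nat_lit 2])))) (.node (nat_lit 592) (.leaf ((nat_lit 286), [nat_lit 4, nat_lit 2,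 nat_lit 5, nat_lit 1, nat_lit 5, nat_lit 2, nat_lit 3, nat_lit 0, nat_lit 2, nat_lit 4, nat_lit 3, nat_lit 2, nat_lit 0, nat_lit 2, nat_lit 0, nat_lit 1, nat_lit 0, nat_lit 1])) (.node (nat_lit 593) (.leaf ((nat_lit 478), [nat_lit 4, nat_lit 5, nat_lit 2, nat_lit 5, nat_lit 2, nat_lit 3, nat_lit 0, nat_lit 2, nat_lit 4, nat_lit 3, nat_lit 2, nat_lit 0, nat_lit 2, nat_lit 0, nat_lit 1])) (.leaf ((nat_lit 542), [nat_lit 5, nat_lit 2, nat_lit 2, nat_lit 0, nat_lit 5, nat_lit 3, nat_lit 2, nat_lit 3, nat_lit 0, nat_lit 3, nat_lit 1, nat_lit 0, nat_lit 1, nat_lit 0, nat_lit 2])))))))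
 (.node (nat_lit 605) (.node (nat_lit 599) (.node (nat_lit 596) (.node (nat_lit 595) (.leaf ((nat_lit 543), [nat_lit 5, nat_lit 0, nat_lit 5, nat_lit 1, nat_lit 0, nat_lit 2, nat_lit 3, nat_lit 2, nat_lit 0, nat_lit 1])) (.leaf ((nat_lit 544), [nat_lit 4, nat_lit 5, nat_lit 3, nat_lit 5, nat_lit 4, nat_lit 1, nat_lit 4, nat_lit 2, nat_lit 4, nat_lit 3, nat_lit 0, nat_lit 2, nat_lit 0]))) (.node (nat_lit 597) (.leaf ((nat_lit 545), [nat_lit 4, nat_lit 5, nat_lit 0, nat_lit 3, nat_lit 5, nat_lit 3, nat_lit 1, nat_lit 3, nat_lit 0, nat_lit 4, nat_lit 0, nat_lit 2, nat_lit 2, nat_lit 0, nat_lit 2, nat_lit 0, nat_lit 1])) (.node (nat_lit 598) (.leaf ((nat_lit 546), [nat_lit 2, nat_lit 4, nat_lit 5, nat_lit 2, nat_lit 0, nat_lit 5, nat_lit 2, nat_lit 0, nat_lit 3, nat_lit 0, nat_lit 2, nat_lit 0])) (.leaf ((nat_lit 547), [nat_lit 2, nat_lit 4, nat_lit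 0, nat_lit 5, nat_lit 4, nat_lit 0, nat_lit 4, nat_lit 0, nat_lit 1, nat_lit 0, nat_lit 1])))))
 (.node (nat_lit 602) (.node (nat_lit 600) (.leaf ((nat_lit 190), [nat_lit 0, nat_lit 2, nat_lit 5, nat_lit 3, nat_lit 5, nat_lit 2, nat_lit 4, nat_lit 3, nat_lit 0, nat_lit 3, nat_lit 1, nat_lit 0, nat_lit 1, nat_lit 0, nat_lit 2, nat_lit 0, nat_lit 2])) (.node (nat_lit 601) (.leaf ((nat_lit 548), [nat_lit 4, nat_lit 5, nat_lit 3, nat_lit 0, nat_lit 5, nat_lit 3, nat_lit 4, nat_lit 0, nat_lit 4, nat_lit 3, nat_lit 0, nat_lit 2, nat_lit 0, nat_lit 2, nat_lit 0])) (.leaf ((nat_lit 549), [nat_lit 4, nat_lit 3, nat_lit 2, nat_lit 5, nat_lit 3, nat_lit 2, nat_lit 0, nat_lit 4, nat_lit 3, nat_lit 1, nat_lit 0, nat_lit 2])))) (.node (nat_lit 603) (.leaf ((nat_lit 550), [nat_lit 0, nat_lit 5, nat_lit 2, nat_lit 3, nat_lit 5, nat_lit 0, nat_lit 1, nat_lit 3, nat_lit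 1, nat_lit 0, nat_lit 4, nat_lit 1, nat_lit 0, nat_lit 2, nat_lit 2, nat_lit 0, nat_lit 2, nat_lit 2])) (.node (nat_lit 604) (.leaf ((nat_lit 551), [nat_lit 0, nat_lit 5, nat_lit 3, nat_lit 5, nat_lit 3, nat_lit 0, nat_lit 4, nat_lit 3, nat_lit 2, nat_lit 3, nat_lit 1, nat_lit 0, nat_lit 2, nat_lit 0, nat_lit 2, nat_lit 2])) (.leaf ((nat_lit 552), [nat_lit 2, nat_lit 3, nat_lit 0, nat_lit 2, nat_lit 4, nat_lit 3, nat_lit 0, nat_lit 2, nat_lit 0, nat_lit 2, nat_lit 2]))))))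
 (.node (nat_lit 610) (.node (nat_lit 607) (.node (nat_lit 606) (.leaf ((nat_lit 9), [nat_lit 2, nat_lit 0, nat_lit 1, nat_lit 5, nat_lit 3, nat_lit 0, nat_lit 1, nat_lit 0, nat_lit 3, nat_lit 2, nat_lit 2, nat_lit 0, nat_lit 1, nat_lit 0])) (.leaf ((nat_lit 138), [nat_lit 5, nat_lit 2, nat_lit 2, nat_lit 0, nat_lit 5, nat_lit 3, nat_lit 4, nat_lit 0, nat_lit 4, nat_lit 1, nat_lit 3, nat_lit 0, nat_lit 2]))) (.node (nat_lit 608) (.leaf ((nat_lit 553), [nat_lit 4, nat_lit 5, nat_lit 3, nat_lit 2, nat_lit 5, nat_lit 2, nat_lit 4, nat_lit 0, nat_lit 2, nat_lit 2, nat_lit 0, nat_lit 2, nat_lit 0, nat_lit 1, nat_lit 0])) (.node (nat_lit 609) (.leaf ((nat_lit 376), [nat_lit 2, nat_lit 3, nat_lit 0, nat_lit 5, nat_lit 0, nat_lit 1, nat_lit 3, nat_lit 1, nat_lit 0, nat_lit 4, nat_lit 2, nat_lit 0, nat_lit 1])) (.leaf ((nat_lit 554), [nat_lit 0, nat_lit 2,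 nat_lit 4, nat_lit 0, nat_lit 5, nat_lit 3, nat_lit 1, nat_lit 4, nat_lit 0, nat_lit 1, nat_lit 0, nat_lit 2, nat_lit 0, nat_lit 2, nat_lit 2])))))
 (.node (nat_lit 613) (.node (nat_lit 611) (.leaf ((nat_lit 555), [nat_lit 4, nat_lit 5, nat_lit 2, nat_lit 3, nat_lit 5, nat_lit 0, nat_lit 2, nat_lit 3, nat_lit 4, nat_lit 1, nat_lit 3, nat_lit 0, nat_lit 1, nat_lit 0, nat_lit 1, nat_lit 0])) (.node (nat_lit 612) (.leaf ((nat_lit 556), [nat_lit 3, nat_lit 5, nat_lit 0, nat_lit 3, nat_lit 5, nat_lit 1, nat_lit 0, nat_lit 2, nat_lit 0])) (.leaf ((nat_lit 557), [nat_lit 3, nat_lit 2, nat_lit 5, nat_lit 4, nat_lit 0, nat_lit 3, nat_lit 0, nat_lit 1, nat_lit 0, nat_lit 2])))) (.node (nat_lit 614) (.leaf ((nat_lit 558), [nat_lit 2, nat_lit 0, nat_lit 2, nat_lit 5, nat_lit 2, nat_lit 3, nat_lit 0, nat_lit 2, nat_lit 4, nat_lit 2, nat_lit 2, nat_lit 0, nat_lit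 2, nat_lit 0, nat_lit 1])) (.node (nat_lit 615) (.leaf ((nat_lit 559), [nat_lit 5, nat_lit 1, nat_lit 0, nat_lit 2, nat_lit 5, nat_lit 3, nat_lit 1, nat_lit 4, nat_lit 2, nat_lit 4, nat_lit 3, nat_lit 0, nat_lit 1, nat_lit 0])) (.leaf ((nat_lit 560), [nat_lit 5, nat_lit 1, nat_lit 5, nat_lit 0, nat_lit 5, nat_lit 2, nat_lit 2, nat_lit 3, nat_lit 0, nat_lit 2, nat_lit 2, nat_lit 0, nat_lit 1])))))))))
 (.node (nat_lit 660) (.node (nat_lit 638) (.node (nat_lit 627) (.node (nat_lit 621) (.node (nat_lit 618) (.node (nat_lit 617) (.leaf ((nat_lit 561), [nat_lit 5, nat_lit 0, nat_lit 3, nat_lit 5, nat_lit 3, nat_lit 0, nat_lit 4, nat_lit 1, nat_lit 4, nat_lit 0, nat_lit 1, nat_lit 0, nat_lit 2, nat_lit 0, nat_lit 2, nat_lit 0])) (.leaf ((nat_lit 180), [nat_lit 2, nat_lit 2, nat_lit 5, nat_lit 1, nat_lit 5, nat_lit 3, nat_lit 0, nat_lit 3, nat_lit 4, nat_lit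 3, nat_lit 0, nat_lit 1, nat_lit 0]))) (.node (nat_lit 619) (.leaf ((nat_lit 562), [nat_lit 4, nat_lit 1, nat_lit 5, nat_lit 2, nat_lit 5, nat_lit 2, nat_lit 0, nat_lit 1, nat_lit 4, nat_lit 3, nat_lit 2, nat_lit 0, nat_lit 2, nat_lit 2, nat_lit 0])) (.node (nat_lit 620) (.leaf ((nat_lit 563), [nat_lit 2, nat_lit 0, nat_lit 5, nat_lit 4, nat_lit 1, nat_lit 3, nat_lit 0, nat_lit 3, nat_lit 1, nat_lit 0, nat_lit 2, nat_lit 0, nat_lit 2, nat_lit 0])) (.leaf ((nat_lit 511), [nat_lit 3, nat_lit 4, nat_lit 3, nat_lit 5, nat_lit 1, nat_lit 4, nat_lit 2, nat_lit 2, nat_lit 0, nat_lit 2, nat_lit 0, nat_lit 1, nat_lit 0])))))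
 (.node (nat_lit 624) (.node (nat_lit 622) (.leaf ((nat_lit 564), [nat_lit 1, nat_lit 0, nat_lit 5, nat_lit 2, nat_lit 3, nat_lit 0, nat_lit 4, nat_lit 1, nat_lit 0, nat_lit 2])) (.node (nat_lit 623) (.leaf ((nat_lit 441), [nat_lit 4, nat_lit 5, nat_lit 4, nat_lit 0, nat_lit 5, nat_lit 2, nat_lit 2, nat_lit 4, nat_lit 3, nat_lit 2, nat_lit 3, nat_lit 1])) (.leaf ((nat_lit 565), [nat_lit 3, nat_lit 5, nat_lit 1, nat_lit 3, nat_lit 2, nat_lit 5, nat_lit 4, nat_lit 0, nat_lit 4, nat_lit 1, nat_lit 3, nat_lit 0, nat_lit 1, nat_lit 0, nat_lit 1])))) (.node (nat_lit 625) (.leaf ((nat_lit 419), [nat_lit 3, nat_lit 2, nat_lit 3, nat_lit 5, nat_lit 2, nat_lit 2, nat_lit 4, nat_lit 2, nat_lit 4, nat_lit 1, nat_lit 0, nat_lit 2, nat_lit 0])) (.node (nat_lit 626) (.leaf ((nat_lit 566), [nat_lit 5, nat_lit 4, nat_lit 0, nat_lit 5, nat_lit 0, nat_lit 2, nat_lit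 0, nat_lit 2, nat_lit 3, nat_lit 2, nat_lit 0, nat_lit 2, nat_lit 2, nat_lit 0, nat_lit 2])) (.leaf ((nat_lit 567), [nat_lit 3, nat_lit 1, nat_lit 5, nat_lit 0, nat_lit 5, nat_lit 0, nat_lit 1, nat_lit 3, nat_lit 0, nat_lit 3, nat_lit 0, nat_lit 2, nat_lit 2]))))))
 (.node (nat_lit 632) (.node (nat_lit 629) (.node (nat_lit 628) (.leaf ((nat_lit 568), [nat_lit 2, nat_lit 5, nat_lit 2, nat_lit 3, nat_lit 1, nat_lit 3, nat_lit 4, nat_lit 2, nat_lit 0, nat_lit 1, nat_lit 0, nat_lit 1, nat_lit 0, nat_lit 2])) (.leaf ((nat_lit 498), [nat_lit 0, nat_lit 4, nat_lit 5, nat_lit 3, nat_lit 1, nat_lit 3, nat_lit 4, nat_lit 3, nat_lit 2, nat_lit 2, nat_lit 0, nat_lit 1, nat_lit 0]))) (.node (nat_lit 630) (.leaf ((nat_lit 569), [nat_lit 5, nat_lit 1, nat_lit 0, nat_lit 3, nat_lit 5, nat_lit 1, nat_lit 4, nat_lit 0, nat_lit 1, nat_lit 0])) (.node (nat_lit 631)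 (.leaf ((nat_lit 570), [nat_lit 2, nat_lit 3, nat_lit 0, nat_lit 5, nat_lit 3, nat_lit 0, nat_lit 4, nat_lit 0, nat_lit 4, nat_lit 2, nat_lit 0, nat_lit 2, nat_lit 0, nat_lit 1, nat_lit 0])) (.leaf ((nat_lit 571), [nat_lit 5, nat_lit 1, nat_lit 0, nat_lit 3, nat_lit 5, nat_lit 0, nat_lit 4, nat_lit 0, nat_lit 4, nat_lit 0, nat_lit 2, nat_lit 2])))))
 (.node (nat_lit 635) (.node (nat_lit 633) (.leaf ((nat_lit 572), [nat_lit 3, nat_lit 2, nat_lit 3, nat_lit 5, nat_lit 1, nat_lit 4, nat_lit 3, nat_lit 2, nat_lit 3, nat_lit 2, nat_lit 2, nat_lit 0, nat_lit 2, nat_lit 2, nat_lit 0])) (.node (nat_lit 634) (.leaf ((nat_lit 573), [nat_lit 2, nat_lit 2, nat_lit 0, nat_lit 5, nat_lit 2, nat_lit 0, nat_lit 3, nat_lit 2, nat_lit 3, nat_lit 2, nat_lit 0, nat_lit 2, nat_lit 2, nat_lit 0, nat_lit 2, nat_lit 2])) (.leaf ((nat_lit 574), [nat_lit 0, nat_lit 2, nat_lit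 4, nat_lit 0, nat_lit 5, nat_lit 2, nat_lit 0, nat_lit 2, nat_lit 2, nat_lit 3, nat_lit 0, nat_lit 1, nat_lit 0, nat_lit 2, nat_lit 2, nat_lit 0, nat_lit 2, nat_lit 0])))) (.node (nat_lit 636) (.leaf ((nat_lit 575), [nat_lit 5, nat_lit 4, nat_lit 0, nat_lit 5, nat_lit 3, nat_lit 2, nat_lit 3, nat_lit 2, nat_lit 3, nat_lit 1, nat_lit 0, nat_lit 2, nat_lit 0, nat_lit 1, nat_lit 0])) (.node (nat_lit 637) (.leaf ((nat_lit 447), [nat_lit 4, nat_lit 5, nat_lit 2, nat_lit 3, nat_lit 5, nat_lit 2, nat_lit 0, nat_lit 1, nat_lit 4, nat_lit 3, nat_lit 2, nat_lit 2, nat_lit 0, nat_lit 2, nat_lit 0, nat_lit 1])) (.leaf ((nat_lit 576), [nat_lit 2, nat_lit 2, nat_lit 5, nat_lit 2, nat_lit 4, nat_lit 1, nat_lit 0, nat_lit 3, nat_lit 2, nat_lit 0])))))))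
 (.node (nat_lit 649) (.node (nat_lit 643) (.node (nat_lit 640) (.node (nat_lit 639) (.leaf ((nat_lit 577), [nat_lit 4, nat_lit 5, nat_lit 2, nat_lit 3, nat_lit 5, nat_lit 2, nat_lit 4, nat_lit 2, nat_lit 0, nat_lit 2, nat_lit 3, nat_lit 2, nat_lit 2, nat_lit 0, nat_lit 2, nat_lit 2, nat_lit 0, nat_lit 1])) (.leaf ((nat_lit 398), [nat_lit 0, nat_lit 5, nat_lit 2, nat_lit 0, nat_lit 5, nat_lit 1, nat_lit 4, nat_lit 3, nat_lit 2, nat_lit 0, nat_lit 2, nat_lit 2, nat_lit 0, nat_lit 1, nat_lit 0]))) (.node (nat_lit 641) (.leaf ((nat_lit 427), [nat_lit 2, nat_lit 5, nat_lit 3, nat_lit 1, nat_lit 3, nat_lit 0, nat_lit 1])) (.node (nat_lit 642) (.leaf ((nat_lit 578), [nat_lit 3, nat_lit 5, nat_lit 0, nat_lit 3, nat_lit 5, nat_lit 3, nat_lit 0, nat_lit 3, nat_lit 4, nat_lit 2, nat_lit 0])) (.leaf ((nat_lit 415), [nat_lit 3, nat_lit 0, nat_lit 4, nat_lit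 2, nat_lit 0])))))
 (.node (nat_lit 646) (.node (nat_lit 644) (.leaf ((nat_lit 579), [nat_lit 5, nat_lit 1, nat_lit 5, nat_lit 1, nat_lit 4, nat_lit 3, nat_lit 2, nat_lit 3, nat_lit 2, nat_lit 2, nat_lit 0, nat_lit 1, nat_lit 0, nat_lit 2, nat_lit 2, nat_lit 0])) (.node (nat_lit 645) (.leaf ((nat_lit 253), [nat_lit 1, nat_lit 3, nat_lit 0, nat_lit 5, nat_lit 2, nat_lit 2, nat_lit 0, nat_lit 3, nat_lit 2, nat_lit 2, nat_lit 0, nat_lit 2, nat_lit 0, nat_lit 1, nat_lit 0])) (.leaf ((nat_lit 580), [nat_lit 2, nat_lit 3, nat_lit 0, nat_lit 5, nat_lit 4, nat_lit 3, nat_lit 0, nat_lit 2, nat_lit 4, nat_lit 2, nat_lit 2])))) (.node (nat_lit 647) (.leaf ((nat_lit 581), [nat_lit 4, nat_lit 1, nat_lit 0, nat_lit 5, nat_lit 4, nat_lit 2, nat_lit 2, nat_lit 4, nat_lit 3, nat_lit 1, nat_lit 0, nat_lit 2, nat_lit 0, nat_lit 2, nat_lit 0])) (.node (nat_lit 648)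 (.leaf ((nat_lit 302), [nat_lit 5, nat_lit 2, nat_lit 5, nat_lit 4, nat_lit 2, nat_lit 0, nat_lit 3, nat_lit 2, nat_lit 0, nat_lit 2, nat_lit 2, nat_lit 0, nat_lit 2, nat_lit 2])) (.leaf ((nat_lit 554), [nat_lit 3, nat_lit 5, nat_lit 2, nat_lit 3, nat_lit 0, nat_lit 5, nat_lit 2, nat_lit 3, nat_lit 4, nat_lit 0, nat_lit 2, nat_lit 4, nat_lit 2, nat_lit 2, nat_lit 0, nat_lit 1]))))))
 (.node (nat_lit 654) (.node (nat_lit 651) (.node (nat_lit 650) (.leaf ((nat_lit 582), [nat_lit 0, nat_lit 2, nat_lit 5, nat_lit 3, nat_lit 5, nat_lit 3, nat_lit 2, nat_lit 0, nat_lit 1, nat_lit 0, nat_lit 3, nat_lit 0, nat_lit 1, nat_lit 0, nat_lit 2, nat_lit 2, nat_lit 0])) (.leaf ((nat_lit 63), [nat_lit 4, nat_lit 3, nat_lit 2, nat_lit 5, nat_lit 2, nat_lit 3, nat_lit 2, nat_lit 4, nat_lit 3, nat_lit 1, nat_lit 0, nat_lit 2, nat_lit 0, nat_lit 2, nat_lit 2]))) (.node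 (nat_lit 652) (.leaf ((nat_lit 583), [nat_lit 3, nat_lit 0, nat_lit 5, nat_lit 1, nat_lit 0, nat_lit 3, nat_lit 1, nat_lit 3, nat_lit 2, nat_lit 0, nat_lit 1, nat_lit 0, nat_lit 1, nat_lit 0, nat_lit 2])) (.node (nat_lit 653) (.leaf ((nat_lit 584), [nat_lit 4, nat_lit 5, nat_lit 3, nat_lit 2, nat_lit 3, nat_lit 2, nat_lit 4, nat_lit 2, nat_lit 0, nat_lit 1, nat_lit 0, nat_lit 2, nat_lit 0])) (.leaf ((nat_lit 585), [nat_lit 3, nat_lit 5, nat_lit 2, nat_lit 3, nat_lit 1, nat_lit 3, nat_lit 2, nat_lit 2, nat_lit 0, nat_lit 2, nat_lit 2, nat_lit 0])))))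
 (.node (nat_lit 657) (.node (nat_lit 655) (.leaf ((nat_lit 586), [nat_lit 3, nat_lit 5, nat_lit 2, nat_lit 5, nat_lit 3, nat_lit 2, nat_lit 2, nat_lit 0, nat_lit 4, nat_lit 0, nat_lit 1, nat_lit 0, nat_lit 2, nat_lit 0, nat_lit 2, nat_lit 2])) (.node (nat_lit 656) (.leaf ((nat_lit 523), [nat_lit 3, nat_lit 5, nat_lit 1, nat_lit 3, nat_lit 0, nat_lit 5, nat_lit 3, nat_lit 4, nat_lit 3, nat_lit 2, nat_lit 3, nat_lit 0, nat_lit 2, nat_lit 0, nat_lit 2, nat_lit 2, nat_lit 0, nat_lit 2, nat_lit 0])) (.leaf ((nat_lit 587), [nat_lit 5, nat_lit 2, nat_lit 3, nat_lit 5, nat_lit 3, nat_lit 2, nat_lit 0, nat_lit 2, nat_lit 3, nat_lit 1, nat_lit 0, nat_lit 1, nat_lit 0, nat_lit 2, nat_lit 2, nat_lit 0])))) (.node (nat_lit 658) (.leaf ((nat_lit 588), [nat_lit 5, nat_lit 4, nat_lit 5, nat_lit 1, nat_lit 4, nat_lit 0, nat_lit 3, nat_lit 4, nat_lit 2, nat_lit 2,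 nat_lit 0, nat_lit 1, nat_lit 0])) (.node (nat_lit 659) (.leaf ((nat_lit 589), [nat_lit 3, nat_lit 1, nat_lit 3, nat_lit 0, nat_lit 5, nat_lit 0, nat_lit 1, nat_lit 4, nat_lit 1, nat_lit 0, nat_lit 3, nat_lit 0, nat_lit 2, nat_lit 0, nat_lit 2, nat_lit 2, nat_lit 0, nat_lit 1])) (.leaf ((nat_lit 590), [nat_lit 5, nat_lit 4, nat_lit 5, nat_lit 2, nat_lit 5, nat_lit 4, nat_lit 1, nat_lit 3, nat_lit 2, nat_lit 0, nat_lit 2]))))))))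
 (.node (nat_lit 682) (.node (nat_lit 671) (.node (nat_lit 665) (.node (nat_lit 662) (.node (nat_lit 661) (.leaf ((nat_lit 591), [nat_lit 5, nat_lit 4, nat_lit 5, nat_lit 3, nat_lit 5, nat_lit 4, nat_lit 0, nat_lit 3, nat_lit 2, nat_lit 3, nat_lit 0, nat_lit 2, nat_lit 0, nat_lit 2, nat_lit 2])) (.leaf ((nat_lit 592), [nat_lit 2, nat_lit 3, nat_lit 5, nat_lit 0, nat_lit 5, nat_lit 0, nat_lit 2, nat_lit 2, nat_lit 0, nat_lit 4, nat_lit 2, nat_lit 2, nat_lit 0, nat_lit 2, nat_lit 2, nat_lit 0, nat_lit 2, nat_lit 2]))) (.node (nat_lit 663) (.leaf ((nat_lit 593), [nat_lit 5, nat_lit 4, nat_lit 5, nat_lit 2, nat_lit 2, nat_lit 0, nat_lit 3, nat_lit 4, nat_lit 1, nat_lit 0, nat_lit 1, nat_lit 0])) (.node (nat_lit 664) (.leaf ((nat_lit 594), [nat_lit 3, nat_lit 5, nat_lit 3, nat_lit 0, nat_lit 3, nat_lit 4, nat_lit 0, nat_lit 2, nat_lit 0, nat_lit 2, nat_lit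 2, nat_lit 0, nat_lit 1, nat_lit 0])) (.leaf ((nat_lit 595), [nat_lit 4, nat_lit 5, nat_lit 3, nat_lit 2, nat_lit 5, nat_lit 2, nat_lit 0, nat_lit 4, nat_lit 1, nat_lit 4, nat_lit 0, nat_lit 1, nat_lit 0, nat_lit 2, nat_lit 2, nat_lit 0, nat_lit 1])))))
 (.node (nat_lit 668) (.node (nat_lit 666) (.leaf ((nat_lit 596), [nat_lit 4, nat_lit 1, nat_lit 5, nat_lit 2, nat_lit 5, nat_lit 4, nat_lit 1, nat_lit 0, nat_lit 2, nat_lit 3, nat_lit 0, nat_lit 1, nat_lit 0, nat_lit 2, nat_lit 2, nat_lit 0, nat_lit 2])) (.node (nat_lit 667) (.leaf ((nat_lit 597), [nat_lit 5, nat_lit 4, nat_lit 5, nat_lit 3, nat_lit 5, nat_lit 3, nat_lit 0, nat_lit 3, nat_lit 2, nat_lit 4, nat_lit 1, nat_lit 0, nat_lit 2, nat_lit 2, nat_lit 0])) (.leaf ((nat_lit 598), [nat_lit 4, nat_lit 3, nat_lit 5, nat_lit 2, nat_lit 5, nat_lit 2, nat_lit 4, nat_lit 2, nat_lit 2, nat_lit 4, nat_lit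 3, nat_lit 1, nat_lit 0, nat_lit 2, nat_lit 0, nat_lit 2, nat_lit 2])))) (.node (nat_lit 669) (.leaf ((nat_lit 331), [nat_lit 3, nat_lit 2, nat_lit 0, nat_lit 5, nat_lit 2, nat_lit 4, nat_lit 2, nat_lit 3, nat_lit 2, nat_lit 2, nat_lit 0, nat_lit 1])) (.node (nat_lit 670) (.leaf ((nat_lit 599), [nat_lit 5, nat_lit 2, nat_lit 5, nat_lit 3, nat_lit 0, nat_lit 1, nat_lit 3, nat_lit 4, nat_lit 2, nat_lit 3, nat_lit 1, nat_lit 0, nat_lit 1, nat_lit 0, nat_lit 2, nat_lit 0, nat_lit 2])) (.leaf ((nat_lit 600), [nat_lit 3, nat_lit 5, nat_lit 2, nat_lit 0, nat_lit 2, nat_lit 2, nat_lit 3]))))))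
 (.node (nat_lit 676) (.node (nat_lit 673) (.node (nat_lit 672) (.leaf ((nat_lit 545), [nat_lit 5, nat_lit 2, nat_lit 5, nat_lit 1, nat_lit 0, nat_lit 4, nat_lit 3, nat_lit 0, nat_lit 3, nat_lit 0, nat_lit 2, nat_lit 0, nat_lit 2, nat_lit 2, nat_lit 0, nat_lit 2])) (.leaf ((nat_lit 601), [nat_lit 0, nat_lit 4, nat_lit 2, nat_lit 0, nat_lit 5, nat_lit 4, nat_lit 3, nat_lit 2, nat_lit 3, nat_lit 2, nat_lit 3, nat_lit 0, nat_lit 2, nat_lit 0, nat_lit 2]))) (.node (nat_lit 674) (.leaf ((nat_lit 602), [nat_lit 1, nat_lit 0, nat_lit 5, nat_lit 0, nat_lit 4, nat_lit 2, nat_lit 0, nat_lit 2, nat_lit 3, nat_lit 1, nat_lit 0])) (.node (nat_lit 675) (.leaf ((nat_lit 603), [nat_lit 3, nat_lit 5, nat_lit 1, nat_lit 3, nat_lit 2, nat_lit 5, nat_lit 3, nat_lit 1, nat_lit 4, nat_lit 0, nat_lit 4, nat_lit 3, nat_lit 0, nat_lit 2, nat_lit 0, nat_lit 2, nat_lit 0]))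 (.leaf ((nat_lit 604), [nat_lit 5, nat_lit 1, nat_lit 3, nat_lit 0, nat_lit 5, nat_lit 2, nat_lit 2, nat_lit 0, nat_lit 4, nat_lit 1, nat_lit 0, nat_lit 2, nat_lit 0])))))
 (.node (nat_lit 679) (.node (nat_lit 677) (.leaf ((nat_lit 605), [nat_lit 0, nat_lit 2, nat_lit 5, nat_lit 3, nat_lit 5, nat_lit 2, nat_lit 2, nat_lit 4, nat_lit 0, nat_lit 4, nat_lit 0, nat_lit 1, nat_lit 0, nat_lit 2, nat_lit 0, nat_lit 2, nat_lit 2, nat_lit 0])) (.node (nat_lit 678) (.leaf ((nat_lit 606), [nat_lit 3, nat_lit 4, nat_lit 5, nat_lit 3, nat_lit 2, nat_lit 0, nat_lit 4, nat_lit 2, nat_lit 0, nat_lit 2, nat_lit 2, nat_lit 0, nat_lit 2, nat_lit 2])) (.leaf ((nat_lit 607), [nat_lit 5, nat_lit 4, nat_lit 5, nat_lit 3, nat_lit 2, nat_lit 4, nat_lit 2, nat_lit 4, nat_lit 0, nat_lit 2, nat_lit 2, nat_lit 0, nat_lit 1, nat_lit 0, nat_lit 2])))) (.node (nat_lit 680) (.leaf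 ((nat_lit 608), [nat_lit 3, nat_lit 5, nat_lit 2, nat_lit 3, nat_lit 0, nat_lit 5, nat_lit 4, nat_lit 0, nat_lit 4, nat_lit 0, nat_lit 4, nat_lit 2, nat_lit 0, nat_lit 2, nat_lit 2])) (.node (nat_lit 681) (.leaf ((nat_lit 609), [nat_lit 2, nat_lit 5, nat_lit 1, nat_lit 5, nat_lit 0, nat_lit 4, nat_lit 3, nat_lit 0, nat_lit 3, nat_lit 0, nat_lit 2])) (.leaf ((nat_lit 610), [nat_lit 0, nat_lit 5, nat_lit 2, nat_lit 0, nat_lit 5, nat_lit 2, nat_lit 2, nat_lit 0, nat_lit 3, nat_lit 4, nat_lit 1, nat_lit 0])))))))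
 (.node (nat_lit 693) (.node (nat_lit 687) (.node (nat_lit 684) (.node (nat_lit 683) (.leaf ((nat_lit 114), [nat_lit 5, nat_lit 1, nat_lit 5, nat_lit 0, nat_lit 5, nat_lit 3, nat_lit 1, nat_lit 4, nat_lit 0, nat_lit 4, nat_lit 0, nat_lit 2, nat_lit 2, nat_lit 0, nat_lit 2, nat_lit 2, nat_lit 0])) (.leaf ((nat_lit 611), [nat_lit 2, nat_lit 3, nat_lit 5, nat_lit 2, nat_lit 3, nat_lit 4, nat_lit 1, nat_lit 0, nat_lit 3, nat_lit 2, nat_lit 0, nat_lit 2, nat_lit 2, nat_lit 0, nat_lit 2]))) (.node (nat_lit 685) (.leaf ((nat_lit 612), [nat_lit 3, nat_lit 4, nat_lit 5, nat_lit 2, nat_lit 3, nat_lit 2, nat_lit 0, nat_lit 4, nat_lit 1, nat_lit 0, nat_lit 1])) (.node (nat_lit 686) (.leaf ((nat_lit 613), [nat_lit 4, nat_lit 0, nat_lit 5, nat_lit 2, nat_lit 5, nat_lit 2, nat_lit 4, nat_lit 0, nat_lit 4, nat_lit 3, nat_lit 1, nat_lit 0, nat_lit 1, nat_lit 0, nat_lit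 2, nat_lit 0, nat_lit 2, nat_lit 0])) (.leaf ((nat_lit 241), [nat_lit 3, nat_lit 5, nat_lit 1, nat_lit 3, nat_lit 2, nat_lit 5, nat_lit 1, nat_lit 0, nat_lit 4, nat_lit 3, nat_lit 1, nat_lit 0, nat_lit 2, nat_lit 2, nat_lit 0, nat_lit 2])))))
 (.node (nat_lit 690) (.node (nat_lit 688) (.leaf ((nat_lit 614), [nat_lit 5, nat_lit 4, nat_lit 0, nat_lit 5, nat_lit 2, nat_lit 4, nat_lit 2, nat_lit 3, nat_lit 0, nat_lit 2])) (.node (nat_lit 689) (.leaf ((nat_lit 615), [nat_lit 3, nat_lit 4, nat_lit 5, nat_lit 2, nat_lit 5, nat_lit 0, nat_lit 4, nat_lit 0, nat_lit 1, nat_lit 0, nat_lit 3, nat_lit 1, nat_lit 0, nat_lit 2, nat_lit 2, nat_lit 0, nat_lit 2, nat_lit 2])) (.leaf ((nat_lit 616), [nat_lit 4, nat_lit 3, nat_lit 0, nat_lit 5, nat_lit 0, nat_lit 2, nat_lit 0, nat_lit 3, nat_lit 4, nat_lit 2, nat_lit 0, nat_lit 1, nat_lit 0, nat_lit 1, nat_lit 0, nat_lit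 2])))) (.node (nat_lit 691) (.leaf ((nat_lit 617), [nat_lit 3, nat_lit 0, nat_lit 5, nat_lit 3, nat_lit 5, nat_lit 1, nat_lit 3, nat_lit 2, nat_lit 4, nat_lit 2, nat_lit 0, nat_lit 1, nat_lit 0, nat_lit 2, nat_lit 0, nat_lit 2])) (.node (nat_lit 692) (.leaf ((nat_lit 618), [nat_lit 1, nat_lit 0, nat_lit 5, nat_lit 3, nat_lit 5, nat_lit 4, nat_lit 2, nat_lit 3, nat_lit 0, nat_lit 2, nat_lit 0, nat_lit 2, nat_lit 0])) (.leaf ((nat_lit 619), [nat_lit 2, nat_lit 0, nat_lit 5, nat_lit 0, nat_lit 2, nat_lit 4, nat_lit 3, nat_lit 1, nat_lit 0, nat_lit 2, nat_lit 2, nat_lit 0, nat_lit 2, nat_lit 2]))))))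
 (.node (nat_lit 698) (.node (nat_lit 695) (.node (nat_lit 694) (.leaf ((nat_lit 620), [nat_lit 1, nat_lit 5, nat_lit 0, nat_lit 5, nat_lit 3, nat_lit 2, nat_lit 0, nat_lit 1, nat_lit 0, nat_lit 3, nat_lit 0, nat_lit 1, nat_lit 0, nat_lit 1])) (.leaf ((nat_lit 388), [nat_lit 5, nat_lit 4, nat_lit 3, nat_lit 0, nat_lit 5, nat_lit 1, nat_lit 0, nat_lit 4, nat_lit 3, nat_lit 0, nat_lit 1, nat_lit 0, nat_lit 2, nat_lit 2, nat_lit 0, nat_lit 1, nat_lit 0]))) (.node (nat_lit 696) (.leaf ((nat_lit 621), [nat_lit 4, nat_lit 2, nat_lit 5, nat_lit 1, nat_lit 5, nat_lit 3, nat_lit 4, nat_lit 3, nat_lit 2, nat_lit 4, nat_lit 2, nat_lit 0, nat_lit 1, nat_lit 0, nat_lit 2, nat_lit 2])) (.node (nat_lit 697) (.leaf ((nat_lit 622), [nat_lit 5, nat_lit 3, nat_lit 5, nat_lit 0, nat_lit 3, nat_lit 2, nat_lit 3, nat_lit 1, nat_lit 0, nat_lit 1])) (.leaf ((nat_lit 623),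 [nat_lit 3, nat_lit 2, nat_lit 3, nat_lit 5, nat_lit 1, nat_lit 4, nat_lit 2, nat_lit 3, nat_lit 1, nat_lit 3, nat_lit 0, nat_lit 1, nat_lit 0, nat_lit 2, nat_lit 2, nat_lit 0, nat_lit 2])))))
 (.node (nat_lit 701) (.node (nat_lit 699) (.leaf ((nat_lit 624), [nat_lit 4, nat_lit 3, nat_lit 5, nat_lit 3, nat_lit 0, nat_lit 1, nat_lit 0, nat_lit 3, nat_lit 2, nat_lit 0, nat_lit 1, nat_lit 0])) (.node (nat_lit 700) (.leaf ((nat_lit 625), [nat_lit 5, nat_lit 0, nat_lit 4, nat_lit 5, nat_lit 3, nat_lit 4, nat_lit 0, nat_lit 3, nat_lit 1, nat_lit 0, nat_lit 2, nat_lit 2])) (.leaf ((nat_lit 626), [nat_lit 5, nat_lit 1, nat_lit 3, nat_lit 0, nat_lit 5, nat_lit 4, nat_lit 3, nat_lit 1, nat_lit 4, nat_lit 1, nat_lit 3, nat_lit 2, nat_lit 0, nat_lit 1, nat_lit 0, nat_lit 1, nat_lit 0])))) (.node (nat_lit 702) (.leaf ((nat_lit 432), [nat_lit 0, nat_lit 5, nat_lit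 0, nat_lit 1, nat_lit 5, nat_lit 3, nat_lit 1, nat_lit 4, nat_lit 1, nat_lit 3, nat_lit 2, nat_lit 0, nat_lit 1, nat_lit 0, nat_lit 2, nat_lit 0, nat_lit 2, nat_lit 0])) (.node (nat_lit 703) (.leaf ((nat_lit 627), [nat_lit 5, nat_lit 4, nat_lit 0, nat_lit 5, nat_lit 3, nat_lit 1, nat_lit 0, nat_lit 4, nat_lit 1, nat_lit 3, nat_lit 0, nat_lit 2, nat_lit 0, nat_lit 2, nat_lit 2, nat_lit 0, nat_lit 1, nat_lit 0])) (.leaf ((nat_lit 412), [nat_lit 5, nat_lit 4, nat_lit 5, nat_lit 2, nat_lit 5, nat_lit 3, nat_lit 2, nat_lit 4, nat_lit 2, nat_lit 4, nat_lit 0, nat_lit 2, nat_lit 0]))))))))))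
noncomputable def qWd_4 : Tr (ℕ × List ℕ) := (.node (nat_lit 792) (.node (nat_lit 748) (.node (nat_lit 726) (.node (nat_lit 715) (.node (nat_lit 709) (.node (nat_lit 706) (.node (nat_lit 705) (.leaf ((nat_lit 628), [nat_lit 1, nat_lit 5, nat_lit 1, nat_lit 5, nat_lit 4, nat_lit 1, nat_lit 3, nat_lit 2, nat_lit 0, nat_lit 1, nat_lit 0, nat_lit 1, nat_lit 0])) (.leaf ((nat_lit 629), [nat_lit 5, nat_lit 1, nat_lit 5, nat_lit 4, nat_lit 2, nat_lit 3, nat_lit 4, nat_lit 2, nat_lit 3, nat_lit 1, nat_lit 0, nat_lit 2, nat_lit 2, nat_lit 0]))) (.node (nat_lit 707) (.leaf ((nat_lit 630), [nat_lit 0, nat_lit 2, nat_lit 5, nat_lit 2, nat_lit 3, nat_lit 1, nat_lit 3, nat_lit 4, nat_lit 3, nat_lit 2, nat_lit 0, nat_lit 1, nat_lit 0, nat_lit 2, nat_lit 0, nat_lit 2])) (.node (nat_lit 708) (.leaf ((nat_lit 631), [nat_lit 3, nat_lit 2, nat_lit 5, nat_lit 4, nat_lit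 3, nat_lit 2, nat_lit 4, nat_lit 2, nat_lit 3, nat_lit 2, nat_lit 0, nat_lit 1, nat_lit 0, nat_lit 1])) (.leaf ((nat_lit 34), [nat_lit 4, nat_lit 1, nat_lit 5, nat_lit 2, nat_lit 5, nat_lit 1, nat_lit 0, nat_lit 2, nat_lit 4, nat_lit 2, nat_lit 0, nat_lit 2, nat_lit 2, nat_lit 0, nat_lit 1])))))
 (.node (nat_lit 712) (.node (nat_lit 710) (.leaf ((nat_lit 632), [nat_lit 4, nat_lit 5, nat_lit 2, nat_lit 5, nat_lit 0, nat_lit 2, nat_lit 0, nat_lit 3, nat_lit 4, nat_lit 2, nat_lit 2, nat_lit 0, nat_lit 2, nat_lit 0, nat_lit 1, nat_lit 0])) (.node (nat_lit 711) (.leaf ((nat_lit 633), [nat_lit 1, nat_lit 5, nat_lit 4, nat_lit 2, nat_lit 0, nat_lit 2, nat_lit 4, nat_lit 2, nat_lit 0, nat_lit 2, nat_lit 2, nat_lit 0, nat_lit 2])) (.leaf ((nat_lit 634), [nat_lit 0, nat_lit 5, nat_lit 0, nat_lit 1, nat_lit 5, nat_lit 0, nat_lit 3, nat_lit 4, nat_lit 3, nat_lit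 2, nat_lit 2])))) (.node (nat_lit 713) (.leaf ((nat_lit 635), [nat_lit 3, nat_lit 5, nat_lit 0, nat_lit 3, nat_lit 5, nat_lit 2, nat_lit 4, nat_lit 2, nat_lit 3, nat_lit 1, nat_lit 3, nat_lit 2, nat_lit 2, nat_lit 0, nat_lit 1, nat_lit 0])) (.node (nat_lit 714) (.leaf ((nat_lit 636), [nat_lit 2, nat_lit 3, nat_lit 5, nat_lit 0, nat_lit 5, nat_lit 3, nat_lit 4, nat_lit 2, nat_lit 3, nat_lit 0, nat_lit 1, nat_lit 0, nat_lit 2, nat_lit 2])) (.leaf ((nat_lit 637), [nat_lit 1, nat_lit 4, nat_lit 2, nat_lit 5, nat_lit 4, nat_lit 0, nat_lit 3, nat_lit 0, nat_lit 1, nat_lit 4, nat_lit 2, nat_lit 0, nat_lit 2, nat_lit 2, nat_lit 0, nat_lit 2, nat_lit 0]))))))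
 (.node (nat_lit 720) (.node (nat_lit 717) (.node (nat_lit 716) (.leaf ((nat_lit 622), [nat_lit 5, nat_lit 3, nat_lit 0, nat_lit 5, nat_lit 0, nat_lit 1, nat_lit 3, nat_lit 1, nat_lit 0, nat_lit 4, nat_lit 0, nat_lit 2, nat_lit 2, nat_lit 0, nat_lit 2])) (.leaf ((nat_lit 325), [nat_lit 1, nat_lit 3, nat_lit 0, nat_lit 5, nat_lit 4, nat_lit 2, nat_lit 0, nat_lit 1, nat_lit 0, nat_lit 3, nat_lit 0, nat_lit 1, nat_lit 0, nat_lit 1, nat_lit 0, nat_lit 2]))) (.node (nat_lit 718) (.leaf ((nat_lit 638), [nat_lit 4, nat_lit 5, nat_lit 1, nat_lit 5, nat_lit 4, nat_lit 1, nat_lit 3, nat_lit 2, nat_lit 2, nat_lit 3, nat_lit 2, nat_lit 2, nat_lit 0, nat_lit 1, nat_lit 0, nat_lit 2, nat_lit 2, nat_lit 0])) (.node (nat_lit 719) (.leaf ((nat_lit 357), [nat_lit 2, nat_lit 5, nat_lit 1, nat_lit 5, nat_lit 1, nat_lit 0, nat_lit 3, nat_lit 2, nat_lit 3, nat_lit 0,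 nat_lit 2, nat_lit 2, nat_lit 0, nat_lit 2, nat_lit 0])) (.leaf ((nat_lit 639), [nat_lit 1, nat_lit 0, nat_lit 3, nat_lit 5, nat_lit 1, nat_lit 4, nat_lit 2, nat_lit 3, nat_lit 1, nat_lit 3, nat_lit 2, nat_lit 0, nat_lit 2, nat_lit 0, nat_lit 1, nat_lit 0, nat_lit 1])))))
 (.node (nat_lit 723) (.node (nat_lit 721) (.leaf ((nat_lit 640), [nat_lit 0, nat_lit 5, nat_lit 0, nat_lit 1, nat_lit 0, nat_lit 4, nat_lit 0, nat_lit 2, nat_lit 2, nat_lit 0, nat_lit 2, nat_lit 0, nat_lit 1])) (.node (nat_lit 722) (.leaf ((nat_lit 641), [nat_lit 4, nat_lit 5, nat_lit 4, nat_lit 0, nat_lit 5, nat_lit 3, nat_lit 0, nat_lit 4, nat_lit 0, nat_lit 4, nat_lit 2, nat_lit 0, nat_lit 2, nat_lit 0, nat_lit 1, nat_lit 0, nat_lit 1])) (.leaf ((nat_lit 160), [nat_lit 1, nat_lit 4, nat_lit 5, nat_lit 1, nat_lit 5, nat_lit 3, nat_lit 2, nat_lit 3, nat_lit 2, nat_lit 4, nat_lit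 1, nat_lit 0, nat_lit 1, nat_lit 0])))) (.node (nat_lit 724) (.leaf ((nat_lit 642), [nat_lit 1, nat_lit 5, nat_lit 3, nat_lit 5, nat_lit 0, nat_lit 3, nat_lit 2, nat_lit 3, nat_lit 2, nat_lit 3, nat_lit 0])) (.node (nat_lit 725) (.leaf ((nat_lit 643), [nat_lit 0, nat_lit 1, nat_lit 5, nat_lit 3, nat_lit 2, nat_lit 3, nat_lit 2, nat_lit 3, nat_lit 1, nat_lit 0, nat_lit 2, nat_lit 2, nat_lit 0, nat_lit 2, nat_lit 2, nat_lit 0])) (.leaf ((nat_lit 367), [nat_lit 3, nat_lit 0, nat_lit 2, nat_lit 5, nat_lit 3, nat_lit 2, nat_lit 0, nat_lit 2, nat_lit 3, nat_lit 2, nat_lit 0, nat_lit 1, nat_lit 0, nat_lit 1, nat_lit 0])))))))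
 (.node (nat_lit 737) (.node (nat_lit 731) (.node (nat_lit 728) (.node (nat_lit 727) (.leaf ((nat_lit 644), [nat_lit 1, nat_lit 0, nat_lit 3, nat_lit 5, nat_lit 3, nat_lit 1, nat_lit 4, nat_lit 0, nat_lit 4, nat_lit 0, nat_lit 1, nat_lit 0, nat_lit 2, nat_lit 2, nat_lit 0, nat_lit 1, nat_lit 0])) (.leaf ((nat_lit 645), [nat_lit 1, nat_lit 4, nat_lit 2, nat_lit 5, nat_lit 1, nat_lit 0, nat_lit 2, nat_lit 0, nat_lit 2, nat_lit 4, nat_lit 2, nat_lit 0, nat_lit 2, nat_lit 0, nat_lit 1, nat_lit 0]))) (.node (nat_lit 729) (.leaf ((nat_lit 646), [nat_lit 0, nat_lit 5, nat_lit 0, nat_lit 1, nat_lit 5, nat_lit 2, nat_lit 4, nat_lit 2, nat_lit 3, nat_lit 2, nat_lit 2, nat_lit 0, nat_lit 2, nat_lit 0])) (.node (nat_lit 730) (.leaf ((nat_lit 647), [nat_lit 2, nat_lit 5, nat_lit 2, nat_lit 3, nat_lit 5, nat_lit 3, nat_lit 2, nat_lit 4, nat_lit 2, nat_lit 4, nat_lit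 1, nat_lit 0, nat_lit 1, nat_lit 0, nat_lit 2, nat_lit 0])) (.leaf ((nat_lit 648), [nat_lit 4, nat_lit 2, nat_lit 0, nat_lit 5, nat_lit 2, nat_lit 2, nat_lit 0, nat_lit 4, nat_lit 0, nat_lit 2, nat_lit 2])))))
 (.node (nat_lit 734) (.node (nat_lit 732) (.leaf ((nat_lit 35), [nat_lit 4, nat_lit 5, nat_lit 3, nat_lit 2, nat_lit 5, nat_lit 2, nat_lit 4, nat_lit 0, nat_lit 4, nat_lit 3, nat_lit 1, nat_lit 0, nat_lit 2, nat_lit 2, nat_lit 0, nat_lit 2, nat_lit 0])) (.node (nat_lit 733) (.leaf ((nat_lit 649), [nat_lit 5, nat_lit 2, nat_lit 3, nat_lit 0, nat_lit 5, nat_lit 3, nat_lit 1, nat_lit 3, nat_lit 1, nat_lit 4, nat_lit 1, nat_lit 0, nat_lit 2])) (.leaf ((nat_lit 650), [nat_lit 3, nat_lit 0, nat_lit 2, nat_lit 5, nat_lit 4, nat_lit 1, nat_lit 4, nat_lit 1, nat_lit 3, nat_lit 0, nat_lit 1, nat_lit 0, nat_lit 2, nat_lit 2, nat_lit 0, nat_lit 1, nat_lit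 0])))) (.node (nat_lit 735) (.leaf ((nat_lit 279), [nat_lit 4, nat_lit 1, nat_lit 5, nat_lit 0, nat_lit 5, nat_lit 4, nat_lit 2, nat_lit 3, nat_lit 0, nat_lit 2, nat_lit 2])) (.node (nat_lit 736) (.leaf ((nat_lit 651), [nat_lit 4, nat_lit 3, nat_lit 5, nat_lit 2, nat_lit 5, nat_lit 2, nat_lit 4, nat_lit 3, nat_lit 0, nat_lit 3, nat_lit 1, nat_lit 0, nat_lit 1, nat_lit 0])) (.leaf ((nat_lit 652), [nat_lit 3, nat_lit 4, nat_lit 3, nat_lit 5, nat_lit 3, nat_lit 2, nat_lit 4, nat_lit 2, nat_lit 0, nat_lit 2, nat_lit 0, nat_lit 1]))))))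
 (.node (nat_lit 742) (.node (nat_lit 739) (.node (nat_lit 738) (.leaf ((nat_lit 653), [nat_lit 4, nat_lit 5, nat_lit 2, nat_lit 3, nat_lit 5, nat_lit 3, nat_lit 2, nat_lit 0, nat_lit 3, nat_lit 1, nat_lit 4, nat_lit 0, nat_lit 1, nat_lit 0, nat_lit 2, nat_lit 0, nat_lit 2, nat_lit 0])) (.leaf ((nat_lit 654), [nat_lit 5, nat_lit 4, nat_lit 5, nat_lit 1, nat_lit 5, nat_lit 2, nat_lit 3, nat_lit 0, nat_lit 1, nat_lit 0, nat_lit 3, nat_lit 2, nat_lit 0, nat_lit 2, nat_lit 2, nat_lit 0, nat_lit 1]))) (.node (nat_lit 740) (.leaf ((nat_lit 577), [nat_lit 3, nat_lit 5, nat_lit 0, nat_lit 5, nat_lit 0, nat_lit 4, nat_lit 3, nat_lit 2, nat_lit 3, nat_lit 2, nat_lit 0, nat_lit 2, nat_lit 0, nat_lit 1])) (.node (nat_lit 741) (.leaf ((nat_lit 655), [nat_lit 5, nat_lit 4, nat_lit 3, nat_lit 5, nat_lit 2, nat_lit 5, nat_lit 4, nat_lit 3, nat_lit 1, nat_lit 3,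 nat_lit 0, nat_lit 2, nat_lit 0, nat_lit 1])) (.leaf ((nat_lit 656), [nat_lit 2, nat_lit 3, nat_lit 5, nat_lit 3, nat_lit 2, nat_lit 3, nat_lit 0, nat_lit 3, nat_lit 1, nat_lit 0, nat_lit 1])))))
 (.node (nat_lit 745) (.node (nat_lit 743) (.leaf ((nat_lit 657), [nat_lit 2, nat_lit 0, nat_lit 1, nat_lit 5, nat_lit 2, nat_lit 3, nat_lit 2, nat_lit 0, nat_lit 1, nat_lit 0, nat_lit 1, nat_lit 0])) (.node (nat_lit 744) (.leaf ((nat_lit 316), [nat_lit 5, nat_lit 4, nat_lit 5, nat_lit 2, nat_lit 5, nat_lit 0, nat_lit 4, nat_lit 2, nat_lit 0, nat_lit 4, nat_lit 2, nat_lit 0, nat_lit 2, nat_lit 2, nat_lit 0, nat_lit 1, nat_lit 0])) (.leaf ((nat_lit 658), [nat_lit 5, nat_lit 1, nat_lit 0, nat_lit 3, nat_lit 5, nat_lit 1, nat_lit 3, nat_lit 4, nat_lit 3, nat_lit 2, nat_lit 0, nat_lit 1, nat_lit 0, nat_lit 2, nat_lit 0])))) (.node (nat_lit 746) (.leaf ((nat_lit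 659), [nat_lit 2, nat_lit 0, nat_lit 2, nat_lit 5, nat_lit 4, nat_lit 2, nat_lit 3, nat_lit 4, nat_lit 2, nat_lit 3, nat_lit 2, nat_lit 2, nat_lit 0, nat_lit 1])) (.node (nat_lit 747) (.leaf ((nat_lit 660), [nat_lit 3, nat_lit 1, nat_lit 3, nat_lit 0, nat_lit 5, nat_lit 1, nat_lit 4, nat_lit 1, nat_lit 4, nat_lit 3, nat_lit 1])) (.leaf ((nat_lit 661), [nat_lit 3, nat_lit 5, nat_lit 2, nat_lit 5, nat_lit 2, nat_lit 0, nat_lit 1, nat_lit 0, nat_lit 3, nat_lit 2, nat_lit 2, nat_lit 0, nat_lit 2, nat_lit 2, nat_lit 0, nat_lit 1, nat_lit 0]))))))))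
 (.node (nat_lit 770) (.node (nat_lit 759) (.node (nat_lit 753) (.node (nat_lit 750) (.node (nat_lit 749) (.leaf ((nat_lit 662), [nat_lit 3, nat_lit 1, nat_lit 3, nat_lit 0, nat_lit 5, nat_lit 4, nat_lit 0, nat_lit 4, nat_lit 1, nat_lit 3, nat_lit 1, nat_lit 0, nat_lit 2, nat_lit 0, nat_lit 1, nat_lit 0])) (.leaf ((nat_lit 663), [nat_lit 3, nat_lit 0, nat_lit 5, nat_lit 3, nat_lit 5, nat_lit 1, nat_lit 3, nat_lit 4, nat_lit 2, nat_lit 3, nat_lit 1, nat_lit 0, nat_lit 2, nat_lit 0]))) (.node (nat_lit 751) (.leaf ((nat_lit 664), [nat_lit 2, nat_lit 0, nat_lit 1, nat_lit 5, nat_lit 0, nat_lit 2, nat_lit 3, nat_lit 2, nat_lit 0, nat_lit 3, nat_lit 0, nat_lit 1, nat_lit 0, nat_lit 2, nat_lit 0, nat_lit 2, nat_lit 2])) (.node (nat_lit 752) (.leaf ((nat_lit 665), [nat_lit 3, nat_lit 4, nat_lit 3, nat_lit 5, nat_lit 2, nat_lit 3, nat_lit 4, nat_lit 3, nat_lit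 0, nat_lit 3, nat_lit 2, nat_lit 2, nat_lit 0, nat_lit 1, nat_lit 0, nat_lit 2, nat_lit 2])) (.leaf ((nat_lit 666), [nat_lit 2, nat_lit 5, nat_lit 3, nat_lit 2, nat_lit 0, nat_lit 3, nat_lit 1, nat_lit 4, nat_lit 0, nat_lit 1, nat_lit 0, nat_lit 2, nat_lit 2, nat_lit 0, nat_lit 2])))))
 (.node (nat_lit 756) (.node (nat_lit 754) (.leaf ((nat_lit 273), [nat_lit 3, nat_lit 0, nat_lit 2, nat_lit 5, nat_lit 0, nat_lit 3, nat_lit 4, nat_lit 2, nat_lit 0, nat_lit 4, nat_lit 0, nat_lit 1, nat_lit 0, nat_lit 1, nat_lit 0])) (.node (nat_lit 755) (.leaf ((nat_lit 639), [nat_lit 2, nat_lit 4, nat_lit 0, nat_lit 5, nat_lit 4, nat_lit 3, nat_lit 2, nat_lit 2, nat_lit 3, nat_lit 2, nat_lit 0, nat_lit 2, nat_lit 2, nat_lit 0, nat_lit 1])) (.leaf ((nat_lit 667), [nat_lit 1, nat_lit 3, nat_lit 2, nat_lit 5, nat_lit 1, nat_lit 0, nat_lit 2, nat_lit 0, nat_lit 2, nat_lit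 4, nat_lit 0, nat_lit 2, nat_lit 0, nat_lit 1])))) (.node (nat_lit 757) (.leaf ((nat_lit 575), [nat_lit 4, nat_lit 5, nat_lit 3, nat_lit 5, nat_lit 2, nat_lit 2, nat_lit 0, nat_lit 4, nat_lit 1, nat_lit 0, nat_lit 2, nat_lit 2, nat_lit 0, nat_lit 2])) (.node (nat_lit 758) (.leaf ((nat_lit 668), [nat_lit 1, nat_lit 3, nat_lit 0, nat_lit 5, nat_lit 4, nat_lit 1, nat_lit 4, nat_lit 2, nat_lit 4, nat_lit 3, nat_lit 0, nat_lit 1, nat_lit 0, nat_lit 2])) (.leaf ((nat_lit 360), [nat_lit 4, nat_lit 2, nat_lit 5, nat_lit 3, nat_lit 5, nat_lit 1, nat_lit 4, nat_lit 1, nat_lit 0, nat_lit 3, nat_lit 1, nat_lit 0, nat_lit 1, nat_lit 0, nat_lit 2, nat_lit 0, nat_lit 2, nat_lit 0]))))))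
 (.node (nat_lit 764) (.node (nat_lit 761) (.node (nat_lit 760) (.leaf ((nat_lit 669), [nat_lit 5, nat_lit 2, nat_lit 3, nat_lit 5, nat_lit 2, nat_lit 2, nat_lit 4, nat_lit 2, nat_lit 4, nat_lit 0, nat_lit 2, nat_lit 0, nat_lit 2])) (.leaf ((nat_lit 297), [nat_lit 4, nat_lit 5, nat_lit 3, nat_lit 2, nat_lit 5, nat_lit 4, nat_lit 2, nat_lit 0, nat_lit 4, nat_lit 3, nat_lit 2, nat_lit 2, nat_lit 0, nat_lit 2, nat_lit 2, nat_lit 0, nat_lit 2, nat_lit 0]))) (.node (nat_lit 762) (.leaf ((nat_lit 99), [nat_lit 2, nat_lit 3, nat_lit 5, nat_lit 0, nat_lit 5, nat_lit 2, nat_lit 2, nat_lit 0, nat_lit 3, nat_lit 0, nat_lit 4, nat_lit 2, nat_lit 2, nat_lit 0, nat_lit 2, nat_lit 0])) (.node (nat_lit 763) (.leaf ((nat_lit 670), [nat_lit 2, nat_lit 0, nat_lit 1, nat_lit 5, nat_lit 3, nat_lit 4, nat_lit 3, nat_lit 2, nat_lit 3, nat_lit 0, nat_lit 2])) (.leaf ((nat_lit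 671), [nat_lit 3, nat_lit 4, nat_lit 5, nat_lit 1, nat_lit 3])))))
 (.node (nat_lit 767) (.node (nat_lit 765) (.leaf ((nat_lit 672), [nat_lit 4, nat_lit 1, nat_lit 5, nat_lit 2, nat_lit 5, nat_lit 1, nat_lit 3, nat_lit 2, nat_lit 4, nat_lit 2, nat_lit 3, nat_lit 2, nat_lit 2, nat_lit 0, nat_lit 2, nat_lit 2, nat_lit 0, nat_lit 1, nat_lit 0])) (.node (nat_lit 766) (.leaf ((nat_lit 673), [nat_lit 4, nat_lit 5, nat_lit 1, nat_lit 5, nat_lit 3, nat_lit 4, nat_lit 3, nat_lit 2, nat_lit 3, nat_lit 2, nat_lit 0, nat_lit 1, nat_lit 0, nat_lit 2, nat_lit 0, nat_lit 2])) (.leaf ((nat_lit 674), [nat_lit 5, nat_lit 2, nat_lit 2, nat_lit 0, nat_lit 5, nat_lit 4, nat_lit 3, nat_lit 2, nat_lit 4, nat_lit 0, nat_lit 2, nat_lit 0, nat_lit 2, nat_lit 2, nat_lit 0, nat_lit 1])))) (.node (nat_lit 768) (.leaf ((nat_lit 675), [nat_lit 4, nat_lit 0, nat_lit 5, nat_lit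 2, nat_lit 5, nat_lit 2, nat_lit 0, nat_lit 1, nat_lit 4, nat_lit 3, nat_lit 2, nat_lit 2, nat_lit 0, nat_lit 2, nat_lit 2, nat_lit 0])) (.node (nat_lit 769) (.leaf ((nat_lit 676), [nat_lit 0, nat_lit 5, nat_lit 0, nat_lit 1, nat_lit 5, nat_lit 3, nat_lit 4, nat_lit 0, nat_lit 2, nat_lit 4, nat_lit 2, nat_lit 0, nat_lit 2, nat_lit 0, nat_lit 1])) (.leaf ((nat_lit 141), [nat_lit 0, nat_lit 5, nat_lit 2, nat_lit 0, nat_lit 1, nat_lit 0, nat_lit 3, nat_lit 0, nat_lit 2, nat_lit 2, nat_lit 0, nat_lit 1, nat_lit 0, nat_lit 2, nat_lit 0])))))))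
 (.node (nat_lit 781) (.node (nat_lit 775) (.node (nat_lit 772) (.node (nat_lit 771) (.leaf ((nat_lit 100), [nat_lit 4, nat_lit 1, nat_lit 5, nat_lit 0, nat_lit 5, nat_lit 4, nat_lit 0, nat_lit 4, nat_lit 2, nat_lit 0, nat_lit 3, nat_lit 0, nat_lit 1, nat_lit 0, nat_lit 2, nat_lit 2, nat_lit 0])) (.leaf ((nat_lit 677), [nat_lit 5, nat_lit 3, nat_lit 0, nat_lit 5, nat_lit 1, nat_lit 3, nat_lit 4, nat_lit 3, nat_lit 0, nat_lit 3, nat_lit 2, nat_lit 2, nat_lit 0, nat_lit 1, nat_lit 0, nat_lit 2, nat_lit 0]))) (.node (nat_lit 773) (.leaf ((nat_lit 678), [nat_lit 0, nat_lit 4, nat_lit 3, nat_lit 2, nat_lit 0, nat_lit 3, nat_lit 2, nat_lit 0, nat_lit 1])) (.node (nat_lit 774) (.leaf ((nat_lit 679), [nat_lit 4, nat_lit 5, nat_lit 2, nat_lit 3, nat_lit 5, nat_lit 0, nat_lit 1, nat_lit 4, nat_lit 3, nat_lit 0, nat_lit 1, nat_lit 0, nat_lit 1, nat_lit 0]))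 (.leaf ((nat_lit 680), [nat_lit 3, nat_lit 1, nat_lit 5, nat_lit 2, nat_lit 5, nat_lit 3, nat_lit 2, nat_lit 0, nat_lit 4, nat_lit 3, nat_lit 0, nat_lit 2, nat_lit 0, nat_lit 2, nat_lit 2, nat_lit 0, nat_lit 1])))))
 (.node (nat_lit 778) (.node (nat_lit 776) (.leaf ((nat_lit 681), [nat_lit 1, nat_lit 5, nat_lit 3, nat_lit 5, nat_lit 4, nat_lit 0, nat_lit 4, nat_lit 0, nat_lit 4, nat_lit 2, nat_lit 2, nat_lit 0, nat_lit 1])) (.node (nat_lit 777) (.leaf ((nat_lit 682), [nat_lit 4, nat_lit 5, nat_lit 2, nat_lit 3, nat_lit 5, nat_lit 0, nat_lit 2, nat_lit 4, nat_lit 1, nat_lit 0, nat_lit 3, nat_lit 2, nat_lit 0, nat_lit 1, nat_lit 0, nat_lit 2, nat_lit 2])) (.leaf ((nat_lit 72), [nat_lit 3, nat_lit 5, nat_lit 0, nat_lit 3, nat_lit 5, nat_lit 0, nat_lit 4, nat_lit 2, nat_lit 0, nat_lit 4, nat_lit 2, nat_lit 2, nat_lit 0, nat_lit 2])))) (.node (nat_lit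 779) (.leaf ((nat_lit 683), [nat_lit 0, nat_lit 5, nat_lit 2, nat_lit 5, nat_lit 4, nat_lit 0, nat_lit 1, nat_lit 0, nat_lit 3, nat_lit 0, nat_lit 2, nat_lit 0, nat_lit 2, nat_lit 2])) (.node (nat_lit 780) (.leaf ((nat_lit 684), [nat_lit 5, nat_lit 4, nat_lit 3, nat_lit 0, nat_lit 5, nat_lit 2, nat_lit 4, nat_lit 3, nat_lit 2, nat_lit 3, nat_lit 2, nat_lit 2, nat_lit 0, nat_lit 2, nat_lit 0])) (.leaf ((nat_lit 134), [nat_lit 5, nat_lit 1, nat_lit 3, nat_lit 0, nat_lit 5, nat_lit 3, nat_lit 1, nat_lit 3, nat_lit 4, nat_lit 2, nat_lit 0, nat_lit 2, nat_lit 2, nat_lit 0, nat_lit 1]))))))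
 (.node (nat_lit 786) (.node (nat_lit 783) (.node (nat_lit 782) (.leaf ((nat_lit 685), [nat_lit 5, nat_lit 0, nat_lit 3, nat_lit 5, nat_lit 0, nat_lit 4, nat_lit 2, nat_lit 3, nat_lit 1, nat_lit 3, nat_lit 1, nat_lit 0, nat_lit 2, nat_lit 0, nat_lit 1, nat_lit 0])) (.leaf ((nat_lit 686), [nat_lit 0, nat_lit 4, nat_lit 5, nat_lit 2, nat_lit 3, nat_lit 4, nat_lit 1, nat_lit 0, nat_lit 3, nat_lit 2, nat_lit 0, nat_lit 2, nat_lit 0, nat_lit 1, nat_lit 0, nat_lit 1]))) (.node (nat_lit 784) (.leaf ((nat_lit 674), [nat_lit 5, nat_lit 4, nat_lit 0, nat_lit 5, nat_lit 0, nat_lit 4, nat_lit 2, nat_lit 3, nat_lit 4, nat_lit 2, nat_lit 0, nat_lit 2, nat_lit 0, nat_lit 1, nat_lit 0, nat_lit 1])) (.node (nat_lit 785) (.leaf ((nat_lit 687), [nat_lit 1, nat_lit 5, nat_lit 1, nat_lit 5, nat_lit 4, nat_lit 2, nat_lit 0, nat_lit 2, nat_lit 3, nat_lit 0])) (.leaf ((nat_lit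 5), [nat_lit 5, nat_lit 2, nat_lit 5, nat_lit 3, nat_lit 2, nat_lit 0, nat_lit 2, nat_lit 3, nat_lit 0, nat_lit 2, nat_lit 2, nat_lit 0, nat_lit 2, nat_lit 2, nat_lit 0])))))
 (.node (nat_lit 789) (.node (nat_lit 787) (.leaf ((nat_lit 540), [nat_lit 5, nat_lit 4, nat_lit 3, nat_lit 2, nat_lit 5, nat_lit 4, nat_lit 0, nat_lit 1, nat_lit 4, nat_lit 3, nat_lit 1, nat_lit 0, nat_lit 2, nat_lit 0, nat_lit 1, nat_lit 0])) (.node (nat_lit 788) (.leaf ((nat_lit 17), [nat_lit 5, nat_lit 4, nat_lit 3, nat_lit 2, nat_lit 5, nat_lit 3, nat_lit 2, nat_lit 3, nat_lit 2, nat_lit 3, nat_lit 0, nat_lit 1, nat_lit 0, nat_lit 2, nat_lit 2, nat_lit 0])) (.leaf ((nat_lit 522), [nat_lit 5, nat_lit 2, nat_lit 2, nat_lit 0, nat_lit 5, nat_lit 0, nat_lit 1, nat_lit 3, nat_lit 4, nat_lit 1, nat_lit 3, nat_lit 0, nat_lit 1, nat_lit 0, nat_lit 2, nat_lit 2, nat_lit 0, nat_lit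 1, nat_lit 0])))) (.node (nat_lit 790) (.leaf ((nat_lit 688), [nat_lit 1, nat_lit 5, nat_lit 1, nat_lit 5, nat_lit 4, nat_lit 3, nat_lit 2, nat_lit 4, nat_lit 0, nat_lit 2, nat_lit 0, nat_lit 2])) (.node (nat_lit 791) (.leaf ((nat_lit 468), [nat_lit 1, nat_lit 0, nat_lit 2, nat_lit 5, nat_lit 2, nat_lit 4, nat_lit 2, nat_lit 3, nat_lit 1, nat_lit 3, nat_lit 0, nat_lit 1])) (.leaf ((nat_lit 117), [nat_lit 5, nat_lit 0, nat_lit 3, nat_lit 5, nat_lit 2, nat_lit 3, nat_lit 4, nat_lit 1, nat_lit 0, nat_lit 3, nat_lit 0, nat_lit 1, nat_lit 0, nat_lit 2, nat_lit 2, nat_lit 0])))))))))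
 (.node (nat_lit 836) (.node (nat_lit 814) (.node (nat_lit 803) (.node (nat_lit 797) (.node (nat_lit 794) (.node (nat_lit 793) (.leaf ((nat_lit 75), [nat_lit 0, nat_lit 5, nat_lit 2, nat_lit 5, nat_lit 2, nat_lit 4, nat_lit 2, nat_lit 3, nat_lit 0, nat_lit 3, nat_lit 2, nat_lit 0, nat_lit 2, nat_lit 0, nat_lit 1])) (.leaf ((nat_lit 294), [nat_lit 4, nat_lit 2, nat_lit 5, nat_lit 1, nat_lit 5, nat_lit 0, nat_lit 1, nat_lit 0, nat_lit 4, nat_lit 1, nat_lit 3, nat_lit 2, nat_lit 2, nat_lit 0, nat_lit 1, nat_lit 0]))) (.node (nat_lit 795) (.leaf ((nat_lit 689), [nat_lit 4, nat_lit 5, nat_lit 0, nat_lit 3, nat_lit 5, nat_lit 2, nat_lit 4, nat_lit 0, nat_lit 1, nat_lit 0, nat_lit 3, nat_lit 1, nat_lit 0, nat_lit 2])) (.node (nat_lit 796) (.leaf ((nat_lit 690), [nat_lit 4, nat_lit 0, nat_lit 5, nat_lit 1, nat_lit 3, nat_lit 1, nat_lit 4, nat_lit 2, nat_lit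 0, nat_lit 2, nat_lit 2, nat_lit 0])) (.leaf ((nat_lit 691), [nat_lit 5, nat_lit 4, nat_lit 1, nat_lit 0, nat_lit 5, nat_lit 2, nat_lit 4, nat_lit 3, nat_lit 2, nat_lit 2, nat_lit 3, nat_lit 0])))))
 (.node (nat_lit 800) (.node (nat_lit 798) (.leaf ((nat_lit 692), [nat_lit 3, nat_lit 5, nat_lit 2, nat_lit 5, nat_lit 2, nat_lit 4, nat_lit 1, nat_lit 0, nat_lit 1, nat_lit 0, nat_lit 3, nat_lit 2, nat_lit 0, nat_lit 2, nat_lit 2, nat_lit 0, nat_lit 2, nat_lit 2])) (.node (nat_lit 799) (.leaf ((nat_lit 693), [nat_lit 4, nat_lit 3, nat_lit 5, nat_lit 0, nat_lit 5, nat_lit 4, nat_lit 1, nat_lit 3, nat_lit 2, nat_lit 2, nat_lit 3, nat_lit 2, nat_lit 0, nat_lit 2, nat_lit 2, nat_lit 0, nat_lit 1])) (.leaf ((nat_lit 258), [nat_lit 5, nat_lit 1, nat_lit 3, nat_lit 0, nat_lit 5, nat_lit 0, nat_lit 4, nat_lit 1, nat_lit 0, nat_lit 2, nat_lit 2, nat_lit 0, nat_lit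 1])))) (.node (nat_lit 801) (.leaf ((nat_lit 694), [nat_lit 4, nat_lit 5, nat_lit 4, nat_lit 0, nat_lit 5, nat_lit 1, nat_lit 4, nat_lit 1])) (.node (nat_lit 802) (.leaf ((nat_lit 695), [nat_lit 5, nat_lit 4, nat_lit 1, nat_lit 0, nat_lit 5, nat_lit 3, nat_lit 0, nat_lit 3, nat_lit 0, nat_lit 2, nat_lit 3, nat_lit 2, nat_lit 0, nat_lit 2, nat_lit 2, nat_lit 0, nat_lit 2, nat_lit 2])) (.leaf ((nat_lit 696), [nat_lit 5, nat_lit 4, nat_lit 5, nat_lit 2, nat_lit 5, nat_lit 3, nat_lit 4, nat_lit 0, nat_lit 2, nat_lit 2, nat_lit 3, nat_lit 0, nat_lit 2, nat_lit 0, nat_lit 1, nat_lit 0]))))))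
 (.node (nat_lit 808) (.node (nat_lit 805) (.node (nat_lit 804) (.leaf ((nat_lit 567), [nat_lit 1, nat_lit 5, nat_lit 0, nat_lit 5, nat_lit 2, nat_lit 0, nat_lit 2, nat_lit 3, nat_lit 1, nat_lit 0, nat_lit 2, nat_lit 2])) (.leaf ((nat_lit 697), [nat_lit 5, nat_lit 1, nat_lit 0, nat_lit 2, nat_lit 5, nat_lit 0, nat_lit 4, nat_lit 2, nat_lit 0, nat_lit 3, nat_lit 2, nat_lit 2, nat_lit 0, nat_lit 1]))) (.node (nat_lit 806) (.leaf ((nat_lit 698), [nat_lit 5, nat_lit 2, nat_lit 3, nat_lit 5, nat_lit 2, nat_lit 0, nat_lit 1, nat_lit 0, nat_lit 4, nat_lit 2, nat_lit 2, nat_lit 0, nat_lit 2, nat_lit 2, nat_lit 0, nat_lit 2])) (.node (nat_lit 807) (.leaf ((nat_lit 699), [nat_lit 4, nat_lit 2, nat_lit 5, nat_lit 4, nat_lit 1, nat_lit 3, nat_lit 2, nat_lit 4, nat_lit 1, nat_lit 0, nat_lit 1, nat_lit 0, nat_lit 2, nat_lit 0, nat_lit 2])) (.leaf ((nat_lit 497),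 [nat_lit 2, nat_lit 5, nat_lit 3, nat_lit 5, nat_lit 3, nat_lit 2, nat_lit 4, nat_lit 0, nat_lit 4, nat_lit 2, nat_lit 0, nat_lit 1])))))
 (.node (nat_lit 811) (.node (nat_lit 809) (.leaf ((nat_lit 700), [nat_lit 1, nat_lit 0, nat_lit 2, nat_lit 5, nat_lit 3, nat_lit 0, nat_lit 3, nat_lit 1, nat_lit 4, nat_lit 2, nat_lit 2, nat_lit 0, nat_lit 2, nat_lit 0, nat_lit 1])) (.node (nat_lit 810) (.leaf ((nat_lit 701), [nat_lit 5, nat_lit 1, nat_lit 5, nat_lit 0, nat_lit 5, nat_lit 1, nat_lit 3, nat_lit 0, nat_lit 4, nat_lit 0, nat_lit 2, nat_lit 0, nat_lit 2, nat_lit 2, nat_lit 0, nat_lit 2])) (.leaf ((nat_lit 140), [nat_lit 3, nat_lit 5, nat_lit 3, nat_lit 2, nat_lit 3, nat_lit 2, nat_lit 2, nat_lit 0, nat_lit 1, nat_lit 0, nat_lit 2, nat_lit 2, nat_lit 0])))) (.node (nat_lit 812) (.leaf ((nat_lit 702), [nat_lit 2, nat_lit 4, nat_lit 2, nat_lit 0, nat_lit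 5, nat_lit 3, nat_lit 2, nat_lit 3, nat_lit 0, nat_lit 4, nat_lit 2, nat_lit 2, nat_lit 0, nat_lit 2, nat_lit 0, nat_lit 1])) (.node (nat_lit 813) (.leaf ((nat_lit 703), [nat_lit 2, nat_lit 0, nat_lit 1, nat_lit 5, nat_lit 4, nat_lit 0, nat_lit 4, nat_lit 2, nat_lit 0, nat_lit 3, nat_lit 0, nat_lit 2, nat_lit 0, nat_lit 2, nat_lit 2, nat_lit 0, nat_lit 2, nat_lit 0])) (.leaf ((nat_lit 704), [nat_lit 5, nat_lit 1, nat_lit 3, nat_lit 2, nat_lit 5, nat_lit 0, nat_lit 3, nat_lit 0, nat_lit 1, nat_lit 4, nat_lit 2, nat_lit 0, nat_lit 2, nat_lit 2, nat_lit 0, nat_lit 2, nat_lit 2])))))))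
 (.node (nat_lit 825) (.node (nat_lit 819) (.node (nat_lit 816) (.node (nat_lit 815) (.leaf ((nat_lit 705), [nat_lit 3, nat_lit 1, nat_lit 5, nat_lit 0, nat_lit 5, nat_lit 2, nat_lit 3, nat_lit 0, nat_lit 2, nat_lit 4, nat_lit 3, nat_lit 0, nat_lit 2, nat_lit 0, nat_lit 1, nat_lit 0, nat_lit 1])) (.leaf ((nat_lit 680), [nat_lit 3, nat_lit 4, nat_lit 5, nat_lit 2, nat_lit 2, nat_lit 0, nat_lit 2, nat_lit 2, nat_lit 0, nat_lit 1, nat_lit 0]))) (.node (nat_lit 817) (.leaf ((nat_lit 706), [nat_lit 0, nat_lit 2, nat_lit 5, nat_lit 3, nat_lit 5, nat_lit 2, nat_lit 4, nat_lit 1, nat_lit 3, nat_lit 1, nat_lit 3, nat_lit 2, nat_lit 0, nat_lit 2, nat_lit 0, nat_lit 1, nat_lit 0, nat_lit 1])) (.node (nat_lit 818) (.leaf ((nat_lit 707), [nat_lit 0, nat_lit 4, nat_lit 5, nat_lit 0, nat_lit 4, nat_lit 1, nat_lit 3, nat_lit 2, nat_lit 0, nat_lit 2])) (.leaf ((nat_lit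 708), [nat_lit 0, nat_lit 1, nat_lit 5, nat_lit 4, nat_lit 0, nat_lit 3, nat_lit 4, nat_lit 3, nat_lit 2, nat_lit 0, nat_lit 2, nat_lit 0])))))
 (.node (nat_lit 822) (.node (nat_lit 820) (.leaf ((nat_lit 709), [nat_lit 1, nat_lit 0, nat_lit 5, nat_lit 3, nat_lit 2, nat_lit 3, nat_lit 4, nat_lit 1, nat_lit 3, nat_lit 1, nat_lit 0, nat_lit 2, nat_lit 0, nat_lit 2, nat_lit 2, nat_lit 0])) (.node (nat_lit 821) (.leaf ((nat_lit 710), [nat_lit 1, nat_lit 0, nat_lit 2, nat_lit 5, nat_lit 1, nat_lit 3, nat_lit 0, nat_lit 3, nat_lit 0, nat_lit 2, nat_lit 0, nat_lit 2, nat_lit 2, nat_lit 0, nat_lit 1])) (.leaf ((nat_lit 711), [nat_lit 5, nat_lit 4, nat_lit 2, nat_lit 0, nat_lit 5, nat_lit 1, nat_lit 3, nat_lit 0, nat_lit 3, nat_lit 2, nat_lit 2, nat_lit 0, nat_lit 2, nat_lit 2, nat_lit 0])))) (.node (nat_lit 823) (.leaf ((nat_lit 712), [nat_lit 5, nat_lit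 2, nat_lit 4, nat_lit 0, nat_lit 5, nat_lit 1, nat_lit 3, nat_lit 1, nat_lit 3, nat_lit 2, nat_lit 2, nat_lit 0, nat_lit 2, nat_lit 2, nat_lit 0, nat_lit 2])) (.node (nat_lit 824) (.leaf ((nat_lit 713), [nat_lit 2, nat_lit 4, nat_lit 0, nat_lit 5, nat_lit 0, nat_lit 1, nat_lit 3, nat_lit 4, nat_lit 2, nat_lit 3, nat_lit 0, nat_lit 2, nat_lit 2, nat_lit 0, nat_lit 2, nat_lit 2])) (.leaf ((nat_lit 714), [nat_lit 4, nat_lit 5, nat_lit 3, nat_lit 5, nat_lit 0, nat_lit 4, nat_lit 3, nat_lit 0, nat_lit 3, nat_lit 0, nat_lit 2, nat_lit 2, nat_lit 0]))))))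
 (.node (nat_lit 830) (.node (nat_lit 827) (.node (nat_lit 826) (.leaf ((nat_lit 715), [nat_lit 1, nat_lit 3, nat_lit 2, nat_lit 5, nat_lit 2, nat_lit 4, nat_lit 0, nat_lit 4, nat_lit 0, nat_lit 4, nat_lit 2, nat_lit 0, nat_lit 2, nat_lit 2, nat_lit 0, nat_lit 1, nat_lit 0])) (.leaf ((nat_lit 528), [nat_lit 5, nat_lit 1, nat_lit 0, nat_lit 2, nat_lit 5, nat_lit 3, nat_lit 0, nat_lit 2, nat_lit 4, nat_lit 3, nat_lit 1, nat_lit 0, nat_lit 2, nat_lit 0]))) (.node (nat_lit 828) (.leaf ((nat_lit 716), [nat_lit 4, nat_lit 3, nat_lit 5, nat_lit 2, nat_lit 5, nat_lit 0, nat_lit 1, nat_lit 4, nat_lit 1])) (.node (nat_lit 829) (.leaf ((nat_lit 717), [nat_lit 4, nat_lit 0, nat_lit 5, nat_lit 3, nat_lit 1, nat_lit 0, nat_lit 3, nat_lit 1, nat_lit 3, nat_lit 2, nat_lit 0, nat_lit 2, nat_lit 0, nat_lit 1, nat_lit 0, nat_lit 1, nat_lit 0])) (.leaf ((nat_lit 198),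 [nat_lit 2, nat_lit 4, nat_lit 5, nat_lit 2, nat_lit 0, nat_lit 5, nat_lit 3, nat_lit 4, nat_lit 1, nat_lit 0, nat_lit 3, nat_lit 0, nat_lit 2, nat_lit 0, nat_lit 1, nat_lit 0])))))
 (.node (nat_lit 833) (.node (nat_lit 831) (.leaf ((nat_lit 718), [nat_lit 5, nat_lit 4, nat_lit 2, nat_lit 5, nat_lit 4, nat_lit 3, nat_lit 2, nat_lit 0, nat_lit 3, nat_lit 0, nat_lit 2, nat_lit 0, nat_lit 2, nat_lit 2])) (.node (nat_lit 832) (.leaf ((nat_lit 719), [nat_lit 5, nat_lit 1, nat_lit 0, nat_lit 3, nat_lit 5, nat_lit 4, nat_lit 1, nat_lit 4, nat_lit 1, nat_lit 4, nat_lit 2, nat_lit 0, nat_lit 2, nat_lit 0, nat_lit 1, nat_lit 0])) (.leaf ((nat_lit 720), [nat_lit 4, nat_lit 5, nat_lit 2, nat_lit 3, nat_lit 5, nat_lit 3, nat_lit 2, nat_lit 4, nat_lit 2, nat_lit 4, nat_lit 0, nat_lit 2, nat_lit 2, nat_lit 0, nat_lit 2, nat_lit 0])))) (.node (nat_lit 834) (.leaf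 ((nat_lit 721), [nat_lit 2, nat_lit 2, nat_lit 0, nat_lit 5, nat_lit 2, nat_lit 4, nat_lit 2, nat_lit 0, nat_lit 2, nat_lit 3, nat_lit 2, nat_lit 0, nat_lit 2, nat_lit 2, nat_lit 0, nat_lit 2, nat_lit 2, nat_lit 0])) (.node (nat_lit 835) (.leaf ((nat_lit 722), [nat_lit 0, nat_lit 2, nat_lit 5, nat_lit 4, nat_lit 1, nat_lit 3, nat_lit 2, nat_lit 4, nat_lit 1, nat_lit 0, nat_lit 2, nat_lit 2, nat_lit 0])) (.leaf ((nat_lit 723), [nat_lit 5, nat_lit 2, nat_lit 2, nat_lit 0, nat_lit 5, nat_lit 4, nat_lit 2, nat_lit 3, nat_lit 1, nat_lit 3, nat_lit 2, nat_lit 0, nat_lit 1, nat_lit 0, nat_lit 1, nat_lit 0, nat_lit 2]))))))))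
 (.node (nat_lit 858) (.node (nat_lit 847) (.node (nat_lit 841) (.node (nat_lit 838) (.node (nat_lit 837) (.leaf ((nat_lit 724), [nat_lit 0, nat_lit 2, nat_lit 4, nat_lit 0, nat_lit 5, nat_lit 4, nat_lit 3, nat_lit 0, nat_lit 1, nat_lit 0, nat_lit 3, nat_lit 2, nat_lit 2, nat_lit 0, nat_lit 2])) (.leaf ((nat_lit 725), [nat_lit 1, nat_lit 3, nat_lit 2, nat_lit 5, nat_lit 1, nat_lit 3, nat_lit 1, nat_lit 0, nat_lit 4, nat_lit 2, nat_lit 0, nat_lit 2]))) (.node (nat_lit 839) (.leaf ((nat_lit 684), [nat_lit 2, nat_lit 3, nat_lit 5, nat_lit 0, nat_lit 5, nat_lit 2, nat_lit 3, nat_lit 0, nat_lit 2, nat_lit 4, nat_lit 1, nat_lit 0, nat_lit 1, nat_lit 0])) (.node (nat_lit 840) (.leaf ((nat_lit 726), [nat_lit 4, nat_lit 1, nat_lit 5, nat_lit 0, nat_lit 5, nat_lit 1, nat_lit 0, nat_lit 1, nat_lit 4, nat_lit 3, nat_lit 2, nat_lit 0, nat_lit 1, nat_lit 0, nat_lit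 1])) (.leaf ((nat_lit 580), [nat_lit 4, nat_lit 0, nat_lit 2, nat_lit 2, nat_lit 3, nat_lit 2, nat_lit 0, nat_lit 2, nat_lit 2, nat_lit 0, nat_lit 1, nat_lit 0])))))
 (.node (nat_lit 844) (.node (nat_lit 842) (.leaf ((nat_lit 678), [nat_lit 3, nat_lit 2, nat_lit 5, nat_lit 1, nat_lit 3, nat_lit 4, nat_lit 0, nat_lit 2, nat_lit 4, nat_lit 0, nat_lit 2, nat_lit 2, nat_lit 0, nat_lit 1])) (.node (nat_lit 843) (.leaf ((nat_lit 727), [nat_lit 1, nat_lit 5, nat_lit 1, nat_lit 5, nat_lit 1, nat_lit 4, nat_lit 1, nat_lit 4, nat_lit 2, nat_lit 0, nat_lit 1, nat_lit 0, nat_lit 1, nat_lit 0, nat_lit 2])) (.leaf ((nat_lit 728), [nat_lit 3, nat_lit 1, nat_lit 5, nat_lit 2, nat_lit 5, nat_lit 1, nat_lit 0, nat_lit 3, nat_lit 0, nat_lit 4, nat_lit 2, nat_lit 0, nat_lit 2, nat_lit 2])))) (.node (nat_lit 845) (.leaf ((nat_lit 406), [nat_lit 0, nat_lit 5, nat_lit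 0, nat_lit 1, nat_lit 5, nat_lit 2, nat_lit 3, nat_lit 4, nat_lit 1, nat_lit 3, nat_lit 1, nat_lit 0, nat_lit 2, nat_lit 2, nat_lit 0, nat_lit 1])) (.node (nat_lit 846) (.leaf ((nat_lit 729), [nat_lit 2, nat_lit 0, nat_lit 5, nat_lit 3, nat_lit 0, nat_lit 3, nat_lit 0, nat_lit 4, nat_lit 2, nat_lit 2, nat_lit 0, nat_lit 1, nat_lit 0, nat_lit 2, nat_lit 2, nat_lit 0])) (.leaf ((nat_lit 730), [nat_lit 5, nat_lit 0, nat_lit 3, nat_lit 5, nat_lit 4, nat_lit 0, nat_lit 4, nat_lit 1, nat_lit 0, nat_lit 1]))))))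
 (.node (nat_lit 852) (.node (nat_lit 849) (.node (nat_lit 848) (.leaf ((nat_lit 434), [nat_lit 0, nat_lit 4, nat_lit 5, nat_lit 2, nat_lit 2, nat_lit 0, nat_lit 3, nat_lit 2, nat_lit 0, nat_lit 2, nat_lit 2])) (.leaf ((nat_lit 731), [nat_lit 0, nat_lit 5, nat_lit 2, nat_lit 3, nat_lit 5, nat_lit 4, nat_lit 1, nat_lit 3, nat_lit 2, nat_lit 2, nat_lit 3, nat_lit 1, nat_lit 0, nat_lit 2, nat_lit 0, nat_lit 2]))) (.node (nat_lit 850) (.leaf ((nat_lit 732), [nat_lit 3, nat_lit 5, nat_lit 3, nat_lit 0, nat_lit 5, nat_lit 3, nat_lit 0, nat_lit 3, nat_lit 1, nat_lit 4, nat_lit 0, nat_lit 2, nat_lit 0, nat_lit 1, nat_lit 0, nat_lit 1, nat_lit 0])) (.node (nat_lit 851) (.leaf ((nat_lit 733), [nat_lit 2, nat_lit 0, nat_lit 2, nat_lit 5, nat_lit 4, nat_lit 3, nat_lit 2, nat_lit 2, nat_lit 0, nat_lit 1, nat_lit 0, nat_lit 2, nat_lit 2])) (.leaf ((nat_lit 70),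 [nat_lit 5, nat_lit 0, nat_lit 5, nat_lit 3, nat_lit 2, nat_lit 0, nat_lit 3, nat_lit 1, nat_lit 4, nat_lit 0, nat_lit 2, nat_lit 0, nat_lit 2, nat_lit 2, nat_lit 0, nat_lit 1])))))
 (.node (nat_lit 855) (.node (nat_lit 853) (.leaf ((nat_lit 734), [nat_lit 0, nat_lit 5, nat_lit 2, nat_lit 5, nat_lit 4, nat_lit 0, nat_lit 4, nat_lit 1, nat_lit 3, nat_lit 0, nat_lit 1, nat_lit 0, nat_lit 1, nat_lit 0])) (.node (nat_lit 854) (.leaf ((nat_lit 268), [nat_lit 0, nat_lit 5, nat_lit 2, nat_lit 0, nat_lit 5, nat_lit 2, nat_lit 4, nat_lit 2, nat_lit 0, nat_lit 3, nat_lit 2, nat_lit 2, nat_lit 0, nat_lit 2, nat_lit 2, nat_lit 0, nat_lit 1, nat_lit 0])) (.leaf ((nat_lit 735), [nat_lit 5, nat_lit 3, nat_lit 2, nat_lit 5, nat_lit 3, nat_lit 4, nat_lit 1, nat_lit 0, nat_lit 3, nat_lit 2, nat_lit 2, nat_lit 0, nat_lit 2, nat_lit 0, nat_lit 1])))) (.node (nat_lit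 856) (.leaf ((nat_lit 714), [nat_lit 4, nat_lit 5, nat_lit 3, nat_lit 0, nat_lit 5, nat_lit 1, nat_lit 4, nat_lit 1, nat_lit 3, nat_lit 1, nat_lit 0, nat_lit 2, nat_lit 2, nat_lit 0, nat_lit 2, nat_lit 2])) (.node (nat_lit 857) (.leaf ((nat_lit 736), [nat_lit 0, nat_lit 1, nat_lit 5, nat_lit 4, nat_lit 2, nat_lit 0, nat_lit 2, nat_lit 4, nat_lit 1, nat_lit 0, nat_lit 1, nat_lit 0, nat_lit 2, nat_lit 0, nat_lit 2, nat_lit 0])) (.leaf ((nat_lit 737), [nat_lit 2, nat_lit 5, nat_lit 2, nat_lit 3, nat_lit 5, nat_lit 1, nat_lit 3, nat_lit 2, nat_lit 3, nat_lit 0, nat_lit 4, nat_lit 1, nat_lit 0, nat_lit 2, nat_lit 0, nat_lit 2])))))))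
 (.node (nat_lit 869) (.node (nat_lit 863) (.node (nat_lit 860) (.node (nat_lit 859) (.leaf ((nat_lit 738), [nat_lit 3, nat_lit 0, nat_lit 5, nat_lit 3, nat_lit 5, nat_lit 3, nat_lit 4, nat_lit 1, nat_lit 3, nat_lit 1, nat_lit 3, nat_lit 0, nat_lit 1, nat_lit 0, nat_lit 2, nat_lit 2, nat_lit 0, nat_lit 2, nat_lit 0])) (.leaf ((nat_lit 541), [nat_lit 4, nat_lit 1, nat_lit 5, nat_lit 3, nat_lit 5, nat_lit 3, nat_lit 2, nat_lit 4, nat_lit 0, nat_lit 2, nat_lit 0, nat_lit 2, nat_lit 2, nat_lit 0, nat_lit 1, nat_lit 0]))) (.node (nat_lit 861) (.leaf ((nat_lit 739), [nat_lit 2, nat_lit 0, nat_lit 5, nat_lit 0, nat_lit 4, nat_lit 2, nat_lit 3, nat_lit 0, nat_lit 3, nat_lit 0, nat_lit 2, nat_lit 2, nat_lit 0, nat_lit 1, nat_lit 0, nat_lit 2, nat_lit 0])) (.node (nat_lit 862) (.leaf ((nat_lit 740), [nat_lit 4, nat_lit 0, nat_lit 5, nat_lit 2, nat_lit 5, nat_lit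 0, nat_lit 4, nat_lit 1, nat_lit 3, nat_lit 1, nat_lit 3, nat_lit 2, nat_lit 0, nat_lit 2, nat_lit 2, nat_lit 0, nat_lit 2, nat_lit 2, nat_lit 0])) (.leaf ((nat_lit 741), [nat_lit 4, nat_lit 0, nat_lit 5, nat_lit 3, nat_lit 0, nat_lit 4, nat_lit 2, nat_lit 0, nat_lit 3, nat_lit 1, nat_lit 0, nat_lit 1, nat_lit 0])))))
 (.node (nat_lit 866) (.node (nat_lit 864) (.leaf ((nat_lit 742), [nat_lit 3, nat_lit 2, nat_lit 3, nat_lit 5, nat_lit 4, nat_lit 0, nat_lit 2, nat_lit 2, nat_lit 3, nat_lit 0, nat_lit 1, nat_lit 0, nat_lit 2, nat_lit 0, nat_lit 2, nat_lit 2, nat_lit 0])) (.node (nat_lit 865) (.leaf ((nat_lit 743), [nat_lit 4, nat_lit 3, nat_lit 5, nat_lit 0, nat_lit 5, nat_lit 2, nat_lit 0, nat_lit 2, nat_lit 3, nat_lit 0, nat_lit 1, nat_lit 0, nat_lit 2, nat_lit 2, nat_lit 0, nat_lit 1])) (.leaf ((nat_lit 744), [nat_lit 4, nat_lit 1, nat_lit 5, nat_lit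 3, nat_lit 5, nat_lit 3, nat_lit 1, nat_lit 3, nat_lit 4, nat_lit 3, nat_lit 0, nat_lit 2, nat_lit 0, nat_lit 2, nat_lit 0])))) (.node (nat_lit 867) (.leaf ((nat_lit 350), [nat_lit 1, nat_lit 5, nat_lit 3, nat_lit 0, nat_lit 1, nat_lit 4, nat_lit 2, nat_lit 2, nat_lit 0, nat_lit 1, nat_lit 0, nat_lit 2])) (.node (nat_lit 868) (.leaf ((nat_lit 745), [nat_lit 4, nat_lit 5, nat_lit 2, nat_lit 0, nat_lit 5, nat_lit 2, nat_lit 0, nat_lit 2, nat_lit 2, nat_lit 3, nat_lit 0, nat_lit 2, nat_lit 2, nat_lit 0, nat_lit 1])) (.leaf ((nat_lit 746), [nat_lit 2, nat_lit 4, nat_lit 5, nat_lit 2, nat_lit 0, nat_lit 5, nat_lit 1, nat_lit 3, nat_lit 4, nat_lit 3, nat_lit 1, nat_lit 3, nat_lit 2, nat_lit 2, nat_lit 0, nat_lit 1, nat_lit 0, nat_lit 2, nat_lit 0]))))))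
 (.node (nat_lit 874) (.node (nat_lit 871) (.node (nat_lit 870) (.leaf ((nat_lit 747), [nat_lit 5, nat_lit 3, nat_lit 5, nat_lit 2, nat_lit 3, nat_lit 0, nat_lit 3, nat_lit 0, nat_lit 1, nat_lit 0, nat_lit 2, nat_lit 2, nat_lit 0, nat_lit 2])) (.leaf ((nat_lit 42), [nat_lit 5, nat_lit 1, nat_lit 5, nat_lit 1, nat_lit 0, nat_lit 4, nat_lit 3, nat_lit 2, nat_lit 0]))) (.node (nat_lit 872) (.leaf ((nat_lit 460), [nat_lit 3, nat_lit 0, nat_lit 5, nat_lit 3, nat_lit 5, nat_lit 0, nat_lit 1, nat_lit 3, nat_lit 4, nat_lit 1, nat_lit 3, nat_lit 2, nat_lit 0, nat_lit 1, nat_lit 0, nat_lit 2, nat_lit 2])) (.node (nat_lit 873) (.leaf ((nat_lit 122), [nat_lit 2, nat_lit 5, nat_lit 2, nat_lit 0, nat_lit 2, nat_lit 2, nat_lit 3, nat_lit 0, nat_lit 1, nat_lit 0, nat_lit 1])) (.leaf ((nat_lit 748), [nat_lit 1, nat_lit 4, nat_lit 5, nat_lit 1, nat_lit 5, nat_lit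 3, nat_lit 4, nat_lit 3, nat_lit 2, nat_lit 0, nat_lit 1, nat_lit 0])))))
 (.node (nat_lit 877) (.node (nat_lit 875) (.leaf ((nat_lit 261), [nat_lit 1, nat_lit 5, nat_lit 2, nat_lit 4, nat_lit 1, nat_lit 0, nat_lit 2, nat_lit 3, nat_lit 0, nat_lit 2, nat_lit 0, nat_lit 1, nat_lit 0, nat_lit 1, nat_lit 0])) (.node (nat_lit 876) (.leaf ((nat_lit 444), [nat_lit 5, nat_lit 2, nat_lit 4, nat_lit 0, nat_lit 5, nat_lit 2, nat_lit 4, nat_lit 3, nat_lit 2, nat_lit 2, nat_lit 3, nat_lit 0, nat_lit 2, nat_lit 2, nat_lit 0, nat_lit 2, nat_lit 2])) (.leaf ((nat_lit 749), [nat_lit 0, nat_lit 4, nat_lit 5, nat_lit 2, nat_lit 0, nat_lit 1, nat_lit 0, nat_lit 3, nat_lit 2, nat_lit 0, nat_lit 1, nat_lit 0, nat_lit 1, nat_lit 0, nat_lit 2, nat_lit 0])))) (.node (nat_lit 878) (.leaf ((nat_lit 418), [nat_lit 5, nat_lit 3, nat_lit 2, nat_lit 0, nat_lit 5, nat_lit 2, nat_lit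 2, nat_lit 0, nat_lit 3, nat_lit 4, nat_lit 1, nat_lit 0, nat_lit 2, nat_lit 2, nat_lit 0, nat_lit 1, nat_lit 0])) (.node (nat_lit 879) (.leaf ((nat_lit 750), [nat_lit 0, nat_lit 2, nat_lit 5, nat_lit 3, nat_lit 5, nat_lit 2, nat_lit 4, nat_lit 2, nat_lit 3, nat_lit 1, nat_lit 0, nat_lit 2, nat_lit 0, nat_lit 2, nat_lit 0])) (.leaf ((nat_lit 751), [nat_lit 4, nat_lit 0, nat_lit 5, nat_lit 2, nat_lit 5, nat_lit 4, nat_lit 2, nat_lit 3, nat_lit 1, nat_lit 3, nat_lit 1, nat_lit 0, nat_lit 2, nat_lit 0, nat_lit 2, nat_lit 0]))))))))))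
noncomputable def qWd_5 : Tr (ℕ × List ℕ) := (.node (nat_lit 968) (.node (nat_lit 924) (.node (nat_lit 902) (.node (nat_lit 891) (.node (nat_lit 885) (.node (nat_lit 882) (.node (nat_lit 881) (.leaf ((nat_lit 752), [nat_lit 5, nat_lit 2, nat_lit 4, nat_lit 0, nat_lit 5, nat_lit 0, nat_lit 3, nat_lit 2, nat_lit 3, nat_lit 2, nat_lit 2, nat_lit 0, nat_lit 2, nat_lit 2, nat_lit 0, nat_lit 2, nat_lit 2, nat_lit 0])) (.leaf ((nat_lit 753), [nat_lit 1, nat_lit 5, nat_lit 1, nat_lit 5, nat_lit 1, nat_lit 3, nat_lit 2, nat_lit 4, nat_lit 3, nat_lit 0, nat_lit 1, nat_lit 0, nat_lit 2, nat_lit 2, nat_lit 0]))) (.node (nat_lit 883) (.leaf ((nat_lit 754), [nat_lit 3, nat_lit 0, nat_lit 2, nat_lit 5, nat_lit 3, nat_lit 1, nat_lit 4, nat_lit 1, nat_lit 3, nat_lit 1, nat_lit 0, nat_lit 2, nat_lit 2, nat_lit 0])) (.node (nat_lit 884) (.leaf ((nat_lit 755), [nat_lit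 1, nat_lit 5, nat_lit 3, nat_lit 5, nat_lit 4, nat_lit 3, nat_lit 2, nat_lit 3, nat_lit 2, nat_lit 3, nat_lit 2, nat_lit 0, nat_lit 1, nat_lit 0, nat_lit 1, nat_lit 0])) (.leaf ((nat_lit 756), [nat_lit 1, nat_lit 3, nat_lit 2, nat_lit 5, nat_lit 3, nat_lit 4, nat_lit 3, nat_lit 1, nat_lit 0, nat_lit 2, nat_lit 2, nat_lit 0, nat_lit 2])))))
 (.node (nat_lit 888) (.node (nat_lit 886) (.leaf ((nat_lit 757), [nat_lit 3, nat_lit 2, nat_lit 0, nat_lit 5, nat_lit 4, nat_lit 3, nat_lit 2, nat_lit 4, nat_lit 0, nat_lit 1, nat_lit 0, nat_lit 2, nat_lit 2, nat_lit 0])) (.node (nat_lit 887) (.leaf ((nat_lit 582), [nat_lit 5, nat_lit 2, nat_lit 4, nat_lit 0, nat_lit 5, nat_lit 2, nat_lit 4, nat_lit 3, nat_lit 0, nat_lit 2, nat_lit 4, nat_lit 2, nat_lit 0, nat_lit 2, nat_lit 0, nat_lit 1, nat_lit 0, nat_lit 1, nat_lit 0])) (.leaf ((nat_lit 758), [nat_lit 1, nat_lit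 3, nat_lit 0, nat_lit 5, nat_lit 2, nat_lit 4, nat_lit 1, nat_lit 0, nat_lit 1, nat_lit 0, nat_lit 2, nat_lit 0, nat_lit 2, nat_lit 0])))) (.node (nat_lit 889) (.leaf ((nat_lit 656), [nat_lit 1, nat_lit 5, nat_lit 2, nat_lit 5, nat_lit 1, nat_lit 3, nat_lit 4, nat_lit 3, nat_lit 1, nat_lit 0, nat_lit 2, nat_lit 2, nat_lit 0, nat_lit 1, nat_lit 0])) (.node (nat_lit 890) (.leaf ((nat_lit 759), [nat_lit 5, nat_lit 2, nat_lit 2, nat_lit 0, nat_lit 5, nat_lit 1, nat_lit 4, nat_lit 2, nat_lit 0, nat_lit 2, nat_lit 3, nat_lit 2, nat_lit 0, nat_lit 1, nat_lit 0, nat_lit 2, nat_lit 0, nat_lit 2, nat_lit 0])) (.leaf ((nat_lit 760), [nat_lit 3, nat_lit 5, nat_lit 2, nat_lit 5, nat_lit 1, nat_lit 3, nat_lit 4, nat_lit 1, nat_lit 0, nat_lit 3, nat_lit 2, nat_lit 2]))))))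
 (.node (nat_lit 896) (.node (nat_lit 893) (.node (nat_lit 892) (.leaf ((nat_lit 548), [nat_lit 2, nat_lit 3, nat_lit 5, nat_lit 0, nat_lit 5, nat_lit 2, nat_lit 3, nat_lit 2, nat_lit 0, nat_lit 1, nat_lit 0, nat_lit 1, nat_lit 0, nat_lit 2, nat_lit 0])) (.leaf ((nat_lit 761), [nat_lit 2, nat_lit 2, nat_lit 5, nat_lit 1, nat_lit 5, nat_lit 3, nat_lit 4, nat_lit 3, nat_lit 2, nat_lit 3, nat_lit 1, nat_lit 0, nat_lit 1, nat_lit 0, nat_lit 2]))) (.node (nat_lit 894) (.leaf ((nat_lit 762), [nat_lit 5, nat_lit 4, nat_lit 3, nat_lit 0, nat_lit 5, nat_lit 4, nat_lit 0, nat_lit 3, nat_lit 1, nat_lit 3, nat_lit 2, nat_lit 0, nat_lit 2, nat_lit 2])) (.node (nat_lit 895) (.leaf ((nat_lit 353), [nat_lit 5, nat_lit 1, nat_lit 5, nat_lit 3, nat_lit 4, nat_lit 0, nat_lit 3, nat_lit 1, nat_lit 3, nat_lit 2, nat_lit 0, nat_lit 2, nat_lit 2, nat_lit 0, nat_lit 1,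 nat_lit 0])) (.leaf ((nat_lit 763), [nat_lit 4, nat_lit 5, nat_lit 4, nat_lit 0, nat_lit 5, nat_lit 0, nat_lit 4, nat_lit 3, nat_lit 0, nat_lit 3, nat_lit 0, nat_lit 1])))))
 (.node (nat_lit 899) (.node (nat_lit 897) (.leaf ((nat_lit 212), [nat_lit 2, nat_lit 0, nat_lit 2, nat_lit 5, nat_lit 0, nat_lit 4, nat_lit 2, nat_lit 0, nat_lit 2, nat_lit 3, nat_lit 2, nat_lit 0, nat_lit 1, nat_lit 0, nat_lit 2, nat_lit 0])) (.node (nat_lit 898) (.leaf ((nat_lit 270), [nat_lit 0, nat_lit 3, nat_lit 5, nat_lit 0, nat_lit 3, nat_lit 0, nat_lit 2, nat_lit 4, nat_lit 0, nat_lit 1, nat_lit 0, nat_lit 2, nat_lit 2, nat_lit 0, nat_lit 1, nat_lit 0])) (.leaf ((nat_lit 764), [nat_lit 0, nat_lit 2, nat_lit 4, nat_lit 0, nat_lit 5, nat_lit 2, nat_lit 3, nat_lit 4, nat_lit 3, nat_lit 0, nat_lit 3, nat_lit 1, nat_lit 0, nat_lit 2])))) (.node (nat_lit 900) (.leaf ((nat_lit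 765), [nat_lit 5, nat_lit 1, nat_lit 0, nat_lit 3, nat_lit 5, nat_lit 2, nat_lit 2, nat_lit 3, nat_lit 2, nat_lit 2, nat_lit 0, nat_lit 1, nat_lit 0, nat_lit 2, nat_lit 0])) (.node (nat_lit 901) (.leaf ((nat_lit 390), [nat_lit 2, nat_lit 4, nat_lit 0, nat_lit 5, nat_lit 4, nat_lit 3, nat_lit 2, nat_lit 3, nat_lit 0, nat_lit 3, nat_lit 2, nat_lit 0, nat_lit 2, nat_lit 2, nat_lit 0, nat_lit 2, nat_lit 2])) (.leaf ((nat_lit 619), [nat_lit 5, nat_lit 2, nat_lit 5, nat_lit 1, nat_lit 4, nat_lit 1, nat_lit 3, nat_lit 4, nat_lit 2, nat_lit 0, nat_lit 2, nat_lit 2, nat_lit 0, nat_lit 2, nat_lit 0])))))))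
 (.node (nat_lit 913) (.node (nat_lit 907) (.node (nat_lit 904) (.node (nat_lit 903) (.leaf ((nat_lit 766), [nat_lit 4, nat_lit 5, nat_lit 3, nat_lit 2, nat_lit 5, nat_lit 1, nat_lit 4, nat_lit 2, nat_lit 4, nat_lit 0, nat_lit 2, nat_lit 2, nat_lit 0, nat_lit 1, nat_lit 0])) (.leaf ((nat_lit 767), [nat_lit 4, nat_lit 2, nat_lit 5, nat_lit 4, nat_lit 2, nat_lit 4, nat_lit 2, nat_lit 3, nat_lit 1, nat_lit 0, nat_lit 1, nat_lit 0, nat_lit 2, nat_lit 0, nat_lit 2]))) (.node (nat_lit 905) (.leaf ((nat_lit 768), [nat_lit 3, nat_lit 5, nat_lit 0, nat_lit 3, nat_lit 5, nat_lit 2, nat_lit 3, nat_lit 4, nat_lit 3, nat_lit 0, nat_lit 1, nat_lit 0, nat_lit 1])) (.node (nat_lit 906) (.leaf ((nat_lit 11), [nat_lit 1, nat_lit 3, nat_lit 2, nat_lit 5, nat_lit 2, nat_lit 3, nat_lit 2, nat_lit 0, nat_lit 4, nat_lit 2, nat_lit 0, nat_lit 1, nat_lit 0, nat_lit 1]))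 (.leaf ((nat_lit 729), [nat_lit 4, nat_lit 5, nat_lit 2, nat_lit 0, nat_lit 5, nat_lit 0, nat_lit 2, nat_lit 2, nat_lit 3, nat_lit 2, nat_lit 4, nat_lit 2, nat_lit 0, nat_lit 2, nat_lit 0, nat_lit 1])))))
 (.node (nat_lit 910) (.node (nat_lit 908) (.leaf ((nat_lit 769), [nat_lit 2, nat_lit 5, nat_lit 2, nat_lit 3, nat_lit 5, nat_lit 4, nat_lit 0, nat_lit 3, nat_lit 2, nat_lit 0, nat_lit 1, nat_lit 0, nat_lit 1, nat_lit 0, nat_lit 2, nat_lit 0])) (.node (nat_lit 909) (.leaf ((nat_lit 770), [nat_lit 3, nat_lit 4, nat_lit 3, nat_lit 5, nat_lit 3, nat_lit 1, nat_lit 3, nat_lit 1, nat_lit 4, nat_lit 0, nat_lit 1, nat_lit 0, nat_lit 1, nat_lit 0, nat_lit 2, nat_lit 0])) (.leaf ((nat_lit 771), [nat_lit 1, nat_lit 0, nat_lit 2, nat_lit 5, nat_lit 1, nat_lit 4, nat_lit 3, nat_lit 1, nat_lit 3, nat_lit 2, nat_lit 0, nat_lit 1, nat_lit 0, nat_lit 2, nat_lit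 0, nat_lit 2])))) (.node (nat_lit 911) (.leaf ((nat_lit 620), [nat_lit 4, nat_lit 5, nat_lit 2, nat_lit 3, nat_lit 5, nat_lit 0, nat_lit 3, nat_lit 1, nat_lit 3, nat_lit 1, nat_lit 0, nat_lit 2, nat_lit 2, nat_lit 0, nat_lit 2, nat_lit 2])) (.node (nat_lit 912) (.leaf ((nat_lit 772), [nat_lit 0, nat_lit 5, nat_lit 1, nat_lit 3, nat_lit 2, nat_lit 4, nat_lit 3, nat_lit 2, nat_lit 0, nat_lit 2, nat_lit 0, nat_lit 1, nat_lit 0, nat_lit 1])) (.leaf ((nat_lit 773), [nat_lit 2, nat_lit 2, nat_lit 5, nat_lit 2, nat_lit 0, nat_lit 2, nat_lit 4, nat_lit 3, nat_lit 1, nat_lit 0, nat_lit 2, nat_lit 0, nat_lit 1]))))))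
 (.node (nat_lit 918) (.node (nat_lit 915) (.node (nat_lit 914) (.leaf ((nat_lit 211), [nat_lit 5, nat_lit 1, nat_lit 5, nat_lit 1, nat_lit 4, nat_lit 3, nat_lit 1, nat_lit 4, nat_lit 0, nat_lit 2, nat_lit 0, nat_lit 2, nat_lit 2])) (.leaf ((nat_lit 774), [nat_lit 2, nat_lit 2, nat_lit 5, nat_lit 1, nat_lit 5, nat_lit 1, nat_lit 0, nat_lit 2, nat_lit 4, nat_lit 2]))) (.node (nat_lit 916) (.leaf ((nat_lit 505), [nat_lit 1, nat_lit 0, nat_lit 3, nat_lit 5, nat_lit 3, nat_lit 4, nat_lit 0, nat_lit 3, nat_lit 0, nat_lit 1, nat_lit 0, nat_lit 1, nat_lit 0])) (.node (nat_lit 917) (.leaf ((nat_lit 571), [nat_lit 5, nat_lit 4, nat_lit 2, nat_lit 5, nat_lit 1, nat_lit 3, nat_lit 0, nat_lit 3, nat_lit 2, nat_lit 2, nat_lit 0, nat_lit 2])) (.leaf ((nat_lit 775), [nat_lit 2, nat_lit 3, nat_lit 0, nat_lit 5, nat_lit 0, nat_lit 2, nat_lit 3, nat_lit 1, nat_lit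 0, nat_lit 1, nat_lit 0, nat_lit 2, nat_lit 0, nat_lit 2])))))
 (.node (nat_lit 921) (.node (nat_lit 919) (.leaf ((nat_lit 776), [nat_lit 4, nat_lit 1, nat_lit 0, nat_lit 5, nat_lit 1, nat_lit 0, nat_lit 3, nat_lit 4, nat_lit 2, nat_lit 2, nat_lit 0, nat_lit 1, nat_lit 0])) (.node (nat_lit 920) (.leaf ((nat_lit 47), [nat_lit 1, nat_lit 5, nat_lit 3, nat_lit 5, nat_lit 3, nat_lit 0, nat_lit 4, nat_lit 3, nat_lit 2, nat_lit 3, nat_lit 2, nat_lit 0])) (.leaf ((nat_lit 777), [nat_lit 1, nat_lit 4, nat_lit 5, nat_lit 1, nat_lit 5, nat_lit 3, nat_lit 2, nat_lit 0, nat_lit 2, nat_lit 3, nat_lit 0, nat_lit 1, nat_lit 0, nat_lit 2])))) (.node (nat_lit 922) (.leaf ((nat_lit 778), [nat_lit 2, nat_lit 3, nat_lit 5, nat_lit 4, nat_lit 3, nat_lit 1, nat_lit 4, nat_lit 3, nat_lit 0, nat_lit 2, nat_lit 2, nat_lit 0, nat_lit 2, nat_lit 2, nat_lit 0])) (.node (nat_lit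 923) (.leaf ((nat_lit 779), [nat_lit 5, nat_lit 2, nat_lit 0, nat_lit 2, nat_lit 5, nat_lit 2, nat_lit 3, nat_lit 0, nat_lit 4, nat_lit 0, nat_lit 2, nat_lit 0])) (.leaf ((nat_lit 780), [nat_lit 1, nat_lit 4, nat_lit 2, nat_lit 5, nat_lit 2, nat_lit 0, nat_lit 3, nat_lit 1, nat_lit 3, nat_lit 1, nat_lit 0, nat_lit 1, nat_lit 0, nat_lit 2, nat_lit 0]))))))))
 (.node (nat_lit 946) (.node (nat_lit 935) (.node (nat_lit 929) (.node (nat_lit 926) (.node (nat_lit 925) (.leaf ((nat_lit 781), [nat_lit 1, nat_lit 4, nat_lit 2, nat_lit 5, nat_lit 1, nat_lit 4, nat_lit 1, nat_lit 3, nat_lit 1, nat_lit 3, nat_lit 0, nat_lit 1, nat_lit 0, nat_lit 2, nat_lit 2, nat_lit 0, nat_lit 1, nat_lit 0])) (.leaf ((nat_lit 782), [nat_lit 5, nat_lit 3, nat_lit 2, nat_lit 5, nat_lit 3, nat_lit 2, nat_lit 4, nat_lit 2, nat_lit 4, nat_lit 2, nat_lit 0, nat_lit 1, nat_lit 0, nat_lit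 2, nat_lit 0, nat_lit 2]))) (.node (nat_lit 927) (.leaf ((nat_lit 783), [nat_lit 5, nat_lit 2, nat_lit 2, nat_lit 0, nat_lit 5, nat_lit 2, nat_lit 3, nat_lit 4, nat_lit 1, nat_lit 0, nat_lit 3, nat_lit 1, nat_lit 0])) (.node (nat_lit 928) (.leaf ((nat_lit 784), [nat_lit 0, nat_lit 2, nat_lit 4, nat_lit 0, nat_lit 5, nat_lit 1, nat_lit 3, nat_lit 1, nat_lit 4, nat_lit 2, nat_lit 0, nat_lit 2, nat_lit 2, nat_lit 0])) (.leaf ((nat_lit 785), [nat_lit 4, nat_lit 5, nat_lit 2, nat_lit 0, nat_lit 5, nat_lit 4, nat_lit 2, nat_lit 0, nat_lit 4, nat_lit 3, nat_lit 2, nat_lit 0, nat_lit 1, nat_lit 0, nat_lit 1])))))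
 (.node (nat_lit 932) (.node (nat_lit 930) (.leaf ((nat_lit 381), [nat_lit 3, nat_lit 4, nat_lit 5, nat_lit 0, nat_lit 3, nat_lit 2, nat_lit 4, nat_lit 0, nat_lit 2, nat_lit 0, nat_lit 2, nat_lit 2, nat_lit 0, nat_lit 1])) (.node (nat_lit 931) (.leaf ((nat_lit 786), [nat_lit 5, nat_lit 2, nat_lit 3, nat_lit 5, nat_lit 2, nat_lit 0, nat_lit 1, nat_lit 0, nat_lit 4, nat_lit 2, nat_lit 0])) (.leaf ((nat_lit 787), [nat_lit 4, nat_lit 3, nat_lit 2, nat_lit 5, nat_lit 2, nat_lit 3, nat_lit 2, nat_lit 0, nat_lit 3, nat_lit 1, nat_lit 0, nat_lit 2, nat_lit 2, nat_lit 0, nat_lit 2, nat_lit 0])))) (.node (nat_lit 933) (.leaf ((nat_lit 668), [nat_lit 5, nat_lit 3, nat_lit 5, nat_lit 4, nat_lit 0, nat_lit 1, nat_lit 4, nat_lit 0, nat_lit 2, nat_lit 0, nat_lit 1])) (.node (nat_lit 934) (.leaf ((nat_lit 788), [nat_lit 1, nat_lit 5, nat_lit 2, nat_lit 5, nat_lit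 1, nat_lit 0, nat_lit 3, nat_lit 2, nat_lit 3, nat_lit 2, nat_lit 0, nat_lit 2, nat_lit 2, nat_lit 0, nat_lit 1])) (.leaf ((nat_lit 433), [nat_lit 2, nat_lit 5, nat_lit 4, nat_lit 5, nat_lit 3, nat_lit 4, nat_lit 0, nat_lit 3, nat_lit 4, nat_lit 2, nat_lit 0, nat_lit 1, nat_lit 0, nat_lit 2, nat_lit 0, nat_lit 2, nat_lit 0]))))))
 (.node (nat_lit 940) (.node (nat_lit 937) (.node (nat_lit 936) (.leaf ((nat_lit 789), [nat_lit 3, nat_lit 5, nat_lit 2, nat_lit 5, nat_lit 2, nat_lit 2, nat_lit 4, nat_lit 0, nat_lit 4, nat_lit 3, nat_lit 2, nat_lit 0, nat_lit 1, nat_lit 0, nat_lit 1, nat_lit 0])) (.leaf ((nat_lit 490), [nat_lit 5, nat_lit 4, nat_lit 5, nat_lit 1, nat_lit 5, nat_lit 3, nat_lit 1, nat_lit 3, nat_lit 0, nat_lit 2, nat_lit 4, nat_lit 2, nat_lit 2, nat_lit 0, nat_lit 1, nat_lit 0, nat_lit 2, nat_lit 2]))) (.node (nat_lit 938) (.leaf ((nat_lit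 790), [nat_lit 3, nat_lit 5, nat_lit 2, nat_lit 5, nat_lit 4, nat_lit 1, nat_lit 0, nat_lit 4, nat_lit 3, nat_lit 0, nat_lit 2, nat_lit 2, nat_lit 0, nat_lit 2, nat_lit 0, nat_lit 1, nat_lit 0])) (.node (nat_lit 939) (.leaf ((nat_lit 791), [nat_lit 4, nat_lit 0, nat_lit 5, nat_lit 2, nat_lit 5, nat_lit 3, nat_lit 0, nat_lit 3, nat_lit 1, nat_lit 4, nat_lit 2, nat_lit 0, nat_lit 2, nat_lit 0, nat_lit 1, nat_lit 0, nat_lit 1])) (.leaf ((nat_lit 547), [nat_lit 5, nat_lit 4, nat_lit 3, nat_lit 2, nat_lit 5, nat_lit 4, nat_lit 1, nat_lit 4, nat_lit 1, nat_lit 4, nat_lit 1, nat_lit 0, nat_lit 2, nat_lit 0, nat_lit 2])))))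
 (.node (nat_lit 943) (.node (nat_lit 941) (.leaf ((nat_lit 792), [nat_lit 5, nat_lit 2, nat_lit 2, nat_lit 0, nat_lit 5, nat_lit 2, nat_lit 3, nat_lit 4, nat_lit 0, nat_lit 2, nat_lit 4, nat_lit 2, nat_lit 0, nat_lit 1, nat_lit 0, nat_lit 2, nat_lit 0, nat_lit 2, nat_lit 0])) (.node (nat_lit 942) (.leaf ((nat_lit 793), [nat_lit 2, nat_lit 5, nat_lit 0, nat_lit 5, nat_lit 3, nat_lit 0, nat_lit 3, nat_lit 0, nat_lit 2, nat_lit 4, nat_lit 0, nat_lit 1, nat_lit 0, nat_lit 2, nat_lit 2, nat_lit 0, nat_lit 2, nat_lit 0])) (.leaf ((nat_lit 794), [nat_lit 3, nat_lit 2, nat_lit 0, nat_lit 5, nat_lit 3, nat_lit 0, nat_lit 3, nat_lit 4, nat_lit 3, nat_lit 0, nat_lit 1, nat_lit 0])))) (.node (nat_lit 944) (.leaf ((nat_lit 795), [nat_lit 4, nat_lit 5, nat_lit 4, nat_lit 0, nat_lit 5, nat_lit 4, nat_lit 2, nat_lit 0, nat_lit 4, nat_lit 0, nat_lit 1, nat_lit 0,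 nat_lit 2, nat_lit 0, nat_lit 2, nat_lit 2])) (.node (nat_lit 945) (.leaf ((nat_lit 796), [nat_lit 5, nat_lit 2, nat_lit 4, nat_lit 1, nat_lit 0, nat_lit 3, nat_lit 2, nat_lit 0, nat_lit 1, nat_lit 0, nat_lit 1, nat_lit 0, nat_lit 2, nat_lit 0])) (.leaf ((nat_lit 761), [nat_lit 1, nat_lit 0, nat_lit 2, nat_lit 5, nat_lit 4, nat_lit 0, nat_lit 1, nat_lit 0, nat_lit 2, nat_lit 2])))))))
 (.node (nat_lit 957) (.node (nat_lit 951) (.node (nat_lit 948) (.node (nat_lit 947) (.leaf ((nat_lit 243), [nat_lit 1, nat_lit 5, nat_lit 3, nat_lit 4, nat_lit 2, nat_lit 4, nat_lit 2, nat_lit 3, nat_lit 0, nat_lit 1, nat_lit 0, nat_lit 2, nat_lit 0, nat_lit 2, nat_lit 0])) (.leaf ((nat_lit 797), [nat_lit 5, nat_lit 4, nat_lit 2, nat_lit 5, nat_lit 1, nat_lit 0, nat_lit 4, nat_lit 1, nat_lit 4, nat_lit 2, nat_lit 0, nat_lit 1]))) (.node (nat_lit 949) (.leaf ((nat_lit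 798), [nat_lit 0, nat_lit 5, nat_lit 3, nat_lit 5, nat_lit 3, nat_lit 4, nat_lit 3, nat_lit 1, nat_lit 3, nat_lit 2, nat_lit 0, nat_lit 2, nat_lit 0, nat_lit 1])) (.node (nat_lit 950) (.leaf ((nat_lit 332), [nat_lit 5, nat_lit 0, nat_lit 1, nat_lit 5, nat_lit 2, nat_lit 3, nat_lit 2, nat_lit 0, nat_lit 4, nat_lit 0, nat_lit 1, nat_lit 0, nat_lit 2, nat_lit 2])) (.leaf ((nat_lit 799), [nat_lit 5, nat_lit 3, nat_lit 0, nat_lit 5, nat_lit 3, nat_lit 0, nat_lit 3, nat_lit 0, nat_lit 1, nat_lit 0, nat_lit 2, nat_lit 0, nat_lit 2, nat_lit 2])))))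
 (.node (nat_lit 954) (.node (nat_lit 952) (.leaf ((nat_lit 800), [nat_lit 5, nat_lit 2, nat_lit 3, nat_lit 5, nat_lit 0, nat_lit 3, nat_lit 0, nat_lit 2, nat_lit 4, nat_lit 0, nat_lit 1, nat_lit 0, nat_lit 1, nat_lit 0, nat_lit 2])) (.node (nat_lit 953) (.leaf ((nat_lit 801), [nat_lit 2, nat_lit 5, nat_lit 3, nat_lit 5, nat_lit 4, nat_lit 1, nat_lit 4, nat_lit 1, nat_lit 4, nat_lit 1, nat_lit 0, nat_lit 2, nat_lit 2, nat_lit 0, nat_lit 1, nat_lit 0])) (.leaf ((nat_lit 802), [nat_lit 5, nat_lit 4, nat_lit 5, nat_lit 2, nat_lit 5, nat_lit 0, nat_lit 4, nat_lit 2, nat_lit 0, nat_lit 3, nat_lit 1, nat_lit 0, nat_lit 2, nat_lit 2, nat_lit 0, nat_lit 2])))) (.node (nat_lit 955) (.leaf ((nat_lit 803), [nat_lit 4, nat_lit 2, nat_lit 5, nat_lit 1, nat_lit 5, nat_lit 0, nat_lit 3, nat_lit 4, nat_lit 0, nat_lit 2, nat_lit 0, nat_lit 2, nat_lit 2, nat_lit 0,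 nat_lit 2])) (.node (nat_lit 956) (.leaf ((nat_lit 804), [nat_lit 4, nat_lit 2, nat_lit 5, nat_lit 2, nat_lit 4, nat_lit 3, nat_lit 2, nat_lit 2, nat_lit 0, nat_lit 1])) (.leaf ((nat_lit 805), [nat_lit 4, nat_lit 5, nat_lit 3, nat_lit 2, nat_lit 5, nat_lit 0, nat_lit 4, nat_lit 2, nat_lit 0, nat_lit 4, nat_lit 1, nat_lit 0, nat_lit 2, nat_lit 0, nat_lit 1]))))))
 (.node (nat_lit 962) (.node (nat_lit 959) (.node (nat_lit 958) (.leaf ((nat_lit 806), [nat_lit 5, nat_lit 4, nat_lit 5, nat_lit 3, nat_lit 5, nat_lit 2, nat_lit 4, nat_lit 2, nat_lit 3, nat_lit 2, nat_lit 3, nat_lit 1, nat_lit 0, nat_lit 2, nat_lit 2, nat_lit 0, nat_lit 2, nat_lit 0])) (.leaf ((nat_lit 323), [nat_lit 2, nat_lit 0, nat_lit 2, nat_lit 5, nat_lit 3, nat_lit 1, nat_lit 4]))) (.node (nat_lit 960) (.leaf ((nat_lit 351), [nat_lit 4, nat_lit 0, nat_lit 5, nat_lit 0, nat_lit 1, nat_lit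 4, nat_lit 3, nat_lit 2, nat_lit 3, nat_lit 0, nat_lit 2, nat_lit 0, nat_lit 2])) (.node (nat_lit 961) (.leaf ((nat_lit 85), [nat_lit 3, nat_lit 0, nat_lit 5, nat_lit 3, nat_lit 5, nat_lit 4, nat_lit 1, nat_lit 3, nat_lit 2, nat_lit 4, nat_lit 1, nat_lit 0, nat_lit 2, nat_lit 0, nat_lit 2, nat_lit 2])) (.leaf ((nat_lit 807), [nat_lit 4, nat_lit 2, nat_lit 5, nat_lit 3, nat_lit 5, nat_lit 3, nat_lit 0, nat_lit 4, nat_lit 1, nat_lit 0, nat_lit 3, nat_lit 2, nat_lit 2, nat_lit 0, nat_lit 1, nat_lit 0, nat_lit 2, nat_lit 2, nat_lit 0])))))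
 (.node (nat_lit 965) (.node (nat_lit 963) (.leaf ((nat_lit 808), [nat_lit 3, nat_lit 4, nat_lit 5, nat_lit 0, nat_lit 3, nat_lit 2, nat_lit 3, nat_lit 2, nat_lit 0, nat_lit 2, nat_lit 0, nat_lit 1, nat_lit 0])) (.node (nat_lit 964) (.leaf ((nat_lit 484), [nat_lit 4, nat_lit 2, nat_lit 0, nat_lit 5, nat_lit 2, nat_lit 4, nat_lit 3, nat_lit 0, nat_lit 2, nat_lit 4, nat_lit 1, nat_lit 0, nat_lit 2, nat_lit 0, nat_lit 1, nat_lit 0])) (.leaf ((nat_lit 579), [nat_lit 4, nat_lit 5, nat_lit 3, nat_lit 2, nat_lit 5, nat_lit 2, nat_lit 4, nat_lit 1, nat_lit 0, nat_lit 1, nat_lit 0, nat_lit 3, nat_lit 0, nat_lit 1, nat_lit 0, nat_lit 2, nat_lit 2, nat_lit 0, nat_lit 2, nat_lit 0])))) (.node (nat_lit 966) (.leaf ((nat_lit 809), [nat_lit 4, nat_lit 5, nat_lit 2, nat_lit 0, nat_lit 5, nat_lit 3, nat_lit 1, nat_lit 0, nat_lit 4, nat_lit 2, nat_lit 2, nat_lit 0,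 nat_lit 2, nat_lit 0, nat_lit 1])) (.node (nat_lit 967) (.leaf ((nat_lit 810), [nat_lit 5, nat_lit 4, nat_lit 2, nat_lit 0, nat_lit 5, nat_lit 4, nat_lit 2, nat_lit 4, nat_lit 2, nat_lit 3, nat_lit 1, nat_lit 0, nat_lit 2])) (.leaf ((nat_lit 811), [nat_lit 2, nat_lit 0, nat_lit 1, nat_lit 5, nat_lit 3, nat_lit 4, nat_lit 0, nat_lit 4, nat_lit 1, nat_lit 3, nat_lit 0, nat_lit 1, nat_lit 0, nat_lit 2])))))))))
 (.node (nat_lit 1012) (.node (nat_lit 990) (.node (nat_lit 979) (.node (nat_lit 973) (.node (nat_lit 970) (.node (nat_lit 969) (.leaf ((nat_lit 277), [nat_lit 4, nat_lit 1, nat_lit 5, nat_lit 0, nat_lit 5, nat_lit 1, nat_lit 3, nat_lit 2, nat_lit 4, nat_lit 3, nat_lit 2, nat_lit 2, nat_lit 0, nat_lit 1, nat_lit 0])) (.leaf ((nat_lit 812), [nat_lit 2, nat_lit 4, nat_lit 2, nat_lit 0, nat_lit 5, nat_lit 1, nat_lit 3, nat_lit 4, nat_lit 0, nat_lit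 2, nat_lit 0, nat_lit 1]))) (.node (nat_lit 971) (.leaf ((nat_lit 576), [nat_lit 2, nat_lit 5, nat_lit 3, nat_lit 4, nat_lit 3, nat_lit 2, nat_lit 2, nat_lit 0, nat_lit 1, nat_lit 0, nat_lit 2, nat_lit 2])) (.node (nat_lit 972) (.leaf ((nat_lit 813), [nat_lit 1, nat_lit 5, nat_lit 0, nat_lit 5, nat_lit 3, nat_lit 1, nat_lit 4, nat_lit 3, nat_lit 2, nat_lit 2, nat_lit 0, nat_lit 2])) (.leaf ((nat_lit 814), [nat_lit 5, nat_lit 3, nat_lit 5, nat_lit 2, nat_lit 2, nat_lit 4, nat_lit 3, nat_lit 2, nat_lit 3, nat_lit 0, nat_lit 2, nat_lit 0, nat_lit 2])))))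
 (.node (nat_lit 976) (.node (nat_lit 974) (.leaf ((nat_lit 815), [nat_lit 3, nat_lit 4, nat_lit 5, nat_lit 2, nat_lit 5, nat_lit 4, nat_lit 0, nat_lit 2, nat_lit 3, nat_lit 2, nat_lit 0, nat_lit 3, nat_lit 2, nat_lit 0, nat_lit 1, nat_lit 0, nat_lit 2, nat_lit 2, nat_lit 0])) (.node (nat_lit 975) (.leaf ((nat_lit 816), [nat_lit 4, nat_lit 3, nat_lit 2, nat_lit 5, nat_lit 2, nat_lit 3, nat_lit 1, nat_lit 3, nat_lit 4, nat_lit 3, nat_lit 0, nat_lit 1, nat_lit 0, nat_lit 2])) (.leaf ((nat_lit 400), [nat_lit 5, nat_lit 2, nat_lit 4, nat_lit 0, nat_lit 5, nat_lit 4, nat_lit 2, nat_lit 4, nat_lit 0, nat_lit 1, nat_lit 0, nat_lit 3, nat_lit 0, nat_lit 2, nat_lit 2])))) (.node (nat_lit 977) (.leaf ((nat_lit 566), [nat_lit 2, nat_lit 0, nat_lit 5, nat_lit 1, nat_lit 3, nat_lit 0, nat_lit 1, nat_lit 4, nat_lit 1, nat_lit 0, nat_lit 1, nat_lit 0, nat_lit 2,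 nat_lit 0, nat_lit 2, nat_lit 0])) (.node (nat_lit 978) (.leaf ((nat_lit 817), [nat_lit 5, nat_lit 2, nat_lit 0, nat_lit 2, nat_lit 5, nat_lit 0, nat_lit 4, nat_lit 2, nat_lit 3, nat_lit 4, nat_lit 0, nat_lit 2, nat_lit 0])) (.leaf ((nat_lit 818), [nat_lit 4, nat_lit 3, nat_lit 5, nat_lit 0, nat_lit 5, nat_lit 1, nat_lit 3, nat_lit 2, nat_lit 2, nat_lit 0, nat_lit 2, nat_lit 2, nat_lit 0, nat_lit 2]))))))
 (.node (nat_lit 984) (.node (nat_lit 981) (.node (nat_lit 980) (.leaf ((nat_lit 289), [nat_lit 5, nat_lit 4, nat_lit 2, nat_lit 5, nat_lit 0, nat_lit 4, nat_lit 0, nat_lit 4, nat_lit 1, nat_lit 0, nat_lit 2, nat_lit 2, nat_lit 0])) (.leaf ((nat_lit 819), [nat_lit 2, nat_lit 3, nat_lit 0, nat_lit 5, nat_lit 0, nat_lit 3, nat_lit 2, nat_lit 4, nat_lit 1, nat_lit 0, nat_lit 1, nat_lit 0, nat_lit 2]))) (.node (nat_lit 982) (.leaf ((nat_lit 820), [nat_lit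 0, nat_lit 2, nat_lit 5, nat_lit 3, nat_lit 5, nat_lit 2, nat_lit 0, nat_lit 3, nat_lit 1, nat_lit 3, nat_lit 2, nat_lit 0, nat_lit 1, nat_lit 0, nat_lit 2, nat_lit 0, nat_lit 2])) (.node (nat_lit 983) (.leaf ((nat_lit 821), [nat_lit 3, nat_lit 2, nat_lit 5, nat_lit 0, nat_lit 5, nat_lit 1, nat_lit 0, nat_lit 3, nat_lit 0, nat_lit 4, nat_lit 2, nat_lit 2, nat_lit 0, nat_lit 2])) (.leaf ((nat_lit 513), [nat_lit 0, nat_lit 5, nat_lit 2, nat_lit 0, nat_lit 5, nat_lit 4, nat_lit 0, nat_lit 1, nat_lit 0, nat_lit 1, nat_lit 0, nat_lit 2])))))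
 (.node (nat_lit 987) (.node (nat_lit 985) (.leaf ((nat_lit 822), [nat_lit 5, nat_lit 4, nat_lit 2, nat_lit 0, nat_lit 5, nat_lit 0, nat_lit 1, nat_lit 0, nat_lit 1, nat_lit 0, nat_lit 3, nat_lit 2, nat_lit 0, nat_lit 1, nat_lit 0, nat_lit 1, nat_lit 0, nat_lit 2])) (.node (nat_lit 986) (.leaf ((nat_lit 823), [nat_lit 5, nat_lit 4, nat_lit 5, nat_lit 2, nat_lit 5, nat_lit 3, nat_lit 4, nat_lit 1, nat_lit 3, nat_lit 0, nat_lit 2, nat_lit 0, nat_lit 2, nat_lit 0])) (.leaf ((nat_lit 518), [nat_lit 1, nat_lit 5, nat_lit 0, nat_lit 5, nat_lit 0, nat_lit 3, nat_lit 4, nat_lit 0, nat_lit 3, nat_lit 1, nat_lit 0, nat_lit 2, nat_lit 0, nat_lit 2])))) (.node (nat_lit 988) (.leaf ((nat_lit 80), [nat_lit 2, nat_lit 0, nat_lit 2, nat_lit 5, nat_lit 4, nat_lit 3, nat_lit 2, nat_lit 3, nat_lit 0, nat_lit 3, nat_lit 0, nat_lit 1])) (.node (nat_lit 989) (.leaf ((nat_lit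 824), [nat_lit 5, nat_lit 0, nat_lit 5, nat_lit 0, nat_lit 4, nat_lit 0, nat_lit 4, nat_lit 1, nat_lit 3, nat_lit 0, nat_lit 1, nat_lit 0, nat_lit 1, nat_lit 0, nat_lit 2])) (.leaf ((nat_lit 7), [nat_lit 3, nat_lit 4, nat_lit 3, nat_lit 5, nat_lit 2, nat_lit 2, nat_lit 3, nat_lit 4, nat_lit 2, nat_lit 0, nat_lit 2, nat_lit 0, nat_lit 1, nat_lit 0, nat_lit 1])))))))
 (.node (nat_lit 1001) (.node (nat_lit 995) (.node (nat_lit 992) (.node (nat_lit 991) (.leaf ((nat_lit 226), [nat_lit 1, nat_lit 5, nat_lit 2, nat_lit 5, nat_lit 3, nat_lit 1, nat_lit 3, nat_lit 4, nat_lit 3, nat_lit 2, nat_lit 2, nat_lit 0, nat_lit 2, nat_lit 2, nat_lit 0])) (.leaf ((nat_lit 825), [nat_lit 2, nat_lit 0, nat_lit 5, nat_lit 2, nat_lit 3, nat_lit 0, nat_lit 2, nat_lit 4, nat_lit 0, nat_lit 2, nat_lit 0, nat_lit 2, nat_lit 2, nat_lit 0, nat_lit 1]))) (.node (nat_lit 993)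 (.leaf ((nat_lit 826), [nat_lit 3, nat_lit 5, nat_lit 2, nat_lit 4, nat_lit 1, nat_lit 4, nat_lit 1, nat_lit 3, nat_lit 0, nat_lit 1, nat_lit 0, nat_lit 2, nat_lit 2, nat_lit 0])) (.node (nat_lit 994) (.leaf ((nat_lit 827), [nat_lit 1, nat_lit 5, nat_lit 1, nat_lit 5, nat_lit 2, nat_lit 4, nat_lit 3, nat_lit 0, nat_lit 4, nat_lit 1, nat_lit 0, nat_lit 2, nat_lit 0, nat_lit 1, nat_lit 0])) (.leaf ((nat_lit 828), [nat_lit 5, nat_lit 4, nat_lit 3, nat_lit 0, nat_lit 5, nat_lit 1, nat_lit 3, nat_lit 4, nat_lit 1, nat_lit 0, nat_lit 3, nat_lit 1, nat_lit 0, nat_lit 2, nat_lit 0, nat_lit 2])))))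
 (.node (nat_lit 998) (.node (nat_lit 996) (.leaf ((nat_lit 829), [nat_lit 4, nat_lit 1, nat_lit 5, nat_lit 0, nat_lit 5, nat_lit 0, nat_lit 3, nat_lit 2, nat_lit 3, nat_lit 2, nat_lit 3, nat_lit 2, nat_lit 0, nat_lit 2, nat_lit 0, nat_lit 1, nat_lit 0, nat_lit 1, nat_lit 0])) (.node (nat_lit 997) (.leaf ((nat_lit 830), [nat_lit 5, nat_lit 2, nat_lit 5, nat_lit 0, nat_lit 4, nat_lit 3, nat_lit 0, nat_lit 3, nat_lit 2, nat_lit 0, nat_lit 1, nat_lit 0, nat_lit 2])) (.leaf ((nat_lit 831), [nat_lit 5, nat_lit 1, nat_lit 0, nat_lit 2, nat_lit 5, nat_lit 0, nat_lit 2, nat_lit 3, nat_lit 4, nat_lit 1, nat_lit 3, nat_lit 2, nat_lit 0, nat_lit 1, nat_lit 0, nat_lit 2, nat_lit 2])))) (.node (nat_lit 999) (.leaf ((nat_lit 832), [nat_lit 0, nat_lit 5, nat_lit 3, nat_lit 0, nat_lit 5, nat_lit 0, nat_lit 2, nat_lit 3, nat_lit 2, nat_lit 0, nat_lit 2, nat_lit 2,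 nat_lit 0, nat_lit 1])) (.node (nat_lit 1000) (.leaf ((nat_lit 349), [nat_lit 4, nat_lit 3, nat_lit 0, nat_lit 5, nat_lit 3, nat_lit 0, nat_lit 1, nat_lit 0, nat_lit 3])) (.leaf ((nat_lit 833), [nat_lit 0, nat_lit 2, nat_lit 5, nat_lit 4, nat_lit 0, nat_lit 4, nat_lit 3, nat_lit 0, nat_lit 2, nat_lit 0, nat_lit 2, nat_lit 0]))))))
 (.node (nat_lit 1006) (.node (nat_lit 1003) (.node (nat_lit 1002) (.leaf ((nat_lit 834), [nat_lit 1, nat_lit 5, nat_lit 1, nat_lit 0, nat_lit 3, nat_lit 1, nat_lit 4, nat_lit 0, nat_lit 1, nat_lit 0, nat_lit 1, nat_lit 0, nat_lit 2, nat_lit 0])) (.leaf ((nat_lit 835), [nat_lit 2, nat_lit 2, nat_lit 0, nat_lit 5, nat_lit 4, nat_lit 1, nat_lit 3, nat_lit 2, nat_lit 0, nat_lit 2, nat_lit 2, nat_lit 0, nat_lit 2, nat_lit 0]))) (.node (nat_lit 1004) (.leaf ((nat_lit 836), [nat_lit 0, nat_lit 5, nat_lit 3, nat_lit 5, nat_lit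 0, nat_lit 2, nat_lit 3, nat_lit 2, nat_lit 0, nat_lit 1, nat_lit 0, nat_lit 1])) (.node (nat_lit 1005) (.leaf ((nat_lit 329), [nat_lit 2, nat_lit 4, nat_lit 0, nat_lit 5, nat_lit 0, nat_lit 4, nat_lit 0, nat_lit 4, nat_lit 2, nat_lit 2, nat_lit 0, nat_lit 2, nat_lit 2, nat_lit 0, nat_lit 2, nat_lit 2])) (.leaf ((nat_lit 837), [nat_lit 5, nat_lit 1, nat_lit 0, nat_lit 2, nat_lit 5, nat_lit 2, nat_lit 3, nat_lit 1, nat_lit 0, nat_lit 2, nat_lit 3, nat_lit 0, nat_lit 1, nat_lit 0, nat_lit 1, nat_lit 0, nat_lit 2])))))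
 (.node (nat_lit 1009) (.node (nat_lit 1007) (.leaf ((nat_lit 704), [nat_lit 5, nat_lit 0, nat_lit 4, nat_lit 5, nat_lit 2, nat_lit 2, nat_lit 0, nat_lit 3, nat_lit 1, nat_lit 0, nat_lit 1, nat_lit 0, nat_lit 2, nat_lit 0, nat_lit 2])) (.node (nat_lit 1008) (.leaf ((nat_lit 838), [nat_lit 1, nat_lit 0, nat_lit 5, nat_lit 3, nat_lit 0, nat_lit 4, nat_lit 2, nat_lit 2, nat_lit 0, nat_lit 1, nat_lit 0, nat_lit 2, nat_lit 2, nat_lit 0])) (.leaf ((nat_lit 839), [nat_lit 2, nat_lit 2, nat_lit 5, nat_lit 1, nat_lit 0, nat_lit 3, nat_lit 1, nat_lit 4, nat_lit 1, nat_lit 0, nat_lit 2, nat_lit 2, nat_lit 0, nat_lit 2, nat_lit 0])))) (.node (nat_lit 1010) (.leaf ((nat_lit 25), [nat_lit 5, nat_lit 1, nat_lit 5, nat_lit 0, nat_lit 4, nat_lit 1, nat_lit 3, nat_lit 0, nat_lit 1, nat_lit 0, nat_lit 2, nat_lit 2, nat_lit 0, nat_lit 2])) (.node (nat_lit 1011) (.leaf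 ((nat_lit 840), [nat_lit 5, nat_lit 0, nat_lit 1, nat_lit 5, nat_lit 0, nat_lit 3, nat_lit 2, nat_lit 0, nat_lit 3, nat_lit 2, nat_lit 2, nat_lit 0, nat_lit 1, nat_lit 0])) (.leaf ((nat_lit 235), [nat_lit 4, nat_lit 1, nat_lit 5, nat_lit 3, nat_lit 5, nat_lit 2, nat_lit 2, nat_lit 0, nat_lit 3, nat_lit 0, nat_lit 4, nat_lit 1, nat_lit 0, nat_lit 1, nat_lit 0, nat_lit 2, nat_lit 2, nat_lit 0]))))))))
 (.node (nat_lit 1034) (.node (nat_lit 1023) (.node (nat_lit 1017) (.node (nat_lit 1014) (.node (nat_lit 1013) (.leaf ((nat_lit 481), [nat_lit 1, nat_lit 4, nat_lit 2, nat_lit 5, nat_lit 3, nat_lit 0, nat_lit 1, nat_lit 0, nat_lit 3, nat_lit 1, nat_lit 0, nat_lit 2, nat_lit 0, nat_lit 1])) (.leaf ((nat_lit 574), [nat_lit 5, nat_lit 0, nat_lit 4, nat_lit 5, nat_lit 1, nat_lit 4, nat_lit 2, nat_lit 3, nat_lit 1, nat_lit 3, nat_lit 2, nat_lit 0, nat_lit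 2, nat_lit 0, nat_lit 1]))) (.node (nat_lit 1015) (.leaf ((nat_lit 841), [nat_lit 3, nat_lit 1, nat_lit 3, nat_lit 0, nat_lit 5, nat_lit 4, nat_lit 2, nat_lit 4, nat_lit 2, nat_lit 0, nat_lit 3, nat_lit 1])) (.node (nat_lit 1016) (.leaf ((nat_lit 842), [nat_lit 5, nat_lit 1, nat_lit 0, nat_lit 3, nat_lit 5, nat_lit 2, nat_lit 0, nat_lit 2, nat_lit 2, nat_lit 0, nat_lit 1, nat_lit 0])) (.leaf ((nat_lit 843), [nat_lit 5, nat_lit 4, nat_lit 2, nat_lit 0, nat_lit 5, nat_lit 3, nat_lit 4, nat_lit 1, nat_lit 0, nat_lit 3, nat_lit 2, nat_lit 2, nat_lit 0, nat_lit 1, nat_lit 0, nat_lit 2, nat_lit 0])))))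
 (.node (nat_lit 1020) (.node (nat_lit 1018) (.leaf ((nat_lit 844), [nat_lit 1, nat_lit 3, nat_lit 0, nat_lit 5, nat_lit 1, nat_lit 3, nat_lit 1, nat_lit 4, nat_lit 2, nat_lit 2, nat_lit 0, nat_lit 2, nat_lit 2, nat_lit 0, nat_lit 2, nat_lit 2])) (.node (nat_lit 1019) (.leaf ((nat_lit 845), [nat_lit 5, nat_lit 3, nat_lit 5, nat_lit 1, nat_lit 0, nat_lit 3, nat_lit 4, nat_lit 0, nat_lit 3])) (.leaf ((nat_lit 143), [nat_lit 4, nat_lit 0, nat_lit 5, nat_lit 2, nat_lit 2, nat_lit 4, nat_lit 0, nat_lit 4, nat_lit 1, nat_lit 0, nat_lit 1, nat_lit 0, nat_lit 2, nat_lit 2, nat_lit 0])))) (.node (nat_lit 1021) (.leaf ((nat_lit 846), [nat_lit 4, nat_lit 0, nat_lit 5, nat_lit 2, nat_lit 5, nat_lit 4, nat_lit 1, nat_lit 3, nat_lit 4, nat_lit 3, nat_lit 0, nat_lit 1, nat_lit 0, nat_lit 2, nat_lit 2, nat_lit 0, nat_lit 1, nat_lit 0])) (.node (nat_lit 1022) (.leaf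 ((nat_lit 741), [nat_lit 4, nat_lit 3, nat_lit 5, nat_lit 0, nat_lit 5, nat_lit 4, nat_lit 1, nat_lit 0, nat_lit 3, nat_lit 2, nat_lit 3, nat_lit 0, nat_lit 1, nat_lit 0, nat_lit 2, nat_lit 0, nat_lit 2, nat_lit 2, nat_lit 0])) (.leaf ((nat_lit 504), [nat_lit 5, nat_lit 2, nat_lit 0, nat_lit 5, nat_lit 3, nat_lit 0, nat_lit 4, nat_lit 1, nat_lit 4, nat_lit 0, nat_lit 2, nat_lit 0, nat_lit 2]))))))
 (.node (nat_lit 1028) (.node (nat_lit 1025) (.node (nat_lit 1024) (.leaf ((nat_lit 105), [nat_lit 5, nat_lit 1, nat_lit 3, nat_lit 0, nat_lit 5, nat_lit 1, nat_lit 3, nat_lit 4, nat_lit 2, nat_lit 3, nat_lit 0, nat_lit 2, nat_lit 0, nat_lit 2])) (.leaf ((nat_lit 847), [nat_lit 3, nat_lit 0, nat_lit 5, nat_lit 2, nat_lit 4, nat_lit 3, nat_lit 0, nat_lit 2, nat_lit 3, nat_lit 1, nat_lit 0, nat_lit 2, nat_lit 2]))) (.node (nat_lit 1026) (.leaf ((nat_lit 115),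 [nat_lit 5, nat_lit 4, nat_lit 5, nat_lit 3, nat_lit 5, nat_lit 1, nat_lit 4, nat_lit 1, nat_lit 4, nat_lit 3, nat_lit 0, nat_lit 2, nat_lit 2])) (.node (nat_lit 1027) (.leaf ((nat_lit 848), [nat_lit 5, nat_lit 0, nat_lit 4, nat_lit 0, nat_lit 1, nat_lit 4, nat_lit 3, nat_lit 0, nat_lit 2, nat_lit 0])) (.leaf ((nat_lit 849), [nat_lit 4, nat_lit 5, nat_lit 3, nat_lit 0, nat_lit 4, nat_lit 3, nat_lit 2, nat_lit 3, nat_lit 2, nat_lit 0, nat_lit 1, nat_lit 0, nat_lit 1, nat_lit 0])))))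
 (.node (nat_lit 1031) (.node (nat_lit 1029) (.leaf ((nat_lit 659), [nat_lit 5, nat_lit 1, nat_lit 5, nat_lit 0, nat_lit 5, nat_lit 2, nat_lit 0, nat_lit 1, nat_lit 4, nat_lit 3, nat_lit 0, nat_lit 1, nat_lit 0])) (.node (nat_lit 1030) (.leaf ((nat_lit 850), [nat_lit 4, nat_lit 2, nat_lit 0, nat_lit 5, nat_lit 0, nat_lit 3, nat_lit 0, nat_lit 2, nat_lit 4, nat_lit 3, nat_lit 2, nat_lit 0, nat_lit 2])) (.leaf ((nat_lit 851), [nat_lit 2, nat_lit 5, nat_lit 0, nat_lit 5, nat_lit 0, nat_lit 1, nat_lit 3, nat_lit 0, nat_lit 3, nat_lit 0, nat_lit 1, nat_lit 0])))) (.node (nat_lit 1032) (.leaf ((nat_lit 852), [nat_lit 5, nat_lit 2, nat_lit 3, nat_lit 0, nat_lit 5, nat_lit 0, nat_lit 4, nat_lit 0, nat_lit 1, nat_lit 4, nat_lit 3, nat_lit 1, nat_lit 0, nat_lit 2, nat_lit 2, nat_lit 0])) (.node (nat_lit 1033) (.leaf ((nat_lit 853), [nat_lit 3, nat_lit 5, nat_lit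 0, nat_lit 3, nat_lit 5, nat_lit 2, nat_lit 4, nat_lit 1, nat_lit 0, nat_lit 3, nat_lit 0])) (.leaf ((nat_lit 393), [nat_lit 5, nat_lit 1, nat_lit 0, nat_lit 2, nat_lit 5, nat_lit 4, nat_lit 3, nat_lit 2, nat_lit 4, nat_lit 3, nat_lit 1, nat_lit 0, nat_lit 1])))))))
 (.node (nat_lit 1045) (.node (nat_lit 1039) (.node (nat_lit 1036) (.node (nat_lit 1035) (.leaf ((nat_lit 854), [nat_lit 2, nat_lit 0, nat_lit 2, nat_lit 5, nat_lit 2, nat_lit 2, nat_lit 0, nat_lit 3, nat_lit 0, nat_lit 4, nat_lit 2, nat_lit 0, nat_lit 2, nat_lit 2, nat_lit 0, nat_lit 1])) (.leaf ((nat_lit 855), [nat_lit 3, nat_lit 0, nat_lit 2, nat_lit 5, nat_lit 2, nat_lit 0, nat_lit 3, nat_lit 0, nat_lit 2, nat_lit 3, nat_lit 2, nat_lit 0, nat_lit 2, nat_lit 2, nat_lit 0, nat_lit 1]))) (.node (nat_lit 1037) (.leaf ((nat_lit 634), [nat_lit 5, nat_lit 3, nat_lit 2, nat_lit 0, nat_lit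 5, nat_lit 2, nat_lit 3, nat_lit 4, nat_lit 3, nat_lit 2, nat_lit 3, nat_lit 0, nat_lit 2, nat_lit 0, nat_lit 2, nat_lit 2, nat_lit 0, nat_lit 2, nat_lit 0])) (.node (nat_lit 1038) (.leaf ((nat_lit 402), [nat_lit 4, nat_lit 2, nat_lit 5, nat_lit 3, nat_lit 5, nat_lit 3, nat_lit 2, nat_lit 0, nat_lit 3, nat_lit 0, nat_lit 2, nat_lit 0, nat_lit 1])) (.leaf ((nat_lit 164), [nat_lit 4, nat_lit 5, nat_lit 2, nat_lit 3, nat_lit 5, nat_lit 1, nat_lit 4, nat_lit 3, nat_lit 1, nat_lit 0, nat_lit 2, nat_lit 2, nat_lit 0, nat_lit 2, nat_lit 2])))))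
 (.node (nat_lit 1042) (.node (nat_lit 1040) (.leaf ((nat_lit 856), [nat_lit 2, nat_lit 5, nat_lit 3, nat_lit 1, nat_lit 0, nat_lit 3, nat_lit 1, nat_lit 3, nat_lit 2, nat_lit 2, nat_lit 0, nat_lit 1, nat_lit 0, nat_lit 2, nat_lit 2])) (.node (nat_lit 1041) (.leaf ((nat_lit 413), [nat_lit 3, nat_lit 5, nat_lit 2, nat_lit 3, nat_lit 0, nat_lit 5, nat_lit 3, nat_lit 1, nat_lit 4, nat_lit 0, nat_lit 4, nat_lit 0])) (.leaf ((nat_lit 857), [nat_lit 2, nat_lit 5, nat_lit 4, nat_lit 5, nat_lit 0, nat_lit 4, nat_lit 0, nat_lit 4, nat_lit 2, nat_lit 0, nat_lit 2, nat_lit 0, nat_lit 1, nat_lit 0, nat_lit 1])))) (.node (nat_lit 1043) (.leaf ((nat_lit 858), [nat_lit 4, nat_lit 3, nat_lit 5, nat_lit 0, nat_lit 3, nat_lit 0, nat_lit 2, nat_lit 3, nat_lit 1, nat_lit 0, nat_lit 1, nat_lit 0])) (.node (nat_lit 1044) (.leaf ((nat_lit 859), [nat_lit 5, nat_lit 4, nat_lit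 2, nat_lit 5, nat_lit 3, nat_lit 0, nat_lit 2, nat_lit 4, nat_lit 0, nat_lit 2, nat_lit 2, nat_lit 0, nat_lit 2, nat_lit 2, nat_lit 0])) (.leaf ((nat_lit 788), [nat_lit 3, nat_lit 4, nat_lit 5, nat_lit 4, nat_lit 1, nat_lit 3, nat_lit 2, nat_lit 4, nat_lit 2, nat_lit 2, nat_lit 0, nat_lit 2, nat_lit 0, nat_lit 1]))))))
 (.node (nat_lit 1050) (.node (nat_lit 1047) (.node (nat_lit 1046) (.leaf ((nat_lit 493), [nat_lit 1, nat_lit 5, nat_lit 3, nat_lit 5, nat_lit 4, nat_lit 1, nat_lit 4, nat_lit 2, nat_lit 4, nat_lit 3, nat_lit 1, nat_lit 0, nat_lit 2, nat_lit 0])) (.leaf ((nat_lit 613), [nat_lit 5, nat_lit 0, nat_lit 1, nat_lit 5, nat_lit 3, nat_lit 4, nat_lit 2, nat_lit 4, nat_lit 0, nat_lit 2, nat_lit 2, nat_lit 0]))) (.node (nat_lit 1048) (.leaf ((nat_lit 860), [nat_lit 5, nat_lit 4, nat_lit 3, nat_lit 2, nat_lit 5, nat_lit 2, nat_lit 2, nat_lit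 0, nat_lit 4, nat_lit 0, nat_lit 2, nat_lit 2, nat_lit 0, nat_lit 2, nat_lit 0])) (.node (nat_lit 1049) (.leaf ((nat_lit 46), [nat_lit 3, nat_lit 4, nat_lit 3, nat_lit 5, nat_lit 3, nat_lit 2, nat_lit 2, nat_lit 0, nat_lit 4, nat_lit 0, nat_lit 1, nat_lit 0, nat_lit 1, nat_lit 0])) (.leaf ((nat_lit 657), [nat_lit 1, nat_lit 5, nat_lit 2, nat_lit 5, nat_lit 0, nat_lit 2, nat_lit 4, nat_lit 1, nat_lit 0, nat_lit 3, nat_lit 0, nat_lit 2, nat_lit 2, nat_lit 0, nat_lit 2, nat_lit 0])))))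
 (.node (nat_lit 1053) (.node (nat_lit 1051) (.leaf ((nat_lit 861), [nat_lit 2, nat_lit 0, nat_lit 2, nat_lit 5, nat_lit 4, nat_lit 1, nat_lit 4, nat_lit 3, nat_lit 2, nat_lit 2, nat_lit 0, nat_lit 1, nat_lit 0, nat_lit 2, nat_lit 0])) (.node (nat_lit 1052) (.leaf ((nat_lit 862), [nat_lit 5, nat_lit 0, nat_lit 3, nat_lit 5, nat_lit 2, nat_lit 2, nat_lit 3, nat_lit 2, nat_lit 4, nat_lit 0, nat_lit 1, nat_lit 0, nat_lit 2, nat_lit 0, nat_lit 2, nat_lit 2, nat_lit 0])) (.leaf ((nat_lit 863), [nat_lit 0, nat_lit 4, nat_lit 2, nat_lit 0, nat_lit 5, nat_lit 3, nat_lit 1, nat_lit 4, nat_lit 3, nat_lit 1, nat_lit 0, nat_lit 2, nat_lit 2, nat_lit 0, nat_lit 2, nat_lit 2, nat_lit 0])))) (.node (nat_lit 1054) (.leaf ((nat_lit 832), [nat_lit 5, nat_lit 4, nat_lit 5, nat_lit 1, nat_lit 5, nat_lit 2, nat_lit 4, nat_lit 2, nat_lit 4, nat_lit 0, nat_lit 2, nat_lit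 0, nat_lit 2, nat_lit 2, nat_lit 0])) (.node (nat_lit 1055) (.leaf ((nat_lit 864), [nat_lit 4, nat_lit 5, nat_lit 2, nat_lit 3, nat_lit 4, nat_lit 1, nat_lit 3, nat_lit 0, nat_lit 1, nat_lit 0, nat_lit 1])) (.leaf ((nat_lit 865), [nat_lit 4, nat_lit 5, nat_lit 2, nat_lit 0, nat_lit 5, nat_lit 2, nat_lit 4, nat_lit 2, nat_lit 3, nat_lit 4, nat_lit 0, nat_lit 2, nat_lit 2, nat_lit 0, nat_lit 2, nat_lit 0, nat_lit 1, nat_lit 0]))))))))))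
noncomputable def qWd_6 : Tr (ℕ × List ℕ) := (.node (nat_lit 1144) (.node (nat_lit 1100) (.node (nat_lit 1078) (.node (nat_lit 1067) (.node (nat_lit 1061) (.node (nat_lit 1058) (.node (nat_lit 1057) (.leaf ((nat_lit 762), [nat_lit 3, nat_lit 4, nat_lit 5, nat_lit 0, nat_lit 3, nat_lit 2, nat_lit 3])) (.leaf ((nat_lit 178), [nat_lit 5, nat_lit 4, nat_lit 5, nat_lit 0, nat_lit 1, nat_lit 3, nat_lit 4, nat_lit 2, nat_lit 3, nat_lit 0, nat_lit 1, nat_lit 0, nat_lit 2, nat_lit 2, nat_lit 0, nat_lit 1, nat_lit 0]))) (.node (nat_lit 1059) (.leaf ((nat_lit 747), [nat_lit 5, nat_lit 0, nat_lit 5, nat_lit 1, nat_lit 4, nat_lit 1, nat_lit 4, nat_lit 3, nat_lit 0, nat_lit 1, nat_lit 0, nat_lit 2, nat_lit 0, nat_lit 2, nat_lit 2])) (.node (nat_lit 1060) (.leaf ((nat_lit 482), [nat_lit 0, nat_lit 2, nat_lit 5, nat_lit 3, nat_lit 5, nat_lit 3, nat_lit 0, nat_lit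 3, nat_lit 2, nat_lit 3, nat_lit 1, nat_lit 0, nat_lit 1, nat_lit 0, nat_lit 2, nat_lit 0, nat_lit 2])) (.leaf ((nat_lit 866), [nat_lit 4, nat_lit 0, nat_lit 5, nat_lit 4, nat_lit 2, nat_lit 3, nat_lit 1, nat_lit 0, nat_lit 1, nat_lit 0, nat_lit 2, nat_lit 0, nat_lit 2])))))
 (.node (nat_lit 1064) (.node (nat_lit 1062) (.leaf ((nat_lit 867), [nat_lit 2, nat_lit 5, nat_lit 3, nat_lit 2, nat_lit 0, nat_lit 1, nat_lit 0, nat_lit 3, nat_lit 2, nat_lit 2, nat_lit 0, nat_lit 2])) (.node (nat_lit 1063) (.leaf ((nat_lit 380), [nat_lit 2, nat_lit 2, nat_lit 5, nat_lit 1, nat_lit 5, nat_lit 1, nat_lit 4, nat_lit 1, nat_lit 4, nat_lit 3, nat_lit 1, nat_lit 0, nat_lit 2, nat_lit 0, nat_lit 2, nat_lit 0])) (.leaf ((nat_lit 868), [nat_lit 3, nat_lit 4, nat_lit 3, nat_lit 5, nat_lit 3, nat_lit 4, nat_lit 3, nat_lit 1, nat_lit 3, nat_lit 2, nat_lit 0, nat_lit 2,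 nat_lit 0, nat_lit 1, nat_lit 0, nat_lit 1, nat_lit 0])))) (.node (nat_lit 1065) (.leaf ((nat_lit 59), [nat_lit 2, nat_lit 4, nat_lit 0, nat_lit 5, nat_lit 3, nat_lit 0, nat_lit 4, nat_lit 1, nat_lit 0, nat_lit 3, nat_lit 2, nat_lit 0, nat_lit 2, nat_lit 0, nat_lit 1, nat_lit 0, nat_lit 1, nat_lit 0])) (.node (nat_lit 1066) (.leaf ((nat_lit 869), [nat_lit 2, nat_lit 5, nat_lit 2, nat_lit 3, nat_lit 5, nat_lit 1, nat_lit 4, nat_lit 1, nat_lit 4, nat_lit 3, nat_lit 1, nat_lit 0, nat_lit 2, nat_lit 0])) (.leaf ((nat_lit 458), [nat_lit 5, nat_lit 4, nat_lit 5, nat_lit 1, nat_lit 5, nat_lit 2, nat_lit 4, nat_lit 1, nat_lit 0, nat_lit 2, nat_lit 3, nat_lit 2, nat_lit 0, nat_lit 2, nat_lit 2]))))))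
 (.node (nat_lit 1072) (.node (nat_lit 1069) (.node (nat_lit 1068) (.leaf ((nat_lit 196), [nat_lit 4, nat_lit 3, nat_lit 2, nat_lit 5, nat_lit 4, nat_lit 1, nat_lit 0, nat_lit 3, nat_lit 4, nat_lit 2, nat_lit 2, nat_lit 0, nat_lit 2, nat_lit 2, nat_lit 0])) (.leaf ((nat_lit 870), [nat_lit 4, nat_lit 5, nat_lit 2, nat_lit 3, nat_lit 5, nat_lit 0, nat_lit 3, nat_lit 4, nat_lit 2, nat_lit 0, nat_lit 4, nat_lit 0, nat_lit 2, nat_lit 0, nat_lit 2, nat_lit 2, nat_lit 0, nat_lit 2, nat_lit 0]))) (.node (nat_lit 1070) (.leaf ((nat_lit 491), [nat_lit 4, nat_lit 5, nat_lit 2, nat_lit 5, nat_lit 3, nat_lit 2, nat_lit 3, nat_lit 2, nat_lit 3, nat_lit 1, nat_lit 0, nat_lit 1, nat_lit 0])) (.node (nat_lit 1071) (.leaf ((nat_lit 871), [nat_lit 0, nat_lit 5, nat_lit 3, nat_lit 5, nat_lit 3, nat_lit 0, nat_lit 2, nat_lit 4, nat_lit 3, nat_lit 1, nat_lit 0, nat_lit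 2, nat_lit 2, nat_lit 0, nat_lit 2, nat_lit 2, nat_lit 0])) (.leaf ((nat_lit 530), [nat_lit 2, nat_lit 5, nat_lit 0, nat_lit 4, nat_lit 0, nat_lit 4, nat_lit 1, nat_lit 3, nat_lit 0, nat_lit 1, nat_lit 0, nat_lit 2])))))
 (.node (nat_lit 1075) (.node (nat_lit 1073) (.leaf ((nat_lit 872), [nat_lit 2, nat_lit 4, nat_lit 0, nat_lit 5, nat_lit 0, nat_lit 4, nat_lit 0, nat_lit 4, nat_lit 1, nat_lit 3, nat_lit 2, nat_lit 2, nat_lit 0, nat_lit 1, nat_lit 0])) (.node (nat_lit 1074) (.leaf ((nat_lit 873), [nat_lit 4, nat_lit 3, nat_lit 5, nat_lit 2, nat_lit 5, nat_lit 3, nat_lit 1, nat_lit 3, nat_lit 1, nat_lit 3, nat_lit 0, nat_lit 2, nat_lit 2, nat_lit 0, nat_lit 1])) (.leaf ((nat_lit 288), [nat_lit 2, nat_lit 5, nat_lit 1, nat_lit 5, nat_lit 4, nat_lit 1, nat_lit 3, nat_lit 0, nat_lit 2])))) (.node (nat_lit 1076) (.leaf ((nat_lit 874), [nat_lit 5, nat_lit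 2, nat_lit 2, nat_lit 0, nat_lit 5, nat_lit 2, nat_lit 3, nat_lit 2, nat_lit 2, nat_lit 3, nat_lit 0, nat_lit 1, nat_lit 0, nat_lit 2])) (.node (nat_lit 1077) (.leaf ((nat_lit 130), [nat_lit 4, nat_lit 5, nat_lit 2, nat_lit 3, nat_lit 5, nat_lit 4, nat_lit 1, nat_lit 4, nat_lit 1, nat_lit 0])) (.leaf ((nat_lit 43), [nat_lit 0, nat_lit 5, nat_lit 2, nat_lit 0, nat_lit 5, nat_lit 1, nat_lit 3, nat_lit 1, nat_lit 3, nat_lit 4, nat_lit 2, nat_lit 2, nat_lit 0, nat_lit 1])))))))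
 (.node (nat_lit 1089) (.node (nat_lit 1083) (.node (nat_lit 1080) (.node (nat_lit 1079) (.leaf ((nat_lit 588), [nat_lit 2, nat_lit 2, nat_lit 5, nat_lit 1, nat_lit 5, nat_lit 3, nat_lit 1, nat_lit 3, nat_lit 1, nat_lit 4, nat_lit 2, nat_lit 0, nat_lit 1, nat_lit 0, nat_lit 2, nat_lit 0])) (.leaf ((nat_lit 875), [nat_lit 5, nat_lit 2, nat_lit 3, nat_lit 5, nat_lit 4, nat_lit 0, nat_lit 2, nat_lit 4, nat_lit 2, nat_lit 0, nat_lit 2]))) (.node (nat_lit 1081) (.leaf ((nat_lit 876), [nat_lit 5, nat_lit 2, nat_lit 2, nat_lit 0, nat_lit 5, nat_lit 1, nat_lit 4, nat_lit 3, nat_lit 2, nat_lit 0, nat_lit 3, nat_lit 0, nat_lit 2, nat_lit 0, nat_lit 2])) (.node (nat_lit 1082) (.leaf ((nat_lit 877), [nat_lit 2, nat_lit 3, nat_lit 5, nat_lit 2, nat_lit 0, nat_lit 3, nat_lit 0, nat_lit 2, nat_lit 3, nat_lit 1, nat_lit 0, nat_lit 1, nat_lit 0])) (.leaf ((nat_lit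 431), [nat_lit 2, nat_lit 5, nat_lit 4, nat_lit 1, nat_lit 4, nat_lit 3, nat_lit 2, nat_lit 2, nat_lit 0, nat_lit 2, nat_lit 2, nat_lit 0, nat_lit 2, nat_lit 0])))))
 (.node (nat_lit 1086) (.node (nat_lit 1084) (.leaf ((nat_lit 878), [nat_lit 4, nat_lit 0, nat_lit 5, nat_lit 2, nat_lit 5, nat_lit 4, nat_lit 0, nat_lit 3, nat_lit 2, nat_lit 3, nat_lit 1, nat_lit 0, nat_lit 1])) (.node (nat_lit 1085) (.leaf ((nat_lit 879), [nat_lit 3, nat_lit 4, nat_lit 5, nat_lit 2, nat_lit 5, nat_lit 4, nat_lit 3, nat_lit 2, nat_lit 3, nat_lit 2, nat_lit 3, nat_lit 0, nat_lit 2, nat_lit 0, nat_lit 1, nat_lit 0, nat_lit 1, nat_lit 0])) (.leaf ((nat_lit 826), [nat_lit 5, nat_lit 4, nat_lit 2, nat_lit 0, nat_lit 5, nat_lit 1, nat_lit 4, nat_lit 3, nat_lit 1, nat_lit 0, nat_lit 4, nat_lit 1, nat_lit 0, nat_lit 2, nat_lit 2, nat_lit 0, nat_lit 2])))) (.node (nat_lit 1087)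 (.leaf ((nat_lit 880), [nat_lit 4, nat_lit 5, nat_lit 2, nat_lit 2, nat_lit 4, nat_lit 0, nat_lit 4, nat_lit 2, nat_lit 0, nat_lit 1, nat_lit 0, nat_lit 1, nat_lit 0, nat_lit 2])) (.node (nat_lit 1088) (.leaf ((nat_lit 881), [nat_lit 3, nat_lit 1, nat_lit 5, nat_lit 2, nat_lit 5, nat_lit 3, nat_lit 1, nat_lit 0, nat_lit 2, nat_lit 3, nat_lit 0, nat_lit 2, nat_lit 2, nat_lit 0, nat_lit 2, nat_lit 2, nat_lit 0])) (.leaf ((nat_lit 692), [nat_lit 2, nat_lit 0, nat_lit 5, nat_lit 4, nat_lit 0, nat_lit 1, nat_lit 0, nat_lit 3, nat_lit 0, nat_lit 2, nat_lit 0, nat_lit 2, nat_lit 2, nat_lit 0]))))))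
 (.node (nat_lit 1094) (.node (nat_lit 1091) (.node (nat_lit 1090) (.leaf ((nat_lit 882), [nat_lit 2, nat_lit 3, nat_lit 5, nat_lit 0, nat_lit 5, nat_lit 2, nat_lit 0, nat_lit 3, nat_lit 1, nat_lit 3, nat_lit 2, nat_lit 2, nat_lit 0, nat_lit 2, nat_lit 2, nat_lit 0, nat_lit 1])) (.leaf ((nat_lit 883), [nat_lit 2, nat_lit 0, nat_lit 5, nat_lit 3, nat_lit 1, nat_lit 3, nat_lit 1, nat_lit 3, nat_lit 2, nat_lit 0, nat_lit 2, nat_lit 0]))) (.node (nat_lit 1092) (.leaf ((nat_lit 155), [nat_lit 5, nat_lit 2, nat_lit 3, nat_lit 5, nat_lit 3, nat_lit 2, nat_lit 3, nat_lit 0, nat_lit 4, nat_lit 2, nat_lit 2, nat_lit 0, nat_lit 2, nat_lit 2, nat_lit 0])) (.node (nat_lit 1093) (.leaf ((nat_lit 884), [nat_lit 2, nat_lit 0, nat_lit 5, nat_lit 4, nat_lit 2, nat_lit 4, nat_lit 2, nat_lit 0, nat_lit 3, nat_lit 0, nat_lit 1, nat_lit 0, nat_lit 2, nat_lit 0, nat_lit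 2, nat_lit 0])) (.leaf ((nat_lit 82), [nat_lit 3, nat_lit 1, nat_lit 5, nat_lit 2, nat_lit 5, nat_lit 1, nat_lit 0, nat_lit 3, nat_lit 2, nat_lit 3, nat_lit 1, nat_lit 0, nat_lit 1, nat_lit 0, nat_lit 2, nat_lit 2, nat_lit 0])))))
 (.node (nat_lit 1097) (.node (nat_lit 1095) (.leaf ((nat_lit 885), [nat_lit 0, nat_lit 5, nat_lit 1, nat_lit 3, nat_lit 1, nat_lit 3, nat_lit 0, nat_lit 3, nat_lit 2, nat_lit 0, nat_lit 2, nat_lit 0, nat_lit 1])) (.node (nat_lit 1096) (.leaf ((nat_lit 358), [nat_lit 3, nat_lit 5, nat_lit 2, nat_lit 3, nat_lit 0, nat_lit 5, nat_lit 0, nat_lit 1, nat_lit 0, nat_lit 4, nat_lit 1, nat_lit 3, nat_lit 2, nat_lit 2, nat_lit 0, nat_lit 2, nat_lit 0, nat_lit 1])) (.leaf ((nat_lit 886), [nat_lit 1, nat_lit 5, nat_lit 1, nat_lit 5, nat_lit 1, nat_lit 4, nat_lit 1, nat_lit 0, nat_lit 3, nat_lit 0, nat_lit 2, nat_lit 2, nat_lit 0,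 nat_lit 2, nat_lit 0, nat_lit 1])))) (.node (nat_lit 1098) (.leaf ((nat_lit 887), [nat_lit 0, nat_lit 5, nat_lit 2, nat_lit 3, nat_lit 5, nat_lit 3, nat_lit 0, nat_lit 3, nat_lit 1, nat_lit 4, nat_lit 0, nat_lit 2, nat_lit 2, nat_lit 0, nat_lit 2, nat_lit 2, nat_lit 0])) (.node (nat_lit 1099) (.leaf ((nat_lit 888), [nat_lit 5, nat_lit 3, nat_lit 0, nat_lit 5, nat_lit 4, nat_lit 2, nat_lit 4, nat_lit 1, nat_lit 0, nat_lit 3, nat_lit 2, nat_lit 0, nat_lit 1, nat_lit 0, nat_lit 1, nat_lit 0])) (.leaf ((nat_lit 889), [nat_lit 0, nat_lit 2, nat_lit 4, nat_lit 0, nat_lit 5, nat_lit 3, nat_lit 1, nat_lit 0, nat_lit 2, nat_lit 3, nat_lit 2, nat_lit 0, nat_lit 1, nat_lit 0, nat_lit 2, nat_lit 0, nat_lit 2]))))))))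
 (.node (nat_lit 1122) (.node (nat_lit 1111) (.node (nat_lit 1105) (.node (nat_lit 1102) (.node (nat_lit 1101) (.leaf ((nat_lit 162), [nat_lit 1, nat_lit 4, nat_lit 5, nat_lit 1, nat_lit 5, nat_lit 3, nat_lit 2, nat_lit 0, nat_lit 3, nat_lit 0, nat_lit 2, nat_lit 0, nat_lit 1, nat_lit 0, nat_lit 1])) (.leaf ((nat_lit 173), [nat_lit 4, nat_lit 1, nat_lit 5, nat_lit 2, nat_lit 5, nat_lit 4, nat_lit 2, nat_lit 3, nat_lit 1, nat_lit 3, nat_lit 0, nat_lit 1, nat_lit 0, nat_lit 2, nat_lit 2, nat_lit 0, nat_lit 2, nat_lit 0]))) (.node (nat_lit 1103) (.leaf ((nat_lit 560), [nat_lit 1, nat_lit 3, nat_lit 2, nat_lit 5, nat_lit 2, nat_lit 3, nat_lit 1, nat_lit 0, nat_lit 2, nat_lit 3, nat_lit 1])) (.node (nat_lit 1104) (.leaf ((nat_lit 890), [nat_lit 5, nat_lit 2, nat_lit 3, nat_lit 5, nat_lit 0, nat_lit 1, nat_lit 0, nat_lit 4, nat_lit 1, nat_lit 3, nat_lit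 0, nat_lit 1, nat_lit 0, nat_lit 1, nat_lit 0, nat_lit 2])) (.leaf ((nat_lit 585), [nat_lit 5, nat_lit 1, nat_lit 3, nat_lit 2, nat_lit 5, nat_lit 4, nat_lit 0, nat_lit 1, nat_lit 0, nat_lit 3, nat_lit 1, nat_lit 0, nat_lit 2, nat_lit 2, nat_lit 0, nat_lit 2, nat_lit 0])))))
 (.node (nat_lit 1108) (.node (nat_lit 1106) (.leaf ((nat_lit 891), [nat_lit 2, nat_lit 0, nat_lit 5, nat_lit 1, nat_lit 4, nat_lit 0, nat_lit 3, nat_lit 2, nat_lit 3, nat_lit 2, nat_lit 0, nat_lit 1, nat_lit 0, nat_lit 2, nat_lit 2, nat_lit 0])) (.node (nat_lit 1107) (.leaf ((nat_lit 249), [nat_lit 5, nat_lit 4, nat_lit 5, nat_lit 4, nat_lit 3, nat_lit 2, nat_lit 0, nat_lit 2, nat_lit 2, nat_lit 0, nat_lit 1, nat_lit 0])) (.leaf ((nat_lit 461), [nat_lit 4, nat_lit 1, nat_lit 5, nat_lit 0, nat_lit 5, nat_lit 0, nat_lit 3, nat_lit 1, nat_lit 4, nat_lit 0, nat_lit 1, nat_lit 0,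 nat_lit 2, nat_lit 0, nat_lit 2, nat_lit 2])))) (.node (nat_lit 1109) (.leaf ((nat_lit 892), [nat_lit 3, nat_lit 2, nat_lit 3, nat_lit 5, nat_lit 4, nat_lit 2, nat_lit 2, nat_lit 4, nat_lit 1, nat_lit 0, nat_lit 3, nat_lit 0, nat_lit 2, nat_lit 0, nat_lit 2, nat_lit 0])) (.node (nat_lit 1110) (.leaf ((nat_lit 893), [nat_lit 5, nat_lit 4, nat_lit 0, nat_lit 5, nat_lit 0, nat_lit 4, nat_lit 2, nat_lit 3, nat_lit 4, nat_lit 0, nat_lit 1, nat_lit 0, nat_lit 2, nat_lit 0, nat_lit 2, nat_lit 0])) (.leaf ((nat_lit 894), [nat_lit 1, nat_lit 3, nat_lit 0, nat_lit 5, nat_lit 4, nat_lit 3, nat_lit 2, nat_lit 0, nat_lit 3, nat_lit 2, nat_lit 2, nat_lit 0, nat_lit 1]))))))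
 (.node (nat_lit 1116) (.node (nat_lit 1113) (.node (nat_lit 1112) (.leaf ((nat_lit 895), [nat_lit 3, nat_lit 5, nat_lit 2, nat_lit 3, nat_lit 0, nat_lit 5, nat_lit 1, nat_lit 0, nat_lit 1, nat_lit 0, nat_lit 3, nat_lit 0, nat_lit 1, nat_lit 0, nat_lit 1])) (.leaf ((nat_lit 896), [nat_lit 2, nat_lit 0, nat_lit 5, nat_lit 0, nat_lit 4, nat_lit 3, nat_lit 0, nat_lit 3, nat_lit 1, nat_lit 0, nat_lit 2, nat_lit 0, nat_lit 2, nat_lit 2]))) (.node (nat_lit 1114) (.leaf ((nat_lit 283), [nat_lit 4, nat_lit 3, nat_lit 5, nat_lit 2, nat_lit 5, nat_lit 1, nat_lit 0, nat_lit 2, nat_lit 0, nat_lit 2, nat_lit 4, nat_lit 2, nat_lit 0])) (.node (nat_lit 1115) (.leaf ((nat_lit 897), [nat_lit 5, nat_lit 3, nat_lit 2, nat_lit 0, nat_lit 5, nat_lit 2, nat_lit 0, nat_lit 3, nat_lit 0, nat_lit 2, nat_lit 3, nat_lit 1, nat_lit 0, nat_lit 2, nat_lit 0, nat_lit 1, nat_lit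 0])) (.leaf ((nat_lit 672), [nat_lit 1, nat_lit 5, nat_lit 2, nat_lit 5, nat_lit 1, nat_lit 4, nat_lit 3, nat_lit 1, nat_lit 0, nat_lit 4, nat_lit 2, nat_lit 0, nat_lit 2, nat_lit 0, nat_lit 1, nat_lit 0, nat_lit 1])))))
 (.node (nat_lit 1119) (.node (nat_lit 1117) (.leaf ((nat_lit 898), [nat_lit 3, nat_lit 4, nat_lit 5, nat_lit 2, nat_lit 5, nat_lit 1, nat_lit 4, nat_lit 3, nat_lit 0, nat_lit 3, nat_lit 0, nat_lit 2, nat_lit 0, nat_lit 2, nat_lit 2])) (.node (nat_lit 1118) (.leaf ((nat_lit 899), [nat_lit 2, nat_lit 0, nat_lit 5, nat_lit 0, nat_lit 2, nat_lit 4, nat_lit 3, nat_lit 2, nat_lit 3, nat_lit 2, nat_lit 0, nat_lit 1, nat_lit 0, nat_lit 1])) (.leaf ((nat_lit 836), [nat_lit 5, nat_lit 4, nat_lit 5, nat_lit 2, nat_lit 5, nat_lit 3, nat_lit 4, nat_lit 0, nat_lit 2, nat_lit 2, nat_lit 3, nat_lit 2, nat_lit 2, nat_lit 0, nat_lit 2, nat_lit 2,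 nat_lit 0, nat_lit 2, nat_lit 2])))) (.node (nat_lit 1120) (.leaf ((nat_lit 597), [nat_lit 3, nat_lit 1, nat_lit 5, nat_lit 2, nat_lit 5, nat_lit 4, nat_lit 1, nat_lit 4, nat_lit 1, nat_lit 4, nat_lit 1, nat_lit 0, nat_lit 2, nat_lit 2, nat_lit 0, nat_lit 2])) (.node (nat_lit 1121) (.leaf ((nat_lit 900), [nat_lit 0, nat_lit 2, nat_lit 4, nat_lit 0, nat_lit 5, nat_lit 2, nat_lit 4, nat_lit 0, nat_lit 4, nat_lit 3, nat_lit 0, nat_lit 1, nat_lit 0, nat_lit 2, nat_lit 0])) (.leaf ((nat_lit 846), [nat_lit 5, nat_lit 0, nat_lit 4, nat_lit 5, nat_lit 4, nat_lit 0, nat_lit 4, nat_lit 3, nat_lit 2, nat_lit 0, nat_lit 1, nat_lit 0, nat_lit 1, nat_lit 0, nat_lit 2, nat_lit 0])))))))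
 (.node (nat_lit 1133) (.node (nat_lit 1127) (.node (nat_lit 1124) (.node (nat_lit 1123) (.leaf ((nat_lit 771), [nat_lit 1, nat_lit 0, nat_lit 2, nat_lit 5, nat_lit 1, nat_lit 3, nat_lit 1, nat_lit 4, nat_lit 0, nat_lit 2, nat_lit 2, nat_lit 0, nat_lit 2])) (.leaf ((nat_lit 901), [nat_lit 0, nat_lit 5, nat_lit 3, nat_lit 5, nat_lit 2, nat_lit 2, nat_lit 3, nat_lit 4, nat_lit 3, nat_lit 2, nat_lit 2, nat_lit 0, nat_lit 2, nat_lit 2, nat_lit 0, nat_lit 2, nat_lit 0]))) (.node (nat_lit 1125) (.leaf ((nat_lit 902), [nat_lit 0, nat_lit 1, nat_lit 5, nat_lit 2, nat_lit 4, nat_lit 0, nat_lit 1, nat_lit 4, nat_lit 2, nat_lit 0, nat_lit 1])) (.node (nat_lit 1126) (.leaf ((nat_lit 903), [nat_lit 3, nat_lit 2, nat_lit 5, nat_lit 0, nat_lit 4, nat_lit 1, nat_lit 3, nat_lit 1, nat_lit 3, nat_lit 1, nat_lit 0, nat_lit 2, nat_lit 2, nat_lit 0, nat_lit 2])) (.leaf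 ((nat_lit 904), [nat_lit 5, nat_lit 4, nat_lit 2, nat_lit 5, nat_lit 1, nat_lit 0, nat_lit 2, nat_lit 0, nat_lit 2, nat_lit 4, nat_lit 1])))))
 (.node (nat_lit 1130) (.node (nat_lit 1128) (.leaf ((nat_lit 905), [nat_lit 2, nat_lit 3, nat_lit 5, nat_lit 0, nat_lit 5, nat_lit 2, nat_lit 2, nat_lit 3, nat_lit 2, nat_lit 2, nat_lit 3, nat_lit 0, nat_lit 2, nat_lit 0, nat_lit 2, nat_lit 0])) (.node (nat_lit 1129) (.leaf ((nat_lit 299), [nat_lit 2, nat_lit 2, nat_lit 5, nat_lit 1, nat_lit 3, nat_lit 1, nat_lit 3, nat_lit 0, nat_lit 3, nat_lit 2, nat_lit 2, nat_lit 0, nat_lit 1, nat_lit 0, nat_lit 2, nat_lit 2, nat_lit 0])) (.leaf ((nat_lit 103), [nat_lit 4, nat_lit 5, nat_lit 3, nat_lit 5, nat_lit 4, nat_lit 0, nat_lit 4, nat_lit 2, nat_lit 0, nat_lit 3, nat_lit 1, nat_lit 0, nat_lit 2, nat_lit 2, nat_lit 0, nat_lit 1, nat_lit 0])))) (.node (nat_lit 1131)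 (.leaf ((nat_lit 906), [nat_lit 2, nat_lit 5, nat_lit 2, nat_lit 3, nat_lit 5, nat_lit 4, nat_lit 0, nat_lit 1, nat_lit 0, nat_lit 3, nat_lit 0, nat_lit 1, nat_lit 0, nat_lit 1, nat_lit 0, nat_lit 2])) (.node (nat_lit 1132) (.leaf ((nat_lit 735), [nat_lit 3, nat_lit 2, nat_lit 3, nat_lit 5, nat_lit 2, nat_lit 3, nat_lit 4, nat_lit 1, nat_lit 0, nat_lit 3, nat_lit 1, nat_lit 0, nat_lit 2, nat_lit 2, nat_lit 0, nat_lit 2, nat_lit 2])) (.leaf ((nat_lit 907), [nat_lit 3, nat_lit 1, nat_lit 0, nat_lit 4, nat_lit 1, nat_lit 3, nat_lit 0, nat_lit 1, nat_lit 0, nat_lit 2, nat_lit 0]))))))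
 (.node (nat_lit 1138) (.node (nat_lit 1135) (.node (nat_lit 1134) (.leaf ((nat_lit 213), [nat_lit 3, nat_lit 2, nat_lit 4, nat_lit 0, nat_lit 1, nat_lit 0, nat_lit 2, nat_lit 2])) (.leaf ((nat_lit 908), [nat_lit 1, nat_lit 5, nat_lit 3, nat_lit 5, nat_lit 4, nat_lit 3, nat_lit 1, nat_lit 3, nat_lit 0, nat_lit 3, nat_lit 0, nat_lit 1, nat_lit 0, nat_lit 2]))) (.node (nat_lit 1136) (.leaf ((nat_lit 909), [nat_lit 0, nat_lit 5, nat_lit 0, nat_lit 1, nat_lit 5, nat_lit 0, nat_lit 1, nat_lit 3, nat_lit 4, nat_lit 2, nat_lit 3, nat_lit 2, nat_lit 0, nat_lit 1, nat_lit 0, nat_lit 2, nat_lit 2])) (.node (nat_lit 1137) (.leaf ((nat_lit 910), [nat_lit 4, nat_lit 5, nat_lit 3, nat_lit 5, nat_lit 1, nat_lit 4, nat_lit 0, nat_lit 4, nat_lit 2, nat_lit 0, nat_lit 3, nat_lit 2, nat_lit 0, nat_lit 1, nat_lit 0, nat_lit 2])) (.leaf ((nat_lit 839), [nat_lit 2, nat_lit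 5, nat_lit 4, nat_lit 0, nat_lit 3, nat_lit 1, nat_lit 3, nat_lit 2, nat_lit 2, nat_lit 0, nat_lit 1, nat_lit 0, nat_lit 2, nat_lit 2])))))
 (.node (nat_lit 1141) (.node (nat_lit 1139) (.leaf ((nat_lit 370), [nat_lit 4, nat_lit 5, nat_lit 0, nat_lit 3, nat_lit 4, nat_lit 3, nat_lit 1, nat_lit 0, nat_lit 2, nat_lit 0])) (.node (nat_lit 1140) (.leaf ((nat_lit 911), [nat_lit 3, nat_lit 5, nat_lit 0, nat_lit 5, nat_lit 4, nat_lit 1, nat_lit 3, nat_lit 0, nat_lit 1, nat_lit 0, nat_lit 1, nat_lit 0, nat_lit 2])) (.leaf ((nat_lit 912), [nat_lit 0, nat_lit 2, nat_lit 4, nat_lit 0, nat_lit 5, nat_lit 4, nat_lit 0, nat_lit 4, nat_lit 2, nat_lit 0, nat_lit 3, nat_lit 0, nat_lit 2, nat_lit 0, nat_lit 2])))) (.node (nat_lit 1142) (.leaf ((nat_lit 436), [nat_lit 2, nat_lit 4, nat_lit 5, nat_lit 2, nat_lit 0, nat_lit 5, nat_lit 4, nat_lit 3, nat_lit 2, nat_lit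 4, nat_lit 2, nat_lit 3, nat_lit 0])) (.node (nat_lit 1143) (.leaf ((nat_lit 913), [nat_lit 5, nat_lit 3, nat_lit 0, nat_lit 5, nat_lit 0, nat_lit 1, nat_lit 0, nat_lit 4, nat_lit 0, nat_lit 2, nat_lit 2, nat_lit 0, nat_lit 1])) (.leaf ((nat_lit 914), [nat_lit 3, nat_lit 4, nat_lit 5, nat_lit 2, nat_lit 5, nat_lit 3, nat_lit 1, nat_lit 3, nat_lit 1, nat_lit 4, nat_lit 2, nat_lit 0, nat_lit 1, nat_lit 0, nat_lit 2, nat_lit 0])))))))))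
 (.node (nat_lit 1188) (.node (nat_lit 1166) (.node (nat_lit 1155) (.node (nat_lit 1149) (.node (nat_lit 1146) (.node (nat_lit 1145) (.leaf ((nat_lit 411), [nat_lit 4, nat_lit 5, nat_lit 2, nat_lit 3, nat_lit 5, nat_lit 1, nat_lit 4, nat_lit 0, nat_lit 4, nat_lit 2, nat_lit 0, nat_lit 3, nat_lit 0, nat_lit 2, nat_lit 2, nat_lit 0, nat_lit 2, nat_lit 2, nat_lit 0])) (.leaf ((nat_lit 752), [nat_lit 4, nat_lit 5, nat_lit 4, nat_lit 0, nat_lit 5, nat_lit 2, nat_lit 3, nat_lit 2, nat_lit 2, nat_lit 3, nat_lit 2, nat_lit 0, nat_lit 1, nat_lit 0, nat_lit 2, nat_lit 2, nat_lit 0]))) (.node (nat_lit 1147) (.leaf ((nat_lit 797), [nat_lit 4, nat_lit 2, nat_lit 0, nat_lit 5, nat_lit 4, nat_lit 1, nat_lit 3, nat_lit 1, nat_lit 3, nat_lit 2, nat_lit 0, nat_lit 1, nat_lit 0, nat_lit 1])) (.node (nat_lit 1148) (.leaf ((nat_lit 915), [nat_lit 5, nat_lit 2, nat_lit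 3, nat_lit 5, nat_lit 2, nat_lit 4, nat_lit 3, nat_lit 0, nat_lit 4, nat_lit 0, nat_lit 2, nat_lit 2])) (.leaf ((nat_lit 916), [nat_lit 4, nat_lit 0, nat_lit 5, nat_lit 2, nat_lit 5, nat_lit 1, nat_lit 3, nat_lit 1, nat_lit 3, nat_lit 0, nat_lit 3, nat_lit 2, nat_lit 0, nat_lit 1, nat_lit 0, nat_lit 2])))))
 (.node (nat_lit 1152) (.node (nat_lit 1150) (.leaf ((nat_lit 917), [nat_lit 1, nat_lit 0, nat_lit 5, nat_lit 3, nat_lit 4, nat_lit 1, nat_lit 0, nat_lit 4, nat_lit 2, nat_lit 2, nat_lit 0])) (.node (nat_lit 1151) (.leaf ((nat_lit 918), [nat_lit 5, nat_lit 4, nat_lit 2, nat_lit 0, nat_lit 5, nat_lit 3, nat_lit 0, nat_lit 1, nat_lit 0, nat_lit 2, nat_lit 2, nat_lit 0, nat_lit 2, nat_lit 0])) (.leaf ((nat_lit 421), [nat_lit 4, nat_lit 5, nat_lit 3, nat_lit 0, nat_lit 5, nat_lit 3, nat_lit 0, nat_lit 2, nat_lit 4, nat_lit 2, nat_lit 2, nat_lit 0,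 nat_lit 2, nat_lit 2, nat_lit 0, nat_lit 1])))) (.node (nat_lit 1153) (.leaf ((nat_lit 919), [nat_lit 4, nat_lit 1, nat_lit 5, nat_lit 0, nat_lit 5, nat_lit 4, nat_lit 3, nat_lit 1, nat_lit 3, nat_lit 1, nat_lit 0, nat_lit 2, nat_lit 0, nat_lit 1, nat_lit 0])) (.node (nat_lit 1154) (.leaf ((nat_lit 801), [nat_lit 2, nat_lit 4, nat_lit 0, nat_lit 5, nat_lit 3, nat_lit 1, nat_lit 4, nat_lit 3, nat_lit 0, nat_lit 1, nat_lit 0, nat_lit 2, nat_lit 2, nat_lit 0, nat_lit 1, nat_lit 0])) (.leaf ((nat_lit 920), [nat_lit 5, nat_lit 3, nat_lit 5, nat_lit 4, nat_lit 0, nat_lit 2]))))))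
 (.node (nat_lit 1160) (.node (nat_lit 1157) (.node (nat_lit 1156) (.leaf ((nat_lit 248), [nat_lit 4, nat_lit 1, nat_lit 5, nat_lit 0, nat_lit 5, nat_lit 4, nat_lit 2, nat_lit 3, nat_lit 0, nat_lit 4, nat_lit 2, nat_lit 0, nat_lit 2, nat_lit 2, nat_lit 0, nat_lit 2, nat_lit 2])) (.leaf ((nat_lit 921), [nat_lit 1, nat_lit 3, nat_lit 0, nat_lit 5, nat_lit 0, nat_lit 3, nat_lit 2, nat_lit 3, nat_lit 2, nat_lit 3, nat_lit 2, nat_lit 0, nat_lit 1, nat_lit 0, nat_lit 1, nat_lit 0]))) (.node (nat_lit 1158) (.leaf ((nat_lit 922), [nat_lit 2, nat_lit 3, nat_lit 0, nat_lit 5, nat_lit 3, nat_lit 4, nat_lit 1, nat_lit 0, nat_lit 3, nat_lit 2, nat_lit 0, nat_lit 2, nat_lit 0, nat_lit 1, nat_lit 0, nat_lit 1, nat_lit 0])) (.node (nat_lit 1159) (.leaf ((nat_lit 893), [nat_lit 1, nat_lit 3, nat_lit 0, nat_lit 5, nat_lit 2, nat_lit 3, nat_lit 4, nat_lit 1, nat_lit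 0, nat_lit 3, nat_lit 1, nat_lit 0, nat_lit 2, nat_lit 0, nat_lit 2, nat_lit 2])) (.leaf ((nat_lit 923), [nat_lit 4, nat_lit 1, nat_lit 5, nat_lit 3, nat_lit 5, nat_lit 4, nat_lit 2, nat_lit 3, nat_lit 4, nat_lit 3, nat_lit 2, nat_lit 2, nat_lit 0, nat_lit 2, nat_lit 0])))))
 (.node (nat_lit 1163) (.node (nat_lit 1161) (.leaf ((nat_lit 378), [nat_lit 2, nat_lit 4, nat_lit 0, nat_lit 5, nat_lit 0, nat_lit 2, nat_lit 4, nat_lit 3, nat_lit 2, nat_lit 3, nat_lit 2, nat_lit 0, nat_lit 2, nat_lit 2])) (.node (nat_lit 1162) (.leaf ((nat_lit 924), [nat_lit 2, nat_lit 2, nat_lit 0, nat_lit 5, nat_lit 0, nat_lit 2, nat_lit 0, nat_lit 3, nat_lit 4, nat_lit 2, nat_lit 2, nat_lit 0, nat_lit 1])) (.leaf ((nat_lit 925), [nat_lit 4, nat_lit 1, nat_lit 5, nat_lit 0, nat_lit 5, nat_lit 2, nat_lit 0, nat_lit 3, nat_lit 0, nat_lit 4, nat_lit 0, nat_lit 1, nat_lit 0,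 nat_lit 1, nat_lit 0])))) (.node (nat_lit 1164) (.leaf ((nat_lit 926), [nat_lit 4, nat_lit 5, nat_lit 2, nat_lit 0, nat_lit 5, nat_lit 2, nat_lit 0, nat_lit 3, nat_lit 1, nat_lit 4, nat_lit 0, nat_lit 2, nat_lit 0, nat_lit 2, nat_lit 2, nat_lit 0, nat_lit 1])) (.node (nat_lit 1165) (.leaf ((nat_lit 927), [nat_lit 5, nat_lit 4, nat_lit 1, nat_lit 0, nat_lit 2, nat_lit 3, nat_lit 0, nat_lit 2, nat_lit 2, nat_lit 0, nat_lit 2, nat_lit 0, nat_lit 1, nat_lit 0])) (.leaf ((nat_lit 186), [nat_lit 4, nat_lit 0, nat_lit 5, nat_lit 2, nat_lit 5, nat_lit 3, nat_lit 0, nat_lit 1, nat_lit 0, nat_lit 4, nat_lit 0, nat_lit 2, nat_lit 2, nat_lit 0, nat_lit 2])))))))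
 (.node (nat_lit 1177) (.node (nat_lit 1171) (.node (nat_lit 1168) (.node (nat_lit 1167) (.leaf ((nat_lit 928), [nat_lit 3, nat_lit 2, nat_lit 3, nat_lit 5, nat_lit 0, nat_lit 2, nat_lit 0, nat_lit 3, nat_lit 4, nat_lit 2, nat_lit 0, nat_lit 1, nat_lit 0, nat_lit 2, nat_lit 0, nat_lit 2])) (.leaf ((nat_lit 885), [nat_lit 4, nat_lit 3, nat_lit 5, nat_lit 4, nat_lit 1, nat_lit 4, nat_lit 3, nat_lit 0, nat_lit 1, nat_lit 0, nat_lit 2, nat_lit 2, nat_lit 0, nat_lit 1]))) (.node (nat_lit 1169) (.leaf ((nat_lit 929), [nat_lit 3, nat_lit 4, nat_lit 5, nat_lit 2, nat_lit 2, nat_lit 4, nat_lit 2, nat_lit 4, nat_lit 0, nat_lit 1, nat_lit 0])) (.node (nat_lit 1170) (.leaf ((nat_lit 930), [nat_lit 5, nat_lit 1, nat_lit 5, nat_lit 0, nat_lit 5, nat_lit 4, nat_lit 3, nat_lit 1, nat_lit 4, nat_lit 3, nat_lit 0, nat_lit 1, nat_lit 0, nat_lit 1])) (.leaf ((nat_lit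 647), [nat_lit 1, nat_lit 5, nat_lit 3, nat_lit 5, nat_lit 3, nat_lit 1, nat_lit 3, nat_lit 1])))))
 (.node (nat_lit 1174) (.node (nat_lit 1172) (.leaf ((nat_lit 931), [nat_lit 4, nat_lit 5, nat_lit 4, nat_lit 0, nat_lit 5, nat_lit 4, nat_lit 1, nat_lit 0, nat_lit 3, nat_lit 1, nat_lit 0, nat_lit 2, nat_lit 0, nat_lit 2, nat_lit 0])) (.node (nat_lit 1173) (.leaf ((nat_lit 932), [nat_lit 3, nat_lit 5, nat_lit 1, nat_lit 0, nat_lit 4, nat_lit 3, nat_lit 0, nat_lit 3, nat_lit 2, nat_lit 2, nat_lit 0, nat_lit 2, nat_lit 2, nat_lit 0, nat_lit 2])) (.leaf ((nat_lit 933), [nat_lit 2, nat_lit 5, nat_lit 2, nat_lit 3, nat_lit 5, nat_lit 4, nat_lit 1, nat_lit 0, nat_lit 4, nat_lit 3, nat_lit 2, nat_lit 2, nat_lit 0, nat_lit 1])))) (.node (nat_lit 1175) (.leaf ((nat_lit 934), [nat_lit 5, nat_lit 0, nat_lit 5, nat_lit 2, nat_lit 3, nat_lit 4, nat_lit 2, nat_lit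 3, nat_lit 2, nat_lit 0, nat_lit 1, nat_lit 0, nat_lit 1, nat_lit 0, nat_lit 2])) (.node (nat_lit 1176) (.leaf ((nat_lit 935), [nat_lit 5, nat_lit 4, nat_lit 5, nat_lit 3, nat_lit 5, nat_lit 1, nat_lit 4, nat_lit 2, nat_lit 3, nat_lit 1, nat_lit 3, nat_lit 0, nat_lit 2, nat_lit 0])) (.leaf ((nat_lit 936), [nat_lit 1, nat_lit 4, nat_lit 5, nat_lit 1, nat_lit 5, nat_lit 2, nat_lit 4, nat_lit 3, nat_lit 0, nat_lit 3, nat_lit 2, nat_lit 0, nat_lit 2, nat_lit 2]))))))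
 (.node (nat_lit 1182) (.node (nat_lit 1179) (.node (nat_lit 1178) (.leaf ((nat_lit 937), [nat_lit 5, nat_lit 1, nat_lit 0, nat_lit 3, nat_lit 5, nat_lit 2, nat_lit 4, nat_lit 2, nat_lit 0, nat_lit 3, nat_lit 1, nat_lit 0, nat_lit 1, nat_lit 0])) (.leaf ((nat_lit 938), [nat_lit 4, nat_lit 3, nat_lit 5, nat_lit 0, nat_lit 5, nat_lit 0, nat_lit 4, nat_lit 1, nat_lit 3, nat_lit 1, nat_lit 3, nat_lit 0, nat_lit 2, nat_lit 0, nat_lit 2, nat_lit 2, nat_lit 0, nat_lit 2]))) (.node (nat_lit 1180) (.leaf ((nat_lit 508), [nat_lit 1, nat_lit 0, nat_lit 5, nat_lit 3, nat_lit 5, nat_lit 0, nat_lit 2, nat_lit 3, nat_lit 4, nat_lit 1, nat_lit 3, nat_lit 2, nat_lit 2, nat_lit 0, nat_lit 2, nat_lit 2, nat_lit 0, nat_lit 2])) (.node (nat_lit 1181) (.leaf ((nat_lit 106), [nat_lit 5, nat_lit 0, nat_lit 1, nat_lit 5, nat_lit 1, nat_lit 4, nat_lit 2, nat_lit 4, nat_lit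 2, nat_lit 0, nat_lit 1])) (.leaf ((nat_lit 939), [nat_lit 2, nat_lit 5, nat_lit 1, nat_lit 5, nat_lit 3, nat_lit 2, nat_lit 3, nat_lit 2, nat_lit 2, nat_lit 3, nat_lit 1, nat_lit 0])))))
 (.node (nat_lit 1185) (.node (nat_lit 1183) (.leaf ((nat_lit 179), [nat_lit 5, nat_lit 4, nat_lit 1, nat_lit 0, nat_lit 5, nat_lit 0, nat_lit 3, nat_lit 0, nat_lit 1, nat_lit 4, nat_lit 2, nat_lit 0, nat_lit 2, nat_lit 2])) (.node (nat_lit 1184) (.leaf ((nat_lit 489), [nat_lit 0, nat_lit 5, nat_lit 3, nat_lit 0, nat_lit 5, nat_lit 4, nat_lit 2, nat_lit 0, nat_lit 1])) (.leaf ((nat_lit 209), [nat_lit 0, nat_lit 2, nat_lit 4, nat_lit 0, nat_lit 5, nat_lit 1, nat_lit 3, nat_lit 4, nat_lit 1, nat_lit 0, nat_lit 3, nat_lit 2, nat_lit 0, nat_lit 2, nat_lit 0, nat_lit 1])))) (.node (nat_lit 1186) (.leaf ((nat_lit 292), [nat_lit 1, nat_lit 0, nat_lit 5, nat_lit 3, nat_lit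 4, nat_lit 1, nat_lit 3, nat_lit 2, nat_lit 0, nat_lit 2, nat_lit 2, nat_lit 0, nat_lit 2])) (.node (nat_lit 1187) (.leaf ((nat_lit 940), [nat_lit 5, nat_lit 4, nat_lit 3, nat_lit 0, nat_lit 5, nat_lit 2, nat_lit 2, nat_lit 0, nat_lit 3, nat_lit 2, nat_lit 0, nat_lit 1, nat_lit 0, nat_lit 2])) (.leaf ((nat_lit 941), [nat_lit 5, nat_lit 4, nat_lit 5, nat_lit 3, nat_lit 5, nat_lit 4, nat_lit 3, nat_lit 1, nat_lit 4, nat_lit 1, nat_lit 0, nat_lit 1, nat_lit 0, nat_lit 2, nat_lit 0, nat_lit 2]))))))))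
 (.node (nat_lit 1210) (.node (nat_lit 1199) (.node (nat_lit 1193) (.node (nat_lit 1190) (.node (nat_lit 1189) (.leaf ((nat_lit 942), [nat_lit 5, nat_lit 3, nat_lit 0, nat_lit 5, nat_lit 0, nat_lit 2, nat_lit 3, nat_lit 1, nat_lit 3, nat_lit 2, nat_lit 0, nat_lit 1, nat_lit 0, nat_lit 1])) (.leaf ((nat_lit 943), [nat_lit 3, nat_lit 4, nat_lit 5, nat_lit 2, nat_lit 5, nat_lit 1, nat_lit 0, nat_lit 1, nat_lit 0, nat_lit 3, nat_lit 2, nat_lit 2, nat_lit 0, nat_lit 2, nat_lit 2, nat_lit 0, nat_lit 2, nat_lit 2]))) (.node (nat_lit 1191) (.leaf ((nat_lit 944), [nat_lit 0, nat_lit 5, nat_lit 3, nat_lit 5, nat_lit 3, nat_lit 4, nat_lit 3, nat_lit 2, nat_lit 3, nat_lit 2, nat_lit 0, nat_lit 1, nat_lit 0, nat_lit 1])) (.node (nat_lit 1192) (.leaf ((nat_lit 828), [nat_lit 3, nat_lit 0, nat_lit 5, nat_lit 3, nat_lit 5, nat_lit 4, nat_lit 0, nat_lit 3, nat_lit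 1, nat_lit 3, nat_lit 1, nat_lit 0, nat_lit 1, nat_lit 0, nat_lit 2])) (.leaf ((nat_lit 758), [nat_lit 1, nat_lit 0, nat_lit 3, nat_lit 5, nat_lit 1, nat_lit 4, nat_lit 3, nat_lit 1, nat_lit 0, nat_lit 2, nat_lit 2, nat_lit 0])))))
 (.node (nat_lit 1196) (.node (nat_lit 1194) (.leaf ((nat_lit 683), [nat_lit 3, nat_lit 0, nat_lit 5, nat_lit 2, nat_lit 4, nat_lit 1, nat_lit 4, nat_lit 1, nat_lit 3, nat_lit 2, nat_lit 0, nat_lit 1, nat_lit 0, nat_lit 2, nat_lit 0, nat_lit 2, nat_lit 0])) (.node (nat_lit 1195) (.leaf ((nat_lit 945), [nat_lit 5, nat_lit 4, nat_lit 3, nat_lit 2, nat_lit 5, nat_lit 1, nat_lit 0, nat_lit 4, nat_lit 1, nat_lit 0, nat_lit 1, nat_lit 0, nat_lit 2, nat_lit 2, nat_lit 0])) (.leaf ((nat_lit 244), [nat_lit 3, nat_lit 5, nat_lit 0, nat_lit 2, nat_lit 0, nat_lit 2, nat_lit 4, nat_lit 2, nat_lit 2, nat_lit 0, nat_lit 1, nat_lit 0,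 nat_lit 2])))) (.node (nat_lit 1197) (.leaf ((nat_lit 715), [nat_lit 4, nat_lit 5, nat_lit 2, nat_lit 5, nat_lit 3, nat_lit 2, nat_lit 3, nat_lit 2, nat_lit 4, nat_lit 1, nat_lit 0, nat_lit 1, nat_lit 0, nat_lit 2, nat_lit 0, nat_lit 2, nat_lit 0])) (.node (nat_lit 1198) (.leaf ((nat_lit 946), [nat_lit 0, nat_lit 5, nat_lit 3, nat_lit 5, nat_lit 2, nat_lit 2, nat_lit 4, nat_lit 0, nat_lit 4, nat_lit 1, nat_lit 0, nat_lit 2, nat_lit 0, nat_lit 1])) (.leaf ((nat_lit 509), [nat_lit 4, nat_lit 5, nat_lit 3, nat_lit 0, nat_lit 5, nat_lit 3, nat_lit 4, nat_lit 3, nat_lit 2, nat_lit 2, nat_lit 0, nat_lit 1, nat_lit 0]))))))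
 (.node (nat_lit 1204) (.node (nat_lit 1201) (.node (nat_lit 1200) (.leaf ((nat_lit 947), [nat_lit 0, nat_lit 4, nat_lit 5, nat_lit 4, nat_lit 1, nat_lit 3, nat_lit 4, nat_lit 2, nat_lit 3, nat_lit 0, nat_lit 2, nat_lit 0, nat_lit 2, nat_lit 2])) (.leaf ((nat_lit 185), [nat_lit 4, nat_lit 5, nat_lit 2, nat_lit 3, nat_lit 5, nat_lit 3, nat_lit 2, nat_lit 0, nat_lit 2, nat_lit 3, nat_lit 2, nat_lit 0, nat_lit 1]))) (.node (nat_lit 1202) (.leaf ((nat_lit 948), [nat_lit 4, nat_lit 2, nat_lit 5, nat_lit 1, nat_lit 5, nat_lit 0, nat_lit 3, nat_lit 2, nat_lit 3, nat_lit 2, nat_lit 0, nat_lit 2, nat_lit 0, nat_lit 1])) (.node (nat_lit 1203) (.leaf ((nat_lit 949), [nat_lit 4, nat_lit 1, nat_lit 5, nat_lit 2, nat_lit 5, nat_lit 3, nat_lit 2, nat_lit 0, nat_lit 4, nat_lit 3, nat_lit 1, nat_lit 0, nat_lit 1, nat_lit 0, nat_lit 2, nat_lit 0, nat_lit 2, nat_lit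 0])) (.leaf ((nat_lit 379), [nat_lit 3, nat_lit 2, nat_lit 5, nat_lit 4, nat_lit 0, nat_lit 1, nat_lit 0, nat_lit 3, nat_lit 2, nat_lit 0, nat_lit 2, nat_lit 0, nat_lit 1, nat_lit 0, nat_lit 1, nat_lit 0])))))
 (.node (nat_lit 1207) (.node (nat_lit 1205) (.leaf ((nat_lit 386), [nat_lit 5, nat_lit 1, nat_lit 3, nat_lit 0, nat_lit 5, nat_lit 4, nat_lit 1, nat_lit 3, nat_lit 1, nat_lit 3, nat_lit 1, nat_lit 0, nat_lit 2, nat_lit 2])) (.node (nat_lit 1206) (.leaf ((nat_lit 950), [nat_lit 3, nat_lit 5, nat_lit 3, nat_lit 0, nat_lit 5, nat_lit 1, nat_lit 3, nat_lit 0, nat_lit 3, nat_lit 1, nat_lit 0, nat_lit 2, nat_lit 0, nat_lit 2, nat_lit 2, nat_lit 0])) (.leaf ((nat_lit 951), [nat_lit 4, nat_lit 3, nat_lit 0, nat_lit 5, nat_lit 0, nat_lit 3, nat_lit 4, nat_lit 2, nat_lit 0, nat_lit 4, nat_lit 1, nat_lit 0, nat_lit 1, nat_lit 0, nat_lit 2])))) (.node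 (nat_lit 1208) (.leaf ((nat_lit 369), [nat_lit 4, nat_lit 5, nat_lit 2, nat_lit 3, nat_lit 1, nat_lit 3, nat_lit 0, nat_lit 3, nat_lit 2, nat_lit 0, nat_lit 2, nat_lit 2, nat_lit 0, nat_lit 1, nat_lit 0])) (.node (nat_lit 1209) (.leaf ((nat_lit 952), [nat_lit 5, nat_lit 4, nat_lit 5, nat_lit 1, nat_lit 5, nat_lit 1, nat_lit 4, nat_lit 3, nat_lit 1, nat_lit 3, nat_lit 2, nat_lit 0, nat_lit 2, nat_lit 0])) (.leaf ((nat_lit 779), [nat_lit 3, nat_lit 0, nat_lit 5, nat_lit 3, nat_lit 5, nat_lit 4, nat_lit 3, nat_lit 0, nat_lit 1, nat_lit 0, nat_lit 3, nat_lit 2])))))))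
 (.node (nat_lit 1221) (.node (nat_lit 1215) (.node (nat_lit 1212) (.node (nat_lit 1211) (.leaf ((nat_lit 26), [nat_lit 5, nat_lit 2, nat_lit 2, nat_lit 0, nat_lit 5, nat_lit 0, nat_lit 2, nat_lit 4, nat_lit 2, nat_lit 4, nat_lit 2, nat_lit 0, nat_lit 2, nat_lit 2])) (.leaf ((nat_lit 953), [nat_lit 3, nat_lit 5, nat_lit 2, nat_lit 5, nat_lit 1, nat_lit 4, nat_lit 0, nat_lit 1, nat_lit 0, nat_lit 3, nat_lit 1, nat_lit 0, nat_lit 2, nat_lit 2, nat_lit 0, nat_lit 2]))) (.node (nat_lit 1213) (.leaf ((nat_lit 954), [nat_lit 0, nat_lit 5, nat_lit 2, nat_lit 5, nat_lit 1, nat_lit 4, nat_lit 1, nat_lit 0, nat_lit 2, nat_lit 0, nat_lit 2])) (.node (nat_lit 1214) (.leaf ((nat_lit 955), [nat_lit 3, nat_lit 0, nat_lit 5, nat_lit 3, nat_lit 5, nat_lit 2, nat_lit 3, nat_lit 0, nat_lit 3, nat_lit 2, nat_lit 2, nat_lit 0, nat_lit 2, nat_lit 2, nat_lit 0, nat_lit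 2, nat_lit 0])) (.leaf ((nat_lit 102), [nat_lit 0, nat_lit 5, nat_lit 0, nat_lit 1, nat_lit 5, nat_lit 1, nat_lit 0, nat_lit 1, nat_lit 0, nat_lit 3, nat_lit 2, nat_lit 0, nat_lit 1, nat_lit 0, nat_lit 1, nat_lit 0])))))
 (.node (nat_lit 1218) (.node (nat_lit 1216) (.leaf ((nat_lit 956), [nat_lit 5, nat_lit 1, nat_lit 3, nat_lit 2, nat_lit 5, nat_lit 4, nat_lit 3, nat_lit 2, nat_lit 4, nat_lit 2, nat_lit 3, nat_lit 0, nat_lit 1, nat_lit 0, nat_lit 2, nat_lit 0, nat_lit 2, nat_lit 0])) (.node (nat_lit 1217) (.leaf ((nat_lit 957), [nat_lit 4, nat_lit 5, nat_lit 3, nat_lit 2, nat_lit 5, nat_lit 1, nat_lit 3, nat_lit 4, nat_lit 1, nat_lit 0, nat_lit 3, nat_lit 1, nat_lit 0, nat_lit 2, nat_lit 0, nat_lit 2, nat_lit 2])) (.leaf ((nat_lit 654), [nat_lit 5, nat_lit 4, nat_lit 3, nat_lit 5, nat_lit 2, nat_lit 5, nat_lit 3, nat_lit 0, nat_lit 4, nat_lit 3,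 nat_lit 2, nat_lit 3, nat_lit 2, nat_lit 2, nat_lit 0, nat_lit 2, nat_lit 2])))) (.node (nat_lit 1219) (.leaf ((nat_lit 958), [nat_lit 4, nat_lit 3, nat_lit 5, nat_lit 0, nat_lit 5, nat_lit 3, nat_lit 2, nat_lit 0, nat_lit 2, nat_lit 4, nat_lit 3, nat_lit 0, nat_lit 1, nat_lit 0, nat_lit 2, nat_lit 0, nat_lit 2, nat_lit 0])) (.node (nat_lit 1220) (.leaf ((nat_lit 959), [nat_lit 4, nat_lit 3, nat_lit 2, nat_lit 5, nat_lit 0, nat_lit 3, nat_lit 0, nat_lit 2, nat_lit 4, nat_lit 2, nat_lit 0, nat_lit 2, nat_lit 2, nat_lit 0, nat_lit 1])) (.leaf ((nat_lit 960), [nat_lit 0, nat_lit 1, nat_lit 5, nat_lit 0, nat_lit 3, nat_lit 2, nat_lit 3, nat_lit 2, nat_lit 0, nat_lit 2, nat_lit 0]))))))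
 (.node (nat_lit 1226) (.node (nat_lit 1223) (.node (nat_lit 1222) (.leaf ((nat_lit 365), [nat_lit 0, nat_lit 5, nat_lit 4, nat_lit 2, nat_lit 4, nat_lit 0, nat_lit 1, nat_lit 0, nat_lit 3, nat_lit 0, nat_lit 1, nat_lit 0, nat_lit 2])) (.leaf ((nat_lit 937), [nat_lit 3, nat_lit 1, nat_lit 4, nat_lit 1, nat_lit 3, nat_lit 0, nat_lit 2, nat_lit 0, nat_lit 2, nat_lit 2, nat_lit 0, nat_lit 2, nat_lit 0]))) (.node (nat_lit 1224) (.leaf ((nat_lit 961), [nat_lit 5, nat_lit 2, nat_lit 3, nat_lit 0, nat_lit 5, nat_lit 2, nat_lit 4, nat_lit 0, nat_lit 4, nat_lit 2, nat_lit 0, nat_lit 2])) (.node (nat_lit 1225) (.leaf ((nat_lit 230), [nat_lit 4, nat_lit 3, nat_lit 5, nat_lit 0, nat_lit 2, nat_lit 0, nat_lit 4, nat_lit 1, nat_lit 4, nat_lit 0, nat_lit 2, nat_lit 2, nat_lit 0, nat_lit 2, nat_lit 0])) (.leaf ((nat_lit 962), [nat_lit 4, nat_lit 1, nat_lit 5, nat_lit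 2, nat_lit 5, nat_lit 3, nat_lit 0, nat_lit 2, nat_lit 4, nat_lit 3, nat_lit 1, nat_lit 0, nat_lit 2, nat_lit 0, nat_lit 2, nat_lit 0])))))
 (.node (nat_lit 1229) (.node (nat_lit 1227) (.leaf ((nat_lit 941), [nat_lit 5, nat_lit 4, nat_lit 5, nat_lit 3, nat_lit 0, nat_lit 3, nat_lit 0, nat_lit 4, nat_lit 2, nat_lit 2, nat_lit 0, nat_lit 2])) (.node (nat_lit 1228) (.leaf ((nat_lit 963), [nat_lit 1, nat_lit 5, nat_lit 1, nat_lit 5, nat_lit 1, nat_lit 3, nat_lit 1, nat_lit 3, nat_lit 4, nat_lit 1, nat_lit 0, nat_lit 1, nat_lit 0, nat_lit 2, nat_lit 2, nat_lit 0])) (.leaf ((nat_lit 309), [nat_lit 1, nat_lit 4, nat_lit 2, nat_lit 5, nat_lit 2, nat_lit 0, nat_lit 2, nat_lit 4, nat_lit 0, nat_lit 1, nat_lit 0, nat_lit 2, nat_lit 2, nat_lit 0])))) (.node (nat_lit 1230) (.leaf ((nat_lit 94), [nat_lit 3, nat_lit 0, nat_lit 5, nat_lit 2, nat_lit 2, nat_lit 3,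 nat_lit 2, nat_lit 0, nat_lit 2, nat_lit 2, nat_lit 0, nat_lit 2, nat_lit 2, nat_lit 0])) (.node (nat_lit 1231) (.leaf ((nat_lit 923), [nat_lit 3, nat_lit 2, nat_lit 0, nat_lit 5, nat_lit 1, nat_lit 4, nat_lit 0, nat_lit 4, nat_lit 2, nat_lit 0, nat_lit 3, nat_lit 2, nat_lit 0, nat_lit 1, nat_lit 0, nat_lit 2, nat_lit 0])) (.leaf ((nat_lit 499), [nat_lit 0, nat_lit 5, nat_lit 3, nat_lit 4, nat_lit 3, nat_lit 1, nat_lit 3, nat_lit 2, nat_lit 2, nat_lit 0, nat_lit 1, nat_lit 0, nat_lit 2, nat_lit 2, nat_lit 0]))))))))))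
noncomputable def qWd_7 : Tr (ℕ × List ℕ) := (.node (nat_lit 1320) (.node (nat_lit 1276) (.node (nat_lit 1254) (.node (nat_lit 1243) (.node (nat_lit 1237) (.node (nat_lit 1234) (.node (nat_lit 1233) (.leaf ((nat_lit 964), [nat_lit 3, nat_lit 5, nat_lit 0, nat_lit 5, nat_lit 4, nat_lit 0, nat_lit 3, nat_lit 4, nat_lit 3, nat_lit 2, nat_lit 0, nat_lit 1, nat_lit 0, nat_lit 2, nat_lit 0, nat_lit 2])) (.leaf ((nat_lit 965), [nat_lit 2, nat_lit 5, nat_lit 0, nat_lit 4, nat_lit 2, nat_lit 3, nat_lit 4, nat_lit 1, nat_lit 0, nat_lit 2, nat_lit 2]))) (.node (nat_lit 1235) (.leaf ((nat_lit 849), [nat_lit 3, nat_lit 0, nat_lit 2, nat_lit 5, nat_lit 0, nat_lit 4, nat_lit 3, nat_lit 0, nat_lit 3, nat_lit 2, nat_lit 2, nat_lit 0, nat_lit 2, nat_lit 2, nat_lit 0, nat_lit 2, nat_lit 2, nat_lit 0])) (.node (nat_lit 1236) (.leaf ((nat_lit 517), [nat_lit 3, nat_lit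 4, nat_lit 3, nat_lit 5, nat_lit 1, nat_lit 0, nat_lit 3, nat_lit 4, nat_lit 0, nat_lit 3, nat_lit 1, nat_lit 0, nat_lit 2, nat_lit 2, nat_lit 0, nat_lit 2, nat_lit 2, nat_lit 0])) (.leaf ((nat_lit 966), [nat_lit 4, nat_lit 1, nat_lit 5, nat_lit 2, nat_lit 5, nat_lit 2, nat_lit 0, nat_lit 4, nat_lit 1, nat_lit 3, nat_lit 2])))))
 (.node (nat_lit 1240) (.node (nat_lit 1238) (.leaf ((nat_lit 920), [nat_lit 1, nat_lit 0, nat_lit 5, nat_lit 3, nat_lit 5, nat_lit 2, nat_lit 3, nat_lit 2, nat_lit 4, nat_lit 3, nat_lit 0, nat_lit 2, nat_lit 2, nat_lit 0, nat_lit 2])) (.node (nat_lit 1239) (.leaf ((nat_lit 695), [nat_lit 0, nat_lit 5, nat_lit 3, nat_lit 5, nat_lit 4, nat_lit 0, nat_lit 4, nat_lit 3, nat_lit 0, nat_lit 1, nat_lit 0, nat_lit 2, nat_lit 0, nat_lit 2, nat_lit 2, nat_lit 0])) (.leaf ((nat_lit 967), [nat_lit 2, nat_lit 3, nat_lit 4, nat_lit 2,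 nat_lit 4, nat_lit 1, nat_lit 0, nat_lit 2, nat_lit 2, nat_lit 0, nat_lit 2, nat_lit 2, nat_lit 0])))) (.node (nat_lit 1241) (.leaf ((nat_lit 933), [nat_lit 4, nat_lit 0, nat_lit 5, nat_lit 2, nat_lit 5, nat_lit 1, nat_lit 4, nat_lit 1, nat_lit 3, nat_lit 4, nat_lit 0, nat_lit 2, nat_lit 0, nat_lit 1, nat_lit 0])) (.node (nat_lit 1242) (.leaf ((nat_lit 921), [nat_lit 3, nat_lit 4, nat_lit 5, nat_lit 2, nat_lit 5, nat_lit 4, nat_lit 1, nat_lit 3, nat_lit 4, nat_lit 2, nat_lit 3, nat_lit 2, nat_lit 2, nat_lit 0, nat_lit 2, nat_lit 2, nat_lit 0, nat_lit 2, nat_lit 2])) (.leaf ((nat_lit 280), [nat_lit 3, nat_lit 2, nat_lit 0, nat_lit 5, nat_lit 3, nat_lit 2, nat_lit 0, nat_lit 2, nat_lit 2, nat_lit 3, nat_lit 2, nat_lit 2, nat_lit 0, nat_lit 1, nat_lit 0, nat_lit 2]))))))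
 (.node (nat_lit 1248) (.node (nat_lit 1245) (.node (nat_lit 1244) (.leaf ((nat_lit 968), [nat_lit 5, nat_lit 1, nat_lit 3, nat_lit 0, nat_lit 5, nat_lit 3, nat_lit 4, nat_lit 1, nat_lit 0, nat_lit 4, nat_lit 0, nat_lit 2, nat_lit 0, nat_lit 2])) (.leaf ((nat_lit 969), [nat_lit 3, nat_lit 4, nat_lit 3, nat_lit 5, nat_lit 4, nat_lit 2, nat_lit 0, nat_lit 2, nat_lit 3, nat_lit 0, nat_lit 2, nat_lit 2, nat_lit 0, nat_lit 2, nat_lit 2, nat_lit 0]))) (.node (nat_lit 1246) (.leaf ((nat_lit 970), [nat_lit 0, nat_lit 4, nat_lit 2, nat_lit 0, nat_lit 5, nat_lit 3, nat_lit 2, nat_lit 4, nat_lit 3, nat_lit 0, nat_lit 2, nat_lit 2, nat_lit 0, nat_lit 2, nat_lit 0, nat_lit 1])) (.node (nat_lit 1247) (.leaf ((nat_lit 291), [nat_lit 5, nat_lit 4, nat_lit 5, nat_lit 2, nat_lit 5, nat_lit 1, nat_lit 3, nat_lit 4, nat_lit 1, nat_lit 0, nat_lit 3, nat_lit 0, nat_lit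 2, nat_lit 0, nat_lit 1, nat_lit 0, nat_lit 1])) (.leaf ((nat_lit 182), [nat_lit 2, nat_lit 0, nat_lit 2, nat_lit 5, nat_lit 3, nat_lit 4, nat_lit 3, nat_lit 1, nat_lit 3, nat_lit 1, nat_lit 0, nat_lit 1])))))
 (.node (nat_lit 1251) (.node (nat_lit 1249) (.leaf ((nat_lit 971), [nat_lit 3, nat_lit 0, nat_lit 2, nat_lit 5, nat_lit 3, nat_lit 2, nat_lit 3, nat_lit 2, nat_lit 0, nat_lit 4, nat_lit 1, nat_lit 0, nat_lit 2, nat_lit 2])) (.node (nat_lit 1250) (.leaf ((nat_lit 387), [nat_lit 5, nat_lit 1, nat_lit 3, nat_lit 2, nat_lit 5, nat_lit 4, nat_lit 2, nat_lit 0, nat_lit 3, nat_lit 0, nat_lit 4, nat_lit 2, nat_lit 0, nat_lit 1, nat_lit 0])) (.leaf ((nat_lit 972), [nat_lit 5, nat_lit 1, nat_lit 3, nat_lit 2, nat_lit 5, nat_lit 3, nat_lit 4, nat_lit 2, nat_lit 4, nat_lit 1, nat_lit 0, nat_lit 2, nat_lit 0, nat_lit 2, nat_lit 2])))) (.node (nat_lit 1252)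 (.leaf ((nat_lit 326), [nat_lit 5, nat_lit 4, nat_lit 5, nat_lit 4, nat_lit 3, nat_lit 1, nat_lit 0, nat_lit 2, nat_lit 2, nat_lit 0, nat_lit 2])) (.node (nat_lit 1253) (.leaf ((nat_lit 973), [nat_lit 5, nat_lit 4, nat_lit 5, nat_lit 4, nat_lit 2, nat_lit 4, nat_lit 0, nat_lit 1, nat_lit 0, nat_lit 2, nat_lit 2])) (.leaf ((nat_lit 910), [nat_lit 5, nat_lit 4, nat_lit 1, nat_lit 0, nat_lit 5, nat_lit 1, nat_lit 0, nat_lit 3, nat_lit 1, nat_lit 3, nat_lit 0, nat_lit 1, nat_lit 0, nat_lit 2, nat_lit 0, nat_lit 2, nat_lit 2])))))))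
 (.node (nat_lit 1265) (.node (nat_lit 1259) (.node (nat_lit 1256) (.node (nat_lit 1255) (.leaf ((nat_lit 974), [nat_lit 0, nat_lit 5, nat_lit 3, nat_lit 0, nat_lit 5, nat_lit 4, nat_lit 2, nat_lit 3, nat_lit 1, nat_lit 3, nat_lit 0, nat_lit 1, nat_lit 0, nat_lit 2, nat_lit 2, nat_lit 0, nat_lit 2])) (.leaf ((nat_lit 975), [nat_lit 5, nat_lit 4, nat_lit 5, nat_lit 3, nat_lit 5, nat_lit 1, nat_lit 4, nat_lit 1, nat_lit 4, nat_lit 3, nat_lit 2, nat_lit 2]))) (.node (nat_lit 1257) (.leaf ((nat_lit 976), [nat_lit 4, nat_lit 5, nat_lit 1, nat_lit 3, nat_lit 2, nat_lit 0, nat_lit 4, nat_lit 2, nat_lit 2, nat_lit 0, nat_lit 1, nat_lit 0, nat_lit 2, nat_lit 0])) (.node (nat_lit 1258) (.leaf ((nat_lit 977), [nat_lit 1, nat_lit 5, nat_lit 0, nat_lit 5, nat_lit 3, nat_lit 1, nat_lit 3, nat_lit 4, nat_lit 0, nat_lit 1, nat_lit 0, nat_lit 1, nat_lit 0, nat_lit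 2, nat_lit 0])) (.leaf ((nat_lit 875), [nat_lit 5, nat_lit 1, nat_lit 0, nat_lit 3, nat_lit 5, nat_lit 0, nat_lit 4, nat_lit 0, nat_lit 4, nat_lit 1, nat_lit 3, nat_lit 0, nat_lit 1])))))
 (.node (nat_lit 1262) (.node (nat_lit 1260) (.leaf ((nat_lit 978), [nat_lit 5, nat_lit 1, nat_lit 0, nat_lit 2, nat_lit 5, nat_lit 1, nat_lit 3, nat_lit 4, nat_lit 3, nat_lit 1, nat_lit 0, nat_lit 1, nat_lit 0, nat_lit 2, nat_lit 2])) (.node (nat_lit 1261) (.leaf ((nat_lit 979), [nat_lit 1, nat_lit 4, nat_lit 2, nat_lit 5, nat_lit 4, nat_lit 1, nat_lit 0, nat_lit 2, nat_lit 4, nat_lit 0, nat_lit 1, nat_lit 0, nat_lit 2, nat_lit 2])) (.leaf ((nat_lit 50), [nat_lit 1, nat_lit 0, nat_lit 5, nat_lit 3, nat_lit 5, nat_lit 0, nat_lit 1, nat_lit 4, nat_lit 3, nat_lit 1, nat_lit 0, nat_lit 1, nat_lit 0, nat_lit 2, nat_lit 0, nat_lit 2, nat_lit 0])))) (.node (nat_lit 1263)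 (.leaf ((nat_lit 611), [nat_lit 0, nat_lit 5, nat_lit 3, nat_lit 5, nat_lit 3, nat_lit 4, nat_lit 0, nat_lit 4, nat_lit 3, nat_lit 0, nat_lit 2, nat_lit 2, nat_lit 0, nat_lit 1, nat_lit 0, nat_lit 2, nat_lit 0])) (.node (nat_lit 1264) (.leaf ((nat_lit 589), [nat_lit 5, nat_lit 2, nat_lit 3, nat_lit 0, nat_lit 5, nat_lit 0, nat_lit 3, nat_lit 0, nat_lit 2, nat_lit 4, nat_lit 2, nat_lit 0, nat_lit 2, nat_lit 0])) (.leaf ((nat_lit 980), [nat_lit 2, nat_lit 5, nat_lit 2, nat_lit 3, nat_lit 5, nat_lit 1, nat_lit 0, nat_lit 2, nat_lit 2]))))))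
 (.node (nat_lit 1270) (.node (nat_lit 1267) (.node (nat_lit 1266) (.leaf ((nat_lit 557), [nat_lit 5, nat_lit 2, nat_lit 4, nat_lit 0, nat_lit 5, nat_lit 2, nat_lit 3, nat_lit 4, nat_lit 3, nat_lit 0, nat_lit 3, nat_lit 0, nat_lit 2, nat_lit 0, nat_lit 2, nat_lit 2, nat_lit 0, nat_lit 2])) (.leaf ((nat_lit 981), [nat_lit 5, nat_lit 4, nat_lit 3, nat_lit 2, nat_lit 5, nat_lit 3, nat_lit 0, nat_lit 1, nat_lit 3, nat_lit 0, nat_lit 3, nat_lit 0, nat_lit 2, nat_lit 2, nat_lit 0, nat_lit 1, nat_lit 0, nat_lit 2]))) (.node (nat_lit 1268) (.leaf ((nat_lit 982), [nat_lit 3, nat_lit 0, nat_lit 5, nat_lit 3, nat_lit 2, nat_lit 4, nat_lit 2, nat_lit 3, nat_lit 2, nat_lit 2, nat_lit 0, nat_lit 2, nat_lit 2])) (.node (nat_lit 1269) (.leaf ((nat_lit 983), [nat_lit 1, nat_lit 5, nat_lit 1, nat_lit 5, nat_lit 0, nat_lit 2, nat_lit 4, nat_lit 3, nat_lit 0, nat_lit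 1, nat_lit 0, nat_lit 2, nat_lit 0])) (.leaf ((nat_lit 984), [nat_lit 1, nat_lit 5, nat_lit 1, nat_lit 5, nat_lit 3, nat_lit 0, nat_lit 3, nat_lit 1, nat_lit 4, nat_lit 1, nat_lit 0, nat_lit 1, nat_lit 0, nat_lit 2, nat_lit 2])))))
 (.node (nat_lit 1273) (.node (nat_lit 1271) (.leaf ((nat_lit 985), [nat_lit 4, nat_lit 5, nat_lit 0, nat_lit 2, nat_lit 4, nat_lit 2, nat_lit 4, nat_lit 0, nat_lit 1, nat_lit 0])) (.node (nat_lit 1272) (.leaf ((nat_lit 986), [nat_lit 5, nat_lit 4, nat_lit 3, nat_lit 0, nat_lit 5, nat_lit 4, nat_lit 1, nat_lit 4, nat_lit 1, nat_lit 4, nat_lit 3, nat_lit 1, nat_lit 0, nat_lit 2, nat_lit 2, nat_lit 0, nat_lit 2, nat_lit 2, nat_lit 0])) (.leaf ((nat_lit 987), [nat_lit 4, nat_lit 1, nat_lit 5, nat_lit 3, nat_lit 5, nat_lit 3, nat_lit 1, nat_lit 4, nat_lit 1, nat_lit 3, nat_lit 2, nat_lit 2, nat_lit 0, nat_lit 1, nat_lit 0,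 nat_lit 2, nat_lit 2, nat_lit 0])))) (.node (nat_lit 1274) (.leaf ((nat_lit 686), [nat_lit 0, nat_lit 5, nat_lit 3, nat_lit 0, nat_lit 5, nat_lit 3, nat_lit 1, nat_lit 3, nat_lit 0, nat_lit 2, nat_lit 4, nat_lit 0, nat_lit 2, nat_lit 2, nat_lit 0])) (.node (nat_lit 1275) (.leaf ((nat_lit 827), [nat_lit 3, nat_lit 5, nat_lit 2, nat_lit 5, nat_lit 1, nat_lit 4, nat_lit 2, nat_lit 4, nat_lit 3, nat_lit 2, nat_lit 0, nat_lit 2, nat_lit 2, nat_lit 0])) (.leaf ((nat_lit 861), [nat_lit 0, nat_lit 2, nat_lit 4, nat_lit 0, nat_lit 5, nat_lit 2, nat_lit 3, nat_lit 4, nat_lit 1, nat_lit 3, nat_lit 1, nat_lit 0, nat_lit 1, nat_lit 0, nat_lit 2, nat_lit 2]))))))))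
 (.node (nat_lit 1298) (.node (nat_lit 1287) (.node (nat_lit 1281) (.node (nat_lit 1278) (.node (nat_lit 1277) (.leaf ((nat_lit 838), [nat_lit 5, nat_lit 2, nat_lit 5, nat_lit 1, nat_lit 3, nat_lit 4, nat_lit 1, nat_lit 3, nat_lit 1, nat_lit 0, nat_lit 2, nat_lit 0, nat_lit 1])) (.leaf ((nat_lit 988), [nat_lit 1, nat_lit 5, nat_lit 1, nat_lit 4, nat_lit 2, nat_lit 4, nat_lit 3, nat_lit 2, nat_lit 0, nat_lit 2, nat_lit 0, nat_lit 1, nat_lit 0, nat_lit 1]))) (.node (nat_lit 1279) (.leaf ((nat_lit 989), [nat_lit 1, nat_lit 5, nat_lit 0, nat_lit 5, nat_lit 2, nat_lit 0, nat_lit 3, nat_lit 0, nat_lit 1, nat_lit 0, nat_lit 1, nat_lit 0, nat_lit 2])) (.node (nat_lit 1280) (.leaf ((nat_lit 990), [nat_lit 3, nat_lit 4, nat_lit 5, nat_lit 2, nat_lit 5, nat_lit 0, nat_lit 2, nat_lit 3, nat_lit 4, nat_lit 1, nat_lit 3, nat_lit 2, nat_lit 0, nat_lit 1, nat_lit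 0])) (.leaf ((nat_lit 991), [nat_lit 3, nat_lit 4, nat_lit 3, nat_lit 5, nat_lit 2, nat_lit 3, nat_lit 1, nat_lit 3, nat_lit 4, nat_lit 2, nat_lit 0, nat_lit 1, nat_lit 0, nat_lit 2, nat_lit 0])))))
 (.node (nat_lit 1284) (.node (nat_lit 1282) (.leaf ((nat_lit 992), [nat_lit 2, nat_lit 4, nat_lit 5, nat_lit 2, nat_lit 0, nat_lit 5, nat_lit 4, nat_lit 3, nat_lit 0, nat_lit 2, nat_lit 0, nat_lit 1, nat_lit 0, nat_lit 1, nat_lit 0])) (.node (nat_lit 1283) (.leaf ((nat_lit 40), [nat_lit 0, nat_lit 5, nat_lit 2, nat_lit 5, nat_lit 2, nat_lit 4, nat_lit 2, nat_lit 0, nat_lit 3, nat_lit 1, nat_lit 0, nat_lit 2, nat_lit 2, nat_lit 0, nat_lit 1])) (.leaf ((nat_lit 993), [nat_lit 5, nat_lit 3, nat_lit 2, nat_lit 0, nat_lit 5, nat_lit 2, nat_lit 4, nat_lit 3, nat_lit 2, nat_lit 2, nat_lit 3, nat_lit 0, nat_lit 1, nat_lit 0, nat_lit 1])))) (.node (nat_lit 1285)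 (.leaf ((nat_lit 136), [nat_lit 2, nat_lit 0, nat_lit 5, nat_lit 0, nat_lit 4, nat_lit 3, nat_lit 0, nat_lit 4, nat_lit 1, nat_lit 0, nat_lit 1, nat_lit 0, nat_lit 2, nat_lit 0, nat_lit 2, nat_lit 0])) (.node (nat_lit 1286) (.leaf ((nat_lit 994), [nat_lit 5, nat_lit 2, nat_lit 0, nat_lit 5, nat_lit 1, nat_lit 3, nat_lit 2, nat_lit 4, nat_lit 3, nat_lit 1, nat_lit 0, nat_lit 2, nat_lit 2, nat_lit 0, nat_lit 2, nat_lit 2, nat_lit 0])) (.leaf ((nat_lit 995), [nat_lit 1, nat_lit 5, nat_lit 2, nat_lit 2, nat_lit 4, nat_lit 0, nat_lit 4, nat_lit 3, nat_lit 1, nat_lit 0, nat_lit 2, nat_lit 2, nat_lit 0, nat_lit 1]))))))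
 (.node (nat_lit 1292) (.node (nat_lit 1289) (.node (nat_lit 1288) (.leaf ((nat_lit 996), [nat_lit 4, nat_lit 3, nat_lit 5, nat_lit 3, nat_lit 4, nat_lit 0, nat_lit 2, nat_lit 4, nat_lit 0, nat_lit 2, nat_lit 0, nat_lit 2, nat_lit 2, nat_lit 0, nat_lit 2, nat_lit 0])) (.leaf ((nat_lit 997), [nat_lit 5, nat_lit 0, nat_lit 4, nat_lit 5, nat_lit 3, nat_lit 2, nat_lit 3, nat_lit 4, nat_lit 1, nat_lit 3, nat_lit 2, nat_lit 2, nat_lit 0, nat_lit 2, nat_lit 2, nat_lit 0, nat_lit 2, nat_lit 2]))) (.node (nat_lit 1290) (.leaf ((nat_lit 383), [nat_lit 5, nat_lit 4, nat_lit 2, nat_lit 5, nat_lit 1, nat_lit 3, nat_lit 0, nat_lit 3, nat_lit 2, nat_lit 3, nat_lit 0, nat_lit 2, nat_lit 2])) (.node (nat_lit 1291) (.leaf ((nat_lit 998), [nat_lit 3, nat_lit 1, nat_lit 5, nat_lit 0, nat_lit 5, nat_lit 2, nat_lit 3, nat_lit 2, nat_lit 2, nat_lit 3, nat_lit 2, nat_lit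 0, nat_lit 1, nat_lit 0, nat_lit 2, nat_lit 0, nat_lit 2])) (.leaf ((nat_lit 999), [nat_lit 2, nat_lit 2, nat_lit 5, nat_lit 2, nat_lit 4, nat_lit 3, nat_lit 2, nat_lit 3, nat_lit 0, nat_lit 2, nat_lit 2, nat_lit 0, nat_lit 2, nat_lit 2, nat_lit 0])))))
 (.node (nat_lit 1295) (.node (nat_lit 1293) (.leaf ((nat_lit 1000), [nat_lit 0, nat_lit 5, nat_lit 0, nat_lit 4, nat_lit 1, nat_lit 3, nat_lit 1, nat_lit 3, nat_lit 1, nat_lit 0, nat_lit 1])) (.node (nat_lit 1294) (.leaf ((nat_lit 1001), [nat_lit 5, nat_lit 4, nat_lit 0, nat_lit 5, nat_lit 0, nat_lit 2, nat_lit 2, nat_lit 0, nat_lit 4, nat_lit 0, nat_lit 2])) (.leaf ((nat_lit 1002), [nat_lit 0, nat_lit 2, nat_lit 5, nat_lit 3, nat_lit 1, nat_lit 4, nat_lit 0, nat_lit 1, nat_lit 0, nat_lit 2])))) (.node (nat_lit 1296) (.leaf ((nat_lit 1003), [nat_lit 5, nat_lit 4, nat_lit 0, nat_lit 5, nat_lit 3,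 nat_lit 2, nat_lit 4, nat_lit 0, nat_lit 2, nat_lit 2, nat_lit 0, nat_lit 1, nat_lit 0, nat_lit 2, nat_lit 0])) (.node (nat_lit 1297) (.leaf ((nat_lit 1004), [nat_lit 3, nat_lit 2, nat_lit 3, nat_lit 5, nat_lit 2, nat_lit 3, nat_lit 1, nat_lit 3, nat_lit 1, nat_lit 3, nat_lit 2, nat_lit 2, nat_lit 0, nat_lit 1])) (.leaf ((nat_lit 774), [nat_lit 0, nat_lit 5, nat_lit 3, nat_lit 0, nat_lit 5, nat_lit 0, nat_lit 4, nat_lit 1, nat_lit 0, nat_lit 3, nat_lit 2, nat_lit 2, nat_lit 0, nat_lit 2, nat_lit 2, nat_lit 0, nat_lit 2, nat_lit 2, nat_lit 0])))))))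
 (.node (nat_lit 1309) (.node (nat_lit 1303) (.node (nat_lit 1300) (.node (nat_lit 1299) (.leaf ((nat_lit 303), [nat_lit 1, nat_lit 5, nat_lit 0, nat_lit 5, nat_lit 4, nat_lit 1, nat_lit 3, nat_lit 4, nat_lit 2, nat_lit 3, nat_lit 2, nat_lit 2, nat_lit 0, nat_lit 2, nat_lit 2, nat_lit 0, nat_lit 2, nat_lit 0])) (.leaf ((nat_lit 506), [nat_lit 1, nat_lit 5, nat_lit 0, nat_lit 5, nat_lit 0, nat_lit 2, nat_lit 2, nat_lit 3, nat_lit 1, nat_lit 0, nat_lit 2, nat_lit 0, nat_lit 2, nat_lit 0]))) (.node (nat_lit 1301) (.leaf ((nat_lit 641), [nat_lit 4, nat_lit 2, nat_lit 5, nat_lit 2, nat_lit 2, nat_lit 4, nat_lit 0, nat_lit 4, nat_lit 0, nat_lit 2, nat_lit 2, nat_lit 0, nat_lit 2, nat_lit 0, nat_lit 1])) (.node (nat_lit 1302) (.leaf ((nat_lit 591), [nat_lit 3, nat_lit 5, nat_lit 3, nat_lit 0, nat_lit 5, nat_lit 4, nat_lit 1, nat_lit 4, nat_lit 1, nat_lit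 4, nat_lit 0, nat_lit 2, nat_lit 2, nat_lit 0, nat_lit 2, nat_lit 2, nat_lit 0])) (.leaf ((nat_lit 1005), [nat_lit 3, nat_lit 0, nat_lit 5, nat_lit 1, nat_lit 3, nat_lit 2, nat_lit 4, nat_lit 2, nat_lit 3, nat_lit 2, nat_lit 0, nat_lit 1, nat_lit 0, nat_lit 2, nat_lit 0])))))
 (.node (nat_lit 1306) (.node (nat_lit 1304) (.leaf ((nat_lit 1006), [nat_lit 4, nat_lit 5, nat_lit 3, nat_lit 5, nat_lit 1, nat_lit 3, nat_lit 4, nat_lit 1, nat_lit 3, nat_lit 2, nat_lit 0, nat_lit 2, nat_lit 2, nat_lit 0, nat_lit 2, nat_lit 2])) (.node (nat_lit 1305) (.leaf ((nat_lit 1007), [nat_lit 4, nat_lit 3, nat_lit 5, nat_lit 0, nat_lit 5, nat_lit 1, nat_lit 3, nat_lit 1, nat_lit 3, nat_lit 0, nat_lit 1, nat_lit 0, nat_lit 1])) (.leaf ((nat_lit 1008), [nat_lit 5, nat_lit 1, nat_lit 5, nat_lit 0, nat_lit 5, nat_lit 1, nat_lit 4, nat_lit 1, nat_lit 3, nat_lit 0, nat_lit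 1, nat_lit 0, nat_lit 2, nat_lit 2])))) (.node (nat_lit 1307) (.leaf ((nat_lit 1009), [nat_lit 4, nat_lit 2, nat_lit 5, nat_lit 1, nat_lit 5, nat_lit 2, nat_lit 2, nat_lit 3, nat_lit 4, nat_lit 0])) (.node (nat_lit 1308) (.leaf ((nat_lit 1010), [nat_lit 5, nat_lit 2, nat_lit 2, nat_lit 0, nat_lit 5, nat_lit 2, nat_lit 2, nat_lit 3, nat_lit 4, nat_lit 3, nat_lit 2, nat_lit 0, nat_lit 1])) (.leaf ((nat_lit 1011), [nat_lit 5, nat_lit 4, nat_lit 5, nat_lit 0, nat_lit 3, nat_lit 0, nat_lit 1, nat_lit 4, nat_lit 2, nat_lit 0, nat_lit 2]))))))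
 (.node (nat_lit 1314) (.node (nat_lit 1311) (.node (nat_lit 1310) (.leaf ((nat_lit 1012), [nat_lit 4, nat_lit 5, nat_lit 0, nat_lit 3, nat_lit 5, nat_lit 2, nat_lit 2, nat_lit 0, nat_lit 3, nat_lit 0, nat_lit 2, nat_lit 0])) (.leaf ((nat_lit 1013), [nat_lit 5, nat_lit 1, nat_lit 3, nat_lit 2, nat_lit 5, nat_lit 3, nat_lit 4, nat_lit 3, nat_lit 2, nat_lit 3, nat_lit 0, nat_lit 2, nat_lit 0, nat_lit 2]))) (.node (nat_lit 1312) (.leaf ((nat_lit 1014), [nat_lit 4, nat_lit 5, nat_lit 3, nat_lit 5, nat_lit 2, nat_lit 0, nat_lit 3, nat_lit 1, nat_lit 4, nat_lit 1, nat_lit 0, nat_lit 2, nat_lit 0, nat_lit 1, nat_lit 0])) (.node (nat_lit 1313) (.leaf ((nat_lit 685), [nat_lit 4, nat_lit 3, nat_lit 5, nat_lit 2, nat_lit 5, nat_lit 3, nat_lit 2, nat_lit 4, nat_lit 2, nat_lit 0, nat_lit 2])) (.leaf ((nat_lit 697), [nat_lit 3, nat_lit 2, nat_lit 5, nat_lit 1,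 nat_lit 4, nat_lit 1, nat_lit 4, nat_lit 0, nat_lit 2, nat_lit 2, nat_lit 0])))))
 (.node (nat_lit 1317) (.node (nat_lit 1315) (.leaf ((nat_lit 850), [nat_lit 0, nat_lit 5, nat_lit 3, nat_lit 5, nat_lit 0, nat_lit 1, nat_lit 0, nat_lit 3, nat_lit 2, nat_lit 3, nat_lit 1, nat_lit 0, nat_lit 2, nat_lit 2, nat_lit 0, nat_lit 2])) (.node (nat_lit 1316) (.leaf ((nat_lit 1015), [nat_lit 2, nat_lit 5, nat_lit 2, nat_lit 3, nat_lit 5, nat_lit 2, nat_lit 4, nat_lit 1, nat_lit 0, nat_lit 3, nat_lit 2, nat_lit 0, nat_lit 2, nat_lit 2, nat_lit 0, nat_lit 1, nat_lit 0])) (.leaf ((nat_lit 265), [nat_lit 5, nat_lit 4, nat_lit 5, nat_lit 4, nat_lit 3, nat_lit 2, nat_lit 4, nat_lit 3, nat_lit 2, nat_lit 0, nat_lit 1, nat_lit 0, nat_lit 1, nat_lit 0, nat_lit 2])))) (.node (nat_lit 1318) (.leaf ((nat_lit 1016), [nat_lit 5, nat_lit 4, nat_lit 1, nat_lit 3, nat_lit 4,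 nat_lit 2, nat_lit 3, nat_lit 0, nat_lit 1])) (.node (nat_lit 1319) (.leaf ((nat_lit 829), [nat_lit 2, nat_lit 4, nat_lit 5, nat_lit 2, nat_lit 0, nat_lit 5, nat_lit 2, nat_lit 3, nat_lit 0, nat_lit 1, nat_lit 0, nat_lit 2, nat_lit 2, nat_lit 0, nat_lit 1])) (.leaf ((nat_lit 593), [nat_lit 1, nat_lit 5, nat_lit 2, nat_lit 5, nat_lit 4, nat_lit 1, nat_lit 0, nat_lit 4, nat_lit 3, nat_lit 0, nat_lit 2, nat_lit 0])))))))))
 (.node (nat_lit 1364) (.node (nat_lit 1342) (.node (nat_lit 1331) (.node (nat_lit 1325) (.node (nat_lit 1322) (.node (nat_lit 1321) (.leaf ((nat_lit 1017), [nat_lit 3, nat_lit 5, nat_lit 2, nat_lit 5, nat_lit 1, nat_lit 4, nat_lit 0, nat_lit 4, nat_lit 0, nat_lit 2, nat_lit 0, nat_lit 1, nat_lit 0])) (.leaf ((nat_lit 529), [nat_lit 5, nat_lit 2, nat_lit 0, nat_lit 2, nat_lit 5, nat_lit 2, nat_lit 4, nat_lit 2, nat_lit 2, nat_lit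 0, nat_lit 2, nat_lit 2, nat_lit 0, nat_lit 2, nat_lit 2]))) (.node (nat_lit 1323) (.leaf ((nat_lit 470), [nat_lit 5, nat_lit 2, nat_lit 0, nat_lit 5, nat_lit 4, nat_lit 0, nat_lit 1, nat_lit 0, nat_lit 3, nat_lit 0, nat_lit 2, nat_lit 0])) (.node (nat_lit 1324) (.leaf ((nat_lit 250), [nat_lit 3, nat_lit 5, nat_lit 3, nat_lit 0, nat_lit 5, nat_lit 0, nat_lit 3, nat_lit 4, nat_lit 2, nat_lit 0, nat_lit 1, nat_lit 0, nat_lit 2])) (.leaf ((nat_lit 1018), [nat_lit 1, nat_lit 4, nat_lit 5, nat_lit 1, nat_lit 5, nat_lit 2, nat_lit 3, nat_lit 4, nat_lit 0, nat_lit 2, nat_lit 2, nat_lit 0, nat_lit 1, nat_lit 0, nat_lit 2, nat_lit 0])))))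
 (.node (nat_lit 1328) (.node (nat_lit 1326) (.leaf ((nat_lit 438), [nat_lit 5, nat_lit 4, nat_lit 3, nat_lit 5, nat_lit 2, nat_lit 5, nat_lit 3, nat_lit 0, nat_lit 3, nat_lit 0, nat_lit 2, nat_lit 3, nat_lit 1, nat_lit 0, nat_lit 2])) (.node (nat_lit 1327) (.leaf ((nat_lit 1019), [nat_lit 3, nat_lit 5, nat_lit 2, nat_lit 5, nat_lit 0, nat_lit 3, nat_lit 2, nat_lit 0, nat_lit 3, nat_lit 0, nat_lit 2, nat_lit 0, nat_lit 2, nat_lit 2, nat_lit 0, nat_lit 1])) (.leaf ((nat_lit 1020), [nat_lit 4, nat_lit 1, nat_lit 0, nat_lit 5, nat_lit 0, nat_lit 4, nat_lit 1, nat_lit 0, nat_lit 3, nat_lit 0, nat_lit 1, nat_lit 0, nat_lit 1])))) (.node (nat_lit 1329) (.leaf ((nat_lit 8), [nat_lit 0, nat_lit 5, nat_lit 3, nat_lit 5, nat_lit 2, nat_lit 2, nat_lit 4, nat_lit 0, nat_lit 4, nat_lit 3, nat_lit 2, nat_lit 2, nat_lit 0, nat_lit 1, nat_lit 0, nat_lit 2, nat_lit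 2])) (.node (nat_lit 1330) (.leaf ((nat_lit 858), [nat_lit 5, nat_lit 4, nat_lit 5, nat_lit 1, nat_lit 5, nat_lit 1, nat_lit 4, nat_lit 1, nat_lit 3, nat_lit 2, nat_lit 0, nat_lit 1, nat_lit 0, nat_lit 2])) (.leaf ((nat_lit 751), [nat_lit 4, nat_lit 0, nat_lit 5, nat_lit 2, nat_lit 5, nat_lit 2, nat_lit 3, nat_lit 1, nat_lit 3, nat_lit 4, nat_lit 1]))))))
 (.node (nat_lit 1336) (.node (nat_lit 1333) (.node (nat_lit 1332) (.leaf ((nat_lit 1021), [nat_lit 1, nat_lit 3, nat_lit 2, nat_lit 5, nat_lit 4, nat_lit 3, nat_lit 0, nat_lit 1, nat_lit 0, nat_lit 3, nat_lit 2, nat_lit 0, nat_lit 1, nat_lit 0, nat_lit 1, nat_lit 0, nat_lit 2, nat_lit 0])) (.leaf ((nat_lit 698), [nat_lit 5, nat_lit 4, nat_lit 0, nat_lit 5, nat_lit 4, nat_lit 2, nat_lit 0, nat_lit 4, nat_lit 3, nat_lit 1, nat_lit 0, nat_lit 2, nat_lit 2, nat_lit 0, nat_lit 1]))) (.node (nat_lit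 1334) (.leaf ((nat_lit 785), [nat_lit 5, nat_lit 4, nat_lit 2, nat_lit 5, nat_lit 4, nat_lit 1, nat_lit 0, nat_lit 3, nat_lit 0, nat_lit 1, nat_lit 0, nat_lit 1, nat_lit 0, nat_lit 2, nat_lit 0])) (.node (nat_lit 1335) (.leaf ((nat_lit 669), [nat_lit 4, nat_lit 0, nat_lit 5, nat_lit 2, nat_lit 5, nat_lit 1, nat_lit 3, nat_lit 4, nat_lit 1, nat_lit 0, nat_lit 3, nat_lit 2, nat_lit 0, nat_lit 1, nat_lit 0, nat_lit 2])) (.leaf ((nat_lit 1022), [nat_lit 5, nat_lit 0, nat_lit 4, nat_lit 5, nat_lit 2, nat_lit 3, nat_lit 4, nat_lit 1, nat_lit 0, nat_lit 3, nat_lit 0, nat_lit 1, nat_lit 0, nat_lit 2, nat_lit 0])))))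
 (.node (nat_lit 1339) (.node (nat_lit 1337) (.leaf ((nat_lit 1023), [nat_lit 0, nat_lit 5, nat_lit 3, nat_lit 5, nat_lit 0, nat_lit 3, nat_lit 2, nat_lit 3, nat_lit 2, nat_lit 3, nat_lit 0, nat_lit 2, nat_lit 0, nat_lit 2, nat_lit 2])) (.node (nat_lit 1338) (.leaf ((nat_lit 1024), [nat_lit 3, nat_lit 2, nat_lit 5, nat_lit 0, nat_lit 5, nat_lit 1, nat_lit 3, nat_lit 0, nat_lit 2, nat_lit 4, nat_lit 2, nat_lit 0, nat_lit 1, nat_lit 0, nat_lit 2])) (.leaf ((nat_lit 382), [nat_lit 5, nat_lit 4, nat_lit 2, nat_lit 5, nat_lit 4, nat_lit 0, nat_lit 4, nat_lit 3, nat_lit 0, nat_lit 3, nat_lit 0, nat_lit 2, nat_lit 2, nat_lit 0, nat_lit 2, nat_lit 0, nat_lit 1])))) (.node (nat_lit 1340) (.leaf ((nat_lit 803), [nat_lit 5, nat_lit 4, nat_lit 5, nat_lit 3, nat_lit 5, nat_lit 4, nat_lit 3, nat_lit 1, nat_lit 4, nat_lit 2, nat_lit 0, nat_lit 1, nat_lit 0, nat_lit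 1, nat_lit 0])) (.node (nat_lit 1341) (.leaf ((nat_lit 51), [nat_lit 5, nat_lit 1, nat_lit 5, nat_lit 0, nat_lit 5, nat_lit 4, nat_lit 1, nat_lit 3, nat_lit 1, nat_lit 3, nat_lit 2, nat_lit 0, nat_lit 2, nat_lit 0])) (.leaf ((nat_lit 958), [nat_lit 0, nat_lit 4, nat_lit 2, nat_lit 0, nat_lit 5, nat_lit 0, nat_lit 2, nat_lit 3, nat_lit 2, nat_lit 0, nat_lit 3, nat_lit 0, nat_lit 1, nat_lit 0])))))))
 (.node (nat_lit 1353) (.node (nat_lit 1347) (.node (nat_lit 1344) (.node (nat_lit 1343) (.leaf ((nat_lit 1025), [nat_lit 4, nat_lit 3, nat_lit 5, nat_lit 0, nat_lit 5, nat_lit 0, nat_lit 3, nat_lit 4, nat_lit 2, nat_lit 0, nat_lit 4, nat_lit 1, nat_lit 0, nat_lit 1, nat_lit 0, nat_lit 2, nat_lit 2, nat_lit 0])) (.leaf ((nat_lit 1026), [nat_lit 3, nat_lit 0, nat_lit 5, nat_lit 4]))) (.node (nat_lit 1345) (.leaf ((nat_lit 917), [nat_lit 2, nat_lit 5, nat_lit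 3, nat_lit 5, nat_lit 1, nat_lit 4, nat_lit 1, nat_lit 4, nat_lit 3, nat_lit 2, nat_lit 0, nat_lit 1, nat_lit 0, nat_lit 2, nat_lit 2, nat_lit 0])) (.node (nat_lit 1346) (.leaf ((nat_lit 1027), [nat_lit 5, nat_lit 1, nat_lit 0, nat_lit 3, nat_lit 5, nat_lit 1, nat_lit 4, nat_lit 2, nat_lit 4, nat_lit 3, nat_lit 2, nat_lit 2, nat_lit 0, nat_lit 2, nat_lit 2, nat_lit 0, nat_lit 1])) (.leaf ((nat_lit 232), [nat_lit 5, nat_lit 0, nat_lit 5, nat_lit 0, nat_lit 4, nat_lit 0, nat_lit 1, nat_lit 0, nat_lit 2, nat_lit 2, nat_lit 0, nat_lit 1])))))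
 (.node (nat_lit 1350) (.node (nat_lit 1348) (.leaf ((nat_lit 13), [nat_lit 2, nat_lit 0, nat_lit 5, nat_lit 4, nat_lit 1, nat_lit 0, nat_lit 3, nat_lit 1, nat_lit 4, nat_lit 2, nat_lit 2, nat_lit 0, nat_lit 2])) (.node (nat_lit 1349) (.leaf ((nat_lit 1028), [nat_lit 4, nat_lit 3, nat_lit 0, nat_lit 5, nat_lit 4, nat_lit 3, nat_lit 1, nat_lit 3, nat_lit 0, nat_lit 2, nat_lit 0])) (.leaf ((nat_lit 1029), [nat_lit 2, nat_lit 5, nat_lit 2, nat_lit 3, nat_lit 5, nat_lit 4, nat_lit 1, nat_lit 3, nat_lit 4, nat_lit 2, nat_lit 3, nat_lit 1, nat_lit 0, nat_lit 2, nat_lit 2, nat_lit 0, nat_lit 2, nat_lit 0])))) (.node (nat_lit 1351) (.leaf ((nat_lit 1030), [nat_lit 0, nat_lit 4, nat_lit 2, nat_lit 0, nat_lit 5, nat_lit 1, nat_lit 3, nat_lit 2, nat_lit 4, nat_lit 2, nat_lit 2, nat_lit 0, nat_lit 2, nat_lit 0, nat_lit 1])) (.node (nat_lit 1352) (.leaf ((nat_lit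 467), [nat_lit 5, nat_lit 4, nat_lit 5, nat_lit 2, nat_lit 5, nat_lit 3, nat_lit 1, nat_lit 4, nat_lit 3, nat_lit 2, nat_lit 0, nat_lit 3, nat_lit 0, nat_lit 2, nat_lit 2, nat_lit 0, nat_lit 1, nat_lit 0, nat_lit 2, nat_lit 0])) (.leaf ((nat_lit 1031), [nat_lit 0, nat_lit 2, nat_lit 5, nat_lit 4, nat_lit 3, nat_lit 1, nat_lit 0, nat_lit 2, nat_lit 3, nat_lit 1, nat_lit 0, nat_lit 2, nat_lit 2, nat_lit 0, nat_lit 1, nat_lit 0]))))))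
 (.node (nat_lit 1358) (.node (nat_lit 1355) (.node (nat_lit 1354) (.leaf ((nat_lit 730), [nat_lit 5, nat_lit 2, nat_lit 0, nat_lit 2, nat_lit 5, nat_lit 1, nat_lit 4, nat_lit 3, nat_lit 2, nat_lit 3, nat_lit 0, nat_lit 2, nat_lit 2, nat_lit 0, nat_lit 1, nat_lit 0])) (.leaf ((nat_lit 1032), [nat_lit 4, nat_lit 1, nat_lit 5, nat_lit 2, nat_lit 5, nat_lit 0, nat_lit 4, nat_lit 2, nat_lit 3, nat_lit 0, nat_lit 3, nat_lit 2, nat_lit 0, nat_lit 2, nat_lit 2, nat_lit 0]))) (.node (nat_lit 1356) (.leaf ((nat_lit 304), [nat_lit 4, nat_lit 5, nat_lit 3, nat_lit 0, nat_lit 5, nat_lit 2, nat_lit 4, nat_lit 3, nat_lit 1, nat_lit 4, nat_lit 3, nat_lit 2, nat_lit 2, nat_lit 0, nat_lit 2, nat_lit 2, nat_lit 0, nat_lit 1, nat_lit 0])) (.node (nat_lit 1357) (.leaf ((nat_lit 1033), [nat_lit 3, nat_lit 5, nat_lit 2, nat_lit 3, nat_lit 0, nat_lit 5, nat_lit 1, nat_lit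 4, nat_lit 0, nat_lit 3, nat_lit 2, nat_lit 3, nat_lit 1, nat_lit 0, nat_lit 1, nat_lit 0, nat_lit 2])) (.leaf ((nat_lit 1034), [nat_lit 5, nat_lit 2, nat_lit 3, nat_lit 5, nat_lit 4, nat_lit 0, nat_lit 3, nat_lit 1, nat_lit 3, nat_lit 2, nat_lit 2, nat_lit 0, nat_lit 2, nat_lit 2, nat_lit 0])))))
 (.node (nat_lit 1361) (.node (nat_lit 1359) (.leaf ((nat_lit 1035), [nat_lit 5, nat_lit 4, nat_lit 3, nat_lit 2, nat_lit 5, nat_lit 3, nat_lit 4, nat_lit 3, nat_lit 2, nat_lit 4, nat_lit 3, nat_lit 0, nat_lit 2, nat_lit 2, nat_lit 0, nat_lit 1, nat_lit 0, nat_lit 2, nat_lit 0])) (.node (nat_lit 1360) (.leaf ((nat_lit 1036), [nat_lit 2, nat_lit 3, nat_lit 0, nat_lit 5, nat_lit 2, nat_lit 2, nat_lit 3, nat_lit 2, nat_lit 4, nat_lit 1, nat_lit 0, nat_lit 2, nat_lit 2, nat_lit 0])) (.leaf ((nat_lit 48), [nat_lit 4, nat_lit 3, nat_lit 5, nat_lit 1, nat_lit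 0, nat_lit 3, nat_lit 0, nat_lit 4, nat_lit 2, nat_lit 2, nat_lit 0, nat_lit 2, nat_lit 2, nat_lit 0, nat_lit 2])))) (.node (nat_lit 1362) (.leaf ((nat_lit 1037), [nat_lit 5, nat_lit 4, nat_lit 5, nat_lit 3, nat_lit 5, nat_lit 0, nat_lit 2, nat_lit 2, nat_lit 3, nat_lit 2, nat_lit 4, nat_lit 1, nat_lit 0, nat_lit 1])) (.node (nat_lit 1363) (.leaf ((nat_lit 723), [nat_lit 4, nat_lit 2, nat_lit 5, nat_lit 1, nat_lit 5, nat_lit 0, nat_lit 4, nat_lit 1, nat_lit 3, nat_lit 1, nat_lit 3, nat_lit 0, nat_lit 1, nat_lit 0, nat_lit 2])) (.leaf ((nat_lit 262), [nat_lit 5, nat_lit 2, nat_lit 4, nat_lit 0, nat_lit 5, nat_lit 2, nat_lit 4, nat_lit 3, nat_lit 2, nat_lit 3, nat_lit 0, nat_lit 2, nat_lit 0, nat_lit 1, nat_lit 0, nat_lit 1]))))))))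
 (.node (nat_lit 1386) (.node (nat_lit 1375) (.node (nat_lit 1369) (.node (nat_lit 1366) (.node (nat_lit 1365) (.leaf ((nat_lit 293), [nat_lit 4, nat_lit 3, nat_lit 5, nat_lit 0, nat_lit 5, nat_lit 1, nat_lit 4, nat_lit 3, nat_lit 1, nat_lit 3, nat_lit 0])) (.leaf ((nat_lit 363), [nat_lit 2, nat_lit 0, nat_lit 5, nat_lit 4, nat_lit 3, nat_lit 0, nat_lit 1, nat_lit 0, nat_lit 3, nat_lit 0, nat_lit 1, nat_lit 0, nat_lit 1, nat_lit 0]))) (.node (nat_lit 1367) (.leaf ((nat_lit 175), [nat_lit 5, nat_lit 0, nat_lit 1, nat_lit 5, nat_lit 4, nat_lit 2, nat_lit 4, nat_lit 0, nat_lit 1, nat_lit 0, nat_lit 3, nat_lit 1, nat_lit 0, nat_lit 2, nat_lit 2, nat_lit 0, nat_lit 2, nat_lit 2, nat_lit 0])) (.node (nat_lit 1368) (.leaf ((nat_lit 66), [nat_lit 3, nat_lit 5, nat_lit 3, nat_lit 0, nat_lit 5, nat_lit 3, nat_lit 4, nat_lit 0, nat_lit 3, nat_lit 4, nat_lit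 1, nat_lit 0, nat_lit 2, nat_lit 0, nat_lit 2, nat_lit 2, nat_lit 0])) (.leaf ((nat_lit 763), [nat_lit 3, nat_lit 0, nat_lit 5, nat_lit 3, nat_lit 5, nat_lit 1, nat_lit 4, nat_lit 1, nat_lit 4, nat_lit 3, nat_lit 2, nat_lit 0, nat_lit 2, nat_lit 0, nat_lit 1, nat_lit 0])))))
 (.node (nat_lit 1372) (.node (nat_lit 1370) (.leaf ((nat_lit 1038), [nat_lit 2, nat_lit 4, nat_lit 2, nat_lit 0, nat_lit 5, nat_lit 4, nat_lit 0, nat_lit 4, nat_lit 3, nat_lit 0, nat_lit 1, nat_lit 0, nat_lit 1, nat_lit 0, nat_lit 2, nat_lit 0])) (.node (nat_lit 1371) (.leaf ((nat_lit 307), [nat_lit 5, nat_lit 4, nat_lit 3, nat_lit 5, nat_lit 2, nat_lit 5, nat_lit 0, nat_lit 4, nat_lit 1, nat_lit 3, nat_lit 1, nat_lit 3, nat_lit 2, nat_lit 2, nat_lit 0, nat_lit 2, nat_lit 2, nat_lit 0, nat_lit 2, nat_lit 2, nat_lit 0])) (.leaf ((nat_lit 200), [nat_lit 0, nat_lit 2, nat_lit 4,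 nat_lit 0, nat_lit 5, nat_lit 1, nat_lit 4, nat_lit 2, nat_lit 4, nat_lit 3, nat_lit 0, nat_lit 2, nat_lit 0, nat_lit 2])))) (.node (nat_lit 1373) (.leaf ((nat_lit 118), [nat_lit 0, nat_lit 2, nat_lit 5, nat_lit 3, nat_lit 5, nat_lit 4, nat_lit 2, nat_lit 4, nat_lit 2, nat_lit 0, nat_lit 3, nat_lit 1, nat_lit 0, nat_lit 2, nat_lit 0, nat_lit 2, nat_lit 2, nat_lit 0])) (.node (nat_lit 1374) (.leaf ((nat_lit 1039), [nat_lit 0, nat_lit 5, nat_lit 2, nat_lit 4, nat_lit 3, nat_lit 1, nat_lit 4, nat_lit 3, nat_lit 2, nat_lit 0, nat_lit 2, nat_lit 2, nat_lit 0])) (.leaf ((nat_lit 87), [nat_lit 3, nat_lit 2, nat_lit 5, nat_lit 1, nat_lit 0, nat_lit 3, nat_lit 4, nat_lit 2, nat_lit 0, nat_lit 2, nat_lit 2, nat_lit 0]))))))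
 (.node (nat_lit 1380) (.node (nat_lit 1377) (.node (nat_lit 1376) (.leaf ((nat_lit 1040), [nat_lit 2, nat_lit 5, nat_lit 0, nat_lit 1, nat_lit 5, nat_lit 2, nat_lit 3, nat_lit 1, nat_lit 3, nat_lit 0, nat_lit 1, nat_lit 0, nat_lit 1, nat_lit 0, nat_lit 2])) (.leaf ((nat_lit 1041), [nat_lit 4, nat_lit 2, nat_lit 3, nat_lit 4, nat_lit 2, nat_lit 3, nat_lit 0, nat_lit 1, nat_lit 0, nat_lit 2, nat_lit 0]))) (.node (nat_lit 1378) (.leaf ((nat_lit 1042), [nat_lit 3, nat_lit 5, nat_lit 3, nat_lit 0, nat_lit 5, nat_lit 1, nat_lit 4, nat_lit 2, nat_lit 0, nat_lit 2, nat_lit 3, nat_lit 0, nat_lit 1, nat_lit 0, nat_lit 2, nat_lit 0])) (.node (nat_lit 1379) (.leaf ((nat_lit 1043), [nat_lit 5, nat_lit 2, nat_lit 0, nat_lit 5, nat_lit 4, nat_lit 0, nat_lit 4, nat_lit 1, nat_lit 3, nat_lit 0, nat_lit 1, nat_lit 0, nat_lit 1, nat_lit 0, nat_lit 2, nat_lit 0]))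 (.leaf ((nat_lit 1031), [nat_lit 3, nat_lit 1, nat_lit 5, nat_lit 2, nat_lit 5, nat_lit 0, nat_lit 2, nat_lit 2, nat_lit 3, nat_lit 2, nat_lit 4, nat_lit 1, nat_lit 0, nat_lit 1, nat_lit 0, nat_lit 2, nat_lit 2, nat_lit 0])))))
 (.node (nat_lit 1383) (.node (nat_lit 1381) (.leaf ((nat_lit 1044), [nat_lit 4, nat_lit 5, nat_lit 2, nat_lit 0, nat_lit 5, nat_lit 3, nat_lit 4, nat_lit 3, nat_lit 1, nat_lit 3, nat_lit 1, nat_lit 0, nat_lit 2, nat_lit 2, nat_lit 0, nat_lit 1])) (.node (nat_lit 1382) (.leaf ((nat_lit 510), [nat_lit 4, nat_lit 5, nat_lit 3, nat_lit 5, nat_lit 1, nat_lit 4, nat_lit 2, nat_lit 0, nat_lit 2, nat_lit 3, nat_lit 1])) (.leaf ((nat_lit 1045), [nat_lit 5, nat_lit 2, nat_lit 3, nat_lit 0, nat_lit 5, nat_lit 0, nat_lit 4, nat_lit 1, nat_lit 3, nat_lit 0, nat_lit 3, nat_lit 2, nat_lit 0, nat_lit 2])))) (.node (nat_lit 1384) (.leaf ((nat_lit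 1046), [nat_lit 5, nat_lit 1, nat_lit 5, nat_lit 3, nat_lit 4, nat_lit 1, nat_lit 3, nat_lit 0, nat_lit 3, nat_lit 2, nat_lit 0, nat_lit 2, nat_lit 0, nat_lit 1, nat_lit 0, nat_lit 1])) (.node (nat_lit 1385) (.leaf ((nat_lit 663), [nat_lit 1, nat_lit 5, nat_lit 2, nat_lit 5, nat_lit 1, nat_lit 3, nat_lit 0, nat_lit 4, nat_lit 2, nat_lit 2, nat_lit 0, nat_lit 1, nat_lit 0, nat_lit 2, nat_lit 0])) (.leaf ((nat_lit 1047), [nat_lit 4, nat_lit 1, nat_lit 0, nat_lit 5, nat_lit 2, nat_lit 2, nat_lit 4, nat_lit 2, nat_lit 4, nat_lit 0, nat_lit 1, nat_lit 0, nat_lit 2, nat_lit 2, nat_lit 0, nat_lit 1])))))))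
 (.node (nat_lit 1397) (.node (nat_lit 1391) (.node (nat_lit 1388) (.node (nat_lit 1387) (.leaf ((nat_lit 1048), [nat_lit 4, nat_lit 5, nat_lit 2, nat_lit 5, nat_lit 0, nat_lit 4, nat_lit 0, nat_lit 1, nat_lit 4, nat_lit 3, nat_lit 0, nat_lit 2, nat_lit 0])) (.leaf ((nat_lit 1049), [nat_lit 5, nat_lit 4, nat_lit 1, nat_lit 0, nat_lit 5, nat_lit 3, nat_lit 1, nat_lit 0, nat_lit 3, nat_lit 1, nat_lit 3, nat_lit 2, nat_lit 2, nat_lit 0, nat_lit 2, nat_lit 2, nat_lit 0]))) (.node (nat_lit 1389) (.leaf ((nat_lit 502), [nat_lit 4, nat_lit 0, nat_lit 5, nat_lit 2, nat_lit 5, nat_lit 3, nat_lit 4, nat_lit 3, nat_lit 2, nat_lit 3, nat_lit 2, nat_lit 0, nat_lit 2, nat_lit 2, nat_lit 0, nat_lit 1])) (.node (nat_lit 1390) (.leaf ((nat_lit 1050), [nat_lit 2, nat_lit 5, nat_lit 3, nat_lit 5, nat_lit 3, nat_lit 0, nat_lit 1, nat_lit 0, nat_lit 4, nat_lit 0, nat_lit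 2, nat_lit 0, nat_lit 2, nat_lit 2, nat_lit 0])) (.leaf ((nat_lit 565), [nat_lit 2, nat_lit 5, nat_lit 1, nat_lit 5, nat_lit 1, nat_lit 0, nat_lit 4, nat_lit 1, nat_lit 0, nat_lit 2, nat_lit 0, nat_lit 2])))))
 (.node (nat_lit 1394) (.node (nat_lit 1392) (.leaf ((nat_lit 1051), [nat_lit 2, nat_lit 4, nat_lit 2, nat_lit 0, nat_lit 5, nat_lit 3, nat_lit 4, nat_lit 2, nat_lit 3, nat_lit 0, nat_lit 2, nat_lit 2, nat_lit 0, nat_lit 1, nat_lit 0, nat_lit 2, nat_lit 0])) (.node (nat_lit 1393) (.leaf ((nat_lit 443), [nat_lit 3, nat_lit 5, nat_lit 2, nat_lit 3, nat_lit 0, nat_lit 5, nat_lit 4, nat_lit 1, nat_lit 0, nat_lit 2, nat_lit 4, nat_lit 0, nat_lit 2, nat_lit 2, nat_lit 0, nat_lit 2, nat_lit 0])) (.leaf ((nat_lit 1052), [nat_lit 1, nat_lit 0, nat_lit 5, nat_lit 3, nat_lit 5, nat_lit 0, nat_lit 4, nat_lit 3, nat_lit 2, nat_lit 2, nat_lit 0, nat_lit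 1, nat_lit 0, nat_lit 2, nat_lit 2, nat_lit 0])))) (.node (nat_lit 1395) (.leaf ((nat_lit 1053), [nat_lit 1, nat_lit 0, nat_lit 5, nat_lit 3, nat_lit 5, nat_lit 0, nat_lit 3, nat_lit 0, nat_lit 1, nat_lit 4, nat_lit 0, nat_lit 1, nat_lit 0, nat_lit 2, nat_lit 2, nat_lit 0, nat_lit 2])) (.node (nat_lit 1396) (.leaf ((nat_lit 1054), [nat_lit 3, nat_lit 1, nat_lit 5, nat_lit 0, nat_lit 5, nat_lit 3, nat_lit 4, nat_lit 1, nat_lit 4, nat_lit 3, nat_lit 2, nat_lit 0, nat_lit 2, nat_lit 0, nat_lit 1, nat_lit 0, nat_lit 1, nat_lit 0])) (.leaf ((nat_lit 1055), [nat_lit 3, nat_lit 4, nat_lit 5, nat_lit 4, nat_lit 0, nat_lit 4, nat_lit 2, nat_lit 0, nat_lit 3, nat_lit 2]))))))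
 (.node (nat_lit 1402) (.node (nat_lit 1399) (.node (nat_lit 1398) (.leaf ((nat_lit 1056), [nat_lit 4, nat_lit 1, nat_lit 0, nat_lit 5, nat_lit 4, nat_lit 1, nat_lit 3, nat_lit 0, nat_lit 1, nat_lit 0, nat_lit 1, nat_lit 0])) (.leaf ((nat_lit 1057), [nat_lit 4, nat_lit 1, nat_lit 0, nat_lit 5, nat_lit 4, nat_lit 2, nat_lit 3, nat_lit 4, nat_lit 3, nat_lit 0, nat_lit 1, nat_lit 0]))) (.node (nat_lit 1400) (.leaf ((nat_lit 1000), [nat_lit 5, nat_lit 4, nat_lit 5, nat_lit 3, nat_lit 5, nat_lit 1, nat_lit 4, nat_lit 1, nat_lit 4, nat_lit 3, nat_lit 2, nat_lit 2])) (.node (nat_lit 1401) (.leaf ((nat_lit 860), [nat_lit 3, nat_lit 5, nat_lit 4, nat_lit 3, nat_lit 0, nat_lit 4, nat_lit 1, nat_lit 0, nat_lit 3, nat_lit 1])) (.leaf ((nat_lit 147), [nat_lit 4, nat_lit 2, nat_lit 5, nat_lit 3, nat_lit 5, nat_lit 2, nat_lit 4, nat_lit 2, nat_lit 4, nat_lit 3,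 nat_lit 2, nat_lit 0, nat_lit 2, nat_lit 2])))))
 (.node (nat_lit 1405) (.node (nat_lit 1403) (.leaf ((nat_lit 1058), [nat_lit 3, nat_lit 5, nat_lit 2, nat_lit 4, nat_lit 3, nat_lit 0, nat_lit 4, nat_lit 0, nat_lit 1])) (.node (nat_lit 1404) (.leaf ((nat_lit 718), [nat_lit 4, nat_lit 3, nat_lit 5, nat_lit 2, nat_lit 5, nat_lit 2, nat_lit 4, nat_lit 2, nat_lit 3, nat_lit 2, nat_lit 0, nat_lit 2, nat_lit 2, nat_lit 0])) (.leaf ((nat_lit 1059), [nat_lit 3, nat_lit 2, nat_lit 5, nat_lit 2, nat_lit 3, nat_lit 1, nat_lit 3, nat_lit 4, nat_lit 3, nat_lit 0, nat_lit 2])))) (.node (nat_lit 1406) (.leaf ((nat_lit 1060), [nat_lit 5, nat_lit 0, nat_lit 3, nat_lit 5, nat_lit 2, nat_lit 3, nat_lit 4, nat_lit 2, nat_lit 4, nat_lit 0, nat_lit 2, nat_lit 0, nat_lit 1, nat_lit 0, nat_lit 1])) (.node (nat_lit 1407) (.leaf ((nat_lit 542), [nat_lit 5, nat_lit 1, nat_lit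 5, nat_lit 2, nat_lit 4, nat_lit 2, nat_lit 3, nat_lit 0, nat_lit 1, nat_lit 0, nat_lit 2, nat_lit 0, nat_lit 2, nat_lit 2, nat_lit 0])) (.leaf ((nat_lit 157), [nat_lit 3, nat_lit 1, nat_lit 5, nat_lit 0, nat_lit 5, nat_lit 3, nat_lit 1, nat_lit 0, nat_lit 3, nat_lit 1, nat_lit 3, nat_lit 0, nat_lit 2, nat_lit 0, nat_lit 1, nat_lit 0, nat_lit 1, nat_lit 0]))))))))))
noncomputable def qWd_8 : Tr (ℕ × List ℕ) := (.node (nat_lit 1496) (.node (nat_lit 1452) (.node (nat_lit 1430) (.node (nat_lit 1419) (.node (nat_lit 1413) (.node (nat_lit 1410) (.node (nat_lit 1409) (.leaf ((nat_lit 1061), [nat_lit 5, nat_lit 4, nat_lit 5, nat_lit 2, nat_lit 5, nat_lit 2, nat_lit 2, nat_lit 3, nat_lit 2, nat_lit 2, nat_lit 3, nat_lit 0, nat_lit 2, nat_lit 2, nat_lit 0, nat_lit 1, nat_lit 0])) (.leaf ((nat_lit 739), [nat_lit 1, nat_lit 5, nat_lit 3, nat_lit 5, nat_lit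 1, nat_lit 0, nat_lit 2, nat_lit 0, nat_lit 2, nat_lit 4, nat_lit 1]))) (.node (nat_lit 1411) (.leaf ((nat_lit 1062), [nat_lit 2, nat_lit 2, nat_lit 5, nat_lit 1, nat_lit 5, nat_lit 3, nat_lit 2, nat_lit 0, nat_lit 4, nat_lit 1, nat_lit 4, nat_lit 0, nat_lit 2, nat_lit 0, nat_lit 2, nat_lit 2])) (.node (nat_lit 1412) (.leaf ((nat_lit 227), [nat_lit 4, nat_lit 2, nat_lit 0, nat_lit 5, nat_lit 0, nat_lit 3, nat_lit 2, nat_lit 2, nat_lit 0, nat_lit 2, nat_lit 2, nat_lit 0, nat_lit 1])) (.leaf ((nat_lit 1063), [nat_lit 5, nat_lit 0, nat_lit 5, nat_lit 4, nat_lit 3, nat_lit 1, nat_lit 0, nat_lit 4, nat_lit 2, nat_lit 0, nat_lit 2, nat_lit 2, nat_lit 0])))))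
 (.node (nat_lit 1416) (.node (nat_lit 1414) (.leaf ((nat_lit 1064), [nat_lit 4, nat_lit 2, nat_lit 5, nat_lit 3, nat_lit 5, nat_lit 4, nat_lit 2, nat_lit 2, nat_lit 4, nat_lit 1, nat_lit 0, nat_lit 3, nat_lit 2, nat_lit 2, nat_lit 0, nat_lit 2, nat_lit 0, nat_lit 1, nat_lit 0])) (.node (nat_lit 1415) (.leaf ((nat_lit 1050), [nat_lit 1, nat_lit 0, nat_lit 5, nat_lit 3, nat_lit 5, nat_lit 0, nat_lit 3, nat_lit 0, nat_lit 2, nat_lit 4, nat_lit 3, nat_lit 2, nat_lit 0, nat_lit 1, nat_lit 0, nat_lit 2, nat_lit 0])) (.leaf ((nat_lit 1065), [nat_lit 3, nat_lit 1, nat_lit 3, nat_lit 0, nat_lit 5, nat_lit 1, nat_lit 0, nat_lit 1, nat_lit 4, nat_lit 3, nat_lit 2, nat_lit 0, nat_lit 1, nat_lit 0, nat_lit 2, nat_lit 0, nat_lit 2])))) (.node (nat_lit 1417) (.leaf ((nat_lit 67), [nat_lit 5, nat_lit 0, nat_lit 5, nat_lit 0, nat_lit 1, nat_lit 4, nat_lit 3, nat_lit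 2, nat_lit 3, nat_lit 2, nat_lit 0, nat_lit 2, nat_lit 0, nat_lit 1, nat_lit 0, nat_lit 1])) (.node (nat_lit 1418) (.leaf ((nat_lit 884), [nat_lit 0, nat_lit 4, nat_lit 5, nat_lit 2, nat_lit 4, nat_lit 0, nat_lit 1, nat_lit 4, nat_lit 2, nat_lit 2, nat_lit 0, nat_lit 1, nat_lit 0, nat_lit 2, nat_lit 2])) (.leaf ((nat_lit 1066), [nat_lit 1, nat_lit 5, nat_lit 0, nat_lit 5, nat_lit 0, nat_lit 3, nat_lit 2, nat_lit 3, nat_lit 2, nat_lit 3, nat_lit 2, nat_lit 0, nat_lit 2, nat_lit 2, nat_lit 0, nat_lit 2, nat_lit 2, nat_lit 0]))))))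
 (.node (nat_lit 1424) (.node (nat_lit 1421) (.node (nat_lit 1420) (.leaf ((nat_lit 1067), [nat_lit 3, nat_lit 5, nat_lit 1, nat_lit 3, nat_lit 0, nat_lit 5, nat_lit 3, nat_lit 4, nat_lit 0, nat_lit 3, nat_lit 4, nat_lit 0, nat_lit 1, nat_lit 0, nat_lit 2, nat_lit 0, nat_lit 2, nat_lit 2])) (.leaf ((nat_lit 667), [nat_lit 3, nat_lit 0, nat_lit 5, nat_lit 3, nat_lit 5, nat_lit 1, nat_lit 3, nat_lit 2, nat_lit 4, nat_lit 2, nat_lit 3, nat_lit 0, nat_lit 2, nat_lit 2, nat_lit 0, nat_lit 2, nat_lit 2, nat_lit 0]))) (.node (nat_lit 1422) (.leaf ((nat_lit 870), [nat_lit 5, nat_lit 4, nat_lit 5, nat_lit 1, nat_lit 5, nat_lit 0, nat_lit 1, nat_lit 4, nat_lit 1, nat_lit 0, nat_lit 3, nat_lit 2, nat_lit 2, nat_lit 0, nat_lit 2, nat_lit 2])) (.node (nat_lit 1423) (.leaf ((nat_lit 195), [nat_lit 4, nat_lit 1, nat_lit 5, nat_lit 2, nat_lit 5, nat_lit 4, nat_lit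 2, nat_lit 4, nat_lit 2, nat_lit 3, nat_lit 2, nat_lit 0, nat_lit 2, nat_lit 2, nat_lit 0, nat_lit 2, nat_lit 2, nat_lit 0])) (.leaf ((nat_lit 1068), [nat_lit 5, nat_lit 4, nat_lit 1, nat_lit 0, nat_lit 5, nat_lit 4, nat_lit 1, nat_lit 0, nat_lit 2, nat_lit 3, nat_lit 2, nat_lit 2])))))
 (.node (nat_lit 1427) (.node (nat_lit 1425) (.leaf ((nat_lit 1069), [nat_lit 0, nat_lit 2, nat_lit 4, nat_lit 0, nat_lit 5, nat_lit 1, nat_lit 4, nat_lit 1, nat_lit 0, nat_lit 3, nat_lit 2, nat_lit 0])) (.node (nat_lit 1426) (.leaf ((nat_lit 1070), [nat_lit 2, nat_lit 4, nat_lit 2, nat_lit 0, nat_lit 5, nat_lit 4, nat_lit 3, nat_lit 0, nat_lit 4, nat_lit 1, nat_lit 0, nat_lit 3, nat_lit 2, nat_lit 0, nat_lit 2, nat_lit 2, nat_lit 0, nat_lit 2])) (.leaf ((nat_lit 1071), [nat_lit 4, nat_lit 1, nat_lit 5, nat_lit 3, nat_lit 5, nat_lit 4, nat_lit 2, nat_lit 3, nat_lit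 0, nat_lit 4, nat_lit 2, nat_lit 0, nat_lit 1, nat_lit 0, nat_lit 1, nat_lit 0])))) (.node (nat_lit 1428) (.leaf ((nat_lit 1072), [nat_lit 2, nat_lit 4, nat_lit 5, nat_lit 2, nat_lit 0, nat_lit 5, nat_lit 2, nat_lit 3, nat_lit 4, nat_lit 3, nat_lit 2, nat_lit 3, nat_lit 0, nat_lit 2, nat_lit 0, nat_lit 2])) (.node (nat_lit 1429) (.leaf ((nat_lit 1073), [nat_lit 0, nat_lit 5, nat_lit 0, nat_lit 1, nat_lit 5, nat_lit 3, nat_lit 2, nat_lit 0, nat_lit 2, nat_lit 3, nat_lit 1, nat_lit 0, nat_lit 2, nat_lit 0, nat_lit 1, nat_lit 0])) (.leaf ((nat_lit 1074), [nat_lit 2, nat_lit 2, nat_lit 0, nat_lit 5, nat_lit 0, nat_lit 1, nat_lit 3, nat_lit 0, nat_lit 3, nat_lit 0, nat_lit 2, nat_lit 0, nat_lit 2])))))))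
 (.node (nat_lit 1441) (.node (nat_lit 1435) (.node (nat_lit 1432) (.node (nat_lit 1431) (.leaf ((nat_lit 1075), [nat_lit 5, nat_lit 4, nat_lit 3, nat_lit 5, nat_lit 2, nat_lit 5, nat_lit 1, nat_lit 0, nat_lit 1, nat_lit 4, nat_lit 3, nat_lit 2, nat_lit 0, nat_lit 1, nat_lit 0, nat_lit 1])) (.leaf ((nat_lit 1076), [nat_lit 2, nat_lit 5, nat_lit 3, nat_lit 5, nat_lit 0, nat_lit 4, nat_lit 1, nat_lit 3, nat_lit 0, nat_lit 3, nat_lit 2]))) (.node (nat_lit 1433) (.leaf ((nat_lit 1077), [nat_lit 2, nat_lit 2, nat_lit 3, nat_lit 2, nat_lit 2, nat_lit 3, nat_lit 2, nat_lit 0, nat_lit 1, nat_lit 0, nat_lit 2])) (.node (nat_lit 1434) (.leaf ((nat_lit 206), [nat_lit 2, nat_lit 5, nat_lit 1, nat_lit 0, nat_lit 4, nat_lit 1, nat_lit 3, nat_lit 0, nat_lit 2, nat_lit 0, nat_lit 1])) (.leaf ((nat_lit 930), [nat_lit 5, nat_lit 0, nat_lit 4, nat_lit 5, nat_lit 1,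 nat_lit 4, nat_lit 1, nat_lit 4, nat_lit 1, nat_lit 0, nat_lit 2, nat_lit 2, nat_lit 0, nat_lit 2, nat_lit 0])))))
 (.node (nat_lit 1438) (.node (nat_lit 1436) (.leaf ((nat_lit 1078), [nat_lit 0, nat_lit 1, nat_lit 5, nat_lit 4, nat_lit 3, nat_lit 2, nat_lit 0, nat_lit 3, nat_lit 1, nat_lit 0, nat_lit 2, nat_lit 2, nat_lit 0, nat_lit 1, nat_lit 0])) (.node (nat_lit 1437) (.leaf ((nat_lit 1079), [nat_lit 1, nat_lit 5, nat_lit 2, nat_lit 5, nat_lit 2, nat_lit 0, nat_lit 4, nat_lit 1, nat_lit 3, nat_lit 2, nat_lit 2, nat_lit 0, nat_lit 2, nat_lit 2, nat_lit 0, nat_lit 1, nat_lit 0])) (.leaf ((nat_lit 734), [nat_lit 4, nat_lit 2, nat_lit 0, nat_lit 2, nat_lit 2, nat_lit 0])))) (.node (nat_lit 1439) (.leaf ((nat_lit 301), [nat_lit 5, nat_lit 4, nat_lit 3, nat_lit 2, nat_lit 5, nat_lit 4, nat_lit 0, nat_lit 4, nat_lit 3, nat_lit 0, nat_lit 1])) (.node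 (nat_lit 1440) (.leaf ((nat_lit 552), [nat_lit 3, nat_lit 2, nat_lit 5, nat_lit 0, nat_lit 5, nat_lit 1, nat_lit 0, nat_lit 3, nat_lit 4, nat_lit 0, nat_lit 3, nat_lit 0, nat_lit 1, nat_lit 0, nat_lit 1, nat_lit 0, nat_lit 2, nat_lit 0])) (.leaf ((nat_lit 1080), [nat_lit 5, nat_lit 3, nat_lit 5, nat_lit 1, nat_lit 0, nat_lit 1, nat_lit 0, nat_lit 3, nat_lit 2, nat_lit 0, nat_lit 1, nat_lit 0, nat_lit 2, nat_lit 0, nat_lit 2, nat_lit 0]))))))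
 (.node (nat_lit 1446) (.node (nat_lit 1443) (.node (nat_lit 1442) (.leaf ((nat_lit 927), [nat_lit 5, nat_lit 2, nat_lit 4, nat_lit 0, nat_lit 1, nat_lit 0, nat_lit 3, nat_lit 2, nat_lit 2, nat_lit 0])) (.leaf ((nat_lit 1081), [nat_lit 2, nat_lit 4, nat_lit 2, nat_lit 0, nat_lit 5, nat_lit 3, nat_lit 2, nat_lit 4, nat_lit 3, nat_lit 2, nat_lit 2, nat_lit 0, nat_lit 1]))) (.node (nat_lit 1444) (.leaf ((nat_lit 233), [nat_lit 2, nat_lit 4, nat_lit 5, nat_lit 2, nat_lit 0, nat_lit 5, nat_lit 1, nat_lit 3, nat_lit 4, nat_lit 0, nat_lit 2, nat_lit 4, nat_lit 2, nat_lit 2, nat_lit 0, nat_lit 2, nat_lit 2, nat_lit 0, nat_lit 2, nat_lit 0])) (.node (nat_lit 1445) (.leaf ((nat_lit 1082), [nat_lit 5, nat_lit 0, nat_lit 4, nat_lit 5, nat_lit 1, nat_lit 0, nat_lit 3, nat_lit 4, nat_lit 0, nat_lit 2, nat_lit 2, nat_lit 0, nat_lit 1, nat_lit 0, nat_lit 2, nat_lit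 0])) (.leaf ((nat_lit 334), [nat_lit 0, nat_lit 2, nat_lit 5, nat_lit 3, nat_lit 5, nat_lit 3, nat_lit 0, nat_lit 3, nat_lit 0, nat_lit 4, nat_lit 2, nat_lit 0])))))
 (.node (nat_lit 1449) (.node (nat_lit 1447) (.leaf ((nat_lit 862), [nat_lit 4, nat_lit 3, nat_lit 2, nat_lit 3, nat_lit 0, nat_lit 3, nat_lit 0, nat_lit 1, nat_lit 0, nat_lit 2, nat_lit 0, nat_lit 2])) (.node (nat_lit 1448) (.leaf ((nat_lit 1083), [nat_lit 0, nat_lit 5, nat_lit 2, nat_lit 3, nat_lit 5, nat_lit 3, nat_lit 2, nat_lit 4, nat_lit 2, nat_lit 3, nat_lit 4, nat_lit 0, nat_lit 2, nat_lit 2, nat_lit 0, nat_lit 1, nat_lit 0])) (.leaf ((nat_lit 417), [nat_lit 2, nat_lit 5, nat_lit 0, nat_lit 4, nat_lit 3, nat_lit 2, nat_lit 3, nat_lit 0, nat_lit 1, nat_lit 0, nat_lit 2, nat_lit 0, nat_lit 2, nat_lit 2, nat_lit 0])))) (.node (nat_lit 1450) (.leaf ((nat_lit 1084), [nat_lit 4, nat_lit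 3, nat_lit 5, nat_lit 2, nat_lit 5, nat_lit 3, nat_lit 4, nat_lit 3, nat_lit 1, nat_lit 4, nat_lit 3, nat_lit 0, nat_lit 2, nat_lit 2, nat_lit 0, nat_lit 1, nat_lit 0, nat_lit 2])) (.node (nat_lit 1451) (.leaf ((nat_lit 1085), [nat_lit 1, nat_lit 5, nat_lit 0, nat_lit 5, nat_lit 1, nat_lit 0, nat_lit 4, nat_lit 2, nat_lit 0, nat_lit 1, nat_lit 0, nat_lit 2, nat_lit 2])) (.leaf ((nat_lit 1086), [nat_lit 5, nat_lit 2, nat_lit 4, nat_lit 0, nat_lit 1, nat_lit 4, nat_lit 1, nat_lit 0, nat_lit 1, nat_lit 0]))))))))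
 (.node (nat_lit 1474) (.node (nat_lit 1463) (.node (nat_lit 1457) (.node (nat_lit 1454) (.node (nat_lit 1453) (.leaf ((nat_lit 144), [nat_lit 0, nat_lit 5, nat_lit 2, nat_lit 5, nat_lit 1, nat_lit 3, nat_lit 4, nat_lit 2, nat_lit 3, nat_lit 2, nat_lit 0, nat_lit 2, nat_lit 2, nat_lit 0, nat_lit 2, nat_lit 2])) (.leaf ((nat_lit 1087), [nat_lit 5, nat_lit 4, nat_lit 3, nat_lit 0, nat_lit 5, nat_lit 3, nat_lit 2, nat_lit 3, nat_lit 2, nat_lit 0, nat_lit 3, nat_lit 2, nat_lit 0, nat_lit 2, nat_lit 0, nat_lit 1, nat_lit 0, nat_lit 1, nat_lit 0]))) (.node (nat_lit 1455) (.leaf ((nat_lit 1088), [nat_lit 0, nat_lit 5, nat_lit 2, nat_lit 3, nat_lit 5, nat_lit 3, nat_lit 1, nat_lit 3, nat_lit 0, nat_lit 1, nat_lit 0, nat_lit 2, nat_lit 2, nat_lit 0, nat_lit 1])) (.node (nat_lit 1456) (.leaf ((nat_lit 1089), [nat_lit 2, nat_lit 3, nat_lit 5, nat_lit 0, nat_lit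 3, nat_lit 4, nat_lit 0, nat_lit 3, nat_lit 0, nat_lit 1, nat_lit 0, nat_lit 2, nat_lit 2, nat_lit 0])) (.leaf ((nat_lit 4), [nat_lit 5, nat_lit 2, nat_lit 3, nat_lit 5, nat_lit 3, nat_lit 4, nat_lit 3, nat_lit 1, nat_lit 3, nat_lit 1])))))
 (.node (nat_lit 1460) (.node (nat_lit 1458) (.leaf ((nat_lit 41), [nat_lit 1, nat_lit 4, nat_lit 2, nat_lit 5, nat_lit 3, nat_lit 0, nat_lit 4, nat_lit 3, nat_lit 0, nat_lit 3, nat_lit 2, nat_lit 2, nat_lit 0, nat_lit 2, nat_lit 2, nat_lit 0, nat_lit 2])) (.node (nat_lit 1459) (.leaf ((nat_lit 422), [nat_lit 2, nat_lit 3, nat_lit 0, nat_lit 5, nat_lit 4, nat_lit 0, nat_lit 1, nat_lit 4, nat_lit 3, nat_lit 0, nat_lit 2, nat_lit 2, nat_lit 0, nat_lit 1, nat_lit 0, nat_lit 2])) (.leaf ((nat_lit 1090), [nat_lit 2, nat_lit 5, nat_lit 2, nat_lit 3, nat_lit 2, nat_lit 0, nat_lit 4, nat_lit 0, nat_lit 2, nat_lit 2, nat_lit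 0, nat_lit 1, nat_lit 0, nat_lit 2, nat_lit 0])))) (.node (nat_lit 1461) (.leaf ((nat_lit 1091), [nat_lit 0, nat_lit 5, nat_lit 3, nat_lit 0, nat_lit 5, nat_lit 4, nat_lit 3, nat_lit 0, nat_lit 3, nat_lit 2, nat_lit 0, nat_lit 2, nat_lit 2, nat_lit 0, nat_lit 2, nat_lit 2])) (.node (nat_lit 1462) (.leaf ((nat_lit 375), [nat_lit 2, nat_lit 5, nat_lit 3, nat_lit 5, nat_lit 1, nat_lit 4, nat_lit 2, nat_lit 4, nat_lit 3, nat_lit 0, nat_lit 1, nat_lit 0, nat_lit 1, nat_lit 0, nat_lit 2])) (.leaf ((nat_lit 742), [nat_lit 3, nat_lit 5, nat_lit 0, nat_lit 5, nat_lit 3, nat_lit 2, nat_lit 3, nat_lit 2, nat_lit 2, nat_lit 3, nat_lit 2, nat_lit 0, nat_lit 2, nat_lit 2, nat_lit 0, nat_lit 2, nat_lit 2]))))))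
 (.node (nat_lit 1468) (.node (nat_lit 1465) (.node (nat_lit 1464) (.leaf ((nat_lit 897), [nat_lit 3, nat_lit 4, nat_lit 3, nat_lit 5, nat_lit 1, nat_lit 0, nat_lit 2, nat_lit 4, nat_lit 1, nat_lit 0, nat_lit 2, nat_lit 0, nat_lit 1])) (.leaf ((nat_lit 877), [nat_lit 2, nat_lit 3, nat_lit 5, nat_lit 4, nat_lit 1, nat_lit 4, nat_lit 2, nat_lit 4, nat_lit 3, nat_lit 1, nat_lit 0, nat_lit 2, nat_lit 2, nat_lit 0, nat_lit 2, nat_lit 2]))) (.node (nat_lit 1466) (.leaf ((nat_lit 446), [nat_lit 1, nat_lit 3, nat_lit 2, nat_lit 5, nat_lit 0, nat_lit 4, nat_lit 1, nat_lit 0, nat_lit 3, nat_lit 0, nat_lit 2, nat_lit 0, nat_lit 2, nat_lit 2, nat_lit 0, nat_lit 2, nat_lit 0])) (.node (nat_lit 1467) (.leaf ((nat_lit 1092), [nat_lit 5, nat_lit 1, nat_lit 5, nat_lit 0, nat_lit 5, nat_lit 2, nat_lit 4, nat_lit 0, nat_lit 4, nat_lit 3, nat_lit 0, nat_lit 1, nat_lit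 0, nat_lit 2, nat_lit 0, nat_lit 2, nat_lit 2, nat_lit 0])) (.leaf ((nat_lit 1093), [nat_lit 4, nat_lit 5, nat_lit 1, nat_lit 4, nat_lit 1, nat_lit 3, nat_lit 4, nat_lit 0, nat_lit 1, nat_lit 0, nat_lit 2, nat_lit 2, nat_lit 0, nat_lit 1])))))
 (.node (nat_lit 1471) (.node (nat_lit 1469) (.leaf ((nat_lit 1094), [nat_lit 2, nat_lit 4, nat_lit 0, nat_lit 5, nat_lit 2, nat_lit 4, nat_lit 1, nat_lit 3, nat_lit 1, nat_lit 3, nat_lit 0, nat_lit 1, nat_lit 0, nat_lit 2, nat_lit 0])) (.node (nat_lit 1470) (.leaf ((nat_lit 928), [nat_lit 0, nat_lit 5, nat_lit 4, nat_lit 3, nat_lit 0, nat_lit 2, nat_lit 2, nat_lit 3, nat_lit 2, nat_lit 2])) (.leaf ((nat_lit 1095), [nat_lit 3, nat_lit 5, nat_lit 0, nat_lit 5, nat_lit 2, nat_lit 2, nat_lit 4, nat_lit 3, nat_lit 0, nat_lit 2, nat_lit 0, nat_lit 1, nat_lit 0, nat_lit 1])))) (.node (nat_lit 1472) (.leaf ((nat_lit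 1096), [nat_lit 5, nat_lit 4, nat_lit 5, nat_lit 1, nat_lit 5, nat_lit 3, nat_lit 2, nat_lit 0, nat_lit 3, nat_lit 1, nat_lit 4, nat_lit 1, nat_lit 0, nat_lit 1, nat_lit 0, nat_lit 2, nat_lit 0, nat_lit 2])) (.node (nat_lit 1473) (.leaf ((nat_lit 218), [nat_lit 4, nat_lit 5, nat_lit 2, nat_lit 3, nat_lit 5, nat_lit 3, nat_lit 1, nat_lit 4, nat_lit 0, nat_lit 4, nat_lit 1, nat_lit 0, nat_lit 1, nat_lit 0, nat_lit 2, nat_lit 0, nat_lit 2])) (.leaf ((nat_lit 699), [nat_lit 0, nat_lit 5, nat_lit 3, nat_lit 0, nat_lit 5, nat_lit 1, nat_lit 4, nat_lit 0, nat_lit 4, nat_lit 1, nat_lit 0, nat_lit 1, nat_lit 0, nat_lit 2, nat_lit 0, nat_lit 2, nat_lit 0])))))))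
 (.node (nat_lit 1485) (.node (nat_lit 1479) (.node (nat_lit 1476) (.node (nat_lit 1475) (.leaf ((nat_lit 28), [nat_lit 5, nat_lit 4, nat_lit 5, nat_lit 1, nat_lit 5, nat_lit 4, nat_lit 1, nat_lit 3, nat_lit 4, nat_lit 3, nat_lit 0, nat_lit 2, nat_lit 0, nat_lit 2])) (.leaf ((nat_lit 791), [nat_lit 3, nat_lit 5, nat_lit 0, nat_lit 5, nat_lit 3, nat_lit 1, nat_lit 4, nat_lit 3, nat_lit 2, nat_lit 0, nat_lit 2, nat_lit 0, nat_lit 1, nat_lit 0, nat_lit 1]))) (.node (nat_lit 1477) (.leaf ((nat_lit 1097), [nat_lit 2, nat_lit 0, nat_lit 1, nat_lit 5, nat_lit 4, nat_lit 0, nat_lit 3, nat_lit 4, nat_lit 3, nat_lit 2, nat_lit 2, nat_lit 0, nat_lit 1, nat_lit 0, nat_lit 2])) (.node (nat_lit 1478) (.leaf ((nat_lit 1098), [nat_lit 4, nat_lit 2, nat_lit 5, nat_lit 3, nat_lit 5, nat_lit 4, nat_lit 2, nat_lit 4, nat_lit 1, nat_lit 0, nat_lit 1, nat_lit 0, nat_lit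 2, nat_lit 0, nat_lit 2, nat_lit 0])) (.leaf ((nat_lit 1099), [nat_lit 2, nat_lit 5, nat_lit 1, nat_lit 5, nat_lit 1, nat_lit 3, nat_lit 1, nat_lit 3, nat_lit 1, nat_lit 0, nat_lit 2])))))
 (.node (nat_lit 1482) (.node (nat_lit 1480) (.leaf ((nat_lit 1100), [nat_lit 1, nat_lit 5, nat_lit 1, nat_lit 5, nat_lit 3, nat_lit 2, nat_lit 0, nat_lit 4, nat_lit 0, nat_lit 1, nat_lit 0])) (.node (nat_lit 1481) (.leaf ((nat_lit 992), [nat_lit 0, nat_lit 5, nat_lit 2, nat_lit 3, nat_lit 5, nat_lit 3, nat_lit 4, nat_lit 0, nat_lit 2, nat_lit 4, nat_lit 0, nat_lit 2, nat_lit 0, nat_lit 2, nat_lit 2])) (.leaf ((nat_lit 194), [nat_lit 4, nat_lit 5, nat_lit 3, nat_lit 0, nat_lit 5, nat_lit 4, nat_lit 3, nat_lit 1, nat_lit 0, nat_lit 2, nat_lit 3, nat_lit 1, nat_lit 0, nat_lit 2, nat_lit 2, nat_lit 0, nat_lit 1, nat_lit 0])))) (.node (nat_lit 1483) (.leaf ((nat_lit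 466), [nat_lit 4, nat_lit 3, nat_lit 0, nat_lit 5, nat_lit 0, nat_lit 4, nat_lit 2, nat_lit 0, nat_lit 3, nat_lit 0, nat_lit 1, nat_lit 0, nat_lit 2, nat_lit 2])) (.node (nat_lit 1484) (.leaf ((nat_lit 54), [nat_lit 5, nat_lit 4, nat_lit 3, nat_lit 5, nat_lit 2, nat_lit 5, nat_lit 1, nat_lit 4, nat_lit 3, nat_lit 1, nat_lit 3, nat_lit 2, nat_lit 0, nat_lit 2, nat_lit 0])) (.leaf ((nat_lit 1101), [nat_lit 3, nat_lit 2, nat_lit 5, nat_lit 4, nat_lit 3, nat_lit 0, nat_lit 2, nat_lit 2, nat_lit 3, nat_lit 2, nat_lit 0, nat_lit 2, nat_lit 0, nat_lit 1]))))))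
 (.node (nat_lit 1490) (.node (nat_lit 1487) (.node (nat_lit 1486) (.leaf ((nat_lit 1102), [nat_lit 5, nat_lit 4, nat_lit 0, nat_lit 5, nat_lit 3, nat_lit 0, nat_lit 3, nat_lit 4, nat_lit 1])) (.leaf ((nat_lit 1103), [nat_lit 3, nat_lit 1, nat_lit 5, nat_lit 0, nat_lit 5, nat_lit 1, nat_lit 3, nat_lit 2, nat_lit 0, nat_lit 2, nat_lit 2, nat_lit 0, nat_lit 1]))) (.node (nat_lit 1488) (.leaf ((nat_lit 1104), [nat_lit 5, nat_lit 0, nat_lit 4, nat_lit 5, nat_lit 4, nat_lit 0, nat_lit 3, nat_lit 0, nat_lit 1, nat_lit 4, nat_lit 2, nat_lit 0, nat_lit 2, nat_lit 0])) (.node (nat_lit 1489) (.leaf ((nat_lit 1105), [nat_lit 0, nat_lit 2, nat_lit 5, nat_lit 3, nat_lit 2, nat_lit 0, nat_lit 4, nat_lit 0, nat_lit 2, nat_lit 2, nat_lit 0, nat_lit 1, nat_lit 0])) (.leaf ((nat_lit 942), [nat_lit 2, nat_lit 5, nat_lit 3, nat_lit 2, nat_lit 3, nat_lit 2, nat_lit 0,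 nat_lit 2])))))
 (.node (nat_lit 1493) (.node (nat_lit 1491) (.leaf ((nat_lit 986), [nat_lit 2, nat_lit 3, nat_lit 5, nat_lit 0, nat_lit 5, nat_lit 0, nat_lit 3, nat_lit 2, nat_lit 3, nat_lit 2, nat_lit 3, nat_lit 2, nat_lit 0])) (.node (nat_lit 1492) (.leaf ((nat_lit 1106), [nat_lit 4, nat_lit 1, nat_lit 5, nat_lit 3, nat_lit 5, nat_lit 4, nat_lit 3, nat_lit 0, nat_lit 1, nat_lit 0, nat_lit 3, nat_lit 2, nat_lit 0, nat_lit 2, nat_lit 2, nat_lit 0, nat_lit 2, nat_lit 0])) (.leaf ((nat_lit 1107), [nat_lit 4, nat_lit 5, nat_lit 2, nat_lit 3, nat_lit 5, nat_lit 1, nat_lit 3, nat_lit 4, nat_lit 0, nat_lit 2, nat_lit 4, nat_lit 2, nat_lit 0, nat_lit 1, nat_lit 0, nat_lit 2])))) (.node (nat_lit 1494) (.leaf ((nat_lit 676), [nat_lit 2, nat_lit 5, nat_lit 2, nat_lit 2, nat_lit 4, nat_lit 0, nat_lit 4, nat_lit 0, nat_lit 1, nat_lit 0, nat_lit 2, nat_lit 0,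 nat_lit 2, nat_lit 2, nat_lit 0])) (.node (nat_lit 1495) (.leaf ((nat_lit 1108), [nat_lit 5, nat_lit 2, nat_lit 4, nat_lit 0, nat_lit 5, nat_lit 0, nat_lit 4, nat_lit 3, nat_lit 0, nat_lit 4, nat_lit 2, nat_lit 2, nat_lit 0, nat_lit 2, nat_lit 2, nat_lit 0, nat_lit 2, nat_lit 2, nat_lit 0])) (.leaf ((nat_lit 396), [nat_lit 2, nat_lit 2, nat_lit 0, nat_lit 5, nat_lit 3, nat_lit 4, nat_lit 2, nat_lit 4, nat_lit 2, nat_lit 3, nat_lit 0, nat_lit 1, nat_lit 0, nat_lit 2])))))))))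
 (.node (nat_lit 1540) (.node (nat_lit 1518) (.node (nat_lit 1507) (.node (nat_lit 1501) (.node (nat_lit 1498) (.node (nat_lit 1497) (.leaf ((nat_lit 975), [nat_lit 2, nat_lit 2, nat_lit 5, nat_lit 2, nat_lit 0, nat_lit 3, nat_lit 0, nat_lit 2, nat_lit 3, nat_lit 0, nat_lit 2, nat_lit 2, nat_lit 0, nat_lit 2])) (.leaf ((nat_lit 1109), [nat_lit 0, nat_lit 2, nat_lit 5, nat_lit 3, nat_lit 5, nat_lit 3, nat_lit 2, nat_lit 2, nat_lit 4, nat_lit 3, nat_lit 2, nat_lit 0, nat_lit 2, nat_lit 0, nat_lit 1, nat_lit 0, nat_lit 1]))) (.node (nat_lit 1499) (.leaf ((nat_lit 905), [nat_lit 3, nat_lit 5, nat_lit 3, nat_lit 0, nat_lit 5, nat_lit 0, nat_lit 4, nat_lit 2, nat_lit 0, nat_lit 2, nat_lit 3, nat_lit 0, nat_lit 1, nat_lit 0, nat_lit 2, nat_lit 2, nat_lit 0, nat_lit 2])) (.node (nat_lit 1500) (.leaf ((nat_lit 1030), [nat_lit 4, nat_lit 5, nat_lit 4, nat_lit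 0, nat_lit 5, nat_lit 0, nat_lit 4, nat_lit 3, nat_lit 2, nat_lit 0, nat_lit 3, nat_lit 2, nat_lit 0, nat_lit 2, nat_lit 2, nat_lit 0, nat_lit 2, nat_lit 0])) (.leaf ((nat_lit 1110), [nat_lit 5, nat_lit 4, nat_lit 3, nat_lit 5, nat_lit 2, nat_lit 5, nat_lit 4, nat_lit 1, nat_lit 3, nat_lit 0, nat_lit 1, nat_lit 4, nat_lit 1, nat_lit 0, nat_lit 1, nat_lit 0, nat_lit 2, nat_lit 0, nat_lit 2, nat_lit 0])))))
 (.node (nat_lit 1504) (.node (nat_lit 1502) (.leaf ((nat_lit 627), [nat_lit 0, nat_lit 5, nat_lit 2, nat_lit 5, nat_lit 4, nat_lit 2, nat_lit 4, nat_lit 1, nat_lit 0, nat_lit 3, nat_lit 1, nat_lit 0, nat_lit 1, nat_lit 0, nat_lit 2, nat_lit 0, nat_lit 2])) (.node (nat_lit 1503) (.leaf ((nat_lit 1111), [nat_lit 0, nat_lit 2, nat_lit 5, nat_lit 3, nat_lit 5, nat_lit 0, nat_lit 4, nat_lit 2, nat_lit 0, nat_lit 3, nat_lit 2, nat_lit 2, nat_lit 0, nat_lit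 1, nat_lit 0, nat_lit 2])) (.leaf ((nat_lit 1112), [nat_lit 5, nat_lit 2, nat_lit 0, nat_lit 2, nat_lit 5, nat_lit 3, nat_lit 1, nat_lit 3, nat_lit 1, nat_lit 3, nat_lit 0, nat_lit 2, nat_lit 2, nat_lit 0, nat_lit 1, nat_lit 0, nat_lit 2, nat_lit 0])))) (.node (nat_lit 1505) (.leaf ((nat_lit 0), [nat_lit 5, nat_lit 1, nat_lit 5, nat_lit 4, nat_lit 2, nat_lit 0, nat_lit 3, nat_lit 0, nat_lit 4, nat_lit 2, nat_lit 2, nat_lit 0, nat_lit 2, nat_lit 2, nat_lit 0, nat_lit 2, nat_lit 2])) (.node (nat_lit 1506) (.leaf ((nat_lit 997), [nat_lit 0, nat_lit 5, nat_lit 3, nat_lit 4, nat_lit 1, nat_lit 3, nat_lit 2, nat_lit 2, nat_lit 0, nat_lit 1, nat_lit 0])) (.leaf ((nat_lit 1113), [nat_lit 3, nat_lit 5, nat_lit 3, nat_lit 0, nat_lit 5, nat_lit 4, nat_lit 0, nat_lit 3, nat_lit 4, nat_lit 2, nat_lit 0, nat_lit 1, nat_lit 0, nat_lit 2, nat_lit 2, nat_lit 0]))))))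
 (.node (nat_lit 1512) (.node (nat_lit 1509) (.node (nat_lit 1508) (.leaf ((nat_lit 111), [nat_lit 3, nat_lit 2, nat_lit 5, nat_lit 0, nat_lit 5, nat_lit 4, nat_lit 3, nat_lit 2, nat_lit 4, nat_lit 3, nat_lit 0, nat_lit 2, nat_lit 2, nat_lit 0, nat_lit 1, nat_lit 0])) (.leaf ((nat_lit 110), [nat_lit 2, nat_lit 0, nat_lit 1, nat_lit 5, nat_lit 2, nat_lit 4, nat_lit 1, nat_lit 0, nat_lit 2, nat_lit 3, nat_lit 0, nat_lit 2, nat_lit 2, nat_lit 0, nat_lit 2, nat_lit 0, nat_lit 1]))) (.node (nat_lit 1510) (.leaf ((nat_lit 60), [nat_lit 3, nat_lit 5, nat_lit 1, nat_lit 3, nat_lit 2, nat_lit 5, nat_lit 3, nat_lit 2, nat_lit 0, nat_lit 3, nat_lit 1, nat_lit 4, nat_lit 2, nat_lit 0, nat_lit 1, nat_lit 0, nat_lit 2, nat_lit 2])) (.node (nat_lit 1511) (.leaf ((nat_lit 1114), [nat_lit 5, nat_lit 4, nat_lit 3, nat_lit 2, nat_lit 5, nat_lit 0, nat_lit 3, nat_lit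 1, nat_lit 3, nat_lit 0, nat_lit 1, nat_lit 0, nat_lit 1, nat_lit 0, nat_lit 2, nat_lit 0])) (.leaf ((nat_lit 712), [nat_lit 2, nat_lit 0, nat_lit 5, nat_lit 3, nat_lit 2, nat_lit 4, nat_lit 2, nat_lit 3, nat_lit 0, nat_lit 2, nat_lit 2, nat_lit 0, nat_lit 1])))))
 (.node (nat_lit 1515) (.node (nat_lit 1513) (.leaf ((nat_lit 1115), [nat_lit 3, nat_lit 5, nat_lit 3, nat_lit 0, nat_lit 5, nat_lit 4, nat_lit 2, nat_lit 4, nat_lit 3, nat_lit 2, nat_lit 0, nat_lit 1, nat_lit 0, nat_lit 1, nat_lit 0, nat_lit 2])) (.node (nat_lit 1514) (.leaf ((nat_lit 1116), [nat_lit 5, nat_lit 3, nat_lit 2, nat_lit 5, nat_lit 0, nat_lit 4, nat_lit 0, nat_lit 1, nat_lit 0, nat_lit 3, nat_lit 0, nat_lit 1, nat_lit 0, nat_lit 2, nat_lit 2, nat_lit 0, nat_lit 1])) (.leaf ((nat_lit 1117), [nat_lit 5, nat_lit 4, nat_lit 3, nat_lit 2, nat_lit 5, nat_lit 2, nat_lit 0, nat_lit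 4, nat_lit 1, nat_lit 3, nat_lit 2, nat_lit 0, nat_lit 2, nat_lit 2])))) (.node (nat_lit 1516) (.leaf ((nat_lit 1023), [nat_lit 0, nat_lit 5, nat_lit 3, nat_lit 0, nat_lit 5, nat_lit 2, nat_lit 4, nat_lit 2, nat_lit 3, nat_lit 0, nat_lit 2, nat_lit 2, nat_lit 0, nat_lit 1, nat_lit 0])) (.node (nat_lit 1517) (.leaf ((nat_lit 1089), [nat_lit 3, nat_lit 1, nat_lit 5, nat_lit 2, nat_lit 5, nat_lit 4, nat_lit 0, nat_lit 4, nat_lit 2, nat_lit 0, nat_lit 3, nat_lit 2, nat_lit 0, nat_lit 2, nat_lit 2, nat_lit 0, nat_lit 2])) (.leaf ((nat_lit 971), [nat_lit 5, nat_lit 2, nat_lit 0, nat_lit 5, nat_lit 1, nat_lit 4, nat_lit 1, nat_lit 4, nat_lit 3, nat_lit 0, nat_lit 2, nat_lit 2, nat_lit 0, nat_lit 2])))))))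
 (.node (nat_lit 1529) (.node (nat_lit 1523) (.node (nat_lit 1520) (.node (nat_lit 1519) (.leaf ((nat_lit 456), [nat_lit 3, nat_lit 4, nat_lit 3, nat_lit 5, nat_lit 0, nat_lit 3, nat_lit 2, nat_lit 3, nat_lit 2, nat_lit 3, nat_lit 2, nat_lit 0, nat_lit 2, nat_lit 2, nat_lit 0, nat_lit 2, nat_lit 0])) (.leaf ((nat_lit 991), [nat_lit 5, nat_lit 2, nat_lit 0, nat_lit 5, nat_lit 1, nat_lit 3, nat_lit 4, nat_lit 3, nat_lit 1, nat_lit 3, nat_lit 0, nat_lit 1, nat_lit 0, nat_lit 1, nat_lit 0, nat_lit 2]))) (.node (nat_lit 1521) (.leaf ((nat_lit 1118), [nat_lit 1, nat_lit 0, nat_lit 2, nat_lit 5, nat_lit 0, nat_lit 3, nat_lit 4, nat_lit 3, nat_lit 0, nat_lit 2, nat_lit 0, nat_lit 2])) (.node (nat_lit 1522) (.leaf ((nat_lit 442), [nat_lit 1, nat_lit 4, nat_lit 5, nat_lit 1, nat_lit 5, nat_lit 1, nat_lit 3, nat_lit 1, nat_lit 4])) (.leaf ((nat_lit 807), [nat_lit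 5, nat_lit 4, nat_lit 3, nat_lit 0, nat_lit 5, nat_lit 2, nat_lit 4, nat_lit 0, nat_lit 2, nat_lit 0, nat_lit 1, nat_lit 0])))))
 (.node (nat_lit 1526) (.node (nat_lit 1524) (.leaf ((nat_lit 405), [nat_lit 4, nat_lit 3, nat_lit 5, nat_lit 1, nat_lit 3, nat_lit 2, nat_lit 4, nat_lit 2, nat_lit 3, nat_lit 1, nat_lit 0, nat_lit 1, nat_lit 0, nat_lit 2, nat_lit 0, nat_lit 2])) (.node (nat_lit 1525) (.leaf ((nat_lit 395), [nat_lit 3, nat_lit 5, nat_lit 1, nat_lit 3, nat_lit 2, nat_lit 5, nat_lit 2, nat_lit 2, nat_lit 4, nat_lit 0, nat_lit 4, nat_lit 1, nat_lit 0, nat_lit 2, nat_lit 2, nat_lit 0])) (.leaf ((nat_lit 1119), [nat_lit 4, nat_lit 1, nat_lit 0, nat_lit 5, nat_lit 3, nat_lit 0, nat_lit 4, nat_lit 3, nat_lit 0, nat_lit 3, nat_lit 2, nat_lit 0, nat_lit 2, nat_lit 2, nat_lit 0, nat_lit 2, nat_lit 0])))) (.node (nat_lit 1527) (.leaf ((nat_lit 1003),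 [nat_lit 5, nat_lit 4, nat_lit 5, nat_lit 4, nat_lit 0, nat_lit 2, nat_lit 2, nat_lit 3, nat_lit 0, nat_lit 2, nat_lit 2, nat_lit 0, nat_lit 2])) (.node (nat_lit 1528) (.leaf ((nat_lit 27), [nat_lit 2, nat_lit 5, nat_lit 4, nat_lit 5, nat_lit 2, nat_lit 4, nat_lit 0, nat_lit 4, nat_lit 1, nat_lit 0, nat_lit 2])) (.leaf ((nat_lit 1120), [nat_lit 4, nat_lit 1, nat_lit 5, nat_lit 2, nat_lit 5, nat_lit 3, nat_lit 1, nat_lit 0, nat_lit 4, nat_lit 2, nat_lit 2, nat_lit 0, nat_lit 2, nat_lit 2, nat_lit 0, nat_lit 1, nat_lit 0]))))))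
 (.node (nat_lit 1534) (.node (nat_lit 1531) (.node (nat_lit 1530) (.leaf ((nat_lit 1121), [nat_lit 1, nat_lit 3, nat_lit 2, nat_lit 5, nat_lit 2, nat_lit 3, nat_lit 0, nat_lit 4, nat_lit 0, nat_lit 1, nat_lit 0, nat_lit 2])) (.leaf ((nat_lit 333), [nat_lit 0, nat_lit 2, nat_lit 5, nat_lit 3, nat_lit 2, nat_lit 0, nat_lit 2, nat_lit 4, nat_lit 3, nat_lit 1, nat_lit 0, nat_lit 2, nat_lit 2, nat_lit 0]))) (.node (nat_lit 1532) (.leaf ((nat_lit 1122), [nat_lit 3, nat_lit 5, nat_lit 4, nat_lit 1, nat_lit 0, nat_lit 3, nat_lit 4, nat_lit 0, nat_lit 2])) (.node (nat_lit 1533) (.leaf ((nat_lit 765), [nat_lit 1, nat_lit 4, nat_lit 2, nat_lit 5, nat_lit 2, nat_lit 3, nat_lit 2, nat_lit 3, nat_lit 2, nat_lit 0, nat_lit 1, nat_lit 0, nat_lit 2, nat_lit 0, nat_lit 2])) (.leaf ((nat_lit 1092), [nat_lit 5, nat_lit 3, nat_lit 0, nat_lit 5, nat_lit 0, nat_lit 2,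 nat_lit 0, nat_lit 2, nat_lit 4, nat_lit 2, nat_lit 0, nat_lit 1, nat_lit 0, nat_lit 1, nat_lit 0, nat_lit 2, nat_lit 0])))))
 (.node (nat_lit 1537) (.node (nat_lit 1535) (.leaf ((nat_lit 313), [nat_lit 0, nat_lit 5, nat_lit 3, nat_lit 5, nat_lit 3, nat_lit 2, nat_lit 4, nat_lit 2, nat_lit 3, nat_lit 4, nat_lit 2, nat_lit 0, nat_lit 1, nat_lit 0])) (.node (nat_lit 1536) (.leaf ((nat_lit 424), [nat_lit 5, nat_lit 0, nat_lit 1, nat_lit 5, nat_lit 2, nat_lit 3, nat_lit 1, nat_lit 3, nat_lit 0, nat_lit 3, nat_lit 2, nat_lit 0, nat_lit 2, nat_lit 2])) (.leaf ((nat_lit 126), [nat_lit 1, nat_lit 0, nat_lit 2, nat_lit 5, nat_lit 1, nat_lit 0, nat_lit 4, nat_lit 3, nat_lit 2, nat_lit 2, nat_lit 0, nat_lit 2, nat_lit 2, nat_lit 0, nat_lit 2, nat_lit 0])))) (.node (nat_lit 1538) (.leaf ((nat_lit 495), [nat_lit 4, nat_lit 5, nat_lit 1, nat_lit 5, nat_lit 1,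 nat_lit 0, nat_lit 3, nat_lit 1, nat_lit 4, nat_lit 2, nat_lit 2, nat_lit 0, nat_lit 1])) (.node (nat_lit 1539) (.leaf ((nat_lit 882), [nat_lit 0, nat_lit 1, nat_lit 5, nat_lit 2, nat_lit 0, nat_lit 4, nat_lit 1, nat_lit 4, nat_lit 2, nat_lit 2, nat_lit 0, nat_lit 1, nat_lit 0, nat_lit 2])) (.leaf ((nat_lit 1123), [nat_lit 2, nat_lit 3, nat_lit 5, nat_lit 0, nat_lit 5, nat_lit 4, nat_lit 1, nat_lit 4, nat_lit 1, nat_lit 4, nat_lit 0, nat_lit 2, nat_lit 2, nat_lit 0, nat_lit 2, nat_lit 0, nat_lit 1]))))))))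
 (.node (nat_lit 1562) (.node (nat_lit 1551) (.node (nat_lit 1545) (.node (nat_lit 1542) (.node (nat_lit 1541) (.leaf ((nat_lit 168), [nat_lit 3, nat_lit 5, nat_lit 1, nat_lit 3, nat_lit 0, nat_lit 5, nat_lit 3, nat_lit 4, nat_lit 1, nat_lit 3, nat_lit 2, nat_lit 2, nat_lit 0, nat_lit 2, nat_lit 2, nat_lit 0, nat_lit 2])) (.leaf ((nat_lit 1124), [nat_lit 5, nat_lit 2, nat_lit 3, nat_lit 5, nat_lit 2, nat_lit 0, nat_lit 2, nat_lit 3, nat_lit 0, nat_lit 2, nat_lit 0, nat_lit 2, nat_lit 2, nat_lit 0, nat_lit 1, nat_lit 0]))) (.node (nat_lit 1543) (.leaf ((nat_lit 1125), [nat_lit 0, nat_lit 2, nat_lit 4, nat_lit 0, nat_lit 5, nat_lit 2, nat_lit 0, nat_lit 2, nat_lit 4, nat_lit 3, nat_lit 0, nat_lit 2, nat_lit 0, nat_lit 1])) (.node (nat_lit 1544) (.leaf ((nat_lit 1126), [nat_lit 2, nat_lit 5, nat_lit 3, nat_lit 5, nat_lit 1, nat_lit 4, nat_lit 3, nat_lit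 1, nat_lit 3, nat_lit 1, nat_lit 0, nat_lit 2, nat_lit 2, nat_lit 0])) (.leaf ((nat_lit 1127), [nat_lit 2, nat_lit 2, nat_lit 0, nat_lit 5, nat_lit 4, nat_lit 2, nat_lit 4, nat_lit 0, nat_lit 1, nat_lit 0, nat_lit 3, nat_lit 1, nat_lit 0, nat_lit 2])))))
 (.node (nat_lit 1548) (.node (nat_lit 1546) (.leaf ((nat_lit 1128), [nat_lit 3, nat_lit 0, nat_lit 2, nat_lit 5, nat_lit 4, nat_lit 3, nat_lit 1, nat_lit 3, nat_lit 1, nat_lit 3, nat_lit 2, nat_lit 2, nat_lit 0, nat_lit 2, nat_lit 2, nat_lit 0, nat_lit 2, nat_lit 2])) (.node (nat_lit 1547) (.leaf ((nat_lit 22), [nat_lit 3, nat_lit 1, nat_lit 3, nat_lit 1, nat_lit 4, nat_lit 2, nat_lit 2, nat_lit 0, nat_lit 2, nat_lit 2, nat_lit 0, nat_lit 1])) (.leaf ((nat_lit 640), [nat_lit 2, nat_lit 2, nat_lit 0, nat_lit 5, nat_lit 2, nat_lit 0, nat_lit 1, nat_lit 4, nat_lit 3, nat_lit 2, nat_lit 0, nat_lit 2,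 nat_lit 0, nat_lit 1, nat_lit 0, nat_lit 1])))) (.node (nat_lit 1549) (.leaf ((nat_lit 596), [nat_lit 4, nat_lit 3, nat_lit 5, nat_lit 4, nat_lit 2, nat_lit 3, nat_lit 4, nat_lit 2, nat_lit 3, nat_lit 1, nat_lit 0, nat_lit 2, nat_lit 0, nat_lit 2, nat_lit 0])) (.node (nat_lit 1550) (.leaf ((nat_lit 1129), [nat_lit 1, nat_lit 5, nat_lit 4, nat_lit 0, nat_lit 2, nat_lit 3, nat_lit 2, nat_lit 0, nat_lit 3, nat_lit 2, nat_lit 2])) (.leaf ((nat_lit 1130), [nat_lit 2, nat_lit 0, nat_lit 5, nat_lit 1, nat_lit 3, nat_lit 4, nat_lit 0, nat_lit 2, nat_lit 4, nat_lit 2, nat_lit 0, nat_lit 1, nat_lit 0, nat_lit 2, nat_lit 0, nat_lit 2, nat_lit 0]))))))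
 (.node (nat_lit 1556) (.node (nat_lit 1553) (.node (nat_lit 1552) (.leaf ((nat_lit 1131), [nat_lit 4, nat_lit 5, nat_lit 2, nat_lit 5, nat_lit 4, nat_lit 0, nat_lit 1, nat_lit 0, nat_lit 1, nat_lit 0, nat_lit 3, nat_lit 2, nat_lit 0, nat_lit 2])) (.leaf ((nat_lit 1132), [nat_lit 4, nat_lit 5, nat_lit 4, nat_lit 0, nat_lit 5, nat_lit 4, nat_lit 1, nat_lit 0, nat_lit 3, nat_lit 4, nat_lit 0, nat_lit 2, nat_lit 0, nat_lit 1, nat_lit 0]))) (.node (nat_lit 1554) (.leaf ((nat_lit 1133), [nat_lit 4, nat_lit 5, nat_lit 2, nat_lit 0, nat_lit 5, nat_lit 2, nat_lit 3, nat_lit 4, nat_lit 1, nat_lit 0, nat_lit 3, nat_lit 1, nat_lit 0, nat_lit 1, nat_lit 0, nat_lit 2])) (.node (nat_lit 1555) (.leaf ((nat_lit 1068), [nat_lit 3, nat_lit 5, nat_lit 4, nat_lit 1, nat_lit 0, nat_lit 3, nat_lit 4, nat_lit 2, nat_lit 0, nat_lit 1, nat_lit 0, nat_lit 1, nat_lit 0, nat_lit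 2, nat_lit 0])) (.leaf ((nat_lit 1134), [nat_lit 4, nat_lit 5, nat_lit 1, nat_lit 3, nat_lit 4, nat_lit 0, nat_lit 2, nat_lit 2, nat_lit 0, nat_lit 2])))))
 (.node (nat_lit 1559) (.node (nat_lit 1557) (.leaf ((nat_lit 1135), [nat_lit 5, nat_lit 4, nat_lit 3, nat_lit 0, nat_lit 5, nat_lit 2, nat_lit 0, nat_lit 3, nat_lit 2, nat_lit 3, nat_lit 2, nat_lit 0, nat_lit 1, nat_lit 0, nat_lit 1, nat_lit 0])) (.node (nat_lit 1558) (.leaf ((nat_lit 754), [nat_lit 5, nat_lit 2, nat_lit 2, nat_lit 0, nat_lit 5, nat_lit 2, nat_lit 4, nat_lit 2, nat_lit 2, nat_lit 4, nat_lit 3, nat_lit 2, nat_lit 2, nat_lit 0, nat_lit 1])) (.leaf ((nat_lit 625), [nat_lit 0, nat_lit 1, nat_lit 5, nat_lit 4, nat_lit 0, nat_lit 4, nat_lit 3, nat_lit 0, nat_lit 3, nat_lit 2, nat_lit 2, nat_lit 0, nat_lit 2])))) (.node (nat_lit 1560) (.leaf ((nat_lit 1136), [nat_lit 0, nat_lit 5, nat_lit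 0, nat_lit 1, nat_lit 5, nat_lit 3, nat_lit 1, nat_lit 3, nat_lit 4, nat_lit 3, nat_lit 0, nat_lit 2, nat_lit 0, nat_lit 2, nat_lit 0])) (.node (nat_lit 1561) (.leaf ((nat_lit 868), [nat_lit 3, nat_lit 2, nat_lit 0, nat_lit 5, nat_lit 4, nat_lit 0, nat_lit 2, nat_lit 2, nat_lit 3, nat_lit 0, nat_lit 2, nat_lit 2, nat_lit 0, nat_lit 2, nat_lit 2, nat_lit 0])) (.leaf ((nat_lit 972), [nat_lit 5, nat_lit 1, nat_lit 5, nat_lit 3, nat_lit 1, nat_lit 3, nat_lit 1, nat_lit 3, nat_lit 2, nat_lit 0, nat_lit 2, nat_lit 2, nat_lit 0])))))))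
 (.node (nat_lit 1573) (.node (nat_lit 1567) (.node (nat_lit 1564) (.node (nat_lit 1563) (.leaf ((nat_lit 804), [nat_lit 0, nat_lit 1, nat_lit 5, nat_lit 2, nat_lit 4, nat_lit 3, nat_lit 1, nat_lit 4, nat_lit 3, nat_lit 2, nat_lit 2, nat_lit 0, nat_lit 1, nat_lit 0, nat_lit 2])) (.leaf ((nat_lit 237), [nat_lit 4, nat_lit 2, nat_lit 5, nat_lit 2, nat_lit 2, nat_lit 3, nat_lit 4, nat_lit 3, nat_lit 2, nat_lit 0, nat_lit 1, nat_lit 0, nat_lit 2, nat_lit 2]))) (.node (nat_lit 1565) (.leaf ((nat_lit 915), [nat_lit 1, nat_lit 5, nat_lit 1, nat_lit 3, nat_lit 4, nat_lit 3, nat_lit 0, nat_lit 3, nat_lit 2, nat_lit 2, nat_lit 0, nat_lit 1, nat_lit 0, nat_lit 2, nat_lit 2, nat_lit 0])) (.node (nat_lit 1566) (.leaf ((nat_lit 949), [nat_lit 2, nat_lit 5, nat_lit 4, nat_lit 5, nat_lit 2, nat_lit 0, nat_lit 3, nat_lit 4, nat_lit 2, nat_lit 0, nat_lit 2, nat_lit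 0, nat_lit 1, nat_lit 0])) (.leaf ((nat_lit 148), [nat_lit 5, nat_lit 4, nat_lit 5, nat_lit 2, nat_lit 5, nat_lit 2, nat_lit 2, nat_lit 0, nat_lit 3, nat_lit 1, nat_lit 0, nat_lit 2, nat_lit 0, nat_lit 1, nat_lit 0])))))
 (.node (nat_lit 1570) (.node (nat_lit 1568) (.leaf ((nat_lit 1137), [nat_lit 3, nat_lit 5, nat_lit 0, nat_lit 5, nat_lit 3, nat_lit 1, nat_lit 4, nat_lit 3, nat_lit 0, nat_lit 2, nat_lit 0, nat_lit 1, nat_lit 0, nat_lit 1, nat_lit 0])) (.node (nat_lit 1569) (.leaf ((nat_lit 1138), [nat_lit 0, nat_lit 5, nat_lit 3, nat_lit 0, nat_lit 5, nat_lit 4, nat_lit 0, nat_lit 3, nat_lit 2, nat_lit 0, nat_lit 1, nat_lit 0, nat_lit 1])) (.leaf ((nat_lit 925), [nat_lit 0, nat_lit 5, nat_lit 2, nat_lit 3, nat_lit 5, nat_lit 2, nat_lit 3, nat_lit 1, nat_lit 3, nat_lit 2, nat_lit 2, nat_lit 0, nat_lit 1, nat_lit 0, nat_lit 2, nat_lit 0])))) (.node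 (nat_lit 1571) (.leaf ((nat_lit 1139), [nat_lit 0, nat_lit 1, nat_lit 5, nat_lit 1, nat_lit 4, nat_lit 3, nat_lit 2, nat_lit 0, nat_lit 3, nat_lit 1])) (.node (nat_lit 1572) (.leaf ((nat_lit 938), [nat_lit 4, nat_lit 5, nat_lit 1, nat_lit 5, nat_lit 4, nat_lit 1, nat_lit 0, nat_lit 2, nat_lit 4, nat_lit 0, nat_lit 2, nat_lit 2, nat_lit 0, nat_lit 1, nat_lit 0, nat_lit 2])) (.leaf ((nat_lit 459), [nat_lit 3, nat_lit 5, nat_lit 1, nat_lit 3, nat_lit 2, nat_lit 5, nat_lit 1, nat_lit 3, nat_lit 1, nat_lit 3, nat_lit 2, nat_lit 0, nat_lit 2, nat_lit 2, nat_lit 0, nat_lit 2, nat_lit 2]))))))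
 (.node (nat_lit 1578) (.node (nat_lit 1575) (.node (nat_lit 1574) (.leaf ((nat_lit 1025), [nat_lit 0, nat_lit 5, nat_lit 0, nat_lit 1, nat_lit 5, nat_lit 2, nat_lit 4, nat_lit 0, nat_lit 1, nat_lit 0, nat_lit 3, nat_lit 2, nat_lit 0, nat_lit 1, nat_lit 0, nat_lit 1, nat_lit 0])) (.leaf ((nat_lit 476), [nat_lit 4, nat_lit 3, nat_lit 5, nat_lit 3, nat_lit 2, nat_lit 4, nat_lit 2, nat_lit 4, nat_lit 2, nat_lit 0, nat_lit 2]))) (.node (nat_lit 1576) (.leaf ((nat_lit 1140), [nat_lit 5, nat_lit 2, nat_lit 4, nat_lit 0, nat_lit 5, nat_lit 4, nat_lit 2, nat_lit 0, nat_lit 2, nat_lit 3, nat_lit 2, nat_lit 0, nat_lit 1, nat_lit 0, nat_lit 2, nat_lit 0, nat_lit 2])) (.node (nat_lit 1577) (.leaf ((nat_lit 472), [nat_lit 3, nat_lit 5, nat_lit 3, nat_lit 0, nat_lit 5, nat_lit 4, nat_lit 2, nat_lit 3, nat_lit 2, nat_lit 2, nat_lit 3, nat_lit 2, nat_lit 2])) (.leaf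 ((nat_lit 15), [nat_lit 5, nat_lit 4, nat_lit 3, nat_lit 0, nat_lit 5, nat_lit 2, nat_lit 2, nat_lit 0, nat_lit 3, nat_lit 4, nat_lit 1, nat_lit 0, nat_lit 2, nat_lit 0, nat_lit 2, nat_lit 2, nat_lit 0])))))
 (.node (nat_lit 1581) (.node (nat_lit 1579) (.leaf ((nat_lit 1084), [nat_lit 3, nat_lit 2, nat_lit 5, nat_lit 0, nat_lit 5, nat_lit 2, nat_lit 4, nat_lit 2, nat_lit 3, nat_lit 0, nat_lit 3, nat_lit 2, nat_lit 0, nat_lit 2, nat_lit 2, nat_lit 0, nat_lit 2])) (.node (nat_lit 1580) (.leaf ((nat_lit 1141), [nat_lit 3, nat_lit 2, nat_lit 3, nat_lit 5, nat_lit 2, nat_lit 4, nat_lit 2, nat_lit 3, nat_lit 0, nat_lit 3, nat_lit 1, nat_lit 0, nat_lit 1, nat_lit 0])) (.leaf ((nat_lit 1020), [nat_lit 3, nat_lit 5, nat_lit 3, nat_lit 0, nat_lit 5, nat_lit 2, nat_lit 4, nat_lit 0, nat_lit 4, nat_lit 3, nat_lit 2, nat_lit 2, nat_lit 0, nat_lit 2, nat_lit 2,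 nat_lit 0, nat_lit 2, nat_lit 2, nat_lit 0])))) (.node (nat_lit 1582) (.leaf ((nat_lit 1142), [nat_lit 5, nat_lit 4, nat_lit 0, nat_lit 5, nat_lit 2, nat_lit 3, nat_lit 4, nat_lit 3, nat_lit 2, nat_lit 3, nat_lit 1, nat_lit 0, nat_lit 1, nat_lit 0])) (.node (nat_lit 1583) (.leaf ((nat_lit 1122), [nat_lit 5, nat_lit 2, nat_lit 4, nat_lit 0, nat_lit 5, nat_lit 0, nat_lit 1, nat_lit 3, nat_lit 0, nat_lit 3, nat_lit 2, nat_lit 0, nat_lit 1, nat_lit 0, nat_lit 2])) (.leaf ((nat_lit 879), [nat_lit 0, nat_lit 5, nat_lit 0, nat_lit 3, nat_lit 2, nat_lit 4, nat_lit 0, nat_lit 1, nat_lit 0, nat_lit 2, nat_lit 2]))))))))))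
noncomputable def qWd_9 : Tr (ℕ × List ℕ) := (.node (nat_lit 1672) (.node (nat_lit 1628) (.node (nat_lit 1606) (.node (nat_lit 1595) (.node (nat_lit 1589) (.node (nat_lit 1586) (.node (nat_lit 1585) (.leaf ((nat_lit 1143), [nat_lit 1, nat_lit 4, nat_lit 5, nat_lit 1, nat_lit 5, nat_lit 3, nat_lit 0, nat_lit 4, nat_lit 2, nat_lit 2, nat_lit 0, nat_lit 2, nat_lit 0])) (.leaf ((nat_lit 361), [nat_lit 4, nat_lit 2, nat_lit 5, nat_lit 3, nat_lit 5, nat_lit 2, nat_lit 3, nat_lit 4, nat_lit 2, nat_lit 3, nat_lit 0, nat_lit 2, nat_lit 2, nat_lit 0, nat_lit 2, nat_lit 0, nat_lit 1]))) (.node (nat_lit 1587) (.leaf ((nat_lit 1144), [nat_lit 4, nat_lit 0, nat_lit 5, nat_lit 2, nat_lit 5, nat_lit 3, nat_lit 2, nat_lit 3, nat_lit 2, nat_lit 0, nat_lit 3])) (.node (nat_lit 1588) (.leaf ((nat_lit 1145), [nat_lit 3, nat_lit 1, nat_lit 5, nat_lit 0, nat_lit 5, nat_lit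 2, nat_lit 3, nat_lit 0, nat_lit 4, nat_lit 1, nat_lit 0])) (.leaf ((nat_lit 1016), [nat_lit 2, nat_lit 0, nat_lit 2, nat_lit 5, nat_lit 4, nat_lit 0, nat_lit 1, nat_lit 4, nat_lit 3, nat_lit 2, nat_lit 2, nat_lit 0])))))
 (.node (nat_lit 1592) (.node (nat_lit 1590) (.leaf ((nat_lit 1146), [nat_lit 4, nat_lit 5, nat_lit 0, nat_lit 3, nat_lit 5, nat_lit 3, nat_lit 2, nat_lit 4, nat_lit 3, nat_lit 2, nat_lit 0, nat_lit 1, nat_lit 0, nat_lit 2, nat_lit 2])) (.node (nat_lit 1591) (.leaf ((nat_lit 1147), [nat_lit 2, nat_lit 5, nat_lit 4, nat_lit 5, nat_lit 0, nat_lit 4, nat_lit 1, nat_lit 3, nat_lit 1, nat_lit 3, nat_lit 0, nat_lit 1, nat_lit 0, nat_lit 2, nat_lit 2, nat_lit 0, nat_lit 2, nat_lit 0])) (.leaf ((nat_lit 944), [nat_lit 3, nat_lit 5, nat_lit 0, nat_lit 3, nat_lit 5, nat_lit 3, nat_lit 2, nat_lit 0, nat_lit 4, nat_lit 0, nat_lit 2, nat_lit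 2, nat_lit 0, nat_lit 2, nat_lit 0, nat_lit 1, nat_lit 0])))) (.node (nat_lit 1593) (.leaf ((nat_lit 1148), [nat_lit 4, nat_lit 0, nat_lit 4, nat_lit 3, nat_lit 0, nat_lit 1, nat_lit 0, nat_lit 1, nat_lit 0, nat_lit 2])) (.node (nat_lit 1594) (.leaf ((nat_lit 1149), [nat_lit 2, nat_lit 2, nat_lit 0, nat_lit 5, nat_lit 0, nat_lit 3, nat_lit 0, nat_lit 2, nat_lit 3, nat_lit 1, nat_lit 0, nat_lit 2, nat_lit 0, nat_lit 2])) (.leaf ((nat_lit 445), [nat_lit 0, nat_lit 2, nat_lit 5, nat_lit 3, nat_lit 5, nat_lit 2, nat_lit 0, nat_lit 4, nat_lit 2, nat_lit 0, nat_lit 2]))))))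
 (.node (nat_lit 1600) (.node (nat_lit 1597) (.node (nat_lit 1596) (.leaf ((nat_lit 1150), [nat_lit 0, nat_lit 2, nat_lit 5, nat_lit 1, nat_lit 4, nat_lit 0, nat_lit 3, nat_lit 4])) (.leaf ((nat_lit 701), [nat_lit 4, nat_lit 1, nat_lit 5, nat_lit 0, nat_lit 5, nat_lit 3, nat_lit 2, nat_lit 0, nat_lit 2, nat_lit 4, nat_lit 3, nat_lit 0, nat_lit 1, nat_lit 0, nat_lit 2]))) (.node (nat_lit 1598) (.leaf ((nat_lit 824), [nat_lit 3, nat_lit 2, nat_lit 5, nat_lit 2, nat_lit 3, nat_lit 2, nat_lit 0, nat_lit 4, nat_lit 0, nat_lit 1, nat_lit 0, nat_lit 2, nat_lit 2, nat_lit 0, nat_lit 1])) (.node (nat_lit 1599) (.leaf ((nat_lit 1151), [nat_lit 1, nat_lit 5, nat_lit 1, nat_lit 5, nat_lit 3, nat_lit 2, nat_lit 3, nat_lit 0, nat_lit 3, nat_lit 0, nat_lit 2, nat_lit 2])) (.leaf ((nat_lit 469), [nat_lit 5, nat_lit 1, nat_lit 3, nat_lit 0, nat_lit 5, nat_lit 0,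 nat_lit 2, nat_lit 3, nat_lit 2, nat_lit 3, nat_lit 0, nat_lit 2, nat_lit 2, nat_lit 0, nat_lit 1, nat_lit 0, nat_lit 2, nat_lit 0])))))
 (.node (nat_lit 1603) (.node (nat_lit 1601) (.leaf ((nat_lit 1152), [nat_lit 2, nat_lit 5, nat_lit 2, nat_lit 3, nat_lit 5, nat_lit 3, nat_lit 2, nat_lit 0, nat_lit 4, nat_lit 3, nat_lit 2, nat_lit 0, nat_lit 2, nat_lit 2, nat_lit 0, nat_lit 1])) (.node (nat_lit 1602) (.leaf ((nat_lit 287), [nat_lit 2, nat_lit 5, nat_lit 0, nat_lit 5, nat_lit 4, nat_lit 3, nat_lit 0, nat_lit 3, nat_lit 1, nat_lit 0, nat_lit 1, nat_lit 0, nat_lit 2, nat_lit 0, nat_lit 2])) (.leaf ((nat_lit 837), [nat_lit 2, nat_lit 5, nat_lit 2, nat_lit 3, nat_lit 5, nat_lit 0, nat_lit 2, nat_lit 2, nat_lit 3, nat_lit 2, nat_lit 4, nat_lit 1, nat_lit 0, nat_lit 2, nat_lit 2, nat_lit 0, nat_lit 1])))) (.node (nat_lit 1604) (.leaf ((nat_lit 377),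 [nat_lit 5, nat_lit 1, nat_lit 0, nat_lit 2, nat_lit 5, nat_lit 1, nat_lit 3, nat_lit 1, nat_lit 4, nat_lit 2, nat_lit 0, nat_lit 2, nat_lit 2, nat_lit 0, nat_lit 2, nat_lit 0])) (.node (nat_lit 1605) (.leaf ((nat_lit 1153), [nat_lit 1, nat_lit 3, nat_lit 2, nat_lit 5, nat_lit 1, nat_lit 4, nat_lit 2, nat_lit 4, nat_lit 3, nat_lit 0, nat_lit 2, nat_lit 0, nat_lit 2, nat_lit 2])) (.leaf ((nat_lit 535), [nat_lit 4, nat_lit 5, nat_lit 0, nat_lit 3, nat_lit 5, nat_lit 0, nat_lit 1, nat_lit 4, nat_lit 3, nat_lit 2, nat_lit 3, nat_lit 2, nat_lit 0, nat_lit 2, nat_lit 0, nat_lit 1, nat_lit 0])))))))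
 (.node (nat_lit 1617) (.node (nat_lit 1611) (.node (nat_lit 1608) (.node (nat_lit 1607) (.leaf ((nat_lit 1154), [nat_lit 0, nat_lit 4, nat_lit 5, nat_lit 3, nat_lit 0, nat_lit 3, nat_lit 0, nat_lit 2, nat_lit 0, nat_lit 1, nat_lit 0, nat_lit 1, nat_lit 0])) (.leaf ((nat_lit 1155), [nat_lit 3, nat_lit 5, nat_lit 0, nat_lit 3, nat_lit 5, nat_lit 2, nat_lit 4, nat_lit 3, nat_lit 2, nat_lit 3, nat_lit 2, nat_lit 0, nat_lit 2, nat_lit 0]))) (.node (nat_lit 1609) (.leaf ((nat_lit 1156), [nat_lit 1, nat_lit 0, nat_lit 5, nat_lit 4, nat_lit 1, nat_lit 3, nat_lit 0, nat_lit 3, nat_lit 1, nat_lit 0, nat_lit 1, nat_lit 0, nat_lit 2, nat_lit 0, nat_lit 2, nat_lit 0])) (.node (nat_lit 1610) (.leaf ((nat_lit 1157), [nat_lit 0, nat_lit 1, nat_lit 5, nat_lit 1, nat_lit 0, nat_lit 3, nat_lit 4, nat_lit 0, nat_lit 2, nat_lit 2, nat_lit 0, nat_lit 1, nat_lit 0, nat_lit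 2, nat_lit 0])) (.leaf ((nat_lit 1158), [nat_lit 3, nat_lit 0, nat_lit 2, nat_lit 5, nat_lit 2, nat_lit 3, nat_lit 2, nat_lit 3, nat_lit 1, nat_lit 0, nat_lit 1])))))
 (.node (nat_lit 1614) (.node (nat_lit 1612) (.leaf ((nat_lit 705), [nat_lit 5, nat_lit 4, nat_lit 5, nat_lit 1, nat_lit 5, nat_lit 4, nat_lit 2, nat_lit 4, nat_lit 1, nat_lit 0, nat_lit 3, nat_lit 1, nat_lit 0, nat_lit 1])) (.node (nat_lit 1613) (.leaf ((nat_lit 18), [nat_lit 0, nat_lit 5, nat_lit 3, nat_lit 0, nat_lit 5, nat_lit 4, nat_lit 1, nat_lit 3, nat_lit 0, nat_lit 3, nat_lit 0, nat_lit 2, nat_lit 0, nat_lit 1, nat_lit 0])) (.leaf ((nat_lit 1159), [nat_lit 4, nat_lit 1, nat_lit 5, nat_lit 2, nat_lit 5, nat_lit 3, nat_lit 0, nat_lit 4, nat_lit 1, nat_lit 0, nat_lit 3, nat_lit 1, nat_lit 0, nat_lit 2, nat_lit 2])))) (.node (nat_lit 1615) (.leaf ((nat_lit 967), [nat_lit 2, nat_lit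 5, nat_lit 2, nat_lit 4, nat_lit 3, nat_lit 0, nat_lit 2, nat_lit 3, nat_lit 2, nat_lit 0, nat_lit 2, nat_lit 2, nat_lit 0, nat_lit 1])) (.node (nat_lit 1616) (.leaf ((nat_lit 312), [nat_lit 0, nat_lit 4, nat_lit 5, nat_lit 0, nat_lit 2, nat_lit 3, nat_lit 4, nat_lit 1, nat_lit 3, nat_lit 2, nat_lit 2, nat_lit 0, nat_lit 1, nat_lit 0, nat_lit 2, nat_lit 2])) (.leaf ((nat_lit 1160), [nat_lit 3, nat_lit 5, nat_lit 3, nat_lit 0, nat_lit 5, nat_lit 3, nat_lit 4, nat_lit 3, nat_lit 0, nat_lit 3, nat_lit 1]))))))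
 (.node (nat_lit 1622) (.node (nat_lit 1619) (.node (nat_lit 1618) (.leaf ((nat_lit 1161), [nat_lit 0, nat_lit 5, nat_lit 3, nat_lit 5, nat_lit 1, nat_lit 0, nat_lit 3, nat_lit 1, nat_lit 3, nat_lit 2, nat_lit 0, nat_lit 2, nat_lit 2, nat_lit 0, nat_lit 2, nat_lit 0])) (.leaf ((nat_lit 1162), [nat_lit 5, nat_lit 2, nat_lit 0, nat_lit 2, nat_lit 5, nat_lit 2, nat_lit 0, nat_lit 1, nat_lit 0, nat_lit 3, nat_lit 2, nat_lit 0, nat_lit 2, nat_lit 2, nat_lit 0, nat_lit 1]))) (.node (nat_lit 1620) (.leaf ((nat_lit 1163), [nat_lit 5, nat_lit 0, nat_lit 3, nat_lit 5, nat_lit 4, nat_lit 2, nat_lit 2, nat_lit 4, nat_lit 1, nat_lit 0, nat_lit 3, nat_lit 0, nat_lit 1, nat_lit 0, nat_lit 2, nat_lit 2, nat_lit 0, nat_lit 2])) (.node (nat_lit 1621) (.leaf ((nat_lit 1164), [nat_lit 4, nat_lit 5, nat_lit 3, nat_lit 5, nat_lit 1, nat_lit 3, nat_lit 0, nat_lit 3, nat_lit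 2, nat_lit 3, nat_lit 1, nat_lit 0, nat_lit 1])) (.leaf ((nat_lit 1165), [nat_lit 2, nat_lit 3, nat_lit 5, nat_lit 0, nat_lit 5, nat_lit 4, nat_lit 0, nat_lit 3, nat_lit 4, nat_lit 3, nat_lit 2, nat_lit 0, nat_lit 2, nat_lit 2, nat_lit 0, nat_lit 1, nat_lit 0])))))
 (.node (nat_lit 1625) (.node (nat_lit 1623) (.leaf ((nat_lit 815), [nat_lit 5, nat_lit 4, nat_lit 0, nat_lit 5, nat_lit 4, nat_lit 1, nat_lit 4, nat_lit 1, nat_lit 4, nat_lit 0, nat_lit 1, nat_lit 0, nat_lit 2, nat_lit 0, nat_lit 2])) (.node (nat_lit 1624) (.leaf ((nat_lit 1166), [nat_lit 2, nat_lit 3, nat_lit 5, nat_lit 0, nat_lit 5, nat_lit 1, nat_lit 4, nat_lit 2, nat_lit 4, nat_lit 3, nat_lit 2, nat_lit 2, nat_lit 0, nat_lit 2, nat_lit 2, nat_lit 0])) (.leaf ((nat_lit 943), [nat_lit 1, nat_lit 0, nat_lit 5, nat_lit 3, nat_lit 5, nat_lit 4, nat_lit 3, nat_lit 0, nat_lit 4, nat_lit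 1, nat_lit 0, nat_lit 3, nat_lit 1, nat_lit 0, nat_lit 2, nat_lit 2, nat_lit 0, nat_lit 2, nat_lit 2, nat_lit 0])))) (.node (nat_lit 1626) (.leaf ((nat_lit 543), [nat_lit 4, nat_lit 5, nat_lit 3, nat_lit 5, nat_lit 2, nat_lit 4, nat_lit 1, nat_lit 0, nat_lit 3, nat_lit 0])) (.node (nat_lit 1627) (.leaf ((nat_lit 1064), [nat_lit 0, nat_lit 5, nat_lit 0, nat_lit 3, nat_lit 2, nat_lit 3, nat_lit 2, nat_lit 0, nat_lit 2, nat_lit 0, nat_lit 1, nat_lit 0, nat_lit 1])) (.leaf ((nat_lit 1167), [nat_lit 5, nat_lit 2, nat_lit 3, nat_lit 0, nat_lit 5, nat_lit 2, nat_lit 3, nat_lit 0, nat_lit 3, nat_lit 2, nat_lit 0, nat_lit 1, nat_lit 0, nat_lit 1]))))))))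
 (.node (nat_lit 1650) (.node (nat_lit 1639) (.node (nat_lit 1633) (.node (nat_lit 1630) (.node (nat_lit 1629) (.leaf ((nat_lit 1168), [nat_lit 2, nat_lit 5, nat_lit 3, nat_lit 5, nat_lit 4, nat_lit 0, nat_lit 4, nat_lit 2, nat_lit 0, nat_lit 3, nat_lit 1, nat_lit 0, nat_lit 2])) (.leaf ((nat_lit 1169), [nat_lit 4, nat_lit 2, nat_lit 5, nat_lit 2, nat_lit 4, nat_lit 0, nat_lit 3, nat_lit 2, nat_lit 3, nat_lit 2, nat_lit 2, nat_lit 0, nat_lit 2, nat_lit 2, nat_lit 0, nat_lit 2, nat_lit 0]))) (.node (nat_lit 1631) (.leaf ((nat_lit 372), [nat_lit 4, nat_lit 5, nat_lit 2, nat_lit 5, nat_lit 1, nat_lit 0, nat_lit 1, nat_lit 4, nat_lit 3, nat_lit 1, nat_lit 0, nat_lit 1])) (.node (nat_lit 1632) (.leaf ((nat_lit 519), [nat_lit 0, nat_lit 5, nat_lit 2, nat_lit 3, nat_lit 0, nat_lit 3, nat_lit 1, nat_lit 0, nat_lit 1, nat_lit 0, nat_lit 2, nat_lit 2])) (.leaf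 ((nat_lit 874), [nat_lit 1, nat_lit 0, nat_lit 3, nat_lit 5, nat_lit 0, nat_lit 4, nat_lit 2, nat_lit 3, nat_lit 4, nat_lit 2, nat_lit 0, nat_lit 2, nat_lit 2, nat_lit 0, nat_lit 2, nat_lit 0])))))
 (.node (nat_lit 1636) (.node (nat_lit 1634) (.leaf ((nat_lit 1170), [nat_lit 0, nat_lit 2, nat_lit 5, nat_lit 3, nat_lit 5, nat_lit 1, nat_lit 3, nat_lit 0, nat_lit 3, nat_lit 0, nat_lit 1, nat_lit 0, nat_lit 1])) (.node (nat_lit 1635) (.leaf ((nat_lit 1171), [nat_lit 0, nat_lit 5, nat_lit 2, nat_lit 3, nat_lit 5, nat_lit 2, nat_lit 3, nat_lit 4, nat_lit 3, nat_lit 1, nat_lit 0])) (.leaf ((nat_lit 534), [nat_lit 1, nat_lit 0, nat_lit 2, nat_lit 5, nat_lit 3, nat_lit 4, nat_lit 3, nat_lit 2, nat_lit 4, nat_lit 3, nat_lit 2, nat_lit 2, nat_lit 0, nat_lit 2, nat_lit 0, nat_lit 1])))) (.node (nat_lit 1637) (.leaf ((nat_lit 855), [nat_lit 4, nat_lit 3, nat_lit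 2, nat_lit 5, nat_lit 2, nat_lit 3, nat_lit 0, nat_lit 1, nat_lit 0, nat_lit 3, nat_lit 1, nat_lit 0, nat_lit 2, nat_lit 0, nat_lit 2, nat_lit 2])) (.node (nat_lit 1638) (.leaf ((nat_lit 1062), [nat_lit 5, nat_lit 3, nat_lit 4, nat_lit 3, nat_lit 1, nat_lit 4, nat_lit 3, nat_lit 1, nat_lit 0, nat_lit 2, nat_lit 0, nat_lit 2, nat_lit 2, nat_lit 0])) (.leaf ((nat_lit 551), [nat_lit 5, nat_lit 3, nat_lit 0, nat_lit 5, nat_lit 4, nat_lit 3, nat_lit 1, nat_lit 3, nat_lit 1, nat_lit 3, nat_lit 2, nat_lit 2]))))))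
 (.node (nat_lit 1644) (.node (nat_lit 1641) (.node (nat_lit 1640) (.leaf ((nat_lit 770), [nat_lit 0, nat_lit 4, nat_lit 2, nat_lit 0, nat_lit 5, nat_lit 2, nat_lit 0, nat_lit 4, nat_lit 1, nat_lit 3, nat_lit 2, nat_lit 2, nat_lit 0, nat_lit 2, nat_lit 2, nat_lit 0, nat_lit 1, nat_lit 0])) (.leaf ((nat_lit 335), [nat_lit 5, nat_lit 4, nat_lit 3, nat_lit 2, nat_lit 5, nat_lit 0, nat_lit 2, nat_lit 3, nat_lit 2, nat_lit 3, nat_lit 0, nat_lit 1, nat_lit 0, nat_lit 2, nat_lit 0, nat_lit 2]))) (.node (nat_lit 1642) (.leaf ((nat_lit 1172), [nat_lit 2, nat_lit 2, nat_lit 5, nat_lit 1, nat_lit 5, nat_lit 3, nat_lit 1, nat_lit 0, nat_lit 3, nat_lit 1, nat_lit 3, nat_lit 2, nat_lit 0, nat_lit 2])) (.node (nat_lit 1643) (.leaf ((nat_lit 671), [nat_lit 1, nat_lit 5, nat_lit 0, nat_lit 5, nat_lit 2, nat_lit 3, nat_lit 1, nat_lit 3, nat_lit 4, nat_lit 3, nat_lit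 1, nat_lit 0, nat_lit 2, nat_lit 0, nat_lit 2, nat_lit 2, nat_lit 0])) (.leaf ((nat_lit 798), [nat_lit 5, nat_lit 2, nat_lit 2, nat_lit 0, nat_lit 5, nat_lit 1, nat_lit 4, nat_lit 0, nat_lit 4, nat_lit 2, nat_lit 0, nat_lit 3, nat_lit 2, nat_lit 2, nat_lit 0, nat_lit 1, nat_lit 0])))))
 (.node (nat_lit 1647) (.node (nat_lit 1645) (.leaf ((nat_lit 1173), [nat_lit 3, nat_lit 1, nat_lit 5, nat_lit 0, nat_lit 5, nat_lit 2, nat_lit 3, nat_lit 4, nat_lit 3, nat_lit 0, nat_lit 3, nat_lit 0, nat_lit 2])) (.node (nat_lit 1646) (.leaf ((nat_lit 1174), [nat_lit 4, nat_lit 3, nat_lit 2, nat_lit 5, nat_lit 4, nat_lit 3, nat_lit 1, nat_lit 4, nat_lit 0])) (.leaf ((nat_lit 1112), [nat_lit 0, nat_lit 5, nat_lit 0, nat_lit 1, nat_lit 5, nat_lit 1, nat_lit 3, nat_lit 1, nat_lit 4, nat_lit 0, nat_lit 2, nat_lit 2, nat_lit 0, nat_lit 1, nat_lit 0, nat_lit 2, nat_lit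 0])))) (.node (nat_lit 1648) (.leaf ((nat_lit 562), [nat_lit 3, nat_lit 4, nat_lit 1, nat_lit 3, nat_lit 0, nat_lit 3, nat_lit 0, nat_lit 2, nat_lit 0])) (.node (nat_lit 1649) (.leaf ((nat_lit 1175), [nat_lit 2, nat_lit 3, nat_lit 5, nat_lit 0, nat_lit 5, nat_lit 1, nat_lit 4, nat_lit 3, nat_lit 2, nat_lit 0, nat_lit 3, nat_lit 0, nat_lit 2, nat_lit 2, nat_lit 0, nat_lit 1, nat_lit 0, nat_lit 2, nat_lit 0])) (.leaf ((nat_lit 322), [nat_lit 0, nat_lit 5, nat_lit 2, nat_lit 0, nat_lit 5, nat_lit 3, nat_lit 4, nat_lit 2, nat_lit 3, nat_lit 2, nat_lit 0, nat_lit 1, nat_lit 0, nat_lit 2, nat_lit 0, nat_lit 2, nat_lit 0])))))))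
 (.node (nat_lit 1661) (.node (nat_lit 1655) (.node (nat_lit 1652) (.node (nat_lit 1651) (.leaf ((nat_lit 982), [nat_lit 4, nat_lit 5, nat_lit 3, nat_lit 5, nat_lit 4, nat_lit 2, nat_lit 3, nat_lit 4, nat_lit 2, nat_lit 2, nat_lit 0, nat_lit 2])) (.leaf ((nat_lit 1168), [nat_lit 5, nat_lit 1, nat_lit 0, nat_lit 2, nat_lit 5, nat_lit 3, nat_lit 0, nat_lit 3, nat_lit 2, nat_lit 0, nat_lit 3, nat_lit 2, nat_lit 0, nat_lit 2, nat_lit 2, nat_lit 0, nat_lit 1]))) (.node (nat_lit 1653) (.leaf ((nat_lit 1176), [nat_lit 5, nat_lit 0, nat_lit 5, nat_lit 1, nat_lit 4, nat_lit 0, nat_lit 3, nat_lit 4, nat_lit 0, nat_lit 2, nat_lit 2, nat_lit 0, nat_lit 2, nat_lit 2, nat_lit 0])) (.node (nat_lit 1654) (.leaf ((nat_lit 306), [nat_lit 2, nat_lit 5, nat_lit 0, nat_lit 1, nat_lit 5, nat_lit 1, nat_lit 4, nat_lit 2, nat_lit 0, nat_lit 2, nat_lit 3, nat_lit 1, nat_lit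 0, nat_lit 2, nat_lit 0, nat_lit 1])) (.leaf ((nat_lit 889), [nat_lit 5, nat_lit 0, nat_lit 3, nat_lit 5, nat_lit 4, nat_lit 0, nat_lit 4, nat_lit 0, nat_lit 1, nat_lit 0, nat_lit 2, nat_lit 0, nat_lit 2, nat_lit 0])))))
 (.node (nat_lit 1658) (.node (nat_lit 1656) (.leaf ((nat_lit 1177), [nat_lit 0, nat_lit 5, nat_lit 3, nat_lit 5, nat_lit 0, nat_lit 3, nat_lit 1, nat_lit 3, nat_lit 4, nat_lit 3, nat_lit 0, nat_lit 1, nat_lit 0])) (.node (nat_lit 1657) (.leaf ((nat_lit 1012), [nat_lit 0, nat_lit 1, nat_lit 5, nat_lit 4, nat_lit 0, nat_lit 4, nat_lit 1, nat_lit 3, nat_lit 1, nat_lit 0, nat_lit 2, nat_lit 0, nat_lit 2, nat_lit 2])) (.leaf ((nat_lit 1178), [nat_lit 4, nat_lit 3, nat_lit 5, nat_lit 2, nat_lit 5, nat_lit 2, nat_lit 4, nat_lit 0, nat_lit 4, nat_lit 0, nat_lit 4, nat_lit 0, nat_lit 2, nat_lit 0, nat_lit 1, nat_lit 0, nat_lit 1, nat_lit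 0])))) (.node (nat_lit 1659) (.leaf ((nat_lit 782), [nat_lit 4, nat_lit 5, nat_lit 2, nat_lit 3, nat_lit 5, nat_lit 0, nat_lit 3, nat_lit 1, nat_lit 4, nat_lit 1, nat_lit 0, nat_lit 2, nat_lit 2, nat_lit 0, nat_lit 1])) (.node (nat_lit 1660) (.leaf ((nat_lit 1179), [nat_lit 4, nat_lit 1, nat_lit 5, nat_lit 0, nat_lit 5, nat_lit 2, nat_lit 4, nat_lit 0, nat_lit 4, nat_lit 2, nat_lit 0, nat_lit 2])) (.leaf ((nat_lit 1180), [nat_lit 3, nat_lit 5, nat_lit 0, nat_lit 3, nat_lit 5, nat_lit 2, nat_lit 0, nat_lit 1, nat_lit 0, nat_lit 4, nat_lit 1, nat_lit 0, nat_lit 2, nat_lit 2, nat_lit 0, nat_lit 1]))))))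
 (.node (nat_lit 1666) (.node (nat_lit 1663) (.node (nat_lit 1662) (.leaf ((nat_lit 1181), [nat_lit 0, nat_lit 3, nat_lit 5, nat_lit 2, nat_lit 4, nat_lit 3, nat_lit 2, nat_lit 2, nat_lit 0, nat_lit 2, nat_lit 0])) (.leaf ((nat_lit 726), [nat_lit 3, nat_lit 0, nat_lit 5, nat_lit 2, nat_lit 3, nat_lit 1, nat_lit 3, nat_lit 4, nat_lit 3, nat_lit 0, nat_lit 2, nat_lit 0, nat_lit 1]))) (.node (nat_lit 1664) (.leaf ((nat_lit 92), [nat_lit 3, nat_lit 1, nat_lit 5, nat_lit 2, nat_lit 5, nat_lit 4, nat_lit 3, nat_lit 1, nat_lit 4, nat_lit 0, nat_lit 1, nat_lit 0, nat_lit 2, nat_lit 2])) (.node (nat_lit 1665) (.leaf ((nat_lit 12), [nat_lit 4, nat_lit 3, nat_lit 5, nat_lit 3, nat_lit 0, nat_lit 3, nat_lit 0, nat_lit 2, nat_lit 4, nat_lit 0, nat_lit 2, nat_lit 0, nat_lit 1, nat_lit 0])) (.leaf ((nat_lit 1182), [nat_lit 4, nat_lit 3, nat_lit 5, nat_lit 0, nat_lit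 5, nat_lit 2, nat_lit 4, nat_lit 0, nat_lit 1, nat_lit 0, nat_lit 3, nat_lit 1, nat_lit 0, nat_lit 2, nat_lit 2])))))
 (.node (nat_lit 1669) (.node (nat_lit 1667) (.leaf ((nat_lit 1183), [nat_lit 4, nat_lit 5, nat_lit 3, nat_lit 0, nat_lit 5, nat_lit 3, nat_lit 4, nat_lit 0, nat_lit 2, nat_lit 2, nat_lit 3, nat_lit 2, nat_lit 2, nat_lit 0, nat_lit 2, nat_lit 2, nat_lit 0])) (.node (nat_lit 1668) (.leaf ((nat_lit 1101), [nat_lit 5, nat_lit 0, nat_lit 4, nat_lit 5, nat_lit 0, nat_lit 1, nat_lit 0, nat_lit 4, nat_lit 0, nat_lit 2, nat_lit 0, nat_lit 2, nat_lit 2, nat_lit 0, nat_lit 2, nat_lit 0])) (.leaf ((nat_lit 392), [nat_lit 5, nat_lit 1, nat_lit 3, nat_lit 0, nat_lit 5, nat_lit 3, nat_lit 4, nat_lit 2, nat_lit 0, nat_lit 2, nat_lit 3, nat_lit 2, nat_lit 2, nat_lit 0, nat_lit 1, nat_lit 0])))) (.node (nat_lit 1670) (.leaf ((nat_lit 229), [nat_lit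 3, nat_lit 2, nat_lit 5, nat_lit 0, nat_lit 5, nat_lit 3, nat_lit 0, nat_lit 1, nat_lit 4, nat_lit 1, nat_lit 0, nat_lit 1, nat_lit 0, nat_lit 2])) (.node (nat_lit 1671) (.leaf ((nat_lit 399), [nat_lit 5, nat_lit 2, nat_lit 2, nat_lit 0, nat_lit 5, nat_lit 4, nat_lit 3, nat_lit 0, nat_lit 1, nat_lit 0, nat_lit 3, nat_lit 0, nat_lit 2])) (.leaf ((nat_lit 1041), [nat_lit 0, nat_lit 5, nat_lit 3, nat_lit 5, nat_lit 0, nat_lit 4, nat_lit 2, nat_lit 3, nat_lit 0, nat_lit 3, nat_lit 2, nat_lit 0, nat_lit 2, nat_lit 2, nat_lit 0, nat_lit 1, nat_lit 0])))))))))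
 (.node (nat_lit 1716) (.node (nat_lit 1694) (.node (nat_lit 1683) (.node (nat_lit 1677) (.node (nat_lit 1674) (.node (nat_lit 1673) (.leaf ((nat_lit 702), [nat_lit 4, nat_lit 5, nat_lit 2, nat_lit 0, nat_lit 5, nat_lit 2, nat_lit 4, nat_lit 3, nat_lit 1, nat_lit 4, nat_lit 3, nat_lit 0, nat_lit 2, nat_lit 2, nat_lit 0, nat_lit 1, nat_lit 0, nat_lit 2])) (.leaf ((nat_lit 1184), [nat_lit 2, nat_lit 5, nat_lit 0, nat_lit 5, nat_lit 3, nat_lit 0, nat_lit 1, nat_lit 3, nat_lit 0, nat_lit 3, nat_lit 0, nat_lit 2, nat_lit 0, nat_lit 2, nat_lit 2, nat_lit 0, nat_lit 1, nat_lit 0]))) (.node (nat_lit 1675) (.leaf ((nat_lit 1185), [nat_lit 5, nat_lit 3, nat_lit 2, nat_lit 0, nat_lit 5, nat_lit 1, nat_lit 0, nat_lit 3, nat_lit 4, nat_lit 0, nat_lit 3, nat_lit 2, nat_lit 2, nat_lit 0, nat_lit 2, nat_lit 2, nat_lit 0, nat_lit 2, nat_lit 2, nat_lit 0])) (.node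 (nat_lit 1676) (.leaf ((nat_lit 1186), [nat_lit 5, nat_lit 4, nat_lit 3, nat_lit 2, nat_lit 5, nat_lit 3, nat_lit 4, nat_lit 0, nat_lit 3, nat_lit 4, nat_lit 0, nat_lit 1, nat_lit 0, nat_lit 1, nat_lit 0, nat_lit 2, nat_lit 0])) (.leaf ((nat_lit 677), [nat_lit 1, nat_lit 4, nat_lit 2, nat_lit 5, nat_lit 2, nat_lit 4, nat_lit 0, nat_lit 1, nat_lit 0, nat_lit 3, nat_lit 0, nat_lit 2, nat_lit 0, nat_lit 2, nat_lit 0])))))
 (.node (nat_lit 1680) (.node (nat_lit 1678) (.leaf ((nat_lit 572), [nat_lit 4, nat_lit 5, nat_lit 4, nat_lit 3, nat_lit 2, nat_lit 0, nat_lit 2, nat_lit 3, nat_lit 2, nat_lit 0, nat_lit 2, nat_lit 0, nat_lit 1, nat_lit 0, nat_lit 1, nat_lit 0])) (.node (nat_lit 1679) (.leaf ((nat_lit 1187), [nat_lit 3, nat_lit 2, nat_lit 3, nat_lit 5, nat_lit 3, nat_lit 2, nat_lit 2, nat_lit 0, nat_lit 4, nat_lit 0, nat_lit 2, nat_lit 2, nat_lit 0]))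 (.leaf ((nat_lit 298), [nat_lit 2, nat_lit 0, nat_lit 1, nat_lit 5, nat_lit 3, nat_lit 0, nat_lit 3, nat_lit 2, nat_lit 0, nat_lit 3, nat_lit 1, nat_lit 0, nat_lit 2, nat_lit 2, nat_lit 0, nat_lit 1])))) (.node (nat_lit 1681) (.leaf ((nat_lit 563), [nat_lit 5, nat_lit 0, nat_lit 3, nat_lit 1, nat_lit 4, nat_lit 0, nat_lit 1, nat_lit 0, nat_lit 1, nat_lit 0, nat_lit 2])) (.node (nat_lit 1682) (.leaf ((nat_lit 768), [nat_lit 4, nat_lit 3, nat_lit 2, nat_lit 5, nat_lit 2, nat_lit 4, nat_lit 3, nat_lit 2, nat_lit 3, nat_lit 2, nat_lit 2, nat_lit 0, nat_lit 1, nat_lit 0, nat_lit 2, nat_lit 2, nat_lit 0])) (.leaf ((nat_lit 1123), [nat_lit 1, nat_lit 4, nat_lit 5, nat_lit 1, nat_lit 5, nat_lit 4, nat_lit 1, nat_lit 4, nat_lit 1, nat_lit 4, nat_lit 3, nat_lit 0, nat_lit 1, nat_lit 0, nat_lit 1]))))))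
 (.node (nat_lit 1688) (.node (nat_lit 1685) (.node (nat_lit 1684) (.leaf ((nat_lit 113), [nat_lit 4, nat_lit 3, nat_lit 5, nat_lit 4, nat_lit 3, nat_lit 2, nat_lit 0, nat_lit 2, nat_lit 3, nat_lit 2, nat_lit 2, nat_lit 0, nat_lit 2, nat_lit 2, nat_lit 0, nat_lit 2])) (.leaf ((nat_lit 665), [nat_lit 4, nat_lit 2, nat_lit 0, nat_lit 5, nat_lit 4, nat_lit 3, nat_lit 2, nat_lit 4, nat_lit 3, nat_lit 2, nat_lit 2]))) (.node (nat_lit 1686) (.leaf ((nat_lit 894), [nat_lit 3, nat_lit 2, nat_lit 5, nat_lit 0, nat_lit 5, nat_lit 4, nat_lit 1, nat_lit 3, nat_lit 0, nat_lit 2, nat_lit 0, nat_lit 2, nat_lit 2, nat_lit 0])) (.node (nat_lit 1687) (.leaf ((nat_lit 767), [nat_lit 2, nat_lit 2, nat_lit 5, nat_lit 4, nat_lit 1, nat_lit 3, nat_lit 2, nat_lit 4, nat_lit 0, nat_lit 2, nat_lit 0, nat_lit 2, nat_lit 2, nat_lit 0])) (.leaf ((nat_lit 644), [nat_lit 5, nat_lit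 2, nat_lit 3, nat_lit 5, nat_lit 4, nat_lit 1, nat_lit 0, nat_lit 3, nat_lit 1, nat_lit 4, nat_lit 2, nat_lit 2, nat_lit 0, nat_lit 2, nat_lit 2, nat_lit 0])))))
 (.node (nat_lit 1691) (.node (nat_lit 1689) (.leaf ((nat_lit 963), [nat_lit 2, nat_lit 4, nat_lit 0, nat_lit 5, nat_lit 0, nat_lit 3, nat_lit 2, nat_lit 3, nat_lit 2, nat_lit 3, nat_lit 0, nat_lit 2, nat_lit 2, nat_lit 0, nat_lit 2, nat_lit 0, nat_lit 1])) (.node (nat_lit 1690) (.leaf ((nat_lit 1188), [nat_lit 2, nat_lit 2, nat_lit 5, nat_lit 3, nat_lit 4, nat_lit 3, nat_lit 1, nat_lit 3, nat_lit 0, nat_lit 2, nat_lit 2, nat_lit 0])) (.leaf ((nat_lit 1189), [nat_lit 5, nat_lit 1, nat_lit 5, nat_lit 4, nat_lit 2, nat_lit 3, nat_lit 0, nat_lit 3, nat_lit 2, nat_lit 0, nat_lit 1, nat_lit 0, nat_lit 2, nat_lit 2])))) (.node (nat_lit 1692) (.leaf ((nat_lit 1190), [nat_lit 5, nat_lit 1, nat_lit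 5, nat_lit 0, nat_lit 5, nat_lit 3, nat_lit 4, nat_lit 0, nat_lit 3, nat_lit 1, nat_lit 3, nat_lit 0, nat_lit 1, nat_lit 0, nat_lit 2, nat_lit 2])) (.node (nat_lit 1693) (.leaf ((nat_lit 234), [nat_lit 5, nat_lit 1, nat_lit 3, nat_lit 0, nat_lit 5, nat_lit 3, nat_lit 4, nat_lit 2, nat_lit 0, nat_lit 4, nat_lit 2, nat_lit 0, nat_lit 2, nat_lit 2])) (.leaf ((nat_lit 633), [nat_lit 5, nat_lit 0, nat_lit 5, nat_lit 4, nat_lit 3, nat_lit 1, nat_lit 4, nat_lit 1, nat_lit 3, nat_lit 2, nat_lit 0, nat_lit 2, nat_lit 0, nat_lit 1, nat_lit 0, nat_lit 1])))))))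
 (.node (nat_lit 1705) (.node (nat_lit 1699) (.node (nat_lit 1696) (.node (nat_lit 1695) (.leaf ((nat_lit 1191), [nat_lit 5, nat_lit 2, nat_lit 2, nat_lit 0, nat_lit 5, nat_lit 1, nat_lit 4, nat_lit 1, nat_lit 4, nat_lit 3, nat_lit 0, nat_lit 1, nat_lit 0, nat_lit 2, nat_lit 0, nat_lit 2])) (.leaf ((nat_lit 84), [nat_lit 4, nat_lit 5, nat_lit 3, nat_lit 2, nat_lit 5, nat_lit 3, nat_lit 4, nat_lit 0, nat_lit 3, nat_lit 1, nat_lit 3, nat_lit 1, nat_lit 0, nat_lit 1]))) (.node (nat_lit 1697) (.leaf ((nat_lit 1034), [nat_lit 5, nat_lit 4, nat_lit 5, nat_lit 0, nat_lit 2, nat_lit 0, nat_lit 3, nat_lit 4, nat_lit 0, nat_lit 1, nat_lit 0, nat_lit 2, nat_lit 0])) (.node (nat_lit 1698) (.leaf ((nat_lit 586), [nat_lit 2, nat_lit 5, nat_lit 1, nat_lit 5, nat_lit 0, nat_lit 3, nat_lit 4, nat_lit 3, nat_lit 1, nat_lit 0, nat_lit 2, nat_lit 2, nat_lit 0, nat_lit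 1, nat_lit 0])) (.leaf ((nat_lit 1192), [nat_lit 5, nat_lit 0, nat_lit 3, nat_lit 5, nat_lit 1, nat_lit 0, nat_lit 2, nat_lit 0, nat_lit 2, nat_lit 4, nat_lit 0, nat_lit 2, nat_lit 0, nat_lit 2])))))
 (.node (nat_lit 1702) (.node (nat_lit 1700) (.leaf ((nat_lit 264), [nat_lit 5, nat_lit 2, nat_lit 4, nat_lit 0, nat_lit 5, nat_lit 4, nat_lit 3, nat_lit 1, nat_lit 4, nat_lit 1, nat_lit 0, nat_lit 1, nat_lit 0, nat_lit 2, nat_lit 2])) (.node (nat_lit 1701) (.leaf ((nat_lit 618), [nat_lit 0, nat_lit 5, nat_lit 3, nat_lit 1, nat_lit 0, nat_lit 3, nat_lit 1, nat_lit 3, nat_lit 0, nat_lit 1, nat_lit 0, nat_lit 2, nat_lit 2, nat_lit 0, nat_lit 2, nat_lit 0])) (.leaf ((nat_lit 1193), [nat_lit 3, nat_lit 1, nat_lit 5, nat_lit 2, nat_lit 5, nat_lit 0, nat_lit 2, nat_lit 3, nat_lit 1, nat_lit 0, nat_lit 2, nat_lit 0, nat_lit 1, nat_lit 0])))) (.node (nat_lit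 1703) (.leaf ((nat_lit 1194), [nat_lit 2, nat_lit 5, nat_lit 0, nat_lit 1, nat_lit 5, nat_lit 2, nat_lit 0, nat_lit 2, nat_lit 2, nat_lit 3, nat_lit 0, nat_lit 2, nat_lit 2, nat_lit 0, nat_lit 2])) (.node (nat_lit 1704) (.leaf ((nat_lit 1011), [nat_lit 2, nat_lit 3, nat_lit 0, nat_lit 5, nat_lit 0, nat_lit 1, nat_lit 4, nat_lit 3, nat_lit 1, nat_lit 0, nat_lit 1, nat_lit 0, nat_lit 2, nat_lit 0, nat_lit 2, nat_lit 0])) (.leaf ((nat_lit 1195), [nat_lit 4, nat_lit 2, nat_lit 0, nat_lit 5, nat_lit 0, nat_lit 1, nat_lit 3, nat_lit 1, nat_lit 0, nat_lit 4, nat_lit 1, nat_lit 0, nat_lit 1, nat_lit 0, nat_lit 2, nat_lit 0, nat_lit 2]))))))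
 (.node (nat_lit 1710) (.node (nat_lit 1707) (.node (nat_lit 1706) (.leaf ((nat_lit 272), [nat_lit 4, nat_lit 5, nat_lit 0, nat_lit 3, nat_lit 5, nat_lit 1, nat_lit 3, nat_lit 1, nat_lit 3, nat_lit 4, nat_lit 0, nat_lit 1, nat_lit 0, nat_lit 1, nat_lit 0, nat_lit 2, nat_lit 0])) (.leaf ((nat_lit 116), [nat_lit 2, nat_lit 5, nat_lit 4, nat_lit 5, nat_lit 3, nat_lit 1, nat_lit 4, nat_lit 0, nat_lit 4, nat_lit 1, nat_lit 0, nat_lit 1, nat_lit 0, nat_lit 2, nat_lit 0, nat_lit 2, nat_lit 0]))) (.node (nat_lit 1708) (.leaf ((nat_lit 976), [nat_lit 3, nat_lit 5, nat_lit 3, nat_lit 2, nat_lit 4, nat_lit 3, nat_lit 0, nat_lit 2, nat_lit 2, nat_lit 0, nat_lit 1, nat_lit 0])) (.node (nat_lit 1709) (.leaf ((nat_lit 1196), [nat_lit 5, nat_lit 0, nat_lit 4, nat_lit 5, nat_lit 4, nat_lit 2, nat_lit 0, nat_lit 2, nat_lit 3, nat_lit 0, nat_lit 2, nat_lit 0, nat_lit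 1, nat_lit 0, nat_lit 1, nat_lit 0])) (.leaf ((nat_lit 964), [nat_lit 2, nat_lit 3, nat_lit 0, nat_lit 5, nat_lit 1, nat_lit 4, nat_lit 3, nat_lit 1, nat_lit 0, nat_lit 4, nat_lit 0, nat_lit 2, nat_lit 0, nat_lit 1, nat_lit 0, nat_lit 1, nat_lit 0])))))
 (.node (nat_lit 1713) (.node (nat_lit 1711) (.leaf ((nat_lit 492), [nat_lit 4, nat_lit 0, nat_lit 5, nat_lit 2, nat_lit 5, nat_lit 2, nat_lit 0, nat_lit 2, nat_lit 4, nat_lit 3, nat_lit 1, nat_lit 0, nat_lit 2, nat_lit 2, nat_lit 0])) (.node (nat_lit 1712) (.leaf ((nat_lit 722), [nat_lit 2, nat_lit 4, nat_lit 5, nat_lit 2, nat_lit 0, nat_lit 5, nat_lit 3, nat_lit 4, nat_lit 3, nat_lit 0, nat_lit 3, nat_lit 2, nat_lit 0, nat_lit 2, nat_lit 2, nat_lit 0, nat_lit 2, nat_lit 2])) (.leaf ((nat_lit 1197), [nat_lit 5, nat_lit 1, nat_lit 5, nat_lit 0, nat_lit 3, nat_lit 4, nat_lit 3, nat_lit 2, nat_lit 2,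 nat_lit 0, nat_lit 1, nat_lit 0])))) (.node (nat_lit 1714) (.leaf ((nat_lit 501), [nat_lit 0, nat_lit 5, nat_lit 2, nat_lit 0, nat_lit 5, nat_lit 3, nat_lit 4, nat_lit 0, nat_lit 4, nat_lit 3, nat_lit 0, nat_lit 2, nat_lit 0, nat_lit 1, nat_lit 0, nat_lit 1])) (.node (nat_lit 1715) (.leaf ((nat_lit 1198), [nat_lit 1, nat_lit 4, nat_lit 5, nat_lit 1, nat_lit 5, nat_lit 2, nat_lit 4, nat_lit 2, nat_lit 0, nat_lit 2, nat_lit 3, nat_lit 0, nat_lit 2, nat_lit 0, nat_lit 2, nat_lit 2, nat_lit 0, nat_lit 1, nat_lit 0])) (.leaf ((nat_lit 1199), [nat_lit 2, nat_lit 5, nat_lit 4, nat_lit 5, nat_lit 4, nat_lit 0, nat_lit 1, nat_lit 0, nat_lit 1, nat_lit 0, nat_lit 3, nat_lit 0, nat_lit 2, nat_lit 2, nat_lit 0, nat_lit 2, nat_lit 2, nat_lit 0]))))))))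
 (.node (nat_lit 1738) (.node (nat_lit 1727) (.node (nat_lit 1721) (.node (nat_lit 1718) (.node (nat_lit 1717) (.leaf ((nat_lit 899), [nat_lit 4, nat_lit 3, nat_lit 5, nat_lit 2, nat_lit 0, nat_lit 3, nat_lit 0, nat_lit 2, nat_lit 3, nat_lit 1, nat_lit 0, nat_lit 2, nat_lit 0, nat_lit 2])) (.leaf ((nat_lit 121), [nat_lit 3, nat_lit 5, nat_lit 2, nat_lit 3, nat_lit 0, nat_lit 5, nat_lit 3, nat_lit 2, nat_lit 3, nat_lit 0, nat_lit 4, nat_lit 0, nat_lit 2, nat_lit 0, nat_lit 2, nat_lit 2, nat_lit 0, nat_lit 2]))) (.node (nat_lit 1719) (.leaf ((nat_lit 55), [nat_lit 0, nat_lit 1, nat_lit 5, nat_lit 2, nat_lit 3, nat_lit 4, nat_lit 3, nat_lit 0, nat_lit 3, nat_lit 0, nat_lit 2, nat_lit 0, nat_lit 2, nat_lit 2])) (.node (nat_lit 1720) (.leaf ((nat_lit 1200), [nat_lit 2, nat_lit 2, nat_lit 5, nat_lit 3, nat_lit 0, nat_lit 3, nat_lit 1, nat_lit 0, nat_lit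 2, nat_lit 0, nat_lit 1])) (.leaf ((nat_lit 1201), [nat_lit 0, nat_lit 2, nat_lit 5, nat_lit 3, nat_lit 5, nat_lit 3, nat_lit 2, nat_lit 2, nat_lit 3, nat_lit 2, nat_lit 0, nat_lit 2, nat_lit 2, nat_lit 0])))))
 (.node (nat_lit 1724) (.node (nat_lit 1722) (.leaf ((nat_lit 1048), [nat_lit 2, nat_lit 5, nat_lit 1, nat_lit 5, nat_lit 2, nat_lit 0, nat_lit 3, nat_lit 1, nat_lit 4, nat_lit 0, nat_lit 1, nat_lit 0, nat_lit 1])) (.node (nat_lit 1723) (.leaf ((nat_lit 69), [nat_lit 0, nat_lit 5, nat_lit 3, nat_lit 1, nat_lit 3, nat_lit 0, nat_lit 4, nat_lit 2, nat_lit 0])) (.leaf ((nat_lit 1082), [nat_lit 3, nat_lit 5, nat_lit 2, nat_lit 3, nat_lit 0, nat_lit 5, nat_lit 2, nat_lit 4, nat_lit 0, nat_lit 3, nat_lit 4, nat_lit 2, nat_lit 0, nat_lit 1, nat_lit 0, nat_lit 2, nat_lit 0, nat_lit 2])))) (.node (nat_lit 1725) (.leaf ((nat_lit 895), [nat_lit 2, nat_lit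 5, nat_lit 4, nat_lit 5, nat_lit 4, nat_lit 1, nat_lit 0, nat_lit 2, nat_lit 3, nat_lit 0, nat_lit 2, nat_lit 2, nat_lit 0, nat_lit 1])) (.node (nat_lit 1726) (.leaf ((nat_lit 1202), [nat_lit 3, nat_lit 2, nat_lit 5, nat_lit 0, nat_lit 5, nat_lit 3, nat_lit 0, nat_lit 1, nat_lit 3, nat_lit 0, nat_lit 3, nat_lit 2, nat_lit 2, nat_lit 0, nat_lit 2, nat_lit 2, nat_lit 0, nat_lit 1])) (.leaf ((nat_lit 536), [nat_lit 2, nat_lit 3, nat_lit 0, nat_lit 5, nat_lit 2, nat_lit 3, nat_lit 4, nat_lit 2, nat_lit 4, nat_lit 2, nat_lit 0, nat_lit 2, nat_lit 2, nat_lit 0]))))))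
 (.node (nat_lit 1732) (.node (nat_lit 1729) (.node (nat_lit 1728) (.leaf ((nat_lit 1203), [nat_lit 2, nat_lit 3, nat_lit 0, nat_lit 5, nat_lit 1, nat_lit 3, nat_lit 4, nat_lit 1, nat_lit 3, nat_lit 2, nat_lit 0, nat_lit 2, nat_lit 2, nat_lit 0, nat_lit 2])) (.leaf ((nat_lit 452), [nat_lit 2, nat_lit 5, nat_lit 0, nat_lit 1, nat_lit 5, nat_lit 0, nat_lit 2, nat_lit 2, nat_lit 0, nat_lit 4, nat_lit 0, nat_lit 1, nat_lit 0, nat_lit 1, nat_lit 0, nat_lit 2]))) (.node (nat_lit 1730) (.leaf ((nat_lit 1204), [nat_lit 5, nat_lit 2, nat_lit 3, nat_lit 0, nat_lit 5, nat_lit 3, nat_lit 1, nat_lit 3, nat_lit 0, nat_lit 2, nat_lit 4, nat_lit 2, nat_lit 0, nat_lit 1, nat_lit 0, nat_lit 1, nat_lit 0, nat_lit 2])) (.node (nat_lit 1731) (.leaf ((nat_lit 1093), [nat_lit 1, nat_lit 5, nat_lit 3, nat_lit 5, nat_lit 4, nat_lit 1, nat_lit 3, nat_lit 2, nat_lit 4])) (.leaf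 ((nat_lit 710), [nat_lit 5, nat_lit 1, nat_lit 0, nat_lit 3, nat_lit 5, nat_lit 0, nat_lit 4, nat_lit 3, nat_lit 2, nat_lit 0, nat_lit 2, nat_lit 2, nat_lit 0, nat_lit 2, nat_lit 2, nat_lit 0])))))
 (.node (nat_lit 1735) (.node (nat_lit 1733) (.leaf ((nat_lit 616), [nat_lit 3, nat_lit 5, nat_lit 3, nat_lit 0, nat_lit 5, nat_lit 1, nat_lit 4, nat_lit 3, nat_lit 0, nat_lit 3, nat_lit 0, nat_lit 2, nat_lit 0, nat_lit 1, nat_lit 0, nat_lit 1])) (.node (nat_lit 1734) (.leaf ((nat_lit 883), [nat_lit 5, nat_lit 1, nat_lit 0, nat_lit 2, nat_lit 5, nat_lit 0, nat_lit 2, nat_lit 2, nat_lit 3, nat_lit 0, nat_lit 2, nat_lit 2, nat_lit 0, nat_lit 1, nat_lit 0, nat_lit 2, nat_lit 0])) (.leaf ((nat_lit 1205), [nat_lit 4, nat_lit 2, nat_lit 5, nat_lit 1, nat_lit 5, nat_lit 4, nat_lit 1, nat_lit 3, nat_lit 0, nat_lit 1, nat_lit 4, nat_lit 1, nat_lit 0, nat_lit 1,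 nat_lit 0, nat_lit 2, nat_lit 0])))) (.node (nat_lit 1736) (.leaf ((nat_lit 1206), [nat_lit 0, nat_lit 1, nat_lit 5, nat_lit 3, nat_lit 0, nat_lit 2, nat_lit 4, nat_lit 2, nat_lit 2, nat_lit 0, nat_lit 2, nat_lit 0, nat_lit 1])) (.node (nat_lit 1737) (.leaf ((nat_lit 1207), [nat_lit 5, nat_lit 4, nat_lit 2, nat_lit 5, nat_lit 0, nat_lit 2, nat_lit 2, nat_lit 3, nat_lit 0, nat_lit 1, nat_lit 0, nat_lit 2, nat_lit 0, nat_lit 2, nat_lit 2, nat_lit 0])) (.leaf ((nat_lit 475), [nat_lit 5, nat_lit 2, nat_lit 2, nat_lit 0, nat_lit 5, nat_lit 2, nat_lit 3, nat_lit 1, nat_lit 3, nat_lit 4, nat_lit 2, nat_lit 2, nat_lit 0, nat_lit 2, nat_lit 2, nat_lit 0, nat_lit 2, nat_lit 0])))))))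
 (.node (nat_lit 1749) (.node (nat_lit 1743) (.node (nat_lit 1740) (.node (nat_lit 1739) (.leaf ((nat_lit 1076), [nat_lit 4, nat_lit 1, nat_lit 5, nat_lit 3, nat_lit 5, nat_lit 2, nat_lit 4, nat_lit 2, nat_lit 2, nat_lit 4, nat_lit 3, nat_lit 1, nat_lit 0, nat_lit 1, nat_lit 0, nat_lit 2, nat_lit 0, nat_lit 2])) (.leaf ((nat_lit 1208), [nat_lit 1, nat_lit 0, nat_lit 3, nat_lit 5, nat_lit 3, nat_lit 0, nat_lit 4, nat_lit 0, nat_lit 4, nat_lit 0, nat_lit 1, nat_lit 0, nat_lit 2, nat_lit 0, nat_lit 2]))) (.node (nat_lit 1741) (.leaf ((nat_lit 1209), [nat_lit 2, nat_lit 5, nat_lit 2, nat_lit 3, nat_lit 5, nat_lit 3, nat_lit 0, nat_lit 3, nat_lit 0, nat_lit 4, nat_lit 1])) (.node (nat_lit 1742) (.leaf ((nat_lit 1210), [nat_lit 0, nat_lit 5, nat_lit 3, nat_lit 0, nat_lit 5, nat_lit 0, nat_lit 2, nat_lit 2, nat_lit 0, nat_lit 4, nat_lit 2, nat_lit 0, nat_lit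 1, nat_lit 0, nat_lit 1, nat_lit 0])) (.leaf ((nat_lit 621), [nat_lit 4, nat_lit 5, nat_lit 0, nat_lit 3, nat_lit 5, nat_lit 2, nat_lit 0, nat_lit 4, nat_lit 0, nat_lit 2, nat_lit 0, nat_lit 2, nat_lit 2, nat_lit 0, nat_lit 2])))))
 (.node (nat_lit 1746) (.node (nat_lit 1744) (.leaf ((nat_lit 1211), [nat_lit 2, nat_lit 5, nat_lit 1, nat_lit 5, nat_lit 4, nat_lit 1, nat_lit 4, nat_lit 2, nat_lit 4, nat_lit 2, nat_lit 2, nat_lit 0, nat_lit 1, nat_lit 0])) (.node (nat_lit 1745) (.leaf ((nat_lit 132), [nat_lit 0, nat_lit 5, nat_lit 0, nat_lit 3, nat_lit 0, nat_lit 2, nat_lit 4, nat_lit 3, nat_lit 1, nat_lit 0, nat_lit 2, nat_lit 2, nat_lit 0, nat_lit 1])) (.leaf ((nat_lit 328), [nat_lit 1, nat_lit 3, nat_lit 0, nat_lit 5, nat_lit 2, nat_lit 3, nat_lit 1, nat_lit 3, nat_lit 0, nat_lit 1, nat_lit 0, nat_lit 2, nat_lit 0, nat_lit 2, nat_lit 2, nat_lit 0]))))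 (.node (nat_lit 1747) (.leaf ((nat_lit 924), [nat_lit 3, nat_lit 2, nat_lit 3, nat_lit 5, nat_lit 0, nat_lit 2, nat_lit 0, nat_lit 2, nat_lit 3, nat_lit 0, nat_lit 2, nat_lit 2, nat_lit 0, nat_lit 2, nat_lit 0, nat_lit 1, nat_lit 0])) (.node (nat_lit 1748) (.leaf ((nat_lit 276), [nat_lit 5, nat_lit 2, nat_lit 3, nat_lit 5, nat_lit 0, nat_lit 4, nat_lit 3, nat_lit 2, nat_lit 0, nat_lit 3, nat_lit 1, nat_lit 0, nat_lit 2, nat_lit 0, nat_lit 2, nat_lit 2, nat_lit 0])) (.leaf ((nat_lit 608), [nat_lit 3, nat_lit 0, nat_lit 1, nat_lit 3, nat_lit 4, nat_lit 2, nat_lit 3, nat_lit 0, nat_lit 1, nat_lit 0, nat_lit 2, nat_lit 0]))))))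
 (.node (nat_lit 1754) (.node (nat_lit 1751) (.node (nat_lit 1750) (.leaf ((nat_lit 1212), [nat_lit 3, nat_lit 4, nat_lit 5, nat_lit 2, nat_lit 5, nat_lit 3, nat_lit 0, nat_lit 4, nat_lit 1, nat_lit 3, nat_lit 2, nat_lit 0, nat_lit 1, nat_lit 0, nat_lit 2, nat_lit 2, nat_lit 0])) (.leaf ((nat_lit 1213), [nat_lit 4, nat_lit 1, nat_lit 5, nat_lit 2, nat_lit 5, nat_lit 2, nat_lit 3, nat_lit 2, nat_lit 0, nat_lit 3, nat_lit 2, nat_lit 0, nat_lit 2, nat_lit 2, nat_lit 0, nat_lit 1]))) (.node (nat_lit 1752) (.leaf ((nat_lit 1135), [nat_lit 5, nat_lit 4, nat_lit 2, nat_lit 5, nat_lit 3, nat_lit 1, nat_lit 4, nat_lit 0, nat_lit 4, nat_lit 3, nat_lit 2, nat_lit 0, nat_lit 2, nat_lit 0, nat_lit 1, nat_lit 0])) (.node (nat_lit 1753) (.leaf ((nat_lit 1214), [nat_lit 0, nat_lit 5, nat_lit 3, nat_lit 5, nat_lit 0, nat_lit 2, nat_lit 4, nat_lit 2, nat_lit 0, nat_lit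 2, nat_lit 0])) (.leaf ((nat_lit 1215), [nat_lit 4, nat_lit 5, nat_lit 4, nat_lit 0, nat_lit 5, nat_lit 1, nat_lit 4, nat_lit 1, nat_lit 4, nat_lit 3, nat_lit 0, nat_lit 2, nat_lit 0, nat_lit 1, nat_lit 0, nat_lit 1])))))
 (.node (nat_lit 1757) (.node (nat_lit 1755) (.leaf ((nat_lit 993), [nat_lit 4, nat_lit 5, nat_lit 2, nat_lit 3, nat_lit 5, nat_lit 4, nat_lit 1, nat_lit 0, nat_lit 1, nat_lit 0, nat_lit 3, nat_lit 1, nat_lit 0, nat_lit 2, nat_lit 0, nat_lit 2, nat_lit 2, nat_lit 0])) (.node (nat_lit 1756) (.leaf ((nat_lit 423), [nat_lit 2, nat_lit 0, nat_lit 2, nat_lit 5, nat_lit 4, nat_lit 0, nat_lit 3, nat_lit 0, nat_lit 2, nat_lit 3, nat_lit 0, nat_lit 2, nat_lit 0, nat_lit 2, nat_lit 2, nat_lit 0, nat_lit 1])) (.leaf ((nat_lit 1216), [nat_lit 1, nat_lit 3, nat_lit 0, nat_lit 5, nat_lit 3, nat_lit 4, nat_lit 3, nat_lit 2, nat_lit 4, nat_lit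 1, nat_lit 0, nat_lit 2, nat_lit 2])))) (.node (nat_lit 1758) (.leaf ((nat_lit 345), [nat_lit 3, nat_lit 4, nat_lit 5, nat_lit 2, nat_lit 5, nat_lit 2, nat_lit 2, nat_lit 3, nat_lit 2, nat_lit 4, nat_lit 0, nat_lit 2, nat_lit 2])) (.node (nat_lit 1759) (.leaf ((nat_lit 32), [nat_lit 0, nat_lit 2, nat_lit 5, nat_lit 2, nat_lit 0, nat_lit 3, nat_lit 0, nat_lit 2, nat_lit 3, nat_lit 2, nat_lit 2, nat_lit 0, nat_lit 2, nat_lit 0])) (.leaf ((nat_lit 987), [nat_lit 5, nat_lit 1, nat_lit 5, nat_lit 0, nat_lit 5, nat_lit 2, nat_lit 4, nat_lit 3, nat_lit 2, nat_lit 0, nat_lit 1, nat_lit 0, nat_lit 2, nat_lit 2, nat_lit 0]))))))))))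
noncomputable def qWd_10 : Tr (ℕ × List ℕ) := (.node (nat_lit 1848) (.node (nat_lit 1804) (.node (nat_lit 1782) (.node (nat_lit 1771) (.node (nat_lit 1765) (.node (nat_lit 1762) (.node (nat_lit 1761) (.leaf ((nat_lit 1037), [nat_lit 3, nat_lit 5, nat_lit 1, nat_lit 3, nat_lit 2, nat_lit 5, nat_lit 1, nat_lit 4, nat_lit 3, nat_lit 0, nat_lit 2, nat_lit 0, nat_lit 2, nat_lit 2, nat_lit 0])) (.leaf ((nat_lit 1217), [nat_lit 2, nat_lit 5, nat_lit 0, nat_lit 1, nat_lit 5, nat_lit 0, nat_lit 4, nat_lit 1, nat_lit 0, nat_lit 3, nat_lit 0, nat_lit 2, nat_lit 2, nat_lit 0, nat_lit 1, nat_lit 0, nat_lit 2]))) (.node (nat_lit 1763) (.leaf ((nat_lit 594), [nat_lit 5, nat_lit 2, nat_lit 5, nat_lit 4, nat_lit 2, nat_lit 3, nat_lit 2, nat_lit 0, nat_lit 1, nat_lit 0, nat_lit 2, nat_lit 0, nat_lit 2])) (.node (nat_lit 1764) (.leaf ((nat_lit 1218), [nat_lit 5, nat_lit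 3, nat_lit 0, nat_lit 5, nat_lit 0, nat_lit 3, nat_lit 0, nat_lit 2, nat_lit 4, nat_lit 3, nat_lit 2, nat_lit 0, nat_lit 2, nat_lit 2, nat_lit 0, nat_lit 2, nat_lit 2])) (.leaf ((nat_lit 1219), [nat_lit 4, nat_lit 1, nat_lit 5, nat_lit 0, nat_lit 5, nat_lit 4, nat_lit 0, nat_lit 1, nat_lit 4, nat_lit 3, nat_lit 0, nat_lit 2, nat_lit 0, nat_lit 2, nat_lit 2, nat_lit 0, nat_lit 1])))))
 (.node (nat_lit 1768) (.node (nat_lit 1766) (.leaf ((nat_lit 1143), [nat_lit 4, nat_lit 3, nat_lit 2, nat_lit 5, nat_lit 4, nat_lit 3, nat_lit 1, nat_lit 3, nat_lit 1, nat_lit 0, nat_lit 2, nat_lit 2, nat_lit 0])) (.node (nat_lit 1767) (.leaf ((nat_lit 1220), [nat_lit 3, nat_lit 0, nat_lit 5, nat_lit 3, nat_lit 5, nat_lit 3, nat_lit 2, nat_lit 3, nat_lit 2, nat_lit 0, nat_lit 4, nat_lit 1, nat_lit 0, nat_lit 1, nat_lit 0])) (.leaf ((nat_lit 1221), [nat_lit 4, nat_lit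 5, nat_lit 2, nat_lit 0, nat_lit 5, nat_lit 2, nat_lit 0, nat_lit 3, nat_lit 2, nat_lit 3, nat_lit 2, nat_lit 0, nat_lit 2, nat_lit 2, nat_lit 0, nat_lit 1])))) (.node (nat_lit 1769) (.leaf ((nat_lit 909), [nat_lit 0, nat_lit 5, nat_lit 2, nat_lit 3, nat_lit 5, nat_lit 1, nat_lit 4, nat_lit 0, nat_lit 3, nat_lit 2, nat_lit 3, nat_lit 2, nat_lit 0, nat_lit 2, nat_lit 0, nat_lit 1, nat_lit 0, nat_lit 1])) (.node (nat_lit 1770) (.leaf ((nat_lit 1222), [nat_lit 5, nat_lit 1, nat_lit 5, nat_lit 0, nat_lit 1, nat_lit 4, nat_lit 2, nat_lit 0, nat_lit 2, nat_lit 2, nat_lit 0, nat_lit 2])) (.leaf ((nat_lit 346), [nat_lit 4, nat_lit 1, nat_lit 0, nat_lit 5, nat_lit 1, nat_lit 4, nat_lit 2, nat_lit 4, nat_lit 3, nat_lit 2, nat_lit 0, nat_lit 2, nat_lit 2, nat_lit 0]))))))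
 (.node (nat_lit 1776) (.node (nat_lit 1773) (.node (nat_lit 1772) (.leaf ((nat_lit 278), [nat_lit 2, nat_lit 5, nat_lit 1, nat_lit 5, nat_lit 0, nat_lit 3, nat_lit 1, nat_lit 3, nat_lit 4, nat_lit 3, nat_lit 2, nat_lit 2, nat_lit 0, nat_lit 1])) (.leaf ((nat_lit 1223), [nat_lit 5, nat_lit 3, nat_lit 0, nat_lit 5, nat_lit 2, nat_lit 4, nat_lit 2, nat_lit 4, nat_lit 2, nat_lit 2, nat_lit 0, nat_lit 2, nat_lit 2, nat_lit 0, nat_lit 2]))) (.node (nat_lit 1774) (.leaf ((nat_lit 219), [nat_lit 3, nat_lit 1, nat_lit 5, nat_lit 0, nat_lit 5, nat_lit 3, nat_lit 1, nat_lit 3, nat_lit 1, nat_lit 3, nat_lit 0, nat_lit 1, nat_lit 0, nat_lit 2, nat_lit 2, nat_lit 0, nat_lit 2, nat_lit 0])) (.node (nat_lit 1775) (.leaf ((nat_lit 568), [nat_lit 5, nat_lit 1, nat_lit 5, nat_lit 3, nat_lit 0, nat_lit 4, nat_lit 3, nat_lit 0, nat_lit 3, nat_lit 2, nat_lit 0, nat_lit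 1, nat_lit 0, nat_lit 1, nat_lit 0, nat_lit 2, nat_lit 0])) (.leaf ((nat_lit 1194), [nat_lit 3, nat_lit 5, nat_lit 0, nat_lit 5, nat_lit 3, nat_lit 2, nat_lit 0, nat_lit 4, nat_lit 1, nat_lit 0, nat_lit 2, nat_lit 2, nat_lit 0, nat_lit 2])))))
 (.node (nat_lit 1779) (.node (nat_lit 1777) (.leaf ((nat_lit 77), [nat_lit 1, nat_lit 3, nat_lit 2, nat_lit 5, nat_lit 1, nat_lit 0, nat_lit 3, nat_lit 2, nat_lit 3, nat_lit 2, nat_lit 2, nat_lit 0, nat_lit 2, nat_lit 0])) (.node (nat_lit 1778) (.leaf ((nat_lit 561), [nat_lit 0, nat_lit 2, nat_lit 5, nat_lit 3, nat_lit 5, nat_lit 4, nat_lit 1, nat_lit 3, nat_lit 0, nat_lit 3, nat_lit 0, nat_lit 2, nat_lit 0, nat_lit 2])) (.leaf ((nat_lit 556), [nat_lit 0, nat_lit 1, nat_lit 5, nat_lit 4, nat_lit 1, nat_lit 0, nat_lit 4, nat_lit 0, nat_lit 2, nat_lit 0, nat_lit 2, nat_lit 2, nat_lit 0, nat_lit 1])))) (.node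 (nat_lit 1780) (.leaf ((nat_lit 904), [nat_lit 5, nat_lit 2, nat_lit 4, nat_lit 0, nat_lit 5, nat_lit 3, nat_lit 2, nat_lit 3, nat_lit 2, nat_lit 4, nat_lit 2, nat_lit 0, nat_lit 1])) (.node (nat_lit 1781) (.leaf ((nat_lit 638), [nat_lit 2, nat_lit 2, nat_lit 0, nat_lit 5, nat_lit 2, nat_lit 3, nat_lit 2, nat_lit 0, nat_lit 4, nat_lit 1, nat_lit 0, nat_lit 2, nat_lit 2, nat_lit 0])) (.leaf ((nat_lit 1224), [nat_lit 3, nat_lit 0, nat_lit 5, nat_lit 3, nat_lit 4, nat_lit 2, nat_lit 0, nat_lit 4, nat_lit 1, nat_lit 0, nat_lit 2, nat_lit 0, nat_lit 1])))))))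
 (.node (nat_lit 1793) (.node (nat_lit 1787) (.node (nat_lit 1784) (.node (nat_lit 1783) (.leaf ((nat_lit 962), [nat_lit 4, nat_lit 5, nat_lit 3, nat_lit 5, nat_lit 4, nat_lit 2, nat_lit 0, nat_lit 4, nat_lit 2, nat_lit 0, nat_lit 2, nat_lit 0, nat_lit 1])) (.leaf ((nat_lit 1019), [nat_lit 1, nat_lit 5, nat_lit 0, nat_lit 5, nat_lit 4, nat_lit 0, nat_lit 4, nat_lit 3, nat_lit 0, nat_lit 3, nat_lit 0, nat_lit 1, nat_lit 0, nat_lit 2, nat_lit 2, nat_lit 0, nat_lit 2]))) (.node (nat_lit 1785) (.leaf ((nat_lit 790), [nat_lit 5, nat_lit 3, nat_lit 2, nat_lit 0, nat_lit 5, nat_lit 2, nat_lit 2, nat_lit 4, nat_lit 1, nat_lit 0, nat_lit 3, nat_lit 0, nat_lit 2, nat_lit 2, nat_lit 0, nat_lit 2, nat_lit 2])) (.node (nat_lit 1786) (.leaf ((nat_lit 1225), [nat_lit 0, nat_lit 5, nat_lit 3, nat_lit 0, nat_lit 5, nat_lit 2, nat_lit 3, nat_lit 0, nat_lit 2, nat_lit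 4, nat_lit 3, nat_lit 1, nat_lit 0, nat_lit 1])) (.leaf ((nat_lit 512), [nat_lit 2, nat_lit 0, nat_lit 1, nat_lit 5, nat_lit 2, nat_lit 0, nat_lit 3, nat_lit 0, nat_lit 4, nat_lit 0, nat_lit 2, nat_lit 0, nat_lit 2, nat_lit 2, nat_lit 0, nat_lit 2, nat_lit 0])))))
 (.node (nat_lit 1790) (.node (nat_lit 1788) (.leaf ((nat_lit 1226), [nat_lit 3, nat_lit 2, nat_lit 5, nat_lit 1, nat_lit 4, nat_lit 0, nat_lit 4, nat_lit 2, nat_lit 0, nat_lit 2, nat_lit 0, nat_lit 1])) (.node (nat_lit 1789) (.leaf ((nat_lit 462), [nat_lit 0, nat_lit 2, nat_lit 5, nat_lit 3, nat_lit 5, nat_lit 2, nat_lit 3, nat_lit 2, nat_lit 2, nat_lit 3, nat_lit 0, nat_lit 2, nat_lit 2, nat_lit 0, nat_lit 2, nat_lit 2, nat_lit 0])) (.leaf ((nat_lit 1227), [nat_lit 5, nat_lit 2, nat_lit 5, nat_lit 3, nat_lit 1, nat_lit 4, nat_lit 3, nat_lit 0, nat_lit 1, nat_lit 0, nat_lit 2, nat_lit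 2, nat_lit 0, nat_lit 2])))) (.node (nat_lit 1791) (.leaf ((nat_lit 267), [nat_lit 1, nat_lit 3, nat_lit 2, nat_lit 5, nat_lit 0, nat_lit 2, nat_lit 3, nat_lit 4, nat_lit 1, nat_lit 3, nat_lit 0, nat_lit 2, nat_lit 2, nat_lit 0, nat_lit 1, nat_lit 0])) (.node (nat_lit 1792) (.leaf ((nat_lit 1228), [nat_lit 0, nat_lit 5, nat_lit 3, nat_lit 5, nat_lit 2, nat_lit 3, nat_lit 2, nat_lit 0, nat_lit 3, nat_lit 2, nat_lit 0, nat_lit 2, nat_lit 0])) (.leaf ((nat_lit 1229), [nat_lit 5, nat_lit 1, nat_lit 0, nat_lit 2, nat_lit 5, nat_lit 4, nat_lit 3, nat_lit 1, nat_lit 3, nat_lit 1, nat_lit 0, nat_lit 1, nat_lit 0, nat_lit 2, nat_lit 2]))))))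
 (.node (nat_lit 1798) (.node (nat_lit 1795) (.node (nat_lit 1794) (.leaf ((nat_lit 1230), [nat_lit 5, nat_lit 4, nat_lit 3, nat_lit 5, nat_lit 2, nat_lit 5, nat_lit 0, nat_lit 2, nat_lit 4, nat_lit 1, nat_lit 0, nat_lit 3, nat_lit 0, nat_lit 1, nat_lit 0, nat_lit 2, nat_lit 0, nat_lit 2, nat_lit 0])) (.leaf ((nat_lit 688), [nat_lit 5, nat_lit 2, nat_lit 0, nat_lit 2, nat_lit 5, nat_lit 0, nat_lit 4, nat_lit 1, nat_lit 3, nat_lit 1, nat_lit 3, nat_lit 0, nat_lit 1, nat_lit 0, nat_lit 1, nat_lit 0, nat_lit 2]))) (.node (nat_lit 1796) (.leaf ((nat_lit 1189), [nat_lit 3, nat_lit 2, nat_lit 0, nat_lit 5, nat_lit 0, nat_lit 3, nat_lit 0, nat_lit 2, nat_lit 3, nat_lit 2, nat_lit 0, nat_lit 2])) (.node (nat_lit 1797) (.leaf ((nat_lit 1231), [nat_lit 1, nat_lit 0, nat_lit 2, nat_lit 5, nat_lit 4, nat_lit 3, nat_lit 1, nat_lit 3, nat_lit 1, nat_lit 3, nat_lit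 0, nat_lit 2, nat_lit 0, nat_lit 1, nat_lit 0, nat_lit 1, nat_lit 0])) (.leaf ((nat_lit 1075), [nat_lit 3, nat_lit 0, nat_lit 2, nat_lit 5, nat_lit 4, nat_lit 1, nat_lit 4, nat_lit 1, nat_lit 4, nat_lit 2, nat_lit 0, nat_lit 2, nat_lit 0])))))
 (.node (nat_lit 1801) (.node (nat_lit 1799) (.leaf ((nat_lit 1232), [nat_lit 3, nat_lit 5, nat_lit 1, nat_lit 3, nat_lit 2, nat_lit 5, nat_lit 3, nat_lit 4, nat_lit 1, nat_lit 3, nat_lit 0, nat_lit 3, nat_lit 0, nat_lit 2, nat_lit 0, nat_lit 1, nat_lit 0])) (.node (nat_lit 1800) (.leaf ((nat_lit 1130), [nat_lit 4, nat_lit 3, nat_lit 2, nat_lit 5, nat_lit 0, nat_lit 2, nat_lit 2, nat_lit 3, nat_lit 0, nat_lit 2, nat_lit 2, nat_lit 0, nat_lit 1])) (.leaf ((nat_lit 520), [nat_lit 5, nat_lit 2, nat_lit 5, nat_lit 0, nat_lit 4, nat_lit 0, nat_lit 1, nat_lit 0, nat_lit 3, nat_lit 1, nat_lit 0, nat_lit 2, nat_lit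 2, nat_lit 0, nat_lit 2, nat_lit 0])))) (.node (nat_lit 1802) (.leaf ((nat_lit 86), [nat_lit 4, nat_lit 0, nat_lit 5, nat_lit 2, nat_lit 5, nat_lit 1, nat_lit 0, nat_lit 1, nat_lit 0, nat_lit 3, nat_lit 2, nat_lit 2, nat_lit 0, nat_lit 1, nat_lit 0])) (.node (nat_lit 1803) (.leaf ((nat_lit 795), [nat_lit 5, nat_lit 2, nat_lit 4, nat_lit 0, nat_lit 5, nat_lit 2, nat_lit 4, nat_lit 3, nat_lit 0, nat_lit 3, nat_lit 2, nat_lit 0, nat_lit 1, nat_lit 0, nat_lit 2])) (.leaf ((nat_lit 473), [nat_lit 5, nat_lit 4, nat_lit 3, nat_lit 5, nat_lit 2, nat_lit 5, nat_lit 4, nat_lit 1, nat_lit 4, nat_lit 1, nat_lit 0, nat_lit 2, nat_lit 0, nat_lit 1]))))))))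
 (.node (nat_lit 1826) (.node (nat_lit 1815) (.node (nat_lit 1809) (.node (nat_lit 1806) (.node (nat_lit 1805) (.leaf ((nat_lit 1233), [nat_lit 3, nat_lit 1, nat_lit 3, nat_lit 0, nat_lit 5, nat_lit 4, nat_lit 3, nat_lit 1, nat_lit 3, nat_lit 0, nat_lit 2, nat_lit 2, nat_lit 0, nat_lit 1, nat_lit 0, nat_lit 2, nat_lit 0])) (.leaf ((nat_lit 1196), [nat_lit 5, nat_lit 3, nat_lit 5, nat_lit 3, nat_lit 0, nat_lit 2, nat_lit 3, nat_lit 0, nat_lit 1, nat_lit 0, nat_lit 2, nat_lit 2, nat_lit 0, nat_lit 1]))) (.node (nat_lit 1807) (.leaf ((nat_lit 305), [nat_lit 4, nat_lit 5, nat_lit 2, nat_lit 3, nat_lit 5, nat_lit 4, nat_lit 0, nat_lit 1, nat_lit 0, nat_lit 1, nat_lit 0, nat_lit 3, nat_lit 1, nat_lit 0, nat_lit 2, nat_lit 0])) (.node (nat_lit 1808) (.leaf ((nat_lit 1234), [nat_lit 5, nat_lit 4, nat_lit 5, nat_lit 3, nat_lit 5, nat_lit 2, nat_lit 3, nat_lit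 1, nat_lit 3, nat_lit 1, nat_lit 3, nat_lit 0, nat_lit 2, nat_lit 2])) (.leaf ((nat_lit 891), [nat_lit 2, nat_lit 5, nat_lit 3, nat_lit 5, nat_lit 4, nat_lit 0, nat_lit 2, nat_lit 3, nat_lit 2, nat_lit 0, nat_lit 3, nat_lit 2, nat_lit 0, nat_lit 2, nat_lit 0])))))
 (.node (nat_lit 1812) (.node (nat_lit 1810) (.leaf ((nat_lit 819), [nat_lit 2, nat_lit 3, nat_lit 5, nat_lit 3, nat_lit 2, nat_lit 0, nat_lit 2, nat_lit 4, nat_lit 3, nat_lit 2, nat_lit 2, nat_lit 0, nat_lit 1, nat_lit 0, nat_lit 2])) (.node (nat_lit 1811) (.leaf ((nat_lit 1040), [nat_lit 5, nat_lit 2, nat_lit 3, nat_lit 5, nat_lit 2, nat_lit 3, nat_lit 1, nat_lit 0, nat_lit 2, nat_lit 2])) (.leaf ((nat_lit 19), [nat_lit 0, nat_lit 4, nat_lit 2, nat_lit 0, nat_lit 5, nat_lit 0, nat_lit 2, nat_lit 0, nat_lit 3, nat_lit 4, nat_lit 0, nat_lit 1, nat_lit 0, nat_lit 2, nat_lit 2])))) (.node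 (nat_lit 1813) (.leaf ((nat_lit 878), [nat_lit 5, nat_lit 4, nat_lit 3, nat_lit 2, nat_lit 5, nat_lit 2, nat_lit 3, nat_lit 0, nat_lit 1, nat_lit 0, nat_lit 3, nat_lit 0, nat_lit 2, nat_lit 0, nat_lit 2, nat_lit 2, nat_lit 0])) (.node (nat_lit 1814) (.leaf ((nat_lit 455), [nat_lit 1, nat_lit 0, nat_lit 5, nat_lit 3, nat_lit 5, nat_lit 4, nat_lit 2, nat_lit 0, nat_lit 3, nat_lit 0, nat_lit 4, nat_lit 2, nat_lit 2, nat_lit 0, nat_lit 2, nat_lit 2, nat_lit 0, nat_lit 1, nat_lit 0])) (.leaf ((nat_lit 968), [nat_lit 1, nat_lit 3, nat_lit 4, nat_lit 3, nat_lit 1, nat_lit 3, nat_lit 2]))))))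
 (.node (nat_lit 1820) (.node (nat_lit 1817) (.node (nat_lit 1816) (.leaf ((nat_lit 225), [nat_lit 3, nat_lit 5, nat_lit 3, nat_lit 0, nat_lit 5, nat_lit 3, nat_lit 4, nat_lit 0, nat_lit 2, nat_lit 4, nat_lit 2, nat_lit 2, nat_lit 0, nat_lit 2, nat_lit 2])) (.leaf ((nat_lit 1235), [nat_lit 0, nat_lit 5, nat_lit 2, nat_lit 0, nat_lit 5, nat_lit 2, nat_lit 2, nat_lit 4, nat_lit 3, nat_lit 2, nat_lit 3, nat_lit 2, nat_lit 0, nat_lit 2, nat_lit 2, nat_lit 0]))) (.node (nat_lit 1818) (.leaf ((nat_lit 605), [nat_lit 4, nat_lit 1, nat_lit 5, nat_lit 3, nat_lit 5, nat_lit 2, nat_lit 0, nat_lit 1, nat_lit 4, nat_lit 3, nat_lit 0, nat_lit 2, nat_lit 0])) (.node (nat_lit 1819) (.leaf ((nat_lit 1236), [nat_lit 3, nat_lit 1, nat_lit 3, nat_lit 0, nat_lit 5, nat_lit 2, nat_lit 4, nat_lit 2, nat_lit 3, nat_lit 0, nat_lit 3, nat_lit 2, nat_lit 0, nat_lit 2, nat_lit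 2])) (.leaf ((nat_lit 1237), [nat_lit 3, nat_lit 4, nat_lit 5, nat_lit 2, nat_lit 5, nat_lit 4, nat_lit 3, nat_lit 2, nat_lit 2, nat_lit 3, nat_lit 1, nat_lit 0, nat_lit 2, nat_lit 2, nat_lit 0, nat_lit 2, nat_lit 0])))))
 (.node (nat_lit 1823) (.node (nat_lit 1821) (.leaf ((nat_lit 1046), [nat_lit 1, nat_lit 5, nat_lit 2, nat_lit 5, nat_lit 3, nat_lit 2, nat_lit 3, nat_lit 0, nat_lit 2, nat_lit 0, nat_lit 2, nat_lit 2, nat_lit 0, nat_lit 2, nat_lit 0])) (.node (nat_lit 1822) (.leaf ((nat_lit 246), [nat_lit 3, nat_lit 4, nat_lit 5, nat_lit 2, nat_lit 5, nat_lit 3, nat_lit 4, nat_lit 2, nat_lit 0, nat_lit 4, nat_lit 2, nat_lit 0, nat_lit 2])) (.leaf ((nat_lit 1001), [nat_lit 2, nat_lit 5, nat_lit 2, nat_lit 3, nat_lit 5, nat_lit 1, nat_lit 3, nat_lit 4, nat_lit 3, nat_lit 1, nat_lit 3, nat_lit 0, nat_lit 1, nat_lit 0, nat_lit 2, nat_lit 2, nat_lit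 0, nat_lit 2])))) (.node (nat_lit 1824) (.leaf ((nat_lit 835), [nat_lit 3, nat_lit 5, nat_lit 3, nat_lit 0, nat_lit 4, nat_lit 0, nat_lit 4, nat_lit 1, nat_lit 0, nat_lit 2, nat_lit 2, nat_lit 0, nat_lit 2, nat_lit 2])) (.node (nat_lit 1825) (.leaf ((nat_lit 1238), [nat_lit 0, nat_lit 1, nat_lit 5, nat_lit 3, nat_lit 0, nat_lit 3, nat_lit 0, nat_lit 2, nat_lit 4, nat_lit 0, nat_lit 1, nat_lit 0, nat_lit 1, nat_lit 0, nat_lit 2])) (.leaf ((nat_lit 1239), [nat_lit 5, nat_lit 4, nat_lit 5, nat_lit 1, nat_lit 5, nat_lit 4, nat_lit 1, nat_lit 4, nat_lit 1, nat_lit 3, nat_lit 2, nat_lit 0, nat_lit 1, nat_lit 0, nat_lit 1, nat_lit 0])))))))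
 (.node (nat_lit 1837) (.node (nat_lit 1831) (.node (nat_lit 1828) (.node (nat_lit 1827) (.leaf ((nat_lit 1240), [nat_lit 4, nat_lit 0, nat_lit 5, nat_lit 2, nat_lit 5, nat_lit 3, nat_lit 4, nat_lit 3, nat_lit 1, nat_lit 4, nat_lit 3, nat_lit 2, nat_lit 0, nat_lit 1, nat_lit 0, nat_lit 2])) (.leaf ((nat_lit 1241), [nat_lit 3, nat_lit 2, nat_lit 3, nat_lit 5, nat_lit 3, nat_lit 4, nat_lit 3, nat_lit 1, nat_lit 3, nat_lit 2, nat_lit 0, nat_lit 1, nat_lit 0, nat_lit 1, nat_lit 0, nat_lit 2, nat_lit 0]))) (.node (nat_lit 1829) (.leaf ((nat_lit 1237), [nat_lit 0, nat_lit 5, nat_lit 2, nat_lit 0, nat_lit 5, nat_lit 4, nat_lit 3, nat_lit 0, nat_lit 4, nat_lit 1, nat_lit 0, nat_lit 3, nat_lit 0, nat_lit 2, nat_lit 0, nat_lit 2, nat_lit 2])) (.node (nat_lit 1830) (.leaf ((nat_lit 1242), [nat_lit 1, nat_lit 5, nat_lit 1, nat_lit 5, nat_lit 0, nat_lit 2, nat_lit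 4, nat_lit 1, nat_lit 0, nat_lit 3, nat_lit 2, nat_lit 0, nat_lit 2, nat_lit 0, nat_lit 1, nat_lit 0, nat_lit 1, nat_lit 0])) (.leaf ((nat_lit 569), [nat_lit 2, nat_lit 0, nat_lit 1, nat_lit 5, nat_lit 3, nat_lit 1, nat_lit 4, nat_lit 1, nat_lit 0, nat_lit 1, nat_lit 0])))))
 (.node (nat_lit 1834) (.node (nat_lit 1832) (.leaf ((nat_lit 932), [nat_lit 1, nat_lit 5, nat_lit 0, nat_lit 1, nat_lit 3, nat_lit 4, nat_lit 1, nat_lit 3, nat_lit 2, nat_lit 0, nat_lit 2])) (.node (nat_lit 1833) (.leaf ((nat_lit 1243), [nat_lit 0, nat_lit 5, nat_lit 3, nat_lit 0, nat_lit 5, nat_lit 1, nat_lit 3, nat_lit 4, nat_lit 0, nat_lit 1, nat_lit 0, nat_lit 1])) (.leaf ((nat_lit 1244), [nat_lit 0, nat_lit 5, nat_lit 3, nat_lit 5, nat_lit 3, nat_lit 2, nat_lit 0, nat_lit 2, nat_lit 2, nat_lit 3, nat_lit 2, nat_lit 0, nat_lit 2, nat_lit 0, nat_lit 1])))) (.node (nat_lit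 1835) (.leaf ((nat_lit 1245), [nat_lit 1, nat_lit 4, nat_lit 5, nat_lit 1, nat_lit 5, nat_lit 0, nat_lit 1, nat_lit 4, nat_lit 1, nat_lit 0, nat_lit 1, nat_lit 0, nat_lit 2, nat_lit 0, nat_lit 2])) (.node (nat_lit 1836) (.leaf ((nat_lit 957), [nat_lit 0, nat_lit 2, nat_lit 4, nat_lit 0, nat_lit 5, nat_lit 2, nat_lit 0, nat_lit 3, nat_lit 4, nat_lit 1, nat_lit 0, nat_lit 2, nat_lit 2, nat_lit 0])) (.leaf ((nat_lit 1246), [nat_lit 3, nat_lit 5, nat_lit 1, nat_lit 3, nat_lit 2, nat_lit 5, nat_lit 4, nat_lit 0, nat_lit 4, nat_lit 1, nat_lit 3, nat_lit 0, nat_lit 2, nat_lit 0, nat_lit 1, nat_lit 0, nat_lit 1]))))))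
 (.node (nat_lit 1842) (.node (nat_lit 1839) (.node (nat_lit 1838) (.leaf ((nat_lit 308), [nat_lit 3, nat_lit 5, nat_lit 1, nat_lit 3, nat_lit 0, nat_lit 5, nat_lit 3, nat_lit 0, nat_lit 3, nat_lit 4, nat_lit 3, nat_lit 2, nat_lit 2, nat_lit 0, nat_lit 1, nat_lit 0, nat_lit 2, nat_lit 2])) (.leaf ((nat_lit 955), [nat_lit 5, nat_lit 0, nat_lit 3, nat_lit 5, nat_lit 1, nat_lit 3, nat_lit 4, nat_lit 3, nat_lit 1, nat_lit 3, nat_lit 2, nat_lit 0, nat_lit 2]))) (.node (nat_lit 1840) (.leaf ((nat_lit 1247), [nat_lit 3, nat_lit 5, nat_lit 1, nat_lit 3, nat_lit 0, nat_lit 5, nat_lit 0, nat_lit 3, nat_lit 2, nat_lit 3, nat_lit 2, nat_lit 2, nat_lit 0, nat_lit 2, nat_lit 2])) (.node (nat_lit 1841) (.leaf ((nat_lit 598), [nat_lit 4, nat_lit 1, nat_lit 5, nat_lit 3, nat_lit 5, nat_lit 4, nat_lit 0, nat_lit 4, nat_lit 3, nat_lit 0, nat_lit 2, nat_lit 2, nat_lit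 0, nat_lit 2])) (.leaf ((nat_lit 231), [nat_lit 4, nat_lit 1, nat_lit 5, nat_lit 2, nat_lit 5, nat_lit 1, nat_lit 3, nat_lit 4, nat_lit 2, nat_lit 3, nat_lit 2, nat_lit 0, nat_lit 2, nat_lit 0])))))
 (.node (nat_lit 1845) (.node (nat_lit 1843) (.leaf ((nat_lit 1248), [nat_lit 5, nat_lit 4, nat_lit 0, nat_lit 5, nat_lit 3, nat_lit 0, nat_lit 1, nat_lit 4, nat_lit 2, nat_lit 2, nat_lit 0, nat_lit 1, nat_lit 0, nat_lit 2, nat_lit 0])) (.node (nat_lit 1844) (.leaf ((nat_lit 1249), [nat_lit 0, nat_lit 5, nat_lit 0, nat_lit 1, nat_lit 5, nat_lit 1, nat_lit 3, nat_lit 1, nat_lit 0, nat_lit 4, nat_lit 2, nat_lit 0, nat_lit 1, nat_lit 0, nat_lit 1])) (.leaf ((nat_lit 948), [nat_lit 0, nat_lit 5, nat_lit 2, nat_lit 3, nat_lit 5, nat_lit 1, nat_lit 4, nat_lit 0, nat_lit 1, nat_lit 0, nat_lit 2])))) (.node (nat_lit 1846) (.leaf ((nat_lit 1250), [nat_lit 1, nat_lit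 5, nat_lit 0, nat_lit 5, nat_lit 2, nat_lit 2, nat_lit 0, nat_lit 3, nat_lit 2, nat_lit 0, nat_lit 2])) (.node (nat_lit 1847) (.leaf ((nat_lit 813), [nat_lit 4, nat_lit 1, nat_lit 5, nat_lit 2, nat_lit 5, nat_lit 4, nat_lit 0, nat_lit 3, nat_lit 0, nat_lit 2, nat_lit 3, nat_lit 1, nat_lit 0, nat_lit 2, nat_lit 0, nat_lit 2, nat_lit 2])) (.leaf ((nat_lit 477), [nat_lit 2, nat_lit 3, nat_lit 0, nat_lit 5, nat_lit 1, nat_lit 4, nat_lit 1, nat_lit 4, nat_lit 2, nat_lit 0, nat_lit 1, nat_lit 0, nat_lit 1])))))))))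
 (.node (nat_lit 1892) (.node (nat_lit 1870) (.node (nat_lit 1859) (.node (nat_lit 1853) (.node (nat_lit 1850) (.node (nat_lit 1849) (.leaf ((nat_lit 679), [nat_lit 0, nat_lit 5, nat_lit 2, nat_lit 3, nat_lit 5, nat_lit 0, nat_lit 2, nat_lit 3, nat_lit 2, nat_lit 0])) (.leaf ((nat_lit 1251), [nat_lit 4, nat_lit 1, nat_lit 5, nat_lit 3, nat_lit 5, nat_lit 2, nat_lit 0, nat_lit 1, nat_lit 0, nat_lit 3, nat_lit 1, nat_lit 0, nat_lit 2, nat_lit 2, nat_lit 0, nat_lit 2, nat_lit 0]))) (.node (nat_lit 1851) (.leaf ((nat_lit 1252), [nat_lit 2, nat_lit 2, nat_lit 0, nat_lit 5, nat_lit 4, nat_lit 3, nat_lit 2, nat_lit 4, nat_lit 2, nat_lit 3, nat_lit 2, nat_lit 0, nat_lit 2])) (.node (nat_lit 1852) (.leaf ((nat_lit 952), [nat_lit 4, nat_lit 3, nat_lit 5, nat_lit 2, nat_lit 5, nat_lit 3, nat_lit 2, nat_lit 0, nat_lit 3, nat_lit 1, nat_lit 4, nat_lit 2, nat_lit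 2, nat_lit 0, nat_lit 2, nat_lit 2, nat_lit 0])) (.leaf ((nat_lit 956), [nat_lit 4, nat_lit 3, nat_lit 5, nat_lit 2, nat_lit 5, nat_lit 4, nat_lit 0, nat_lit 4, nat_lit 2, nat_lit 0, nat_lit 3, nat_lit 0, nat_lit 1, nat_lit 0, nat_lit 2, nat_lit 0, nat_lit 2, nat_lit 2])))))
 (.node (nat_lit 1856) (.node (nat_lit 1854) (.leaf ((nat_lit 1246), [nat_lit 4, nat_lit 0, nat_lit 5, nat_lit 2, nat_lit 5, nat_lit 2, nat_lit 3, nat_lit 0, nat_lit 3, nat_lit 0, nat_lit 1, nat_lit 0, nat_lit 2, nat_lit 2, nat_lit 0])) (.node (nat_lit 1855) (.leaf ((nat_lit 1133), [nat_lit 5, nat_lit 2, nat_lit 5, nat_lit 2, nat_lit 3, nat_lit 4, nat_lit 3, nat_lit 0, nat_lit 3, nat_lit 0, nat_lit 2, nat_lit 2, nat_lit 0, nat_lit 2, nat_lit 0, nat_lit 1])) (.leaf ((nat_lit 1009), [nat_lit 4, nat_lit 2, nat_lit 5, nat_lit 3, nat_lit 5, nat_lit 3, nat_lit 1, nat_lit 0, nat_lit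 2, nat_lit 3, nat_lit 2, nat_lit 0, nat_lit 2, nat_lit 2, nat_lit 0, nat_lit 1, nat_lit 0])))) (.node (nat_lit 1857) (.leaf ((nat_lit 439), [nat_lit 2, nat_lit 5, nat_lit 0, nat_lit 4, nat_lit 1, nat_lit 3, nat_lit 0, nat_lit 3, nat_lit 0, nat_lit 2, nat_lit 2, nat_lit 0, nat_lit 2, nat_lit 0])) (.node (nat_lit 1858) (.leaf ((nat_lit 749), [nat_lit 1, nat_lit 3, nat_lit 0, nat_lit 5, nat_lit 3, nat_lit 4, nat_lit 1, nat_lit 0, nat_lit 4, nat_lit 2, nat_lit 2, nat_lit 0, nat_lit 2, nat_lit 0, nat_lit 1, nat_lit 0])) (.leaf ((nat_lit 1253), [nat_lit 1, nat_lit 4, nat_lit 5, nat_lit 1, nat_lit 5, nat_lit 2, nat_lit 2, nat_lit 4, nat_lit 3, nat_lit 2, nat_lit 3, nat_lit 1, nat_lit 0, nat_lit 1, nat_lit 0, nat_lit 2, nat_lit 0]))))))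
 (.node (nat_lit 1864) (.node (nat_lit 1861) (.node (nat_lit 1860) (.leaf ((nat_lit 1138), [nat_lit 4, nat_lit 5, nat_lit 2, nat_lit 2, nat_lit 3, nat_lit 4, nat_lit 3, nat_lit 1, nat_lit 0, nat_lit 2, nat_lit 0, nat_lit 2, nat_lit 2, nat_lit 0])) (.leaf ((nat_lit 1155), [nat_lit 2, nat_lit 2, nat_lit 0, nat_lit 5, nat_lit 1, nat_lit 4, nat_lit 0, nat_lit 2, nat_lit 0, nat_lit 2, nat_lit 2, nat_lit 0, nat_lit 2, nat_lit 0]))) (.node (nat_lit 1862) (.leaf ((nat_lit 717), [nat_lit 4, nat_lit 1, nat_lit 0, nat_lit 5, nat_lit 3, nat_lit 4, nat_lit 0, nat_lit 3, nat_lit 4, nat_lit 0])) (.node (nat_lit 1863) (.leaf ((nat_lit 711), [nat_lit 3, nat_lit 4, nat_lit 5, nat_lit 3, nat_lit 4, nat_lit 0, nat_lit 4, nat_lit 3, nat_lit 1, nat_lit 0, nat_lit 1, nat_lit 0, nat_lit 2])) (.leaf ((nat_lit 615), [nat_lit 1, nat_lit 0, nat_lit 3, nat_lit 5, nat_lit 3,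 nat_lit 2, nat_lit 2, nat_lit 3, nat_lit 1, nat_lit 0, nat_lit 1, nat_lit 0, nat_lit 2])))))
 (.node (nat_lit 1867) (.node (nat_lit 1865) (.leaf ((nat_lit 65), [nat_lit 4, nat_lit 5, nat_lit 3, nat_lit 2, nat_lit 5, nat_lit 0, nat_lit 4, nat_lit 3, nat_lit 2, nat_lit 3, nat_lit 0, nat_lit 1, nat_lit 0, nat_lit 2, nat_lit 0])) (.node (nat_lit 1866) (.leaf ((nat_lit 1152), [nat_lit 3, nat_lit 5, nat_lit 0, nat_lit 5, nat_lit 2, nat_lit 3, nat_lit 4, nat_lit 3, nat_lit 0, nat_lit 3, nat_lit 2, nat_lit 2, nat_lit 0, nat_lit 1, nat_lit 0, nat_lit 2, nat_lit 0])) (.leaf ((nat_lit 408), [nat_lit 5, nat_lit 3, nat_lit 0, nat_lit 5, nat_lit 3, nat_lit 2, nat_lit 2, nat_lit 4, nat_lit 3, nat_lit 1, nat_lit 0, nat_lit 1])))) (.node (nat_lit 1868) (.leaf ((nat_lit 1254), [nat_lit 1, nat_lit 4, nat_lit 5, nat_lit 1, nat_lit 5, nat_lit 2, nat_lit 4, nat_lit 2,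 nat_lit 2, nat_lit 4, nat_lit 3, nat_lit 2, nat_lit 0, nat_lit 2, nat_lit 0, nat_lit 1])) (.node (nat_lit 1869) (.leaf ((nat_lit 1255), [nat_lit 4, nat_lit 5, nat_lit 2, nat_lit 3, nat_lit 5, nat_lit 1, nat_lit 0, nat_lit 3, nat_lit 1, nat_lit 3, nat_lit 1, nat_lit 0, nat_lit 2, nat_lit 0, nat_lit 2, nat_lit 2])) (.leaf ((nat_lit 176), [nat_lit 3, nat_lit 1, nat_lit 3, nat_lit 0, nat_lit 4, nat_lit 0, nat_lit 2, nat_lit 0, nat_lit 2, nat_lit 2, nat_lit 0, nat_lit 2, nat_lit 0])))))))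
 (.node (nat_lit 1881) (.node (nat_lit 1875) (.node (nat_lit 1872) (.node (nat_lit 1871) (.leaf ((nat_lit 787), [nat_lit 2, nat_lit 3, nat_lit 5, nat_lit 0, nat_lit 5, nat_lit 2, nat_lit 0, nat_lit 4, nat_lit 1, nat_lit 3, nat_lit 2, nat_lit 2, nat_lit 0, nat_lit 2, nat_lit 2, nat_lit 0, nat_lit 1])) (.leaf ((nat_lit 794), [nat_lit 4, nat_lit 1, nat_lit 5, nat_lit 3, nat_lit 5, nat_lit 1, nat_lit 4, nat_lit 1, nat_lit 3, nat_lit 1, nat_lit 3, nat_lit 2, nat_lit 0, nat_lit 2, nat_lit 2]))) (.node (nat_lit 1873) (.leaf ((nat_lit 728), [nat_lit 4, nat_lit 1, nat_lit 5, nat_lit 3, nat_lit 5, nat_lit 3, nat_lit 0, nat_lit 2, nat_lit 2, nat_lit 3, nat_lit 1, nat_lit 0, nat_lit 2, nat_lit 2, nat_lit 0])) (.node (nat_lit 1874) (.leaf ((nat_lit 135), [nat_lit 5, nat_lit 3, nat_lit 0, nat_lit 5, nat_lit 3, nat_lit 0, nat_lit 3, nat_lit 0, nat_lit 2, nat_lit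 4, nat_lit 2, nat_lit 0, nat_lit 2, nat_lit 2, nat_lit 0])) (.leaf ((nat_lit 1256), [nat_lit 5, nat_lit 2, nat_lit 4, nat_lit 0, nat_lit 5, nat_lit 3, nat_lit 2, nat_lit 4, nat_lit 2, nat_lit 4, nat_lit 0, nat_lit 1, nat_lit 0, nat_lit 2, nat_lit 2, nat_lit 0, nat_lit 1, nat_lit 0])))))
 (.node (nat_lit 1878) (.node (nat_lit 1876) (.leaf ((nat_lit 951), [nat_lit 2, nat_lit 0, nat_lit 2, nat_lit 5, nat_lit 3, nat_lit 1, nat_lit 0, nat_lit 4, nat_lit 2, nat_lit 0, nat_lit 2, nat_lit 2, nat_lit 0, nat_lit 2, nat_lit 0])) (.node (nat_lit 1877) (.leaf ((nat_lit 842), [nat_lit 1, nat_lit 0, nat_lit 2, nat_lit 5, nat_lit 3, nat_lit 0, nat_lit 4, nat_lit 1, nat_lit 0, nat_lit 3, nat_lit 0, nat_lit 2, nat_lit 2, nat_lit 0, nat_lit 2, nat_lit 0])) (.leaf ((nat_lit 796), [nat_lit 1, nat_lit 5, nat_lit 2, nat_lit 5, nat_lit 3, nat_lit 0, nat_lit 4, nat_lit 0,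 nat_lit 2, nat_lit 2, nat_lit 0, nat_lit 2, nat_lit 2, nat_lit 0])))) (.node (nat_lit 1879) (.leaf ((nat_lit 315), [nat_lit 3, nat_lit 0, nat_lit 2, nat_lit 5, nat_lit 3, nat_lit 0, nat_lit 4, nat_lit 3, nat_lit 2, nat_lit 3, nat_lit 2, nat_lit 0, nat_lit 2, nat_lit 0, nat_lit 1])) (.node (nat_lit 1880) (.leaf ((nat_lit 1257), [nat_lit 3, nat_lit 1, nat_lit 5, nat_lit 0, nat_lit 5, nat_lit 3, nat_lit 0, nat_lit 3, nat_lit 0, nat_lit 2, nat_lit 3, nat_lit 0, nat_lit 2, nat_lit 0, nat_lit 1, nat_lit 0, nat_lit 1])) (.leaf ((nat_lit 759), [nat_lit 5, nat_lit 4, nat_lit 1, nat_lit 0, nat_lit 5, nat_lit 4, nat_lit 2, nat_lit 2, nat_lit 4, nat_lit 1, nat_lit 0, nat_lit 3, nat_lit 1, nat_lit 0, nat_lit 1, nat_lit 0, nat_lit 2, nat_lit 2]))))))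
 (.node (nat_lit 1886) (.node (nat_lit 1883) (.node (nat_lit 1882) (.leaf ((nat_lit 275), [nat_lit 1, nat_lit 4, nat_lit 5, nat_lit 1, nat_lit 5, nat_lit 3, nat_lit 0, nat_lit 3, nat_lit 0, nat_lit 4, nat_lit 2, nat_lit 2, nat_lit 0, nat_lit 1, nat_lit 0, nat_lit 2, nat_lit 0])) (.leaf ((nat_lit 926), [nat_lit 3, nat_lit 5, nat_lit 1, nat_lit 3, nat_lit 2, nat_lit 5, nat_lit 4, nat_lit 1, nat_lit 3, nat_lit 4, nat_lit 3, nat_lit 2, nat_lit 0, nat_lit 2, nat_lit 2, nat_lit 0]))) (.node (nat_lit 1884) (.leaf ((nat_lit 1258), [nat_lit 3, nat_lit 5, nat_lit 2, nat_lit 5, nat_lit 2, nat_lit 4, nat_lit 2, nat_lit 0, nat_lit 2, nat_lit 3, nat_lit 1, nat_lit 0, nat_lit 2, nat_lit 2, nat_lit 0, nat_lit 2, nat_lit 2, nat_lit 0])) (.node (nat_lit 1885) (.leaf ((nat_lit 124), [nat_lit 5, nat_lit 1, nat_lit 5, nat_lit 0, nat_lit 5, nat_lit 1, nat_lit 0, nat_lit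 2, nat_lit 2, nat_lit 0, nat_lit 2])) (.leaf ((nat_lit 324), [nat_lit 0, nat_lit 4, nat_lit 5, nat_lit 1, nat_lit 3, nat_lit 0, nat_lit 3])))))
 (.node (nat_lit 1889) (.node (nat_lit 1887) (.leaf ((nat_lit 1259), [nat_lit 5, nat_lit 2, nat_lit 4, nat_lit 0, nat_lit 5, nat_lit 2, nat_lit 3, nat_lit 2, nat_lit 0, nat_lit 3, nat_lit 1, nat_lit 0, nat_lit 2, nat_lit 2, nat_lit 0, nat_lit 1, nat_lit 0])) (.node (nat_lit 1888) (.leaf ((nat_lit 607), [nat_lit 3, nat_lit 5, nat_lit 0, nat_lit 5, nat_lit 0, nat_lit 3, nat_lit 4, nat_lit 3, nat_lit 0, nat_lit 1, nat_lit 0, nat_lit 2, nat_lit 0, nat_lit 2])) (.leaf ((nat_lit 374), [nat_lit 0, nat_lit 2, nat_lit 5, nat_lit 4, nat_lit 3, nat_lit 1, nat_lit 3, nat_lit 0, nat_lit 3, nat_lit 1, nat_lit 0])))) (.node (nat_lit 1890) (.leaf ((nat_lit 853), [nat_lit 5, nat_lit 2, nat_lit 3, nat_lit 0, nat_lit 5, nat_lit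 0, nat_lit 3, nat_lit 2, nat_lit 0, nat_lit 1, nat_lit 0, nat_lit 1])) (.node (nat_lit 1891) (.leaf ((nat_lit 1260), [nat_lit 0, nat_lit 5, nat_lit 2, nat_lit 3, nat_lit 5, nat_lit 4, nat_lit 2, nat_lit 0, nat_lit 3, nat_lit 0, nat_lit 2, nat_lit 0, nat_lit 2])) (.leaf ((nat_lit 336), [nat_lit 1, nat_lit 4, nat_lit 5, nat_lit 1, nat_lit 5, nat_lit 2, nat_lit 3, nat_lit 0, nat_lit 1, nat_lit 0, nat_lit 3, nat_lit 2, nat_lit 0, nat_lit 1, nat_lit 0, nat_lit 2]))))))))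
 (.node (nat_lit 1914) (.node (nat_lit 1903) (.node (nat_lit 1897) (.node (nat_lit 1894) (.node (nat_lit 1893) (.leaf ((nat_lit 1203), [nat_lit 0, nat_lit 5, nat_lit 2, nat_lit 3, nat_lit 5, nat_lit 0, nat_lit 4, nat_lit 2, nat_lit 0, nat_lit 4, nat_lit 1, nat_lit 0, nat_lit 2, nat_lit 0, nat_lit 1])) (.leaf ((nat_lit 21), [nat_lit 3, nat_lit 1, nat_lit 3, nat_lit 0, nat_lit 5, nat_lit 0, nat_lit 3, nat_lit 0, nat_lit 2, nat_lit 3, nat_lit 1, nat_lit 0, nat_lit 1, nat_lit 0, nat_lit 2, nat_lit 2, nat_lit 0]))) (.node (nat_lit 1895) (.leaf ((nat_lit 355), [nat_lit 5, nat_lit 2, nat_lit 5, nat_lit 4, nat_lit 1, nat_lit 3, nat_lit 2, nat_lit 0, nat_lit 1, nat_lit 0, nat_lit 1, nat_lit 0, nat_lit 2])) (.node (nat_lit 1896) (.leaf ((nat_lit 617), [nat_lit 1, nat_lit 5, nat_lit 1, nat_lit 3, nat_lit 2, nat_lit 4, nat_lit 2, nat_lit 0, nat_lit 2, nat_lit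 0, nat_lit 1, nat_lit 0])) (.leaf ((nat_lit 1261), [nat_lit 2, nat_lit 4, nat_lit 2, nat_lit 0, nat_lit 5, nat_lit 0, nat_lit 4, nat_lit 2, nat_lit 0, nat_lit 2, nat_lit 3, nat_lit 0, nat_lit 2, nat_lit 2, nat_lit 0, nat_lit 1, nat_lit 0, nat_lit 2])))))
 (.node (nat_lit 1900) (.node (nat_lit 1898) (.leaf ((nat_lit 139), [nat_lit 5, nat_lit 4, nat_lit 1, nat_lit 0, nat_lit 5, nat_lit 1, nat_lit 4, nat_lit 0, nat_lit 1, nat_lit 0, nat_lit 3, nat_lit 1, nat_lit 0, nat_lit 1, nat_lit 0, nat_lit 2, nat_lit 0, nat_lit 2, nat_lit 0])) (.node (nat_lit 1899) (.leaf ((nat_lit 1262), [nat_lit 4, nat_lit 2, nat_lit 5, nat_lit 2, nat_lit 4, nat_lit 3, nat_lit 2, nat_lit 3, nat_lit 2, nat_lit 2, nat_lit 0, nat_lit 2, nat_lit 2, nat_lit 0])) (.leaf ((nat_lit 1245), [nat_lit 4, nat_lit 1, nat_lit 0, nat_lit 5, nat_lit 0, nat_lit 2, nat_lit 2, nat_lit 0, nat_lit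 4, nat_lit 1, nat_lit 0, nat_lit 1, nat_lit 0, nat_lit 2])))) (.node (nat_lit 1901) (.leaf ((nat_lit 599), [nat_lit 4, nat_lit 5, nat_lit 3, nat_lit 2, nat_lit 5, nat_lit 0, nat_lit 2, nat_lit 3, nat_lit 4, nat_lit 1, nat_lit 3, nat_lit 1, nat_lit 0, nat_lit 2, nat_lit 2, nat_lit 0])) (.node (nat_lit 1902) (.leaf ((nat_lit 537), [nat_lit 4, nat_lit 3, nat_lit 0, nat_lit 5, nat_lit 3, nat_lit 0, nat_lit 3, nat_lit 4, nat_lit 2, nat_lit 2, nat_lit 0, nat_lit 2, nat_lit 2, nat_lit 0])) (.leaf ((nat_lit 1263), [nat_lit 0, nat_lit 5, nat_lit 2, nat_lit 0, nat_lit 5, nat_lit 3, nat_lit 0, nat_lit 3, nat_lit 0, nat_lit 2, nat_lit 3, nat_lit 0, nat_lit 1, nat_lit 0, nat_lit 2]))))))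
 (.node (nat_lit 1908) (.node (nat_lit 1905) (.node (nat_lit 1904) (.leaf ((nat_lit 1248), [nat_lit 0, nat_lit 5, nat_lit 3, nat_lit 4, nat_lit 2, nat_lit 4, nat_lit 2, nat_lit 0, nat_lit 1, nat_lit 0, nat_lit 1, nat_lit 0, nat_lit 2])) (.leaf ((nat_lit 553), [nat_lit 3, nat_lit 5, nat_lit 2, nat_lit 3, nat_lit 0, nat_lit 5, nat_lit 4, nat_lit 2, nat_lit 3, nat_lit 2, nat_lit 2, nat_lit 0, nat_lit 2, nat_lit 2, nat_lit 0, nat_lit 2, nat_lit 0]))) (.node (nat_lit 1906) (.leaf ((nat_lit 1110), [nat_lit 2, nat_lit 2, nat_lit 5, nat_lit 1, nat_lit 5, nat_lit 4, nat_lit 3, nat_lit 2, nat_lit 3, nat_lit 2, nat_lit 3, nat_lit 0, nat_lit 1, nat_lit 0, nat_lit 2, nat_lit 2])) (.node (nat_lit 1907) (.leaf ((nat_lit 1215), [nat_lit 0, nat_lit 1, nat_lit 5, nat_lit 4, nat_lit 2, nat_lit 0, nat_lit 1, nat_lit 0, nat_lit 2, nat_lit 0, nat_lit 2])) (.leaf ((nat_lit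 1264), [nat_lit 0, nat_lit 2, nat_lit 5, nat_lit 1, nat_lit 3, nat_lit 0, nat_lit 2, nat_lit 4, nat_lit 1, nat_lit 0, nat_lit 2, nat_lit 2, nat_lit 0, nat_lit 1, nat_lit 0])))))
 (.node (nat_lit 1911) (.node (nat_lit 1909) (.leaf ((nat_lit 1265), [nat_lit 5, nat_lit 3, nat_lit 0, nat_lit 5, nat_lit 3, nat_lit 4, nat_lit 3, nat_lit 0, nat_lit 3, nat_lit 2, nat_lit 0, nat_lit 1, nat_lit 0])) (.node (nat_lit 1910) (.leaf ((nat_lit 969), [nat_lit 3, nat_lit 5, nat_lit 0, nat_lit 5, nat_lit 3, nat_lit 0, nat_lit 4, nat_lit 1, nat_lit 3, nat_lit 2, nat_lit 2, nat_lit 0, nat_lit 2, nat_lit 0, nat_lit 1, nat_lit 0])) (.leaf ((nat_lit 368), [nat_lit 3, nat_lit 0, nat_lit 2, nat_lit 5, nat_lit 3, nat_lit 2, nat_lit 0, nat_lit 4, nat_lit 0, nat_lit 1, nat_lit 0, nat_lit 2, nat_lit 0, nat_lit 2])))) (.node (nat_lit 1912) (.leaf ((nat_lit 603), [nat_lit 5, nat_lit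 1, nat_lit 5, nat_lit 4, nat_lit 0, nat_lit 1, nat_lit 0, nat_lit 1, nat_lit 0, nat_lit 3, nat_lit 0, nat_lit 1, nat_lit 0, nat_lit 2, nat_lit 0, nat_lit 2, nat_lit 2, nat_lit 0])) (.node (nat_lit 1913) (.leaf ((nat_lit 1266), [nat_lit 3, nat_lit 4, nat_lit 5, nat_lit 1, nat_lit 3, nat_lit 1, nat_lit 3, nat_lit 2, nat_lit 2, nat_lit 0, nat_lit 1, nat_lit 0, nat_lit 2, nat_lit 2])) (.leaf ((nat_lit 88), [nat_lit 3, nat_lit 2, nat_lit 0, nat_lit 5, nat_lit 4, nat_lit 2, nat_lit 3, nat_lit 2, nat_lit 3, nat_lit 2, nat_lit 0, nat_lit 1, nat_lit 0, nat_lit 1, nat_lit 0, nat_lit 2, nat_lit 0])))))))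
 (.node (nat_lit 1925) (.node (nat_lit 1919) (.node (nat_lit 1916) (.node (nat_lit 1915) (.leaf ((nat_lit 1267), [nat_lit 5, nat_lit 0, nat_lit 1, nat_lit 5, nat_lit 0, nat_lit 3, nat_lit 2, nat_lit 0, nat_lit 2, nat_lit 0, nat_lit 1, nat_lit 0, nat_lit 1])) (.leaf ((nat_lit 1117), [nat_lit 2, nat_lit 3, nat_lit 5, nat_lit 0, nat_lit 5, nat_lit 4, nat_lit 2, nat_lit 0, nat_lit 2, nat_lit 4, nat_lit 2, nat_lit 0, nat_lit 2, nat_lit 0, nat_lit 1, nat_lit 0, nat_lit 1, nat_lit 0]))) (.node (nat_lit 1917) (.leaf ((nat_lit 1268), [nat_lit 5, nat_lit 4, nat_lit 0, nat_lit 5, nat_lit 3, nat_lit 2, nat_lit 0, nat_lit 1, nat_lit 0, nat_lit 3, nat_lit 2, nat_lit 2, nat_lit 0, nat_lit 2])) (.node (nat_lit 1918) (.leaf ((nat_lit 912), [nat_lit 5, nat_lit 2, nat_lit 2, nat_lit 0, nat_lit 5, nat_lit 4, nat_lit 3, nat_lit 1, nat_lit 4, nat_lit 0, nat_lit 1, nat_lit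 0, nat_lit 2, nat_lit 2, nat_lit 0, nat_lit 2, nat_lit 0])) (.leaf ((nat_lit 1269), [nat_lit 4, nat_lit 3, nat_lit 5, nat_lit 2, nat_lit 5, nat_lit 2, nat_lit 4, nat_lit 3, nat_lit 2, nat_lit 0, nat_lit 2, nat_lit 2, nat_lit 0, nat_lit 2, nat_lit 2])))))
 (.node (nat_lit 1922) (.node (nat_lit 1920) (.leaf ((nat_lit 727), [nat_lit 5, nat_lit 4, nat_lit 5, nat_lit 1, nat_lit 5, nat_lit 1, nat_lit 3, nat_lit 2, nat_lit 3, nat_lit 0, nat_lit 4, nat_lit 0, nat_lit 2, nat_lit 0])) (.node (nat_lit 1921) (.leaf ((nat_lit 1270), [nat_lit 4, nat_lit 3, nat_lit 5, nat_lit 0, nat_lit 5, nat_lit 4, nat_lit 0, nat_lit 3, nat_lit 1, nat_lit 3, nat_lit 2, nat_lit 0, nat_lit 2])) (.leaf ((nat_lit 1271), [nat_lit 5, nat_lit 0, nat_lit 4, nat_lit 5, nat_lit 0, nat_lit 4, nat_lit 2, nat_lit 0, nat_lit 4, nat_lit 0, nat_lit 1, nat_lit 0, nat_lit 2, nat_lit 2, nat_lit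 0, nat_lit 1, nat_lit 0])))) (.node (nat_lit 1923) (.leaf ((nat_lit 1272), [nat_lit 2, nat_lit 5, nat_lit 1, nat_lit 5, nat_lit 2, nat_lit 2, nat_lit 4, nat_lit 3, nat_lit 2, nat_lit 2, nat_lit 0])) (.node (nat_lit 1924) (.leaf ((nat_lit 1147), [nat_lit 5, nat_lit 2, nat_lit 3, nat_lit 0, nat_lit 5, nat_lit 2, nat_lit 0, nat_lit 1, nat_lit 0, nat_lit 4, nat_lit 0, nat_lit 2, nat_lit 0, nat_lit 1])) (.leaf ((nat_lit 1165), [nat_lit 4, nat_lit 1, nat_lit 5, nat_lit 3, nat_lit 5, nat_lit 3, nat_lit 2, nat_lit 2, nat_lit 3, nat_lit 0, nat_lit 2, nat_lit 2, nat_lit 0, nat_lit 2, nat_lit 0]))))))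
 (.node (nat_lit 1930) (.node (nat_lit 1927) (.node (nat_lit 1926) (.leaf ((nat_lit 347), [nat_lit 3, nat_lit 5, nat_lit 3, nat_lit 0, nat_lit 5, nat_lit 3, nat_lit 2, nat_lit 3, nat_lit 2, nat_lit 3, nat_lit 0, nat_lit 2, nat_lit 0, nat_lit 2, nat_lit 0])) (.leaf ((nat_lit 1027), [nat_lit 0, nat_lit 5, nat_lit 2, nat_lit 3, nat_lit 5, nat_lit 1, nat_lit 4, nat_lit 2, nat_lit 4, nat_lit 1, nat_lit 0, nat_lit 2, nat_lit 2, nat_lit 0, nat_lit 2, nat_lit 2, nat_lit 0]))) (.node (nat_lit 1928) (.leaf ((nat_lit 1007), [nat_lit 4, nat_lit 3, nat_lit 5, nat_lit 3, nat_lit 1, nat_lit 4, nat_lit 1, nat_lit 3, nat_lit 2, nat_lit 2])) (.node (nat_lit 1929) (.leaf ((nat_lit 1273), [nat_lit 1, nat_lit 0, nat_lit 3, nat_lit 5, nat_lit 2, nat_lit 3, nat_lit 1, nat_lit 0, nat_lit 2, nat_lit 3, nat_lit 1, nat_lit 0, nat_lit 1])) (.leaf ((nat_lit 394), [nat_lit 3,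 nat_lit 4, nat_lit 5, nat_lit 2, nat_lit 5, nat_lit 3, nat_lit 1, nat_lit 4, nat_lit 0, nat_lit 4, nat_lit 2, nat_lit 0, nat_lit 2, nat_lit 2, nat_lit 0, nat_lit 2, nat_lit 0])))))
 (.node (nat_lit 1933) (.node (nat_lit 1931) (.leaf ((nat_lit 1274), [nat_lit 2, nat_lit 5, nat_lit 0, nat_lit 3, nat_lit 4, nat_lit 3, nat_lit 0, nat_lit 1, nat_lit 0, nat_lit 2, nat_lit 0, nat_lit 2])) (.node (nat_lit 1932) (.leaf ((nat_lit 1275), [nat_lit 4, nat_lit 5, nat_lit 0, nat_lit 3, nat_lit 5, nat_lit 2, nat_lit 0, nat_lit 3, nat_lit 1, nat_lit 4, nat_lit 0, nat_lit 1, nat_lit 0, nat_lit 2, nat_lit 2, nat_lit 0, nat_lit 2, nat_lit 0])) (.leaf ((nat_lit 1276), [nat_lit 5, nat_lit 0, nat_lit 4, nat_lit 5, nat_lit 4, nat_lit 1, nat_lit 0, nat_lit 1, nat_lit 0, nat_lit 3, nat_lit 0, nat_lit 2, nat_lit 2, nat_lit 0, nat_lit 2, nat_lit 0, nat_lit 1, nat_lit 0]))))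 (.node (nat_lit 1934) (.leaf ((nat_lit 1277), [nat_lit 3, nat_lit 5, nat_lit 2, nat_lit 3, nat_lit 0, nat_lit 5, nat_lit 1, nat_lit 3, nat_lit 4, nat_lit 3, nat_lit 0, nat_lit 3, nat_lit 2, nat_lit 0, nat_lit 2, nat_lit 2, nat_lit 0, nat_lit 1])) (.node (nat_lit 1935) (.leaf ((nat_lit 1278), [nat_lit 4, nat_lit 1, nat_lit 5, nat_lit 2, nat_lit 5, nat_lit 1, nat_lit 3, nat_lit 0, nat_lit 1, nat_lit 4, nat_lit 2, nat_lit 0, nat_lit 1, nat_lit 0, nat_lit 2, nat_lit 0, nat_lit 2, nat_lit 0])) (.leaf ((nat_lit 1017), [nat_lit 5, nat_lit 4, nat_lit 3, nat_lit 2, nat_lit 5, nat_lit 1, nat_lit 4, nat_lit 3, nat_lit 2, nat_lit 0, nat_lit 2, nat_lit 0]))))))))))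
noncomputable def qWd_11 : Tr (ℕ × List ℕ) := (.node (nat_lit 2024) (.node (nat_lit 1980) (.node (nat_lit 1958) (.node (nat_lit 1947) (.node (nat_lit 1941) (.node (nat_lit 1938) (.node (nat_lit 1937) (.leaf ((nat_lit 690), [nat_lit 4, nat_lit 2, nat_lit 5, nat_lit 3, nat_lit 4, nat_lit 1, nat_lit 3, nat_lit 1, nat_lit 3, nat_lit 0, nat_lit 2, nat_lit 0, nat_lit 2, nat_lit 2, nat_lit 0, nat_lit 1])) (.leaf ((nat_lit 1279), [nat_lit 1, nat_lit 0, nat_lit 5, nat_lit 3, nat_lit 5, nat_lit 0, nat_lit 4, nat_lit 1, nat_lit 3, nat_lit 1, nat_lit 3, nat_lit 2, nat_lit 0, nat_lit 1, nat_lit 0, nat_lit 2, nat_lit 2]))) (.node (nat_lit 1939) (.leaf ((nat_lit 319), [nat_lit 5, nat_lit 0, nat_lit 1, nat_lit 5, nat_lit 4, nat_lit 1, nat_lit 0, nat_lit 3, nat_lit 4, nat_lit 2, nat_lit 2, nat_lit 0, nat_lit 1, nat_lit 0, nat_lit 2, nat_lit 0])) (.node (nat_lit 1940)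 (.leaf ((nat_lit 908), [nat_lit 3, nat_lit 5, nat_lit 0, nat_lit 5, nat_lit 0, nat_lit 2, nat_lit 0, nat_lit 2, nat_lit 4, nat_lit 2, nat_lit 0, nat_lit 2, nat_lit 0, nat_lit 1, nat_lit 0])) (.leaf ((nat_lit 1128), [nat_lit 2, nat_lit 3, nat_lit 5, nat_lit 0, nat_lit 4, nat_lit 2, nat_lit 3, nat_lit 4, nat_lit 1, nat_lit 0, nat_lit 2, nat_lit 0, nat_lit 1])))))
 (.node (nat_lit 1944) (.node (nat_lit 1942) (.leaf ((nat_lit 703), [nat_lit 4, nat_lit 5, nat_lit 1, nat_lit 5, nat_lit 4, nat_lit 2, nat_lit 4, nat_lit 2, nat_lit 3, nat_lit 1, nat_lit 0])) (.node (nat_lit 1943) (.leaf ((nat_lit 1280), [nat_lit 4, nat_lit 1, nat_lit 5, nat_lit 0, nat_lit 5, nat_lit 0, nat_lit 2, nat_lit 3, nat_lit 2, nat_lit 2, nat_lit 0, nat_lit 1, nat_lit 0, nat_lit 2, nat_lit 2])) (.leaf ((nat_lit 1281), [nat_lit 5, nat_lit 4, nat_lit 3, nat_lit 0, nat_lit 5, nat_lit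 4, nat_lit 3, nat_lit 1, nat_lit 4, nat_lit 3, nat_lit 2])))) (.node (nat_lit 1945) (.leaf ((nat_lit 1106), [nat_lit 5, nat_lit 3, nat_lit 2, nat_lit 5, nat_lit 1, nat_lit 0, nat_lit 4, nat_lit 3, nat_lit 0, nat_lit 1, nat_lit 0, nat_lit 1, nat_lit 0, nat_lit 2, nat_lit 0])) (.node (nat_lit 1946) (.leaf ((nat_lit 1282), [nat_lit 2, nat_lit 5, nat_lit 4, nat_lit 5, nat_lit 0, nat_lit 4, nat_lit 2, nat_lit 3, nat_lit 4, nat_lit 0, nat_lit 2, nat_lit 0, nat_lit 1, nat_lit 0])) (.leaf ((nat_lit 1283), [nat_lit 3, nat_lit 5, nat_lit 0, nat_lit 5, nat_lit 3, nat_lit 2, nat_lit 3, nat_lit 0, nat_lit 3, nat_lit 2, nat_lit 2, nat_lit 0, nat_lit 2, nat_lit 0]))))))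
 (.node (nat_lit 1952) (.node (nat_lit 1949) (.node (nat_lit 1948) (.leaf ((nat_lit 822), [nat_lit 3, nat_lit 4, nat_lit 5, nat_lit 1, nat_lit 0, nat_lit 3, nat_lit 1, nat_lit 4, nat_lit 2, nat_lit 2, nat_lit 0, nat_lit 2, nat_lit 2, nat_lit 0, nat_lit 2, nat_lit 0])) (.leaf ((nat_lit 1124), [nat_lit 5, nat_lit 2, nat_lit 0, nat_lit 2, nat_lit 5, nat_lit 4, nat_lit 2, nat_lit 3, nat_lit 0, nat_lit 3, nat_lit 1, nat_lit 0, nat_lit 1, nat_lit 0]))) (.node (nat_lit 1950) (.leaf ((nat_lit 1284), [nat_lit 2, nat_lit 5, nat_lit 0, nat_lit 1, nat_lit 5, nat_lit 4, nat_lit 2, nat_lit 3, nat_lit 1, nat_lit 3, nat_lit 0, nat_lit 1, nat_lit 0, nat_lit 1, nat_lit 0])) (.node (nat_lit 1951) (.leaf ((nat_lit 397), [nat_lit 4, nat_lit 5, nat_lit 2, nat_lit 5, nat_lit 2, nat_lit 3, nat_lit 0, nat_lit 3, nat_lit 0, nat_lit 1])) (.leaf ((nat_lit 1285), [nat_lit 3,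 nat_lit 4, nat_lit 5, nat_lit 0, nat_lit 3, nat_lit 4, nat_lit 1, nat_lit 0, nat_lit 3, nat_lit 0, nat_lit 2, nat_lit 2])))))
 (.node (nat_lit 1955) (.node (nat_lit 1953) (.leaf ((nat_lit 1286), [nat_lit 5, nat_lit 1, nat_lit 0, nat_lit 2, nat_lit 5, nat_lit 4, nat_lit 2, nat_lit 0, nat_lit 4, nat_lit 3, nat_lit 1, nat_lit 0, nat_lit 1, nat_lit 0, nat_lit 2, nat_lit 0, nat_lit 2, nat_lit 0])) (.node (nat_lit 1954) (.leaf ((nat_lit 1287), [nat_lit 1, nat_lit 5, nat_lit 0, nat_lit 5, nat_lit 1, nat_lit 4, nat_lit 3, nat_lit 2, nat_lit 3, nat_lit 2, nat_lit 0, nat_lit 2, nat_lit 0, nat_lit 1, nat_lit 0, nat_lit 1, nat_lit 0])) (.leaf ((nat_lit 675), [nat_lit 0, nat_lit 2, nat_lit 5, nat_lit 3, nat_lit 5, nat_lit 4, nat_lit 3, nat_lit 1, nat_lit 0, nat_lit 4, nat_lit 0, nat_lit 2, nat_lit 2, nat_lit 0, nat_lit 1, nat_lit 0])))) (.node (nat_lit 1956)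 (.leaf ((nat_lit 731), [nat_lit 0, nat_lit 3, nat_lit 5, nat_lit 0, nat_lit 3, nat_lit 0, nat_lit 1, nat_lit 4, nat_lit 0, nat_lit 2, nat_lit 2, nat_lit 0, nat_lit 1])) (.node (nat_lit 1957) (.leaf ((nat_lit 1288), [nat_lit 5, nat_lit 0, nat_lit 1, nat_lit 5, nat_lit 2, nat_lit 0, nat_lit 2, nat_lit 4, nat_lit 3, nat_lit 1, nat_lit 0, nat_lit 1, nat_lit 0, nat_lit 2, nat_lit 0])) (.leaf ((nat_lit 33), [nat_lit 4, nat_lit 2, nat_lit 5, nat_lit 3, nat_lit 5, nat_lit 4, nat_lit 3, nat_lit 2, nat_lit 4, nat_lit 3, nat_lit 2, nat_lit 2, nat_lit 0, nat_lit 2, nat_lit 2, nat_lit 0, nat_lit 2, nat_lit 2])))))))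
 (.node (nat_lit 1969) (.node (nat_lit 1963) (.node (nat_lit 1960) (.node (nat_lit 1959) (.leaf ((nat_lit 800), [nat_lit 2, nat_lit 4, nat_lit 5, nat_lit 2, nat_lit 0, nat_lit 5, nat_lit 0, nat_lit 1, nat_lit 3, nat_lit 1, nat_lit 0, nat_lit 4, nat_lit 2, nat_lit 0, nat_lit 2, nat_lit 2, nat_lit 0, nat_lit 1, nat_lit 0])) (.leaf ((nat_lit 1289), [nat_lit 4, nat_lit 5, nat_lit 4, nat_lit 0, nat_lit 5, nat_lit 4, nat_lit 1, nat_lit 0, nat_lit 3, nat_lit 2, nat_lit 3, nat_lit 0, nat_lit 2, nat_lit 2, nat_lit 0, nat_lit 1]))) (.node (nat_lit 1961) (.leaf ((nat_lit 1275), [nat_lit 0, nat_lit 5, nat_lit 2, nat_lit 3, nat_lit 4, nat_lit 3, nat_lit 2, nat_lit 3, nat_lit 0, nat_lit 2, nat_lit 2, nat_lit 0, nat_lit 1, nat_lit 0, nat_lit 2])) (.node (nat_lit 1962) (.leaf ((nat_lit 1073), [nat_lit 4, nat_lit 1, nat_lit 5, nat_lit 0, nat_lit 5, nat_lit 0, nat_lit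 4, nat_lit 2, nat_lit 3, nat_lit 4, nat_lit 0, nat_lit 2, nat_lit 2, nat_lit 0, nat_lit 2, nat_lit 0, nat_lit 1, nat_lit 0])) (.leaf ((nat_lit 990), [nat_lit 5, nat_lit 4, nat_lit 5, nat_lit 1, nat_lit 5, nat_lit 2, nat_lit 2, nat_lit 3, nat_lit 4, nat_lit 2, nat_lit 0, nat_lit 2, nat_lit 0, nat_lit 1, nat_lit 0, nat_lit 1, nat_lit 0])))))
 (.node (nat_lit 1966) (.node (nat_lit 1964) (.leaf ((nat_lit 750), [nat_lit 3, nat_lit 2, nat_lit 5, nat_lit 4, nat_lit 1, nat_lit 3, nat_lit 4, nat_lit 3, nat_lit 1, nat_lit 0, nat_lit 1, nat_lit 0, nat_lit 2, nat_lit 0])) (.node (nat_lit 1965) (.leaf ((nat_lit 844), [nat_lit 0, nat_lit 5, nat_lit 3, nat_lit 0, nat_lit 5, nat_lit 4, nat_lit 3, nat_lit 0, nat_lit 1, nat_lit 0, nat_lit 3, nat_lit 0, nat_lit 1, nat_lit 0, nat_lit 2, nat_lit 2])) (.leaf ((nat_lit 1290), [nat_lit 3, nat_lit 5, nat_lit 1, nat_lit 3,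 nat_lit 2, nat_lit 5, nat_lit 0, nat_lit 4, nat_lit 1, nat_lit 3, nat_lit 1, nat_lit 3])))) (.node (nat_lit 1967) (.leaf ((nat_lit 823), [nat_lit 0, nat_lit 5, nat_lit 2, nat_lit 0, nat_lit 5, nat_lit 0, nat_lit 1, nat_lit 0, nat_lit 4, nat_lit 0, nat_lit 2, nat_lit 0, nat_lit 1, nat_lit 0])) (.node (nat_lit 1968) (.leaf ((nat_lit 515), [nat_lit 4, nat_lit 0, nat_lit 5, nat_lit 3, nat_lit 2, nat_lit 0, nat_lit 2, nat_lit 4, nat_lit 3, nat_lit 2, nat_lit 0, nat_lit 1, nat_lit 0, nat_lit 1, nat_lit 0, nat_lit 2])) (.leaf ((nat_lit 104), [nat_lit 3, nat_lit 1, nat_lit 5, nat_lit 0, nat_lit 5, nat_lit 1, nat_lit 4, nat_lit 0, nat_lit 1, nat_lit 0, nat_lit 3, nat_lit 0, nat_lit 2, nat_lit 0, nat_lit 2]))))))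
 (.node (nat_lit 1974) (.node (nat_lit 1971) (.node (nat_lit 1970) (.leaf ((nat_lit 1291), [nat_lit 3, nat_lit 2, nat_lit 0, nat_lit 5, nat_lit 1, nat_lit 0, nat_lit 3, nat_lit 4, nat_lit 0, nat_lit 2, nat_lit 0, nat_lit 1, nat_lit 0])) (.leaf ((nat_lit 1292), [nat_lit 3, nat_lit 5, nat_lit 2, nat_lit 3, nat_lit 0, nat_lit 5, nat_lit 2, nat_lit 0, nat_lit 2, nat_lit 3, nat_lit 2, nat_lit 0, nat_lit 2, nat_lit 0, nat_lit 1]))) (.node (nat_lit 1972) (.leaf ((nat_lit 559), [nat_lit 4, nat_lit 1, nat_lit 5, nat_lit 0, nat_lit 5, nat_lit 0, nat_lit 1, nat_lit 3, nat_lit 4, nat_lit 2, nat_lit 3, nat_lit 0, nat_lit 2, nat_lit 0, nat_lit 2])) (.node (nat_lit 1973) (.leaf ((nat_lit 1090), [nat_lit 4, nat_lit 1, nat_lit 5, nat_lit 2, nat_lit 5, nat_lit 4, nat_lit 3, nat_lit 1, nat_lit 3, nat_lit 0, nat_lit 3, nat_lit 0, nat_lit 2, nat_lit 2, nat_lit 0, nat_lit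 1])) (.leaf ((nat_lit 1293), [nat_lit 3, nat_lit 5, nat_lit 0, nat_lit 5, nat_lit 3, nat_lit 4, nat_lit 3, nat_lit 0, nat_lit 2, nat_lit 0, nat_lit 2, nat_lit 2, nat_lit 0, nat_lit 2])))))
 (.node (nat_lit 1977) (.node (nat_lit 1975) (.leaf ((nat_lit 1087), [nat_lit 5, nat_lit 4, nat_lit 2, nat_lit 0, nat_lit 5, nat_lit 2, nat_lit 4, nat_lit 1, nat_lit 0, nat_lit 3, nat_lit 2, nat_lit 0, nat_lit 1, nat_lit 0, nat_lit 1, nat_lit 0])) (.node (nat_lit 1976) (.leaf ((nat_lit 1004), [nat_lit 0, nat_lit 4, nat_lit 5, nat_lit 4, nat_lit 2, nat_lit 2, nat_lit 4, nat_lit 3, nat_lit 2, nat_lit 0])) (.leaf ((nat_lit 1294), [nat_lit 4, nat_lit 1, nat_lit 5, nat_lit 2, nat_lit 5, nat_lit 4, nat_lit 3, nat_lit 2, nat_lit 3, nat_lit 0, nat_lit 3, nat_lit 2, nat_lit 2, nat_lit 0, nat_lit 2, nat_lit 2])))) (.node (nat_lit 1978) (.leaf ((nat_lit 1273), [nat_lit 4,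 nat_lit 5, nat_lit 3, nat_lit 0, nat_lit 1, nat_lit 3, nat_lit 0, nat_lit 3])) (.node (nat_lit 1979) (.leaf ((nat_lit 91), [nat_lit 5, nat_lit 1, nat_lit 0, nat_lit 3, nat_lit 5, nat_lit 0, nat_lit 1, nat_lit 3, nat_lit 1, nat_lit 3, nat_lit 2, nat_lit 0, nat_lit 2, nat_lit 2, nat_lit 0, nat_lit 1])) (.leaf ((nat_lit 389), [nat_lit 5, nat_lit 2, nat_lit 4, nat_lit 0, nat_lit 5, nat_lit 4, nat_lit 3, nat_lit 0, nat_lit 4, nat_lit 1, nat_lit 0, nat_lit 3, nat_lit 1]))))))))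
 (.node (nat_lit 2002) (.node (nat_lit 1991) (.node (nat_lit 1985) (.node (nat_lit 1982) (.node (nat_lit 1981) (.leaf ((nat_lit 1014), [nat_lit 3, nat_lit 5, nat_lit 2, nat_lit 3, nat_lit 0, nat_lit 5, nat_lit 1, nat_lit 4, nat_lit 2, nat_lit 0, nat_lit 2, nat_lit 3, nat_lit 1, nat_lit 0, nat_lit 2, nat_lit 0, nat_lit 2, nat_lit 0])) (.leaf ((nat_lit 1295), [nat_lit 1, nat_lit 3, nat_lit 0, nat_lit 5, nat_lit 2, nat_lit 4, nat_lit 2, nat_lit 3, nat_lit 4, nat_lit 0, nat_lit 1, nat_lit 0, nat_lit 1, nat_lit 0]))) (.node (nat_lit 1983) (.leaf ((nat_lit 1296), [nat_lit 1, nat_lit 5, nat_lit 2, nat_lit 5, nat_lit 2, nat_lit 0, nat_lit 3, nat_lit 4, nat_lit 0, nat_lit 1, nat_lit 0, nat_lit 2, nat_lit 0, nat_lit 2, nat_lit 0])) (.node (nat_lit 1984) (.leaf ((nat_lit 457), [nat_lit 5, nat_lit 1, nat_lit 0, nat_lit 2, nat_lit 5, nat_lit 3, nat_lit 1, nat_lit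 3, nat_lit 4, nat_lit 3, nat_lit 2, nat_lit 0, nat_lit 1, nat_lit 0, nat_lit 1, nat_lit 0])) (.leaf ((nat_lit 500), [nat_lit 3, nat_lit 2, nat_lit 5, nat_lit 0, nat_lit 5, nat_lit 1, nat_lit 4, nat_lit 3, nat_lit 0, nat_lit 2, nat_lit 2, nat_lit 0, nat_lit 1, nat_lit 0, nat_lit 2, nat_lit 0])))))
 (.node (nat_lit 1988) (.node (nat_lit 1986) (.leaf ((nat_lit 1108), [nat_lit 3, nat_lit 2, nat_lit 5, nat_lit 0, nat_lit 5, nat_lit 2, nat_lit 3, nat_lit 4, nat_lit 1, nat_lit 3, nat_lit 0, nat_lit 1, nat_lit 0, nat_lit 2, nat_lit 2, nat_lit 0, nat_lit 1])) (.node (nat_lit 1987) (.leaf ((nat_lit 778), [nat_lit 4, nat_lit 5, nat_lit 1, nat_lit 5, nat_lit 4, nat_lit 2, nat_lit 4, nat_lit 0, nat_lit 1, nat_lit 0, nat_lit 3, nat_lit 0, nat_lit 2, nat_lit 2, nat_lit 0, nat_lit 1, nat_lit 0])) (.leaf ((nat_lit 652), [nat_lit 4, nat_lit 5, nat_lit 3, nat_lit 0,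 nat_lit 5, nat_lit 0, nat_lit 2, nat_lit 4, nat_lit 1, nat_lit 0, nat_lit 3, nat_lit 0, nat_lit 2, nat_lit 2, nat_lit 0, nat_lit 2, nat_lit 0])))) (.node (nat_lit 1989) (.leaf ((nat_lit 959), [nat_lit 0, nat_lit 4, nat_lit 5, nat_lit 2, nat_lit 3, nat_lit 1, nat_lit 3, nat_lit 4, nat_lit 0, nat_lit 1, nat_lit 0])) (.node (nat_lit 1990) (.leaf ((nat_lit 1297), [nat_lit 5, nat_lit 4, nat_lit 0, nat_lit 5, nat_lit 3, nat_lit 0, nat_lit 2, nat_lit 2, nat_lit 3, nat_lit 1, nat_lit 0, nat_lit 1, nat_lit 0, nat_lit 2, nat_lit 0])) (.leaf ((nat_lit 1029), [nat_lit 5, nat_lit 2, nat_lit 2, nat_lit 3, nat_lit 4, nat_lit 3, nat_lit 2]))))))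
 (.node (nat_lit 1996) (.node (nat_lit 1993) (.node (nat_lit 1992) (.leaf ((nat_lit 738), [nat_lit 3, nat_lit 5, nat_lit 1, nat_lit 3, nat_lit 0, nat_lit 5, nat_lit 3, nat_lit 4, nat_lit 0, nat_lit 2, nat_lit 2, nat_lit 3, nat_lit 0, nat_lit 2, nat_lit 0, nat_lit 2])) (.leaf ((nat_lit 1254), [nat_lit 5, nat_lit 1, nat_lit 0, nat_lit 3, nat_lit 5, nat_lit 2, nat_lit 2, nat_lit 4, nat_lit 0, nat_lit 4, nat_lit 0, nat_lit 2, nat_lit 0]))) (.node (nat_lit 1994) (.leaf ((nat_lit 1081), [nat_lit 1, nat_lit 3, nat_lit 0, nat_lit 5, nat_lit 0, nat_lit 2, nat_lit 4, nat_lit 3, nat_lit 2, nat_lit 0, nat_lit 2, nat_lit 2])) (.node (nat_lit 1995) (.leaf ((nat_lit 271), [nat_lit 5, nat_lit 2, nat_lit 2, nat_lit 0, nat_lit 5, nat_lit 0, nat_lit 2, nat_lit 3, nat_lit 2, nat_lit 3, nat_lit 0, nat_lit 1, nat_lit 0, nat_lit 2, nat_lit 2])) (.leaf ((nat_lit 1298),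 [nat_lit 4, nat_lit 5, nat_lit 0, nat_lit 3, nat_lit 5, nat_lit 3, nat_lit 2, nat_lit 3, nat_lit 2, nat_lit 4, nat_lit 2, nat_lit 2, nat_lit 0, nat_lit 2])))))
 (.node (nat_lit 1999) (.node (nat_lit 1997) (.leaf ((nat_lit 1299), [nat_lit 2, nat_lit 5, nat_lit 4, nat_lit 5, nat_lit 1, nat_lit 3, nat_lit 0, nat_lit 4, nat_lit 0, nat_lit 1, nat_lit 0, nat_lit 2, nat_lit 2, nat_lit 0, nat_lit 1])) (.node (nat_lit 1998) (.leaf ((nat_lit 1164), [nat_lit 2, nat_lit 4, nat_lit 0, nat_lit 5, nat_lit 0, nat_lit 2, nat_lit 3, nat_lit 2, nat_lit 0, nat_lit 3, nat_lit 2, nat_lit 2, nat_lit 0, nat_lit 2, nat_lit 0, nat_lit 1])) (.leaf ((nat_lit 112), [nat_lit 3, nat_lit 4, nat_lit 3, nat_lit 5, nat_lit 0, nat_lit 1, nat_lit 3, nat_lit 0, nat_lit 3, nat_lit 2, nat_lit 0, nat_lit 2, nat_lit 2])))) (.node (nat_lit 2000) (.leaf ((nat_lit 1300), [nat_lit 1, nat_lit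 0, nat_lit 5, nat_lit 3, nat_lit 5, nat_lit 0, nat_lit 1, nat_lit 3, nat_lit 4, nat_lit 1, nat_lit 3, nat_lit 0, nat_lit 2, nat_lit 0, nat_lit 2, nat_lit 2, nat_lit 0, nat_lit 2, nat_lit 0])) (.node (nat_lit 2001) (.leaf ((nat_lit 549), [nat_lit 1, nat_lit 0, nat_lit 3, nat_lit 5, nat_lit 3, nat_lit 2, nat_lit 3, nat_lit 2, nat_lit 2, nat_lit 0, nat_lit 2, nat_lit 0, nat_lit 1, nat_lit 0])) (.leaf ((nat_lit 1301), [nat_lit 4, nat_lit 5, nat_lit 0, nat_lit 3, nat_lit 5, nat_lit 4, nat_lit 2, nat_lit 3, nat_lit 2, nat_lit 3, nat_lit 2, nat_lit 2, nat_lit 0, nat_lit 2, nat_lit 2, nat_lit 0, nat_lit 2, nat_lit 2, nat_lit 0])))))))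
 (.node (nat_lit 2013) (.node (nat_lit 2007) (.node (nat_lit 2004) (.node (nat_lit 2003) (.leaf ((nat_lit 1104), [nat_lit 1, nat_lit 5, nat_lit 1, nat_lit 0, nat_lit 1, nat_lit 4, nat_lit 3, nat_lit 2, nat_lit 2, nat_lit 0, nat_lit 2, nat_lit 2, nat_lit 0, nat_lit 2])) (.leaf ((nat_lit 202), [nat_lit 2, nat_lit 2, nat_lit 5, nat_lit 2, nat_lit 2, nat_lit 3, nat_lit 1, nat_lit 0, nat_lit 2, nat_lit 0, nat_lit 2, nat_lit 0]))) (.node (nat_lit 2005) (.leaf ((nat_lit 1302), [nat_lit 3, nat_lit 5, nat_lit 2, nat_lit 5, nat_lit 1, nat_lit 3, nat_lit 2, nat_lit 4, nat_lit 2, nat_lit 3, nat_lit 0, nat_lit 2, nat_lit 0, nat_lit 2, nat_lit 2, nat_lit 0, nat_lit 2])) (.node (nat_lit 2006) (.leaf ((nat_lit 465), [nat_lit 3, nat_lit 4, nat_lit 5, nat_lit 2, nat_lit 5, nat_lit 4, nat_lit 1, nat_lit 0, nat_lit 4, nat_lit 3, nat_lit 0, nat_lit 2, nat_lit 0, nat_lit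 2, nat_lit 2])) (.leaf ((nat_lit 1072), [nat_lit 0, nat_lit 5, nat_lit 2, nat_lit 0, nat_lit 5, nat_lit 4, nat_lit 1, nat_lit 4, nat_lit 2, nat_lit 4, nat_lit 0, nat_lit 2, nat_lit 0, nat_lit 2, nat_lit 2, nat_lit 0, nat_lit 1])))))
 (.node (nat_lit 2010) (.node (nat_lit 2008) (.leaf ((nat_lit 1280), [nat_lit 5, nat_lit 3, nat_lit 2, nat_lit 3, nat_lit 0, nat_lit 4, nat_lit 2, nat_lit 0])) (.node (nat_lit 2009) (.leaf ((nat_lit 44), [nat_lit 5, nat_lit 0, nat_lit 5, nat_lit 1, nat_lit 4, nat_lit 1, nat_lit 4, nat_lit 3, nat_lit 0, nat_lit 2, nat_lit 2, nat_lit 0, nat_lit 2, nat_lit 0, nat_lit 1, nat_lit 0])) (.leaf ((nat_lit 1094), [nat_lit 3, nat_lit 5, nat_lit 3, nat_lit 0, nat_lit 5, nat_lit 0, nat_lit 4, nat_lit 3, nat_lit 2, nat_lit 3, nat_lit 1, nat_lit 0, nat_lit 2])))) (.node (nat_lit 2011) (.leaf ((nat_lit 450), [nat_lit 0, nat_lit 5, nat_lit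 3, nat_lit 5, nat_lit 4, nat_lit 3, nat_lit 0, nat_lit 4, nat_lit 0, nat_lit 1, nat_lit 0, nat_lit 2, nat_lit 0])) (.node (nat_lit 2012) (.leaf ((nat_lit 385), [nat_lit 3, nat_lit 5, nat_lit 0, nat_lit 3, nat_lit 5, nat_lit 4, nat_lit 1, nat_lit 3, nat_lit 2, nat_lit 4, nat_lit 0, nat_lit 1, nat_lit 0, nat_lit 2, nat_lit 0, nat_lit 2, nat_lit 2, nat_lit 0])) (.leaf ((nat_lit 1303), [nat_lit 5, nat_lit 4, nat_lit 5, nat_lit 2, nat_lit 5, nat_lit 0, nat_lit 3, nat_lit 1, nat_lit 3, nat_lit 4, nat_lit 3, nat_lit 0, nat_lit 2, nat_lit 2, nat_lit 0, nat_lit 2, nat_lit 0]))))))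
 (.node (nat_lit 2018) (.node (nat_lit 2015) (.node (nat_lit 2014) (.leaf ((nat_lit 49), [nat_lit 4, nat_lit 1, nat_lit 5, nat_lit 3, nat_lit 5, nat_lit 3, nat_lit 1, nat_lit 4, nat_lit 1, nat_lit 3, nat_lit 0, nat_lit 1, nat_lit 0, nat_lit 2, nat_lit 2, nat_lit 0, nat_lit 1])) (.leaf ((nat_lit 1206), [nat_lit 1, nat_lit 0, nat_lit 5, nat_lit 3, nat_lit 5, nat_lit 1, nat_lit 4, nat_lit 1, nat_lit 4, nat_lit 3, nat_lit 0, nat_lit 1]))) (.node (nat_lit 2016) (.leaf ((nat_lit 1201), [nat_lit 3, nat_lit 5, nat_lit 0, nat_lit 3, nat_lit 5, nat_lit 4, nat_lit 0, nat_lit 2, nat_lit 3, nat_lit 2, nat_lit 0, nat_lit 3, nat_lit 0, nat_lit 1, nat_lit 0, nat_lit 1, nat_lit 0, nat_lit 2])) (.node (nat_lit 2017) (.leaf ((nat_lit 187), [nat_lit 5, nat_lit 2, nat_lit 3, nat_lit 5, nat_lit 3, nat_lit 1, nat_lit 4, nat_lit 0, nat_lit 2, nat_lit 2, nat_lit 0, nat_lit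 2])) (.leaf ((nat_lit 1304), [nat_lit 1, nat_lit 0, nat_lit 5, nat_lit 3, nat_lit 5, nat_lit 1, nat_lit 0, nat_lit 4, nat_lit 1, nat_lit 3, nat_lit 0, nat_lit 1, nat_lit 0, nat_lit 2, nat_lit 2])))))
 (.node (nat_lit 2021) (.node (nat_lit 2019) (.leaf ((nat_lit 1305), [nat_lit 5, nat_lit 2, nat_lit 0, nat_lit 2, nat_lit 5, nat_lit 4, nat_lit 2, nat_lit 3, nat_lit 0, nat_lit 3, nat_lit 2, nat_lit 0, nat_lit 1, nat_lit 0, nat_lit 1, nat_lit 0, nat_lit 2])) (.node (nat_lit 2020) (.leaf ((nat_lit 1113), [nat_lit 1, nat_lit 5, nat_lit 2, nat_lit 5, nat_lit 0, nat_lit 2, nat_lit 0, nat_lit 4, nat_lit 1, nat_lit 4])) (.leaf ((nat_lit 1306), [nat_lit 4, nat_lit 3, nat_lit 5, nat_lit 0, nat_lit 3, nat_lit 0, nat_lit 1, nat_lit 4, nat_lit 2, nat_lit 2, nat_lit 0, nat_lit 2, nat_lit 0])))) (.node (nat_lit 2022) (.leaf ((nat_lit 630), [nat_lit 5, nat_lit 4,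 nat_lit 5, nat_lit 1, nat_lit 5, nat_lit 1, nat_lit 3, nat_lit 4, nat_lit 2, nat_lit 2, nat_lit 0, nat_lit 1, nat_lit 0, nat_lit 2])) (.node (nat_lit 2023) (.leaf ((nat_lit 984), [nat_lit 4, nat_lit 0, nat_lit 5, nat_lit 2, nat_lit 3, nat_lit 0, nat_lit 3, nat_lit 2, nat_lit 0, nat_lit 1, nat_lit 0])) (.leaf ((nat_lit 1307), [nat_lit 4, nat_lit 1, nat_lit 5, nat_lit 3, nat_lit 5, nat_lit 1, nat_lit 3, nat_lit 2, nat_lit 0, nat_lit 4, nat_lit 1, nat_lit 0, nat_lit 2, nat_lit 0, nat_lit 2, nat_lit 0])))))))))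
 (.node (nat_lit 2068) (.node (nat_lit 2046) (.node (nat_lit 2035) (.node (nat_lit 2029) (.node (nat_lit 2026) (.node (nat_lit 2025) (.leaf ((nat_lit 737), [nat_lit 4, nat_lit 5, nat_lit 2, nat_lit 3, nat_lit 5, nat_lit 4, nat_lit 3, nat_lit 2, nat_lit 4, nat_lit 0])) (.leaf ((nat_lit 918), [nat_lit 1, nat_lit 3, nat_lit 0, nat_lit 5, nat_lit 1, nat_lit 4, nat_lit 1, nat_lit 3, nat_lit 1, nat_lit 3, nat_lit 0, nat_lit 2, nat_lit 2, nat_lit 0, nat_lit 2, nat_lit 0, nat_lit 1]))) (.node (nat_lit 2027) (.leaf ((nat_lit 1308), [nat_lit 2, nat_lit 3, nat_lit 5, nat_lit 3, nat_lit 1, nat_lit 3, nat_lit 4, nat_lit 0, nat_lit 1, nat_lit 0, nat_lit 2, nat_lit 0, nat_lit 2, nat_lit 2])) (.node (nat_lit 2028) (.leaf ((nat_lit 1309), [nat_lit 5, nat_lit 4, nat_lit 5, nat_lit 1, nat_lit 5, nat_lit 1, nat_lit 0, nat_lit 1, nat_lit 0, nat_lit 3, nat_lit 0, nat_lit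 2])) (.leaf ((nat_lit 606), [nat_lit 3, nat_lit 5, nat_lit 0, nat_lit 3, nat_lit 5, nat_lit 0, nat_lit 4, nat_lit 1, nat_lit 0, nat_lit 4, nat_lit 0, nat_lit 1, nat_lit 0, nat_lit 2, nat_lit 2])))))
 (.node (nat_lit 2032) (.node (nat_lit 2030) (.leaf ((nat_lit 851), [nat_lit 5, nat_lit 2, nat_lit 0, nat_lit 5, nat_lit 0, nat_lit 1, nat_lit 3, nat_lit 1, nat_lit 0, nat_lit 4, nat_lit 0, nat_lit 1, nat_lit 0, nat_lit 2])) (.node (nat_lit 2031) (.leaf ((nat_lit 780), [nat_lit 3, nat_lit 2, nat_lit 0, nat_lit 5, nat_lit 0, nat_lit 4, nat_lit 1, nat_lit 3, nat_lit 0, nat_lit 3, nat_lit 1, nat_lit 0, nat_lit 2, nat_lit 0, nat_lit 1])) (.leaf ((nat_lit 1310), [nat_lit 5, nat_lit 3, nat_lit 0, nat_lit 5, nat_lit 2, nat_lit 3, nat_lit 1, nat_lit 3, nat_lit 1, nat_lit 3, nat_lit 0, nat_lit 1, nat_lit 0, nat_lit 2, nat_lit 2, nat_lit 0, nat_lit 2])))) (.node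 (nat_lit 2033) (.leaf ((nat_lit 1311), [nat_lit 3, nat_lit 4, nat_lit 5, nat_lit 4, nat_lit 2, nat_lit 3, nat_lit 1, nat_lit 3, nat_lit 0, nat_lit 2, nat_lit 2, nat_lit 0, nat_lit 1])) (.node (nat_lit 2034) (.leaf ((nat_lit 1312), [nat_lit 3, nat_lit 0, nat_lit 5, nat_lit 3, nat_lit 5, nat_lit 4, nat_lit 1, nat_lit 0, nat_lit 3, nat_lit 1, nat_lit 0, nat_lit 2, nat_lit 2, nat_lit 0, nat_lit 2, nat_lit 2, nat_lit 0])) (.leaf ((nat_lit 978), [nat_lit 5, nat_lit 4, nat_lit 2, nat_lit 5, nat_lit 4, nat_lit 2, nat_lit 3, nat_lit 2, nat_lit 2, nat_lit 3, nat_lit 2, nat_lit 2, nat_lit 0]))))))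
 (.node (nat_lit 2040) (.node (nat_lit 2037) (.node (nat_lit 2036) (.leaf ((nat_lit 1099), [nat_lit 0, nat_lit 2, nat_lit 5, nat_lit 2, nat_lit 4, nat_lit 3, nat_lit 2, nat_lit 0, nat_lit 2, nat_lit 2, nat_lit 0, nat_lit 2, nat_lit 2])) (.leaf ((nat_lit 1313), [nat_lit 3, nat_lit 5, nat_lit 1, nat_lit 4, nat_lit 3, nat_lit 2, nat_lit 3, nat_lit 1, nat_lit 0, nat_lit 2, nat_lit 2, nat_lit 0, nat_lit 2, nat_lit 2, nat_lit 0]))) (.node (nat_lit 2038) (.leaf ((nat_lit 776), [nat_lit 1, nat_lit 0, nat_lit 2, nat_lit 5, nat_lit 0, nat_lit 4, nat_lit 2, nat_lit 0, nat_lit 2, nat_lit 3, nat_lit 2, nat_lit 0, nat_lit 2, nat_lit 2, nat_lit 0, nat_lit 1, nat_lit 0])) (.node (nat_lit 2039) (.leaf ((nat_lit 1314), [nat_lit 2, nat_lit 5, nat_lit 0, nat_lit 2, nat_lit 2, nat_lit 3, nat_lit 2, nat_lit 4, nat_lit 0, nat_lit 1, nat_lit 0, nat_lit 2, nat_lit 2, nat_lit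 0, nat_lit 1, nat_lit 0])) (.leaf ((nat_lit 1315), [nat_lit 5, nat_lit 3, nat_lit 0, nat_lit 5, nat_lit 0, nat_lit 1, nat_lit 3, nat_lit 1, nat_lit 0, nat_lit 4, nat_lit 0, nat_lit 2, nat_lit 0, nat_lit 2])))))
 (.node (nat_lit 2043) (.node (nat_lit 2041) (.leaf ((nat_lit 1146), [nat_lit 1, nat_lit 5, nat_lit 1, nat_lit 3, nat_lit 4, nat_lit 3, nat_lit 0, nat_lit 3, nat_lit 1, nat_lit 0, nat_lit 2, nat_lit 2, nat_lit 0, nat_lit 1])) (.node (nat_lit 2042) (.leaf ((nat_lit 208), [nat_lit 2, nat_lit 3, nat_lit 5, nat_lit 0, nat_lit 1, nat_lit 0, nat_lit 3, nat_lit 0, nat_lit 2, nat_lit 0, nat_lit 2, nat_lit 2, nat_lit 0, nat_lit 2])) (.leaf ((nat_lit 1060), [nat_lit 5, nat_lit 3, nat_lit 2, nat_lit 5, nat_lit 0, nat_lit 1, nat_lit 3, nat_lit 4, nat_lit 2, nat_lit 3, nat_lit 2, nat_lit 0, nat_lit 1, nat_lit 0])))) (.node (nat_lit 2044) (.leaf ((nat_lit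 1313), [nat_lit 3, nat_lit 1, nat_lit 5, nat_lit 2, nat_lit 5, nat_lit 0, nat_lit 4, nat_lit 1, nat_lit 3, nat_lit 0, nat_lit 3, nat_lit 2, nat_lit 0, nat_lit 1, nat_lit 0, nat_lit 1, nat_lit 0, nat_lit 2, nat_lit 0])) (.node (nat_lit 2045) (.leaf ((nat_lit 1316), [nat_lit 0, nat_lit 2, nat_lit 5, nat_lit 4, nat_lit 3, nat_lit 0, nat_lit 2, nat_lit 2, nat_lit 0, nat_lit 1])) (.leaf ((nat_lit 167), [nat_lit 5, nat_lit 3, nat_lit 5, nat_lit 3, nat_lit 2, nat_lit 3, nat_lit 0, nat_lit 1, nat_lit 0, nat_lit 2, nat_lit 2, nat_lit 0, nat_lit 1, nat_lit 0])))))))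
 (.node (nat_lit 2057) (.node (nat_lit 2051) (.node (nat_lit 2048) (.node (nat_lit 2047) (.leaf ((nat_lit 636), [nat_lit 3, nat_lit 0, nat_lit 5, nat_lit 3, nat_lit 5, nat_lit 0, nat_lit 2, nat_lit 3, nat_lit 0, nat_lit 2, nat_lit 2, nat_lit 0, nat_lit 2])) (.leaf ((nat_lit 708), [nat_lit 4, nat_lit 5, nat_lit 4, nat_lit 0, nat_lit 5, nat_lit 0, nat_lit 2, nat_lit 2, nat_lit 3, nat_lit 0, nat_lit 1, nat_lit 0, nat_lit 2, nat_lit 0, nat_lit 2, nat_lit 0]))) (.node (nat_lit 2049) (.leaf ((nat_lit 1317), [nat_lit 5, nat_lit 1, nat_lit 0, nat_lit 2, nat_lit 5, nat_lit 3, nat_lit 2, nat_lit 0, nat_lit 1, nat_lit 0, nat_lit 3, nat_lit 0, nat_lit 2, nat_lit 0, nat_lit 2, nat_lit 2])) (.node (nat_lit 2050) (.leaf ((nat_lit 1191), [nat_lit 2, nat_lit 5, nat_lit 4, nat_lit 5, nat_lit 0, nat_lit 3, nat_lit 4, nat_lit 3, nat_lit 0, nat_lit 2, nat_lit 0, nat_lit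 2, nat_lit 2, nat_lit 0, nat_lit 2, nat_lit 0])) (.leaf ((nat_lit 1318), [nat_lit 3, nat_lit 5, nat_lit 2, nat_lit 5, nat_lit 0, nat_lit 3, nat_lit 4, nat_lit 3, nat_lit 2, nat_lit 2, nat_lit 0, nat_lit 2, nat_lit 2, nat_lit 0, nat_lit 2, nat_lit 2, nat_lit 0])))))
 (.node (nat_lit 2054) (.node (nat_lit 2052) (.leaf ((nat_lit 1055), [nat_lit 5, nat_lit 1, nat_lit 5, nat_lit 0, nat_lit 5, nat_lit 0, nat_lit 2, nat_lit 2, nat_lit 3, nat_lit 2, nat_lit 4, nat_lit 2, nat_lit 0, nat_lit 1, nat_lit 0, nat_lit 2, nat_lit 2])) (.node (nat_lit 2053) (.leaf ((nat_lit 1300), [nat_lit 5, nat_lit 2, nat_lit 5, nat_lit 3, nat_lit 2, nat_lit 3, nat_lit 2, nat_lit 2, nat_lit 3, nat_lit 2, nat_lit 0, nat_lit 1, nat_lit 0, nat_lit 1, nat_lit 0])) (.leaf ((nat_lit 373), [nat_lit 5, nat_lit 4, nat_lit 3, nat_lit 0, nat_lit 5, nat_lit 0, nat_lit 2, nat_lit 2, nat_lit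 3, nat_lit 2, nat_lit 4, nat_lit 1, nat_lit 0, nat_lit 1, nat_lit 0])))) (.node (nat_lit 2055) (.leaf ((nat_lit 748), [nat_lit 3, nat_lit 0, nat_lit 2, nat_lit 5, nat_lit 3, nat_lit 4, nat_lit 1, nat_lit 3, nat_lit 0, nat_lit 1, nat_lit 0, nat_lit 2, nat_lit 2, nat_lit 0, nat_lit 2, nat_lit 0])) (.node (nat_lit 2056) (.leaf ((nat_lit 916), [nat_lit 2, nat_lit 3, nat_lit 5, nat_lit 2, nat_lit 4, nat_lit 3, nat_lit 2, nat_lit 2, nat_lit 3, nat_lit 1, nat_lit 0, nat_lit 2, nat_lit 2, nat_lit 0, nat_lit 2, nat_lit 0])) (.leaf ((nat_lit 1319), [nat_lit 5, nat_lit 4, nat_lit 5, nat_lit 2, nat_lit 5, nat_lit 3, nat_lit 2, nat_lit 0, nat_lit 4, nat_lit 1, nat_lit 0, nat_lit 1, nat_lit 0, nat_lit 2]))))))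
 (.node (nat_lit 2062) (.node (nat_lit 2059) (.node (nat_lit 2058) (.leaf ((nat_lit 1320), [nat_lit 5, nat_lit 1, nat_lit 0, nat_lit 3, nat_lit 5, nat_lit 0, nat_lit 1, nat_lit 3, nat_lit 0, nat_lit 4, nat_lit 1, nat_lit 0, nat_lit 2, nat_lit 0, nat_lit 2, nat_lit 0])) (.leaf ((nat_lit 645), [nat_lit 5, nat_lit 4, nat_lit 5, nat_lit 1, nat_lit 5, nat_lit 3, nat_lit 2, nat_lit 0, nat_lit 4, nat_lit 2, nat_lit 2, nat_lit 0, nat_lit 2, nat_lit 0, nat_lit 1]))) (.node (nat_lit 2060) (.leaf ((nat_lit 1043), [nat_lit 2, nat_lit 0, nat_lit 1, nat_lit 5, nat_lit 0, nat_lit 3, nat_lit 1, nat_lit 3, nat_lit 4, nat_lit 0, nat_lit 2, nat_lit 2, nat_lit 0, nat_lit 2, nat_lit 0, nat_lit 1])) (.node (nat_lit 2061) (.leaf ((nat_lit 961), [nat_lit 0, nat_lit 5, nat_lit 2, nat_lit 0, nat_lit 5, nat_lit 3, nat_lit 1, nat_lit 3, nat_lit 4, nat_lit 3, nat_lit 0, nat_lit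 2, nat_lit 0, nat_lit 2, nat_lit 2])) (.leaf ((nat_lit 404), [nat_lit 4, nat_lit 3, nat_lit 5, nat_lit 0, nat_lit 5, nat_lit 1, nat_lit 3, nat_lit 0, nat_lit 3, nat_lit 2, nat_lit 3, nat_lit 0, nat_lit 2, nat_lit 0, nat_lit 2, nat_lit 2, nat_lit 0, nat_lit 1])))))
 (.node (nat_lit 2065) (.node (nat_lit 2063) (.leaf ((nat_lit 284), [nat_lit 5, nat_lit 3, nat_lit 5, nat_lit 1, nat_lit 4, nat_lit 0, nat_lit 1, nat_lit 0, nat_lit 3, nat_lit 1, nat_lit 0, nat_lit 2, nat_lit 2, nat_lit 0, nat_lit 2])) (.node (nat_lit 2064) (.leaf ((nat_lit 1321), [nat_lit 0, nat_lit 5, nat_lit 2, nat_lit 4, nat_lit 2, nat_lit 3, nat_lit 1, nat_lit 3, nat_lit 0, nat_lit 2, nat_lit 2, nat_lit 0, nat_lit 2, nat_lit 0, nat_lit 1, nat_lit 0])) (.leaf ((nat_lit 1291), [nat_lit 0, nat_lit 2, nat_lit 5, nat_lit 3, nat_lit 5, nat_lit 2, nat_lit 3, nat_lit 2, nat_lit 0, nat_lit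 3, nat_lit 0, nat_lit 1, nat_lit 0, nat_lit 2, nat_lit 2])))) (.node (nat_lit 2066) (.leaf ((nat_lit 989), [nat_lit 4, nat_lit 2, nat_lit 0, nat_lit 5, nat_lit 1, nat_lit 4, nat_lit 3, nat_lit 1, nat_lit 0, nat_lit 4])) (.node (nat_lit 2067) (.leaf ((nat_lit 1264), [nat_lit 4, nat_lit 5, nat_lit 3, nat_lit 5, nat_lit 2, nat_lit 0, nat_lit 1, nat_lit 4, nat_lit 3, nat_lit 0, nat_lit 1, nat_lit 0, nat_lit 2, nat_lit 0, nat_lit 2])) (.leaf ((nat_lit 700), [nat_lit 3, nat_lit 0, nat_lit 5, nat_lit 4, nat_lit 3, nat_lit 2, nat_lit 0, nat_lit 3, nat_lit 2, nat_lit 0, nat_lit 2, nat_lit 2]))))))))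
 (.node (nat_lit 2090) (.node (nat_lit 2079) (.node (nat_lit 2073) (.node (nat_lit 2070) (.node (nat_lit 2069) (.leaf ((nat_lit 1136), [nat_lit 2, nat_lit 5, nat_lit 0, nat_lit 1, nat_lit 5, nat_lit 3, nat_lit 0, nat_lit 1, nat_lit 3, nat_lit 0, nat_lit 3, nat_lit 0, nat_lit 2, nat_lit 2, nat_lit 0, nat_lit 2, nat_lit 2, nat_lit 0])) (.leaf ((nat_lit 1322), [nat_lit 2, nat_lit 2, nat_lit 5, nat_lit 1, nat_lit 5, nat_lit 2, nat_lit 4, nat_lit 3, nat_lit 0, nat_lit 2, nat_lit 4, nat_lit 0, nat_lit 1, nat_lit 0, nat_lit 2, nat_lit 2]))) (.node (nat_lit 2071) (.leaf ((nat_lit 1234), [nat_lit 1, nat_lit 3, nat_lit 0, nat_lit 5, nat_lit 0, nat_lit 4, nat_lit 1, nat_lit 3, nat_lit 0, nat_lit 3, nat_lit 1, nat_lit 0, nat_lit 2])) (.node (nat_lit 2072) (.leaf ((nat_lit 254), [nat_lit 4, nat_lit 3, nat_lit 5, nat_lit 0, nat_lit 5, nat_lit 2, nat_lit 3, nat_lit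 2, nat_lit 4, nat_lit 2, nat_lit 2, nat_lit 0, nat_lit 1, nat_lit 0, nat_lit 2, nat_lit 2])) (.leaf ((nat_lit 901), [nat_lit 5, nat_lit 4, nat_lit 1, nat_lit 0, nat_lit 5, nat_lit 3, nat_lit 4, nat_lit 0, nat_lit 2, nat_lit 2, nat_lit 3, nat_lit 2, nat_lit 0])))))
 (.node (nat_lit 2076) (.node (nat_lit 2074) (.leaf ((nat_lit 221), [nat_lit 5, nat_lit 2, nat_lit 5, nat_lit 3, nat_lit 4, nat_lit 2, nat_lit 4, nat_lit 3, nat_lit 1, nat_lit 0, nat_lit 2, nat_lit 0])) (.node (nat_lit 2075) (.leaf ((nat_lit 732), [nat_lit 4, nat_lit 5, nat_lit 2, nat_lit 5, nat_lit 1, nat_lit 4, nat_lit 3, nat_lit 2, nat_lit 0, nat_lit 3, nat_lit 0, nat_lit 2, nat_lit 2, nat_lit 0, nat_lit 2, nat_lit 0, nat_lit 1])) (.leaf ((nat_lit 1323), [nat_lit 1, nat_lit 3, nat_lit 0, nat_lit 5, nat_lit 0, nat_lit 1, nat_lit 0, nat_lit 1, nat_lit 0, nat_lit 3, nat_lit 0, nat_lit 1,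 nat_lit 0, nat_lit 2, nat_lit 0, nat_lit 2, nat_lit 2])))) (.node (nat_lit 2077) (.leaf ((nat_lit 707), [nat_lit 5, nat_lit 0, nat_lit 5, nat_lit 3, nat_lit 0, nat_lit 3, nat_lit 0, nat_lit 2, nat_lit 4, nat_lit 0, nat_lit 2, nat_lit 0, nat_lit 2, nat_lit 2, nat_lit 0, nat_lit 2])) (.node (nat_lit 2078) (.leaf ((nat_lit 1324), [nat_lit 2, nat_lit 3, nat_lit 5, nat_lit 3, nat_lit 2, nat_lit 0, nat_lit 2, nat_lit 4, nat_lit 1, nat_lit 0, nat_lit 1, nat_lit 0, nat_lit 2, nat_lit 0])) (.leaf ((nat_lit 1304), [nat_lit 5, nat_lit 2, nat_lit 0, nat_lit 2, nat_lit 5, nat_lit 4, nat_lit 1, nat_lit 3, nat_lit 1, nat_lit 3, nat_lit 1, nat_lit 0, nat_lit 2, nat_lit 2, nat_lit 0, nat_lit 2, nat_lit 0]))))))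
 (.node (nat_lit 2084) (.node (nat_lit 2081) (.node (nat_lit 2080) (.leaf ((nat_lit 1077), [nat_lit 5, nat_lit 1, nat_lit 3, nat_lit 2, nat_lit 5, nat_lit 1, nat_lit 3, nat_lit 0, nat_lit 3, nat_lit 2, nat_lit 2, nat_lit 0, nat_lit 2, nat_lit 2])) (.leaf ((nat_lit 939), [nat_lit 2, nat_lit 5, nat_lit 4, nat_lit 5, nat_lit 1, nat_lit 3, nat_lit 2, nat_lit 0, nat_lit 4, nat_lit 0]))) (.node (nat_lit 2082) (.leaf ((nat_lit 1325), [nat_lit 4, nat_lit 5, nat_lit 4, nat_lit 0, nat_lit 5, nat_lit 1, nat_lit 3, nat_lit 2, nat_lit 2, nat_lit 3, nat_lit 2, nat_lit 2, nat_lit 0, nat_lit 2, nat_lit 2, nat_lit 0, nat_lit 2, nat_lit 2])) (.node (nat_lit 2083) (.leaf ((nat_lit 887), [nat_lit 0, nat_lit 2, nat_lit 5, nat_lit 3, nat_lit 5, nat_lit 0, nat_lit 2, nat_lit 4, nat_lit 2, nat_lit 4, nat_lit 0, nat_lit 2, nat_lit 0, nat_lit 2, nat_lit 2, nat_lit 0])) (.leaf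 ((nat_lit 1294), [nat_lit 4, nat_lit 1, nat_lit 0, nat_lit 5, nat_lit 4, nat_lit 2, nat_lit 0, nat_lit 1, nat_lit 0, nat_lit 3, nat_lit 2, nat_lit 2, nat_lit 0, nat_lit 2, nat_lit 2, nat_lit 0, nat_lit 2])))))
 (.node (nat_lit 2087) (.node (nat_lit 2085) (.leaf ((nat_lit 881), [nat_lit 1, nat_lit 0, nat_lit 2, nat_lit 5, nat_lit 3, nat_lit 1, nat_lit 3, nat_lit 1, nat_lit 3, nat_lit 2, nat_lit 2, nat_lit 0, nat_lit 2, nat_lit 2, nat_lit 0, nat_lit 2, nat_lit 2, nat_lit 0])) (.node (nat_lit 2086) (.leaf ((nat_lit 1125), [nat_lit 5, nat_lit 0, nat_lit 5, nat_lit 0, nat_lit 1, nat_lit 0, nat_lit 4, nat_lit 0, nat_lit 2, nat_lit 0, nat_lit 2])) (.leaf ((nat_lit 1326), [nat_lit 2, nat_lit 3, nat_lit 5, nat_lit 4, nat_lit 3, nat_lit 2, nat_lit 4, nat_lit 3, nat_lit 0, nat_lit 2, nat_lit 0, nat_lit 2, nat_lit 2, nat_lit 0, nat_lit 1, nat_lit 0])))) (.node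 (nat_lit 2088) (.leaf ((nat_lit 892), [nat_lit 0, nat_lit 2, nat_lit 5, nat_lit 4, nat_lit 2, nat_lit 0, nat_lit 2, nat_lit 3, nat_lit 0, nat_lit 2, nat_lit 0, nat_lit 2, nat_lit 2, nat_lit 0, nat_lit 1, nat_lit 0])) (.node (nat_lit 2089) (.leaf ((nat_lit 1163), [nat_lit 5, nat_lit 0, nat_lit 4, nat_lit 5, nat_lit 3, nat_lit 4, nat_lit 2, nat_lit 0, nat_lit 2, nat_lit 3, nat_lit 1])) (.leaf ((nat_lit 1327), [nat_lit 5, nat_lit 2, nat_lit 2, nat_lit 0, nat_lit 5, nat_lit 1, nat_lit 0, nat_lit 3, nat_lit 1, nat_lit 3, nat_lit 0, nat_lit 1, nat_lit 0, nat_lit 2, nat_lit 2, nat_lit 0, nat_lit 1, nat_lit 0])))))))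
 (.node (nat_lit 2101) (.node (nat_lit 2095) (.node (nat_lit 2092) (.node (nat_lit 2091) (.leaf ((nat_lit 725), [nat_lit 2, nat_lit 3, nat_lit 0, nat_lit 5, nat_lit 4, nat_lit 0, nat_lit 3, nat_lit 1, nat_lit 0, nat_lit 2, nat_lit 0, nat_lit 1])) (.leaf ((nat_lit 691), [nat_lit 4, nat_lit 0, nat_lit 5, nat_lit 3, nat_lit 1, nat_lit 4, nat_lit 3, nat_lit 2, nat_lit 0, nat_lit 2, nat_lit 2, nat_lit 0, nat_lit 2]))) (.node (nat_lit 2093) (.leaf ((nat_lit 81), [nat_lit 4, nat_lit 1, nat_lit 5, nat_lit 0, nat_lit 5, nat_lit 0, nat_lit 3, nat_lit 0, nat_lit 2, nat_lit 4, nat_lit 3, nat_lit 0, nat_lit 2, nat_lit 0])) (.node (nat_lit 2094) (.leaf ((nat_lit 1328), [nat_lit 5, nat_lit 1, nat_lit 3, nat_lit 0, nat_lit 5, nat_lit 2, nat_lit 2, nat_lit 4, nat_lit 0, nat_lit 4, nat_lit 3, nat_lit 0, nat_lit 1, nat_lit 0, nat_lit 1])) (.leaf ((nat_lit 1279), [nat_lit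 4, nat_lit 5, nat_lit 0, nat_lit 3, nat_lit 4, nat_lit 3, nat_lit 2, nat_lit 0, nat_lit 2, nat_lit 0, nat_lit 1, nat_lit 0, nat_lit 1])))))
 (.node (nat_lit 2098) (.node (nat_lit 2096) (.leaf ((nat_lit 847), [nat_lit 0, nat_lit 2, nat_lit 4, nat_lit 0, nat_lit 5, nat_lit 4, nat_lit 1, nat_lit 0, nat_lit 3, nat_lit 1, nat_lit 4, nat_lit 2, nat_lit 2, nat_lit 0, nat_lit 2])) (.node (nat_lit 2097) (.leaf ((nat_lit 1242), [nat_lit 2, nat_lit 5, nat_lit 2, nat_lit 0, nat_lit 3, nat_lit 0, nat_lit 2, nat_lit 3, nat_lit 2, nat_lit 0, nat_lit 1, nat_lit 0, nat_lit 2])) (.leaf ((nat_lit 900), [nat_lit 0, nat_lit 5, nat_lit 2, nat_lit 0, nat_lit 5, nat_lit 1, nat_lit 0, nat_lit 4, nat_lit 2, nat_lit 2, nat_lit 0, nat_lit 2, nat_lit 2, nat_lit 0])))) (.node (nat_lit 2099) (.leaf ((nat_lit 1329), [nat_lit 5, nat_lit 4, nat_lit 2, nat_lit 0, nat_lit 5, nat_lit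 4, nat_lit 1, nat_lit 0, nat_lit 4, nat_lit 3, nat_lit 1, nat_lit 0])) (.node (nat_lit 2100) (.leaf ((nat_lit 1160), [nat_lit 4, nat_lit 3, nat_lit 5, nat_lit 2, nat_lit 5, nat_lit 1, nat_lit 3, nat_lit 0, nat_lit 4, nat_lit 2, nat_lit 2, nat_lit 0, nat_lit 2, nat_lit 0, nat_lit 1, nat_lit 0])) (.leaf ((nat_lit 713), [nat_lit 5, nat_lit 0, nat_lit 3, nat_lit 5, nat_lit 4, nat_lit 2, nat_lit 3, nat_lit 4, nat_lit 0, nat_lit 2, nat_lit 0, nat_lit 2, nat_lit 2, nat_lit 0, nat_lit 2]))))))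
 (.node (nat_lit 2106) (.node (nat_lit 2103) (.node (nat_lit 2102) (.leaf ((nat_lit 1330), [nat_lit 5, nat_lit 4, nat_lit 5, nat_lit 2, nat_lit 5, nat_lit 1, nat_lit 3, nat_lit 1, nat_lit 3, nat_lit 4, nat_lit 0, nat_lit 1, nat_lit 0, nat_lit 1, nat_lit 0, nat_lit 2])) (.leaf ((nat_lit 166), [nat_lit 5, nat_lit 2, nat_lit 3, nat_lit 5, nat_lit 4, nat_lit 0, nat_lit 3, nat_lit 4, nat_lit 3, nat_lit 1, nat_lit 0, nat_lit 2, nat_lit 0, nat_lit 1]))) (.node (nat_lit 2104) (.leaf ((nat_lit 68), [nat_lit 3, nat_lit 0, nat_lit 2, nat_lit 5, nat_lit 1, nat_lit 0, nat_lit 2, nat_lit 4, nat_lit 0, nat_lit 2, nat_lit 0, nat_lit 1])) (.node (nat_lit 2105) (.leaf ((nat_lit 1331), [nat_lit 2, nat_lit 2, nat_lit 0, nat_lit 5, nat_lit 1, nat_lit 0, nat_lit 3, nat_lit 0, nat_lit 4, nat_lit 1, nat_lit 0, nat_lit 2, nat_lit 2, nat_lit 0, nat_lit 2, nat_lit 2])) (.leaf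 ((nat_lit 217), [nat_lit 2, nat_lit 5, nat_lit 0, nat_lit 5, nat_lit 2, nat_lit 4, nat_lit 3, nat_lit 0, nat_lit 2, nat_lit 3, nat_lit 0, nat_lit 1, nat_lit 0, nat_lit 2, nat_lit 2, nat_lit 0, nat_lit 1, nat_lit 0])))))
 (.node (nat_lit 2109) (.node (nat_lit 2107) (.leaf ((nat_lit 454), [nat_lit 4, nat_lit 2, nat_lit 5, nat_lit 1, nat_lit 5, nat_lit 4, nat_lit 1, nat_lit 0, nat_lit 3, nat_lit 1, nat_lit 4, nat_lit 0])) (.node (nat_lit 2108) (.leaf ((nat_lit 1332), [nat_lit 3, nat_lit 0, nat_lit 2, nat_lit 5, nat_lit 4, nat_lit 1, nat_lit 3, nat_lit 0, nat_lit 1, nat_lit 0, nat_lit 1, nat_lit 0, nat_lit 2, nat_lit 0])) (.leaf ((nat_lit 93), [nat_lit 5, nat_lit 4, nat_lit 5, nat_lit 1, nat_lit 5, nat_lit 2, nat_lit 2, nat_lit 4, nat_lit 1, nat_lit 0, nat_lit 3, nat_lit 2, nat_lit 2, nat_lit 0, nat_lit 2, nat_lit 0, nat_lit 1, nat_lit 0])))) (.node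 (nat_lit 2110) (.leaf ((nat_lit 1091), [nat_lit 5, nat_lit 4, nat_lit 3, nat_lit 5, nat_lit 2, nat_lit 5, nat_lit 1, nat_lit 0, nat_lit 4, nat_lit 3, nat_lit 0, nat_lit 3, nat_lit 0, nat_lit 2, nat_lit 2, nat_lit 0, nat_lit 1])) (.node (nat_lit 2111) (.leaf ((nat_lit 1179), [nat_lit 4, nat_lit 3, nat_lit 5, nat_lit 0, nat_lit 5, nat_lit 4, nat_lit 0, nat_lit 4, nat_lit 0, nat_lit 4, nat_lit 2, nat_lit 0, nat_lit 2, nat_lit 2, nat_lit 0, nat_lit 2, nat_lit 0])) (.leaf ((nat_lit 1209), [nat_lit 5, nat_lit 2, nat_lit 3, nat_lit 4, nat_lit 2, nat_lit 4, nat_lit 0, nat_lit 2, nat_lit 0, nat_lit 2]))))))))))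
noncomputable def qWd_12 : Tr (ℕ × List ℕ) := (.node (nat_lit 2200) (.node (nat_lit 2156) (.node (nat_lit 2134) (.node (nat_lit 2123) (.node (nat_lit 2117) (.node (nat_lit 2114) (.node (nat_lit 2113) (.leaf ((nat_lit 36), [nat_lit 3, nat_lit 1, nat_lit 5, nat_lit 2, nat_lit 5, nat_lit 4, nat_lit 2, nat_lit 4, nat_lit 1, nat_lit 0, nat_lit 3, nat_lit 1, nat_lit 0, nat_lit 2, nat_lit 2, nat_lit 0, nat_lit 2, nat_lit 0])) (.leaf ((nat_lit 1333), [nat_lit 1, nat_lit 0, nat_lit 2, nat_lit 5, nat_lit 4, nat_lit 0, nat_lit 2, nat_lit 2, nat_lit 3, nat_lit 1, nat_lit 0, nat_lit 1, nat_lit 0, nat_lit 2, nat_lit 0]))) (.node (nat_lit 2115) (.leaf ((nat_lit 1172), [nat_lit 4, nat_lit 5, nat_lit 3, nat_lit 2, nat_lit 4, nat_lit 3, nat_lit 2, nat_lit 3, nat_lit 0, nat_lit 2, nat_lit 0, nat_lit 1, nat_lit 0, nat_lit 1, nat_lit 0])) (.node (nat_lit 2116) (.leaf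 ((nat_lit 1058), [nat_lit 3, nat_lit 1, nat_lit 5, nat_lit 0, nat_lit 5, nat_lit 4, nat_lit 3, nat_lit 0, nat_lit 2, nat_lit 2, nat_lit 3, nat_lit 2, nat_lit 2, nat_lit 0, nat_lit 1, nat_lit 0, nat_lit 2, nat_lit 2])) (.leaf ((nat_lit 57), [nat_lit 4, nat_lit 5, nat_lit 3, nat_lit 5, nat_lit 4, nat_lit 1, nat_lit 3, nat_lit 0, nat_lit 3, nat_lit 1, nat_lit 0, nat_lit 1, nat_lit 0, nat_lit 2, nat_lit 2])))))
 (.node (nat_lit 2120) (.node (nat_lit 2118) (.leaf ((nat_lit 1334), [nat_lit 2, nat_lit 2, nat_lit 0, nat_lit 5, nat_lit 3, nat_lit 0, nat_lit 2, nat_lit 4, nat_lit 3, nat_lit 2, nat_lit 0, nat_lit 1])) (.node (nat_lit 2119) (.leaf ((nat_lit 1312), [nat_lit 2, nat_lit 5, nat_lit 0, nat_lit 5, nat_lit 3, nat_lit 1, nat_lit 4, nat_lit 0, nat_lit 4, nat_lit 1, nat_lit 0, nat_lit 2, nat_lit 0, nat_lit 2])) (.leaf ((nat_lit 1259), [nat_lit 5, nat_lit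 2, nat_lit 2, nat_lit 0, nat_lit 5, nat_lit 4, nat_lit 1, nat_lit 0, nat_lit 2, nat_lit 3, nat_lit 0, nat_lit 2, nat_lit 0, nat_lit 2, nat_lit 2, nat_lit 0, nat_lit 2, nat_lit 0])))) (.node (nat_lit 2121) (.leaf ((nat_lit 487), [nat_lit 0, nat_lit 5, nat_lit 3, nat_lit 0, nat_lit 5, nat_lit 3, nat_lit 0, nat_lit 1, nat_lit 3, nat_lit 4, nat_lit 2, nat_lit 3, nat_lit 0, nat_lit 1, nat_lit 0, nat_lit 1, nat_lit 0])) (.node (nat_lit 2122) (.leaf ((nat_lit 1035), [nat_lit 0, nat_lit 4, nat_lit 5, nat_lit 1, nat_lit 3, nat_lit 2, nat_lit 2, nat_lit 3, nat_lit 2, nat_lit 0, nat_lit 1, nat_lit 0, nat_lit 2])) (.leaf ((nat_lit 1145), [nat_lit 0, nat_lit 2, nat_lit 4, nat_lit 0, nat_lit 5, nat_lit 2, nat_lit 4, nat_lit 1, nat_lit 4, nat_lit 1, nat_lit 3, nat_lit 0, nat_lit 2, nat_lit 2, nat_lit 0, nat_lit 1]))))))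
 (.node (nat_lit 2128) (.node (nat_lit 2125) (.node (nat_lit 2124) (.leaf ((nat_lit 1219), [nat_lit 3, nat_lit 2, nat_lit 5, nat_lit 0, nat_lit 5, nat_lit 4, nat_lit 3, nat_lit 1, nat_lit 4, nat_lit 1, nat_lit 3, nat_lit 0, nat_lit 2, nat_lit 2, nat_lit 0, nat_lit 1, nat_lit 0, nat_lit 2, nat_lit 0])) (.leaf ((nat_lit 174), [nat_lit 3, nat_lit 0, nat_lit 5, nat_lit 3, nat_lit 5, nat_lit 3, nat_lit 2, nat_lit 3, nat_lit 0, nat_lit 3, nat_lit 2, nat_lit 0, nat_lit 1]))) (.node (nat_lit 2126) (.leaf ((nat_lit 1253), [nat_lit 4, nat_lit 5, nat_lit 4, nat_lit 0, nat_lit 5, nat_lit 0, nat_lit 2, nat_lit 0, nat_lit 2, nat_lit 4, nat_lit 1, nat_lit 0, nat_lit 2])) (.node (nat_lit 2127) (.leaf ((nat_lit 1006), [nat_lit 2, nat_lit 5, nat_lit 0, nat_lit 1, nat_lit 5, nat_lit 0, nat_lit 4, nat_lit 1, nat_lit 0])) (.leaf ((nat_lit 979), [nat_lit 1, nat_lit 3,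 nat_lit 0, nat_lit 5, nat_lit 1, nat_lit 3, nat_lit 1, nat_lit 3, nat_lit 1, nat_lit 0, nat_lit 2, nat_lit 0, nat_lit 2, nat_lit 2])))))
 (.node (nat_lit 2131) (.node (nat_lit 2129) (.leaf ((nat_lit 337), [nat_lit 2, nat_lit 4, nat_lit 2, nat_lit 0, nat_lit 5, nat_lit 0, nat_lit 3, nat_lit 2, nat_lit 0, nat_lit 3, nat_lit 1, nat_lit 0, nat_lit 2])) (.node (nat_lit 2130) (.leaf ((nat_lit 1002), [nat_lit 3, nat_lit 5, nat_lit 1, nat_lit 3, nat_lit 0, nat_lit 5, nat_lit 4, nat_lit 1, nat_lit 3, nat_lit 2, nat_lit 2, nat_lit 3, nat_lit 0, nat_lit 1, nat_lit 0, nat_lit 1, nat_lit 0, nat_lit 2])) (.leaf ((nat_lit 1335), [nat_lit 3, nat_lit 2, nat_lit 3, nat_lit 5, nat_lit 2, nat_lit 3, nat_lit 2, nat_lit 2, nat_lit 3, nat_lit 0, nat_lit 1])))) (.node (nat_lit 2132) (.leaf ((nat_lit 440), [nat_lit 5, nat_lit 1, nat_lit 3, nat_lit 2, nat_lit 5, nat_lit 4,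 nat_lit 2, nat_lit 3, nat_lit 4, nat_lit 1, nat_lit 0, nat_lit 2, nat_lit 2])) (.node (nat_lit 2133) (.leaf ((nat_lit 20), [nat_lit 4, nat_lit 5, nat_lit 3, nat_lit 0, nat_lit 5, nat_lit 4, nat_lit 2, nat_lit 3, nat_lit 2, nat_lit 2, nat_lit 3, nat_lit 2, nat_lit 2, nat_lit 0, nat_lit 2, nat_lit 2, nat_lit 0, nat_lit 2, nat_lit 0])) (.leaf ((nat_lit 872), [nat_lit 1, nat_lit 5, nat_lit 2, nat_lit 5, nat_lit 0, nat_lit 4, nat_lit 3, nat_lit 0, nat_lit 4, nat_lit 0, nat_lit 2, nat_lit 0, nat_lit 1, nat_lit 0])))))))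
 (.node (nat_lit 2145) (.node (nat_lit 2139) (.node (nat_lit 2136) (.node (nat_lit 2135) (.leaf ((nat_lit 1336), [nat_lit 4, nat_lit 5, nat_lit 4, nat_lit 0, nat_lit 5, nat_lit 4, nat_lit 1, nat_lit 0, nat_lit 2, nat_lit 0, nat_lit 2])) (.leaf ((nat_lit 449), [nat_lit 3, nat_lit 5, nat_lit 2, nat_lit 5, nat_lit 1, nat_lit 3, nat_lit 0, nat_lit 1, nat_lit 4, nat_lit 2, nat_lit 0, nat_lit 1, nat_lit 0, nat_lit 1, nat_lit 0, nat_lit 2, nat_lit 0]))) (.node (nat_lit 2137) (.leaf ((nat_lit 1067), [nat_lit 5, nat_lit 4, nat_lit 2, nat_lit 5, nat_lit 2, nat_lit 3, nat_lit 1, nat_lit 3, nat_lit 4, nat_lit 1, nat_lit 0, nat_lit 2, nat_lit 2, nat_lit 0, nat_lit 2, nat_lit 2])) (.node (nat_lit 2138) (.leaf ((nat_lit 1337), [nat_lit 1, nat_lit 0, nat_lit 5, nat_lit 3, nat_lit 5, nat_lit 0, nat_lit 2, nat_lit 0, nat_lit 2, nat_lit 3, nat_lit 1, nat_lit 0, nat_lit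 2, nat_lit 0])) (.leaf ((nat_lit 1287), [nat_lit 0, nat_lit 5, nat_lit 0, nat_lit 1, nat_lit 5, nat_lit 3, nat_lit 4, nat_lit 0, nat_lit 1, nat_lit 0, nat_lit 2, nat_lit 2])))))
 (.node (nat_lit 2142) (.node (nat_lit 2140) (.leaf ((nat_lit 743), [nat_lit 5, nat_lit 1, nat_lit 5, nat_lit 0, nat_lit 5, nat_lit 1, nat_lit 4, nat_lit 0, nat_lit 4, nat_lit 3, nat_lit 2, nat_lit 0, nat_lit 1])) (.node (nat_lit 2141) (.leaf ((nat_lit 108), [nat_lit 0, nat_lit 3, nat_lit 5, nat_lit 3, nat_lit 2, nat_lit 2, nat_lit 4, nat_lit 3, nat_lit 2, nat_lit 0, nat_lit 1, nat_lit 0, nat_lit 2, nat_lit 0])) (.leaf ((nat_lit 1305), [nat_lit 2, nat_lit 5, nat_lit 3, nat_lit 4, nat_lit 3, nat_lit 1, nat_lit 0, nat_lit 2, nat_lit 2, nat_lit 0, nat_lit 2])))) (.node (nat_lit 2143) (.leaf ((nat_lit 856), [nat_lit 0, nat_lit 1, nat_lit 5, nat_lit 2, nat_lit 4, nat_lit 0, nat_lit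 1, nat_lit 4, nat_lit 0, nat_lit 2, nat_lit 0, nat_lit 2, nat_lit 2, nat_lit 0, nat_lit 2])) (.node (nat_lit 2144) (.leaf ((nat_lit 1063), [nat_lit 3, nat_lit 4, nat_lit 5, nat_lit 4, nat_lit 2, nat_lit 4, nat_lit 1, nat_lit 0, nat_lit 3, nat_lit 2, nat_lit 0, nat_lit 2, nat_lit 2, nat_lit 0, nat_lit 2, nat_lit 2, nat_lit 0])) (.leaf ((nat_lit 852), [nat_lit 5, nat_lit 1, nat_lit 0, nat_lit 2, nat_lit 5, nat_lit 0, nat_lit 1, nat_lit 3, nat_lit 1, nat_lit 3, nat_lit 1, nat_lit 0, nat_lit 1, nat_lit 0, nat_lit 2]))))))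
 (.node (nat_lit 2150) (.node (nat_lit 2147) (.node (nat_lit 2146) (.leaf ((nat_lit 1205), [nat_lit 0, nat_lit 4, nat_lit 5, nat_lit 4, nat_lit 1, nat_lit 0, nat_lit 2, nat_lit 4, nat_lit 1, nat_lit 0, nat_lit 1, nat_lit 0, nat_lit 2, nat_lit 0])) (.leaf ((nat_lit 1182), [nat_lit 5, nat_lit 0, nat_lit 3, nat_lit 5, nat_lit 0, nat_lit 3, nat_lit 4, nat_lit 2, nat_lit 0]))) (.node (nat_lit 2148) (.leaf ((nat_lit 733), [nat_lit 2, nat_lit 5, nat_lit 2, nat_lit 3, nat_lit 5, nat_lit 2, nat_lit 4, nat_lit 2, nat_lit 3, nat_lit 2, nat_lit 3, nat_lit 1, nat_lit 0, nat_lit 2, nat_lit 2, nat_lit 0])) (.node (nat_lit 2149) (.leaf ((nat_lit 339), [nat_lit 5, nat_lit 1, nat_lit 5, nat_lit 0, nat_lit 5, nat_lit 1, nat_lit 4, nat_lit 1, nat_lit 3, nat_lit 2, nat_lit 2, nat_lit 0, nat_lit 2, nat_lit 0, nat_lit 1])) (.leaf ((nat_lit 29), [nat_lit 5, nat_lit 4, nat_lit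 5, nat_lit 1, nat_lit 5, nat_lit 2, nat_lit 2, nat_lit 3, nat_lit 2, nat_lit 2, nat_lit 3, nat_lit 1, nat_lit 0, nat_lit 2, nat_lit 2, nat_lit 0, nat_lit 1])))))
 (.node (nat_lit 2153) (.node (nat_lit 2151) (.leaf ((nat_lit 1251), [nat_lit 2, nat_lit 5, nat_lit 4, nat_lit 5, nat_lit 2, nat_lit 4, nat_lit 0, nat_lit 3, nat_lit 2, nat_lit 3, nat_lit 0, nat_lit 2, nat_lit 0, nat_lit 1])) (.node (nat_lit 2152) (.leaf ((nat_lit 981), [nat_lit 4, nat_lit 3, nat_lit 2, nat_lit 5, nat_lit 1, nat_lit 4, nat_lit 1, nat_lit 4, nat_lit 2, nat_lit 2, nat_lit 0, nat_lit 1, nat_lit 0, nat_lit 2, nat_lit 2])) (.leaf ((nat_lit 1131), [nat_lit 5, nat_lit 4, nat_lit 1, nat_lit 0, nat_lit 5, nat_lit 1, nat_lit 3, nat_lit 1, nat_lit 3, nat_lit 4, nat_lit 1, nat_lit 0, nat_lit 2, nat_lit 0, nat_lit 2, nat_lit 0])))) (.node (nat_lit 2154) (.leaf ((nat_lit 1338), [nat_lit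 4, nat_lit 2, nat_lit 5, nat_lit 1, nat_lit 5, nat_lit 4, nat_lit 3, nat_lit 2, nat_lit 2, nat_lit 0, nat_lit 1])) (.node (nat_lit 2155) (.leaf ((nat_lit 1121), [nat_lit 0, nat_lit 3, nat_lit 5, nat_lit 0, nat_lit 1, nat_lit 4, nat_lit 3, nat_lit 2, nat_lit 0, nat_lit 2, nat_lit 2, nat_lit 0, nat_lit 1, nat_lit 0])) (.leaf ((nat_lit 880), [nat_lit 5, nat_lit 1, nat_lit 0, nat_lit 2, nat_lit 5, nat_lit 3, nat_lit 1, nat_lit 3, nat_lit 0, nat_lit 2, nat_lit 4, nat_lit 2, nat_lit 2]))))))))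
 (.node (nat_lit 2178) (.node (nat_lit 2167) (.node (nat_lit 2161) (.node (nat_lit 2158) (.node (nat_lit 2157) (.leaf ((nat_lit 1339), [nat_lit 2, nat_lit 3, nat_lit 0, nat_lit 5, nat_lit 0, nat_lit 2, nat_lit 0, nat_lit 2, nat_lit 4, nat_lit 0, nat_lit 1, nat_lit 0, nat_lit 2, nat_lit 2, nat_lit 0, nat_lit 1, nat_lit 0])) (.leaf ((nat_lit 1095), [nat_lit 1, nat_lit 5, nat_lit 1, nat_lit 5, nat_lit 0, nat_lit 2, nat_lit 2, nat_lit 3, nat_lit 0, nat_lit 1, nat_lit 0, nat_lit 1, nat_lit 0, nat_lit 2, nat_lit 0]))) (.node (nat_lit 2159) (.leaf ((nat_lit 753), [nat_lit 1, nat_lit 5, nat_lit 3, nat_lit 5, nat_lit 0, nat_lit 4, nat_lit 1, nat_lit 3, nat_lit 0, nat_lit 1, nat_lit 0, nat_lit 2, nat_lit 2, nat_lit 0])) (.node (nat_lit 2160) (.leaf ((nat_lit 1080), [nat_lit 1, nat_lit 3, nat_lit 2, nat_lit 5, nat_lit 3, nat_lit 2, nat_lit 0, nat_lit 4, nat_lit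 2, nat_lit 2, nat_lit 0])) (.leaf ((nat_lit 1221), [nat_lit 5, nat_lit 4, nat_lit 3, nat_lit 5, nat_lit 2, nat_lit 5, nat_lit 3, nat_lit 0, nat_lit 4, nat_lit 1, nat_lit 4, nat_lit 0, nat_lit 2, nat_lit 0, nat_lit 1, nat_lit 0])))))
 (.node (nat_lit 2164) (.node (nat_lit 2162) (.leaf ((nat_lit 1069), [nat_lit 1, nat_lit 0, nat_lit 5, nat_lit 1, nat_lit 3, nat_lit 0, nat_lit 3, nat_lit 0, nat_lit 1, nat_lit 0, nat_lit 2, nat_lit 2])) (.node (nat_lit 2163) (.leaf ((nat_lit 1340), [nat_lit 4, nat_lit 5, nat_lit 3, nat_lit 0, nat_lit 5, nat_lit 3, nat_lit 4, nat_lit 1, nat_lit 3, nat_lit 1, nat_lit 3, nat_lit 1, nat_lit 0, nat_lit 1, nat_lit 0, nat_lit 2, nat_lit 0])) (.leaf ((nat_lit 555), [nat_lit 5, nat_lit 0, nat_lit 3, nat_lit 5, nat_lit 3, nat_lit 0, nat_lit 4, nat_lit 1, nat_lit 3, nat_lit 1, nat_lit 0, nat_lit 2, nat_lit 2, nat_lit 0, nat_lit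 1])))) (.node (nat_lit 2165) (.leaf ((nat_lit 1078), [nat_lit 5, nat_lit 4, nat_lit 5, nat_lit 3, nat_lit 5, nat_lit 3, nat_lit 2, nat_lit 0, nat_lit 2, nat_lit 4, nat_lit 1])) (.node (nat_lit 2166) (.leaf ((nat_lit 1278), [nat_lit 5, nat_lit 1, nat_lit 0, nat_lit 3, nat_lit 5, nat_lit 3, nat_lit 2, nat_lit 4, nat_lit 2, nat_lit 3, nat_lit 4, nat_lit 0])) (.leaf ((nat_lit 401), [nat_lit 2, nat_lit 5, nat_lit 3, nat_lit 2, nat_lit 4, nat_lit 2, nat_lit 4, nat_lit 0, nat_lit 2, nat_lit 0, nat_lit 1, nat_lit 0, nat_lit 1, nat_lit 0]))))))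
 (.node (nat_lit 2172) (.node (nat_lit 2169) (.node (nat_lit 2168) (.leaf ((nat_lit 863), [nat_lit 3, nat_lit 2, nat_lit 3, nat_lit 5, nat_lit 1, nat_lit 3, nat_lit 1, nat_lit 0, nat_lit 4, nat_lit 2, nat_lit 0, nat_lit 2, nat_lit 0, nat_lit 1, nat_lit 0, nat_lit 1, nat_lit 0])) (.leaf ((nat_lit 1341), [nat_lit 0, nat_lit 5, nat_lit 2, nat_lit 3, nat_lit 5, nat_lit 0, nat_lit 3, nat_lit 4, nat_lit 0, nat_lit 3, nat_lit 2, nat_lit 2, nat_lit 0, nat_lit 2, nat_lit 2, nat_lit 0, nat_lit 2, nat_lit 2]))) (.node (nat_lit 2170) (.leaf ((nat_lit 601), [nat_lit 0, nat_lit 4, nat_lit 2, nat_lit 0, nat_lit 5, nat_lit 4, nat_lit 1, nat_lit 3, nat_lit 0, nat_lit 2, nat_lit 0, nat_lit 1, nat_lit 0, nat_lit 1])) (.node (nat_lit 2171) (.leaf ((nat_lit 1342), [nat_lit 0, nat_lit 5, nat_lit 3, nat_lit 0, nat_lit 5, nat_lit 4, nat_lit 3, nat_lit 2, nat_lit 2, nat_lit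 3, nat_lit 2, nat_lit 0, nat_lit 2, nat_lit 0, nat_lit 1])) (.leaf ((nat_lit 936), [nat_lit 1, nat_lit 5, nat_lit 0, nat_lit 2, nat_lit 3, nat_lit 4, nat_lit 1, nat_lit 3, nat_lit 0, nat_lit 1, nat_lit 0, nat_lit 1, nat_lit 0, nat_lit 2, nat_lit 0])))))
 (.node (nat_lit 2175) (.node (nat_lit 2173) (.leaf ((nat_lit 146), [nat_lit 5, nat_lit 2, nat_lit 2, nat_lit 0, nat_lit 5, nat_lit 3, nat_lit 0, nat_lit 1, nat_lit 3, nat_lit 4, nat_lit 2, nat_lit 3, nat_lit 1])) (.node (nat_lit 2174) (.leaf ((nat_lit 766), [nat_lit 5, nat_lit 2, nat_lit 5, nat_lit 4, nat_lit 2, nat_lit 2, nat_lit 4, nat_lit 3])) (.leaf ((nat_lit 1343), [nat_lit 4, nat_lit 1, nat_lit 5, nat_lit 3, nat_lit 5, nat_lit 4, nat_lit 1, nat_lit 3, nat_lit 1, nat_lit 3, nat_lit 2, nat_lit 0, nat_lit 1, nat_lit 0, nat_lit 1, nat_lit 0])))) (.node (nat_lit 2176) (.leaf ((nat_lit 1344), [nat_lit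 5, nat_lit 2, nat_lit 3, nat_lit 0, nat_lit 5, nat_lit 4, nat_lit 1, nat_lit 3, nat_lit 0, nat_lit 3, nat_lit 0, nat_lit 1])) (.node (nat_lit 2177) (.leaf ((nat_lit 343), [nat_lit 3, nat_lit 4, nat_lit 3, nat_lit 5, nat_lit 3, nat_lit 0, nat_lit 4, nat_lit 0, nat_lit 4, nat_lit 2])) (.leaf ((nat_lit 314), [nat_lit 5, nat_lit 2, nat_lit 4, nat_lit 0, nat_lit 5, nat_lit 3, nat_lit 0, nat_lit 4, nat_lit 1, nat_lit 4, nat_lit 2, nat_lit 0, nat_lit 1, nat_lit 0, nat_lit 2])))))))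
 (.node (nat_lit 2189) (.node (nat_lit 2183) (.node (nat_lit 2180) (.node (nat_lit 2179) (.leaf ((nat_lit 1150), [nat_lit 2, nat_lit 2, nat_lit 5, nat_lit 4, nat_lit 1, nat_lit 0, nat_lit 4, nat_lit 3, nat_lit 2, nat_lit 2])) (.leaf ((nat_lit 1345), [nat_lit 4, nat_lit 2, nat_lit 5, nat_lit 1, nat_lit 5, nat_lit 4, nat_lit 1, nat_lit 0, nat_lit 3, nat_lit 2, nat_lit 3, nat_lit 0, nat_lit 2, nat_lit 2, nat_lit 0, nat_lit 1, nat_lit 0, nat_lit 2, nat_lit 0]))) (.node (nat_lit 2181) (.leaf ((nat_lit 1346), [nat_lit 2, nat_lit 3, nat_lit 5, nat_lit 3, nat_lit 2, nat_lit 0, nat_lit 2, nat_lit 4, nat_lit 3, nat_lit 0, nat_lit 1, nat_lit 0, nat_lit 2, nat_lit 0, nat_lit 2, nat_lit 2])) (.node (nat_lit 2182) (.leaf ((nat_lit 1347), [nat_lit 2, nat_lit 3, nat_lit 5, nat_lit 0, nat_lit 5, nat_lit 0, nat_lit 3, nat_lit 1, nat_lit 4, nat_lit 0, nat_lit 2, nat_lit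 0, nat_lit 1, nat_lit 0])) (.leaf ((nat_lit 403), [nat_lit 2, nat_lit 5, nat_lit 3, nat_lit 1, nat_lit 3, nat_lit 1, nat_lit 3, nat_lit 0, nat_lit 2, nat_lit 0])))))
 (.node (nat_lit 2186) (.node (nat_lit 2184) (.leaf ((nat_lit 414), [nat_lit 5, nat_lit 4, nat_lit 5, nat_lit 4, nat_lit 1, nat_lit 4, nat_lit 3, nat_lit 2, nat_lit 0, nat_lit 2, nat_lit 2, nat_lit 0, nat_lit 2])) (.node (nat_lit 2185) (.leaf ((nat_lit 802), [nat_lit 5, nat_lit 4, nat_lit 5, nat_lit 1, nat_lit 5, nat_lit 4, nat_lit 1, nat_lit 0, nat_lit 2, nat_lit 4, nat_lit 0, nat_lit 2, nat_lit 2, nat_lit 0, nat_lit 1, nat_lit 0, nat_lit 2])) (.leaf ((nat_lit 662), [nat_lit 4, nat_lit 2, nat_lit 0, nat_lit 5, nat_lit 1, nat_lit 4, nat_lit 3, nat_lit 0, nat_lit 3, nat_lit 0, nat_lit 2, nat_lit 2, nat_lit 0, nat_lit 2, nat_lit 0, nat_lit 1, nat_lit 0])))) (.node (nat_lit 2187) (.leaf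 ((nat_lit 1178), [nat_lit 1, nat_lit 4, nat_lit 5, nat_lit 1, nat_lit 5, nat_lit 4, nat_lit 3, nat_lit 2, nat_lit 4, nat_lit 3, nat_lit 2, nat_lit 2, nat_lit 0, nat_lit 2])) (.node (nat_lit 2188) (.leaf ((nat_lit 1061), [nat_lit 5, nat_lit 1, nat_lit 0, nat_lit 2, nat_lit 5, nat_lit 3, nat_lit 1, nat_lit 4, nat_lit 3, nat_lit 2, nat_lit 0, nat_lit 3, nat_lit 2, nat_lit 0, nat_lit 2, nat_lit 2, nat_lit 0, nat_lit 2, nat_lit 2])) (.leaf ((nat_lit 1348), [nat_lit 2, nat_lit 5, nat_lit 4, nat_lit 5, nat_lit 2, nat_lit 3, nat_lit 4, nat_lit 3, nat_lit 2, nat_lit 3, nat_lit 0, nat_lit 1, nat_lit 0, nat_lit 2, nat_lit 2, nat_lit 0, nat_lit 1]))))))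
 (.node (nat_lit 2194) (.node (nat_lit 2191) (.node (nat_lit 2190) (.leaf ((nat_lit 428), [nat_lit 4, nat_lit 3, nat_lit 5, nat_lit 2, nat_lit 5, nat_lit 1, nat_lit 4, nat_lit 3, nat_lit 0, nat_lit 3, nat_lit 2, nat_lit 2, nat_lit 0, nat_lit 2, nat_lit 2, nat_lit 0, nat_lit 1, nat_lit 0])) (.leaf ((nat_lit 1210), [nat_lit 5, nat_lit 1, nat_lit 5, nat_lit 0, nat_lit 5, nat_lit 0, nat_lit 2, nat_lit 2, nat_lit 3, nat_lit 2, nat_lit 4, nat_lit 2, nat_lit 0, nat_lit 2, nat_lit 2, nat_lit 0, nat_lit 1]))) (.node (nat_lit 2192) (.leaf ((nat_lit 1198), [nat_lit 5, nat_lit 4, nat_lit 3, nat_lit 0, nat_lit 5, nat_lit 4, nat_lit 0, nat_lit 2, nat_lit 2, nat_lit 3, nat_lit 0, nat_lit 2, nat_lit 2, nat_lit 0, nat_lit 2, nat_lit 0, nat_lit 1])) (.node (nat_lit 2193) (.leaf ((nat_lit 128), [nat_lit 2, nat_lit 5, nat_lit 0, nat_lit 1, nat_lit 5, nat_lit 3, nat_lit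 2, nat_lit 2, nat_lit 0, nat_lit 2, nat_lit 2, nat_lit 0])) (.leaf ((nat_lit 934), [nat_lit 5, nat_lit 4, nat_lit 5, nat_lit 3, nat_lit 5, nat_lit 3, nat_lit 0, nat_lit 3, nat_lit 0, nat_lit 2, nat_lit 3, nat_lit 2, nat_lit 0, nat_lit 1, nat_lit 0, nat_lit 2, nat_lit 2])))))
 (.node (nat_lit 2197) (.node (nat_lit 2195) (.leaf ((nat_lit 197), [nat_lit 5, nat_lit 4, nat_lit 1, nat_lit 0, nat_lit 5, nat_lit 1, nat_lit 3, nat_lit 4, nat_lit 0, nat_lit 2, nat_lit 4, nat_lit 1, nat_lit 0, nat_lit 1, nat_lit 0, nat_lit 2, nat_lit 2])) (.node (nat_lit 2196) (.leaf ((nat_lit 1045), [nat_lit 3, nat_lit 5, nat_lit 1, nat_lit 3, nat_lit 2, nat_lit 5, nat_lit 4, nat_lit 3, nat_lit 1, nat_lit 0, nat_lit 2, nat_lit 3, nat_lit 2, nat_lit 0])) (.leaf ((nat_lit 1349), [nat_lit 5, nat_lit 1, nat_lit 3, nat_lit 2, nat_lit 5, nat_lit 1, nat_lit 3, nat_lit 0, nat_lit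 4, nat_lit 2, nat_lit 0, nat_lit 1, nat_lit 0, nat_lit 1])))) (.node (nat_lit 2198) (.leaf ((nat_lit 830), [nat_lit 1, nat_lit 5, nat_lit 3, nat_lit 5, nat_lit 0, nat_lit 4, nat_lit 2, nat_lit 3, nat_lit 4, nat_lit 2, nat_lit 2, nat_lit 0, nat_lit 2])) (.node (nat_lit 2199) (.leaf ((nat_lit 1301), [nat_lit 2, nat_lit 5, nat_lit 0, nat_lit 5, nat_lit 2, nat_lit 0, nat_lit 2, nat_lit 2, nat_lit 3, nat_lit 2, nat_lit 0, nat_lit 2])) (.leaf ((nat_lit 1336), [nat_lit 5, nat_lit 1, nat_lit 5, nat_lit 0, nat_lit 5, nat_lit 3, nat_lit 0, nat_lit 4, nat_lit 0, nat_lit 4, nat_lit 2, nat_lit 2, nat_lit 0, nat_lit 1, nat_lit 0, nat_lit 2])))))))))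
 (.node (nat_lit 2244) (.node (nat_lit 2222) (.node (nat_lit 2211) (.node (nat_lit 2205) (.node (nat_lit 2202) (.node (nat_lit 2201) (.leaf ((nat_lit 1350), [nat_lit 4, nat_lit 5, nat_lit 2, nat_lit 3, nat_lit 5, nat_lit 3, nat_lit 0, nat_lit 3, nat_lit 1, nat_lit 0, nat_lit 2, nat_lit 2, nat_lit 0, nat_lit 1])) (.leaf ((nat_lit 696), [nat_lit 4, nat_lit 5, nat_lit 4, nat_lit 0, nat_lit 5, nat_lit 3, nat_lit 2, nat_lit 0, nat_lit 2, nat_lit 3, nat_lit 0, nat_lit 2, nat_lit 2, nat_lit 0, nat_lit 2]))) (.node (nat_lit 2203) (.leaf ((nat_lit 1204), [nat_lit 4, nat_lit 1, nat_lit 5, nat_lit 2, nat_lit 5, nat_lit 4, nat_lit 1, nat_lit 0, nat_lit 4, nat_lit 3, nat_lit 0, nat_lit 2, nat_lit 2, nat_lit 0, nat_lit 1, nat_lit 0, nat_lit 2])) (.node (nat_lit 2204) (.leaf ((nat_lit 783), [nat_lit 5, nat_lit 2, nat_lit 0, nat_lit 2, nat_lit 5, nat_lit 4, nat_lit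 3, nat_lit 1, nat_lit 4, nat_lit 3, nat_lit 1, nat_lit 0, nat_lit 2, nat_lit 2, nat_lit 0, nat_lit 2])) (.leaf ((nat_lit 1096), [nat_lit 0, nat_lit 4, nat_lit 5, nat_lit 2, nat_lit 0, nat_lit 3, nat_lit 1, nat_lit 4, nat_lit 2, nat_lit 0, nat_lit 2, nat_lit 0, nat_lit 1, nat_lit 0])))))
 (.node (nat_lit 2208) (.node (nat_lit 2206) (.leaf ((nat_lit 1351), [nat_lit 5, nat_lit 0, nat_lit 1, nat_lit 5, nat_lit 2, nat_lit 0, nat_lit 3, nat_lit 2, nat_lit 3, nat_lit 0, nat_lit 2, nat_lit 0, nat_lit 1, nat_lit 0, nat_lit 1, nat_lit 0])) (.node (nat_lit 2207) (.leaf ((nat_lit 1166), [nat_lit 4, nat_lit 5, nat_lit 4, nat_lit 2, nat_lit 3, nat_lit 4, nat_lit 2, nat_lit 3, nat_lit 0])) (.leaf ((nat_lit 1352), [nat_lit 0, nat_lit 5, nat_lit 3, nat_lit 5, nat_lit 4, nat_lit 1, nat_lit 3, nat_lit 2, nat_lit 4, nat_lit 2, nat_lit 0, nat_lit 1, nat_lit 0, nat_lit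 1, nat_lit 0, nat_lit 2])))) (.node (nat_lit 2209) (.leaf ((nat_lit 1353), [nat_lit 1, nat_lit 3, nat_lit 0, nat_lit 5, nat_lit 3, nat_lit 2, nat_lit 4, nat_lit 2, nat_lit 3, nat_lit 1, nat_lit 0, nat_lit 1, nat_lit 0, nat_lit 2])) (.node (nat_lit 2210) (.leaf ((nat_lit 1220), [nat_lit 0, nat_lit 5, nat_lit 4, nat_lit 0, nat_lit 3, nat_lit 4, nat_lit 3, nat_lit 0, nat_lit 2, nat_lit 0, nat_lit 2, nat_lit 2, nat_lit 0, nat_lit 1])) (.leaf ((nat_lit 1230), [nat_lit 5, nat_lit 0, nat_lit 3, nat_lit 5, nat_lit 2, nat_lit 4, nat_lit 1, nat_lit 4, nat_lit 1, nat_lit 3, nat_lit 2, nat_lit 2, nat_lit 0, nat_lit 2, nat_lit 2, nat_lit 0, nat_lit 2, nat_lit 0]))))))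
 (.node (nat_lit 2216) (.node (nat_lit 2213) (.node (nat_lit 2212) (.leaf ((nat_lit 453), [nat_lit 0, nat_lit 5, nat_lit 2, nat_lit 3, nat_lit 5, nat_lit 3, nat_lit 0, nat_lit 3, nat_lit 2, nat_lit 4, nat_lit 0, nat_lit 1, nat_lit 0, nat_lit 2, nat_lit 2, nat_lit 0])) (.leaf ((nat_lit 1354), [nat_lit 0, nat_lit 2, nat_lit 5, nat_lit 1, nat_lit 4, nat_lit 2, nat_lit 4, nat_lit 3, nat_lit 0, nat_lit 2, nat_lit 2, nat_lit 0, nat_lit 1, nat_lit 0, nat_lit 2]))) (.node (nat_lit 2214) (.leaf ((nat_lit 1308), [nat_lit 3, nat_lit 4, nat_lit 5, nat_lit 4, nat_lit 0, nat_lit 4, nat_lit 2, nat_lit 0, nat_lit 3, nat_lit 2, nat_lit 0, nat_lit 2, nat_lit 0, nat_lit 1])) (.node (nat_lit 2215) (.leaf ((nat_lit 642), [nat_lit 5, nat_lit 2, nat_lit 0, nat_lit 2, nat_lit 5, nat_lit 3, nat_lit 2, nat_lit 3, nat_lit 0, nat_lit 3, nat_lit 1, nat_lit 0, nat_lit 2, nat_lit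 0, nat_lit 1, nat_lit 0])) (.leaf ((nat_lit 1355), [nat_lit 3, nat_lit 5, nat_lit 0, nat_lit 3, nat_lit 5, nat_lit 3, nat_lit 4, nat_lit 2, nat_lit 4, nat_lit 0, nat_lit 2, nat_lit 2, nat_lit 0])))))
 (.node (nat_lit 2219) (.node (nat_lit 2217) (.leaf ((nat_lit 1356), [nat_lit 5, nat_lit 1, nat_lit 3, nat_lit 2, nat_lit 5, nat_lit 0, nat_lit 3, nat_lit 4, nat_lit 3, nat_lit 1, nat_lit 0, nat_lit 2, nat_lit 0])) (.node (nat_lit 2218) (.leaf ((nat_lit 1314), [nat_lit 3, nat_lit 5, nat_lit 1, nat_lit 3, nat_lit 0, nat_lit 5, nat_lit 4, nat_lit 1, nat_lit 0, nat_lit 2, nat_lit 4, nat_lit 1, nat_lit 0, nat_lit 2, nat_lit 2, nat_lit 0, nat_lit 2, nat_lit 0])) (.leaf ((nat_lit 526), [nat_lit 2, nat_lit 0, nat_lit 5, nat_lit 3, nat_lit 0, nat_lit 4, nat_lit 0, nat_lit 4, nat_lit 2, nat_lit 2, nat_lit 0, nat_lit 2, nat_lit 2, nat_lit 0, nat_lit 1, nat_lit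 0])))) (.node (nat_lit 2220) (.leaf ((nat_lit 1346), [nat_lit 2, nat_lit 3, nat_lit 5, nat_lit 0, nat_lit 5, nat_lit 4, nat_lit 2, nat_lit 0, nat_lit 4, nat_lit 2, nat_lit 0, nat_lit 2, nat_lit 2, nat_lit 0, nat_lit 2, nat_lit 2])) (.node (nat_lit 2221) (.leaf ((nat_lit 1015), [nat_lit 5, nat_lit 4, nat_lit 1, nat_lit 0, nat_lit 5, nat_lit 1, nat_lit 4, nat_lit 3, nat_lit 2, nat_lit 3, nat_lit 2, nat_lit 0, nat_lit 1, nat_lit 0, nat_lit 1, nat_lit 0, nat_lit 2])) (.leaf ((nat_lit 1171), [nat_lit 2, nat_lit 5, nat_lit 3, nat_lit 5, nat_lit 3, nat_lit 1, nat_lit 0, nat_lit 2, nat_lit 3, nat_lit 0, nat_lit 2, nat_lit 0, nat_lit 2, nat_lit 2])))))))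
 (.node (nat_lit 2233) (.node (nat_lit 2227) (.node (nat_lit 2224) (.node (nat_lit 2223) (.leaf ((nat_lit 214), [nat_lit 5, nat_lit 2, nat_lit 0, nat_lit 5, nat_lit 0, nat_lit 4, nat_lit 2, nat_lit 0, nat_lit 4, nat_lit 2, nat_lit 2, nat_lit 0, nat_lit 1, nat_lit 0, nat_lit 2, nat_lit 0])) (.leaf ((nat_lit 1053), [nat_lit 5, nat_lit 2, nat_lit 3, nat_lit 0, nat_lit 5, nat_lit 1, nat_lit 3, nat_lit 4, nat_lit 1, nat_lit 3, nat_lit 0, nat_lit 1, nat_lit 0, nat_lit 1, nat_lit 0, nat_lit 2, nat_lit 0]))) (.node (nat_lit 2225) (.leaf ((nat_lit 681), [nat_lit 3, nat_lit 4, nat_lit 5, nat_lit 2, nat_lit 5, nat_lit 4, nat_lit 3, nat_lit 0, nat_lit 2, nat_lit 3, nat_lit 0])) (.node (nat_lit 2226) (.leaf ((nat_lit 664), [nat_lit 1, nat_lit 4, nat_lit 2, nat_lit 5, nat_lit 0, nat_lit 1, nat_lit 0, nat_lit 3, nat_lit 2, nat_lit 3, nat_lit 2, nat_lit 0, nat_lit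 1, nat_lit 0, nat_lit 2, nat_lit 0])) (.leaf ((nat_lit 1258), [nat_lit 2, nat_lit 2, nat_lit 5, nat_lit 3, nat_lit 1, nat_lit 3, nat_lit 0, nat_lit 2, nat_lit 4, nat_lit 2, nat_lit 0, nat_lit 1, nat_lit 0, nat_lit 2])))))
 (.node (nat_lit 2230) (.node (nat_lit 2228) (.leaf ((nat_lit 756), [nat_lit 0, nat_lit 2, nat_lit 4, nat_lit 0, nat_lit 5, nat_lit 3, nat_lit 2, nat_lit 4, nat_lit 2, nat_lit 3, nat_lit 0, nat_lit 1, nat_lit 0, nat_lit 1, nat_lit 0, nat_lit 2])) (.node (nat_lit 2229) (.leaf ((nat_lit 1357), [nat_lit 0, nat_lit 5, nat_lit 2, nat_lit 3, nat_lit 5, nat_lit 2, nat_lit 4, nat_lit 2, nat_lit 4, nat_lit 3, nat_lit 2, nat_lit 2, nat_lit 0, nat_lit 2, nat_lit 0, nat_lit 1])) (.leaf ((nat_lit 845), [nat_lit 2, nat_lit 3, nat_lit 0, nat_lit 5, nat_lit 4, nat_lit 2, nat_lit 4, nat_lit 3, nat_lit 0, nat_lit 2, nat_lit 2, nat_lit 0, nat_lit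 1])))) (.node (nat_lit 2231) (.leaf ((nat_lit 772), [nat_lit 3, nat_lit 5, nat_lit 2, nat_lit 3, nat_lit 0, nat_lit 5, nat_lit 0, nat_lit 4, nat_lit 1, nat_lit 4, nat_lit 2, nat_lit 0, nat_lit 2, nat_lit 0, nat_lit 1, nat_lit 0, nat_lit 1])) (.node (nat_lit 2232) (.leaf ((nat_lit 649), [nat_lit 0, nat_lit 4, nat_lit 5, nat_lit 0, nat_lit 4, nat_lit 1, nat_lit 0, nat_lit 4, nat_lit 2, nat_lit 0, nat_lit 2, nat_lit 0, nat_lit 1, nat_lit 0])) (.leaf ((nat_lit 1039), [nat_lit 4, nat_lit 5, nat_lit 3, nat_lit 5, nat_lit 1, nat_lit 4, nat_lit 3, nat_lit 1, nat_lit 0, nat_lit 4, nat_lit 0, nat_lit 2, nat_lit 0, nat_lit 1, nat_lit 0]))))))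
 (.node (nat_lit 2238) (.node (nat_lit 2235) (.node (nat_lit 2234) (.leaf ((nat_lit 1340), [nat_lit 5, nat_lit 1, nat_lit 3, nat_lit 0, nat_lit 5, nat_lit 2, nat_lit 0, nat_lit 2, nat_lit 2, nat_lit 3, nat_lit 2, nat_lit 0, nat_lit 1, nat_lit 0, nat_lit 2, nat_lit 2])) (.leaf ((nat_lit 1022), [nat_lit 5, nat_lit 2, nat_lit 5, nat_lit 2, nat_lit 0, nat_lit 2, nat_lit 3, nat_lit 0, nat_lit 1]))) (.node (nat_lit 2236) (.leaf ((nat_lit 1115), [nat_lit 3, nat_lit 5, nat_lit 0, nat_lit 3, nat_lit 5, nat_lit 0, nat_lit 4, nat_lit 0, nat_lit 1, nat_lit 0, nat_lit 3, nat_lit 0, nat_lit 1])) (.node (nat_lit 2237) (.leaf ((nat_lit 533), [nat_lit 4, nat_lit 5, nat_lit 3, nat_lit 2, nat_lit 5, nat_lit 2, nat_lit 2, nat_lit 3, nat_lit 2, nat_lit 2, nat_lit 3, nat_lit 1, nat_lit 0, nat_lit 1, nat_lit 0, nat_lit 2])) (.leaf ((nat_lit 1162), [nat_lit 2, nat_lit 5,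 nat_lit 2, nat_lit 3, nat_lit 5, nat_lit 3, nat_lit 2, nat_lit 0, nat_lit 2, nat_lit 2, nat_lit 3, nat_lit 1, nat_lit 0, nat_lit 2, nat_lit 2, nat_lit 0, nat_lit 2, nat_lit 2])))))
 (.node (nat_lit 2241) (.node (nat_lit 2239) (.leaf ((nat_lit 1026), [nat_lit 1, nat_lit 5, nat_lit 1, nat_lit 5, nat_lit 3, nat_lit 2, nat_lit 4, nat_lit 3, nat_lit 2, nat_lit 3, nat_lit 0, nat_lit 1, nat_lit 0, nat_lit 2, nat_lit 0, nat_lit 2, nat_lit 0])) (.node (nat_lit 2240) (.leaf ((nat_lit 451), [nat_lit 5, nat_lit 1, nat_lit 3, nat_lit 0, nat_lit 5, nat_lit 1, nat_lit 3, nat_lit 0, nat_lit 4, nat_lit 2, nat_lit 0, nat_lit 2, nat_lit 2, nat_lit 0, nat_lit 2, nat_lit 0])) (.leaf ((nat_lit 150), [nat_lit 2, nat_lit 2, nat_lit 0, nat_lit 5, nat_lit 4, nat_lit 3, nat_lit 0, nat_lit 2, nat_lit 3, nat_lit 2, nat_lit 0, nat_lit 1, nat_lit 0, nat_lit 2])))) (.node (nat_lit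 2242) (.leaf ((nat_lit 320), [nat_lit 3, nat_lit 5, nat_lit 3, nat_lit 0, nat_lit 5, nat_lit 3, nat_lit 2, nat_lit 0, nat_lit 4, nat_lit 1, nat_lit 4, nat_lit 2, nat_lit 0])) (.node (nat_lit 2243) (.leaf ((nat_lit 1358), [nat_lit 5, nat_lit 2, nat_lit 4, nat_lit 0, nat_lit 5, nat_lit 0, nat_lit 4, nat_lit 2, nat_lit 0, nat_lit 3, nat_lit 2, nat_lit 0, nat_lit 1, nat_lit 0, nat_lit 2, nat_lit 0])) (.leaf ((nat_lit 1267), [nat_lit 4, nat_lit 0, nat_lit 5, nat_lit 2, nat_lit 4, nat_lit 3, nat_lit 0, nat_lit 2, nat_lit 3, nat_lit 0, nat_lit 1, nat_lit 0, nat_lit 2, nat_lit 0]))))))))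
 (.node (nat_lit 2266) (.node (nat_lit 2255) (.node (nat_lit 2249) (.node (nat_lit 2246) (.node (nat_lit 2245) (.leaf ((nat_lit 1052), [nat_lit 0, nat_lit 5, nat_lit 2, nat_lit 0, nat_lit 5, nat_lit 3, nat_lit 4, nat_lit 2, nat_lit 0, nat_lit 4, nat_lit 0, nat_lit 1, nat_lit 0, nat_lit 2, nat_lit 0, nat_lit 2])) (.leaf ((nat_lit 1302), [nat_lit 5, nat_lit 4, nat_lit 2, nat_lit 0, nat_lit 5, nat_lit 0, nat_lit 3, nat_lit 1, nat_lit 3, nat_lit 4, nat_lit 0, nat_lit 1, nat_lit 0, nat_lit 1, nat_lit 0, nat_lit 2, nat_lit 0]))) (.node (nat_lit 2247) (.leaf ((nat_lit 721), [nat_lit 5, nat_lit 4, nat_lit 2, nat_lit 5, nat_lit 3, nat_lit 4, nat_lit 0, nat_lit 4, nat_lit 3, nat_lit 0, nat_lit 1, nat_lit 0])) (.node (nat_lit 2248) (.leaf ((nat_lit 1359), [nat_lit 0, nat_lit 1, nat_lit 5, nat_lit 3, nat_lit 0, nat_lit 3, nat_lit 1, nat_lit 4, nat_lit 0, nat_lit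 2, nat_lit 0])) (.leaf ((nat_lit 1327), [nat_lit 3, nat_lit 1, nat_lit 3, nat_lit 0, nat_lit 5, nat_lit 4, nat_lit 1, nat_lit 0, nat_lit 2, nat_lit 4, nat_lit 0, nat_lit 1, nat_lit 0, nat_lit 2, nat_lit 2, nat_lit 0, nat_lit 1, nat_lit 0])))))
 (.node (nat_lit 2252) (.node (nat_lit 2250) (.leaf ((nat_lit 300), [nat_lit 5, nat_lit 1, nat_lit 0, nat_lit 3, nat_lit 5, nat_lit 0, nat_lit 3, nat_lit 0, nat_lit 2, nat_lit 4, nat_lit 3, nat_lit 0, nat_lit 2, nat_lit 0, nat_lit 2, nat_lit 0])) (.node (nat_lit 2251) (.leaf ((nat_lit 1177), [nat_lit 2, nat_lit 5, nat_lit 3, nat_lit 4, nat_lit 2, nat_lit 0, nat_lit 2, nat_lit 3, nat_lit 2, nat_lit 0, nat_lit 1, nat_lit 0, nat_lit 2, nat_lit 2])) (.leaf ((nat_lit 1274), [nat_lit 3, nat_lit 0, nat_lit 5, nat_lit 3, nat_lit 0, nat_lit 1, nat_lit 4, nat_lit 0, nat_lit 2, nat_lit 0, nat_lit 2, nat_lit 0])))) (.node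 (nat_lit 2253) (.leaf ((nat_lit 632), [nat_lit 2, nat_lit 4, nat_lit 2, nat_lit 0, nat_lit 5, nat_lit 2, nat_lit 3, nat_lit 4, nat_lit 3, nat_lit 2, nat_lit 3, nat_lit 0, nat_lit 1, nat_lit 0, nat_lit 1, nat_lit 0, nat_lit 2])) (.node (nat_lit 2254) (.leaf ((nat_lit 985), [nat_lit 0, nat_lit 2, nat_lit 5, nat_lit 3, nat_lit 5, nat_lit 4, nat_lit 2, nat_lit 3, nat_lit 4, nat_lit 2, nat_lit 3, nat_lit 2, nat_lit 2, nat_lit 0, nat_lit 2, nat_lit 0])) (.leaf ((nat_lit 1042), [nat_lit 0, nat_lit 5, nat_lit 0, nat_lit 1, nat_lit 5, nat_lit 4, nat_lit 1, nat_lit 0, nat_lit 3, nat_lit 1, nat_lit 4, nat_lit 2, nat_lit 2, nat_lit 0, nat_lit 2, nat_lit 2]))))))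
 (.node (nat_lit 2260) (.node (nat_lit 2257) (.node (nat_lit 2256) (.leaf ((nat_lit 1097), [nat_lit 3, nat_lit 2, nat_lit 0, nat_lit 5, nat_lit 2, nat_lit 3, nat_lit 0, nat_lit 4, nat_lit 1, nat_lit 0, nat_lit 1, nat_lit 0, nat_lit 2, nat_lit 2])) (.leaf ((nat_lit 578), [nat_lit 5, nat_lit 2, nat_lit 3, nat_lit 0, nat_lit 5, nat_lit 1, nat_lit 4, nat_lit 2, nat_lit 0, nat_lit 2, nat_lit 3, nat_lit 2, nat_lit 0, nat_lit 2, nat_lit 2, nat_lit 0, nat_lit 2, nat_lit 0]))) (.node (nat_lit 2258) (.leaf ((nat_lit 1114), [nat_lit 4, nat_lit 5, nat_lit 2, nat_lit 5, nat_lit 1, nat_lit 0, nat_lit 4, nat_lit 1, nat_lit 3, nat_lit 0, nat_lit 1, nat_lit 0, nat_lit 2, nat_lit 2, nat_lit 0, nat_lit 1])) (.node (nat_lit 2259) (.leaf ((nat_lit 1360), [nat_lit 0, nat_lit 4, nat_lit 2, nat_lit 0, nat_lit 5, nat_lit 3, nat_lit 4, nat_lit 0, nat_lit 2, nat_lit 0, nat_lit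 2, nat_lit 2, nat_lit 0, nat_lit 1])) (.leaf ((nat_lit 1118), [nat_lit 3, nat_lit 0, nat_lit 5, nat_lit 3, nat_lit 5, nat_lit 3, nat_lit 4, nat_lit 2, nat_lit 4, nat_lit 3, nat_lit 2, nat_lit 0])))))
 (.node (nat_lit 2263) (.node (nat_lit 2261) (.leaf ((nat_lit 834), [nat_lit 2, nat_lit 0, nat_lit 2, nat_lit 5, nat_lit 1, nat_lit 4, nat_lit 0, nat_lit 1, nat_lit 0, nat_lit 3, nat_lit 1, nat_lit 0, nat_lit 1, nat_lit 0, nat_lit 2, nat_lit 2])) (.node (nat_lit 2262) (.leaf ((nat_lit 296), [nat_lit 3, nat_lit 2, nat_lit 5, nat_lit 3, nat_lit 1, nat_lit 3, nat_lit 0, nat_lit 2, nat_lit 0, nat_lit 1, nat_lit 0, nat_lit 1])) (.leaf ((nat_lit 1021), [nat_lit 1, nat_lit 5, nat_lit 1, nat_lit 5, nat_lit 3, nat_lit 1, nat_lit 0, nat_lit 4, nat_lit 2, nat_lit 0, nat_lit 1, nat_lit 0, nat_lit 1, nat_lit 0, nat_lit 2, nat_lit 0])))) (.node (nat_lit 2264) (.leaf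 ((nat_lit 1187), [nat_lit 5, nat_lit 1, nat_lit 3, nat_lit 0, nat_lit 5, nat_lit 0, nat_lit 2, nat_lit 4, nat_lit 1, nat_lit 0, nat_lit 3, nat_lit 0, nat_lit 1, nat_lit 0, nat_lit 2])) (.node (nat_lit 2265) (.leaf ((nat_lit 156), [nat_lit 2, nat_lit 5, nat_lit 3, nat_lit 5, nat_lit 3, nat_lit 4, nat_lit 1, nat_lit 3, nat_lit 1, nat_lit 0, nat_lit 2, nat_lit 2, nat_lit 0, nat_lit 2, nat_lit 2])) (.leaf ((nat_lit 764), [nat_lit 5, nat_lit 4, nat_lit 0, nat_lit 5, nat_lit 0, nat_lit 4, nat_lit 0, nat_lit 1, nat_lit 4, nat_lit 3, nat_lit 2])))))))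
 (.node (nat_lit 2277) (.node (nat_lit 2271) (.node (nat_lit 2268) (.node (nat_lit 2267) (.leaf ((nat_lit 1361), [nat_lit 5, nat_lit 4, nat_lit 3, nat_lit 5, nat_lit 2, nat_lit 5, nat_lit 4, nat_lit 3, nat_lit 2, nat_lit 0, nat_lit 2, nat_lit 3, nat_lit 2, nat_lit 2, nat_lit 0, nat_lit 1, nat_lit 0, nat_lit 2])) (.leaf ((nat_lit 525), [nat_lit 3, nat_lit 2, nat_lit 0, nat_lit 5, nat_lit 0, nat_lit 1, nat_lit 4, nat_lit 1, nat_lit 0, nat_lit 3, nat_lit 0, nat_lit 2, nat_lit 2, nat_lit 0, nat_lit 2]))) (.node (nat_lit 2269) (.leaf ((nat_lit 435), [nat_lit 5, nat_lit 1, nat_lit 3, nat_lit 2, nat_lit 5, nat_lit 4, nat_lit 0, nat_lit 3, nat_lit 4, nat_lit 3, nat_lit 0, nat_lit 2, nat_lit 0, nat_lit 2, nat_lit 2])) (.node (nat_lit 2270) (.leaf ((nat_lit 145), [nat_lit 5, nat_lit 4, nat_lit 2, nat_lit 0, nat_lit 5, nat_lit 1, nat_lit 3, nat_lit 1, nat_lit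 4, nat_lit 2, nat_lit 0, nat_lit 1, nat_lit 0, nat_lit 1])) (.leaf ((nat_lit 531), [nat_lit 0, nat_lit 2, nat_lit 4, nat_lit 0, nat_lit 5, nat_lit 1, nat_lit 3, nat_lit 2, nat_lit 4, nat_lit 2, nat_lit 0, nat_lit 1, nat_lit 0, nat_lit 2, nat_lit 2])))))
 (.node (nat_lit 2274) (.node (nat_lit 2272) (.leaf ((nat_lit 658), [nat_lit 4, nat_lit 0, nat_lit 5, nat_lit 2, nat_lit 5, nat_lit 2, nat_lit 0, nat_lit 2, nat_lit 3, nat_lit 1, nat_lit 0, nat_lit 2, nat_lit 2, nat_lit 0, nat_lit 1, nat_lit 0])) (.node (nat_lit 2273) (.leaf ((nat_lit 1362), [nat_lit 1, nat_lit 4, nat_lit 5, nat_lit 1, nat_lit 5, nat_lit 1, nat_lit 4, nat_lit 0, nat_lit 4, nat_lit 0, nat_lit 2, nat_lit 0, nat_lit 2, nat_lit 2, nat_lit 0, nat_lit 1])) (.leaf ((nat_lit 1261), [nat_lit 1, nat_lit 0, nat_lit 3, nat_lit 5, nat_lit 2, nat_lit 3, nat_lit 4, nat_lit 2, nat_lit 3, nat_lit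 2, nat_lit 0, nat_lit 2, nat_lit 2, nat_lit 0, nat_lit 2])))) (.node (nat_lit 2275) (.leaf ((nat_lit 1169), [nat_lit 5, nat_lit 4, nat_lit 5, nat_lit 3, nat_lit 5, nat_lit 4, nat_lit 2, nat_lit 0, nat_lit 2, nat_lit 3, nat_lit 0, nat_lit 2, nat_lit 0, nat_lit 1, nat_lit 0, nat_lit 1, nat_lit 0])) (.node (nat_lit 2276) (.leaf ((nat_lit 1363), [nat_lit 2, nat_lit 3, nat_lit 5, nat_lit 2, nat_lit 3, nat_lit 4, nat_lit 3, nat_lit 0, nat_lit 2, nat_lit 2, nat_lit 0, nat_lit 2, nat_lit 0])) (.leaf ((nat_lit 614), [nat_lit 3, nat_lit 4, nat_lit 5, nat_lit 2, nat_lit 2, nat_lit 4, nat_lit 0, nat_lit 4, nat_lit 3, nat_lit 2, nat_lit 2]))))))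
 (.node (nat_lit 2282) (.node (nat_lit 2279) (.node (nat_lit 2278) (.leaf ((nat_lit 1306), [nat_lit 3, nat_lit 5, nat_lit 1, nat_lit 3, nat_lit 0, nat_lit 5, nat_lit 3, nat_lit 2, nat_lit 0, nat_lit 3, nat_lit 4, nat_lit 2, nat_lit 0, nat_lit 2, nat_lit 0, nat_lit 1])) (.leaf ((nat_lit 1364), [nat_lit 1, nat_lit 5, nat_lit 0, nat_lit 5, nat_lit 4, nat_lit 0, nat_lit 4, nat_lit 2, nat_lit 0, nat_lit 3, nat_lit 0, nat_lit 2, nat_lit 0, nat_lit 2, nat_lit 2, nat_lit 0]))) (.node (nat_lit 2280) (.leaf ((nat_lit 966), [nat_lit 4, nat_lit 3, nat_lit 5, nat_lit 0, nat_lit 5, nat_lit 4, nat_lit 3, nat_lit 2, nat_lit 4, nat_lit 0, nat_lit 2, nat_lit 2, nat_lit 0, nat_lit 2, nat_lit 0])) (.node (nat_lit 2281) (.leaf ((nat_lit 1038), [nat_lit 5, nat_lit 3, nat_lit 2, nat_lit 5, nat_lit 3, nat_lit 1, nat_lit 4, nat_lit 1, nat_lit 3, nat_lit 2, nat_lit 2, nat_lit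 0, nat_lit 2, nat_lit 2, nat_lit 0, nat_lit 2])) (.leaf ((nat_lit 1365), [nat_lit 0, nat_lit 5, nat_lit 0, nat_lit 1, nat_lit 5, nat_lit 3, nat_lit 4, nat_lit 0, nat_lit 3, nat_lit 1, nat_lit 3])))))
 (.node (nat_lit 2285) (.node (nat_lit 2283) (.leaf ((nat_lit 1325), [nat_lit 5, nat_lit 4, nat_lit 5, nat_lit 2, nat_lit 5, nat_lit 4, nat_lit 3, nat_lit 2, nat_lit 2, nat_lit 3, nat_lit 2, nat_lit 0, nat_lit 1, nat_lit 0, nat_lit 2, nat_lit 0, nat_lit 2])) (.node (nat_lit 2284) (.leaf ((nat_lit 843), [nat_lit 2, nat_lit 0, nat_lit 5, nat_lit 2, nat_lit 0, nat_lit 1, nat_lit 4, nat_lit 3, nat_lit 0, nat_lit 2])) (.leaf ((nat_lit 653), [nat_lit 1, nat_lit 4, nat_lit 2, nat_lit 5, nat_lit 3, nat_lit 4, nat_lit 2, nat_lit 4, nat_lit 1, nat_lit 0, nat_lit 2, nat_lit 0, nat_lit 2])))) (.node (nat_lit 2286) (.leaf ((nat_lit 896), [nat_lit 5, nat_lit 4, nat_lit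 5, nat_lit 1, nat_lit 5, nat_lit 2, nat_lit 3, nat_lit 2, nat_lit 4, nat_lit 3, nat_lit 0, nat_lit 2, nat_lit 0, nat_lit 1, nat_lit 0, nat_lit 1, nat_lit 0])) (.node (nat_lit 2287) (.leaf ((nat_lit 321), [nat_lit 5, nat_lit 1, nat_lit 0, nat_lit 3, nat_lit 5, nat_lit 2, nat_lit 2, nat_lit 3, nat_lit 4, nat_lit 2, nat_lit 2, nat_lit 0])) (.leaf ((nat_lit 1349), [nat_lit 5, nat_lit 1, nat_lit 5, nat_lit 4, nat_lit 2, nat_lit 3, nat_lit 1, nat_lit 0, nat_lit 1, nat_lit 0, nat_lit 2, nat_lit 0]))))))))))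
noncomputable def qWd_13 : Tr (ℕ × List ℕ) := (.node (nat_lit 2376) (.node (nat_lit 2332) (.node (nat_lit 2310) (.node (nat_lit 2299) (.node (nat_lit 2293) (.node (nat_lit 2290) (.node (nat_lit 2289) (.leaf ((nat_lit 719), [nat_lit 5, nat_lit 1, nat_lit 0, nat_lit 2, nat_lit 5, nat_lit 2, nat_lit 3, nat_lit 2, nat_lit 2, nat_lit 0, nat_lit 2, nat_lit 2, nat_lit 0, nat_lit 2, nat_lit 2, nat_lit 0])) (.leaf ((nat_lit 165), [nat_lit 1, nat_lit 5, nat_lit 3, nat_lit 4, nat_lit 1, nat_lit 3, nat_lit 1, nat_lit 3, nat_lit 0, nat_lit 2, nat_lit 0, nat_lit 2, nat_lit 2, nat_lit 0]))) (.node (nat_lit 2291) (.leaf ((nat_lit 789), [nat_lit 0, nat_lit 3, nat_lit 5, nat_lit 1, nat_lit 3, nat_lit 2, nat_lit 4, nat_lit 2, nat_lit 2, nat_lit 0])) (.node (nat_lit 2292) (.leaf ((nat_lit 1366), [nat_lit 0, nat_lit 5, nat_lit 0, nat_lit 1, nat_lit 5, nat_lit 0, nat_lit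 4, nat_lit 2, nat_lit 3, nat_lit 0, nat_lit 3, nat_lit 0, nat_lit 2, nat_lit 2, nat_lit 0, nat_lit 2, nat_lit 0])) (.leaf ((nat_lit 10), [nat_lit 0, nat_lit 2, nat_lit 4, nat_lit 0, nat_lit 5, nat_lit 0, nat_lit 4, nat_lit 2, nat_lit 0, nat_lit 3, nat_lit 2, nat_lit 2, nat_lit 0, nat_lit 1, nat_lit 0])))))
 (.node (nat_lit 2296) (.node (nat_lit 2294) (.leaf ((nat_lit 1367), [nat_lit 5, nat_lit 4, nat_lit 5, nat_lit 1, nat_lit 5, nat_lit 1, nat_lit 0, nat_lit 4, nat_lit 3, nat_lit 2, nat_lit 2, nat_lit 0, nat_lit 2])) (.node (nat_lit 2295) (.leaf ((nat_lit 1174), [nat_lit 5, nat_lit 4, nat_lit 5, nat_lit 2, nat_lit 5, nat_lit 2, nat_lit 4, nat_lit 1, nat_lit 0, nat_lit 3, nat_lit 0, nat_lit 2, nat_lit 2])) (.leaf ((nat_lit 45), [nat_lit 4, nat_lit 5, nat_lit 1, nat_lit 5, nat_lit 4, nat_lit 1, nat_lit 3, nat_lit 4, nat_lit 0, nat_lit 2, nat_lit 2,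 nat_lit 0, nat_lit 2, nat_lit 2, nat_lit 0])))) (.node (nat_lit 2297) (.leaf ((nat_lit 1368), [nat_lit 4, nat_lit 5, nat_lit 2, nat_lit 5, nat_lit 4, nat_lit 1, nat_lit 4, nat_lit 3, nat_lit 2, nat_lit 0, nat_lit 2, nat_lit 2, nat_lit 0])) (.node (nat_lit 2298) (.leaf ((nat_lit 954), [nat_lit 5, nat_lit 0, nat_lit 3, nat_lit 5, nat_lit 0, nat_lit 3, nat_lit 0, nat_lit 2, nat_lit 4, nat_lit 3, nat_lit 2, nat_lit 0, nat_lit 1, nat_lit 0, nat_lit 2, nat_lit 0])) (.leaf ((nat_lit 480), [nat_lit 0, nat_lit 5, nat_lit 0, nat_lit 1, nat_lit 5, nat_lit 4, nat_lit 2, nat_lit 3, nat_lit 0, nat_lit 4, nat_lit 0, nat_lit 2, nat_lit 0, nat_lit 2, nat_lit 2, nat_lit 0]))))))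
 (.node (nat_lit 2304) (.node (nat_lit 2301) (.node (nat_lit 2300) (.leaf ((nat_lit 871), [nat_lit 4, nat_lit 5, nat_lit 4, nat_lit 0, nat_lit 5, nat_lit 3, nat_lit 1, nat_lit 4, nat_lit 3, nat_lit 2, nat_lit 0, nat_lit 3, nat_lit 2, nat_lit 2, nat_lit 0, nat_lit 2, nat_lit 2])) (.leaf ((nat_lit 1369), [nat_lit 2, nat_lit 0, nat_lit 1, nat_lit 0, nat_lit 4, nat_lit 2, nat_lit 0, nat_lit 1, nat_lit 0, nat_lit 1, nat_lit 0]))) (.node (nat_lit 2302) (.leaf ((nat_lit 1153), [nat_lit 4, nat_lit 5, nat_lit 2, nat_lit 5, nat_lit 2, nat_lit 2, nat_lit 3, nat_lit 4, nat_lit 3, nat_lit 0, nat_lit 1, nat_lit 0, nat_lit 2, nat_lit 2, nat_lit 0, nat_lit 1])) (.node (nat_lit 2303) (.leaf ((nat_lit 999), [nat_lit 3, nat_lit 2, nat_lit 3, nat_lit 5, nat_lit 2, nat_lit 0, nat_lit 4, nat_lit 1, nat_lit 4, nat_lit 1, nat_lit 0])) (.leaf ((nat_lit 1263), [nat_lit 5,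 nat_lit 0, nat_lit 1, nat_lit 5, nat_lit 0, nat_lit 4, nat_lit 3, nat_lit 0, nat_lit 4, nat_lit 2, nat_lit 2, nat_lit 0, nat_lit 2, nat_lit 2, nat_lit 0, nat_lit 2])))))
 (.node (nat_lit 2307) (.node (nat_lit 2305) (.leaf ((nat_lit 865), [nat_lit 0, nat_lit 5, nat_lit 0, nat_lit 2, nat_lit 4, nat_lit 0, nat_lit 2, nat_lit 0, nat_lit 1, nat_lit 0, nat_lit 1])) (.node (nat_lit 2306) (.leaf ((nat_lit 1223), [nat_lit 2, nat_lit 4, nat_lit 5, nat_lit 2, nat_lit 0, nat_lit 5, nat_lit 3, nat_lit 0, nat_lit 1, nat_lit 4, nat_lit 2, nat_lit 0, nat_lit 2, nat_lit 2, nat_lit 0, nat_lit 1, nat_lit 0])) (.leaf ((nat_lit 1351), [nat_lit 1, nat_lit 3, nat_lit 2, nat_lit 5, nat_lit 3, nat_lit 0, nat_lit 3, nat_lit 0, nat_lit 2, nat_lit 4, nat_lit 2, nat_lit 2, nat_lit 0, nat_lit 1, nat_lit 0, nat_lit 2, nat_lit 2, nat_lit 0])))) (.node (nat_lit 2308) (.leaf ((nat_lit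 888), [nat_lit 5, nat_lit 4, nat_lit 2, nat_lit 5, nat_lit 4, nat_lit 3, nat_lit 1, nat_lit 0, nat_lit 2, nat_lit 3, nat_lit 0, nat_lit 1, nat_lit 0, nat_lit 1, nat_lit 0])) (.node (nat_lit 2309) (.leaf ((nat_lit 203), [nat_lit 0, nat_lit 5, nat_lit 3, nat_lit 0, nat_lit 5, nat_lit 2, nat_lit 4, nat_lit 3, nat_lit 0, nat_lit 2, nat_lit 3, nat_lit 1, nat_lit 0, nat_lit 2, nat_lit 0])) (.leaf ((nat_lit 1370), [nat_lit 4, nat_lit 5, nat_lit 0, nat_lit 3, nat_lit 5, nat_lit 3, nat_lit 0, nat_lit 3, nat_lit 4, nat_lit 3, nat_lit 0, nat_lit 2, nat_lit 2, nat_lit 0, nat_lit 2])))))))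
 (.node (nat_lit 2321) (.node (nat_lit 2315) (.node (nat_lit 2312) (.node (nat_lit 2311) (.leaf ((nat_lit 590), [nat_lit 1, nat_lit 3, nat_lit 0, nat_lit 5, nat_lit 3, nat_lit 1, nat_lit 0, nat_lit 2, nat_lit 3, nat_lit 2, nat_lit 2, nat_lit 0, nat_lit 2, nat_lit 2, nat_lit 0, nat_lit 2, nat_lit 2, nat_lit 0])) (.leaf ((nat_lit 724), [nat_lit 2, nat_lit 3, nat_lit 5, nat_lit 0, nat_lit 5, nat_lit 2, nat_lit 3, nat_lit 2, nat_lit 0, nat_lit 4, nat_lit 0, nat_lit 1, nat_lit 0]))) (.node (nat_lit 2313) (.leaf ((nat_lit 1218), [nat_lit 0, nat_lit 3, nat_lit 5, nat_lit 1, nat_lit 4, nat_lit 2, nat_lit 0, nat_lit 2, nat_lit 2])) (.node (nat_lit 2314) (.leaf ((nat_lit 682), [nat_lit 5, nat_lit 1, nat_lit 3, nat_lit 0, nat_lit 5, nat_lit 1, nat_lit 0, nat_lit 4, nat_lit 1, nat_lit 4, nat_lit 0, nat_lit 2, nat_lit 2, nat_lit 0, nat_lit 2, nat_lit 0])) (.leaf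 ((nat_lit 1322), [nat_lit 1, nat_lit 0, nat_lit 2, nat_lit 5, nat_lit 0, nat_lit 3, nat_lit 4, nat_lit 0, nat_lit 1, nat_lit 0, nat_lit 2, nat_lit 0])))))
 (.node (nat_lit 2318) (.node (nat_lit 2316) (.leaf ((nat_lit 169), [nat_lit 2, nat_lit 3, nat_lit 5, nat_lit 0, nat_lit 5, nat_lit 1, nat_lit 4, nat_lit 1, nat_lit 0, nat_lit 3, nat_lit 2, nat_lit 0, nat_lit 1, nat_lit 0, nat_lit 2, nat_lit 0, nat_lit 2])) (.node (nat_lit 2317) (.leaf ((nat_lit 251), [nat_lit 4, nat_lit 1, nat_lit 0, nat_lit 5, nat_lit 2, nat_lit 2, nat_lit 3, nat_lit 4, nat_lit 3, nat_lit 2, nat_lit 0, nat_lit 2, nat_lit 2])) (.leaf ((nat_lit 907), [nat_lit 4, nat_lit 3, nat_lit 5, nat_lit 0, nat_lit 5, nat_lit 3, nat_lit 0, nat_lit 3, nat_lit 0, nat_lit 2, nat_lit 4, nat_lit 2, nat_lit 0, nat_lit 1, nat_lit 0, nat_lit 2, nat_lit 0])))) (.node (nat_lit 2319) (.leaf ((nat_lit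 1227), [nat_lit 2, nat_lit 5, nat_lit 3, nat_lit 5, nat_lit 2, nat_lit 4, nat_lit 1, nat_lit 3, nat_lit 1, nat_lit 3, nat_lit 2, nat_lit 0, nat_lit 1, nat_lit 0, nat_lit 2, nat_lit 2, nat_lit 0])) (.node (nat_lit 2320) (.leaf ((nat_lit 1356), [nat_lit 1, nat_lit 0, nat_lit 3, nat_lit 5, nat_lit 2, nat_lit 2, nat_lit 3, nat_lit 4, nat_lit 1, nat_lit 0, nat_lit 1, nat_lit 0])) (.leaf ((nat_lit 1222), [nat_lit 5, nat_lit 2, nat_lit 2, nat_lit 0, nat_lit 5, nat_lit 4, nat_lit 3, nat_lit 1, nat_lit 3, nat_lit 1, nat_lit 3, nat_lit 2, nat_lit 2, nat_lit 0, nat_lit 1, nat_lit 0, nat_lit 2]))))))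
 (.node (nat_lit 2326) (.node (nat_lit 2323) (.node (nat_lit 2322) (.leaf ((nat_lit 1154), [nat_lit 5, nat_lit 1, nat_lit 0, nat_lit 2, nat_lit 5, nat_lit 0, nat_lit 3, nat_lit 4, nat_lit 1, nat_lit 0, nat_lit 3, nat_lit 1, nat_lit 0, nat_lit 2, nat_lit 0, nat_lit 2, nat_lit 2, nat_lit 0])) (.leaf ((nat_lit 158), [nat_lit 2, nat_lit 3, nat_lit 0, nat_lit 5, nat_lit 0, nat_lit 2, nat_lit 0, nat_lit 2, nat_lit 4, nat_lit 1, nat_lit 0, nat_lit 1, nat_lit 0, nat_lit 2]))) (.node (nat_lit 2324) (.leaf ((nat_lit 876), [nat_lit 5, nat_lit 0, nat_lit 3, nat_lit 5, nat_lit 3, nat_lit 0, nat_lit 2, nat_lit 3, nat_lit 1, nat_lit 0, nat_lit 2, nat_lit 2, nat_lit 0])) (.node (nat_lit 2325) (.leaf ((nat_lit 583), [nat_lit 3, nat_lit 0, nat_lit 2, nat_lit 5, nat_lit 4, nat_lit 2, nat_lit 4, nat_lit 3, nat_lit 2, nat_lit 0, nat_lit 2, nat_lit 0, nat_lit 1, nat_lit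 0, nat_lit 1, nat_lit 0])) (.leaf ((nat_lit 1348), [nat_lit 5, nat_lit 2, nat_lit 3, nat_lit 5, nat_lit 3, nat_lit 1, nat_lit 3, nat_lit 0, nat_lit 3, nat_lit 2, nat_lit 0, nat_lit 1, nat_lit 0, nat_lit 2, nat_lit 2, nat_lit 0])))))
 (.node (nat_lit 2329) (.node (nat_lit 2327) (.leaf ((nat_lit 996), [nat_lit 4, nat_lit 5, nat_lit 3, nat_lit 2, nat_lit 5, nat_lit 2, nat_lit 3, nat_lit 2, nat_lit 4, nat_lit 2, nat_lit 2, nat_lit 0, nat_lit 2, nat_lit 2, nat_lit 0, nat_lit 2, nat_lit 2, nat_lit 0])) (.node (nat_lit 2328) (.leaf ((nat_lit 919), [nat_lit 5, nat_lit 3, nat_lit 2, nat_lit 0, nat_lit 5, nat_lit 2, nat_lit 3, nat_lit 0, nat_lit 1, nat_lit 0, nat_lit 3, nat_lit 2, nat_lit 2, nat_lit 0, nat_lit 1])) (.leaf ((nat_lit 1126), [nat_lit 3, nat_lit 4, nat_lit 3, nat_lit 5, nat_lit 0, nat_lit 3, nat_lit 4, nat_lit 1, nat_lit 0, nat_lit 3, nat_lit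 0, nat_lit 1, nat_lit 0, nat_lit 1])))) (.node (nat_lit 2330) (.leaf ((nat_lit 1139), [nat_lit 1, nat_lit 5, nat_lit 0, nat_lit 5, nat_lit 0, nat_lit 3, nat_lit 4, nat_lit 1, nat_lit 0, nat_lit 3, nat_lit 0, nat_lit 1])) (.node (nat_lit 2331) (.leaf ((nat_lit 1355), [nat_lit 3, nat_lit 2, nat_lit 0, nat_lit 5, nat_lit 2, nat_lit 2, nat_lit 3, nat_lit 4, nat_lit 2, nat_lit 2, nat_lit 0, nat_lit 2])) (.leaf ((nat_lit 1028), [nat_lit 3, nat_lit 2, nat_lit 5, nat_lit 2, nat_lit 4, nat_lit 3, nat_lit 1, nat_lit 0, nat_lit 1, nat_lit 0, nat_lit 2, nat_lit 0, nat_lit 2, nat_lit 0]))))))))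
 (.node (nat_lit 2354) (.node (nat_lit 2343) (.node (nat_lit 2337) (.node (nat_lit 2334) (.node (nat_lit 2333) (.leaf ((nat_lit 1184), [nat_lit 0, nat_lit 4, nat_lit 2, nat_lit 0, nat_lit 5, nat_lit 1, nat_lit 4, nat_lit 0, nat_lit 3, nat_lit 2, nat_lit 3, nat_lit 2, nat_lit 2, nat_lit 0, nat_lit 2, nat_lit 2, nat_lit 0, nat_lit 2, nat_lit 2, nat_lit 0])) (.leaf ((nat_lit 1085), [nat_lit 5, nat_lit 2, nat_lit 0, nat_lit 2, nat_lit 5, nat_lit 2, nat_lit 4, nat_lit 0, nat_lit 1, nat_lit 0, nat_lit 3, nat_lit 2, nat_lit 0, nat_lit 2, nat_lit 2]))) (.node (nat_lit 2335) (.leaf ((nat_lit 1365), [nat_lit 5, nat_lit 4, nat_lit 0, nat_lit 5, nat_lit 4, nat_lit 2, nat_lit 3, nat_lit 4, nat_lit 0, nat_lit 2, nat_lit 2, nat_lit 0])) (.node (nat_lit 2336) (.leaf ((nat_lit 624), [nat_lit 2, nat_lit 5, nat_lit 2, nat_lit 3, nat_lit 5, nat_lit 2, nat_lit 3, nat_lit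 2, nat_lit 2, nat_lit 0, nat_lit 1, nat_lit 0])) (.leaf ((nat_lit 914), [nat_lit 4, nat_lit 5, nat_lit 2, nat_lit 4, nat_lit 0, nat_lit 1, nat_lit 0, nat_lit 3, nat_lit 0, nat_lit 1, nat_lit 0, nat_lit 2, nat_lit 2, nat_lit 0])))))
 (.node (nat_lit 2340) (.node (nat_lit 2338) (.leaf ((nat_lit 1371), [nat_lit 4, nat_lit 5, nat_lit 3, nat_lit 5, nat_lit 1, nat_lit 0, nat_lit 4, nat_lit 2, nat_lit 0, nat_lit 2, nat_lit 2, nat_lit 0, nat_lit 2, nat_lit 2, nat_lit 0])) (.node (nat_lit 2339) (.leaf ((nat_lit 464), [nat_lit 1, nat_lit 4, nat_lit 2, nat_lit 5, nat_lit 2, nat_lit 4, nat_lit 0, nat_lit 1, nat_lit 0, nat_lit 3, nat_lit 0, nat_lit 2, nat_lit 0, nat_lit 2, nat_lit 0])) (.leaf ((nat_lit 609), [nat_lit 2, nat_lit 5, nat_lit 3, nat_lit 5, nat_lit 4, nat_lit 1, nat_lit 3, nat_lit 0, nat_lit 3, nat_lit 0, nat_lit 2, nat_lit 0, nat_lit 2, nat_lit 2,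 nat_lit 0, nat_lit 1, nat_lit 0])))) (.node (nat_lit 2341) (.leaf ((nat_lit 1359), [nat_lit 2, nat_lit 2, nat_lit 5, nat_lit 1, nat_lit 0, nat_lit 3, nat_lit 1, nat_lit 3, nat_lit 1, nat_lit 0, nat_lit 1, nat_lit 0])) (.node (nat_lit 2342) (.leaf ((nat_lit 689), [nat_lit 0, nat_lit 5, nat_lit 2, nat_lit 4, nat_lit 0, nat_lit 3, nat_lit 2, nat_lit 3, nat_lit 2, nat_lit 0])) (.leaf ((nat_lit 1149), [nat_lit 5, nat_lit 3, nat_lit 2, nat_lit 0, nat_lit 5, nat_lit 3, nat_lit 2, nat_lit 4, nat_lit 3, nat_lit 2, nat_lit 3]))))))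
 (.node (nat_lit 2348) (.node (nat_lit 2345) (.node (nat_lit 2344) (.leaf ((nat_lit 1256), [nat_lit 1, nat_lit 0, nat_lit 2, nat_lit 5, nat_lit 1, nat_lit 0, nat_lit 1, nat_lit 0, nat_lit 3, nat_lit 1, nat_lit 0, nat_lit 2, nat_lit 0, nat_lit 1])) (.leaf ((nat_lit 1372), [nat_lit 4, nat_lit 3, nat_lit 5, nat_lit 0, nat_lit 5, nat_lit 3, nat_lit 4, nat_lit 1, nat_lit 3, nat_lit 1, nat_lit 3, nat_lit 0, nat_lit 1, nat_lit 0, nat_lit 2, nat_lit 0]))) (.node (nat_lit 2346) (.leaf ((nat_lit 1373), [nat_lit 0, nat_lit 3, nat_lit 5, nat_lit 3, nat_lit 0, nat_lit 4, nat_lit 3, nat_lit 2, nat_lit 3, nat_lit 0, nat_lit 2, nat_lit 2, nat_lit 0, nat_lit 1, nat_lit 0, nat_lit 2])) (.node (nat_lit 2347) (.leaf ((nat_lit 811), [nat_lit 2, nat_lit 5, nat_lit 2, nat_lit 3, nat_lit 5, nat_lit 2, nat_lit 3, nat_lit 2, nat_lit 4, nat_lit 3, nat_lit 0, nat_lit 2, nat_lit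 0, nat_lit 2, nat_lit 0])) (.leaf ((nat_lit 974), [nat_lit 5, nat_lit 3, nat_lit 2, nat_lit 0, nat_lit 5, nat_lit 0, nat_lit 4, nat_lit 0, nat_lit 4, nat_lit 2, nat_lit 2, nat_lit 0, nat_lit 2, nat_lit 2, nat_lit 0, nat_lit 2])))))
 (.node (nat_lit 2351) (.node (nat_lit 2349) (.leaf ((nat_lit 1374), [nat_lit 2, nat_lit 3, nat_lit 0, nat_lit 5, nat_lit 4, nat_lit 2, nat_lit 4, nat_lit 2, nat_lit 3, nat_lit 1, nat_lit 0, nat_lit 1, nat_lit 0, nat_lit 2, nat_lit 2, nat_lit 0])) (.node (nat_lit 2350) (.leaf ((nat_lit 670), [nat_lit 5, nat_lit 2, nat_lit 0, nat_lit 2, nat_lit 5, nat_lit 2, nat_lit 4, nat_lit 2, nat_lit 3, nat_lit 1, nat_lit 3, nat_lit 2, nat_lit 0, nat_lit 2])) (.leaf ((nat_lit 1083), [nat_lit 4, nat_lit 3, nat_lit 5, nat_lit 0, nat_lit 5, nat_lit 2, nat_lit 0, nat_lit 4, nat_lit 1, nat_lit 3, nat_lit 2, nat_lit 2, nat_lit 0, nat_lit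 2, nat_lit 0, nat_lit 1, nat_lit 0])))) (.node (nat_lit 2352) (.leaf ((nat_lit 693), [nat_lit 3, nat_lit 4, nat_lit 3, nat_lit 5, nat_lit 0, nat_lit 2, nat_lit 3, nat_lit 1, nat_lit 3, nat_lit 1, nat_lit 0, nat_lit 2, nat_lit 0])) (.node (nat_lit 2353) (.leaf ((nat_lit 820), [nat_lit 0, nat_lit 2, nat_lit 5, nat_lit 3, nat_lit 5, nat_lit 0, nat_lit 1, nat_lit 4, nat_lit 1, nat_lit 0, nat_lit 3, nat_lit 0, nat_lit 2, nat_lit 2, nat_lit 0, nat_lit 2, nat_lit 0])) (.leaf ((nat_lit 1032), [nat_lit 1, nat_lit 5, nat_lit 2, nat_lit 5, nat_lit 3, nat_lit 2, nat_lit 0, nat_lit 4, nat_lit 1, nat_lit 4, nat_lit 0, nat_lit 2, nat_lit 0, nat_lit 2, nat_lit 0])))))))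
 (.node (nat_lit 2365) (.node (nat_lit 2359) (.node (nat_lit 2356) (.node (nat_lit 2355) (.leaf ((nat_lit 793), [nat_lit 3, nat_lit 2, nat_lit 0, nat_lit 5, nat_lit 2, nat_lit 3, nat_lit 4, nat_lit 1, nat_lit 3, nat_lit 0, nat_lit 2, nat_lit 0, nat_lit 2, nat_lit 2, nat_lit 0, nat_lit 1, nat_lit 0])) (.leaf ((nat_lit 600), [nat_lit 2, nat_lit 5, nat_lit 1, nat_lit 5, nat_lit 2, nat_lit 2, nat_lit 3, nat_lit 2, nat_lit 2, nat_lit 3, nat_lit 0, nat_lit 2, nat_lit 0, nat_lit 1]))) (.node (nat_lit 2357) (.leaf ((nat_lit 1247), [nat_lit 5, nat_lit 2, nat_lit 2, nat_lit 0, nat_lit 5, nat_lit 4, nat_lit 1, nat_lit 4, nat_lit 3, nat_lit 2, nat_lit 0, nat_lit 2, nat_lit 0, nat_lit 1])) (.node (nat_lit 2358) (.leaf ((nat_lit 1252), [nat_lit 5, nat_lit 4, nat_lit 3, nat_lit 5, nat_lit 2, nat_lit 5, nat_lit 4, nat_lit 3, nat_lit 2, nat_lit 3, nat_lit 2, nat_lit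 3, nat_lit 2, nat_lit 0, nat_lit 2, nat_lit 0, nat_lit 1, nat_lit 0])) (.leaf ((nat_lit 98), [nat_lit 4, nat_lit 5, nat_lit 0, nat_lit 3, nat_lit 5, nat_lit 3, nat_lit 0, nat_lit 3, nat_lit 0, nat_lit 2, nat_lit 4, nat_lit 2, nat_lit 0, nat_lit 2, nat_lit 2, nat_lit 0, nat_lit 2, nat_lit 0])))))
 (.node (nat_lit 2362) (.node (nat_lit 2360) (.leaf ((nat_lit 1368), [nat_lit 0, nat_lit 5, nat_lit 3, nat_lit 0, nat_lit 5, nat_lit 2, nat_lit 4, nat_lit 2, nat_lit 3, nat_lit 1, nat_lit 3, nat_lit 0, nat_lit 1, nat_lit 0, nat_lit 2, nat_lit 0])) (.node (nat_lit 2361) (.leaf ((nat_lit 1363), [nat_lit 2, nat_lit 2, nat_lit 5, nat_lit 2, nat_lit 2, nat_lit 3, nat_lit 4, nat_lit 2, nat_lit 0, nat_lit 2, nat_lit 2, nat_lit 0, nat_lit 2, nat_lit 2])) (.leaf ((nat_lit 252), [nat_lit 2, nat_lit 3, nat_lit 5, nat_lit 2, nat_lit 4, nat_lit 0, nat_lit 1, nat_lit 4,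 nat_lit 2, nat_lit 2, nat_lit 0, nat_lit 2])))) (.node (nat_lit 2363) (.leaf ((nat_lit 1129), [nat_lit 4, nat_lit 1, nat_lit 5, nat_lit 0, nat_lit 5, nat_lit 2, nat_lit 3, nat_lit 1, nat_lit 0, nat_lit 2, nat_lit 0, nat_lit 2, nat_lit 2])) (.node (nat_lit 2364) (.leaf ((nat_lit 913), [nat_lit 4, nat_lit 1, nat_lit 5, nat_lit 2, nat_lit 5, nat_lit 4, nat_lit 1, nat_lit 0, nat_lit 3, nat_lit 0, nat_lit 2, nat_lit 0])) (.leaf ((nat_lit 474), [nat_lit 2, nat_lit 5, nat_lit 2, nat_lit 3, nat_lit 5, nat_lit 4, nat_lit 1, nat_lit 4, nat_lit 3, nat_lit 2, nat_lit 2, nat_lit 0, nat_lit 2, nat_lit 0, nat_lit 1, nat_lit 0]))))))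
 (.node (nat_lit 2370) (.node (nat_lit 2367) (.node (nat_lit 2366) (.leaf ((nat_lit 864), [nat_lit 0, nat_lit 5, nat_lit 2, nat_lit 5, nat_lit 3, nat_lit 4, nat_lit 0, nat_lit 2, nat_lit 2, nat_lit 3, nat_lit 2, nat_lit 0, nat_lit 1, nat_lit 0, nat_lit 2])) (.leaf ((nat_lit 1295), [nat_lit 5, nat_lit 3, nat_lit 2, nat_lit 0, nat_lit 5, nat_lit 1, nat_lit 0, nat_lit 4, nat_lit 3, nat_lit 0, nat_lit 2, nat_lit 0, nat_lit 2, nat_lit 2, nat_lit 0, nat_lit 2, nat_lit 0]))) (.node (nat_lit 2368) (.leaf ((nat_lit 1018), [nat_lit 5, nat_lit 0, nat_lit 1, nat_lit 5, nat_lit 2, nat_lit 0, nat_lit 4, nat_lit 1, nat_lit 0, nat_lit 2, nat_lit 2, nat_lit 0, nat_lit 1, nat_lit 0])) (.node (nat_lit 2369) (.leaf ((nat_lit 1330), [nat_lit 4, nat_lit 3, nat_lit 5, nat_lit 2, nat_lit 3, nat_lit 4, nat_lit 1, nat_lit 0, nat_lit 3, nat_lit 0, nat_lit 2, nat_lit 2, nat_lit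 0, nat_lit 2, nat_lit 2])) (.leaf ((nat_lit 486), [nat_lit 5, nat_lit 0, nat_lit 4, nat_lit 5, nat_lit 4, nat_lit 3, nat_lit 2, nat_lit 3, nat_lit 0, nat_lit 2, nat_lit 0, nat_lit 2, nat_lit 0])))))
 (.node (nat_lit 2373) (.node (nat_lit 2371) (.leaf ((nat_lit 970), [nat_lit 3, nat_lit 0, nat_lit 5, nat_lit 3, nat_lit 1, nat_lit 3, nat_lit 0, nat_lit 2, nat_lit 4, nat_lit 0, nat_lit 2, nat_lit 2, nat_lit 0, nat_lit 2, nat_lit 0])) (.node (nat_lit 2372) (.leaf ((nat_lit 1105), [nat_lit 0, nat_lit 5, nat_lit 2, nat_lit 3, nat_lit 2, nat_lit 2, nat_lit 0, nat_lit 2, nat_lit 0])) (.leaf ((nat_lit 1375), [nat_lit 4, nat_lit 1, nat_lit 3, nat_lit 0, nat_lit 1, nat_lit 4, nat_lit 0, nat_lit 1, nat_lit 0, nat_lit 1, nat_lit 0, nat_lit 2, nat_lit 0])))) (.node (nat_lit 2374) (.leaf ((nat_lit 983), [nat_lit 5, nat_lit 4, nat_lit 5, nat_lit 2, nat_lit 0, nat_lit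 3, nat_lit 0, nat_lit 1, nat_lit 0, nat_lit 2, nat_lit 2])) (.node (nat_lit 2375) (.leaf ((nat_lit 709), [nat_lit 0, nat_lit 2, nat_lit 5, nat_lit 2, nat_lit 2, nat_lit 3, nat_lit 2, nat_lit 2, nat_lit 3, nat_lit 0, nat_lit 2, nat_lit 2, nat_lit 0, nat_lit 1, nat_lit 0, nat_lit 2])) (.leaf ((nat_lit 626), [nat_lit 5, nat_lit 1, nat_lit 3, nat_lit 2, nat_lit 5, nat_lit 4, nat_lit 1, nat_lit 3, nat_lit 2, nat_lit 2, nat_lit 3, nat_lit 0, nat_lit 1, nat_lit 0, nat_lit 2, nat_lit 0, nat_lit 2])))))))))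
 (.node (nat_lit 2420) (.node (nat_lit 2398) (.node (nat_lit 2387) (.node (nat_lit 2381) (.node (nat_lit 2378) (.node (nat_lit 2377) (.leaf ((nat_lit 1376), [nat_lit 2, nat_lit 3, nat_lit 5, nat_lit 0, nat_lit 3, nat_lit 0, nat_lit 2, nat_lit 3, nat_lit 0, nat_lit 2, nat_lit 2, nat_lit 0, nat_lit 2, nat_lit 0, nat_lit 1, nat_lit 0])) (.leaf ((nat_lit 188), [nat_lit 3, nat_lit 5, nat_lit 0, nat_lit 3, nat_lit 5, nat_lit 3, nat_lit 0, nat_lit 4, nat_lit 1, nat_lit 4, nat_lit 0, nat_lit 2, nat_lit 0, nat_lit 2, nat_lit 2, nat_lit 0, nat_lit 1]))) (.node (nat_lit 2379) (.leaf ((nat_lit 79), [nat_lit 5, nat_lit 1, nat_lit 5, nat_lit 0, nat_lit 5, nat_lit 2, nat_lit 0, nat_lit 3, nat_lit 1, nat_lit 3, nat_lit 1, nat_lit 0, nat_lit 2])) (.node (nat_lit 2380) (.leaf ((nat_lit 1265), [nat_lit 2, nat_lit 0, nat_lit 5, nat_lit 3, nat_lit 1, nat_lit 0, nat_lit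 1, nat_lit 0, nat_lit 2, nat_lit 0, nat_lit 2, nat_lit 0])) (.leaf ((nat_lit 183), [nat_lit 4, nat_lit 3, nat_lit 2, nat_lit 5, nat_lit 1, nat_lit 3, nat_lit 1, nat_lit 3, nat_lit 0, nat_lit 3, nat_lit 2, nat_lit 0, nat_lit 1, nat_lit 0, nat_lit 1, nat_lit 0])))))
 (.node (nat_lit 2384) (.node (nat_lit 2382) (.leaf ((nat_lit 906), [nat_lit 1, nat_lit 3, nat_lit 2, nat_lit 5, nat_lit 4, nat_lit 2, nat_lit 0, nat_lit 3, nat_lit 0, nat_lit 4, nat_lit 2, nat_lit 2, nat_lit 0, nat_lit 2, nat_lit 2, nat_lit 0, nat_lit 2])) (.node (nat_lit 2383) (.leaf ((nat_lit 1047), [nat_lit 3, nat_lit 0, nat_lit 5, nat_lit 3, nat_lit 5, nat_lit 2, nat_lit 3, nat_lit 4, nat_lit 1, nat_lit 0, nat_lit 3, nat_lit 2, nat_lit 2, nat_lit 0, nat_lit 1, nat_lit 0, nat_lit 2])) (.leaf ((nat_lit 646), [nat_lit 4, nat_lit 5, nat_lit 4, nat_lit 0, nat_lit 5, nat_lit 3, nat_lit 1,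 nat_lit 0, nat_lit 4, nat_lit 0, nat_lit 2, nat_lit 0, nat_lit 2, nat_lit 2, nat_lit 0, nat_lit 2])))) (.node (nat_lit 2385) (.leaf ((nat_lit 2), [nat_lit 5, nat_lit 0, nat_lit 4, nat_lit 5, nat_lit 2, nat_lit 3, nat_lit 4, nat_lit 0, nat_lit 2, nat_lit 4, nat_lit 0, nat_lit 1, nat_lit 0, nat_lit 1, nat_lit 0])) (.node (nat_lit 2386) (.leaf ((nat_lit 1213), [nat_lit 5, nat_lit 4, nat_lit 5, nat_lit 3, nat_lit 5, nat_lit 0, nat_lit 4, nat_lit 1, nat_lit 0, nat_lit 4, nat_lit 2, nat_lit 2, nat_lit 0, nat_lit 2, nat_lit 0, nat_lit 1, nat_lit 0])) (.leaf ((nat_lit 172), [nat_lit 4, nat_lit 5, nat_lit 4, nat_lit 1, nat_lit 4, nat_lit 2, nat_lit 4, nat_lit 2, nat_lit 2, nat_lit 0, nat_lit 2, nat_lit 0]))))))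
 (.node (nat_lit 2392) (.node (nat_lit 2389) (.node (nat_lit 2388) (.leaf ((nat_lit 777), [nat_lit 0, nat_lit 5, nat_lit 2, nat_lit 0, nat_lit 5, nat_lit 0, nat_lit 1, nat_lit 3, nat_lit 1, nat_lit 0, nat_lit 4, nat_lit 1])) (.leaf ((nat_lit 1010), [nat_lit 2, nat_lit 5, nat_lit 4, nat_lit 5, nat_lit 0, nat_lit 1, nat_lit 0, nat_lit 3, nat_lit 2, nat_lit 0]))) (.node (nat_lit 2390) (.leaf ((nat_lit 62), [nat_lit 2, nat_lit 5, nat_lit 4, nat_lit 5, nat_lit 1, nat_lit 3, nat_lit 4, nat_lit 3, nat_lit 2, nat_lit 2, nat_lit 0, nat_lit 2])) (.node (nat_lit 2391) (.leaf ((nat_lit 282), [nat_lit 5, nat_lit 0, nat_lit 4, nat_lit 5, nat_lit 0, nat_lit 1, nat_lit 4, nat_lit 3, nat_lit 2, nat_lit 2, nat_lit 0, nat_lit 1])) (.leaf ((nat_lit 643), [nat_lit 1, nat_lit 0, nat_lit 5, nat_lit 3, nat_lit 5, nat_lit 3, nat_lit 1, nat_lit 4, nat_lit 3, nat_lit 1, nat_lit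 0, nat_lit 2, nat_lit 0])))))
 (.node (nat_lit 2395) (.node (nat_lit 2393) (.leaf ((nat_lit 1186), [nat_lit 1, nat_lit 3, nat_lit 2, nat_lit 5, nat_lit 3, nat_lit 2, nat_lit 3, nat_lit 2, nat_lit 0, nat_lit 3, nat_lit 0, nat_lit 2, nat_lit 0, nat_lit 1, nat_lit 0, nat_lit 1])) (.node (nat_lit 2394) (.leaf ((nat_lit 635), [nat_lit 5, nat_lit 2, nat_lit 4, nat_lit 0, nat_lit 5, nat_lit 1, nat_lit 0, nat_lit 4, nat_lit 1, nat_lit 3, nat_lit 2, nat_lit 0, nat_lit 2, nat_lit 2, nat_lit 0])) (.leaf ((nat_lit 1119), [nat_lit 4, nat_lit 5, nat_lit 2, nat_lit 3, nat_lit 5, nat_lit 0, nat_lit 4, nat_lit 2, nat_lit 3, nat_lit 1, nat_lit 3, nat_lit 2, nat_lit 2, nat_lit 0, nat_lit 1, nat_lit 0])))) (.node (nat_lit 2396) (.leaf ((nat_lit 1354), [nat_lit 0, nat_lit 3, nat_lit 5, nat_lit 1, nat_lit 0, nat_lit 1, nat_lit 4, nat_lit 3, nat_lit 1, nat_lit 0, nat_lit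 2, nat_lit 0])) (.node (nat_lit 2397) (.leaf ((nat_lit 673), [nat_lit 5, nat_lit 2, nat_lit 2, nat_lit 0, nat_lit 5, nat_lit 4, nat_lit 1, nat_lit 4, nat_lit 1, nat_lit 4, nat_lit 3, nat_lit 0, nat_lit 1, nat_lit 0, nat_lit 1, nat_lit 0, nat_lit 2, nat_lit 0])) (.leaf ((nat_lit 1377), [nat_lit 4, nat_lit 1, nat_lit 5, nat_lit 3, nat_lit 5, nat_lit 3, nat_lit 2, nat_lit 0, nat_lit 4, nat_lit 3, nat_lit 2])))))))
 (.node (nat_lit 2409) (.node (nat_lit 2403) (.node (nat_lit 2400) (.node (nat_lit 2399) (.leaf ((nat_lit 257), [nat_lit 0, nat_lit 4, nat_lit 5, nat_lit 3, nat_lit 2, nat_lit 0, nat_lit 4, nat_lit 1, nat_lit 4, nat_lit 1, nat_lit 0, nat_lit 2, nat_lit 0, nat_lit 2])) (.leaf ((nat_lit 1033), [nat_lit 5, nat_lit 0, nat_lit 1, nat_lit 5, nat_lit 1, nat_lit 4, nat_lit 1, nat_lit 3, nat_lit 4, nat_lit 0, nat_lit 2, nat_lit 0, nat_lit 1, nat_lit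 0, nat_lit 1]))) (.node (nat_lit 2401) (.leaf ((nat_lit 1378), [nat_lit 2, nat_lit 0, nat_lit 5, nat_lit 2, nat_lit 3, nat_lit 0, nat_lit 1, nat_lit 0, nat_lit 3, nat_lit 1, nat_lit 0, nat_lit 1])) (.node (nat_lit 2402) (.leaf ((nat_lit 1235), [nat_lit 4, nat_lit 0, nat_lit 5, nat_lit 2, nat_lit 5, nat_lit 3, nat_lit 4, nat_lit 2, nat_lit 0, nat_lit 4, nat_lit 1])) (.leaf ((nat_lit 1289), [nat_lit 5, nat_lit 2, nat_lit 0, nat_lit 5, nat_lit 3, nat_lit 4, nat_lit 3, nat_lit 2, nat_lit 4, nat_lit 2, nat_lit 0, nat_lit 2, nat_lit 2, nat_lit 0, nat_lit 1])))))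
 (.node (nat_lit 2406) (.node (nat_lit 2404) (.leaf ((nat_lit 1362), [nat_lit 1, nat_lit 4, nat_lit 2, nat_lit 5, nat_lit 1, nat_lit 0, nat_lit 4, nat_lit 1, nat_lit 4, nat_lit 0, nat_lit 1, nat_lit 0, nat_lit 1, nat_lit 0])) (.node (nat_lit 2405) (.leaf ((nat_lit 604), [nat_lit 3, nat_lit 4, nat_lit 5, nat_lit 4, nat_lit 2, nat_lit 3, nat_lit 4, nat_lit 3, nat_lit 1, nat_lit 0, nat_lit 1, nat_lit 0, nat_lit 2, nat_lit 0])) (.leaf ((nat_lit 1183), [nat_lit 4, nat_lit 1, nat_lit 0, nat_lit 5, nat_lit 3, nat_lit 4, nat_lit 1, nat_lit 3, nat_lit 0, nat_lit 3, nat_lit 0, nat_lit 2, nat_lit 2, nat_lit 0, nat_lit 1, nat_lit 0, nat_lit 2])))) (.node (nat_lit 2407) (.leaf ((nat_lit 1379), [nat_lit 5, nat_lit 2, nat_lit 0, nat_lit 5, nat_lit 2, nat_lit 3, nat_lit 2, nat_lit 0, nat_lit 4, nat_lit 2, nat_lit 0, nat_lit 2, nat_lit 2])) (.node (nat_lit 2408)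 (.leaf ((nat_lit 1214), [nat_lit 5, nat_lit 0, nat_lit 5, nat_lit 3, nat_lit 2, nat_lit 4, nat_lit 3, nat_lit 2, nat_lit 2, nat_lit 0, nat_lit 2, nat_lit 2, nat_lit 0, nat_lit 1, nat_lit 0])) (.leaf ((nat_lit 592), [nat_lit 5, nat_lit 2, nat_lit 0, nat_lit 5, nat_lit 1, nat_lit 3, nat_lit 2, nat_lit 0, nat_lit 4, nat_lit 0, nat_lit 2, nat_lit 2, nat_lit 0, nat_lit 2, nat_lit 0, nat_lit 1]))))))
 (.node (nat_lit 2414) (.node (nat_lit 2411) (.node (nat_lit 2410) (.leaf ((nat_lit 1369), [nat_lit 0, nat_lit 5, nat_lit 3, nat_lit 0, nat_lit 5, nat_lit 0, nat_lit 3, nat_lit 4, nat_lit 3, nat_lit 2, nat_lit 0, nat_lit 1, nat_lit 0, nat_lit 1, nat_lit 0, nat_lit 2, nat_lit 0])) (.leaf ((nat_lit 1257), [nat_lit 3, nat_lit 0, nat_lit 5, nat_lit 3, nat_lit 5, nat_lit 4, nat_lit 0, nat_lit 2, nat_lit 4, nat_lit 1, nat_lit 0, nat_lit 2, nat_lit 2, nat_lit 0,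 nat_lit 2, nat_lit 2]))) (.node (nat_lit 2412) (.leaf ((nat_lit 56), [nat_lit 4, nat_lit 3, nat_lit 5, nat_lit 0, nat_lit 5, nat_lit 0, nat_lit 4, nat_lit 2, nat_lit 0, nat_lit 3, nat_lit 0, nat_lit 2, nat_lit 2, nat_lit 0, nat_lit 2, nat_lit 2, nat_lit 0])) (.node (nat_lit 2413) (.leaf ((nat_lit 1380), [nat_lit 0, nat_lit 4, nat_lit 2, nat_lit 0, nat_lit 5, nat_lit 2, nat_lit 2, nat_lit 4, nat_lit 1, nat_lit 0, nat_lit 3, nat_lit 0, nat_lit 1, nat_lit 0, nat_lit 2, nat_lit 0, nat_lit 2, nat_lit 2, nat_lit 0])) (.leaf ((nat_lit 256), [nat_lit 0, nat_lit 4, nat_lit 5, nat_lit 0, nat_lit 4, nat_lit 2, nat_lit 3, nat_lit 0, nat_lit 3, nat_lit 2, nat_lit 0, nat_lit 2, nat_lit 2, nat_lit 0, nat_lit 2, nat_lit 2, nat_lit 0])))))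
 (.node (nat_lit 2417) (.node (nat_lit 2415) (.leaf ((nat_lit 809), [nat_lit 5, nat_lit 2, nat_lit 0, nat_lit 5, nat_lit 1, nat_lit 4, nat_lit 3, nat_lit 1, nat_lit 0, nat_lit 4, nat_lit 0, nat_lit 1, nat_lit 0, nat_lit 1, nat_lit 0, nat_lit 2, nat_lit 0])) (.node (nat_lit 2416) (.leaf ((nat_lit 1381), [nat_lit 0, nat_lit 2, nat_lit 5, nat_lit 3, nat_lit 1, nat_lit 3, nat_lit 0, nat_lit 4, nat_lit 2, nat_lit 2, nat_lit 0, nat_lit 2, nat_lit 2, nat_lit 0, nat_lit 2, nat_lit 0])) (.leaf ((nat_lit 239), [nat_lit 3, nat_lit 4, nat_lit 2, nat_lit 4, nat_lit 1, nat_lit 0, nat_lit 2, nat_lit 2, nat_lit 0, nat_lit 1])))) (.node (nat_lit 2418) (.leaf ((nat_lit 1044), [nat_lit 3, nat_lit 5, nat_lit 2, nat_lit 3, nat_lit 2, nat_lit 2, nat_lit 3, nat_lit 1, nat_lit 0, nat_lit 2, nat_lit 2, nat_lit 0, nat_lit 2, nat_lit 2])) (.node (nat_lit 2419) (.leaf ((nat_lit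 364), [nat_lit 3, nat_lit 4, nat_lit 5, nat_lit 2, nat_lit 2, nat_lit 3, nat_lit 4, nat_lit 2, nat_lit 0, nat_lit 1])) (.leaf ((nat_lit 1192), [nat_lit 5, nat_lit 2, nat_lit 2, nat_lit 0, nat_lit 5, nat_lit 2, nat_lit 4, nat_lit 1, nat_lit 0, nat_lit 3, nat_lit 1, nat_lit 0, nat_lit 1, nat_lit 0]))))))))
 (.node (nat_lit 2442) (.node (nat_lit 2431) (.node (nat_lit 2425) (.node (nat_lit 2422) (.node (nat_lit 2421) (.leaf ((nat_lit 817), [nat_lit 4, nat_lit 5, nat_lit 0, nat_lit 3, nat_lit 5, nat_lit 2, nat_lit 3, nat_lit 2, nat_lit 2, nat_lit 0, nat_lit 1, nat_lit 0])) (.leaf ((nat_lit 1013), [nat_lit 5, nat_lit 0, nat_lit 1, nat_lit 5, nat_lit 2, nat_lit 2, nat_lit 4, nat_lit 0, nat_lit 4, nat_lit 0, nat_lit 1, nat_lit 0, nat_lit 2, nat_lit 0, nat_lit 2, nat_lit 2, nat_lit 0]))) (.node (nat_lit 2423) (.leaf ((nat_lit 784), [nat_lit 4, nat_lit 1,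 nat_lit 5, nat_lit 2, nat_lit 5, nat_lit 0, nat_lit 4, nat_lit 0, nat_lit 4, nat_lit 1, nat_lit 3, nat_lit 0, nat_lit 2, nat_lit 0, nat_lit 2, nat_lit 2, nat_lit 0, nat_lit 2])) (.node (nat_lit 2424) (.leaf ((nat_lit 666), [nat_lit 3, nat_lit 2, nat_lit 3, nat_lit 5, nat_lit 3, nat_lit 1, nat_lit 0, nat_lit 2, nat_lit 3, nat_lit 0, nat_lit 1, nat_lit 0, nat_lit 2, nat_lit 0, nat_lit 2])) (.leaf ((nat_lit 857), [nat_lit 4, nat_lit 5, nat_lit 3, nat_lit 2, nat_lit 5, nat_lit 3, nat_lit 1, nat_lit 4, nat_lit 2, nat_lit 4, nat_lit 3, nat_lit 0, nat_lit 2, nat_lit 2, nat_lit 0, nat_lit 1, nat_lit 0, nat_lit 2, nat_lit 0])))))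
 (.node (nat_lit 2428) (.node (nat_lit 2426) (.leaf ((nat_lit 945), [nat_lit 5, nat_lit 1, nat_lit 5, nat_lit 0, nat_lit 5, nat_lit 3, nat_lit 2, nat_lit 2, nat_lit 4, nat_lit 3, nat_lit 2, nat_lit 0, nat_lit 1, nat_lit 0, nat_lit 2, nat_lit 0, nat_lit 2, nat_lit 0])) (.node (nat_lit 2427) (.leaf ((nat_lit 1211), [nat_lit 0, nat_lit 1, nat_lit 5, nat_lit 1, nat_lit 0, nat_lit 3, nat_lit 4, nat_lit 2, nat_lit 0])) (.leaf ((nat_lit 1286), [nat_lit 2, nat_lit 5, nat_lit 2, nat_lit 3, nat_lit 5, nat_lit 2, nat_lit 3, nat_lit 2, nat_lit 4, nat_lit 3, nat_lit 0, nat_lit 2, nat_lit 2, nat_lit 0, nat_lit 2])))) (.node (nat_lit 2429) (.leaf ((nat_lit 1321), [nat_lit 1, nat_lit 0, nat_lit 2, nat_lit 5, nat_lit 2, nat_lit 0, nat_lit 3, nat_lit 2, nat_lit 3, nat_lit 0, nat_lit 1, nat_lit 0, nat_lit 2, nat_lit 2, nat_lit 0, nat_lit 2])) (.node (nat_lit 2430)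 (.leaf ((nat_lit 224), [nat_lit 3, nat_lit 5, nat_lit 3, nat_lit 0, nat_lit 5, nat_lit 2, nat_lit 3, nat_lit 1, nat_lit 3, nat_lit 0, nat_lit 3, nat_lit 2, nat_lit 2, nat_lit 0, nat_lit 2, nat_lit 2, nat_lit 0, nat_lit 2, nat_lit 2, nat_lit 0])) (.leaf ((nat_lit 71), [nat_lit 5, nat_lit 1, nat_lit 5, nat_lit 0, nat_lit 5, nat_lit 0, nat_lit 4, nat_lit 3, nat_lit 0, nat_lit 3, nat_lit 2, nat_lit 0, nat_lit 2, nat_lit 2, nat_lit 0]))))))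
 (.node (nat_lit 2436) (.node (nat_lit 2433) (.node (nat_lit 2432) (.leaf ((nat_lit 1111), [nat_lit 5, nat_lit 4, nat_lit 5, nat_lit 0, nat_lit 4, nat_lit 2, nat_lit 0, nat_lit 3, nat_lit 2, nat_lit 0, nat_lit 2, nat_lit 0, nat_lit 1])) (.leaf ((nat_lit 564), [nat_lit 2, nat_lit 2, nat_lit 0, nat_lit 5, nat_lit 4, nat_lit 3, nat_lit 1, nat_lit 4, nat_lit 0, nat_lit 2, nat_lit 2, nat_lit 0, nat_lit 2, nat_lit 0]))) (.node (nat_lit 2434) (.leaf ((nat_lit 119), [nat_lit 3, nat_lit 0, nat_lit 5, nat_lit 3, nat_lit 2, nat_lit 0, nat_lit 2, nat_lit 3, nat_lit 0, nat_lit 1, nat_lit 0, nat_lit 2, nat_lit 2, nat_lit 0, nat_lit 1, nat_lit 0])) (.node (nat_lit 2435) (.leaf ((nat_lit 263), [nat_lit 0, nat_lit 5, nat_lit 2, nat_lit 3, nat_lit 5, nat_lit 0, nat_lit 2, nat_lit 0, nat_lit 2, nat_lit 3, nat_lit 2, nat_lit 0, nat_lit 1, nat_lit 0, nat_lit 2, nat_lit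 0, nat_lit 2])) (.leaf ((nat_lit 356), [nat_lit 5, nat_lit 3, nat_lit 2, nat_lit 0, nat_lit 5, nat_lit 4, nat_lit 1, nat_lit 0, nat_lit 3, nat_lit 1, nat_lit 0, nat_lit 2, nat_lit 2])))))
 (.node (nat_lit 2439) (.node (nat_lit 2437) (.leaf ((nat_lit 1159), [nat_lit 0, nat_lit 4, nat_lit 5, nat_lit 2, nat_lit 3, nat_lit 4, nat_lit 3, nat_lit 0, nat_lit 3, nat_lit 1, nat_lit 0, nat_lit 1, nat_lit 0])) (.node (nat_lit 2438) (.leaf ((nat_lit 260), [nat_lit 4, nat_lit 5, nat_lit 2, nat_lit 3, nat_lit 5, nat_lit 0, nat_lit 3, nat_lit 0, nat_lit 2, nat_lit 4, nat_lit 0, nat_lit 2, nat_lit 0, nat_lit 1, nat_lit 0])) (.leaf ((nat_lit 216), [nat_lit 5, nat_lit 4, nat_lit 5, nat_lit 0, nat_lit 1, nat_lit 0, nat_lit 1, nat_lit 0, nat_lit 3, nat_lit 1, nat_lit 0, nat_lit 2, nat_lit 0, nat_lit 2])))) (.node (nat_lit 2440) (.leaf ((nat_lit 1382), [nat_lit 5, nat_lit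 4, nat_lit 5, nat_lit 1, nat_lit 4, nat_lit 2, nat_lit 4, nat_lit 2, nat_lit 2])) (.node (nat_lit 2441) (.leaf ((nat_lit 950), [nat_lit 2, nat_lit 2, nat_lit 0, nat_lit 5, nat_lit 3, nat_lit 1, nat_lit 4, nat_lit 2, nat_lit 4, nat_lit 3, nat_lit 2, nat_lit 2, nat_lit 0, nat_lit 2, nat_lit 2, nat_lit 0])) (.leaf ((nat_lit 1383), [nat_lit 3, nat_lit 4, nat_lit 5, nat_lit 2, nat_lit 5, nat_lit 4, nat_lit 0, nat_lit 4, nat_lit 0, nat_lit 4, nat_lit 2, nat_lit 2, nat_lit 0, nat_lit 2])))))))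
 (.node (nat_lit 2453) (.node (nat_lit 2447) (.node (nat_lit 2444) (.node (nat_lit 2443) (.leaf ((nat_lit 1285), [nat_lit 3, nat_lit 2, nat_lit 5, nat_lit 0, nat_lit 5, nat_lit 1, nat_lit 4, nat_lit 0, nat_lit 1, nat_lit 0, nat_lit 3, nat_lit 2, nat_lit 2, nat_lit 0, nat_lit 2, nat_lit 0, nat_lit 1, nat_lit 0])) (.leaf ((nat_lit 1384), [nat_lit 3, nat_lit 2, nat_lit 5, nat_lit 1, nat_lit 3, nat_lit 2, nat_lit 3, nat_lit 0, nat_lit 4, nat_lit 2, nat_lit 2, nat_lit 0, nat_lit 2, nat_lit 2, nat_lit 0, nat_lit 2]))) (.node (nat_lit 2445) (.leaf ((nat_lit 1383), [nat_lit 4, nat_lit 2, nat_lit 5, nat_lit 1, nat_lit 5, nat_lit 3, nat_lit 4, nat_lit 3, nat_lit 1, nat_lit 0, nat_lit 2, nat_lit 2, nat_lit 0, nat_lit 1])) (.node (nat_lit 2446) (.leaf ((nat_lit 760), [nat_lit 1, nat_lit 5, nat_lit 2, nat_lit 5, nat_lit 0, nat_lit 4, nat_lit 1, nat_lit 0, nat_lit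 4, nat_lit 0, nat_lit 2, nat_lit 0, nat_lit 1, nat_lit 0, nat_lit 1, nat_lit 0])) (.leaf ((nat_lit 873), [nat_lit 1, nat_lit 0, nat_lit 3, nat_lit 5, nat_lit 0, nat_lit 1, nat_lit 3, nat_lit 0, nat_lit 3, nat_lit 1, nat_lit 0, nat_lit 1, nat_lit 0, nat_lit 2, nat_lit 2, nat_lit 0])))))
 (.node (nat_lit 2450) (.node (nat_lit 2448) (.leaf ((nat_lit 371), [nat_lit 4, nat_lit 1, nat_lit 5, nat_lit 0, nat_lit 5, nat_lit 3, nat_lit 2, nat_lit 0, nat_lit 1, nat_lit 0, nat_lit 1, nat_lit 0])) (.node (nat_lit 2449) (.leaf ((nat_lit 1337), [nat_lit 5, nat_lit 4, nat_lit 3, nat_lit 5, nat_lit 2, nat_lit 5, nat_lit 2, nat_lit 4, nat_lit 0, nat_lit 3, nat_lit 4, nat_lit 2, nat_lit 2, nat_lit 0, nat_lit 2, nat_lit 2, nat_lit 0, nat_lit 2, nat_lit 2, nat_lit 0])) (.leaf ((nat_lit 39), [nat_lit 0, nat_lit 5, nat_lit 3, nat_lit 0, nat_lit 5, nat_lit 2, nat_lit 4,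 nat_lit 2, nat_lit 2, nat_lit 4, nat_lit 3, nat_lit 1, nat_lit 0, nat_lit 2, nat_lit 2, nat_lit 0, nat_lit 2])))) (.node (nat_lit 2451) (.leaf ((nat_lit 1282), [nat_lit 0, nat_lit 5, nat_lit 2, nat_lit 5, nat_lit 4, nat_lit 1, nat_lit 0, nat_lit 3, nat_lit 1, nat_lit 4, nat_lit 1, nat_lit 0, nat_lit 2, nat_lit 2, nat_lit 0, nat_lit 2, nat_lit 2, nat_lit 0])) (.node (nat_lit 2452) (.leaf ((nat_lit 1385), [nat_lit 1, nat_lit 3, nat_lit 0, nat_lit 5, nat_lit 0, nat_lit 1, nat_lit 4, nat_lit 3, nat_lit 2, nat_lit 3, nat_lit 1, nat_lit 0, nat_lit 2, nat_lit 2, nat_lit 0, nat_lit 2, nat_lit 2, nat_lit 0])) (.leaf ((nat_lit 177), [nat_lit 3, nat_lit 0, nat_lit 5, nat_lit 2, nat_lit 4, nat_lit 0, nat_lit 1, nat_lit 4, nat_lit 0, nat_lit 1]))))))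
 (.node (nat_lit 2458) (.node (nat_lit 2455) (.node (nat_lit 2454) (.leaf ((nat_lit 1005), [nat_lit 3, nat_lit 2, nat_lit 5, nat_lit 0, nat_lit 5, nat_lit 1, nat_lit 3, nat_lit 2, nat_lit 3, nat_lit 0, nat_lit 4, nat_lit 1, nat_lit 0, nat_lit 1, nat_lit 0])) (.leaf ((nat_lit 903), [nat_lit 2, nat_lit 4, nat_lit 2, nat_lit 0, nat_lit 5, nat_lit 2, nat_lit 3, nat_lit 0, nat_lit 3, nat_lit 2, nat_lit 0, nat_lit 2, nat_lit 2, nat_lit 0, nat_lit 2, nat_lit 2, nat_lit 0]))) (.node (nat_lit 2456) (.leaf ((nat_lit 1296), [nat_lit 5, nat_lit 2, nat_lit 3, nat_lit 5, nat_lit 3, nat_lit 4, nat_lit 3, nat_lit 1, nat_lit 0, nat_lit 2, nat_lit 0, nat_lit 2])) (.node (nat_lit 2457) (.leaf ((nat_lit 83), [nat_lit 0, nat_lit 5, nat_lit 2, nat_lit 3, nat_lit 5, nat_lit 1, nat_lit 3, nat_lit 4, nat_lit 1, nat_lit 3, nat_lit 2, nat_lit 0, nat_lit 2, nat_lit 2, nat_lit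 0, nat_lit 2, nat_lit 2])) (.leaf ((nat_lit 1195), [nat_lit 4, nat_lit 3, nat_lit 5, nat_lit 3, nat_lit 4, nat_lit 2, nat_lit 4, nat_lit 2, nat_lit 3, nat_lit 2, nat_lit 0, nat_lit 2, nat_lit 2, nat_lit 0, nat_lit 1, nat_lit 0])))))
 (.node (nat_lit 2461) (.node (nat_lit 2459) (.leaf ((nat_lit 73), [nat_lit 4, nat_lit 5, nat_lit 2, nat_lit 3, nat_lit 5, nat_lit 4, nat_lit 3, nat_lit 2, nat_lit 0, nat_lit 1, nat_lit 0, nat_lit 2, nat_lit 0])) (.node (nat_lit 2460) (.leaf ((nat_lit 1272), [nat_lit 0, nat_lit 5, nat_lit 2, nat_lit 3, nat_lit 5, nat_lit 3, nat_lit 0, nat_lit 4, nat_lit 2, nat_lit 0, nat_lit 3, nat_lit 2, nat_lit 2, nat_lit 0, nat_lit 2, nat_lit 2, nat_lit 0, nat_lit 1])) (.leaf ((nat_lit 558), [nat_lit 5, nat_lit 2, nat_lit 3, nat_lit 0, nat_lit 5, nat_lit 2, nat_lit 4, nat_lit 1, nat_lit 0, nat_lit 2, nat_lit 3, nat_lit 2, nat_lit 0,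 nat_lit 2, nat_lit 0, nat_lit 1, nat_lit 0])))) (.node (nat_lit 2462) (.leaf ((nat_lit 1180), [nat_lit 4, nat_lit 3, nat_lit 5, nat_lit 0, nat_lit 5, nat_lit 3, nat_lit 0, nat_lit 1, nat_lit 3, nat_lit 4, nat_lit 2, nat_lit 3, nat_lit 0, nat_lit 2, nat_lit 0, nat_lit 1, nat_lit 0, nat_lit 1])) (.node (nat_lit 2463) (.leaf ((nat_lit 812), [nat_lit 5, nat_lit 4, nat_lit 2, nat_lit 0, nat_lit 5, nat_lit 3, nat_lit 1, nat_lit 3, nat_lit 1, nat_lit 0, nat_lit 1, nat_lit 0, nat_lit 2, nat_lit 0, nat_lit 2])) (.leaf ((nat_lit 131), [nat_lit 3, nat_lit 5, nat_lit 2, nat_lit 3, nat_lit 0, nat_lit 5, nat_lit 3, nat_lit 0, nat_lit 4, nat_lit 2, nat_lit 0, nat_lit 3, nat_lit 2, nat_lit 2, nat_lit 0, nat_lit 1, nat_lit 0, nat_lit 2, nat_lit 2]))))))))))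
noncomputable def qWd_14 : Tr (ℕ × List ℕ) := (.node (nat_lit 2552) (.node (nat_lit 2508) (.node (nat_lit 2486) (.node (nat_lit 2475) (.node (nat_lit 2469) (.node (nat_lit 2466) (.node (nat_lit 2465) (.leaf ((nat_lit 538), [nat_lit 2, nat_lit 0, nat_lit 1, nat_lit 5, nat_lit 2, nat_lit 0, nat_lit 2, nat_lit 4, nat_lit 2, nat_lit 0, nat_lit 2, nat_lit 2, nat_lit 0, nat_lit 1])) (.leaf ((nat_lit 550), [nat_lit 2, nat_lit 5, nat_lit 2, nat_lit 3, nat_lit 5, nat_lit 2, nat_lit 4, nat_lit 3, nat_lit 2, nat_lit 2, nat_lit 3, nat_lit 2, nat_lit 2, nat_lit 0, nat_lit 2, nat_lit 2, nat_lit 0, nat_lit 2, nat_lit 2]))) (.node (nat_lit 2467) (.leaf ((nat_lit 629), [nat_lit 3, nat_lit 4, nat_lit 5, nat_lit 3, nat_lit 2, nat_lit 0, nat_lit 2, nat_lit 2, nat_lit 3, nat_lit 2, nat_lit 2, nat_lit 0, nat_lit 1, nat_lit 0, nat_lit 2, nat_lit 0])) (.node (nat_lit 2468)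 (.leaf ((nat_lit 1341), [nat_lit 5, nat_lit 1, nat_lit 5, nat_lit 0, nat_lit 5, nat_lit 4, nat_lit 2, nat_lit 3, nat_lit 1, nat_lit 3, nat_lit 2, nat_lit 2, nat_lit 0, nat_lit 2, nat_lit 2, nat_lit 0])) (.leaf ((nat_lit 1161), [nat_lit 5, nat_lit 0, nat_lit 4, nat_lit 5, nat_lit 3, nat_lit 2, nat_lit 3, nat_lit 1, nat_lit 0, nat_lit 2, nat_lit 2])))))
 (.node (nat_lit 2472) (.node (nat_lit 2470) (.leaf ((nat_lit 1316), [nat_lit 5, nat_lit 2, nat_lit 4, nat_lit 0, nat_lit 5, nat_lit 3, nat_lit 2, nat_lit 2, nat_lit 3, nat_lit 2, nat_lit 2, nat_lit 0, nat_lit 2, nat_lit 2, nat_lit 0, nat_lit 1, nat_lit 0])) (.node (nat_lit 2471) (.leaf ((nat_lit 831), [nat_lit 3, nat_lit 1, nat_lit 3, nat_lit 0, nat_lit 5, nat_lit 2, nat_lit 2, nat_lit 0, nat_lit 3, nat_lit 0, nat_lit 1, nat_lit 0, nat_lit 2, nat_lit 2, nat_lit 0, nat_lit 2, nat_lit 0])) (.leaf ((nat_lit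 818), [nat_lit 5, nat_lit 1, nat_lit 0, nat_lit 2, nat_lit 5, nat_lit 3, nat_lit 0, nat_lit 3, nat_lit 2, nat_lit 0, nat_lit 3, nat_lit 0, nat_lit 2, nat_lit 0, nat_lit 1, nat_lit 0, nat_lit 1, nat_lit 0])))) (.node (nat_lit 2473) (.leaf ((nat_lit 631), [nat_lit 0, nat_lit 4, nat_lit 5, nat_lit 0, nat_lit 3, nat_lit 0, nat_lit 1, nat_lit 4, nat_lit 1, nat_lit 0, nat_lit 2, nat_lit 0, nat_lit 2, nat_lit 2, nat_lit 0])) (.node (nat_lit 2474) (.leaf ((nat_lit 1342), [nat_lit 0, nat_lit 2, nat_lit 5, nat_lit 0, nat_lit 2, nat_lit 2, nat_lit 3, nat_lit 1, nat_lit 0, nat_lit 1, nat_lit 0, nat_lit 2, nat_lit 0, nat_lit 2, nat_lit 0])) (.leaf ((nat_lit 994), [nat_lit 4, nat_lit 3, nat_lit 2, nat_lit 5, nat_lit 3, nat_lit 2, nat_lit 3, nat_lit 0, nat_lit 4, nat_lit 2, nat_lit 0, nat_lit 1, nat_lit 0]))))))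
 (.node (nat_lit 2480) (.node (nat_lit 2477) (.node (nat_lit 2476) (.leaf ((nat_lit 1361), [nat_lit 5, nat_lit 3, nat_lit 2, nat_lit 0, nat_lit 5, nat_lit 3, nat_lit 1, nat_lit 4, nat_lit 3, nat_lit 0, nat_lit 1, nat_lit 0, nat_lit 2, nat_lit 0, nat_lit 2, nat_lit 2, nat_lit 0])) (.leaf ((nat_lit 1345), [nat_lit 1, nat_lit 3, nat_lit 2, nat_lit 5, nat_lit 3, nat_lit 4, nat_lit 2, nat_lit 3, nat_lit 0, nat_lit 1, nat_lit 0, nat_lit 1, nat_lit 0, nat_lit 2]))) (.node (nat_lit 2478) (.leaf ((nat_lit 539), [nat_lit 4, nat_lit 5, nat_lit 4, nat_lit 0, nat_lit 5, nat_lit 1, nat_lit 0, nat_lit 2, nat_lit 0, nat_lit 2, nat_lit 4, nat_lit 0, nat_lit 1, nat_lit 0, nat_lit 2, nat_lit 0, nat_lit 2, nat_lit 2, nat_lit 0])) (.node (nat_lit 2479) (.leaf ((nat_lit 1024), [nat_lit 3, nat_lit 2, nat_lit 3, nat_lit 5, nat_lit 3, nat_lit 2, nat_lit 2, nat_lit 3, nat_lit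 2, nat_lit 2, nat_lit 0, nat_lit 2, nat_lit 2, nat_lit 0, nat_lit 2])) (.leaf ((nat_lit 973), [nat_lit 3, nat_lit 2, nat_lit 0, nat_lit 5, nat_lit 2, nat_lit 3, nat_lit 1, nat_lit 3, nat_lit 0, nat_lit 2, nat_lit 0, nat_lit 1, nat_lit 0])))))
 (.node (nat_lit 2483) (.node (nat_lit 2481) (.leaf ((nat_lit 1370), [nat_lit 4, nat_lit 0, nat_lit 5, nat_lit 2, nat_lit 5, nat_lit 3, nat_lit 2, nat_lit 3, nat_lit 0, nat_lit 4, nat_lit 2, nat_lit 0, nat_lit 2, nat_lit 2, nat_lit 0, nat_lit 2, nat_lit 0])) (.node (nat_lit 2482) (.leaf ((nat_lit 1343), [nat_lit 2, nat_lit 4, nat_lit 5, nat_lit 2, nat_lit 0, nat_lit 5, nat_lit 1, nat_lit 3, nat_lit 0, nat_lit 4, nat_lit 2, nat_lit 2, nat_lit 0, nat_lit 2, nat_lit 2, nat_lit 0, nat_lit 1])) (.leaf ((nat_lit 931), [nat_lit 4, nat_lit 5, nat_lit 1, nat_lit 5, nat_lit 4, nat_lit 3, nat_lit 0, nat_lit 1, nat_lit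 0, nat_lit 3, nat_lit 0, nat_lit 1, nat_lit 0, nat_lit 2, nat_lit 2, nat_lit 0, nat_lit 1])))) (.node (nat_lit 2484) (.leaf ((nat_lit 995), [nat_lit 2, nat_lit 5, nat_lit 1, nat_lit 5, nat_lit 0, nat_lit 4, nat_lit 1, nat_lit 3])) (.node (nat_lit 2485) (.leaf ((nat_lit 953), [nat_lit 2, nat_lit 5, nat_lit 0, nat_lit 5, nat_lit 0, nat_lit 4, nat_lit 3, nat_lit 2, nat_lit 3, nat_lit 2, nat_lit 2, nat_lit 0, nat_lit 1])) (.leaf ((nat_lit 1358), [nat_lit 3, nat_lit 0, nat_lit 5, nat_lit 1, nat_lit 4, nat_lit 3, nat_lit 1, nat_lit 0, nat_lit 4, nat_lit 0, nat_lit 2, nat_lit 0, nat_lit 2, nat_lit 2, nat_lit 0, nat_lit 2])))))))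
 (.node (nat_lit 2497) (.node (nat_lit 2491) (.node (nat_lit 2488) (.node (nat_lit 2487) (.leaf ((nat_lit 1157), [nat_lit 5, nat_lit 4, nat_lit 2, nat_lit 0, nat_lit 5, nat_lit 1, nat_lit 3, nat_lit 1, nat_lit 0, nat_lit 4, nat_lit 1, nat_lit 0, nat_lit 1])) (.leaf ((nat_lit 503), [nat_lit 3, nat_lit 2, nat_lit 5, nat_lit 4, nat_lit 0, nat_lit 4, nat_lit 3, nat_lit 2, nat_lit 2, nat_lit 0, nat_lit 2, nat_lit 2, nat_lit 0, nat_lit 2]))) (.node (nat_lit 2489) (.leaf ((nat_lit 362), [nat_lit 3, nat_lit 5, nat_lit 1, nat_lit 4, nat_lit 0, nat_lit 3, nat_lit 2, nat_lit 3, nat_lit 0, nat_lit 1, nat_lit 0, nat_lit 2, nat_lit 0, nat_lit 2, nat_lit 0])) (.node (nat_lit 2490) (.leaf ((nat_lit 354), [nat_lit 0, nat_lit 2, nat_lit 5, nat_lit 2, nat_lit 0, nat_lit 2, nat_lit 0])) (.leaf ((nat_lit 922), [nat_lit 1, nat_lit 0, nat_lit 5, nat_lit 4, nat_lit 2, nat_lit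 4, nat_lit 1, nat_lit 0, nat_lit 3, nat_lit 0, nat_lit 1, nat_lit 0, nat_lit 2, nat_lit 0, nat_lit 2])))))
 (.node (nat_lit 2494) (.node (nat_lit 2492) (.leaf ((nat_lit 1331), [nat_lit 0, nat_lit 5, nat_lit 3, nat_lit 5, nat_lit 1, nat_lit 0, nat_lit 2, nat_lit 3, nat_lit 0, nat_lit 2, nat_lit 2, nat_lit 0, nat_lit 1, nat_lit 0, nat_lit 2])) (.node (nat_lit 2493) (.leaf ((nat_lit 610), [nat_lit 4, nat_lit 0, nat_lit 5, nat_lit 2, nat_lit 5, nat_lit 2, nat_lit 4, nat_lit 2, nat_lit 3, nat_lit 0, nat_lit 3, nat_lit 0, nat_lit 2, nat_lit 2, nat_lit 0, nat_lit 1, nat_lit 0])) (.leaf ((nat_lit 344), [nat_lit 4, nat_lit 5, nat_lit 0, nat_lit 2, nat_lit 0, nat_lit 2, nat_lit 4, nat_lit 2, nat_lit 2, nat_lit 0, nat_lit 2])))) (.node (nat_lit 2495) (.leaf ((nat_lit 318), [nat_lit 1, nat_lit 4, nat_lit 2, nat_lit 5, nat_lit 1, nat_lit 3, nat_lit 2, nat_lit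 0, nat_lit 4, nat_lit 2, nat_lit 2, nat_lit 0, nat_lit 2, nat_lit 2, nat_lit 0, nat_lit 1, nat_lit 0])) (.node (nat_lit 2496) (.leaf ((nat_lit 660), [nat_lit 1, nat_lit 0, nat_lit 5, nat_lit 3, nat_lit 5, nat_lit 4, nat_lit 3, nat_lit 0, nat_lit 4, nat_lit 1, nat_lit 0, nat_lit 3, nat_lit 2, nat_lit 0, nat_lit 2, nat_lit 0, nat_lit 1])) (.leaf ((nat_lit 935), [nat_lit 3, nat_lit 5, nat_lit 3, nat_lit 0, nat_lit 5, nat_lit 1, nat_lit 4, nat_lit 1, nat_lit 3, nat_lit 1, nat_lit 3, nat_lit 0, nat_lit 2, nat_lit 0, nat_lit 2, nat_lit 2, nat_lit 0, nat_lit 2]))))))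
 (.node (nat_lit 2502) (.node (nat_lit 2499) (.node (nat_lit 2498) (.leaf ((nat_lit 1066), [nat_lit 5, nat_lit 1, nat_lit 0, nat_lit 3, nat_lit 5, nat_lit 4, nat_lit 3, nat_lit 1, nat_lit 3, nat_lit 0, nat_lit 3, nat_lit 0, nat_lit 2, nat_lit 0, nat_lit 2, nat_lit 2, nat_lit 0, nat_lit 2])) (.leaf ((nat_lit 1386), [nat_lit 5, nat_lit 4, nat_lit 0, nat_lit 5, nat_lit 1, nat_lit 3, nat_lit 4, nat_lit 3, nat_lit 0, nat_lit 3, nat_lit 1, nat_lit 0, nat_lit 2, nat_lit 2]))) (.node (nat_lit 2500) (.leaf ((nat_lit 1151), [nat_lit 4, nat_lit 3, nat_lit 5, nat_lit 0, nat_lit 5, nat_lit 2, nat_lit 2, nat_lit 3, nat_lit 1, nat_lit 0])) (.node (nat_lit 2501) (.leaf ((nat_lit 1098), [nat_lit 0, nat_lit 2, nat_lit 5, nat_lit 3, nat_lit 0, nat_lit 1, nat_lit 0, nat_lit 4, nat_lit 2, nat_lit 2, nat_lit 0, nat_lit 2, nat_lit 2, nat_lit 0, nat_lit 1])) (.leaf ((nat_lit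 1262), [nat_lit 4, nat_lit 2, nat_lit 5, nat_lit 1, nat_lit 5, nat_lit 2, nat_lit 0, nat_lit 3, nat_lit 1, nat_lit 3, nat_lit 1, nat_lit 0, nat_lit 1])))))
 (.node (nat_lit 2505) (.node (nat_lit 2503) (.leaf ((nat_lit 1324), [nat_lit 5, nat_lit 4, nat_lit 3, nat_lit 2, nat_lit 5, nat_lit 1, nat_lit 3, nat_lit 4, nat_lit 1, nat_lit 3, nat_lit 0, nat_lit 2, nat_lit 2, nat_lit 0, nat_lit 1, nat_lit 0])) (.node (nat_lit 2504) (.leaf ((nat_lit 821), [nat_lit 2, nat_lit 5, nat_lit 2, nat_lit 3, nat_lit 5, nat_lit 3, nat_lit 1, nat_lit 4, nat_lit 3, nat_lit 2, nat_lit 0, nat_lit 3, nat_lit 0, nat_lit 1, nat_lit 0, nat_lit 1, nat_lit 0])) (.leaf ((nat_lit 651), [nat_lit 5, nat_lit 1, nat_lit 5, nat_lit 2, nat_lit 4, nat_lit 2, nat_lit 4, nat_lit 0, nat_lit 2, nat_lit 2, nat_lit 0, nat_lit 2, nat_lit 0])))) (.node (nat_lit 2506) (.leaf ((nat_lit 1197), [nat_lit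 0, nat_lit 5, nat_lit 3, nat_lit 0, nat_lit 5, nat_lit 3, nat_lit 2, nat_lit 0, nat_lit 4, nat_lit 1, nat_lit 4, nat_lit 0, nat_lit 1, nat_lit 0, nat_lit 1, nat_lit 0, nat_lit 2, nat_lit 0])) (.node (nat_lit 2507) (.leaf ((nat_lit 1271), [nat_lit 1, nat_lit 0, nat_lit 2, nat_lit 5, nat_lit 2, nat_lit 0, nat_lit 4, nat_lit 1, nat_lit 3, nat_lit 2, nat_lit 0, nat_lit 1, nat_lit 0, nat_lit 2, nat_lit 2])) (.leaf ((nat_lit 521), [nat_lit 4, nat_lit 1, nat_lit 3, nat_lit 0, nat_lit 1, nat_lit 4, nat_lit 0, nat_lit 1, nat_lit 0, nat_lit 2, nat_lit 2, nat_lit 0, nat_lit 2]))))))))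
 (.node (nat_lit 2530) (.node (nat_lit 2519) (.node (nat_lit 2513) (.node (nat_lit 2510) (.node (nat_lit 2509) (.leaf ((nat_lit 1049), [nat_lit 0, nat_lit 5, nat_lit 2, nat_lit 0, nat_lit 5, nat_lit 1, nat_lit 3, nat_lit 0, nat_lit 1, nat_lit 0, nat_lit 1, nat_lit 0])) (.leaf ((nat_lit 1378), [nat_lit 0, nat_lit 3, nat_lit 5, nat_lit 4, nat_lit 0, nat_lit 4, nat_lit 1, nat_lit 3, nat_lit 1]))) (.node (nat_lit 2511) (.leaf ((nat_lit 775), [nat_lit 3, nat_lit 1, nat_lit 5, nat_lit 2, nat_lit 5, nat_lit 3, nat_lit 2, nat_lit 3, nat_lit 2, nat_lit 4, nat_lit 0, nat_lit 2, nat_lit 2, nat_lit 0, nat_lit 2, nat_lit 2])) (.node (nat_lit 2512) (.leaf ((nat_lit 848), [nat_lit 3, nat_lit 5, nat_lit 0, nat_lit 3, nat_lit 5, nat_lit 0, nat_lit 2, nat_lit 4, nat_lit 0, nat_lit 1, nat_lit 0, nat_lit 2, nat_lit 0])) (.leaf ((nat_lit 755), [nat_lit 3, nat_lit 5,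 nat_lit 3, nat_lit 0, nat_lit 3, nat_lit 1, nat_lit 4, nat_lit 0])))))
 (.node (nat_lit 2516) (.node (nat_lit 2514) (.leaf ((nat_lit 463), [nat_lit 2, nat_lit 2, nat_lit 0, nat_lit 5, nat_lit 4, nat_lit 1, nat_lit 3, nat_lit 4, nat_lit 3, nat_lit 1, nat_lit 0, nat_lit 2, nat_lit 0, nat_lit 2, nat_lit 2, nat_lit 0])) (.node (nat_lit 2515) (.leaf ((nat_lit 425), [nat_lit 0, nat_lit 5, nat_lit 2, nat_lit 5, nat_lit 4, nat_lit 2, nat_lit 0, nat_lit 1, nat_lit 0, nat_lit 3, nat_lit 2, nat_lit 2, nat_lit 0, nat_lit 2, nat_lit 0])) (.leaf ((nat_lit 1232), [nat_lit 3, nat_lit 2, nat_lit 5, nat_lit 1, nat_lit 4, nat_lit 3, nat_lit 1, nat_lit 3, nat_lit 1, nat_lit 0, nat_lit 2, nat_lit 0, nat_lit 1])))) (.node (nat_lit 2517) (.leaf ((nat_lit 661), [nat_lit 5, nat_lit 2, nat_lit 4, nat_lit 0, nat_lit 5, nat_lit 0, nat_lit 2, nat_lit 3, nat_lit 2, nat_lit 0,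 nat_lit 3, nat_lit 0, nat_lit 1, nat_lit 0, nat_lit 2, nat_lit 0, nat_lit 2])) (.node (nat_lit 2518) (.leaf ((nat_lit 101), [nat_lit 2, nat_lit 4, nat_lit 2, nat_lit 0, nat_lit 5, nat_lit 1, nat_lit 4, nat_lit 2, nat_lit 0, nat_lit 2, nat_lit 3, nat_lit 2, nat_lit 0, nat_lit 1, nat_lit 0, nat_lit 2, nat_lit 0, nat_lit 2, nat_lit 0])) (.leaf ((nat_lit 988), [nat_lit 5, nat_lit 4, nat_lit 5, nat_lit 3, nat_lit 5, nat_lit 3, nat_lit 1, nat_lit 3, nat_lit 4, nat_lit 0, nat_lit 1, nat_lit 0, nat_lit 2, nat_lit 2, nat_lit 0, nat_lit 1]))))))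
 (.node (nat_lit 2524) (.node (nat_lit 2521) (.node (nat_lit 2520) (.leaf ((nat_lit 792), [nat_lit 2, nat_lit 3, nat_lit 5, nat_lit 3, nat_lit 0, nat_lit 4, nat_lit 3, nat_lit 2, nat_lit 3, nat_lit 0, nat_lit 2, nat_lit 0, nat_lit 2, nat_lit 2, nat_lit 0, nat_lit 2])) (.leaf ((nat_lit 1377), [nat_lit 4, nat_lit 3, nat_lit 0, nat_lit 5, nat_lit 0, nat_lit 1, nat_lit 0, nat_lit 4, nat_lit 2, nat_lit 2, nat_lit 0, nat_lit 2, nat_lit 2, nat_lit 0, nat_lit 2, nat_lit 2]))) (.node (nat_lit 2522) (.leaf ((nat_lit 1236), [nat_lit 5, nat_lit 4, nat_lit 0, nat_lit 5, nat_lit 1, nat_lit 3, nat_lit 4, nat_lit 3, nat_lit 1, nat_lit 3, nat_lit 1, nat_lit 0, nat_lit 1, nat_lit 0, nat_lit 2, nat_lit 0, nat_lit 2])) (.node (nat_lit 2523) (.leaf ((nat_lit 410), [nat_lit 1, nat_lit 3, nat_lit 0, nat_lit 5, nat_lit 2, nat_lit 2, nat_lit 4, nat_lit 2, nat_lit 4, nat_lit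 2, nat_lit 2, nat_lit 0, nat_lit 2, nat_lit 2, nat_lit 0, nat_lit 2, nat_lit 0])) (.leaf ((nat_lit 90), [nat_lit 1, nat_lit 5, nat_lit 0, nat_lit 5, nat_lit 2, nat_lit 3, nat_lit 1, nat_lit 0, nat_lit 2, nat_lit 3, nat_lit 2, nat_lit 0, nat_lit 2, nat_lit 2, nat_lit 0, nat_lit 2, nat_lit 2])))))
 (.node (nat_lit 2527) (.node (nat_lit 2525) (.leaf ((nat_lit 341), [nat_lit 3, nat_lit 2, nat_lit 5, nat_lit 0, nat_lit 5, nat_lit 0, nat_lit 2, nat_lit 0, nat_lit 4, nat_lit 1, nat_lit 4, nat_lit 1, nat_lit 0, nat_lit 1, nat_lit 0])) (.node (nat_lit 2526) (.leaf ((nat_lit 1387), [nat_lit 5, nat_lit 4, nat_lit 3, nat_lit 0, nat_lit 5, nat_lit 3, nat_lit 4, nat_lit 1, nat_lit 0, nat_lit 3, nat_lit 0, nat_lit 2, nat_lit 2, nat_lit 0, nat_lit 2, nat_lit 0])) (.leaf ((nat_lit 1190), [nat_lit 1, nat_lit 5, nat_lit 2, nat_lit 5, nat_lit 0, nat_lit 4, nat_lit 0,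 nat_lit 1, nat_lit 4, nat_lit 3, nat_lit 0, nat_lit 1, nat_lit 0, nat_lit 2, nat_lit 2, nat_lit 0, nat_lit 2])))) (.node (nat_lit 2528) (.leaf ((nat_lit 184), [nat_lit 4, nat_lit 5, nat_lit 3, nat_lit 5, nat_lit 3, nat_lit 0, nat_lit 1, nat_lit 0, nat_lit 2, nat_lit 2, nat_lit 0, nat_lit 1])) (.node (nat_lit 2529) (.leaf ((nat_lit 890), [nat_lit 0, nat_lit 3, nat_lit 5, nat_lit 3, nat_lit 0, nat_lit 3, nat_lit 4, nat_lit 3, nat_lit 1, nat_lit 0, nat_lit 1, nat_lit 0, nat_lit 2, nat_lit 2, nat_lit 0])) (.leaf ((nat_lit 1148), [nat_lit 5, nat_lit 4, nat_lit 3, nat_lit 2, nat_lit 5, nat_lit 0, nat_lit 4, nat_lit 1, nat_lit 4, nat_lit 1, nat_lit 0, nat_lit 2, nat_lit 0, nat_lit 2, nat_lit 2, nat_lit 0])))))))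
 (.node (nat_lit 2541) (.node (nat_lit 2535) (.node (nat_lit 2532) (.node (nat_lit 2531) (.leaf ((nat_lit 1328), [nat_lit 4, nat_lit 5, nat_lit 2, nat_lit 5, nat_lit 3, nat_lit 2, nat_lit 3, nat_lit 1, nat_lit 0, nat_lit 1, nat_lit 0, nat_lit 2, nat_lit 0, nat_lit 2, nat_lit 0])) (.leaf ((nat_lit 1388), [nat_lit 4, nat_lit 5, nat_lit 0, nat_lit 3, nat_lit 5, nat_lit 4, nat_lit 3, nat_lit 2, nat_lit 3, nat_lit 0, nat_lit 3, nat_lit 0, nat_lit 1, nat_lit 0]))) (.node (nat_lit 2533) (.leaf ((nat_lit 1320), [nat_lit 4, nat_lit 3, nat_lit 5, nat_lit 2, nat_lit 5, nat_lit 3, nat_lit 0, nat_lit 4, nat_lit 2, nat_lit 0, nat_lit 3, nat_lit 1, nat_lit 0, nat_lit 2, nat_lit 2, nat_lit 0])) (.node (nat_lit 2534) (.leaf ((nat_lit 471), [nat_lit 0, nat_lit 4, nat_lit 5, nat_lit 3, nat_lit 2, nat_lit 3, nat_lit 2, nat_lit 4, nat_lit 0, nat_lit 2, nat_lit 2, nat_lit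 0])) (.leaf ((nat_lit 869), [nat_lit 2, nat_lit 0, nat_lit 5, nat_lit 1, nat_lit 4, nat_lit 0, nat_lit 4, nat_lit 2, nat_lit 0, nat_lit 3, nat_lit 0, nat_lit 2, nat_lit 0, nat_lit 1])))))
 (.node (nat_lit 2538) (.node (nat_lit 2536) (.leaf ((nat_lit 1389), [nat_lit 3, nat_lit 0, nat_lit 5, nat_lit 4, nat_lit 0, nat_lit 1, nat_lit 0, nat_lit 1, nat_lit 0, nat_lit 3, nat_lit 0, nat_lit 2, nat_lit 2, nat_lit 0, nat_lit 2, nat_lit 0, nat_lit 1])) (.node (nat_lit 2537) (.leaf ((nat_lit 1390), [nat_lit 5, nat_lit 2, nat_lit 3, nat_lit 5, nat_lit 1, nat_lit 3, nat_lit 1, nat_lit 4, nat_lit 0, nat_lit 1, nat_lit 0, nat_lit 2, nat_lit 2, nat_lit 0, nat_lit 2])) (.leaf ((nat_lit 1173), [nat_lit 5, nat_lit 2, nat_lit 2, nat_lit 0, nat_lit 5, nat_lit 2, nat_lit 2, nat_lit 0, nat_lit 3, nat_lit 4, nat_lit 1, nat_lit 0, nat_lit 1, nat_lit 0, nat_lit 2, nat_lit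 0, nat_lit 2])))) (.node (nat_lit 2539) (.leaf ((nat_lit 1332), [nat_lit 5, nat_lit 3, nat_lit 0, nat_lit 5, nat_lit 2, nat_lit 3, nat_lit 2, nat_lit 0, nat_lit 4, nat_lit 1, nat_lit 0, nat_lit 2, nat_lit 2])) (.node (nat_lit 2540) (.leaf ((nat_lit 612), [nat_lit 4, nat_lit 5, nat_lit 3, nat_lit 2, nat_lit 5, nat_lit 0, nat_lit 3, nat_lit 1, nat_lit 3, nat_lit 4, nat_lit 1, nat_lit 0, nat_lit 2])) (.leaf ((nat_lit 1224), [nat_lit 4, nat_lit 2, nat_lit 5, nat_lit 1, nat_lit 5, nat_lit 2, nat_lit 2, nat_lit 0, nat_lit 3, nat_lit 0, nat_lit 4, nat_lit 0, nat_lit 2, nat_lit 0, nat_lit 2, nat_lit 0]))))))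
 (.node (nat_lit 2546) (.node (nat_lit 2543) (.node (nat_lit 2542) (.leaf ((nat_lit 1391), [nat_lit 5, nat_lit 2, nat_lit 0, nat_lit 5, nat_lit 1, nat_lit 4, nat_lit 1, nat_lit 4, nat_lit 3, nat_lit 2, nat_lit 2, nat_lit 0, nat_lit 2, nat_lit 0, nat_lit 1])) (.leaf ((nat_lit 716), [nat_lit 5, nat_lit 0, nat_lit 1, nat_lit 5, nat_lit 3, nat_lit 4, nat_lit 1, nat_lit 4, nat_lit 3, nat_lit 2, nat_lit 2, nat_lit 0, nat_lit 2, nat_lit 2, nat_lit 0, nat_lit 2]))) (.node (nat_lit 2544) (.leaf ((nat_lit 816), [nat_lit 5, nat_lit 4, nat_lit 1, nat_lit 0, nat_lit 5, nat_lit 0, nat_lit 3, nat_lit 2, nat_lit 3, nat_lit 1, nat_lit 0, nat_lit 2, nat_lit 2, nat_lit 0, nat_lit 2, nat_lit 0])) (.node (nat_lit 2545) (.leaf ((nat_lit 507), [nat_lit 3, nat_lit 2, nat_lit 3, nat_lit 5, nat_lit 3, nat_lit 4, nat_lit 0, nat_lit 2, nat_lit 4, nat_lit 0, nat_lit 2, nat_lit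 0, nat_lit 2, nat_lit 2])) (.leaf ((nat_lit 773), [nat_lit 3, nat_lit 1, nat_lit 5, nat_lit 2, nat_lit 5, nat_lit 3, nat_lit 2, nat_lit 3, nat_lit 0, nat_lit 1, nat_lit 0, nat_lit 2, nat_lit 2, nat_lit 0, nat_lit 1, nat_lit 0])))))
 (.node (nat_lit 2549) (.node (nat_lit 2547) (.leaf ((nat_lit 1086), [nat_lit 5, nat_lit 4, nat_lit 1, nat_lit 0, nat_lit 5, nat_lit 1, nat_lit 4, nat_lit 0, nat_lit 3, nat_lit 2, nat_lit 3, nat_lit 0, nat_lit 2, nat_lit 2, nat_lit 0, nat_lit 2, nat_lit 0])) (.node (nat_lit 2548) (.leaf ((nat_lit 799), [nat_lit 0, nat_lit 2, nat_lit 4, nat_lit 0, nat_lit 5, nat_lit 4, nat_lit 0, nat_lit 1, nat_lit 0, nat_lit 2, nat_lit 0, nat_lit 2])) (.leaf ((nat_lit 1281), [nat_lit 5, nat_lit 2, nat_lit 3, nat_lit 5, nat_lit 4, nat_lit 1, nat_lit 3, nat_lit 1, nat_lit 3, nat_lit 2, nat_lit 0, nat_lit 2, nat_lit 0])))) (.node (nat_lit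 2550) (.leaf ((nat_lit 854), [nat_lit 4, nat_lit 2, nat_lit 5, nat_lit 1, nat_lit 5, nat_lit 1, nat_lit 4, nat_lit 3, nat_lit 1, nat_lit 0, nat_lit 4, nat_lit 0, nat_lit 1])) (.node (nat_lit 2551) (.leaf ((nat_lit 1298), [nat_lit 3, nat_lit 5, nat_lit 1, nat_lit 3, nat_lit 2, nat_lit 5, nat_lit 2, nat_lit 4, nat_lit 3, nat_lit 1, nat_lit 4, nat_lit 3, nat_lit 0, nat_lit 1, nat_lit 0, nat_lit 2, nat_lit 0])) (.leaf ((nat_lit 581), [nat_lit 0, nat_lit 5, nat_lit 2, nat_lit 3, nat_lit 5, nat_lit 0, nat_lit 3, nat_lit 0, nat_lit 2, nat_lit 4, nat_lit 0, nat_lit 2, nat_lit 0, nat_lit 1])))))))))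
 (.node (nat_lit 2596) (.node (nat_lit 2574) (.node (nat_lit 2563) (.node (nat_lit 2557) (.node (nat_lit 2554) (.node (nat_lit 2553) (.leaf ((nat_lit 1241), [nat_lit 5, nat_lit 3, nat_lit 0, nat_lit 5, nat_lit 4, nat_lit 1, nat_lit 3, nat_lit 0, nat_lit 1, nat_lit 4, nat_lit 2, nat_lit 0, nat_lit 1])) (.leaf ((nat_lit 595), [nat_lit 4, nat_lit 1, nat_lit 0, nat_lit 5, nat_lit 3, nat_lit 2, nat_lit 3, nat_lit 0, nat_lit 3, nat_lit 0, nat_lit 1, nat_lit 0, nat_lit 2, nat_lit 2, nat_lit 0, nat_lit 1]))) (.node (nat_lit 2555) (.leaf ((nat_lit 1250), [nat_lit 4, nat_lit 3, nat_lit 5, nat_lit 0, nat_lit 5, nat_lit 2, nat_lit 2, nat_lit 0, nat_lit 4, nat_lit 0, nat_lit 1, nat_lit 0, nat_lit 2, nat_lit 2, nat_lit 0, nat_lit 2])) (.node (nat_lit 2556) (.leaf ((nat_lit 1270), [nat_lit 5, nat_lit 4, nat_lit 5, nat_lit 1, nat_lit 0, nat_lit 2, nat_lit 3, nat_lit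 2, nat_lit 0, nat_lit 2])) (.leaf ((nat_lit 191), [nat_lit 4, nat_lit 5, nat_lit 2, nat_lit 0, nat_lit 5, nat_lit 4, nat_lit 1, nat_lit 3, nat_lit 2, nat_lit 4, nat_lit 2, nat_lit 0])))))
 (.node (nat_lit 2560) (.node (nat_lit 2558) (.leaf ((nat_lit 1260), [nat_lit 2, nat_lit 3, nat_lit 0, nat_lit 5, nat_lit 0, nat_lit 1, nat_lit 3, nat_lit 4, nat_lit 1, nat_lit 3, nat_lit 1, nat_lit 0, nat_lit 2, nat_lit 0, nat_lit 1])) (.node (nat_lit 2559) (.leaf ((nat_lit 1347), [nat_lit 2, nat_lit 0, nat_lit 1, nat_lit 5, nat_lit 3, nat_lit 0, nat_lit 4, nat_lit 2, nat_lit 0, nat_lit 2])) (.leaf ((nat_lit 1269), [nat_lit 3, nat_lit 0, nat_lit 2, nat_lit 5, nat_lit 0, nat_lit 3, nat_lit 2, nat_lit 3, nat_lit 1, nat_lit 0, nat_lit 2, nat_lit 2, nat_lit 0])))) (.node (nat_lit 2561) (.leaf ((nat_lit 1134), [nat_lit 5, nat_lit 4, nat_lit 2, nat_lit 0, nat_lit 3,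 nat_lit 0, nat_lit 4, nat_lit 1, nat_lit 0, nat_lit 2, nat_lit 2, nat_lit 0, nat_lit 1])) (.node (nat_lit 2562) (.leaf ((nat_lit 430), [nat_lit 2, nat_lit 5, nat_lit 3, nat_lit 5, nat_lit 4, nat_lit 1, nat_lit 3, nat_lit 4, nat_lit 2, nat_lit 2])) (.leaf ((nat_lit 1036), [nat_lit 4, nat_lit 3, nat_lit 5, nat_lit 2, nat_lit 5, nat_lit 4, nat_lit 2, nat_lit 0, nat_lit 2, nat_lit 3, nat_lit 1, nat_lit 0, nat_lit 2, nat_lit 2, nat_lit 0, nat_lit 1]))))))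
 (.node (nat_lit 2568) (.node (nat_lit 2565) (.node (nat_lit 2564) (.leaf ((nat_lit 426), [nat_lit 4, nat_lit 2, nat_lit 5, nat_lit 3, nat_lit 5, nat_lit 1, nat_lit 3, nat_lit 0, nat_lit 2, nat_lit 4, nat_lit 2, nat_lit 2, nat_lit 0, nat_lit 2, nat_lit 2, nat_lit 0, nat_lit 2, nat_lit 2, nat_lit 0])) (.leaf ((nat_lit 24), [nat_lit 0, nat_lit 5, nat_lit 2, nat_lit 2, nat_lit 4, nat_lit 3, nat_lit 2, nat_lit 3, nat_lit 0, nat_lit 2, nat_lit 0, nat_lit 2, nat_lit 2]))) (.node (nat_lit 2566) (.leaf ((nat_lit 159), [nat_lit 4, nat_lit 3, nat_lit 5, nat_lit 0, nat_lit 5, nat_lit 1, nat_lit 4, nat_lit 1, nat_lit 0, nat_lit 3, nat_lit 2, nat_lit 0, nat_lit 2, nat_lit 2, nat_lit 0, nat_lit 2, nat_lit 0])) (.node (nat_lit 2567) (.leaf ((nat_lit 16), [nat_lit 0, nat_lit 5, nat_lit 2, nat_lit 3, nat_lit 5, nat_lit 4, nat_lit 1, nat_lit 0, nat_lit 3, nat_lit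 1, nat_lit 4, nat_lit 0, nat_lit 2, nat_lit 2, nat_lit 0, nat_lit 2, nat_lit 0, nat_lit 1])) (.leaf ((nat_lit 1353), [nat_lit 2, nat_lit 2, nat_lit 5, nat_lit 4, nat_lit 3, nat_lit 1, nat_lit 4, nat_lit 3, nat_lit 1, nat_lit 0, nat_lit 2, nat_lit 2, nat_lit 0, nat_lit 1])))))
 (.node (nat_lit 2571) (.node (nat_lit 2569) (.leaf ((nat_lit 1100), [nat_lit 0, nat_lit 2, nat_lit 4, nat_lit 0, nat_lit 5, nat_lit 1, nat_lit 3, nat_lit 4, nat_lit 0, nat_lit 2, nat_lit 4, nat_lit 1, nat_lit 0, nat_lit 2, nat_lit 2, nat_lit 0, nat_lit 2, nat_lit 0])) (.node (nat_lit 2570) (.leaf ((nat_lit 1335), [nat_lit 3, nat_lit 1, nat_lit 5, nat_lit 2, nat_lit 5, nat_lit 3, nat_lit 4, nat_lit 2, nat_lit 4, nat_lit 0, nat_lit 1, nat_lit 0, nat_lit 2, nat_lit 2, nat_lit 0, nat_lit 1])) (.leaf ((nat_lit 1392), [nat_lit 3, nat_lit 0, nat_lit 5, nat_lit 3, nat_lit 5, nat_lit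 3, nat_lit 0, nat_lit 2, nat_lit 4, nat_lit 2, nat_lit 2, nat_lit 0, nat_lit 1])))) (.node (nat_lit 2572) (.leaf ((nat_lit 898), [nat_lit 3, nat_lit 5, nat_lit 0, nat_lit 3, nat_lit 5, nat_lit 2, nat_lit 0, nat_lit 3, nat_lit 4, nat_lit 1, nat_lit 0, nat_lit 1, nat_lit 0, nat_lit 2, nat_lit 0])) (.node (nat_lit 2573) (.leaf ((nat_lit 220), [nat_lit 5, nat_lit 4, nat_lit 2, nat_lit 5, nat_lit 3, nat_lit 2, nat_lit 0, nat_lit 4, nat_lit 1, nat_lit 4, nat_lit 0, nat_lit 1, nat_lit 0, nat_lit 1, nat_lit 0, nat_lit 2, nat_lit 0])) (.leaf ((nat_lit 786), [nat_lit 3, nat_lit 5, nat_lit 0, nat_lit 3, nat_lit 5, nat_lit 1, nat_lit 4, nat_lit 3, nat_lit 2])))))))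
 (.node (nat_lit 2585) (.node (nat_lit 2579) (.node (nat_lit 2576) (.node (nat_lit 2575) (.leaf ((nat_lit 1284), [nat_lit 5, nat_lit 4, nat_lit 5, nat_lit 2, nat_lit 5, nat_lit 2, nat_lit 0, nat_lit 2, nat_lit 2, nat_lit 3, nat_lit 2, nat_lit 0])) (.leaf ((nat_lit 1266), [nat_lit 3, nat_lit 4, nat_lit 3, nat_lit 5, nat_lit 0, nat_lit 2, nat_lit 3, nat_lit 2, nat_lit 0, nat_lit 3, nat_lit 0, nat_lit 1, nat_lit 0, nat_lit 2, nat_lit 0, nat_lit 2, nat_lit 2, nat_lit 0]))) (.node (nat_lit 2577) (.leaf ((nat_lit 1393), [nat_lit 3, nat_lit 5, nat_lit 2, nat_lit 3, nat_lit 0, nat_lit 5, nat_lit 4, nat_lit 0, nat_lit 3, nat_lit 4, nat_lit 3, nat_lit 0, nat_lit 2, nat_lit 0, nat_lit 2, nat_lit 2, nat_lit 0, nat_lit 1, nat_lit 0])) (.node (nat_lit 2578) (.leaf ((nat_lit 1380), [nat_lit 0, nat_lit 5, nat_lit 0, nat_lit 1, nat_lit 5, nat_lit 0, nat_lit 4, nat_lit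 2, nat_lit 3, nat_lit 0, nat_lit 3, nat_lit 2, nat_lit 0, nat_lit 2, nat_lit 0])) (.leaf ((nat_lit 1394), [nat_lit 1, nat_lit 5, nat_lit 2, nat_lit 5, nat_lit 3, nat_lit 0, nat_lit 1, nat_lit 0, nat_lit 4, nat_lit 1, nat_lit 0])))))
 (.node (nat_lit 2582) (.node (nat_lit 2580) (.leaf ((nat_lit 1288), [nat_lit 2, nat_lit 2, nat_lit 5, nat_lit 1, nat_lit 5, nat_lit 4, nat_lit 3, nat_lit 0, nat_lit 2, nat_lit 4, nat_lit 2, nat_lit 0, nat_lit 1])) (.node (nat_lit 2581) (.leaf ((nat_lit 757), [nat_lit 0, nat_lit 2, nat_lit 5, nat_lit 2, nat_lit 2, nat_lit 3, nat_lit 2, nat_lit 4, nat_lit 0, nat_lit 1, nat_lit 0, nat_lit 2])) (.leaf ((nat_lit 161), [nat_lit 4, nat_lit 0, nat_lit 5, nat_lit 2, nat_lit 5, nat_lit 1, nat_lit 3, nat_lit 2, nat_lit 2, nat_lit 0, nat_lit 2])))) (.node (nat_lit 2583) (.leaf ((nat_lit 602), [nat_lit 5, nat_lit 1, nat_lit 5, nat_lit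 3, nat_lit 2, nat_lit 2, nat_lit 3, nat_lit 0, nat_lit 1, nat_lit 0, nat_lit 1])) (.node (nat_lit 2584) (.leaf ((nat_lit 1311), [nat_lit 4, nat_lit 2, nat_lit 5, nat_lit 1, nat_lit 5, nat_lit 4, nat_lit 3, nat_lit 2, nat_lit 3, nat_lit 2, nat_lit 3, nat_lit 2, nat_lit 0, nat_lit 2, nat_lit 2, nat_lit 0, nat_lit 2, nat_lit 0])) (.leaf ((nat_lit 1323), [nat_lit 4, nat_lit 5, nat_lit 0, nat_lit 3, nat_lit 5, nat_lit 3, nat_lit 1, nat_lit 3, nat_lit 4, nat_lit 2, nat_lit 2, nat_lit 0, nat_lit 1]))))))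
 (.node (nat_lit 2590) (.node (nat_lit 2587) (.node (nat_lit 2586) (.leaf ((nat_lit 1303), [nat_lit 3, nat_lit 2, nat_lit 3, nat_lit 5, nat_lit 1, nat_lit 4, nat_lit 0, nat_lit 4, nat_lit 2, nat_lit 0, nat_lit 1, nat_lit 0, nat_lit 2, nat_lit 0])) (.leaf ((nat_lit 89), [nat_lit 5, nat_lit 4, nat_lit 5, nat_lit 1, nat_lit 0, nat_lit 4, nat_lit 3, nat_lit 0, nat_lit 3, nat_lit 0, nat_lit 2, nat_lit 2, nat_lit 0, nat_lit 2]))) (.node (nat_lit 2588) (.leaf ((nat_lit 1329), [nat_lit 3, nat_lit 1, nat_lit 3, nat_lit 0, nat_lit 5, nat_lit 1, nat_lit 0, nat_lit 1, nat_lit 4, nat_lit 3, nat_lit 2, nat_lit 0])) (.node (nat_lit 2589) (.leaf ((nat_lit 744), [nat_lit 1, nat_lit 4, nat_lit 2, nat_lit 5, nat_lit 3, nat_lit 1, nat_lit 4, nat_lit 3, nat_lit 2, nat_lit 0, nat_lit 3, nat_lit 0, nat_lit 2, nat_lit 2, nat_lit 0, nat_lit 2])) (.leaf ((nat_lit 1088), [nat_lit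 0, nat_lit 5, nat_lit 3, nat_lit 5, nat_lit 3, nat_lit 2, nat_lit 4, nat_lit 0, nat_lit 4, nat_lit 1, nat_lit 0, nat_lit 2, nat_lit 0, nat_lit 1])))))
 (.node (nat_lit 2593) (.node (nat_lit 2591) (.leaf ((nat_lit 1167), [nat_lit 5, nat_lit 4, nat_lit 5, nat_lit 2, nat_lit 5, nat_lit 0, nat_lit 4, nat_lit 1, nat_lit 3, nat_lit 1, nat_lit 3, nat_lit 2, nat_lit 2, nat_lit 0, nat_lit 2, nat_lit 0, nat_lit 1])) (.node (nat_lit 2592) (.leaf ((nat_lit 1374), [nat_lit 5, nat_lit 0, nat_lit 4, nat_lit 5, nat_lit 0, nat_lit 4, nat_lit 0, nat_lit 1, nat_lit 4, nat_lit 3, nat_lit 0, nat_lit 2, nat_lit 2, nat_lit 0, nat_lit 2, nat_lit 0, nat_lit 1])) (.leaf ((nat_lit 1199), [nat_lit 4, nat_lit 5, nat_lit 2, nat_lit 5, nat_lit 3, nat_lit 4, nat_lit 0, nat_lit 4, nat_lit 3, nat_lit 1, nat_lit 0, nat_lit 2, nat_lit 0, nat_lit 2])))) (.node (nat_lit 2594) (.leaf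 ((nat_lit 940), [nat_lit 4, nat_lit 1, nat_lit 5, nat_lit 3, nat_lit 5, nat_lit 1, nat_lit 4, nat_lit 1, nat_lit 3, nat_lit 4, nat_lit 2, nat_lit 0, nat_lit 2, nat_lit 0, nat_lit 1, nat_lit 0, nat_lit 1, nat_lit 0])) (.node (nat_lit 2595) (.leaf ((nat_lit 485), [nat_lit 4, nat_lit 5, nat_lit 3, nat_lit 2, nat_lit 5, nat_lit 2, nat_lit 2, nat_lit 0, nat_lit 3, nat_lit 2, nat_lit 2, nat_lit 0, nat_lit 2, nat_lit 2, nat_lit 0, nat_lit 1])) (.leaf ((nat_lit 1059), [nat_lit 3, nat_lit 1, nat_lit 5, nat_lit 0, nat_lit 5, nat_lit 2, nat_lit 4, nat_lit 3, nat_lit 0, nat_lit 2, nat_lit 4, nat_lit 2]))))))))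
 (.node (nat_lit 2618) (.node (nat_lit 2607) (.node (nat_lit 2601) (.node (nat_lit 2598) (.node (nat_lit 2597) (.leaf ((nat_lit 946), [nat_lit 3, nat_lit 4, nat_lit 5, nat_lit 4, nat_lit 1, nat_lit 4, nat_lit 2, nat_lit 4, nat_lit 0, nat_lit 1, nat_lit 0, nat_lit 1, nat_lit 0, nat_lit 2])) (.leaf ((nat_lit 1243), [nat_lit 0, nat_lit 1, nat_lit 5, nat_lit 3, nat_lit 2, nat_lit 3, nat_lit 0, nat_lit 4, nat_lit 1, nat_lit 0, nat_lit 2, nat_lit 0, nat_lit 2]))) (.node (nat_lit 2599) (.leaf ((nat_lit 1395), [nat_lit 3, nat_lit 5, nat_lit 2, nat_lit 4, nat_lit 1, nat_lit 0, nat_lit 2, nat_lit 3, nat_lit 0, nat_lit 1, nat_lit 0, nat_lit 1, nat_lit 0])) (.node (nat_lit 2600) (.leaf ((nat_lit 886), [nat_lit 2, nat_lit 5, nat_lit 1, nat_lit 5, nat_lit 4, nat_lit 3, nat_lit 1, nat_lit 0, nat_lit 4, nat_lit 2, nat_lit 0, nat_lit 1, nat_lit 0, nat_lit 1, nat_lit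 0, nat_lit 2, nat_lit 0])) (.leaf ((nat_lit 1140), [nat_lit 5, nat_lit 4, nat_lit 2, nat_lit 0, nat_lit 5, nat_lit 4, nat_lit 0, nat_lit 2, nat_lit 4, nat_lit 0, nat_lit 1, nat_lit 0, nat_lit 2])))))
 (.node (nat_lit 2604) (.node (nat_lit 2602) (.leaf ((nat_lit 1376), [nat_lit 2, nat_lit 4, nat_lit 2, nat_lit 0, nat_lit 5, nat_lit 0, nat_lit 1, nat_lit 0, nat_lit 1, nat_lit 0, nat_lit 3, nat_lit 1, nat_lit 0, nat_lit 1, nat_lit 0, nat_lit 2])) (.node (nat_lit 2603) (.leaf ((nat_lit 1396), [nat_lit 3, nat_lit 5, nat_lit 2, nat_lit 5, nat_lit 2, nat_lit 4, nat_lit 2, nat_lit 0, nat_lit 2, nat_lit 2, nat_lit 0, nat_lit 2, nat_lit 2, nat_lit 0])) (.leaf ((nat_lit 1397), [nat_lit 4, nat_lit 5, nat_lit 3, nat_lit 0, nat_lit 5, nat_lit 1, nat_lit 0, nat_lit 3, nat_lit 1, nat_lit 0, nat_lit 2, nat_lit 2, nat_lit 0, nat_lit 2])))) (.node (nat_lit 2605) (.leaf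 ((nat_lit 650), [nat_lit 3, nat_lit 5, nat_lit 2, nat_lit 3, nat_lit 0, nat_lit 5, nat_lit 4, nat_lit 1, nat_lit 0, nat_lit 2, nat_lit 4, nat_lit 1, nat_lit 0, nat_lit 1, nat_lit 0, nat_lit 2, nat_lit 0])) (.node (nat_lit 2606) (.leaf ((nat_lit 409), [nat_lit 5, nat_lit 2, nat_lit 0, nat_lit 5, nat_lit 2, nat_lit 3, nat_lit 4, nat_lit 3, nat_lit 2, nat_lit 3, nat_lit 0, nat_lit 1, nat_lit 0, nat_lit 2, nat_lit 0, nat_lit 2, nat_lit 0])) (.leaf ((nat_lit 1367), [nat_lit 5, nat_lit 2, nat_lit 4, nat_lit 0, nat_lit 5, nat_lit 3, nat_lit 2, nat_lit 4, nat_lit 3, nat_lit 2, nat_lit 3, nat_lit 2, nat_lit 0, nat_lit 2, nat_lit 2, nat_lit 0, nat_lit 1, nat_lit 0]))))))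
 (.node (nat_lit 2612) (.node (nat_lit 2609) (.node (nat_lit 2608) (.leaf ((nat_lit 532), [nat_lit 1, nat_lit 0, nat_lit 2, nat_lit 5, nat_lit 3, nat_lit 4, nat_lit 2, nat_lit 0, nat_lit 4, nat_lit 1, nat_lit 0, nat_lit 2, nat_lit 2])) (.leaf ((nat_lit 1389), [nat_lit 3, nat_lit 5, nat_lit 0, nat_lit 3, nat_lit 5, nat_lit 0, nat_lit 1, nat_lit 0, nat_lit 3, nat_lit 2, nat_lit 3, nat_lit 0, nat_lit 1, nat_lit 0, nat_lit 2, nat_lit 0]))) (.node (nat_lit 2610) (.leaf ((nat_lit 192), [nat_lit 5, nat_lit 3, nat_lit 2, nat_lit 5, nat_lit 0, nat_lit 2, nat_lit 2, nat_lit 3, nat_lit 1, nat_lit 0, nat_lit 2])) (.node (nat_lit 2611) (.leaf ((nat_lit 1188), [nat_lit 2, nat_lit 0, nat_lit 1, nat_lit 5, nat_lit 4, nat_lit 2, nat_lit 0, nat_lit 2, nat_lit 3, nat_lit 2, nat_lit 0, nat_lit 2, nat_lit 2, nat_lit 0])) (.leaf ((nat_lit 781), [nat_lit 3, nat_lit 2,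 nat_lit 5, nat_lit 0, nat_lit 5, nat_lit 4, nat_lit 3, nat_lit 1, nat_lit 4, nat_lit 1, nat_lit 3, nat_lit 0, nat_lit 2, nat_lit 0, nat_lit 2, nat_lit 2, nat_lit 0, nat_lit 2])))))
 (.node (nat_lit 2615) (.node (nat_lit 2613) (.leaf ((nat_lit 623), [nat_lit 4, nat_lit 1, nat_lit 5, nat_lit 2, nat_lit 5, nat_lit 2, nat_lit 2, nat_lit 0, nat_lit 3, nat_lit 2, nat_lit 2, nat_lit 0, nat_lit 2, nat_lit 0, nat_lit 1])) (.node (nat_lit 2614) (.leaf ((nat_lit 1240), [nat_lit 5, nat_lit 3, nat_lit 5, nat_lit 0, nat_lit 1, nat_lit 0, nat_lit 4, nat_lit 1, nat_lit 3, nat_lit 2, nat_lit 0, nat_lit 2, nat_lit 2])) (.leaf ((nat_lit 1309), [nat_lit 3, nat_lit 2, nat_lit 5, nat_lit 0, nat_lit 5, nat_lit 3, nat_lit 2, nat_lit 3, nat_lit 0, nat_lit 4, nat_lit 0, nat_lit 2, nat_lit 0, nat_lit 1, nat_lit 0])))) (.node (nat_lit 2616) (.leaf ((nat_lit 1395), [nat_lit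 3, nat_lit 2, nat_lit 0, nat_lit 5, nat_lit 1, nat_lit 0, nat_lit 3, nat_lit 0, nat_lit 2, nat_lit 2, nat_lit 0, nat_lit 1, nat_lit 0, nat_lit 2, nat_lit 0])) (.node (nat_lit 2617) (.leaf ((nat_lit 1391), [nat_lit 5, nat_lit 4, nat_lit 1, nat_lit 0, nat_lit 5, nat_lit 2, nat_lit 4, nat_lit 1, nat_lit 0, nat_lit 2, nat_lit 3, nat_lit 0, nat_lit 1, nat_lit 0, nat_lit 1, nat_lit 0, nat_lit 2, nat_lit 0])) (.leaf ((nat_lit 416), [nat_lit 1, nat_lit 4, nat_lit 2, nat_lit 5, nat_lit 0, nat_lit 2, nat_lit 3, nat_lit 1, nat_lit 3, nat_lit 0, nat_lit 1, nat_lit 0, nat_lit 2, nat_lit 0, nat_lit 2, nat_lit 0])))))))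
 (.node (nat_lit 2629) (.node (nat_lit 2623) (.node (nat_lit 2620) (.node (nat_lit 2619) (.leaf ((nat_lit 745), [nat_lit 2, nat_lit 5, nat_lit 3, nat_lit 5, nat_lit 2, nat_lit 2, nat_lit 3, nat_lit 4, nat_lit 1, nat_lit 0, nat_lit 2, nat_lit 0, nat_lit 2])) (.leaf ((nat_lit 527), [nat_lit 4, nat_lit 1, nat_lit 5, nat_lit 2, nat_lit 5, nat_lit 3, nat_lit 1, nat_lit 3, nat_lit 1, nat_lit 4, nat_lit 0, nat_lit 2, nat_lit 2]))) (.node (nat_lit 2621) (.leaf ((nat_lit 1398), [nat_lit 3, nat_lit 0, nat_lit 2, nat_lit 5, nat_lit 0, nat_lit 4, nat_lit 2, nat_lit 3, nat_lit 4, nat_lit 2, nat_lit 0, nat_lit 1, nat_lit 0, nat_lit 1, nat_lit 0, nat_lit 2])) (.node (nat_lit 2622) (.leaf ((nat_lit 74), [nat_lit 3, nat_lit 4, nat_lit 5, nat_lit 1, nat_lit 4, nat_lit 3, nat_lit 2, nat_lit 3, nat_lit 2])) (.leaf ((nat_lit 1109), [nat_lit 4, nat_lit 3, nat_lit 5, nat_lit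 2, nat_lit 5, nat_lit 1, nat_lit 4, nat_lit 3, nat_lit 0, nat_lit 3, nat_lit 0, nat_lit 1, nat_lit 0, nat_lit 2, nat_lit 0])))))
 (.node (nat_lit 2626) (.node (nat_lit 2624) (.leaf ((nat_lit 96), [nat_lit 2, nat_lit 3, nat_lit 0, nat_lit 5, nat_lit 2, nat_lit 0, nat_lit 4, nat_lit 2, nat_lit 0, nat_lit 2, nat_lit 2])) (.node (nat_lit 2625) (.leaf ((nat_lit 1208), [nat_lit 3, nat_lit 2, nat_lit 0, nat_lit 5, nat_lit 2, nat_lit 4, nat_lit 1, nat_lit 3, nat_lit 1, nat_lit 3, nat_lit 1, nat_lit 0, nat_lit 2, nat_lit 2, nat_lit 0, nat_lit 2, nat_lit 2])) (.leaf ((nat_lit 1238), [nat_lit 4, nat_lit 1, nat_lit 5, nat_lit 0, nat_lit 5, nat_lit 0, nat_lit 1, nat_lit 3, nat_lit 1, nat_lit 3, nat_lit 0, nat_lit 2, nat_lit 0, nat_lit 1, nat_lit 0, nat_lit 1])))) (.node (nat_lit 2627) (.leaf ((nat_lit 1352), [nat_lit 3, nat_lit 5, nat_lit 1, nat_lit 3, nat_lit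 2, nat_lit 5, nat_lit 0, nat_lit 2, nat_lit 3, nat_lit 2, nat_lit 3, nat_lit 2, nat_lit 2, nat_lit 0, nat_lit 2, nat_lit 0, nat_lit 1])) (.node (nat_lit 2628) (.leaf ((nat_lit 746), [nat_lit 5, nat_lit 4, nat_lit 5, nat_lit 2, nat_lit 3, nat_lit 4, nat_lit 2, nat_lit 3, nat_lit 1, nat_lit 0, nat_lit 2, nat_lit 2])) (.leaf ((nat_lit 1137), [nat_lit 5, nat_lit 4, nat_lit 1, nat_lit 0, nat_lit 5, nat_lit 4, nat_lit 3, nat_lit 1, nat_lit 0, nat_lit 4, nat_lit 2, nat_lit 0, nat_lit 1]))))))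
 (.node (nat_lit 2634) (.node (nat_lit 2631) (.node (nat_lit 2630) (.leaf ((nat_lit 1229), [nat_lit 4, nat_lit 2, nat_lit 5, nat_lit 1, nat_lit 5, nat_lit 3, nat_lit 4, nat_lit 2, nat_lit 4, nat_lit 2, nat_lit 3, nat_lit 2, nat_lit 2, nat_lit 0, nat_lit 1, nat_lit 0, nat_lit 2, nat_lit 2, nat_lit 0])) (.leaf ((nat_lit 317), [nat_lit 4, nat_lit 5, nat_lit 3, nat_lit 0, nat_lit 5, nat_lit 2, nat_lit 3, nat_lit 1, nat_lit 3, nat_lit 4, nat_lit 2, nat_lit 2, nat_lit 0, nat_lit 2, nat_lit 0, nat_lit 1, nat_lit 0]))) (.node (nat_lit 2632) (.leaf ((nat_lit 223), [nat_lit 3, nat_lit 4, nat_lit 5, nat_lit 2, nat_lit 5, nat_lit 4, nat_lit 3, nat_lit 0, nat_lit 4, nat_lit 1, nat_lit 0, nat_lit 1, nat_lit 0, nat_lit 2, nat_lit 2, nat_lit 0])) (.node (nat_lit 2633) (.leaf ((nat_lit 1142), [nat_lit 4, nat_lit 2, nat_lit 5, nat_lit 2, nat_lit 2, nat_lit 3, nat_lit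 2, nat_lit 0, nat_lit 2, nat_lit 0])) (.leaf ((nat_lit 266), [nat_lit 4, nat_lit 5, nat_lit 1, nat_lit 5, nat_lit 0, nat_lit 1, nat_lit 3, nat_lit 1, nat_lit 3, nat_lit 0, nat_lit 2, nat_lit 0, nat_lit 1, nat_lit 0, nat_lit 1, nat_lit 0])))))
 (.node (nat_lit 2637) (.node (nat_lit 2635) (.leaf ((nat_lit 1344), [nat_lit 1, nat_lit 3, nat_lit 2, nat_lit 5, nat_lit 1, nat_lit 3, nat_lit 4, nat_lit 2, nat_lit 3, nat_lit 2, nat_lit 2, nat_lit 0])) (.node (nat_lit 2636) (.leaf ((nat_lit 648), [nat_lit 0, nat_lit 3, nat_lit 5, nat_lit 3, nat_lit 0, nat_lit 2, nat_lit 4, nat_lit 3, nat_lit 0, nat_lit 2, nat_lit 2, nat_lit 0, nat_lit 2, nat_lit 2, nat_lit 0])) (.leaf ((nat_lit 1334), [nat_lit 5, nat_lit 3, nat_lit 0, nat_lit 3, nat_lit 2, nat_lit 4, nat_lit 2, nat_lit 2, nat_lit 0, nat_lit 1, nat_lit 0])))) (.node (nat_lit 2638) (.leaf ((nat_lit 215), [nat_lit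 4, nat_lit 2, nat_lit 0, nat_lit 5, nat_lit 0, nat_lit 3, nat_lit 4, nat_lit 3, nat_lit 2, nat_lit 0, nat_lit 1, nat_lit 0, nat_lit 1, nat_lit 0])) (.node (nat_lit 2639) (.leaf ((nat_lit 181), [nat_lit 2, nat_lit 3, nat_lit 5, nat_lit 0, nat_lit 5, nat_lit 3, nat_lit 0, nat_lit 3, nat_lit 2, nat_lit 4, nat_lit 0, nat_lit 2, nat_lit 2, nat_lit 0, nat_lit 1, nat_lit 0])) (.leaf ((nat_lit 810), [nat_lit 4, nat_lit 2, nat_lit 0, nat_lit 5, nat_lit 1, nat_lit 0, nat_lit 4, nat_lit 3, nat_lit 0, nat_lit 2, nat_lit 0, nat_lit 2, nat_lit 2, nat_lit 0, nat_lit 1, nat_lit 0]))))))))))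
noncomputable def qWd_15 : Tr (ℕ × List ℕ) := (.node (nat_lit 2728) (.node (nat_lit 2684) (.node (nat_lit 2662) (.node (nat_lit 2651) (.node (nat_lit 2645) (.node (nat_lit 2642) (.node (nat_lit 2641) (.leaf ((nat_lit 384), [nat_lit 3, nat_lit 5, nat_lit 2, nat_lit 3, nat_lit 0, nat_lit 5, nat_lit 4, nat_lit 0, nat_lit 3, nat_lit 4, nat_lit 3, nat_lit 0, nat_lit 1])) (.leaf ((nat_lit 1207), [nat_lit 5, nat_lit 2, nat_lit 0, nat_lit 2, nat_lit 5, nat_lit 4, nat_lit 2, nat_lit 3, nat_lit 2, nat_lit 3, nat_lit 0, nat_lit 2, nat_lit 2, nat_lit 0, nat_lit 1, nat_lit 0]))) (.node (nat_lit 2643) (.leaf ((nat_lit 6), [nat_lit 3, nat_lit 5, nat_lit 4, nat_lit 1, nat_lit 0, nat_lit 3, nat_lit 4, nat_lit 0, nat_lit 1, nat_lit 0, nat_lit 2, nat_lit 2, nat_lit 0, nat_lit 1])) (.node (nat_lit 2644) (.leaf ((nat_lit 960), [nat_lit 1, nat_lit 0, nat_lit 3, nat_lit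 5, nat_lit 0, nat_lit 2, nat_lit 2, nat_lit 3, nat_lit 2, nat_lit 4, nat_lit 1, nat_lit 0, nat_lit 2])) (.leaf ((nat_lit 1116), [nat_lit 5, nat_lit 4, nat_lit 3, nat_lit 2, nat_lit 5, nat_lit 3, nat_lit 4, nat_lit 0, nat_lit 4, nat_lit 3, nat_lit 0, nat_lit 2, nat_lit 0, nat_lit 2, nat_lit 0])))))
 (.node (nat_lit 2648) (.node (nat_lit 2646) (.leaf ((nat_lit 58), [nat_lit 1, nat_lit 4, nat_lit 5, nat_lit 1, nat_lit 5, nat_lit 0, nat_lit 4, nat_lit 1, nat_lit 4, nat_lit 1, nat_lit 0, nat_lit 2])) (.node (nat_lit 2647) (.leaf ((nat_lit 1225), [nat_lit 5, nat_lit 2, nat_lit 3, nat_lit 0, nat_lit 5, nat_lit 3, nat_lit 0, nat_lit 1, nat_lit 0, nat_lit 3, nat_lit 2, nat_lit 2, nat_lit 0, nat_lit 1, nat_lit 0, nat_lit 2, nat_lit 0])) (.leaf ((nat_lit 841), [nat_lit 5, nat_lit 2, nat_lit 0, nat_lit 5, nat_lit 1, nat_lit 0, nat_lit 2, nat_lit 3, nat_lit 1,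 nat_lit 0, nat_lit 2])))) (.node (nat_lit 2649) (.leaf ((nat_lit 348), [nat_lit 2, nat_lit 2, nat_lit 5, nat_lit 1, nat_lit 5, nat_lit 2, nat_lit 3, nat_lit 2, nat_lit 0, nat_lit 4, nat_lit 2, nat_lit 0, nat_lit 1, nat_lit 0, nat_lit 2, nat_lit 0])) (.node (nat_lit 2650) (.leaf ((nat_lit 1176), [nat_lit 3, nat_lit 2, nat_lit 5, nat_lit 1, nat_lit 3, nat_lit 1, nat_lit 0, nat_lit 4, nat_lit 0, nat_lit 1, nat_lit 0, nat_lit 2, nat_lit 2, nat_lit 0, nat_lit 1, nat_lit 0])) (.leaf ((nat_lit 1333), [nat_lit 5, nat_lit 3, nat_lit 2, nat_lit 0, nat_lit 5, nat_lit 4, nat_lit 1, nat_lit 0, nat_lit 3, nat_lit 1, nat_lit 4, nat_lit 2, nat_lit 0, nat_lit 2, nat_lit 2, nat_lit 0, nat_lit 2, nat_lit 2]))))))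
 (.node (nat_lit 2656) (.node (nat_lit 2653) (.node (nat_lit 2652) (.leaf ((nat_lit 1103), [nat_lit 3, nat_lit 2, nat_lit 5, nat_lit 0, nat_lit 5, nat_lit 0, nat_lit 1, nat_lit 0, nat_lit 4, nat_lit 1, nat_lit 3, nat_lit 1, nat_lit 0, nat_lit 1])) (.leaf ((nat_lit 825), [nat_lit 1, nat_lit 5, nat_lit 2, nat_lit 5, nat_lit 4, nat_lit 0, nat_lit 2, nat_lit 4, nat_lit 2, nat_lit 0, nat_lit 2, nat_lit 2, nat_lit 0, nat_lit 1, nat_lit 0]))) (.node (nat_lit 2654) (.leaf ((nat_lit 655), [nat_lit 5, nat_lit 4, nat_lit 5, nat_lit 3, nat_lit 0, nat_lit 1, nat_lit 3, nat_lit 0, nat_lit 3, nat_lit 0, nat_lit 2, nat_lit 0, nat_lit 2, nat_lit 2, nat_lit 0, nat_lit 1, nat_lit 0])) (.node (nat_lit 2655) (.leaf ((nat_lit 911), [nat_lit 1, nat_lit 5, nat_lit 0, nat_lit 5, nat_lit 1, nat_lit 0, nat_lit 1, nat_lit 0, nat_lit 3, nat_lit 2, nat_lit 2, nat_lit 0, nat_lit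 2, nat_lit 0])) (.leaf ((nat_lit 1292), [nat_lit 1, nat_lit 5, nat_lit 2, nat_lit 5, nat_lit 0, nat_lit 4, nat_lit 2, nat_lit 0, nat_lit 3, nat_lit 0, nat_lit 2, nat_lit 0, nat_lit 1, nat_lit 0])))))
 (.node (nat_lit 2659) (.node (nat_lit 2657) (.leaf ((nat_lit 1387), [nat_lit 2, nat_lit 3, nat_lit 0, nat_lit 5, nat_lit 4, nat_lit 1, nat_lit 4, nat_lit 2, nat_lit 4, nat_lit 3, nat_lit 2, nat_lit 0, nat_lit 2, nat_lit 2, nat_lit 0, nat_lit 2, nat_lit 2, nat_lit 0])) (.node (nat_lit 2658) (.leaf ((nat_lit 1357), [nat_lit 4, nat_lit 5, nat_lit 3, nat_lit 2, nat_lit 5, nat_lit 4, nat_lit 3, nat_lit 1, nat_lit 3, nat_lit 0, nat_lit 3, nat_lit 2, nat_lit 0, nat_lit 2, nat_lit 0, nat_lit 1, nat_lit 0, nat_lit 1])) (.leaf ((nat_lit 488), [nat_lit 4, nat_lit 3, nat_lit 5, nat_lit 4, nat_lit 3, nat_lit 2, nat_lit 2, nat_lit 3, nat_lit 2, nat_lit 0, nat_lit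 2, nat_lit 0, nat_lit 1, nat_lit 0])))) (.node (nat_lit 2660) (.leaf ((nat_lit 1399), [nat_lit 5, nat_lit 4, nat_lit 3, nat_lit 2, nat_lit 5, nat_lit 4, nat_lit 3, nat_lit 1, nat_lit 4, nat_lit 1, nat_lit 3, nat_lit 2, nat_lit 0, nat_lit 1, nat_lit 0, nat_lit 1, nat_lit 0])) (.node (nat_lit 2661) (.leaf ((nat_lit 524), [nat_lit 3, nat_lit 5, nat_lit 2, nat_lit 3, nat_lit 0, nat_lit 5, nat_lit 0, nat_lit 3, nat_lit 4, nat_lit 1, nat_lit 0, nat_lit 3, nat_lit 1, nat_lit 0, nat_lit 2, nat_lit 2, nat_lit 0, nat_lit 2])) (.leaf ((nat_lit 866), [nat_lit 4, nat_lit 5, nat_lit 0, nat_lit 3, nat_lit 5, nat_lit 4, nat_lit 3, nat_lit 1, nat_lit 3, nat_lit 0, nat_lit 3, nat_lit 1, nat_lit 0, nat_lit 1, nat_lit 0, nat_lit 2, nat_lit 2, nat_lit 0])))))))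
 (.node (nat_lit 2673) (.node (nat_lit 2667) (.node (nat_lit 2664) (.node (nat_lit 2663) (.leaf ((nat_lit 1226), [nat_lit 1, nat_lit 5, nat_lit 3, nat_lit 5, nat_lit 2, nat_lit 3, nat_lit 2, nat_lit 4, nat_lit 3])) (.leaf ((nat_lit 129), [nat_lit 5, nat_lit 1, nat_lit 0, nat_lit 2, nat_lit 5, nat_lit 2, nat_lit 2, nat_lit 3, nat_lit 2, nat_lit 4, nat_lit 0, nat_lit 2, nat_lit 0, nat_lit 1]))) (.node (nat_lit 2665) (.leaf ((nat_lit 1217), [nat_lit 5, nat_lit 0, nat_lit 5, nat_lit 2, nat_lit 4, nat_lit 2, nat_lit 3, nat_lit 1, nat_lit 3, nat_lit 0, nat_lit 2, nat_lit 0, nat_lit 2, nat_lit 2])) (.node (nat_lit 2666) (.leaf ((nat_lit 808), [nat_lit 5, nat_lit 4, nat_lit 3, nat_lit 2, nat_lit 5, nat_lit 2, nat_lit 4, nat_lit 2, nat_lit 3, nat_lit 4, nat_lit 2, nat_lit 0, nat_lit 1, nat_lit 0, nat_lit 1, nat_lit 0, nat_lit 2])) (.leaf ((nat_lit 38), [nat_lit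 5, nat_lit 1, nat_lit 0, nat_lit 2, nat_lit 5, nat_lit 0, nat_lit 4, nat_lit 0, nat_lit 1, nat_lit 4, nat_lit 3, nat_lit 1, nat_lit 0])))))
 (.node (nat_lit 2670) (.node (nat_lit 2668) (.leaf ((nat_lit 149), [nat_lit 3, nat_lit 4, nat_lit 5, nat_lit 3, nat_lit 2, nat_lit 0, nat_lit 2, nat_lit 3, nat_lit 0, nat_lit 2, nat_lit 0, nat_lit 2, nat_lit 2, nat_lit 0, nat_lit 2, nat_lit 0])) (.node (nat_lit 2669) (.leaf ((nat_lit 366), [nat_lit 4, nat_lit 1, nat_lit 5, nat_lit 2, nat_lit 5, nat_lit 3, nat_lit 2, nat_lit 3, nat_lit 2, nat_lit 3, nat_lit 1, nat_lit 0, nat_lit 2, nat_lit 0, nat_lit 2])) (.leaf ((nat_lit 1375), [nat_lit 4, nat_lit 5, nat_lit 3, nat_lit 4, nat_lit 1, nat_lit 0, nat_lit 4, nat_lit 1, nat_lit 0, nat_lit 2, nat_lit 2, nat_lit 0, nat_lit 1])))) (.node (nat_lit 2671) (.leaf ((nat_lit 867), [nat_lit 3, nat_lit 2, nat_lit 0, nat_lit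 5, nat_lit 4, nat_lit 3, nat_lit 0, nat_lit 1, nat_lit 0, nat_lit 3, nat_lit 0, nat_lit 2, nat_lit 2, nat_lit 0, nat_lit 2, nat_lit 0])) (.node (nat_lit 2672) (.leaf ((nat_lit 1393), [nat_lit 0, nat_lit 2, nat_lit 4, nat_lit 0, nat_lit 5, nat_lit 2, nat_lit 4, nat_lit 2, nat_lit 3, nat_lit 2, nat_lit 3, nat_lit 1, nat_lit 0, nat_lit 1, nat_lit 0, nat_lit 2, nat_lit 0, nat_lit 2, nat_lit 0])) (.leaf ((nat_lit 327), [nat_lit 3, nat_lit 0, nat_lit 5, nat_lit 3, nat_lit 5, nat_lit 0, nat_lit 1, nat_lit 0, nat_lit 4, nat_lit 2, nat_lit 0, nat_lit 1, nat_lit 0, nat_lit 1, nat_lit 0, nat_lit 2, nat_lit 0]))))))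
 (.node (nat_lit 2678) (.node (nat_lit 2675) (.node (nat_lit 2674) (.leaf ((nat_lit 242), [nat_lit 1, nat_lit 4, nat_lit 2, nat_lit 5, nat_lit 3, nat_lit 0, nat_lit 3, nat_lit 2, nat_lit 0, nat_lit 3, nat_lit 0, nat_lit 2, nat_lit 2, nat_lit 0, nat_lit 2, nat_lit 0])) (.leaf ((nat_lit 420), [nat_lit 2, nat_lit 5, nat_lit 4, nat_lit 5, nat_lit 4, nat_lit 3, nat_lit 1, nat_lit 0, nat_lit 2, nat_lit 3, nat_lit 1, nat_lit 0, nat_lit 1, nat_lit 0, nat_lit 2]))) (.node (nat_lit 2676) (.leaf ((nat_lit 1299), [nat_lit 2, nat_lit 5, nat_lit 0, nat_lit 1, nat_lit 5, nat_lit 1, nat_lit 4, nat_lit 3, nat_lit 2, nat_lit 3, nat_lit 0, nat_lit 2, nat_lit 0, nat_lit 2])) (.node (nat_lit 2677) (.leaf ((nat_lit 1244), [nat_lit 1, nat_lit 5, nat_lit 3, nat_lit 5, nat_lit 2, nat_lit 3, nat_lit 0, nat_lit 1, nat_lit 0, nat_lit 3, nat_lit 0, nat_lit 2, nat_lit 2, nat_lit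 0, nat_lit 1])) (.leaf ((nat_lit 290), [nat_lit 4, nat_lit 5, nat_lit 0, nat_lit 3, nat_lit 5, nat_lit 3, nat_lit 2, nat_lit 4, nat_lit 3, nat_lit 2, nat_lit 3, nat_lit 0, nat_lit 2, nat_lit 2, nat_lit 0, nat_lit 2, nat_lit 0, nat_lit 1, nat_lit 0])))))
 (.node (nat_lit 2681) (.node (nat_lit 2679) (.leaf ((nat_lit 516), [nat_lit 4, nat_lit 5, nat_lit 1, nat_lit 5, nat_lit 4, nat_lit 1, nat_lit 0, nat_lit 3, nat_lit 0, nat_lit 1, nat_lit 0, nat_lit 2, nat_lit 2])) (.node (nat_lit 2680) (.leaf ((nat_lit 1268), [nat_lit 5, nat_lit 3, nat_lit 0, nat_lit 5, nat_lit 1, nat_lit 0, nat_lit 3, nat_lit 4, nat_lit 0, nat_lit 1, nat_lit 0])) (.leaf ((nat_lit 977), [nat_lit 2, nat_lit 0, nat_lit 1, nat_lit 5, nat_lit 2, nat_lit 3, nat_lit 4, nat_lit 3, nat_lit 0, nat_lit 3, nat_lit 0, nat_lit 1, nat_lit 0, nat_lit 2, nat_lit 0, nat_lit 2, nat_lit 2])))) (.node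 (nat_lit 2682) (.leaf ((nat_lit 720), [nat_lit 1, nat_lit 3, nat_lit 2, nat_lit 5, nat_lit 1, nat_lit 4, nat_lit 2, nat_lit 4, nat_lit 3, nat_lit 1, nat_lit 0, nat_lit 2, nat_lit 0])) (.node (nat_lit 2683) (.leaf ((nat_lit 1400), [nat_lit 2, nat_lit 3, nat_lit 5, nat_lit 0, nat_lit 5, nat_lit 0, nat_lit 4, nat_lit 1, nat_lit 4, nat_lit 2, nat_lit 2, nat_lit 0, nat_lit 2, nat_lit 2, nat_lit 0, nat_lit 1, nat_lit 0])) (.leaf ((nat_lit 687), [nat_lit 3, nat_lit 5, nat_lit 0, nat_lit 3, nat_lit 5, nat_lit 4, nat_lit 2, nat_lit 4, nat_lit 0, nat_lit 1, nat_lit 0, nat_lit 3, nat_lit 0, nat_lit 1, nat_lit 0, nat_lit 2, nat_lit 2, nat_lit 0, nat_lit 2]))))))))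
 (.node (nat_lit 2706) (.node (nat_lit 2695) (.node (nat_lit 2689) (.node (nat_lit 2686) (.node (nat_lit 2685) (.leaf ((nat_lit 1371), [nat_lit 4, nat_lit 5, nat_lit 4, nat_lit 3, nat_lit 0, nat_lit 4, nat_lit 2, nat_lit 0, nat_lit 2, nat_lit 2, nat_lit 0, nat_lit 1, nat_lit 0])) (.leaf ((nat_lit 637), [nat_lit 4, nat_lit 0, nat_lit 5, nat_lit 2, nat_lit 5, nat_lit 0, nat_lit 3, nat_lit 0, nat_lit 2, nat_lit 0, nat_lit 2]))) (.node (nat_lit 2687) (.leaf ((nat_lit 295), [nat_lit 5, nat_lit 4, nat_lit 0, nat_lit 5, nat_lit 4, nat_lit 2, nat_lit 3, nat_lit 4, nat_lit 2, nat_lit 3, nat_lit 0, nat_lit 2, nat_lit 2, nat_lit 0, nat_lit 2, nat_lit 2])) (.node (nat_lit 2688) (.leaf ((nat_lit 1107), [nat_lit 5, nat_lit 2, nat_lit 3, nat_lit 0, nat_lit 5, nat_lit 3, nat_lit 4, nat_lit 3, nat_lit 2, nat_lit 4, nat_lit 0, nat_lit 2, nat_lit 0, nat_lit 2, nat_lit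 2])) (.leaf ((nat_lit 1277), [nat_lit 1, nat_lit 5, nat_lit 2, nat_lit 5, nat_lit 2, nat_lit 0, nat_lit 3, nat_lit 4, nat_lit 2, nat_lit 2, nat_lit 0, nat_lit 2, nat_lit 2])))))
 (.node (nat_lit 2692) (.node (nat_lit 2690) (.leaf ((nat_lit 1158), [nat_lit 4, nat_lit 1, nat_lit 5, nat_lit 2, nat_lit 5, nat_lit 3, nat_lit 2, nat_lit 3, nat_lit 4, nat_lit 1, nat_lit 3, nat_lit 1, nat_lit 0, nat_lit 1, nat_lit 0])) (.node (nat_lit 2691) (.leaf ((nat_lit 236), [nat_lit 4, nat_lit 3, nat_lit 5, nat_lit 2, nat_lit 4, nat_lit 0, nat_lit 1, nat_lit 0, nat_lit 3, nat_lit 2, nat_lit 2, nat_lit 0, nat_lit 2, nat_lit 2, nat_lit 0, nat_lit 2, nat_lit 0])) (.leaf ((nat_lit 814), [nat_lit 5, nat_lit 1, nat_lit 5, nat_lit 2, nat_lit 2, nat_lit 3, nat_lit 2, nat_lit 2, nat_lit 3, nat_lit 0, nat_lit 1, nat_lit 0, nat_lit 2, nat_lit 0])))) (.node (nat_lit 2693) (.leaf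 ((nat_lit 1401), [nat_lit 4, nat_lit 1, nat_lit 5, nat_lit 0, nat_lit 5, nat_lit 0, nat_lit 3, nat_lit 0, nat_lit 4, nat_lit 2, nat_lit 0, nat_lit 2, nat_lit 2])) (.node (nat_lit 2694) (.leaf ((nat_lit 1402), [nat_lit 2, nat_lit 5, nat_lit 4, nat_lit 5, nat_lit 0, nat_lit 3, nat_lit 0, nat_lit 2, nat_lit 3, nat_lit 1, nat_lit 0])) (.leaf ((nat_lit 437), [nat_lit 4, nat_lit 5, nat_lit 2, nat_lit 3, nat_lit 5, nat_lit 3, nat_lit 4, nat_lit 3, nat_lit 2, nat_lit 0]))))))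
 (.node (nat_lit 2700) (.node (nat_lit 2697) (.node (nat_lit 2696) (.leaf ((nat_lit 805), [nat_lit 4, nat_lit 5, nat_lit 2, nat_lit 5, nat_lit 3, nat_lit 2, nat_lit 4, nat_lit 0, nat_lit 4, nat_lit 2, nat_lit 0, nat_lit 1, nat_lit 0, nat_lit 2, nat_lit 0])) (.leaf ((nat_lit 1397), [nat_lit 5, nat_lit 2, nat_lit 3, nat_lit 0, nat_lit 5, nat_lit 0, nat_lit 2, nat_lit 4, nat_lit 2, nat_lit 4, nat_lit 1, nat_lit 0, nat_lit 2, nat_lit 0, nat_lit 1]))) (.node (nat_lit 2698) (.leaf ((nat_lit 1317), [nat_lit 3, nat_lit 5, nat_lit 3, nat_lit 0, nat_lit 5, nat_lit 4, nat_lit 0, nat_lit 4, nat_lit 0, nat_lit 4, nat_lit 0, nat_lit 2, nat_lit 0, nat_lit 2, nat_lit 2, nat_lit 0, nat_lit 2])) (.node (nat_lit 2699) (.leaf ((nat_lit 1403), [nat_lit 3, nat_lit 0, nat_lit 2, nat_lit 5, nat_lit 4, nat_lit 1, nat_lit 0, nat_lit 3, nat_lit 2, nat_lit 3, nat_lit 0, nat_lit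 1, nat_lit 0, nat_lit 2, nat_lit 2, nat_lit 0, nat_lit 1])) (.leaf ((nat_lit 78), [nat_lit 5, nat_lit 3, nat_lit 2, nat_lit 5, nat_lit 0, nat_lit 2, nat_lit 3, nat_lit 1, nat_lit 3, nat_lit 2, nat_lit 0, nat_lit 2, nat_lit 0, nat_lit 1, nat_lit 0])))))
 (.node (nat_lit 2703) (.node (nat_lit 2701) (.leaf ((nat_lit 1051), [nat_lit 2, nat_lit 5, nat_lit 1, nat_lit 5, nat_lit 2, nat_lit 4, nat_lit 1, nat_lit 3, nat_lit 1, nat_lit 3, nat_lit 2, nat_lit 2, nat_lit 0, nat_lit 2, nat_lit 0, nat_lit 1])) (.node (nat_lit 2702) (.leaf ((nat_lit 587), [nat_lit 1, nat_lit 0, nat_lit 2, nat_lit 5, nat_lit 0, nat_lit 4, nat_lit 0, nat_lit 4, nat_lit 0, nat_lit 2, nat_lit 0, nat_lit 1, nat_lit 0, nat_lit 1])) (.leaf ((nat_lit 1065), [nat_lit 1, nat_lit 0, nat_lit 3, nat_lit 5, nat_lit 3, nat_lit 1, nat_lit 3, nat_lit 4, nat_lit 3, nat_lit 2, nat_lit 0, nat_lit 1,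 nat_lit 0, nat_lit 2])))) (.node (nat_lit 2704) (.leaf ((nat_lit 1216), [nat_lit 4, nat_lit 5, nat_lit 3, nat_lit 5, nat_lit 2, nat_lit 3, nat_lit 4, nat_lit 3, nat_lit 0, nat_lit 3, nat_lit 2, nat_lit 0, nat_lit 1])) (.node (nat_lit 2705) (.leaf ((nat_lit 1293), [nat_lit 2, nat_lit 5, nat_lit 1, nat_lit 5, nat_lit 4, nat_lit 0, nat_lit 4, nat_lit 0, nat_lit 4, nat_lit 1, nat_lit 0, nat_lit 2, nat_lit 2, nat_lit 0, nat_lit 2, nat_lit 2])) (.leaf ((nat_lit 1233), [nat_lit 4, nat_lit 2, nat_lit 0, nat_lit 5, nat_lit 0, nat_lit 4, nat_lit 2, nat_lit 0, nat_lit 2, nat_lit 3, nat_lit 2, nat_lit 2, nat_lit 0, nat_lit 1, nat_lit 0, nat_lit 2, nat_lit 2, nat_lit 0])))))))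
 (.node (nat_lit 2717) (.node (nat_lit 2711) (.node (nat_lit 2708) (.node (nat_lit 2707) (.leaf ((nat_lit 1008), [nat_lit 1, nat_lit 5, nat_lit 2, nat_lit 5, nat_lit 0, nat_lit 3, nat_lit 1, nat_lit 3, nat_lit 4, nat_lit 0, nat_lit 2, nat_lit 2, nat_lit 0, nat_lit 2, nat_lit 0])) (.leaf ((nat_lit 1392), [nat_lit 0, nat_lit 5, nat_lit 2, nat_lit 3, nat_lit 5, nat_lit 4, nat_lit 0, nat_lit 3, nat_lit 4, nat_lit 3, nat_lit 1, nat_lit 0, nat_lit 2, nat_lit 2, nat_lit 0, nat_lit 2]))) (.node (nat_lit 2709) (.leaf ((nat_lit 1202), [nat_lit 4, nat_lit 3, nat_lit 5, nat_lit 2, nat_lit 5, nat_lit 1, nat_lit 0, nat_lit 3, nat_lit 0, nat_lit 1, nat_lit 0, nat_lit 2, nat_lit 2, nat_lit 0, nat_lit 2, nat_lit 0])) (.node (nat_lit 2710) (.leaf ((nat_lit 1276), [nat_lit 0, nat_lit 2, nat_lit 5, nat_lit 2, nat_lit 0, nat_lit 3, nat_lit 4, nat_lit 1, nat_lit 0, nat_lit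 2, nat_lit 2, nat_lit 0])) (.leaf ((nat_lit 1399), [nat_lit 4, nat_lit 5, nat_lit 2, nat_lit 5, nat_lit 2, nat_lit 2, nat_lit 4, nat_lit 1, nat_lit 0, nat_lit 3, nat_lit 0, nat_lit 1, nat_lit 0])))))
 (.node (nat_lit 2714) (.node (nat_lit 2712) (.leaf ((nat_lit 929), [nat_lit 3, nat_lit 0, nat_lit 5, nat_lit 3, nat_lit 5, nat_lit 2, nat_lit 2, nat_lit 3, nat_lit 4, nat_lit 3, nat_lit 1, nat_lit 0, nat_lit 1, nat_lit 0, nat_lit 2, nat_lit 2])) (.node (nat_lit 2713) (.leaf ((nat_lit 1141), [nat_lit 3, nat_lit 5, nat_lit 3, nat_lit 0, nat_lit 5, nat_lit 1, nat_lit 4, nat_lit 2, nat_lit 4, nat_lit 3, nat_lit 0, nat_lit 1, nat_lit 0])) (.leaf ((nat_lit 123), [nat_lit 4, nat_lit 1, nat_lit 5, nat_lit 2, nat_lit 5, nat_lit 3, nat_lit 2, nat_lit 0, nat_lit 4, nat_lit 2, nat_lit 0])))) (.node (nat_lit 2715) (.leaf ((nat_lit 546), [nat_lit 4, nat_lit 3, nat_lit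 2, nat_lit 5, nat_lit 2, nat_lit 2, nat_lit 3, nat_lit 2, nat_lit 2, nat_lit 3, nat_lit 2, nat_lit 2, nat_lit 0, nat_lit 2, nat_lit 0, nat_lit 1, nat_lit 0])) (.node (nat_lit 2716) (.leaf ((nat_lit 1127), [nat_lit 5, nat_lit 4, nat_lit 0, nat_lit 5, nat_lit 1, nat_lit 0, nat_lit 2, nat_lit 4, nat_lit 0, nat_lit 2, nat_lit 2, nat_lit 0, nat_lit 1, nat_lit 0, nat_lit 2, nat_lit 0])) (.leaf ((nat_lit 1193), [nat_lit 2, nat_lit 0, nat_lit 5, nat_lit 3, nat_lit 2, nat_lit 0, nat_lit 3, nat_lit 4, nat_lit 2, nat_lit 0, nat_lit 1, nat_lit 0, nat_lit 2, nat_lit 2]))))))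
 (.node (nat_lit 2722) (.node (nat_lit 2719) (.node (nat_lit 2718) (.leaf ((nat_lit 1144), [nat_lit 2, nat_lit 3, nat_lit 0, nat_lit 5, nat_lit 2, nat_lit 3, nat_lit 4, nat_lit 1, nat_lit 0, nat_lit 3, nat_lit 2, nat_lit 0, nat_lit 1, nat_lit 0, nat_lit 1, nat_lit 0, nat_lit 2])) (.leaf ((nat_lit 228), [nat_lit 0, nat_lit 5, nat_lit 2, nat_lit 5, nat_lit 2, nat_lit 4, nat_lit 3, nat_lit 0, nat_lit 2, nat_lit 4, nat_lit 0, nat_lit 1, nat_lit 0, nat_lit 2]))) (.node (nat_lit 2720) (.leaf ((nat_lit 1401), [nat_lit 3, nat_lit 4, nat_lit 3, nat_lit 5, nat_lit 2, nat_lit 3, nat_lit 2, nat_lit 0, nat_lit 2, nat_lit 2, nat_lit 0, nat_lit 2])) (.node (nat_lit 2721) (.leaf ((nat_lit 1307), [nat_lit 4, nat_lit 3, nat_lit 5, nat_lit 2, nat_lit 5, nat_lit 4, nat_lit 3, nat_lit 2, nat_lit 0, nat_lit 3, nat_lit 1, nat_lit 0, nat_lit 2, nat_lit 2])) (.leaf ((nat_lit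 1400), [nat_lit 4, nat_lit 2, nat_lit 5, nat_lit 1, nat_lit 4, nat_lit 3, nat_lit 1, nat_lit 3, nat_lit 2, nat_lit 2, nat_lit 0, nat_lit 1, nat_lit 0, nat_lit 2, nat_lit 0])))))
 (.node (nat_lit 2725) (.node (nat_lit 2723) (.leaf ((nat_lit 494), [nat_lit 0, nat_lit 1, nat_lit 5, nat_lit 2, nat_lit 3, nat_lit 4, nat_lit 3, nat_lit 0, nat_lit 3, nat_lit 1, nat_lit 0, nat_lit 2, nat_lit 2, nat_lit 0])) (.node (nat_lit 2724) (.leaf ((nat_lit 109), [nat_lit 4, nat_lit 5, nat_lit 4, nat_lit 0, nat_lit 5, nat_lit 0, nat_lit 1, nat_lit 3, nat_lit 1, nat_lit 0, nat_lit 4, nat_lit 0, nat_lit 1])) (.leaf ((nat_lit 429), [nat_lit 4, nat_lit 5, nat_lit 2, nat_lit 3, nat_lit 5, nat_lit 3, nat_lit 2, nat_lit 4, nat_lit 0, nat_lit 4, nat_lit 0, nat_lit 2, nat_lit 0, nat_lit 2, nat_lit 2, nat_lit 0, nat_lit 2])))) (.node (nat_lit 2726) (.leaf ((nat_lit 1404), [nat_lit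 5, nat_lit 2, nat_lit 3, nat_lit 0, nat_lit 5, nat_lit 3, nat_lit 4, nat_lit 0, nat_lit 2, nat_lit 2, nat_lit 3, nat_lit 2, nat_lit 0, nat_lit 2, nat_lit 2, nat_lit 0])) (.node (nat_lit 2727) (.leaf ((nat_lit 1200), [nat_lit 1, nat_lit 3, nat_lit 2, nat_lit 5, nat_lit 2, nat_lit 4, nat_lit 0, nat_lit 4, nat_lit 0, nat_lit 4, nat_lit 2])) (.leaf ((nat_lit 1360), [nat_lit 2, nat_lit 2, nat_lit 5, nat_lit 0, nat_lit 4, nat_lit 3, nat_lit 0, nat_lit 4, nat_lit 1, nat_lit 0, nat_lit 1, nat_lit 0, nat_lit 2, nat_lit 0, nat_lit 2])))))))))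
 (.node (nat_lit 2772) (.node (nat_lit 2750) (.node (nat_lit 2739) (.node (nat_lit 2733) (.node (nat_lit 2730) (.node (nat_lit 2729) (.leaf ((nat_lit 544), [nat_lit 3, nat_lit 0, nat_lit 2, nat_lit 5, nat_lit 0, nat_lit 4, nat_lit 2, nat_lit 3, nat_lit 0, nat_lit 3, nat_lit 0, nat_lit 1, nat_lit 0, nat_lit 2, nat_lit 0])) (.leaf ((nat_lit 1403), [nat_lit 2, nat_lit 0, nat_lit 5, nat_lit 2, nat_lit 4, nat_lit 3, nat_lit 2, nat_lit 3, nat_lit 2, nat_lit 0, nat_lit 2, nat_lit 0, nat_lit 1]))) (.node (nat_lit 2731) (.leaf ((nat_lit 1249), [nat_lit 5, nat_lit 1, nat_lit 5, nat_lit 0, nat_lit 5, nat_lit 2, nat_lit 3, nat_lit 4, nat_lit 1, nat_lit 0, nat_lit 3, nat_lit 2, nat_lit 2, nat_lit 0, nat_lit 2, nat_lit 2, nat_lit 0, nat_lit 2])) (.node (nat_lit 2732) (.leaf ((nat_lit 706), [nat_lit 3, nat_lit 5, nat_lit 0, nat_lit 3, nat_lit 5, nat_lit 0, nat_lit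 4, nat_lit 3, nat_lit 2, nat_lit 2, nat_lit 0, nat_lit 2, nat_lit 2, nat_lit 0, nat_lit 2, nat_lit 2])) (.leaf ((nat_lit 1181), [nat_lit 5, nat_lit 1, nat_lit 5, nat_lit 0, nat_lit 5, nat_lit 2, nat_lit 3, nat_lit 4, nat_lit 3, nat_lit 2, nat_lit 0, nat_lit 2, nat_lit 2, nat_lit 0, nat_lit 2, nat_lit 0])))))
 (.node (nat_lit 2736) (.node (nat_lit 2734) (.leaf ((nat_lit 1231), [nat_lit 0, nat_lit 2, nat_lit 4, nat_lit 0, nat_lit 5, nat_lit 4, nat_lit 1, nat_lit 4, nat_lit 1, nat_lit 0, nat_lit 2, nat_lit 0, nat_lit 1, nat_lit 0])) (.node (nat_lit 2735) (.leaf ((nat_lit 1405), [nat_lit 2, nat_lit 4, nat_lit 3, nat_lit 2, nat_lit 3, nat_lit 0, nat_lit 2, nat_lit 0, nat_lit 1, nat_lit 0, nat_lit 1])) (.leaf ((nat_lit 1406), [nat_lit 4, nat_lit 5, nat_lit 3, nat_lit 5, nat_lit 4, nat_lit 0, nat_lit 3, nat_lit 4, nat_lit 3, nat_lit 0, nat_lit 2, nat_lit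 2, nat_lit 0, nat_lit 2, nat_lit 2])))) (.node (nat_lit 2737) (.leaf ((nat_lit 1381), [nat_lit 4, nat_lit 2, nat_lit 5, nat_lit 1, nat_lit 5, nat_lit 0, nat_lit 1, nat_lit 0, nat_lit 3, nat_lit 0, nat_lit 2, nat_lit 0, nat_lit 1, nat_lit 0])) (.node (nat_lit 2738) (.leaf ((nat_lit 1318), [nat_lit 4, nat_lit 2, nat_lit 5, nat_lit 4, nat_lit 2, nat_lit 0, nat_lit 2, nat_lit 2, nat_lit 0, nat_lit 2])) (.leaf ((nat_lit 1102), [nat_lit 0, nat_lit 2, nat_lit 5, nat_lit 1, nat_lit 4, nat_lit 3, nat_lit 2, nat_lit 3, nat_lit 2, nat_lit 0, nat_lit 1, nat_lit 0, nat_lit 2, nat_lit 0, nat_lit 2, nat_lit 0]))))))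
 (.node (nat_lit 2744) (.node (nat_lit 2741) (.node (nat_lit 2740) (.leaf ((nat_lit 285), [nat_lit 4, nat_lit 3, nat_lit 0, nat_lit 5, nat_lit 2, nat_lit 4, nat_lit 3, nat_lit 0, nat_lit 4, nat_lit 0, nat_lit 2, nat_lit 0, nat_lit 2, nat_lit 0])) (.leaf ((nat_lit 573), [nat_lit 4, nat_lit 5, nat_lit 4, nat_lit 0, nat_lit 5, nat_lit 3, nat_lit 1, nat_lit 3, nat_lit 0, nat_lit 3, nat_lit 1, nat_lit 0, nat_lit 2, nat_lit 0]))) (.node (nat_lit 2742) (.leaf ((nat_lit 1372), [nat_lit 5, nat_lit 3, nat_lit 2, nat_lit 0, nat_lit 5, nat_lit 3, nat_lit 0, nat_lit 3, nat_lit 4, nat_lit 3, nat_lit 0, nat_lit 1, nat_lit 0, nat_lit 2, nat_lit 0])) (.node (nat_lit 2743) (.leaf ((nat_lit 859), [nat_lit 3, nat_lit 5, nat_lit 1, nat_lit 3, nat_lit 0, nat_lit 5, nat_lit 3, nat_lit 4, nat_lit 0, nat_lit 3, nat_lit 1, nat_lit 0, nat_lit 2, nat_lit 2, nat_lit 0, nat_lit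 1, nat_lit 0])) (.leaf ((nat_lit 1379), [nat_lit 4, nat_lit 5, nat_lit 3, nat_lit 5, nat_lit 4, nat_lit 1, nat_lit 3, nat_lit 0, nat_lit 1, nat_lit 4, nat_lit 2, nat_lit 0, nat_lit 1, nat_lit 0, nat_lit 2, nat_lit 0])))))
 (.node (nat_lit 2747) (.node (nat_lit 2745) (.leaf ((nat_lit 1170), [nat_lit 2, nat_lit 0, nat_lit 1, nat_lit 5, nat_lit 1, nat_lit 4, nat_lit 3, nat_lit 1, nat_lit 4, nat_lit 0, nat_lit 2, nat_lit 2, nat_lit 0, nat_lit 2, nat_lit 0])) (.node (nat_lit 2746) (.leaf ((nat_lit 1175), [nat_lit 1, nat_lit 0, nat_lit 5, nat_lit 1, nat_lit 3, nat_lit 2, nat_lit 3, nat_lit 0, nat_lit 4, nat_lit 2, nat_lit 2, nat_lit 0, nat_lit 2, nat_lit 2, nat_lit 0, nat_lit 1])) (.leaf ((nat_lit 142), [nat_lit 2, nat_lit 5, nat_lit 4, nat_lit 5, nat_lit 3, nat_lit 0, nat_lit 1, nat_lit 4, nat_lit 1, nat_lit 0])))) (.node (nat_lit 2748) (.leaf ((nat_lit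 1405), [nat_lit 5, nat_lit 4, nat_lit 1, nat_lit 0, nat_lit 5, nat_lit 1, nat_lit 3, nat_lit 4, nat_lit 3, nat_lit 1, nat_lit 3, nat_lit 0, nat_lit 2, nat_lit 2, nat_lit 0, nat_lit 1, nat_lit 0])) (.node (nat_lit 2749) (.leaf ((nat_lit 1310), [nat_lit 2, nat_lit 2, nat_lit 5, nat_lit 1, nat_lit 0, nat_lit 4, nat_lit 1, nat_lit 3, nat_lit 1, nat_lit 0, nat_lit 1])) (.leaf ((nat_lit 97), [nat_lit 2, nat_lit 5, nat_lit 2, nat_lit 3, nat_lit 5, nat_lit 4, nat_lit 1, nat_lit 0, nat_lit 4, nat_lit 3, nat_lit 2, nat_lit 0, nat_lit 1, nat_lit 0, nat_lit 2, nat_lit 0, nat_lit 2, nat_lit 0])))))))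
 (.node (nat_lit 2761) (.node (nat_lit 2755) (.node (nat_lit 2752) (.node (nat_lit 2751) (.leaf ((nat_lit 806), [nat_lit 5, nat_lit 2, nat_lit 5, nat_lit 1, nat_lit 4, nat_lit 0, nat_lit 4, nat_lit 3, nat_lit 2, nat_lit 2, nat_lit 0, nat_lit 2, nat_lit 2])) (.leaf ((nat_lit 1283), [nat_lit 5, nat_lit 2, nat_lit 3, nat_lit 0, nat_lit 5, nat_lit 4, nat_lit 3, nat_lit 1, nat_lit 4, nat_lit 1, nat_lit 0, nat_lit 2, nat_lit 2, nat_lit 0, nat_lit 2, nat_lit 0]))) (.node (nat_lit 2753) (.leaf ((nat_lit 1290), [nat_lit 4, nat_lit 1, nat_lit 5, nat_lit 2, nat_lit 5, nat_lit 4, nat_lit 3, nat_lit 2, nat_lit 3, nat_lit 0, nat_lit 3, nat_lit 0, nat_lit 2, nat_lit 2, nat_lit 0, nat_lit 2, nat_lit 2, nat_lit 0])) (.node (nat_lit 2754) (.leaf ((nat_lit 1156), [nat_lit 4, nat_lit 3, nat_lit 2, nat_lit 5, nat_lit 4, nat_lit 3, nat_lit 1, nat_lit 0, nat_lit 2, nat_lit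 3, nat_lit 0, nat_lit 1, nat_lit 0, nat_lit 2, nat_lit 0, nat_lit 2, nat_lit 2, nat_lit 0])) (.leaf ((nat_lit 255), [nat_lit 1, nat_lit 4, nat_lit 5, nat_lit 1, nat_lit 5, nat_lit 3, nat_lit 1, nat_lit 4, nat_lit 3, nat_lit 0, nat_lit 2, nat_lit 2, nat_lit 0, nat_lit 2, nat_lit 0])))))
 (.node (nat_lit 2758) (.node (nat_lit 2756) (.leaf ((nat_lit 584), [nat_lit 5, nat_lit 3, nat_lit 5, nat_lit 4, nat_lit 2, nat_lit 3, nat_lit 1, nat_lit 3, nat_lit 2, nat_lit 0])) (.node (nat_lit 2757) (.leaf ((nat_lit 1385), [nat_lit 4, nat_lit 5, nat_lit 1, nat_lit 0, nat_lit 3, nat_lit 0, nat_lit 2, nat_lit 2, nat_lit 0, nat_lit 1])) (.leaf ((nat_lit 1407), [nat_lit 2, nat_lit 5, nat_lit 4, nat_lit 5, nat_lit 4, nat_lit 0, nat_lit 3, nat_lit 1, nat_lit 0, nat_lit 2, nat_lit 0, nat_lit 2, nat_lit 2, nat_lit 0])))) (.node (nat_lit 2759) (.leaf ((nat_lit 483), [nat_lit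 1, nat_lit 0, nat_lit 2, nat_lit 5, nat_lit 4, nat_lit 3, nat_lit 0, nat_lit 4, nat_lit 1, nat_lit 0, nat_lit 3, nat_lit 0, nat_lit 1, nat_lit 0, nat_lit 2, nat_lit 2, nat_lit 0])) (.node (nat_lit 2760) (.leaf ((nat_lit 840), [nat_lit 2, nat_lit 5, nat_lit 4, nat_lit 2, nat_lit 0, nat_lit 2, nat_lit 3, nat_lit 0, nat_lit 1, nat_lit 0])) (.leaf ((nat_lit 1407), [nat_lit 2, nat_lit 2, nat_lit 5, nat_lit 0, nat_lit 3, nat_lit 0, nat_lit 2, nat_lit 4, nat_lit 3, nat_lit 2, nat_lit 2, nat_lit 0, nat_lit 1, nat_lit 0]))))))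
 (.node (nat_lit 2766) (.node (nat_lit 2763) (.node (nat_lit 2762) (.leaf ((nat_lit 1394), [nat_lit 1, nat_lit 5, nat_lit 1, nat_lit 5, nat_lit 3, nat_lit 4, nat_lit 1, nat_lit 3, nat_lit 1, nat_lit 0, nat_lit 2, nat_lit 2, nat_lit 0])) (.leaf ((nat_lit 1070), [nat_lit 5, nat_lit 4, nat_lit 2, nat_lit 0, nat_lit 5, nat_lit 3, nat_lit 1, nat_lit 0, nat_lit 4, nat_lit 1, nat_lit 3, nat_lit 1, nat_lit 0, nat_lit 1, nat_lit 0, nat_lit 2]))) (.node (nat_lit 2764) (.leaf ((nat_lit 1319), [nat_lit 0, nat_lit 5, nat_lit 3, nat_lit 5, nat_lit 2, nat_lit 4, nat_lit 3, nat_lit 1, nat_lit 4, nat_lit 3, nat_lit 2, nat_lit 0, nat_lit 2, nat_lit 2, nat_lit 0, nat_lit 1])) (.node (nat_lit 2765) (.leaf ((nat_lit 1239), [nat_lit 4, nat_lit 2, nat_lit 5, nat_lit 3, nat_lit 5, nat_lit 2, nat_lit 2, nat_lit 0, nat_lit 3, nat_lit 2, nat_lit 0, nat_lit 1, nat_lit 0, nat_lit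 1, nat_lit 0, nat_lit 2, nat_lit 0])) (.leaf ((nat_lit 980), [nat_lit 4, nat_lit 5, nat_lit 3, nat_lit 5, nat_lit 4, nat_lit 3, nat_lit 0, nat_lit 1, nat_lit 0, nat_lit 3, nat_lit 2, nat_lit 0])))))
 (.node (nat_lit 2769) (.node (nat_lit 2767) (.leaf ((nat_lit 1056), [nat_lit 4, nat_lit 0, nat_lit 5, nat_lit 2, nat_lit 5, nat_lit 1, nat_lit 4, nat_lit 2, nat_lit 4, nat_lit 3, nat_lit 0, nat_lit 1, nat_lit 0, nat_lit 2, nat_lit 0, nat_lit 2])) (.node (nat_lit 2768) (.leaf ((nat_lit 1079), [nat_lit 4, nat_lit 3, nat_lit 2, nat_lit 5, nat_lit 1, nat_lit 4, nat_lit 3, nat_lit 1, nat_lit 4, nat_lit 1])) (.leaf ((nat_lit 1338), [nat_lit 0, nat_lit 5, nat_lit 3, nat_lit 5, nat_lit 3, nat_lit 0, nat_lit 4, nat_lit 2, nat_lit 2, nat_lit 0, nat_lit 2, nat_lit 2, nat_lit 0])))) (.node (nat_lit 2770) (.leaf ((nat_lit 694), [nat_lit 4, nat_lit 2, nat_lit 5, nat_lit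 1, nat_lit 5, nat_lit 0, nat_lit 1, nat_lit 0, nat_lit 1, nat_lit 0, nat_lit 3, nat_lit 0, nat_lit 2, nat_lit 2, nat_lit 0, nat_lit 2, nat_lit 0, nat_lit 1, nat_lit 0])) (.node (nat_lit 2771) (.leaf ((nat_lit 1228), [nat_lit 0, nat_lit 5, nat_lit 2, nat_lit 5, nat_lit 3, nat_lit 1, nat_lit 0, nat_lit 2, nat_lit 3, nat_lit 0, nat_lit 1, nat_lit 0, nat_lit 2, nat_lit 2, nat_lit 0, nat_lit 2, nat_lit 0])) (.leaf ((nat_lit 391), [nat_lit 0, nat_lit 5, nat_lit 2, nat_lit 5, nat_lit 3, nat_lit 4, nat_lit 2, nat_lit 3, nat_lit 2, nat_lit 0, nat_lit 1, nat_lit 0, nat_lit 2]))))))))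
 (.node (nat_lit 2794) (.node (nat_lit 2783) (.node (nat_lit 2777) (.node (nat_lit 2774) (.node (nat_lit 2773) (.leaf ((nat_lit 1406), [nat_lit 0, nat_lit 2, nat_lit 4, nat_lit 0, nat_lit 5, nat_lit 3, nat_lit 4, nat_lit 1, nat_lit 3, nat_lit 0, nat_lit 1, nat_lit 0, nat_lit 2, nat_lit 0, nat_lit 2, nat_lit 2, nat_lit 0])) (.leaf ((nat_lit 1398), [nat_lit 3, nat_lit 2, nat_lit 0, nat_lit 5, nat_lit 2, nat_lit 0, nat_lit 3, nat_lit 2, nat_lit 3, nat_lit 1, nat_lit 0, nat_lit 1, nat_lit 0, nat_lit 2, nat_lit 0, nat_lit 2, nat_lit 0]))) (.node (nat_lit 2775) (.leaf ((nat_lit 947), [nat_lit 0, nat_lit 3, nat_lit 5, nat_lit 4, nat_lit 2, nat_lit 4, nat_lit 2, nat_lit 2, nat_lit 0, nat_lit 1, nat_lit 0, nat_lit 2, nat_lit 2, nat_lit 0])) (.node (nat_lit 2776) (.leaf ((nat_lit 1120), [nat_lit 0, nat_lit 3, nat_lit 5, nat_lit 2, nat_lit 3, nat_lit 0, nat_lit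 4, nat_lit 0, nat_lit 2, nat_lit 0, nat_lit 2, nat_lit 2, nat_lit 0])) (.leaf ((nat_lit 1212), [nat_lit 1, nat_lit 3, nat_lit 0, nat_lit 5, nat_lit 3, nat_lit 1, nat_lit 3, nat_lit 0, nat_lit 3, nat_lit 2, nat_lit 2, nat_lit 0, nat_lit 2, nat_lit 2, nat_lit 0, nat_lit 2, nat_lit 2, nat_lit 0])))))
 (.node (nat_lit 2780) (.node (nat_lit 2778) (.leaf ((nat_lit 628), [nat_lit 5, nat_lit 4, nat_lit 2, nat_lit 0, nat_lit 5, nat_lit 0, nat_lit 2, nat_lit 2, nat_lit 3, nat_lit 0, nat_lit 1, nat_lit 0, nat_lit 2, nat_lit 0, nat_lit 2])) (.node (nat_lit 2779) (.leaf ((nat_lit 1315), [nat_lit 2, nat_lit 3, nat_lit 0, nat_lit 5, nat_lit 2, nat_lit 3, nat_lit 0, nat_lit 4, nat_lit 2, nat_lit 2, nat_lit 0, nat_lit 1, nat_lit 0, nat_lit 2, nat_lit 2])) (.leaf ((nat_lit 1364), [nat_lit 4, nat_lit 1, nat_lit 0, nat_lit 5, nat_lit 3, nat_lit 2, nat_lit 2, nat_lit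 4, nat_lit 3, nat_lit 1, nat_lit 0, nat_lit 1, nat_lit 0, nat_lit 2, nat_lit 2, nat_lit 0])))) (.node (nat_lit 2781) (.leaf ((nat_lit 205), [nat_lit 2, nat_lit 2, nat_lit 5, nat_lit 0, nat_lit 4, nat_lit 1, nat_lit 3, nat_lit 1, nat_lit 3, nat_lit 0, nat_lit 2, nat_lit 2])) (.node (nat_lit 2782) (.leaf ((nat_lit 1390), [nat_lit 3, nat_lit 5, nat_lit 2, nat_lit 5, nat_lit 4, nat_lit 2, nat_lit 3, nat_lit 2, nat_lit 3, nat_lit 2, nat_lit 0, nat_lit 1, nat_lit 0, nat_lit 2, nat_lit 0, nat_lit 2])) (.leaf ((nat_lit 514), [nat_lit 5, nat_lit 2, nat_lit 3, nat_lit 5, nat_lit 2, nat_lit 0, nat_lit 3, nat_lit 0, nat_lit 4, nat_lit 0, nat_lit 1, nat_lit 0, nat_lit 2, nat_lit 0]))))))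
 (.node (nat_lit 2788) (.node (nat_lit 2785) (.node (nat_lit 2784) (.leaf ((nat_lit 998), [nat_lit 3, nat_lit 4, nat_lit 2, nat_lit 0, nat_lit 2, nat_lit 3, nat_lit 0, nat_lit 2, nat_lit 2])) (.leaf ((nat_lit 14), [nat_lit 0, nat_lit 2, nat_lit 4, nat_lit 0, nat_lit 5, nat_lit 4, nat_lit 2, nat_lit 3, nat_lit 0, nat_lit 3, nat_lit 0, nat_lit 2, nat_lit 2, nat_lit 0, nat_lit 2, nat_lit 0]))) (.node (nat_lit 2786) (.leaf ((nat_lit 1057), [nat_lit 5, nat_lit 1, nat_lit 0, nat_lit 3, nat_lit 5, nat_lit 0, nat_lit 4, nat_lit 1, nat_lit 4, nat_lit 0, nat_lit 1, nat_lit 0, nat_lit 2, nat_lit 2, nat_lit 0, nat_lit 1])) (.node (nat_lit 2787) (.leaf ((nat_lit 1074), [nat_lit 5, nat_lit 0, nat_lit 3, nat_lit 0, nat_lit 4, nat_lit 0, nat_lit 2, nat_lit 0, nat_lit 2, nat_lit 2, nat_lit 0, nat_lit 2, nat_lit 0])) (.leaf ((nat_lit 1339), [nat_lit 3, nat_lit 1,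 nat_lit 5, nat_lit 2, nat_lit 5, nat_lit 4, nat_lit 0, nat_lit 2, nat_lit 2, nat_lit 3, nat_lit 2, nat_lit 2])))))
 (.node (nat_lit 2791) (.node (nat_lit 2789) (.leaf ((nat_lit 1402), [nat_lit 1, nat_lit 0, nat_lit 2, nat_lit 5, nat_lit 2, nat_lit 0, nat_lit 4, nat_lit 1, nat_lit 3, nat_lit 2, nat_lit 2, nat_lit 0, nat_lit 2, nat_lit 0, nat_lit 1])) (.node (nat_lit 2790) (.leaf ((nat_lit 1071), [nat_lit 2, nat_lit 5, nat_lit 2, nat_lit 3, nat_lit 5, nat_lit 1, nat_lit 0, nat_lit 3, nat_lit 4, nat_lit 0, nat_lit 1, nat_lit 0, nat_lit 2, nat_lit 0, nat_lit 2])) (.leaf ((nat_lit 1384), [nat_lit 2, nat_lit 0, nat_lit 1, nat_lit 5, nat_lit 4, nat_lit 0, nat_lit 1, nat_lit 4, nat_lit 3, nat_lit 2, nat_lit 2, nat_lit 0, nat_lit 2, nat_lit 2, nat_lit 0, nat_lit 1])))) (.node (nat_lit 2792) (.leaf ((nat_lit 1326), [nat_lit 3, nat_lit 2, nat_lit 3, nat_lit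 5, nat_lit 4, nat_lit 1, nat_lit 3, nat_lit 0, nat_lit 1, nat_lit 4, nat_lit 2, nat_lit 2, nat_lit 0, nat_lit 1, nat_lit 0, nat_lit 2, nat_lit 2])) (.node (nat_lit 2793) (.leaf ((nat_lit 1388), [nat_lit 5, nat_lit 4, nat_lit 5, nat_lit 1, nat_lit 5, nat_lit 3, nat_lit 1, nat_lit 3, nat_lit 0, nat_lit 4, nat_lit 0, nat_lit 2, nat_lit 2, nat_lit 0, nat_lit 2, nat_lit 0, nat_lit 1, nat_lit 0])) (.leaf ((nat_lit 570), [nat_lit 5, nat_lit 1, nat_lit 3, nat_lit 0, nat_lit 5, nat_lit 3, nat_lit 1, nat_lit 3, nat_lit 0, nat_lit 2, nat_lit 4, nat_lit 2, nat_lit 2, nat_lit 0, nat_lit 1, nat_lit 0, nat_lit 2, nat_lit 0])))))))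
 (.node (nat_lit 2805) (.node (nat_lit 2799) (.node (nat_lit 2796) (.node (nat_lit 2795) (.leaf ((nat_lit 1054), [nat_lit 4, nat_lit 3, nat_lit 2, nat_lit 5, nat_lit 1, nat_lit 4, nat_lit 1, nat_lit 4, nat_lit 3, nat_lit 0, nat_lit 1, nat_lit 0, nat_lit 2, nat_lit 2, nat_lit 0, nat_lit 2])) (.leaf ((nat_lit 1386), [nat_lit 5, nat_lit 2, nat_lit 0, nat_lit 2, nat_lit 5, nat_lit 2, nat_lit 4, nat_lit 0, nat_lit 4, nat_lit 0, nat_lit 1, nat_lit 0, nat_lit 2, nat_lit 2]))) (.node (nat_lit 2797) (.leaf ((nat_lit 965), [nat_lit 3, nat_lit 4, nat_lit 5, nat_lit 2, nat_lit 5, nat_lit 0, nat_lit 1, nat_lit 3, nat_lit 1, nat_lit 0, nat_lit 4, nat_lit 2, nat_lit 0, nat_lit 1, nat_lit 0, nat_lit 2, nat_lit 2])) (.node (nat_lit 2798) (.leaf ((nat_lit 736), [nat_lit 3, nat_lit 0, nat_lit 5, nat_lit 2, nat_lit 0, nat_lit 4, nat_lit 2, nat_lit 0, nat_lit 2, nat_lit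 0, nat_lit 1, nat_lit 0, nat_lit 1, nat_lit 0])) (.leaf ((nat_lit 247), [nat_lit 3, nat_lit 5, nat_lit 2, nat_lit 5, nat_lit 1, nat_lit 0, nat_lit 2, nat_lit 0, nat_lit 2, nat_lit 4, nat_lit 0, nat_lit 2, nat_lit 2, nat_lit 0, nat_lit 1, nat_lit 0])))))
 (.node (nat_lit 2802) (.node (nat_lit 2800) (.leaf ((nat_lit 902), [nat_lit 5, nat_lit 1, nat_lit 3, nat_lit 2, nat_lit 5, nat_lit 1, nat_lit 3, nat_lit 1, nat_lit 3, nat_lit 0, nat_lit 3, nat_lit 2, nat_lit 0, nat_lit 1, nat_lit 0, nat_lit 2, nat_lit 0, nat_lit 2, nat_lit 0])) (.node (nat_lit 2801) (.leaf ((nat_lit 1373), [nat_lit 0, nat_lit 2, nat_lit 5, nat_lit 1, nat_lit 4, nat_lit 3, nat_lit 1, nat_lit 3, nat_lit 0, nat_lit 1, nat_lit 0, nat_lit 2, nat_lit 2, nat_lit 0, nat_lit 2])) (.leaf ((nat_lit 833), [nat_lit 0, nat_lit 5, nat_lit 2, nat_lit 3, nat_lit 5, nat_lit 3, nat_lit 1, nat_lit 0,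 nat_lit 4, nat_lit 1, nat_lit 3, nat_lit 1, nat_lit 0, nat_lit 1, nat_lit 0, nat_lit 2, nat_lit 2])))) (.node (nat_lit 2803) (.leaf ((nat_lit 1366), [nat_lit 2, nat_lit 5, nat_lit 2, nat_lit 3, nat_lit 5, nat_lit 0, nat_lit 1, nat_lit 0, nat_lit 1, nat_lit 0, nat_lit 3, nat_lit 2, nat_lit 2, nat_lit 0, nat_lit 2])) (.node (nat_lit 2804) (.leaf ((nat_lit 1185), [nat_lit 5, nat_lit 1, nat_lit 5, nat_lit 0, nat_lit 5, nat_lit 4, nat_lit 2, nat_lit 4, nat_lit 3, nat_lit 0, nat_lit 2, nat_lit 0, nat_lit 2, nat_lit 2, nat_lit 0])) (.leaf ((nat_lit 769), [nat_lit 4, nat_lit 1, nat_lit 5, nat_lit 2, nat_lit 5, nat_lit 2, nat_lit 3, nat_lit 4, nat_lit 3, nat_lit 0, nat_lit 1, nat_lit 0, nat_lit 1, nat_lit 0, nat_lit 2]))))))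
 (.node (nat_lit 2810) (.node (nat_lit 2807) (.node (nat_lit 2806) (.leaf ((nat_lit 1396), [nat_lit 3, nat_lit 5, nat_lit 1, nat_lit 3, nat_lit 2, nat_lit 5, nat_lit 3, nat_lit 0, nat_lit 3, nat_lit 2, nat_lit 3, nat_lit 0, nat_lit 2, nat_lit 2, nat_lit 0])) (.leaf ((nat_lit 1404), [nat_lit 4, nat_lit 3, nat_lit 5, nat_lit 2, nat_lit 5, nat_lit 2, nat_lit 3, nat_lit 2, nat_lit 2, nat_lit 0, nat_lit 2, nat_lit 2, nat_lit 0, nat_lit 1]))) (.node (nat_lit 2808) (.leaf ((nat_lit 1132), [nat_lit 0, nat_lit 5, nat_lit 0, nat_lit 1, nat_lit 5, nat_lit 1, nat_lit 0, nat_lit 4, nat_lit 1, nat_lit 4, nat_lit 1, nat_lit 0, nat_lit 2, nat_lit 0])) (.node (nat_lit 2809) (.leaf ((nat_lit 1382), [nat_lit 4, nat_lit 5, nat_lit 3, nat_lit 5, nat_lit 3, nat_lit 2, nat_lit 0, nat_lit 2, nat_lit 4, nat_lit 0, nat_lit 2, nat_lit 0, nat_lit 2, nat_lit 2, nat_lit 0]))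 (.leaf ((nat_lit 342), [nat_lit 0, nat_lit 2, nat_lit 5, nat_lit 3, nat_lit 5, nat_lit 4, nat_lit 1, nat_lit 3, nat_lit 1, nat_lit 0, nat_lit 1, nat_lit 0, nat_lit 2])))))
 (.node (nat_lit 2813) (.node (nat_lit 2811) (.leaf ((nat_lit 245), [nat_lit 0, nat_lit 5, nat_lit 2, nat_lit 3, nat_lit 5, nat_lit 0, nat_lit 1, nat_lit 0, nat_lit 4, nat_lit 2, nat_lit 0, nat_lit 1, nat_lit 0, nat_lit 2, nat_lit 0, nat_lit 2, nat_lit 0])) (.node (nat_lit 2812) (.leaf ((nat_lit 137), [nat_lit 3, nat_lit 5, nat_lit 2, nat_lit 5, nat_lit 0, nat_lit 1, nat_lit 4, nat_lit 3, nat_lit 2, nat_lit 3, nat_lit 0, nat_lit 2, nat_lit 0, nat_lit 2, nat_lit 2, nat_lit 0, nat_lit 1, nat_lit 0])) (.leaf ((nat_lit 740), [nat_lit 4, nat_lit 3, nat_lit 2, nat_lit 5, nat_lit 3, nat_lit 4, nat_lit 2, nat_lit 4, nat_lit 2, nat_lit 3, nat_lit 1, nat_lit 0, nat_lit 2, nat_lit 2, nat_lit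 0, nat_lit 1, nat_lit 0])))) (.node (nat_lit 2814) (.leaf ((nat_lit 1350), [nat_lit 0, nat_lit 5, nat_lit 2, nat_lit 5, nat_lit 1, nat_lit 3, nat_lit 4, nat_lit 1, nat_lit 3, nat_lit 2, nat_lit 0, nat_lit 1, nat_lit 0, nat_lit 1, nat_lit 0, nat_lit 2, nat_lit 0])) (.node (nat_lit 2815) (.leaf ((nat_lit 1297), [nat_lit 4, nat_lit 5, nat_lit 4, nat_lit 1, nat_lit 3, nat_lit 4, nat_lit 1, nat_lit 0, nat_lit 2, nat_lit 2, nat_lit 0])) (.leaf ((nat_lit 1255), [nat_lit 5, nat_lit 4, nat_lit 3, nat_lit 5, nat_lit 2, nat_lit 5, nat_lit 3, nat_lit 4, nat_lit 1, nat_lit 3, nat_lit 0, nat_lit 3]))))))))))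
noncomputable def qWd : Tr (ℕ × List ℕ) := (.node (nat_lit 1408) (.node (nat_lit 704) (.node (nat_lit 352) (.node (nat_lit 176) qWd_0 qWd_1) (.node (nat_lit 528) qWd_2 qWd_3)) (.node (nat_lit 1056) (.node (nat_lit 880) qWd_4 qWd_5) (.node (nat_lit 1232) qWd_6 qWd_7))) (.node (nat_lit 2112) (.node (nat_lit 1760) (.node (nat_lit 1584) qWd_8 qWd_9) (.node (nat_lit 1936) qWd_10 qWd_11)) (.node (nat_lit 2464) (.node (nat_lit 2288) qWd_12 qWd_13) (.node (nat_lit 2640) qWd_14 qWd_15))))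
theorem qq_0 : allR 0 405 (dbl2Chk (nat_lit 10) (nat_lit 1023) (U62.L.map Lev.b) xS h3T v1T qDd 2 1408 2 qPA qWd) = true := by decide +kernel
theorem qq_1 : allR 405 402 (dbl2Chk (nat_lit 10) (nat_lit 1023) (U62.L.map Lev.b) xS h3T v1T qDd 2 1408 2 qPA qWd) = true := by decide +kernel
theorem qq_2 : allR 807 400 (dbl2Chk (nat_lit 10) (nat_lit 1023) (U62.L.map Lev.b) xS h3T v1T qDd 2 1408 2 qPA qWd) = true := by decide +kernel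
theorem qq_3 : allR 1207 201 (dbl2Chk (nat_lit 10) (nat_lit 1023) (U62.L.map Lev.b) xS h3T v1T qDd 2 1408 2 qPA qWd) = true := by decide +kernel
theorem qq : allR 0 1408 (dbl2Chk (nat_lit 10) (nat_lit 1023) (U62.L.map Lev.b) xS h3T v1T qDd 2 1408 2 qPA qWd) = true := (allR_add (allR_add (allR_add qq_0 qq_1) qq_2) qq_3)
theorem qD {G : Type*} [Group G] [Finite G] {X : Type*} [MulAction G X] {pt : ℕ → X} (C : Ch G 693 (nat_lit 10) (nat_lit 1023) pt U62.T U62.L) : Lets G 693 (nat_lit 10) (nat_lit 1023) pt qDd := lets_words C.lets qdE qdw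
theorem qd {G : Type*} [Group G] [Finite G] {X : Type*} [MulAction G X] {pt : ℕ → X} (C : Ch G 693 (nat_lit 10) (nat_lit 1023) pt U62.T U62.L) {U V : Subgroup G} (hU : Lets U 693 (nat_lit 10) (nat_lit 1023) pt h3T) (hV : Lets V 693 (nat_lit 10) (nat_lit 1023) pt v1T) (g : G) :
    ∃ i < 2, ∃ u ∈ U, ∃ x ∈ V, g = u * (qD C).e i * x :=
  C.dbl3 (xl C) xslp (by decide +kernel) hU hV (qD C) qq (by decide +kernel) g
noncomputable def qNE : Tr (List ℕ × List ℕ × List ℕ) := (.node (nat_lit 1) (.leaf ([], [nat_lit 0], [nat_lit 5, nat_lit 99, nat_lit 1])) (.leaf ([nat_lit 0, nat_lit 9, nat_lit 6, nat_lit 0, nat_lit 9, nat_lit 0, nat_lit 5, nat_lit 1, nat_lit 8, nat_lit 7, nat_lit 3, nat_lit 7, nat_lit 5, nat_lit 3, nat_lit 5, nat_lit 1], [nat_lit 0], [nat_lit 4, nat_lit 99, nat_lit 0])))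
theorem qn : allB 2 (ncjChk (nat_lit 10) (nat_lit 1023) (U62.L.map Lev.b) U62.T h1T h3T qDd 11 qNE) = true := by decide +kernel
theorem ncq {G : Type*} [Group G] [Finite G] {X : Type*} [MulAction G X] {pt : ℕ → X} (C : Ch G 693 (nat_lit 10) (nat_lit 1023) pt U62.T U62.L) {A B : Subgroup G} (hA : Ch A 693 (nat_lit 10) (nat_lit 1023) pt h1T h1L) (hB : Ch B 693 (nat_lit 10) (nat_lit 1023) pt h3T h3L) :
    ¬ ∃ g : G, A.map (MulAut.conj g).toMonoidHom = B :=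
  let ⟨V, h, h'⟩ := exV1 C
  C.nconj hA.lets hB.lets (qD C) (qd C hB.lets h) (h' _ (hA.le_norm C.base (v1l C) v1n)) (by norm_num) (by rw [hA.card]; decide +kernel) qn
noncomputable def rDd : Tr ℕ := (.node (nat_lit 1) (.leaf (nat_lit 0x2b4aceb2ac6b0abeaeab6acaaeaaaa6a8a9ea6a96a4a8ea2a86a0a7e9ea769ca6e9aa6698a5e96a5694a4e92a4690a3e8ea368ca2e8aa2688a1e86a1684a0e82a06809fe7e9f67c9ee7a9e6789de769d6749ce729c6709be6e9b66c9ae6a9a66899e669966498e629866097e5e9765c96e5a9665895e569565494e529465093e4e9364c92e4a9264891e469164490e42906408fe3e8f63c8ee3a8e6388de368d6348ce328c6308be2e8b62c8ae2a8a62889e268962488e228862087e1e8761c86e1a8661885e168561484e128461083e0e8360c82e0a8260881e068160480e02806007fdfe7f5fc7edfa7e5f87ddf67d5f47cdf27c5f07bdee7b5ec7adea7a5e879de6795e478de2785e077dde775dc76dda765d875dd6755d474dd2745d073dce735cc72dca725c871dc6715c470dc2705c06fdbe6f5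bc6edba6e5b86ddb66d5b46cdb26c5b06bdae6b5ac6adaa6a5a869da6695a468da2685a067d9e6759c66d9a6659865d966559464d926459063d8e6358c62d8a6258861d866158460d82605805fd7e5f57c5ed7a5e5785dd765d5745cd725c5705bd6e5b56c5ad6a5a56859d665956458d625856057d5e5755c56d5a5655855d565555454d525455053d4e5354c52d4a5254851d465154450d42505404fd3e4f53c4ed3a4e5384dd364d5344cd324c5304bd2e4b52c4ad2a4a52849d264952448d224852047d1e4751c46d1a4651845d164551444d124451043d0e4350c42d0a4250841d064150440d02405003fcfe3f4fc3ecfa3e4f83dcf63d4f43ccf23c4f03bcee3b4ec3acea3a4e839ce6394e438ce2384e037cde374dc36cda364d835cd6354d434cd2344d033cce334cc32cca324c831cc6314c430cc2304c02fcbe2f4bc2ecba2e4b82dcb62d4b42ccb22c4b02bcae2b4ac2acaa2a4a829ca6294a428ca2284a027c9e2749c26c9a2649825c962549424c922449023c8e2348c22c8a2248821c862148420c82204801fc7e1f47c1ec7a1e4781dc761d4741cc721c4701bc6e1b46c1ac6a1a46819c661946418c621846017c5e1745c16c5a1645815c561545414c521445013c4e1344c12c4a1244811c461144410c42104400fc3e0f43c0ec3a0e4380dc360d4340cc320c4300bc2e0b42c0ac2a0a42809c260942408c220842007c1e0741c06c1a0641805c160541404c120441003c0e0340c02c0a0240801c060140400c0200400))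 (.leaf (nat_lit 0x199960da18c15278c77a67a3c2526125a5c4db79cf19e4fe4b15d061971922c668dc98e8f570891889c744327a1b60b4785052e751d250112ac93341d8f3224d2a5b17744670c8b71e2b4d83a10c4c539bb88961aba36008551fa4169cbf44e9a4fe31aaa6f80a87440d18fc9452d1fa99067193477a106c0160ec4e7f4806f07d004569b5ff394e79097a82105a6d70ad1082306c084f26364c6228034a5b7d0f6484918d4930e474ac0cc0009b455b3801a63a21a6aab32f0a8a5c6d5a0f393a2f7212253414838450284da11f5a18b5024951d52059ea89122729c59014886a23a3a6994697755df8391f070a828c15633c131bc968dc5ba867daa56c8858b3ea8c2b65e0fe250906a4e0cd14d6a86d2f83103660ba95a885f4fb1a49206a120d2750c0330d9d68554585d48741826723894d9e2e01d1948e784c56d5eb8a958400d77927807d5e2402019dee899c078db7549014b60903e7c13e7f7daab2600d1c5644714a6fdef60482170075ee9645e6b309fe35972844ed43e677657609cf787d91180a2430a60aa7290cb09828e2b0b2632a41c9851cc9a041194ee3b6b5f91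454f915bd21c032145f812683023d3b1a28d1ca680b97ca83a89235a57e8b8ce1510b109044c96d0946823e4b598f949cb42ac7f16086a48bd992166a4eb4a53a46d3e72d7882e930f61d6d1e22cdc17b47728011a8d89495534c4d34f1c48a61e545be6b2054a83e2dc1742aac9f9db2bdaf0b0702651815cef920840a1747626930e3e690060c4384453d84e39755433f4e251cde95173569024c0a30707c51008310e065a559d0c97b155a28fc124dd11c9f93d6007a767955f97e8b64dcd7dda18ccc10329d58e71a805d1e59f6029573a6a7f026891df12a4a6e5b27820a5ad0e5bab1918f5641da970a502d3914a4065201351141418a924f86385a1ae982a8bb8f17c3a83c7c60f0494c492065fcd04d5c94de515261c4760d6b9dc1d8d9121ba204449b12b38e9499916a7250696322f8236e22055290a0623588613540e1eca442595436af25c291b8ca91d92a9df39748a71662104f45422d6ad283fead47987088ae2342b19a6e3617981ce610165a95260b8830bc5e3ba1868d759969160e8580d9d37e2831a70a7a8d56661274b606d6f386571e8a10669f9cdea9ed9ba243501037519fb73dcc7ea1456e5975e192c5d36194212de69dccb)))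
noncomputable def rdE : Tr (List ℕ) := (.node (nat_lit 1) (.leaf []) (.leaf [nat_lit 1, nat_lit 9, nat_lit 6, nat_lit 0, nat_lit 9, nat_lit 6, nat_lit 1, nat_lit 8, nat_lit 6, nat_lit 4, nat_lit 8, nat_lit 1, nat_lit 3, nat_lit 7, nat_lit 4, nat_lit 7, nat_lit 5, nat_lit 4, nat_lit 5, nat_lit 2, nat_lit 0]))
theorem rdw_0 : rDd.all2 (fun c w => isProd 693 (nat_lit 10) (nat_lit 1023) U62.T c w) rdE = true := by decide +kernel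
theorem rdw : rDd.all2 (fun c w => isProd 693 (nat_lit 10) (nat_lit 1023) U62.T c w) rdE = true := rdw_0
noncomputable def rPA_0 : Tr (ℕ × List ℕ) := (.node (nat_lit 88) (.node (nat_lit 44) (.node (nat_lit 22) (.node (nat_lit 11) (.node (nat_lit 5) (.node (nat_lit 2) (.node (nat_lit 1) (.leaf ((nat_lit 0), [])) (.leaf ((nat_lit 1), []))) (.node (nat_lit 3) (.leaf ((nat_lit 1), [nat_lit 6, nat_lit 4, nat_lit 3])) (.node (nat_lit 4) (.leaf ((nat_lit 1), [nat_lit 7, nat_lit 3, nat_lit 6, nat_lit 2, nat_lit 7])) (.leaf ((nat_lit 1), [nat_lit 3, nat_lit 5, nat_lit 0])))))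
 (.node (nat_lit 8) (.node (nat_lit 6) (.leaf ((nat_lit 1), [nat_lit 5, nat_lit 7, nat_lit 4, nat_lit 7])) (.node (nat_lit 7) (.leaf ((nat_lit 1), [nat_lit 6, nat_lit 7, nat_lit 6])) (.leaf ((nat_lit 1), [nat_lit 1, nat_lit 5, nat_lit 2, nat_lit 1])))) (.node (nat_lit 9) (.leaf ((nat_lit 0), [nat_lit 7, nat_lit 5])) (.node (nat_lit 10) (.leaf ((nat_lit 1), [nat_lit 3, nat_lit 0, nat_lit 7, nat_lit 3])) (.leaf ((nat_lit 1), [nat_lit 1, nat_lit 6]))))))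
 (.node (nat_lit 16) (.node (nat_lit 13) (.node (nat_lit 12) (.leaf ((nat_lit 1), [nat_lit 7, nat_lit 5, nat_lit 7, nat_lit 2, nat_lit 0])) (.leaf ((nat_lit 1), [nat_lit 2, nat_lit 0, nat_lit 6, nat_lit 2, nat_lit 1]))) (.node (nat_lit 14) (.leaf ((nat_lit 1), [nat_lit 7, nat_lit 5, nat_lit 1, nat_lit 6, nat_lit 0])) (.node (nat_lit 15) (.leaf ((nat_lit 1), [nat_lit 3, nat_lit 5, nat_lit 4, nat_lit 1])) (.leaf ((nat_lit 1), [nat_lit 7, nat_lit 3, nat_lit 6, nat_lit 2, nat_lit 1])))))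
 (.node (nat_lit 19) (.node (nat_lit 17) (.leaf ((nat_lit 1), [nat_lit 6, nat_lit 4, nat_lit 0])) (.node (nat_lit 18) (.leaf ((nat_lit 1), [nat_lit 3, nat_lit 7, nat_lit 3, nat_lit 6])) (.leaf ((nat_lit 1), [nat_lit 2, nat_lit 1, nat_lit 5, nat_lit 2, nat_lit 0])))) (.node (nat_lit 20) (.leaf ((nat_lit 1), [nat_lit 6, nat_lit 3, nat_lit 6])) (.node (nat_lit 21) (.leaf ((nat_lit 1), [nat_lit 3, nat_lit 7, nat_lit 4, nat_lit 7])) (.leaf ((nat_lit 1), [nat_lit 4, nat_lit 7, nat_lit 2, nat_lit 1])))))))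
 (.node (nat_lit 33) (.node (nat_lit 27) (.node (nat_lit 24) (.node (nat_lit 23) (.leaf ((nat_lit 1), [nat_lit 3, nat_lit 7, nat_lit 5, nat_lit 1])) (.leaf ((nat_lit 1), [nat_lit 7, nat_lit 6, nat_lit 7, nat_lit 2, nat_lit 0]))) (.node (nat_lit 25) (.leaf ((nat_lit 0), [nat_lit 4, nat_lit 7, nat_lit 1])) (.node (nat_lit 26) (.leaf ((nat_lit 1), [nat_lit 5, nat_lit 1, nat_lit 6, nat_lit 0])) (.leaf ((nat_lit 1), [nat_lit 5, nat_lit 7, nat_lit 0, nat_lit 5, nat_lit 3])))))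
 (.node (nat_lit 30) (.node (nat_lit 28) (.leaf ((nat_lit 1), [nat_lit 3, nat_lit 6, nat_lit 5, nat_lit 0])) (.node (nat_lit 29) (.leaf ((nat_lit 0), [nat_lit 2, nat_lit 7, nat_lit 2])) (.leaf ((nat_lit 1), [nat_lit 2, nat_lit 5, nat_lit 2, nat_lit 1, nat_lit 7])))) (.node (nat_lit 31) (.leaf ((nat_lit 1), [nat_lit 5, nat_lit 1, nat_lit 6])) (.node (nat_lit 32) (.leaf ((nat_lit 1), [nat_lit 5, nat_lit 4, nat_lit 1, nat_lit 7])) (.leaf ((nat_lit 1), [nat_lit 6, nat_lit 0, nat_lit 7, nat_lit 6, nat_lit 2]))))))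
 (.node (nat_lit 38) (.node (nat_lit 35) (.node (nat_lit 34) (.leaf ((nat_lit 1), [nat_lit 5, nat_lit 7, nat_lit 4, nat_lit 3])) (.leaf ((nat_lit 1), [nat_lit 2, nat_lit 7, nat_lit 4, nat_lit 1]))) (.node (nat_lit 36) (.leaf ((nat_lit 1), [nat_lit 3, nat_lit 7, nat_lit 6, nat_lit 4, nat_lit 5, nat_lit 0])) (.node (nat_lit 37) (.leaf ((nat_lit 1), [nat_lit 7, nat_lit 6, nat_lit 3])) (.leaf ((nat_lit 1), [nat_lit 5, nat_lit 7, nat_lit 5, nat_lit 0])))))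
 (.node (nat_lit 41) (.node (nat_lit 39) (.leaf ((nat_lit 1), [nat_lit 6, nat_lit 5, nat_lit 7, nat_lit 4, nat_lit 2, nat_lit 0])) (.node (nat_lit 40) (.leaf ((nat_lit 1), [nat_lit 7, nat_lit 1, nat_lit 5, nat_lit 2, nat_lit 1])) (.leaf ((nat_lit 1), [nat_lit 5, nat_lit 6, nat_lit 2, nat_lit 1])))) (.node (nat_lit 42) (.leaf ((nat_lit 1), [nat_lit 7, nat_lit 6, nat_lit 7, nat_lit 3])) (.node (nat_lit 43) (.leaf ((nat_lit 1), [nat_lit 5, nat_lit 3, nat_lit 6, nat_lit 2, nat_lit 7])) (.leaf ((nat_lit 1), [nat_lit 2, nat_lit 5, nat_lit 4, nat_lit 0]))))))))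
 (.node (nat_lit 66) (.node (nat_lit 55) (.node (nat_lit 49) (.node (nat_lit 46) (.node (nat_lit 45) (.leaf ((nat_lit 1), [nat_lit 4, nat_lit 7, nat_lit 2, nat_lit 0])) (.leaf ((nat_lit 1), [nat_lit 7, nat_lit 6, nat_lit 4]))) (.node (nat_lit 47) (.leaf ((nat_lit 0), [nat_lit 3, nat_lit 7, nat_lit 1])) (.node (nat_lit 48) (.leaf ((nat_lit 1), [nat_lit 7, nat_lit 0, nat_lit 7, nat_lit 4])) (.leaf ((nat_lit 1), [nat_lit 2, nat_lit 5, nat_lit 6, nat_lit 1])))))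
 (.node (nat_lit 52) (.node (nat_lit 50) (.leaf ((nat_lit 0), [nat_lit 5, nat_lit 3, nat_lit 7, nat_lit 1])) (.node (nat_lit 51) (.leaf ((nat_lit 1), [nat_lit 2, nat_lit 7, nat_lit 4, nat_lit 7])) (.leaf ((nat_lit 1), [nat_lit 4, nat_lit 6, nat_lit 2, nat_lit 0])))) (.node (nat_lit 53) (.leaf ((nat_lit 1), [nat_lit 2, nat_lit 7, nat_lit 5, nat_lit 0])) (.node (nat_lit 54) (.leaf ((nat_lit 1), [nat_lit 2, nat_lit 1, nat_lit 6, nat_lit 7, nat_lit 2, nat_lit 0])) (.leaf ((nat_lit 1), [nat_lit 3, nat_lit 1, nat_lit 5, nat_lit 2]))))))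
 (.node (nat_lit 60) (.node (nat_lit 57) (.node (nat_lit 56) (.leaf ((nat_lit 1), [nat_lit 3, nat_lit 5, nat_lit 0, nat_lit 7])) (.leaf ((nat_lit 1), [nat_lit 1, nat_lit 5, nat_lit 1, nat_lit 7, nat_lit 1]))) (.node (nat_lit 58) (.leaf ((nat_lit 1), [nat_lit 4, nat_lit 2, nat_lit 6, nat_lit 7, nat_lit 1])) (.node (nat_lit 59) (.leaf ((nat_lit 1), [nat_lit 4, nat_lit 7, nat_lit 6, nat_lit 2])) (.leaf ((nat_lit 1), [nat_lit 0, nat_lit 7, nat_lit 0, nat_lit 7, nat_lit 2, nat_lit 1])))))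
 (.node (nat_lit 63) (.node (nat_lit 61) (.leaf ((nat_lit 1), [nat_lit 3, nat_lit 5, nat_lit 7, nat_lit 4, nat_lit 3])) (.node (nat_lit 62) (.leaf ((nat_lit 1), [nat_lit 0, nat_lit 7, nat_lit 0, nat_lit 7, nat_lit 3])) (.leaf ((nat_lit 1), [nat_lit 6, nat_lit 7, nat_lit 2, nat_lit 6, nat_lit 0])))) (.node (nat_lit 64) (.leaf ((nat_lit 0), [nat_lit 3, nat_lit 6, nat_lit 7, nat_lit 1])) (.node (nat_lit 65) (.leaf ((nat_lit 1), [nat_lit 6, nat_lit 5, nat_lit 1])) (.leaf ((nat_lit 1), [nat_lit 4, nat_lit 0, nat_lit 7, nat_lit 2, nat_lit 1])))))))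
 (.node (nat_lit 77) (.node (nat_lit 71) (.node (nat_lit 68) (.node (nat_lit 67) (.leaf ((nat_lit 1), [nat_lit 7, nat_lit 2, nat_lit 0])) (.leaf ((nat_lit 1), [nat_lit 5, nat_lit 3, nat_lit 7, nat_lit 5, nat_lit 7]))) (.node (nat_lit 69) (.leaf ((nat_lit 0), [nat_lit 7, nat_lit 6, nat_lit 2, nat_lit 7])) (.node (nat_lit 70) (.leaf ((nat_lit 1), [nat_lit 4, nat_lit 3, nat_lit 1])) (.leaf ((nat_lit 1), [nat_lit 0, nat_lit 7, nat_lit 1, nat_lit 7, nat_lit 1])))))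
 (.node (nat_lit 74) (.node (nat_lit 72) (.leaf ((nat_lit 1), [nat_lit 1, nat_lit 7, nat_lit 5, nat_lit 0, nat_lit 7])) (.node (nat_lit 73) (.leaf ((nat_lit 1), [nat_lit 5, nat_lit 2, nat_lit 7, nat_lit 4, nat_lit 6])) (.leaf ((nat_lit 1), [nat_lit 7, nat_lit 2, nat_lit 5, nat_lit 0])))) (.node (nat_lit 75) (.leaf ((nat_lit 1), [nat_lit 6, nat_lit 2, nat_lit 5, nat_lit 7, nat_lit 1])) (.node (nat_lit 76) (.leaf ((nat_lit 1), [nat_lit 3, nat_lit 0, nat_lit 7, nat_lit 2])) (.leaf ((nat_lit 1), [nat_lit 7, nat_lit 1, nat_lit 5, nat_lit 1]))))))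
 (.node (nat_lit 82) (.node (nat_lit 79) (.node (nat_lit 78) (.leaf ((nat_lit 0), [nat_lit 7, nat_lit 6, nat_lit 7, nat_lit 2])) (.leaf ((nat_lit 1), [nat_lit 2, nat_lit 5, nat_lit 6, nat_lit 2]))) (.node (nat_lit 80) (.leaf ((nat_lit 1), [nat_lit 7, nat_lit 3, nat_lit 6])) (.node (nat_lit 81) (.leaf ((nat_lit 1), [nat_lit 6, nat_lit 5, nat_lit 0, nat_lit 7, nat_lit 1])) (.leaf ((nat_lit 1), [nat_lit 1, nat_lit 5, nat_lit 6, nat_lit 1])))))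
 (.node (nat_lit 85) (.node (nat_lit 83) (.leaf ((nat_lit 1), [nat_lit 7, nat_lit 5, nat_lit 4, nat_lit 2])) (.node (nat_lit 84) (.leaf ((nat_lit 1), [nat_lit 5, nat_lit 0, nat_lit 5, nat_lit 0])) (.leaf ((nat_lit 1), [nat_lit 2, nat_lit 5, nat_lit 0, nat_lit 7, nat_lit 2])))) (.node (nat_lit 86) (.leaf ((nat_lit 1), [nat_lit 7, nat_lit 2, nat_lit 6, nat_lit 2])) (.node (nat_lit 87) (.leaf ((nat_lit 1), [nat_lit 7, nat_lit 5, nat_lit 7, nat_lit 6, nat_lit 2])) (.leaf ((nat_lit 1), [nat_lit 1, nat_lit 5, nat_lit 7, nat_lit 2, nat_lit 0])))))))))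
 (.node (nat_lit 132) (.node (nat_lit 110) (.node (nat_lit 99) (.node (nat_lit 93) (.node (nat_lit 90) (.node (nat_lit 89) (.leaf ((nat_lit 1), [nat_lit 6, nat_lit 3, nat_lit 5, nat_lit 0])) (.leaf ((nat_lit 1), [nat_lit 7, nat_lit 6, nat_lit 7, nat_lit 4]))) (.node (nat_lit 91) (.leaf ((nat_lit 0), [nat_lit 6, nat_lit 2, nat_lit 7])) (.node (nat_lit 92) (.leaf ((nat_lit 1), [nat_lit 6, nat_lit 2, nat_lit 0, nat_lit 7])) (.leaf ((nat_lit 1), [nat_lit 7, nat_lit 6, nat_lit 2, nat_lit 6, nat_lit 4])))))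
 (.node (nat_lit 96) (.node (nat_lit 94) (.leaf ((nat_lit 1), [nat_lit 6, nat_lit 4, nat_lit 7, nat_lit 5, nat_lit 7])) (.node (nat_lit 95) (.leaf ((nat_lit 1), [nat_lit 7, nat_lit 6, nat_lit 4, nat_lit 5, nat_lit 1])) (.leaf ((nat_lit 1), [nat_lit 1, nat_lit 5, nat_lit 7, nat_lit 1, nat_lit 5, nat_lit 0])))) (.node (nat_lit 97) (.leaf ((nat_lit 1), [nat_lit 4, nat_lit 5, nat_lit 3, nat_lit 1])) (.node (nat_lit 98) (.leaf ((nat_lit 1), [nat_lit 1, nat_lit 6, nat_lit 1])) (.leaf ((nat_lit 1), [nat_lit 7, nat_lit 3, nat_lit 1]))))))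
 (.node (nat_lit 104) (.node (nat_lit 101) (.node (nat_lit 100) (.leaf ((nat_lit 0), [nat_lit 2, nat_lit 7, nat_lit 5])) (.leaf ((nat_lit 1), [nat_lit 1, nat_lit 7, nat_lit 2]))) (.node (nat_lit 102) (.leaf ((nat_lit 1), [nat_lit 4, nat_lit 7, nat_lit 4, nat_lit 0])) (.node (nat_lit 103) (.leaf ((nat_lit 1), [nat_lit 2, nat_lit 7, nat_lit 5, nat_lit 7, nat_lit 1])) (.leaf ((nat_lit 1), [nat_lit 3, nat_lit 0, nat_lit 6, nat_lit 3])))))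
 (.node (nat_lit 107) (.node (nat_lit 105) (.leaf ((nat_lit 1), [nat_lit 7, nat_lit 6, nat_lit 7, nat_lit 4, nat_lit 6])) (.node (nat_lit 106) (.leaf ((nat_lit 1), [nat_lit 5, nat_lit 2, nat_lit 7, nat_lit 6, nat_lit 7, nat_lit 1])) (.leaf ((nat_lit 1), [nat_lit 3, nat_lit 6, nat_lit 7, nat_lit 6])))) (.node (nat_lit 108) (.leaf ((nat_lit 1), [nat_lit 7, nat_lit 2, nat_lit 7, nat_lit 2, nat_lit 0])) (.node (nat_lit 109) (.leaf ((nat_lit 1), [nat_lit 2, nat_lit 7, nat_lit 3, nat_lit 0])) (.leaf ((nat_lit 1), [nat_lit 5, nat_lit 4, nat_lit 2, nat_lit 6])))))))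
 (.node (nat_lit 121) (.node (nat_lit 115) (.node (nat_lit 112) (.node (nat_lit 111) (.leaf ((nat_lit 1), [nat_lit 1, nat_lit 7, nat_lit 6, nat_lit 4, nat_lit 1])) (.leaf ((nat_lit 1), [nat_lit 6, nat_lit 7, nat_lit 0, nat_lit 5, nat_lit 7]))) (.node (nat_lit 113) (.leaf ((nat_lit 1), [nat_lit 3, nat_lit 0, nat_lit 5, nat_lit 3, nat_lit 0])) (.node (nat_lit 114) (.leaf ((nat_lit 1), [nat_lit 0, nat_lit 5, nat_lit 6, nat_lit 1])) (.leaf ((nat_lit 1), [nat_lit 5, nat_lit 3, nat_lit 1, nat_lit 7])))))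
 (.node (nat_lit 118) (.node (nat_lit 116) (.leaf ((nat_lit 1), [nat_lit 5, nat_lit 7, nat_lit 5, nat_lit 4, nat_lit 0])) (.node (nat_lit 117) (.leaf ((nat_lit 1), [nat_lit 7, nat_lit 2, nat_lit 6, nat_lit 0])) (.leaf ((nat_lit 1), [nat_lit 2, nat_lit 5, nat_lit 7])))) (.node (nat_lit 119) (.leaf ((nat_lit 0), [nat_lit 5, nat_lit 2, nat_lit 7, nat_lit 2, nat_lit 0])) (.node (nat_lit 120) (.leaf ((nat_lit 1), [nat_lit 2, nat_lit 1, nat_lit 6, nat_lit 2, nat_lit 0])) (.leaf ((nat_lit 1), [nat_lit 7, nat_lit 4, nat_lit 3, nat_lit 1]))))))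
 (.node (nat_lit 126) (.node (nat_lit 123) (.node (nat_lit 122) (.leaf ((nat_lit 1), [nat_lit 5, nat_lit 7, nat_lit 5, nat_lit 6, nat_lit 1])) (.leaf ((nat_lit 1), [nat_lit 5, nat_lit 7, nat_lit 2, nat_lit 7, nat_lit 2]))) (.node (nat_lit 124) (.leaf ((nat_lit 1), [nat_lit 3, nat_lit 7, nat_lit 0, nat_lit 6, nat_lit 0])) (.node (nat_lit 125) (.leaf ((nat_lit 0), [nat_lit 1, nat_lit 7, nat_lit 2, nat_lit 0])) (.leaf ((nat_lit 1), [nat_lit 5, nat_lit 7, nat_lit 4, nat_lit 1])))))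
 (.node (nat_lit 129) (.node (nat_lit 127) (.leaf ((nat_lit 1), [nat_lit 7, nat_lit 0, nat_lit 6, nat_lit 0])) (.node (nat_lit 128) (.leaf ((nat_lit 1), [nat_lit 6, nat_lit 1, nat_lit 5, nat_lit 4, nat_lit 1])) (.leaf ((nat_lit 1), [nat_lit 5, nat_lit 2, nat_lit 6, nat_lit 7])))) (.node (nat_lit 130) (.leaf ((nat_lit 1), [nat_lit 0, nat_lit 7, nat_lit 2, nat_lit 6, nat_lit 0])) (.node (nat_lit 131) (.leaf ((nat_lit 1), [nat_lit 0, nat_lit 5, nat_lit 2, nat_lit 0])) (.leaf ((nat_lit 1), [nat_lit 4, nat_lit 6, nat_lit 2, nat_lit 1]))))))))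
 (.node (nat_lit 154) (.node (nat_lit 143) (.node (nat_lit 137) (.node (nat_lit 134) (.node (nat_lit 133) (.leaf ((nat_lit 1), [nat_lit 2, nat_lit 0, nat_lit 7, nat_lit 6, nat_lit 0])) (.leaf ((nat_lit 1), [nat_lit 6, nat_lit 2, nat_lit 7]))) (.node (nat_lit 135) (.leaf ((nat_lit 1), [nat_lit 5, nat_lit 6, nat_lit 4, nat_lit 2])) (.node (nat_lit 136) (.leaf ((nat_lit 1), [nat_lit 5, nat_lit 7, nat_lit 6, nat_lit 3, nat_lit 7])) (.leaf ((nat_lit 1), [nat_lit 1, nat_lit 6, nat_lit 4, nat_lit 2])))))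
 (.node (nat_lit 140) (.node (nat_lit 138) (.leaf ((nat_lit 1), [nat_lit 6, nat_lit 3, nat_lit 5, nat_lit 2, nat_lit 0])) (.node (nat_lit 139) (.leaf ((nat_lit 1), [nat_lit 6, nat_lit 7, nat_lit 2, nat_lit 0, nat_lit 7])) (.leaf ((nat_lit 1), [nat_lit 4, nat_lit 5, nat_lit 7, nat_lit 5, nat_lit 1])))) (.node (nat_lit 141) (.leaf ((nat_lit 1), [nat_lit 1, nat_lit 7, nat_lit 3, nat_lit 0])) (.node (nat_lit 142) (.leaf ((nat_lit 1), [nat_lit 3, nat_lit 7, nat_lit 5, nat_lit 7])) (.leaf ((nat_lit 1), [nat_lit 6, nat_lit 1, nat_lit 7, nat_lit 1]))))))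
 (.node (nat_lit 148) (.node (nat_lit 145) (.node (nat_lit 144) (.leaf ((nat_lit 1), [nat_lit 0, nat_lit 5, nat_lit 0, nat_lit 7])) (.leaf ((nat_lit 1), [nat_lit 7, nat_lit 5, nat_lit 0, nat_lit 7]))) (.node (nat_lit 146) (.leaf ((nat_lit 0), [nat_lit 3, nat_lit 7, nat_lit 3, nat_lit 0])) (.node (nat_lit 147) (.leaf ((nat_lit 1), [nat_lit 7, nat_lit 6, nat_lit 7, nat_lit 1])) (.leaf ((nat_lit 1), [nat_lit 3, nat_lit 6, nat_lit 0])))))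
 (.node (nat_lit 151) (.node (nat_lit 149) (.leaf ((nat_lit 1), [nat_lit 1, nat_lit 5, nat_lit 0, nat_lit 7, nat_lit 1])) (.node (nat_lit 150) (.leaf ((nat_lit 1), [nat_lit 3, nat_lit 7])) (.leaf ((nat_lit 1), [nat_lit 7, nat_lit 4, nat_lit 7, nat_lit 6])))) (.node (nat_lit 152) (.leaf ((nat_lit 0), [nat_lit 6, nat_lit 1, nat_lit 7, nat_lit 1])) (.node (nat_lit 153) (.leaf ((nat_lit 1), [nat_lit 2, nat_lit 7, nat_lit 4, nat_lit 3])) (.leaf ((nat_lit 1), [nat_lit 7, nat_lit 2, nat_lit 6, nat_lit 4])))))))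
 (.node (nat_lit 165) (.node (nat_lit 159) (.node (nat_lit 156) (.node (nat_lit 155) (.leaf ((nat_lit 1), [nat_lit 6, nat_lit 3, nat_lit 7, nat_lit 6])) (.leaf ((nat_lit 1), [nat_lit 6, nat_lit 5, nat_lit 3, nat_lit 1]))) (.node (nat_lit 157) (.leaf ((nat_lit 1), [nat_lit 0, nat_lit 7, nat_lit 2, nat_lit 0])) (.node (nat_lit 158) (.leaf ((nat_lit 1), [nat_lit 5, nat_lit 1, nat_lit 7, nat_lit 3])) (.leaf ((nat_lit 1), [nat_lit 7, nat_lit 5, nat_lit 2, nat_lit 1])))))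
 (.node (nat_lit 162) (.node (nat_lit 160) (.leaf ((nat_lit 1), [nat_lit 4, nat_lit 6, nat_lit 7, nat_lit 3, nat_lit 0])) (.node (nat_lit 161) (.leaf ((nat_lit 1), [nat_lit 4, nat_lit 5, nat_lit 1, nat_lit 7])) (.leaf ((nat_lit 1), [nat_lit 6, nat_lit 1, nat_lit 5, nat_lit 0])))) (.node (nat_lit 163) (.leaf ((nat_lit 1), [nat_lit 7, nat_lit 0, nat_lit 5, nat_lit 4, nat_lit 1])) (.node (nat_lit 164) (.leaf ((nat_lit 1), [nat_lit 6, nat_lit 3, nat_lit 7, nat_lit 6, nat_lit 2])) (.leaf ((nat_lit 1), [nat_lit 2, nat_lit 7, nat_lit 6, nat_lit 0]))))))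
 (.node (nat_lit 170) (.node (nat_lit 167) (.node (nat_lit 166) (.leaf ((nat_lit 1), [nat_lit 0, nat_lit 7, nat_lit 2, nat_lit 7])) (.leaf ((nat_lit 1), [nat_lit 1, nat_lit 6, nat_lit 0]))) (.node (nat_lit 168) (.leaf ((nat_lit 1), [nat_lit 7, nat_lit 0, nat_lit 5, nat_lit 6])) (.node (nat_lit 169) (.leaf ((nat_lit 0), [nat_lit 3, nat_lit 0, nat_lit 7, nat_lit 1])) (.leaf ((nat_lit 0), [nat_lit 3, nat_lit 7, nat_lit 3])))))
 (.node (nat_lit 173) (.node (nat_lit 171) (.leaf ((nat_lit 1), [nat_lit 4, nat_lit 7, nat_lit 5, nat_lit 7])) (.node (nat_lit 172) (.leaf ((nat_lit 1), [nat_lit 6, nat_lit 2, nat_lit 7, nat_lit 4, nat_lit 0])) (.leaf ((nat_lit 1), [nat_lit 1, nat_lit 5, nat_lit 3, nat_lit 6, nat_lit 1])))) (.node (nat_lit 174) (.leaf ((nat_lit 1), [nat_lit 7, nat_lit 1, nat_lit 6, nat_lit 4, nat_lit 2])) (.node (nat_lit 175) (.leaf ((nat_lit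 1), [nat_lit 7, nat_lit 6, nat_lit 7, nat_lit 3, nat_lit 0])) (.leaf ((nat_lit 1), [nat_lit 4, nat_lit 2, nat_lit 1, nat_lit 7]))))))))))
noncomputable def rPA_1 : Tr (ℕ × List ℕ) := (.node (nat_lit 264) (.node (nat_lit 220) (.node (nat_lit 198) (.node (nat_lit 187) (.node (nat_lit 181) (.node (nat_lit 178) (.node (nat_lit 177) (.leaf ((nat_lit 1), [nat_lit 5, nat_lit 1, nat_lit 5, nat_lit 4])) (.leaf ((nat_lit 1), [nat_lit 7, nat_lit 3, nat_lit 5, nat_lit 0]))) (.node (nat_lit 179) (.leaf ((nat_lit 1), [nat_lit 6, nat_lit 2, nat_lit 6, nat_lit 4, nat_lit 0])) (.node (nat_lit 180) (.leaf ((nat_lit 1), [nat_lit 5, nat_lit 7, nat_lit 3, nat_lit 1])) (.leaf ((nat_lit 1), [nat_lit 6, nat_lit 0, nat_lit 7, nat_lit 3, nat_lit 0])))))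
 (.node (nat_lit 184) (.node (nat_lit 182) (.leaf ((nat_lit 1), [nat_lit 7, nat_lit 2, nat_lit 6, nat_lit 7, nat_lit 2, nat_lit 0])) (.node (nat_lit 183) (.leaf ((nat_lit 1), [nat_lit 3, nat_lit 7, nat_lit 3, nat_lit 6, nat_lit 0])) (.leaf ((nat_lit 1), [nat_lit 0, nat_lit 5, nat_lit 6, nat_lit 2])))) (.node (nat_lit 185) (.leaf ((nat_lit 1), [nat_lit 4, nat_lit 3, nat_lit 7, nat_lit 3, nat_lit 1])) (.node (nat_lit 186) (.leaf ((nat_lit 1), [nat_lit 4, nat_lit 2, nat_lit 1, nat_lit 7, nat_lit 6])) (.leaf ((nat_lit 1), [nat_lit 6, nat_lit 0, nat_lit 7, nat_lit 6]))))))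
 (.node (nat_lit 192) (.node (nat_lit 189) (.node (nat_lit 188) (.leaf ((nat_lit 1), [nat_lit 2, nat_lit 6, nat_lit 4, nat_lit 2, nat_lit 7])) (.leaf ((nat_lit 1), [nat_lit 5, nat_lit 6, nat_lit 7, nat_lit 1]))) (.node (nat_lit 190) (.leaf ((nat_lit 1), [nat_lit 5, nat_lit 6, nat_lit 3])) (.node (nat_lit 191) (.leaf ((nat_lit 1), [nat_lit 5, nat_lit 3, nat_lit 1, nat_lit 6, nat_lit 0])) (.leaf ((nat_lit 1), [nat_lit 4, nat_lit 6, nat_lit 2])))))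
 (.node (nat_lit 195) (.node (nat_lit 193) (.leaf ((nat_lit 1), [nat_lit 6, nat_lit 5, nat_lit 7, nat_lit 6, nat_lit 2])) (.node (nat_lit 194) (.leaf ((nat_lit 1), [nat_lit 2, nat_lit 0, nat_lit 7])) (.leaf ((nat_lit 1), [nat_lit 7, nat_lit 4, nat_lit 2, nat_lit 0])))) (.node (nat_lit 196) (.leaf ((nat_lit 1), [nat_lit 2, nat_lit 7, nat_lit 0, nat_lit 7, nat_lit 6])) (.node (nat_lit 197) (.leaf ((nat_lit 1), [nat_lit 7, nat_lit 3, nat_lit 6, nat_lit 4])) (.leaf ((nat_lit 1), [nat_lit 6, nat_lit 7, nat_lit 1])))))))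
 (.node (nat_lit 209) (.node (nat_lit 203) (.node (nat_lit 200) (.node (nat_lit 199) (.leaf ((nat_lit 1), [nat_lit 5, nat_lit 7, nat_lit 4, nat_lit 5, nat_lit 2])) (.leaf ((nat_lit 1), [nat_lit 2, nat_lit 7, nat_lit 4, nat_lit 2, nat_lit 0]))) (.node (nat_lit 201) (.leaf ((nat_lit 1), [nat_lit 2, nat_lit 7, nat_lit 6, nat_lit 3])) (.node (nat_lit 202) (.leaf ((nat_lit 1), [nat_lit 5, nat_lit 2, nat_lit 7, nat_lit 2])) (.leaf ((nat_lit 1), [nat_lit 0, nat_lit 6, nat_lit 2])))))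
 (.node (nat_lit 206) (.node (nat_lit 204) (.leaf ((nat_lit 1), [nat_lit 2, nat_lit 5, nat_lit 1, nat_lit 7])) (.node (nat_lit 205) (.leaf ((nat_lit 1), [nat_lit 7, nat_lit 1, nat_lit 7, nat_lit 3, nat_lit 6])) (.leaf ((nat_lit 1), [nat_lit 4, nat_lit 3, nat_lit 6, nat_lit 1])))) (.node (nat_lit 207) (.leaf ((nat_lit 1), [nat_lit 4, nat_lit 5, nat_lit 3, nat_lit 0])) (.node (nat_lit 208) (.leaf ((nat_lit 1), [nat_lit 3, nat_lit 5, nat_lit 6, nat_lit 0])) (.leaf ((nat_lit 1), [nat_lit 7, nat_lit 3, nat_lit 5, nat_lit 2]))))))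
 (.node (nat_lit 214) (.node (nat_lit 211) (.node (nat_lit 210) (.leaf ((nat_lit 1), [nat_lit 6, nat_lit 7, nat_lit 6, nat_lit 1])) (.leaf ((nat_lit 1), [nat_lit 7, nat_lit 3, nat_lit 7, nat_lit 4, nat_lit 3]))) (.node (nat_lit 212) (.leaf ((nat_lit 1), [nat_lit 0, nat_lit 7, nat_lit 4])) (.node (nat_lit 213) (.leaf ((nat_lit 1), [nat_lit 3, nat_lit 7, nat_lit 6, nat_lit 2, nat_lit 7])) (.leaf ((nat_lit 1), [nat_lit 4, nat_lit 5, nat_lit 0, nat_lit 5, nat_lit 0])))))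
 (.node (nat_lit 217) (.node (nat_lit 215) (.leaf ((nat_lit 1), [nat_lit 0, nat_lit 5, nat_lit 6, nat_lit 2, nat_lit 7])) (.node (nat_lit 216) (.leaf ((nat_lit 1), [nat_lit 5, nat_lit 4, nat_lit 7, nat_lit 4, nat_lit 1])) (.leaf ((nat_lit 1), [nat_lit 7, nat_lit 2, nat_lit 1, nat_lit 7])))) (.node (nat_lit 218) (.leaf ((nat_lit 1), [nat_lit 0, nat_lit 5, nat_lit 4, nat_lit 2])) (.node (nat_lit 219) (.leaf ((nat_lit 1), [nat_lit 7, nat_lit 4, nat_lit 5, nat_lit 0])) (.leaf ((nat_lit 1), [nat_lit 3, nat_lit 6, nat_lit 4]))))))))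
 (.node (nat_lit 242) (.node (nat_lit 231) (.node (nat_lit 225) (.node (nat_lit 222) (.node (nat_lit 221) (.leaf ((nat_lit 1), [nat_lit 3, nat_lit 1, nat_lit 7, nat_lit 5, nat_lit 0])) (.leaf ((nat_lit 1), [nat_lit 4, nat_lit 2, nat_lit 6, nat_lit 1]))) (.node (nat_lit 223) (.leaf ((nat_lit 1), [nat_lit 2, nat_lit 7])) (.node (nat_lit 224) (.leaf ((nat_lit 1), [nat_lit 2, nat_lit 1, nat_lit 7, nat_lit 4, nat_lit 0])) (.leaf ((nat_lit 1), [nat_lit 6, nat_lit 5, nat_lit 4, nat_lit 1, nat_lit 7])))))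
 (.node (nat_lit 228) (.node (nat_lit 226) (.leaf ((nat_lit 1), [nat_lit 7, nat_lit 5, nat_lit 0, nat_lit 7, nat_lit 2])) (.node (nat_lit 227) (.leaf ((nat_lit 1), [nat_lit 1, nat_lit 7, nat_lit 6, nat_lit 2])) (.leaf ((nat_lit 1), [nat_lit 5, nat_lit 4, nat_lit 3, nat_lit 6])))) (.node (nat_lit 229) (.leaf ((nat_lit 1), [nat_lit 7, nat_lit 4, nat_lit 7, nat_lit 4])) (.node (nat_lit 230) (.leaf ((nat_lit 1), [nat_lit 2, nat_lit 6, nat_lit 5, nat_lit 0])) (.leaf ((nat_lit 0), [nat_lit 5, nat_lit 7, nat_lit 5]))))))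
 (.node (nat_lit 236) (.node (nat_lit 233) (.node (nat_lit 232) (.leaf ((nat_lit 1), [nat_lit 0, nat_lit 7, nat_lit 4, nat_lit 6])) (.leaf ((nat_lit 1), [nat_lit 6, nat_lit 7, nat_lit 4, nat_lit 6]))) (.node (nat_lit 234) (.leaf ((nat_lit 1), [nat_lit 6, nat_lit 4])) (.node (nat_lit 235) (.leaf ((nat_lit 1), [nat_lit 2, nat_lit 1, nat_lit 5, nat_lit 1, nat_lit 7])) (.leaf ((nat_lit 1), [nat_lit 4, nat_lit 7, nat_lit 6, nat_lit 1])))))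
 (.node (nat_lit 239) (.node (nat_lit 237) (.leaf ((nat_lit 1), [nat_lit 4, nat_lit 0])) (.node (nat_lit 238) (.leaf ((nat_lit 1), [nat_lit 6, nat_lit 0])) (.leaf ((nat_lit 1), [nat_lit 7, nat_lit 3, nat_lit 0])))) (.node (nat_lit 240) (.leaf ((nat_lit 1), [nat_lit 6, nat_lit 4, nat_lit 5, nat_lit 2])) (.node (nat_lit 241) (.leaf ((nat_lit 0), [nat_lit 5, nat_lit 7, nat_lit 3, nat_lit 0])) (.leaf ((nat_lit 1), [nat_lit 4, nat_lit 6, nat_lit 2, nat_lit 7])))))))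
 (.node (nat_lit 253) (.node (nat_lit 247) (.node (nat_lit 244) (.node (nat_lit 243) (.leaf ((nat_lit 1), [nat_lit 5, nat_lit 6, nat_lit 7, nat_lit 6, nat_lit 1])) (.leaf ((nat_lit 1), [nat_lit 6, nat_lit 2, nat_lit 5, nat_lit 2, nat_lit 0]))) (.node (nat_lit 245) (.leaf ((nat_lit 0), [nat_lit 2, nat_lit 0, nat_lit 7, nat_lit 3])) (.node (nat_lit 246) (.leaf ((nat_lit 1), [nat_lit 6, nat_lit 4, nat_lit 5, nat_lit 1])) (.leaf ((nat_lit 1), [nat_lit 5, nat_lit 7, nat_lit 1, nat_lit 6, nat_lit 4])))))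
 (.node (nat_lit 250) (.node (nat_lit 248) (.leaf ((nat_lit 1), [nat_lit 2, nat_lit 5, nat_lit 1, nat_lit 5, nat_lit 7])) (.node (nat_lit 249) (.leaf ((nat_lit 1), [nat_lit 7, nat_lit 0, nat_lit 6, nat_lit 2, nat_lit 0])) (.leaf ((nat_lit 1), [nat_lit 0, nat_lit 5, nat_lit 2, nat_lit 1])))) (.node (nat_lit 251) (.leaf ((nat_lit 1), [nat_lit 5, nat_lit 7, nat_lit 0, nat_lit 5, nat_lit 0])) (.node (nat_lit 252) (.leaf ((nat_lit 1), [nat_lit 3, nat_lit 7, nat_lit 5, nat_lit 1, nat_lit 6, nat_lit 0])) (.leaf ((nat_lit 0), [nat_lit 2, nat_lit 0, nat_lit 7, nat_lit 2]))))))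
 (.node (nat_lit 258) (.node (nat_lit 255) (.node (nat_lit 254) (.leaf ((nat_lit 1), [nat_lit 2, nat_lit 0, nat_lit 7, nat_lit 4])) (.leaf ((nat_lit 1), [nat_lit 2, nat_lit 7, nat_lit 6, nat_lit 5, nat_lit 0]))) (.node (nat_lit 256) (.leaf ((nat_lit 1), [nat_lit 7, nat_lit 3, nat_lit 6, nat_lit 7])) (.node (nat_lit 257) (.leaf ((nat_lit 1), [nat_lit 2, nat_lit 0])) (.leaf ((nat_lit 1), [nat_lit 7, nat_lit 1])))))
 (.node (nat_lit 261) (.node (nat_lit 259) (.leaf ((nat_lit 1), [nat_lit 0, nat_lit 7, nat_lit 5, nat_lit 7])) (.node (nat_lit 260) (.leaf ((nat_lit 1), [nat_lit 7, nat_lit 2, nat_lit 5, nat_lit 2, nat_lit 1])) (.leaf ((nat_lit 1), [nat_lit 3, nat_lit 5, nat_lit 2])))) (.node (nat_lit 262) (.leaf ((nat_lit 1), [nat_lit 7, nat_lit 1, nat_lit 6, nat_lit 1])) (.node (nat_lit 263) (.leaf ((nat_lit 0), [nat_lit 3, nat_lit 1])) (.leaf ((nat_lit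 1), [nat_lit 0, nat_lit 5, nat_lit 6, nat_lit 7])))))))))
 (.node (nat_lit 308) (.node (nat_lit 286) (.node (nat_lit 275) (.node (nat_lit 269) (.node (nat_lit 266) (.node (nat_lit 265) (.leaf ((nat_lit 1), [nat_lit 4, nat_lit 2, nat_lit 7, nat_lit 3, nat_lit 0])) (.leaf ((nat_lit 0), [nat_lit 4, nat_lit 0, nat_lit 7]))) (.node (nat_lit 267) (.leaf ((nat_lit 1), [nat_lit 1, nat_lit 5, nat_lit 7])) (.node (nat_lit 268) (.leaf ((nat_lit 1), [nat_lit 2, nat_lit 1, nat_lit 6, nat_lit 1])) (.leaf ((nat_lit 1), [nat_lit 3, nat_lit 5, nat_lit 3, nat_lit 1])))))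
 (.node (nat_lit 272) (.node (nat_lit 270) (.leaf ((nat_lit 1), [nat_lit 3, nat_lit 1, nat_lit 7, nat_lit 6])) (.node (nat_lit 271) (.leaf ((nat_lit 1), [nat_lit 6, nat_lit 1, nat_lit 5, nat_lit 2, nat_lit 0])) (.leaf ((nat_lit 0), [nat_lit 2, nat_lit 0])))) (.node (nat_lit 273) (.leaf ((nat_lit 0), [nat_lit 5, nat_lit 0, nat_lit 7])) (.node (nat_lit 274) (.leaf ((nat_lit 1), [nat_lit 3, nat_lit 7, nat_lit 4, nat_lit 3, nat_lit 0])) (.leaf ((nat_lit 1), [nat_lit 2, nat_lit 0, nat_lit 7, nat_lit 5, nat_lit 0]))))))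
 (.node (nat_lit 280) (.node (nat_lit 277) (.node (nat_lit 276) (.leaf ((nat_lit 1), [nat_lit 7, nat_lit 0, nat_lit 7, nat_lit 5, nat_lit 6, nat_lit 1])) (.leaf ((nat_lit 1), [nat_lit 6, nat_lit 3, nat_lit 6, nat_lit 7, nat_lit 6]))) (.node (nat_lit 278) (.leaf ((nat_lit 0), [nat_lit 2, nat_lit 7, nat_lit 1])) (.node (nat_lit 279) (.leaf ((nat_lit 1), [nat_lit 6, nat_lit 5, nat_lit 1, nat_lit 6])) (.leaf ((nat_lit 1), [nat_lit 0, nat_lit 6, nat_lit 2, nat_lit 0, nat_lit 7])))))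
 (.node (nat_lit 283) (.node (nat_lit 281) (.leaf ((nat_lit 1), [nat_lit 0, nat_lit 7, nat_lit 4, nat_lit 7])) (.node (nat_lit 282) (.leaf ((nat_lit 1), [nat_lit 1, nat_lit 7, nat_lit 2, nat_lit 6, nat_lit 0])) (.leaf ((nat_lit 1), [nat_lit 7, nat_lit 4, nat_lit 3, nat_lit 6])))) (.node (nat_lit 284) (.leaf ((nat_lit 1), [nat_lit 5, nat_lit 0, nat_lit 5, nat_lit 6])) (.node (nat_lit 285) (.leaf ((nat_lit 1), [nat_lit 7, nat_lit 5, nat_lit 6, nat_lit 3])) (.leaf ((nat_lit 1), [nat_lit 5, nat_lit 7, nat_lit 3, nat_lit 5, nat_lit 2])))))))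
 (.node (nat_lit 297) (.node (nat_lit 291) (.node (nat_lit 288) (.node (nat_lit 287) (.leaf ((nat_lit 0), [nat_lit 3, nat_lit 7])) (.leaf ((nat_lit 1), [nat_lit 0, nat_lit 7, nat_lit 3, nat_lit 0]))) (.node (nat_lit 289) (.leaf ((nat_lit 1), [nat_lit 3, nat_lit 5, nat_lit 2, nat_lit 0])) (.node (nat_lit 290) (.leaf ((nat_lit 1), [nat_lit 4, nat_lit 5, nat_lit 7, nat_lit 1])) (.leaf ((nat_lit 1), [nat_lit 7, nat_lit 0, nat_lit 6])))))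
 (.node (nat_lit 294) (.node (nat_lit 292) (.leaf ((nat_lit 1), [nat_lit 2, nat_lit 7, nat_lit 6, nat_lit 2])) (.node (nat_lit 293) (.leaf ((nat_lit 1), [nat_lit 0, nat_lit 7, nat_lit 3, nat_lit 0, nat_lit 5, nat_lit 1])) (.leaf ((nat_lit 1), [nat_lit 1, nat_lit 7, nat_lit 6, nat_lit 0])))) (.node (nat_lit 295) (.leaf ((nat_lit 0), [nat_lit 7, nat_lit 3, nat_lit 0])) (.node (nat_lit 296) (.leaf ((nat_lit 1), [nat_lit 2, nat_lit 6, nat_lit 4, nat_lit 3, nat_lit 7])) (.leaf ((nat_lit 1), [nat_lit 5, nat_lit 1, nat_lit 5, nat_lit 4, nat_lit 2]))))))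
 (.node (nat_lit 302) (.node (nat_lit 299) (.node (nat_lit 298) (.leaf ((nat_lit 1), [nat_lit 6, nat_lit 0, nat_lit 7, nat_lit 1])) (.leaf ((nat_lit 0), [nat_lit 5, nat_lit 2, nat_lit 7, nat_lit 1]))) (.node (nat_lit 300) (.leaf ((nat_lit 1), [nat_lit 4, nat_lit 1, nat_lit 5, nat_lit 4, nat_lit 2])) (.node (nat_lit 301) (.leaf ((nat_lit 1), [nat_lit 7, nat_lit 3, nat_lit 0, nat_lit 5, nat_lit 1])) (.leaf ((nat_lit 1), [nat_lit 7, nat_lit 4, nat_lit 7, nat_lit 2, nat_lit 0])))))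
 (.node (nat_lit 305) (.node (nat_lit 303) (.leaf ((nat_lit 1), [nat_lit 7, nat_lit 5, nat_lit 6, nat_lit 7])) (.node (nat_lit 304) (.leaf ((nat_lit 1), [nat_lit 4, nat_lit 6, nat_lit 3, nat_lit 5, nat_lit 2, nat_lit 0])) (.leaf ((nat_lit 1), [nat_lit 5, nat_lit 3, nat_lit 0, nat_lit 7])))) (.node (nat_lit 306) (.leaf ((nat_lit 1), [nat_lit 0, nat_lit 5, nat_lit 7, nat_lit 4, nat_lit 2])) (.node (nat_lit 307) (.leaf ((nat_lit 1), [nat_lit 1, nat_lit 7, nat_lit 1, nat_lit 5, nat_lit 4])) (.leaf ((nat_lit 1), [nat_lit 7, nat_lit 5, nat_lit 7, nat_lit 6, nat_lit 3]))))))))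
 (.node (nat_lit 330) (.node (nat_lit 319) (.node (nat_lit 313) (.node (nat_lit 310) (.node (nat_lit 309) (.leaf ((nat_lit 0), [nat_lit 3, nat_lit 5, nat_lit 7, nat_lit 1])) (.leaf ((nat_lit 1), [nat_lit 6, nat_lit 5, nat_lit 1, nat_lit 7, nat_lit 1]))) (.node (nat_lit 311) (.leaf ((nat_lit 1), [nat_lit 2, nat_lit 1, nat_lit 6])) (.node (nat_lit 312) (.leaf ((nat_lit 1), [nat_lit 6, nat_lit 7, nat_lit 3, nat_lit 6, nat_lit 4])) (.leaf ((nat_lit 1), [nat_lit 7, nat_lit 4, nat_lit 3, nat_lit 6, nat_lit 2])))))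
 (.node (nat_lit 316) (.node (nat_lit 314) (.leaf ((nat_lit 1), [nat_lit 5, nat_lit 2, nat_lit 6, nat_lit 1, nat_lit 7])) (.node (nat_lit 315) (.leaf ((nat_lit 1), [nat_lit 7, nat_lit 4, nat_lit 3])) (.leaf ((nat_lit 1), [nat_lit 3, nat_lit 5, nat_lit 7, nat_lit 1])))) (.node (nat_lit 317) (.leaf ((nat_lit 1), [nat_lit 7, nat_lit 5, nat_lit 7, nat_lit 4, nat_lit 1])) (.node (nat_lit 318) (.leaf ((nat_lit 1), [nat_lit 2, nat_lit 0, nat_lit 6, nat_lit 1])) (.leaf ((nat_lit 1), [nat_lit 3, nat_lit 6, nat_lit 5, nat_lit 2, nat_lit 0]))))))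
 (.node (nat_lit 324) (.node (nat_lit 321) (.node (nat_lit 320) (.leaf ((nat_lit 1), [nat_lit 3, nat_lit 1, nat_lit 6, nat_lit 2])) (.leaf ((nat_lit 1), [nat_lit 3, nat_lit 5, nat_lit 1]))) (.node (nat_lit 322) (.leaf ((nat_lit 1), [nat_lit 6, nat_lit 3, nat_lit 7, nat_lit 4, nat_lit 0])) (.node (nat_lit 323) (.leaf ((nat_lit 1), [nat_lit 2, nat_lit 5, nat_lit 2, nat_lit 6, nat_lit 7])) (.leaf ((nat_lit 0), [nat_lit 5, nat_lit 1, nat_lit 7, nat_lit 2, nat_lit 0])))))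
 (.node (nat_lit 327) (.node (nat_lit 325) (.leaf ((nat_lit 1), [nat_lit 1, nat_lit 7, nat_lit 0, nat_lit 7, nat_lit 3])) (.node (nat_lit 326) (.leaf ((nat_lit 1), [nat_lit 3, nat_lit 5, nat_lit 6, nat_lit 4, nat_lit 0])) (.leaf ((nat_lit 1), [nat_lit 7, nat_lit 3, nat_lit 7, nat_lit 6, nat_lit 3])))) (.node (nat_lit 328) (.leaf ((nat_lit 1), [nat_lit 7, nat_lit 1, nat_lit 7, nat_lit 6])) (.node (nat_lit 329) (.leaf ((nat_lit 1), [nat_lit 4, nat_lit 5, nat_lit 1, nat_lit 6])) (.leaf ((nat_lit 1), [nat_lit 1, nat_lit 7, nat_lit 4, nat_lit 2])))))))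
 (.node (nat_lit 341) (.node (nat_lit 335) (.node (nat_lit 332) (.node (nat_lit 331) (.leaf ((nat_lit 1), [nat_lit 7, nat_lit 2, nat_lit 7, nat_lit 6, nat_lit 0])) (.leaf ((nat_lit 1), [nat_lit 2, nat_lit 6, nat_lit 3, nat_lit 0]))) (.node (nat_lit 333) (.leaf ((nat_lit 1), [nat_lit 2, nat_lit 6, nat_lit 4, nat_lit 7])) (.node (nat_lit 334) (.leaf ((nat_lit 1), [nat_lit 0, nat_lit 7, nat_lit 6, nat_lit 5, nat_lit 4])) (.leaf ((nat_lit 1), [nat_lit 3, nat_lit 6, nat_lit 7, nat_lit 2, nat_lit 0])))))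
 (.node (nat_lit 338) (.node (nat_lit 336) (.leaf ((nat_lit 1), [nat_lit 5, nat_lit 6, nat_lit 5, nat_lit 2])) (.node (nat_lit 337) (.leaf ((nat_lit 1), [nat_lit 0, nat_lit 7, nat_lit 6])) (.leaf ((nat_lit 1), [nat_lit 1, nat_lit 5, nat_lit 2, nat_lit 6])))) (.node (nat_lit 339) (.leaf ((nat_lit 1), [nat_lit 5, nat_lit 0, nat_lit 5, nat_lit 3, nat_lit 0])) (.node (nat_lit 340) (.leaf ((nat_lit 1), [nat_lit 2, nat_lit 5, nat_lit 4])) (.leaf ((nat_lit 1), [nat_lit 7, nat_lit 2, nat_lit 6]))))))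
 (.node (nat_lit 346) (.node (nat_lit 343) (.node (nat_lit 342) (.leaf ((nat_lit 1), [nat_lit 2, nat_lit 0, nat_lit 5, nat_lit 1, nat_lit 7, nat_lit 1])) (.leaf ((nat_lit 1), [nat_lit 0, nat_lit 7, nat_lit 5, nat_lit 6, nat_lit 1]))) (.node (nat_lit 344) (.leaf ((nat_lit 1), [nat_lit 5, nat_lit 7, nat_lit 6, nat_lit 2, nat_lit 5, nat_lit 0])) (.node (nat_lit 345) (.leaf ((nat_lit 1), [nat_lit 0, nat_lit 7, nat_lit 5, nat_lit 4, nat_lit 0])) (.leaf ((nat_lit 1), [nat_lit 4, nat_lit 6, nat_lit 7, nat_lit 3, nat_lit 6, nat_lit 0])))))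
 (.node (nat_lit 349) (.node (nat_lit 347) (.leaf ((nat_lit 1), [nat_lit 6, nat_lit 3, nat_lit 7, nat_lit 6, nat_lit 0])) (.node (nat_lit 348) (.leaf ((nat_lit 1), [nat_lit 5, nat_lit 2, nat_lit 1])) (.leaf ((nat_lit 0), [nat_lit 4, nat_lit 7, nat_lit 3])))) (.node (nat_lit 350) (.leaf ((nat_lit 1), [nat_lit 5, nat_lit 1, nat_lit 7, nat_lit 6, nat_lit 2])) (.node (nat_lit 351) (.leaf ((nat_lit 0), [nat_lit 1, nat_lit 7, nat_lit 1])) (.leaf ((nat_lit 1), [nat_lit 0]))))))))))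
noncomputable def rPA_2 : Tr (ℕ × List ℕ) := (.node (nat_lit 440) (.node (nat_lit 396) (.node (nat_lit 374) (.node (nat_lit 363) (.node (nat_lit 357) (.node (nat_lit 354) (.node (nat_lit 353) (.leaf ((nat_lit 1), [nat_lit 6, nat_lit 0, nat_lit 7, nat_lit 4, nat_lit 1])) (.leaf ((nat_lit 1), [nat_lit 0, nat_lit 5, nat_lit 6]))) (.node (nat_lit 355) (.leaf ((nat_lit 1), [nat_lit 2, nat_lit 1, nat_lit 7, nat_lit 4])) (.node (nat_lit 356) (.leaf ((nat_lit 1), [nat_lit 4, nat_lit 2, nat_lit 7, nat_lit 6])) (.leaf ((nat_lit 1), [nat_lit 5, nat_lit 0, nat_lit 6, nat_lit 0])))))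
 (.node (nat_lit 360) (.node (nat_lit 358) (.leaf ((nat_lit 1), [nat_lit 7, nat_lit 4, nat_lit 3, nat_lit 7, nat_lit 3])) (.node (nat_lit 359) (.leaf ((nat_lit 1), [nat_lit 6, nat_lit 7, nat_lit 1, nat_lit 5, nat_lit 0])) (.leaf ((nat_lit 1), [nat_lit 2, nat_lit 7, nat_lit 0, nat_lit 7, nat_lit 3])))) (.node (nat_lit 361) (.leaf ((nat_lit 1), [nat_lit 1, nat_lit 6, nat_lit 2])) (.node (nat_lit 362) (.leaf ((nat_lit 1), [nat_lit 6, nat_lit 0, nat_lit 5, nat_lit 1, nat_lit 7])) (.leaf ((nat_lit 1), [nat_lit 7, nat_lit 4, nat_lit 6]))))))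
 (.node (nat_lit 368) (.node (nat_lit 365) (.node (nat_lit 364) (.leaf ((nat_lit 1), [nat_lit 4, nat_lit 5, nat_lit 1, nat_lit 5, nat_lit 7])) (.leaf ((nat_lit 1), [nat_lit 7, nat_lit 1, nat_lit 7, nat_lit 4, nat_lit 0]))) (.node (nat_lit 366) (.leaf ((nat_lit 1), [nat_lit 6, nat_lit 7, nat_lit 4, nat_lit 2])) (.node (nat_lit 367) (.leaf ((nat_lit 1), [nat_lit 7, nat_lit 1, nat_lit 6, nat_lit 4])) (.leaf ((nat_lit 1), [nat_lit 3, nat_lit 7, nat_lit 6, nat_lit 3])))))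
 (.node (nat_lit 371) (.node (nat_lit 369) (.leaf ((nat_lit 1), [nat_lit 0, nat_lit 5, nat_lit 0])) (.node (nat_lit 370) (.leaf ((nat_lit 1), [nat_lit 5, nat_lit 7, nat_lit 6, nat_lit 4, nat_lit 1])) (.leaf ((nat_lit 1), [nat_lit 7, nat_lit 3, nat_lit 1, nat_lit 7])))) (.node (nat_lit 372) (.leaf ((nat_lit 1), [nat_lit 3, nat_lit 7, nat_lit 4, nat_lit 1])) (.node (nat_lit 373) (.leaf ((nat_lit 0), [nat_lit 6, nat_lit 3, nat_lit 6, nat_lit 7])) (.leaf ((nat_lit 1), [nat_lit 5, nat_lit 7, nat_lit 1, nat_lit 7])))))))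
 (.node (nat_lit 385) (.node (nat_lit 379) (.node (nat_lit 376) (.node (nat_lit 375) (.leaf ((nat_lit 1), [nat_lit 1, nat_lit 6, nat_lit 7, nat_lit 3, nat_lit 6])) (.leaf ((nat_lit 1), [nat_lit 3, nat_lit 7, nat_lit 1, nat_lit 6, nat_lit 0]))) (.node (nat_lit 377) (.leaf ((nat_lit 0), [nat_lit 3, nat_lit 0, nat_lit 7, nat_lit 3])) (.node (nat_lit 378) (.leaf ((nat_lit 1), [nat_lit 2, nat_lit 5, nat_lit 1])) (.leaf ((nat_lit 1), [nat_lit 0, nat_lit 6, nat_lit 0, nat_lit 7, nat_lit 1])))))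
 (.node (nat_lit 382) (.node (nat_lit 380) (.leaf ((nat_lit 1), [nat_lit 1, nat_lit 5, nat_lit 7, nat_lit 4, nat_lit 3])) (.node (nat_lit 381) (.leaf ((nat_lit 1), [nat_lit 5, nat_lit 7, nat_lit 1, nat_lit 5, nat_lit 0])) (.leaf ((nat_lit 1), [nat_lit 5, nat_lit 1, nat_lit 7, nat_lit 4, nat_lit 0])))) (.node (nat_lit 383) (.leaf ((nat_lit 1), [nat_lit 5, nat_lit 7, nat_lit 4])) (.node (nat_lit 384) (.leaf ((nat_lit 1), [nat_lit 2, nat_lit 0, nat_lit 7, nat_lit 3, nat_lit 0])) (.leaf ((nat_lit 1), [nat_lit 0, nat_lit 7, nat_lit 4, nat_lit 3, nat_lit 6]))))))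
 (.node (nat_lit 390) (.node (nat_lit 387) (.node (nat_lit 386) (.leaf ((nat_lit 1), [nat_lit 3, nat_lit 6, nat_lit 2, nat_lit 7])) (.leaf ((nat_lit 1), [nat_lit 6, nat_lit 7, nat_lit 4, nat_lit 5, nat_lit 2]))) (.node (nat_lit 388) (.leaf ((nat_lit 1), [nat_lit 6, nat_lit 4, nat_lit 7, nat_lit 6, nat_lit 1])) (.node (nat_lit 389) (.leaf ((nat_lit 1), [nat_lit 1, nat_lit 7, nat_lit 4, nat_lit 6])) (.leaf ((nat_lit 1), [nat_lit 1, nat_lit 7, nat_lit 3, nat_lit 6, nat_lit 4])))))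
 (.node (nat_lit 393) (.node (nat_lit 391) (.leaf ((nat_lit 1), [nat_lit 3, nat_lit 1, nat_lit 7, nat_lit 4, nat_lit 3])) (.node (nat_lit 392) (.leaf ((nat_lit 1), [nat_lit 6, nat_lit 7, nat_lit 6, nat_lit 4, nat_lit 3])) (.leaf ((nat_lit 1), [nat_lit 5, nat_lit 7, nat_lit 6, nat_lit 1])))) (.node (nat_lit 394) (.leaf ((nat_lit 1), [nat_lit 0, nat_lit 5, nat_lit 1])) (.node (nat_lit 395) (.leaf ((nat_lit 1), [nat_lit 6, nat_lit 5, nat_lit 2, nat_lit 0])) (.leaf ((nat_lit 1), [nat_lit 1, nat_lit 7, nat_lit 4]))))))))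
 (.node (nat_lit 418) (.node (nat_lit 407) (.node (nat_lit 401) (.node (nat_lit 398) (.node (nat_lit 397) (.leaf ((nat_lit 1), [nat_lit 7])) (.leaf ((nat_lit 1), [nat_lit 6, nat_lit 4, nat_lit 2, nat_lit 7, nat_lit 6]))) (.node (nat_lit 399) (.leaf ((nat_lit 1), [nat_lit 2, nat_lit 7, nat_lit 2, nat_lit 6])) (.node (nat_lit 400) (.leaf ((nat_lit 1), [nat_lit 4, nat_lit 7, nat_lit 4, nat_lit 2, nat_lit 0])) (.leaf ((nat_lit 1), [nat_lit 3, nat_lit 6, nat_lit 0, nat_lit 7])))))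
 (.node (nat_lit 404) (.node (nat_lit 402) (.leaf ((nat_lit 1), [nat_lit 4, nat_lit 2, nat_lit 5, nat_lit 4, nat_lit 0])) (.node (nat_lit 403) (.leaf ((nat_lit 1), [nat_lit 3, nat_lit 7, nat_lit 6, nat_lit 7])) (.leaf ((nat_lit 1), [nat_lit 6, nat_lit 0, nat_lit 5, nat_lit 7])))) (.node (nat_lit 405) (.leaf ((nat_lit 1), [nat_lit 0, nat_lit 5, nat_lit 7, nat_lit 6, nat_lit 1])) (.node (nat_lit 406) (.leaf ((nat_lit 1), [nat_lit 7, nat_lit 3, nat_lit 6, nat_lit 1, nat_lit 7])) (.leaf ((nat_lit 1), [nat_lit 4, nat_lit 7, nat_lit 1, nat_lit 6, nat_lit 2, nat_lit 1]))))))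
 (.node (nat_lit 412) (.node (nat_lit 409) (.node (nat_lit 408) (.leaf ((nat_lit 1), [nat_lit 7, nat_lit 2, nat_lit 7, nat_lit 4, nat_lit 0])) (.leaf ((nat_lit 1), [nat_lit 3]))) (.node (nat_lit 410) (.leaf ((nat_lit 1), [nat_lit 7, nat_lit 1, nat_lit 7, nat_lit 1])) (.node (nat_lit 411) (.leaf ((nat_lit 1), [nat_lit 5, nat_lit 6, nat_lit 3, nat_lit 7, nat_lit 6])) (.leaf ((nat_lit 1), [nat_lit 3, nat_lit 5, nat_lit 0, nat_lit 7, nat_lit 1])))))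
 (.node (nat_lit 415) (.node (nat_lit 413) (.leaf ((nat_lit 1), [nat_lit 0, nat_lit 7, nat_lit 3, nat_lit 1])) (.node (nat_lit 414) (.leaf ((nat_lit 1), [nat_lit 7, nat_lit 2, nat_lit 7, nat_lit 2])) (.leaf ((nat_lit 1), [nat_lit 2, nat_lit 6, nat_lit 0, nat_lit 7])))) (.node (nat_lit 416) (.leaf ((nat_lit 1), [nat_lit 3, nat_lit 0, nat_lit 5, nat_lit 7, nat_lit 1])) (.node (nat_lit 417) (.leaf ((nat_lit 1), [nat_lit 6, nat_lit 5, nat_lit 7, nat_lit 1])) (.leaf ((nat_lit 1), [nat_lit 7, nat_lit 1, nat_lit 7, nat_lit 3, nat_lit 0])))))))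
 (.node (nat_lit 429) (.node (nat_lit 423) (.node (nat_lit 420) (.node (nat_lit 419) (.leaf ((nat_lit 1), [nat_lit 1, nat_lit 7, nat_lit 0, nat_lit 5, nat_lit 6])) (.leaf ((nat_lit 1), [nat_lit 4, nat_lit 3, nat_lit 7, nat_lit 6, nat_lit 2]))) (.node (nat_lit 421) (.leaf ((nat_lit 1), [nat_lit 3, nat_lit 6, nat_lit 5, nat_lit 2])) (.node (nat_lit 422) (.leaf ((nat_lit 1), [nat_lit 7, nat_lit 2, nat_lit 7, nat_lit 6, nat_lit 3])) (.leaf ((nat_lit 1), [nat_lit 2, nat_lit 7, nat_lit 1, nat_lit 7])))))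
 (.node (nat_lit 426) (.node (nat_lit 424) (.leaf ((nat_lit 1), [nat_lit 1, nat_lit 7, nat_lit 3, nat_lit 1])) (.node (nat_lit 425) (.leaf ((nat_lit 1), [nat_lit 3, nat_lit 5, nat_lit 1, nat_lit 7])) (.leaf ((nat_lit 1), [nat_lit 7, nat_lit 1, nat_lit 5, nat_lit 4, nat_lit 0])))) (.node (nat_lit 427) (.leaf ((nat_lit 0), [nat_lit 2, nat_lit 7])) (.node (nat_lit 428) (.leaf ((nat_lit 1), [nat_lit 2, nat_lit 6])) (.leaf ((nat_lit 0), [nat_lit 7, nat_lit 2, nat_lit 5, nat_lit 1]))))))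
 (.node (nat_lit 434) (.node (nat_lit 431) (.node (nat_lit 430) (.leaf ((nat_lit 1), [nat_lit 7, nat_lit 2, nat_lit 7, nat_lit 2, nat_lit 6, nat_lit 0])) (.leaf ((nat_lit 1), [nat_lit 2, nat_lit 5, nat_lit 4, nat_lit 1, nat_lit 7]))) (.node (nat_lit 432) (.leaf ((nat_lit 1), [nat_lit 0, nat_lit 6, nat_lit 5, nat_lit 7])) (.node (nat_lit 433) (.leaf ((nat_lit 1), [nat_lit 7, nat_lit 5, nat_lit 7, nat_lit 6, nat_lit 1])) (.leaf ((nat_lit 1), [nat_lit 0, nat_lit 7, nat_lit 6, nat_lit 2, nat_lit 7])))))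
 (.node (nat_lit 437) (.node (nat_lit 435) (.leaf ((nat_lit 1), [nat_lit 7, nat_lit 2, nat_lit 1, nat_lit 6, nat_lit 2])) (.node (nat_lit 436) (.leaf ((nat_lit 1), [nat_lit 4, nat_lit 3, nat_lit 5, nat_lit 1])) (.leaf ((nat_lit 1), [nat_lit 6, nat_lit 7, nat_lit 3, nat_lit 5, nat_lit 0])))) (.node (nat_lit 438) (.leaf ((nat_lit 1), [nat_lit 6, nat_lit 7, nat_lit 4, nat_lit 1])) (.node (nat_lit 439) (.leaf ((nat_lit 0), [nat_lit 7, nat_lit 4, nat_lit 7, nat_lit 1])) (.leaf ((nat_lit 1), [nat_lit 5, nat_lit 7, nat_lit 3, nat_lit 0])))))))))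
 (.node (nat_lit 484) (.node (nat_lit 462) (.node (nat_lit 451) (.node (nat_lit 445) (.node (nat_lit 442) (.node (nat_lit 441) (.leaf ((nat_lit 1), [nat_lit 0, nat_lit 7, nat_lit 6, nat_lit 7])) (.leaf ((nat_lit 1), [nat_lit 3, nat_lit 7, nat_lit 4, nat_lit 3]))) (.node (nat_lit 443) (.leaf ((nat_lit 1), [nat_lit 6, nat_lit 3, nat_lit 5, nat_lit 7, nat_lit 1])) (.node (nat_lit 444) (.leaf ((nat_lit 1), [nat_lit 7, nat_lit 2, nat_lit 1, nat_lit 6, nat_lit 1])) (.leaf ((nat_lit 1), [nat_lit 3, nat_lit 1, nat_lit 5, nat_lit 7, nat_lit 1])))))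
 (.node (nat_lit 448) (.node (nat_lit 446) (.leaf ((nat_lit 1), [nat_lit 3, nat_lit 7, nat_lit 3, nat_lit 6, nat_lit 2])) (.node (nat_lit 447) (.leaf ((nat_lit 1), [nat_lit 5, nat_lit 2, nat_lit 0, nat_lit 7, nat_lit 6])) (.leaf ((nat_lit 1), [nat_lit 7, nat_lit 3, nat_lit 5, nat_lit 1])))) (.node (nat_lit 449) (.leaf ((nat_lit 1), [nat_lit 7, nat_lit 0, nat_lit 6, nat_lit 3, nat_lit 0])) (.node (nat_lit 450) (.leaf ((nat_lit 1), [nat_lit 4, nat_lit 1, nat_lit 5, nat_lit 3, nat_lit 0])) (.leaf ((nat_lit 1), [nat_lit 0, nat_lit 5, nat_lit 7, nat_lit 2, nat_lit 0]))))))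
 (.node (nat_lit 456) (.node (nat_lit 453) (.node (nat_lit 452) (.leaf ((nat_lit 1), [nat_lit 0, nat_lit 7, nat_lit 0, nat_lit 7, nat_lit 4])) (.leaf ((nat_lit 1), [nat_lit 7, nat_lit 3, nat_lit 6, nat_lit 1]))) (.node (nat_lit 454) (.leaf ((nat_lit 1), [nat_lit 3, nat_lit 7, nat_lit 5, nat_lit 0, nat_lit 7])) (.node (nat_lit 455) (.leaf ((nat_lit 1), [nat_lit 6, nat_lit 3, nat_lit 6, nat_lit 7, nat_lit 1])) (.leaf ((nat_lit 1), [nat_lit 5, nat_lit 3, nat_lit 1, nat_lit 7, nat_lit 6])))))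
 (.node (nat_lit 459) (.node (nat_lit 457) (.leaf ((nat_lit 1), [nat_lit 4, nat_lit 6, nat_lit 7, nat_lit 1])) (.node (nat_lit 458) (.leaf ((nat_lit 1), [nat_lit 7, nat_lit 5, nat_lit 0, nat_lit 5, nat_lit 0])) (.leaf ((nat_lit 1), [nat_lit 3, nat_lit 6, nat_lit 7, nat_lit 0, nat_lit 7])))) (.node (nat_lit 460) (.leaf ((nat_lit 1), [nat_lit 1, nat_lit 6, nat_lit 4])) (.node (nat_lit 461) (.leaf ((nat_lit 1), [nat_lit 1, nat_lit 7, nat_lit 6, nat_lit 5, nat_lit 3])) (.leaf ((nat_lit 1), [nat_lit 6, nat_lit 4, nat_lit 5, nat_lit 0])))))))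
 (.node (nat_lit 473) (.node (nat_lit 467) (.node (nat_lit 464) (.node (nat_lit 463) (.leaf ((nat_lit 1), [nat_lit 7, nat_lit 6, nat_lit 5, nat_lit 2, nat_lit 0])) (.leaf ((nat_lit 1), [nat_lit 7, nat_lit 6, nat_lit 3, nat_lit 6]))) (.node (nat_lit 465) (.leaf ((nat_lit 1), [nat_lit 1, nat_lit 7, nat_lit 3, nat_lit 5, nat_lit 2])) (.node (nat_lit 466) (.leaf ((nat_lit 1), [nat_lit 5, nat_lit 1, nat_lit 6, nat_lit 1])) (.leaf ((nat_lit 1), [nat_lit 7, nat_lit 6, nat_lit 3, nat_lit 7, nat_lit 6, nat_lit 2])))))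
 (.node (nat_lit 470) (.node (nat_lit 468) (.leaf ((nat_lit 1), [nat_lit 7, nat_lit 5, nat_lit 7, nat_lit 5, nat_lit 3, nat_lit 1])) (.node (nat_lit 469) (.leaf ((nat_lit 1), [nat_lit 2])) (.leaf ((nat_lit 1), [nat_lit 2, nat_lit 6, nat_lit 1, nat_lit 7])))) (.node (nat_lit 471) (.leaf ((nat_lit 1), [nat_lit 7, nat_lit 5, nat_lit 7, nat_lit 5, nat_lit 4, nat_lit 0])) (.node (nat_lit 472) (.leaf ((nat_lit 1), [nat_lit 3, nat_lit 7, nat_lit 3, nat_lit 6, nat_lit 4])) (.leaf ((nat_lit 1), [nat_lit 1, nat_lit 6, nat_lit 5, nat_lit 0]))))))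
 (.node (nat_lit 478) (.node (nat_lit 475) (.node (nat_lit 474) (.leaf ((nat_lit 1), [nat_lit 7, nat_lit 3, nat_lit 6, nat_lit 2, nat_lit 0])) (.leaf ((nat_lit 1), [nat_lit 2, nat_lit 7, nat_lit 2]))) (.node (nat_lit 476) (.leaf ((nat_lit 0), [nat_lit 6, nat_lit 7, nat_lit 2])) (.node (nat_lit 477) (.leaf ((nat_lit 1), [nat_lit 7, nat_lit 2, nat_lit 7, nat_lit 3, nat_lit 1])) (.leaf ((nat_lit 1), [nat_lit 2, nat_lit 6, nat_lit 2])))))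
 (.node (nat_lit 481) (.node (nat_lit 479) (.leaf ((nat_lit 1), [nat_lit 6, nat_lit 3, nat_lit 6, nat_lit 7])) (.node (nat_lit 480) (.leaf ((nat_lit 1), [nat_lit 0, nat_lit 6, nat_lit 7, nat_lit 3, nat_lit 0])) (.leaf ((nat_lit 1), [nat_lit 0, nat_lit 7, nat_lit 4, nat_lit 2])))) (.node (nat_lit 482) (.leaf ((nat_lit 1), [nat_lit 3, nat_lit 7, nat_lit 3, nat_lit 1])) (.node (nat_lit 483) (.leaf ((nat_lit 1), [nat_lit 5, nat_lit 1, nat_lit 7, nat_lit 5, nat_lit 6, nat_lit 1])) (.leaf ((nat_lit 1), [nat_lit 7, nat_lit 4, nat_lit 7, nat_lit 4, nat_lit 0]))))))))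
 (.node (nat_lit 506) (.node (nat_lit 495) (.node (nat_lit 489) (.node (nat_lit 486) (.node (nat_lit 485) (.leaf ((nat_lit 1), [nat_lit 6, nat_lit 0, nat_lit 7, nat_lit 6, nat_lit 0])) (.leaf ((nat_lit 1), [nat_lit 5, nat_lit 0, nat_lit 6, nat_lit 2]))) (.node (nat_lit 487) (.leaf ((nat_lit 1), [nat_lit 3, nat_lit 0, nat_lit 7, nat_lit 4, nat_lit 1])) (.node (nat_lit 488) (.leaf ((nat_lit 0), [nat_lit 5, nat_lit 7, nat_lit 3])) (.leaf ((nat_lit 1), [nat_lit 3, nat_lit 0, nat_lit 7, nat_lit 2, nat_lit 0])))))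
 (.node (nat_lit 492) (.node (nat_lit 490) (.leaf ((nat_lit 1), [nat_lit 0, nat_lit 6, nat_lit 5, nat_lit 7, nat_lit 1])) (.node (nat_lit 491) (.leaf ((nat_lit 1), [nat_lit 6, nat_lit 5, nat_lit 2])) (.leaf ((nat_lit 1), [nat_lit 5, nat_lit 1])))) (.node (nat_lit 493) (.leaf ((nat_lit 1), [nat_lit 1, nat_lit 7, nat_lit 4, nat_lit 0])) (.node (nat_lit 494) (.leaf ((nat_lit 1), [nat_lit 5, nat_lit 3, nat_lit 1])) (.leaf ((nat_lit 1), [nat_lit 7, nat_lit 5, nat_lit 7, nat_lit 6]))))))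
 (.node (nat_lit 500) (.node (nat_lit 497) (.node (nat_lit 496) (.leaf ((nat_lit 1), [nat_lit 3, nat_lit 7, nat_lit 3])) (.leaf ((nat_lit 1), [nat_lit 1, nat_lit 7, nat_lit 1, nat_lit 7]))) (.node (nat_lit 498) (.leaf ((nat_lit 1), [nat_lit 2, nat_lit 7, nat_lit 1, nat_lit 7, nat_lit 3])) (.node (nat_lit 499) (.leaf ((nat_lit 1), [nat_lit 5, nat_lit 7, nat_lit 5, nat_lit 3, nat_lit 0])) (.leaf ((nat_lit 1), [nat_lit 4, nat_lit 3, nat_lit 7, nat_lit 6, nat_lit 1])))))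
 (.node (nat_lit 503) (.node (nat_lit 501) (.leaf ((nat_lit 1), [nat_lit 4, nat_lit 1, nat_lit 5, nat_lit 4, nat_lit 0])) (.node (nat_lit 502) (.leaf ((nat_lit 1), [nat_lit 7, nat_lit 4, nat_lit 3, nat_lit 6, nat_lit 1])) (.leaf ((nat_lit 1), [nat_lit 3, nat_lit 7, nat_lit 6, nat_lit 2])))) (.node (nat_lit 504) (.leaf ((nat_lit 1), [nat_lit 4, nat_lit 7, nat_lit 1, nat_lit 6, nat_lit 0])) (.node (nat_lit 505) (.leaf ((nat_lit 0), [nat_lit 4, nat_lit 7, nat_lit 2, nat_lit 0])) (.leaf ((nat_lit 1), [nat_lit 0, nat_lit 6, nat_lit 5, nat_lit 2])))))))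
 (.node (nat_lit 517) (.node (nat_lit 511) (.node (nat_lit 508) (.node (nat_lit 507) (.leaf ((nat_lit 1), [nat_lit 7, nat_lit 5, nat_lit 7, nat_lit 1])) (.leaf ((nat_lit 1), [nat_lit 1, nat_lit 5, nat_lit 7, nat_lit 4, nat_lit 2, nat_lit 0]))) (.node (nat_lit 509) (.leaf ((nat_lit 0), [nat_lit 3, nat_lit 1, nat_lit 7, nat_lit 1])) (.node (nat_lit 510) (.leaf ((nat_lit 1), [nat_lit 0, nat_lit 7, nat_lit 3, nat_lit 7, nat_lit 5, nat_lit 1])) (.leaf ((nat_lit 1), [nat_lit 0, nat_lit 6, nat_lit 2, nat_lit 7])))))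
 (.node (nat_lit 514) (.node (nat_lit 512) (.leaf ((nat_lit 1), [nat_lit 4, nat_lit 7, nat_lit 3, nat_lit 1])) (.node (nat_lit 513) (.leaf ((nat_lit 1), [nat_lit 0, nat_lit 7, nat_lit 0, nat_lit 7, nat_lit 1])) (.leaf ((nat_lit 1), [nat_lit 1, nat_lit 5, nat_lit 6, nat_lit 0])))) (.node (nat_lit 515) (.leaf ((nat_lit 1), [nat_lit 5, nat_lit 7, nat_lit 0, nat_lit 6, nat_lit 2, nat_lit 0])) (.node (nat_lit 516) (.leaf ((nat_lit 1), [nat_lit 2, nat_lit 7, nat_lit 4, nat_lit 5, nat_lit 2])) (.leaf ((nat_lit 1), [nat_lit 6, nat_lit 5, nat_lit 4]))))))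
 (.node (nat_lit 522) (.node (nat_lit 519) (.node (nat_lit 518) (.leaf ((nat_lit 1), [nat_lit 3, nat_lit 6, nat_lit 3, nat_lit 0])) (.leaf ((nat_lit 1), [nat_lit 5, nat_lit 3, nat_lit 7, nat_lit 6]))) (.node (nat_lit 520) (.leaf ((nat_lit 0), [nat_lit 2, nat_lit 5, nat_lit 1])) (.node (nat_lit 521) (.leaf ((nat_lit 1), [nat_lit 5, nat_lit 6, nat_lit 4, nat_lit 7, nat_lit 6])) (.leaf ((nat_lit 1), [nat_lit 6, nat_lit 3, nat_lit 5, nat_lit 0, nat_lit 7])))))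
 (.node (nat_lit 525) (.node (nat_lit 523) (.leaf ((nat_lit 0), [nat_lit 0, nat_lit 7, nat_lit 1])) (.node (nat_lit 524) (.leaf ((nat_lit 0), [nat_lit 1, nat_lit 7, nat_lit 3])) (.leaf ((nat_lit 1), [nat_lit 0, nat_lit 5, nat_lit 7])))) (.node (nat_lit 526) (.leaf ((nat_lit 1), [nat_lit 7, nat_lit 4, nat_lit 1, nat_lit 5, nat_lit 4, nat_lit 0])) (.node (nat_lit 527) (.leaf ((nat_lit 1), [nat_lit 4, nat_lit 3, nat_lit 7, nat_lit 3])) (.leaf ((nat_lit 1), [nat_lit 4]))))))))))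
noncomputable def rPA_3 : Tr (ℕ × List ℕ) := (.node (nat_lit 616) (.node (nat_lit 572) (.node (nat_lit 550) (.node (nat_lit 539) (.node (nat_lit 533) (.node (nat_lit 530) (.node (nat_lit 529) (.leaf ((nat_lit 1), [nat_lit 7, nat_lit 1, nat_lit 5, nat_lit 6, nat_lit 0])) (.leaf ((nat_lit 1), [nat_lit 4, nat_lit 7, nat_lit 5, nat_lit 3, nat_lit 0]))) (.node (nat_lit 531) (.leaf ((nat_lit 1), [nat_lit 2, nat_lit 7, nat_lit 2, nat_lit 7])) (.node (nat_lit 532) (.leaf ((nat_lit 1), [nat_lit 5, nat_lit 7, nat_lit 1])) (.leaf ((nat_lit 1), [nat_lit 7, nat_lit 2, nat_lit 7, nat_lit 6, nat_lit 7])))))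
 (.node (nat_lit 536) (.node (nat_lit 534) (.leaf ((nat_lit 1), [nat_lit 2, nat_lit 5, nat_lit 3, nat_lit 6, nat_lit 0])) (.node (nat_lit 535) (.leaf ((nat_lit 1), [nat_lit 7, nat_lit 5, nat_lit 1, nat_lit 6, nat_lit 2])) (.leaf ((nat_lit 1), [nat_lit 4, nat_lit 7, nat_lit 0, nat_lit 6])))) (.node (nat_lit 537) (.leaf ((nat_lit 1), [nat_lit 1, nat_lit 7, nat_lit 3, nat_lit 6])) (.node (nat_lit 538) (.leaf ((nat_lit 1), [nat_lit 1, nat_lit 5, nat_lit 4, nat_lit 1])) (.leaf ((nat_lit 1), [nat_lit 2, nat_lit 6, nat_lit 3, nat_lit 0, nat_lit 7]))))))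
 (.node (nat_lit 544) (.node (nat_lit 541) (.node (nat_lit 540) (.leaf ((nat_lit 1), [nat_lit 2, nat_lit 6, nat_lit 7, nat_lit 4, nat_lit 1])) (.leaf ((nat_lit 1), [nat_lit 4, nat_lit 6, nat_lit 7, nat_lit 4, nat_lit 1]))) (.node (nat_lit 542) (.leaf ((nat_lit 1), [nat_lit 6, nat_lit 7, nat_lit 3])) (.node (nat_lit 543) (.leaf ((nat_lit 1), [nat_lit 4, nat_lit 1, nat_lit 7, nat_lit 3])) (.leaf ((nat_lit 1), [nat_lit 5, nat_lit 7, nat_lit 6, nat_lit 4, nat_lit 2])))))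
 (.node (nat_lit 547) (.node (nat_lit 545) (.leaf ((nat_lit 1), [nat_lit 5, nat_lit 7, nat_lit 1, nat_lit 7, nat_lit 1])) (.node (nat_lit 546) (.leaf ((nat_lit 1), [nat_lit 3, nat_lit 1, nat_lit 7, nat_lit 6, nat_lit 0])) (.leaf ((nat_lit 1), [nat_lit 6, nat_lit 5, nat_lit 7, nat_lit 6])))) (.node (nat_lit 548) (.leaf ((nat_lit 1), [nat_lit 5, nat_lit 3, nat_lit 6, nat_lit 7])) (.node (nat_lit 549) (.leaf ((nat_lit 0), [nat_lit 3, nat_lit 6, nat_lit 7])) (.leaf ((nat_lit 1), [nat_lit 5, nat_lit 4, nat_lit 1, nat_lit 6])))))))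
 (.node (nat_lit 561) (.node (nat_lit 555) (.node (nat_lit 552) (.node (nat_lit 551) (.leaf ((nat_lit 1), [nat_lit 2, nat_lit 1, nat_lit 7, nat_lit 6])) (.leaf ((nat_lit 0), [nat_lit 4, nat_lit 7, nat_lit 2]))) (.node (nat_lit 553) (.leaf ((nat_lit 1), [nat_lit 5, nat_lit 7, nat_lit 4, nat_lit 2])) (.node (nat_lit 554) (.leaf ((nat_lit 1), [nat_lit 3, nat_lit 7, nat_lit 5, nat_lit 0])) (.leaf ((nat_lit 1), [nat_lit 6, nat_lit 3, nat_lit 0, nat_lit 6])))))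
 (.node (nat_lit 558) (.node (nat_lit 556) (.leaf ((nat_lit 1), [nat_lit 3, nat_lit 5, nat_lit 7, nat_lit 4, nat_lit 2])) (.node (nat_lit 557) (.leaf ((nat_lit 1), [nat_lit 5, nat_lit 2, nat_lit 1, nat_lit 7])) (.leaf ((nat_lit 1), [nat_lit 3, nat_lit 5, nat_lit 4, nat_lit 2])))) (.node (nat_lit 559) (.leaf ((nat_lit 1), [nat_lit 4, nat_lit 7, nat_lit 3])) (.node (nat_lit 560) (.leaf ((nat_lit 1), [nat_lit 3, nat_lit 1, nat_lit 6])) (.leaf ((nat_lit 1), [nat_lit 0, nat_lit 6, nat_lit 3, nat_lit 7]))))))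
 (.node (nat_lit 566) (.node (nat_lit 563) (.node (nat_lit 562) (.leaf ((nat_lit 1), [nat_lit 5, nat_lit 1, nat_lit 7, nat_lit 2, nat_lit 1])) (.leaf ((nat_lit 1), [nat_lit 4, nat_lit 0, nat_lit 5, nat_lit 4, nat_lit 0]))) (.node (nat_lit 564) (.leaf ((nat_lit 0), [nat_lit 0, nat_lit 7, nat_lit 3])) (.node (nat_lit 565) (.leaf ((nat_lit 1), [nat_lit 4, nat_lit 7])) (.leaf ((nat_lit 0), [nat_lit 3, nat_lit 7, nat_lit 2, nat_lit 0])))))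
 (.node (nat_lit 569) (.node (nat_lit 567) (.leaf ((nat_lit 0), [nat_lit 1, nat_lit 7, nat_lit 6, nat_lit 2, nat_lit 7])) (.node (nat_lit 568) (.leaf ((nat_lit 1), [nat_lit 0, nat_lit 7, nat_lit 5, nat_lit 6, nat_lit 2])) (.leaf ((nat_lit 1), [nat_lit 1, nat_lit 7, nat_lit 0, nat_lit 5, nat_lit 4, nat_lit 1])))) (.node (nat_lit 570) (.leaf ((nat_lit 1), [nat_lit 6, nat_lit 5, nat_lit 1, nat_lit 7])) (.node (nat_lit 571) (.leaf ((nat_lit 1), [nat_lit 5, nat_lit 3, nat_lit 6, nat_lit 1])) (.leaf ((nat_lit 0), [nat_lit 1, nat_lit 5, nat_lit 2, nat_lit 0]))))))))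
 (.node (nat_lit 594) (.node (nat_lit 583) (.node (nat_lit 577) (.node (nat_lit 574) (.node (nat_lit 573) (.leaf ((nat_lit 1), [nat_lit 4, nat_lit 7, nat_lit 4, nat_lit 1])) (.leaf ((nat_lit 0), [nat_lit 6, nat_lit 1, nat_lit 7, nat_lit 2, nat_lit 0]))) (.node (nat_lit 575) (.leaf ((nat_lit 1), [nat_lit 7, nat_lit 5, nat_lit 7, nat_lit 4])) (.node (nat_lit 576) (.leaf ((nat_lit 1), [nat_lit 0, nat_lit 7, nat_lit 1, nat_lit 6, nat_lit 2, nat_lit 1])) (.leaf ((nat_lit 1), [nat_lit 3, nat_lit 0, nat_lit 5, nat_lit 7])))))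
 (.node (nat_lit 580) (.node (nat_lit 578) (.leaf ((nat_lit 1), [nat_lit 5, nat_lit 7, nat_lit 6, nat_lit 2])) (.node (nat_lit 579) (.leaf ((nat_lit 1), [nat_lit 5, nat_lit 6, nat_lit 7, nat_lit 6])) (.leaf ((nat_lit 1), [nat_lit 5, nat_lit 3, nat_lit 7, nat_lit 2])))) (.node (nat_lit 581) (.leaf ((nat_lit 0), [nat_lit 4, nat_lit 1, nat_lit 7, nat_lit 3])) (.node (nat_lit 582) (.leaf ((nat_lit 1), [nat_lit 4, nat_lit 7, nat_lit 2, nat_lit 7, nat_lit 2, nat_lit 0])) (.leaf ((nat_lit 1), [nat_lit 6, nat_lit 4, nat_lit 3, nat_lit 1]))))))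
 (.node (nat_lit 588) (.node (nat_lit 585) (.node (nat_lit 584) (.leaf ((nat_lit 0), [nat_lit 3, nat_lit 1, nat_lit 7, nat_lit 2, nat_lit 0])) (.leaf ((nat_lit 1), [nat_lit 0, nat_lit 7, nat_lit 3]))) (.node (nat_lit 586) (.leaf ((nat_lit 1), [nat_lit 5, nat_lit 3, nat_lit 7, nat_lit 5, nat_lit 6, nat_lit 0])) (.node (nat_lit 587) (.leaf ((nat_lit 1), [nat_lit 2, nat_lit 0, nat_lit 5, nat_lit 0, nat_lit 7])) (.leaf ((nat_lit 1), [nat_lit 7, nat_lit 0, nat_lit 7, nat_lit 4, nat_lit 2])))))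
 (.node (nat_lit 591) (.node (nat_lit 589) (.leaf ((nat_lit 1), [nat_lit 7, nat_lit 6, nat_lit 4, nat_lit 0])) (.node (nat_lit 590) (.leaf ((nat_lit 1), [nat_lit 7, nat_lit 0, nat_lit 7, nat_lit 2])) (.leaf ((nat_lit 1), [nat_lit 4, nat_lit 6, nat_lit 2, nat_lit 5, nat_lit 1])))) (.node (nat_lit 592) (.leaf ((nat_lit 1), [nat_lit 5, nat_lit 3])) (.node (nat_lit 593) (.leaf ((nat_lit 1), [nat_lit 1, nat_lit 5, nat_lit 3])) (.leaf ((nat_lit 1), [nat_lit 7, nat_lit 6, nat_lit 1, nat_lit 7])))))))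
 (.node (nat_lit 605) (.node (nat_lit 599) (.node (nat_lit 596) (.node (nat_lit 595) (.leaf ((nat_lit 1), [nat_lit 7, nat_lit 2, nat_lit 7, nat_lit 6])) (.leaf ((nat_lit 1), [nat_lit 6, nat_lit 3, nat_lit 0]))) (.node (nat_lit 597) (.leaf ((nat_lit 1), [nat_lit 1, nat_lit 6, nat_lit 3])) (.node (nat_lit 598) (.leaf ((nat_lit 1), [nat_lit 5, nat_lit 7, nat_lit 5, nat_lit 7])) (.leaf ((nat_lit 1), [nat_lit 6, nat_lit 7, nat_lit 4])))))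
 (.node (nat_lit 602) (.node (nat_lit 600) (.leaf ((nat_lit 1), [nat_lit 4, nat_lit 7, nat_lit 2, nat_lit 6, nat_lit 0])) (.node (nat_lit 601) (.leaf ((nat_lit 1), [nat_lit 0, nat_lit 6, nat_lit 7, nat_lit 4, nat_lit 1])) (.leaf ((nat_lit 1), [nat_lit 2, nat_lit 7, nat_lit 5, nat_lit 6])))) (.node (nat_lit 603) (.leaf ((nat_lit 1), [nat_lit 1, nat_lit 7, nat_lit 4, nat_lit 5, nat_lit 0])) (.node (nat_lit 604) (.leaf ((nat_lit 1), [nat_lit 7, nat_lit 4, nat_lit 0])) (.leaf ((nat_lit 1), [nat_lit 1, nat_lit 5, nat_lit 2]))))))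
 (.node (nat_lit 610) (.node (nat_lit 607) (.node (nat_lit 606) (.leaf ((nat_lit 1), [nat_lit 6, nat_lit 2, nat_lit 7, nat_lit 5, nat_lit 0])) (.leaf ((nat_lit 1), [nat_lit 0, nat_lit 7, nat_lit 1]))) (.node (nat_lit 608) (.leaf ((nat_lit 1), [nat_lit 1, nat_lit 7, nat_lit 3, nat_lit 6, nat_lit 0])) (.node (nat_lit 609) (.leaf ((nat_lit 1), [nat_lit 7, nat_lit 3, nat_lit 7, nat_lit 3])) (.leaf ((nat_lit 1), [nat_lit 4, nat_lit 6, nat_lit 0])))))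
 (.node (nat_lit 613) (.node (nat_lit 611) (.leaf ((nat_lit 1), [nat_lit 5, nat_lit 7, nat_lit 3, nat_lit 0, nat_lit 6, nat_lit 1])) (.node (nat_lit 612) (.leaf ((nat_lit 1), [nat_lit 5, nat_lit 1, nat_lit 6, nat_lit 2])) (.leaf ((nat_lit 1), [nat_lit 2, nat_lit 5, nat_lit 6, nat_lit 1, nat_lit 7])))) (.node (nat_lit 614) (.leaf ((nat_lit 1), [nat_lit 7, nat_lit 3])) (.node (nat_lit 615) (.leaf ((nat_lit 1), [nat_lit 3, nat_lit 7, nat_lit 4])) (.leaf ((nat_lit 1), [nat_lit 5, nat_lit 2, nat_lit 6])))))))))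
 (.node (nat_lit 660) (.node (nat_lit 638) (.node (nat_lit 627) (.node (nat_lit 621) (.node (nat_lit 618) (.node (nat_lit 617) (.leaf ((nat_lit 1), [nat_lit 5, nat_lit 0, nat_lit 6, nat_lit 2, nat_lit 7])) (.leaf ((nat_lit 1), [nat_lit 6, nat_lit 7, nat_lit 5, nat_lit 3, nat_lit 0]))) (.node (nat_lit 619) (.leaf ((nat_lit 1), [nat_lit 3, nat_lit 7, nat_lit 1, nat_lit 7, nat_lit 2, nat_lit 1])) (.node (nat_lit 620) (.leaf ((nat_lit 1), [nat_lit 3, nat_lit 1, nat_lit 5, nat_lit 1])) (.leaf ((nat_lit 1), [nat_lit 3, nat_lit 1, nat_lit 6, nat_lit 0])))))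
 (.node (nat_lit 624) (.node (nat_lit 622) (.leaf ((nat_lit 1), [nat_lit 3, nat_lit 7, nat_lit 2, nat_lit 6, nat_lit 4])) (.node (nat_lit 623) (.leaf ((nat_lit 1), [nat_lit 7, nat_lit 4, nat_lit 1])) (.leaf ((nat_lit 1), [nat_lit 1, nat_lit 6, nat_lit 5, nat_lit 4])))) (.node (nat_lit 625) (.leaf ((nat_lit 1), [nat_lit 4, nat_lit 7, nat_lit 4])) (.node (nat_lit 626) (.leaf ((nat_lit 1), [nat_lit 5, nat_lit 7, nat_lit 5, nat_lit 1, nat_lit 6, nat_lit 0])) (.leaf ((nat_lit 1), [nat_lit 5, nat_lit 4, nat_lit 0]))))))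
 (.node (nat_lit 632) (.node (nat_lit 629) (.node (nat_lit 628) (.leaf ((nat_lit 1), [nat_lit 2, nat_lit 0, nat_lit 7, nat_lit 6, nat_lit 2])) (.leaf ((nat_lit 1), [nat_lit 0, nat_lit 7, nat_lit 2]))) (.node (nat_lit 630) (.leaf ((nat_lit 1), [nat_lit 3, nat_lit 0, nat_lit 7, nat_lit 6, nat_lit 2])) (.node (nat_lit 631) (.leaf ((nat_lit 1), [nat_lit 7, nat_lit 2, nat_lit 5, nat_lit 4])) (.leaf ((nat_lit 1), [nat_lit 6, nat_lit 2, nat_lit 1, nat_lit 5, nat_lit 7])))))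
 (.node (nat_lit 635) (.node (nat_lit 633) (.leaf ((nat_lit 1), [nat_lit 2, nat_lit 5, nat_lit 0, nat_lit 7, nat_lit 1])) (.node (nat_lit 634) (.leaf ((nat_lit 1), [nat_lit 5, nat_lit 3, nat_lit 7, nat_lit 4, nat_lit 1])) (.leaf ((nat_lit 1), [nat_lit 4, nat_lit 3, nat_lit 0, nat_lit 5, nat_lit 1])))) (.node (nat_lit 636) (.leaf ((nat_lit 1), [nat_lit 7, nat_lit 5, nat_lit 7, nat_lit 5, nat_lit 1])) (.node (nat_lit 637) (.leaf ((nat_lit 1), [nat_lit 7, nat_lit 6, nat_lit 7, nat_lit 4, nat_lit 2])) (.leaf ((nat_lit 1), [nat_lit 1, nat_lit 5, nat_lit 4, nat_lit 2])))))))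
 (.node (nat_lit 649) (.node (nat_lit 643) (.node (nat_lit 640) (.node (nat_lit 639) (.leaf ((nat_lit 1), [nat_lit 1, nat_lit 7, nat_lit 4, nat_lit 3, nat_lit 1])) (.leaf ((nat_lit 1), [nat_lit 7, nat_lit 0, nat_lit 7, nat_lit 5, nat_lit 3, nat_lit 0]))) (.node (nat_lit 641) (.leaf ((nat_lit 1), [nat_lit 4, nat_lit 5, nat_lit 3, nat_lit 6, nat_lit 0])) (.node (nat_lit 642) (.leaf ((nat_lit 1), [nat_lit 1, nat_lit 7, nat_lit 3])) (.leaf ((nat_lit 0), [nat_lit 2])))))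
 (.node (nat_lit 646) (.node (nat_lit 644) (.leaf ((nat_lit 0), [nat_lit 7])) (.node (nat_lit 645) (.leaf ((nat_lit 1), [nat_lit 2, nat_lit 7, nat_lit 4, nat_lit 0])) (.leaf ((nat_lit 1), [nat_lit 0, nat_lit 5, nat_lit 1, nat_lit 7, nat_lit 1])))) (.node (nat_lit 647) (.leaf ((nat_lit 1), [nat_lit 0, nat_lit 6, nat_lit 3, nat_lit 0])) (.node (nat_lit 648) (.leaf ((nat_lit 1), [nat_lit 7, nat_lit 4, nat_lit 5, nat_lit 3, nat_lit 0])) (.leaf ((nat_lit 1), [nat_lit 1, nat_lit 7, nat_lit 3, nat_lit 5, nat_lit 0]))))))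
 (.node (nat_lit 654) (.node (nat_lit 651) (.node (nat_lit 650) (.leaf ((nat_lit 1), [nat_lit 5, nat_lit 7, nat_lit 2, nat_lit 7])) (.leaf ((nat_lit 1), [nat_lit 7, nat_lit 5, nat_lit 3, nat_lit 7, nat_lit 2]))) (.node (nat_lit 652) (.leaf ((nat_lit 1), [nat_lit 4, nat_lit 1, nat_lit 5, nat_lit 2])) (.node (nat_lit 653) (.leaf ((nat_lit 1), [nat_lit 7, nat_lit 3, nat_lit 5, nat_lit 6, nat_lit 2])) (.leaf ((nat_lit 1), [nat_lit 0, nat_lit 6, nat_lit 5, nat_lit 4])))))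
 (.node (nat_lit 657) (.node (nat_lit 655) (.leaf ((nat_lit 1), [nat_lit 3, nat_lit 5, nat_lit 7, nat_lit 2])) (.node (nat_lit 656) (.leaf ((nat_lit 1), [nat_lit 5, nat_lit 4, nat_lit 3])) (.leaf ((nat_lit 1), [nat_lit 1, nat_lit 5, nat_lit 4])))) (.node (nat_lit 658) (.leaf ((nat_lit 1), [nat_lit 4, nat_lit 3, nat_lit 7, nat_lit 4, nat_lit 2])) (.node (nat_lit 659) (.leaf ((nat_lit 1), [nat_lit 6, nat_lit 0, nat_lit 5, nat_lit 7, nat_lit 1])) (.leaf ((nat_lit 1), [nat_lit 1, nat_lit 6, nat_lit 0, nat_lit 7, nat_lit 1]))))))))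
 (.node (nat_lit 682) (.node (nat_lit 671) (.node (nat_lit 665) (.node (nat_lit 662) (.node (nat_lit 661) (.leaf ((nat_lit 1), [nat_lit 2, nat_lit 5, nat_lit 3, nat_lit 7])) (.leaf ((nat_lit 1), [nat_lit 0, nat_lit 6, nat_lit 3, nat_lit 0, nat_lit 7]))) (.node (nat_lit 663) (.leaf ((nat_lit 1), [nat_lit 3, nat_lit 7, nat_lit 5, nat_lit 4, nat_lit 0])) (.node (nat_lit 664) (.leaf ((nat_lit 1), [nat_lit 4, nat_lit 3, nat_lit 1, nat_lit 6])) (.leaf ((nat_lit 1), [nat_lit 1, nat_lit 7, nat_lit 6, nat_lit 5, nat_lit 4])))))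
 (.node (nat_lit 668) (.node (nat_lit 666) (.leaf ((nat_lit 1), [nat_lit 2, nat_lit 5, nat_lit 3, nat_lit 1])) (.node (nat_lit 667) (.leaf ((nat_lit 1), [nat_lit 4, nat_lit 2, nat_lit 0])) (.leaf ((nat_lit 1), [nat_lit 7, nat_lit 1, nat_lit 7, nat_lit 2, nat_lit 0])))) (.node (nat_lit 669) (.leaf ((nat_lit 1), [nat_lit 1, nat_lit 7, nat_lit 5, nat_lit 7])) (.node (nat_lit 670) (.leaf ((nat_lit 1), [nat_lit 1, nat_lit 5, nat_lit 2, nat_lit 0])) (.leaf ((nat_lit 1), [nat_lit 1, nat_lit 5, nat_lit 7, nat_lit 6, nat_lit 1]))))))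
 (.node (nat_lit 676) (.node (nat_lit 673) (.node (nat_lit 672) (.leaf ((nat_lit 1), [nat_lit 2, nat_lit 7, nat_lit 6, nat_lit 4, nat_lit 2])) (.leaf ((nat_lit 1), [nat_lit 0, nat_lit 5, nat_lit 3]))) (.node (nat_lit 674) (.leaf ((nat_lit 1), [nat_lit 7, nat_lit 3, nat_lit 6, nat_lit 2])) (.node (nat_lit 675) (.leaf ((nat_lit 1), [nat_lit 2, nat_lit 6, nat_lit 7, nat_lit 3, nat_lit 6])) (.leaf ((nat_lit 1), [nat_lit 1, nat_lit 7, nat_lit 6, nat_lit 4, nat_lit 2])))))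
 (.node (nat_lit 679) (.node (nat_lit 677) (.leaf ((nat_lit 1), [nat_lit 6])) (.node (nat_lit 678) (.leaf ((nat_lit 1), [nat_lit 4, nat_lit 7, nat_lit 0, nat_lit 7, nat_lit 1])) (.leaf ((nat_lit 1), [nat_lit 0, nat_lit 7, nat_lit 2, nat_lit 5, nat_lit 1])))) (.node (nat_lit 680) (.leaf ((nat_lit 1), [nat_lit 2, nat_lit 7, nat_lit 0, nat_lit 7, nat_lit 2, nat_lit 0])) (.node (nat_lit 681) (.leaf ((nat_lit 1), [nat_lit 1, nat_lit 7, nat_lit 2, nat_lit 5, nat_lit 1])) (.leaf ((nat_lit 1), [nat_lit 6, nat_lit 2, nat_lit 5, nat_lit 0])))))))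
 (.node (nat_lit 693) (.node (nat_lit 687) (.node (nat_lit 684) (.node (nat_lit 683) (.leaf ((nat_lit 0), [nat_lit 7, nat_lit 3])) (.leaf ((nat_lit 1), [nat_lit 3, nat_lit 6, nat_lit 3, nat_lit 7, nat_lit 6]))) (.node (nat_lit 685) (.leaf ((nat_lit 1), [nat_lit 3, nat_lit 0, nat_lit 7])) (.node (nat_lit 686) (.leaf ((nat_lit 0), [nat_lit 1, nat_lit 7, nat_lit 5])) (.leaf ((nat_lit 1), [nat_lit 2, nat_lit 6, nat_lit 4])))))
 (.node (nat_lit 690) (.node (nat_lit 688) (.leaf ((nat_lit 1), [nat_lit 5, nat_lit 7, nat_lit 1, nat_lit 6, nat_lit 2])) (.node (nat_lit 689) (.leaf ((nat_lit 1), [nat_lit 2, nat_lit 5, nat_lit 4, nat_lit 2, nat_lit 0])) (.leaf ((nat_lit 1), [nat_lit 3, nat_lit 6, nat_lit 3])))) (.node (nat_lit 691) (.leaf ((nat_lit 1), [nat_lit 7, nat_lit 0, nat_lit 7])) (.node (nat_lit 692) (.leaf ((nat_lit 1), [nat_lit 5, nat_lit 3, nat_lit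 6, nat_lit 1, nat_lit 7])) (.leaf ((nat_lit 1), [nat_lit 2, nat_lit 6, nat_lit 0, nat_lit 7, nat_lit 1]))))))
 (.node (nat_lit 698) (.node (nat_lit 695) (.node (nat_lit 694) (.leaf ((nat_lit 1), [nat_lit 0, nat_lit 7, nat_lit 4, nat_lit 1])) (.leaf ((nat_lit 1), [nat_lit 3, nat_lit 0, nat_lit 5, nat_lit 1]))) (.node (nat_lit 696) (.leaf ((nat_lit 1), [nat_lit 5, nat_lit 7, nat_lit 2, nat_lit 7, nat_lit 2, nat_lit 0])) (.node (nat_lit 697) (.leaf ((nat_lit 1), [nat_lit 0, nat_lit 5, nat_lit 1, nat_lit 6])) (.leaf ((nat_lit 1), [nat_lit 0, nat_lit 5, nat_lit 7, nat_lit 6, nat_lit 0])))))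
 (.node (nat_lit 701) (.node (nat_lit 699) (.leaf ((nat_lit 1), [nat_lit 3, nat_lit 1, nat_lit 7, nat_lit 2])) (.node (nat_lit 700) (.leaf ((nat_lit 1), [nat_lit 5, nat_lit 7, nat_lit 2, nat_lit 1])) (.leaf ((nat_lit 1), [nat_lit 0, nat_lit 6, nat_lit 7, nat_lit 1])))) (.node (nat_lit 702) (.leaf ((nat_lit 1), [nat_lit 3, nat_lit 6, nat_lit 2])) (.node (nat_lit 703) (.leaf ((nat_lit 0), [nat_lit 7, nat_lit 1, nat_lit 7])) (.leaf ((nat_lit 1), [nat_lit 3, nat_lit 0, nat_lit 6, nat_lit 2]))))))))))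
noncomputable def rPA_4 : Tr (ℕ × List ℕ) := (.node (nat_lit 792) (.node (nat_lit 748) (.node (nat_lit 726) (.node (nat_lit 715) (.node (nat_lit 709) (.node (nat_lit 706) (.node (nat_lit 705) (.leaf ((nat_lit 1), [nat_lit 6, nat_lit 4, nat_lit 2])) (.leaf ((nat_lit 1), [nat_lit 4, nat_lit 6, nat_lit 7, nat_lit 4, nat_lit 2]))) (.node (nat_lit 707) (.leaf ((nat_lit 1), [nat_lit 1, nat_lit 7, nat_lit 4, nat_lit 7])) (.node (nat_lit 708) (.leaf ((nat_lit 1), [nat_lit 4, nat_lit 7, nat_lit 5, nat_lit 3, nat_lit 1])) (.leaf ((nat_lit 1), [nat_lit 3, nat_lit 7, nat_lit 4, nat_lit 5, nat_lit 2])))))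
 (.node (nat_lit 712) (.node (nat_lit 710) (.leaf ((nat_lit 1), [nat_lit 5, nat_lit 3, nat_lit 7, nat_lit 4])) (.node (nat_lit 711) (.leaf ((nat_lit 1), [nat_lit 7, nat_lit 0, nat_lit 6, nat_lit 1])) (.leaf ((nat_lit 1), [nat_lit 0, nat_lit 5, nat_lit 0, nat_lit 7, nat_lit 2, nat_lit 0])))) (.node (nat_lit 713) (.leaf ((nat_lit 1), [nat_lit 6, nat_lit 5, nat_lit 3, nat_lit 6, nat_lit 0])) (.node (nat_lit 714) (.leaf ((nat_lit 1), [nat_lit 7, nat_lit 3, nat_lit 0, nat_lit 6, nat_lit 1])) (.leaf ((nat_lit 1), [nat_lit 1, nat_lit 6, nat_lit 7, nat_lit 1]))))))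
 (.node (nat_lit 720) (.node (nat_lit 717) (.node (nat_lit 716) (.leaf ((nat_lit 1), [nat_lit 0, nat_lit 5, nat_lit 6, nat_lit 0])) (.leaf ((nat_lit 1), [nat_lit 6, nat_lit 2]))) (.node (nat_lit 718) (.leaf ((nat_lit 1), [nat_lit 2, nat_lit 5, nat_lit 2, nat_lit 0])) (.node (nat_lit 719) (.leaf ((nat_lit 1), [nat_lit 7, nat_lit 3, nat_lit 7, nat_lit 6, nat_lit 1])) (.leaf ((nat_lit 1), [nat_lit 3, nat_lit 7, nat_lit 6, nat_lit 7, nat_lit 4])))))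
 (.node (nat_lit 723) (.node (nat_lit 721) (.leaf ((nat_lit 1), [nat_lit 6, nat_lit 2, nat_lit 7, nat_lit 6, nat_lit 2])) (.node (nat_lit 722) (.leaf ((nat_lit 1), [nat_lit 7, nat_lit 5, nat_lit 1, nat_lit 7, nat_lit 1])) (.leaf ((nat_lit 1), [nat_lit 2, nat_lit 0, nat_lit 5, nat_lit 7])))) (.node (nat_lit 724) (.leaf ((nat_lit 1), [nat_lit 4, nat_lit 6, nat_lit 3, nat_lit 0, nat_lit 7])) (.node (nat_lit 725) (.leaf ((nat_lit 1), [nat_lit 7, nat_lit 1, nat_lit 6, nat_lit 2])) (.leaf ((nat_lit 1), [nat_lit 6, nat_lit 5, nat_lit 7, nat_lit 6, nat_lit 1])))))))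
 (.node (nat_lit 737) (.node (nat_lit 731) (.node (nat_lit 728) (.node (nat_lit 727) (.leaf ((nat_lit 1), [nat_lit 4, nat_lit 2, nat_lit 6])) (.leaf ((nat_lit 1), [nat_lit 3, nat_lit 7, nat_lit 2, nat_lit 6, nat_lit 0]))) (.node (nat_lit 729) (.leaf ((nat_lit 1), [nat_lit 2, nat_lit 7, nat_lit 4, nat_lit 2])) (.node (nat_lit 730) (.leaf ((nat_lit 1), [nat_lit 6, nat_lit 0, nat_lit 5, nat_lit 6, nat_lit 0])) (.leaf ((nat_lit 1), [nat_lit 6, nat_lit 3, nat_lit 6, nat_lit 0])))))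
 (.node (nat_lit 734) (.node (nat_lit 732) (.leaf ((nat_lit 1), [nat_lit 7, nat_lit 2, nat_lit 1, nat_lit 6])) (.node (nat_lit 733) (.leaf ((nat_lit 1), [nat_lit 0, nat_lit 7, nat_lit 6, nat_lit 5, nat_lit 7])) (.leaf ((nat_lit 1), [nat_lit 3, nat_lit 5, nat_lit 6, nat_lit 1])))) (.node (nat_lit 735) (.leaf ((nat_lit 1), [nat_lit 7, nat_lit 2, nat_lit 7, nat_lit 4, nat_lit 3])) (.node (nat_lit 736) (.leaf ((nat_lit 1), [nat_lit 6, nat_lit 1, nat_lit 5, nat_lit 7])) (.leaf ((nat_lit 1), [nat_lit 0, nat_lit 7, nat_lit 6, nat_lit 4, nat_lit 2]))))))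
 (.node (nat_lit 742) (.node (nat_lit 739) (.node (nat_lit 738) (.leaf ((nat_lit 1), [nat_lit 2, nat_lit 0, nat_lit 7, nat_lit 2, nat_lit 0])) (.leaf ((nat_lit 1), [nat_lit 7, nat_lit 0, nat_lit 5, nat_lit 7]))) (.node (nat_lit 740) (.leaf ((nat_lit 1), [nat_lit 2, nat_lit 6, nat_lit 0])) (.node (nat_lit 741) (.leaf ((nat_lit 1), [nat_lit 7, nat_lit 2, nat_lit 5, nat_lit 1])) (.leaf ((nat_lit 1), [nat_lit 6, nat_lit 2, nat_lit 0, nat_lit 5, nat_lit 1])))))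
 (.node (nat_lit 745) (.node (nat_lit 743) (.leaf ((nat_lit 0), [nat_lit 3, nat_lit 0])) (.node (nat_lit 744) (.leaf ((nat_lit 1), [nat_lit 0, nat_lit 7, nat_lit 1, nat_lit 7])) (.leaf ((nat_lit 1), [nat_lit 7, nat_lit 6])))) (.node (nat_lit 746) (.leaf ((nat_lit 1), [nat_lit 5, nat_lit 7, nat_lit 2, nat_lit 0])) (.node (nat_lit 747) (.leaf ((nat_lit 0), [nat_lit 1, nat_lit 7])) (.leaf ((nat_lit 1), [nat_lit 2, nat_lit 1, nat_lit 7, nat_lit 2, nat_lit 0]))))))))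
 (.node (nat_lit 770) (.node (nat_lit 759) (.node (nat_lit 753) (.node (nat_lit 750) (.node (nat_lit 749) (.leaf ((nat_lit 0), [nat_lit 0, nat_lit 7, nat_lit 3, nat_lit 0])) (.leaf ((nat_lit 1), [nat_lit 6, nat_lit 7, nat_lit 5, nat_lit 6, nat_lit 0]))) (.node (nat_lit 751) (.leaf ((nat_lit 1), [nat_lit 5, nat_lit 4, nat_lit 7, nat_lit 2, nat_lit 1])) (.node (nat_lit 752) (.leaf ((nat_lit 1), [nat_lit 6, nat_lit 1, nat_lit 7, nat_lit 2, nat_lit 0])) (.leaf ((nat_lit 1), [nat_lit 2, nat_lit 5, nat_lit 1, nat_lit 7, nat_lit 1])))))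
 (.node (nat_lit 756) (.node (nat_lit 754) (.leaf ((nat_lit 1), [nat_lit 4, nat_lit 3, nat_lit 0, nat_lit 7, nat_lit 4, nat_lit 1])) (.node (nat_lit 755) (.leaf ((nat_lit 1), [nat_lit 7, nat_lit 2, nat_lit 5, nat_lit 0, nat_lit 7, nat_lit 1])) (.leaf ((nat_lit 1), [nat_lit 6, nat_lit 7, nat_lit 4, nat_lit 2, nat_lit 0])))) (.node (nat_lit 757) (.leaf ((nat_lit 1), [nat_lit 2, nat_lit 5, nat_lit 1, nat_lit 6])) (.node (nat_lit 758) (.leaf ((nat_lit 0), [nat_lit 7, nat_lit 0, nat_lit 7, nat_lit 1])) (.leaf ((nat_lit 1), [nat_lit 7, nat_lit 5, nat_lit 3, nat_lit 0]))))))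
 (.node (nat_lit 764) (.node (nat_lit 761) (.node (nat_lit 760) (.leaf ((nat_lit 1), [nat_lit 6, nat_lit 4, nat_lit 2, nat_lit 7])) (.leaf ((nat_lit 1), [nat_lit 2, nat_lit 1]))) (.node (nat_lit 762) (.leaf ((nat_lit 1), [nat_lit 5, nat_lit 6, nat_lit 7])) (.node (nat_lit 763) (.leaf ((nat_lit 1), [nat_lit 4, nat_lit 2])) (.leaf ((nat_lit 1), [nat_lit 5, nat_lit 7, nat_lit 2])))))
 (.node (nat_lit 767) (.node (nat_lit 765) (.leaf ((nat_lit 1), [nat_lit 5, nat_lit 0, nat_lit 6])) (.node (nat_lit 766) (.leaf ((nat_lit 1), [nat_lit 1, nat_lit 7, nat_lit 6, nat_lit 5, nat_lit 0])) (.leaf ((nat_lit 1), [nat_lit 3, nat_lit 7, nat_lit 6])))) (.node (nat_lit 768) (.leaf ((nat_lit 1), [nat_lit 7, nat_lit 6, nat_lit 2, nat_lit 5, nat_lit 0])) (.node (nat_lit 769) (.leaf ((nat_lit 1), [nat_lit 4, nat_lit 5, nat_lit 2])) (.leaf ((nat_lit 0), [nat_lit 7, nat_lit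 3, nat_lit 5, nat_lit 7, nat_lit 1])))))))
 (.node (nat_lit 781) (.node (nat_lit 775) (.node (nat_lit 772) (.node (nat_lit 771) (.leaf ((nat_lit 1), [nat_lit 3, nat_lit 7, nat_lit 6, nat_lit 0])) (.leaf ((nat_lit 1), [nat_lit 2, nat_lit 7, nat_lit 3, nat_lit 5, nat_lit 2]))) (.node (nat_lit 773) (.leaf ((nat_lit 0), [nat_lit 7, nat_lit 0, nat_lit 7, nat_lit 5])) (.node (nat_lit 774) (.leaf ((nat_lit 1), [nat_lit 2, nat_lit 7, nat_lit 1, nat_lit 5, nat_lit 4])) (.leaf ((nat_lit 1), [nat_lit 7, nat_lit 4])))))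
 (.node (nat_lit 778) (.node (nat_lit 776) (.leaf ((nat_lit 1), [nat_lit 7, nat_lit 5, nat_lit 0, nat_lit 7, nat_lit 1])) (.node (nat_lit 777) (.leaf ((nat_lit 1), [nat_lit 7, nat_lit 6, nat_lit 7])) (.leaf ((nat_lit 1), [nat_lit 4, nat_lit 5, nat_lit 0, nat_lit 7, nat_lit 1])))) (.node (nat_lit 779) (.leaf ((nat_lit 1), [nat_lit 6, nat_lit 0, nat_lit 7, nat_lit 5, nat_lit 7])) (.node (nat_lit 780) (.leaf ((nat_lit 1), [nat_lit 3, nat_lit 7, nat_lit 1, nat_lit 5, nat_lit 4, nat_lit 0])) (.leaf ((nat_lit 1), [nat_lit 3, nat_lit 7, nat_lit 6, nat_lit 7, nat_lit 6]))))))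
 (.node (nat_lit 786) (.node (nat_lit 783) (.node (nat_lit 782) (.leaf ((nat_lit 1), [nat_lit 5, nat_lit 1, nat_lit 5, nat_lit 6])) (.leaf ((nat_lit 1), [nat_lit 2, nat_lit 7, nat_lit 3, nat_lit 6, nat_lit 0]))) (.node (nat_lit 784) (.leaf ((nat_lit 1), [nat_lit 7, nat_lit 2, nat_lit 6, nat_lit 1, nat_lit 7])) (.node (nat_lit 785) (.leaf ((nat_lit 1), [nat_lit 5, nat_lit 1, nat_lit 6, nat_lit 4])) (.leaf ((nat_lit 1), [nat_lit 5, nat_lit 3, nat_lit 7, nat_lit 6, nat_lit 2])))))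
 (.node (nat_lit 789) (.node (nat_lit 787) (.leaf ((nat_lit 1), [nat_lit 3, nat_lit 5, nat_lit 6, nat_lit 2])) (.node (nat_lit 788) (.leaf ((nat_lit 1), [nat_lit 2, nat_lit 6, nat_lit 1, nat_lit 7, nat_lit 1])) (.leaf ((nat_lit 1), [nat_lit 1])))) (.node (nat_lit 790) (.leaf ((nat_lit 1), [nat_lit 0, nat_lit 7, nat_lit 6, nat_lit 2])) (.node (nat_lit 791) (.leaf ((nat_lit 1), [nat_lit 0, nat_lit 7, nat_lit 5, nat_lit 6])) (.leaf ((nat_lit 1), [nat_lit 4, nat_lit 7, nat_lit 4, nat_lit 5, nat_lit 2])))))))))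
 (.node (nat_lit 836) (.node (nat_lit 814) (.node (nat_lit 803) (.node (nat_lit 797) (.node (nat_lit 794) (.node (nat_lit 793) (.leaf ((nat_lit 1), [nat_lit 3, nat_lit 1, nat_lit 5, nat_lit 2, nat_lit 0])) (.leaf ((nat_lit 0), [nat_lit 0, nat_lit 7, nat_lit 2]))) (.node (nat_lit 795) (.leaf ((nat_lit 1), [nat_lit 4, nat_lit 1, nat_lit 7, nat_lit 6, nat_lit 2])) (.node (nat_lit 796) (.leaf ((nat_lit 1), [nat_lit 0, nat_lit 6, nat_lit 3])) (.leaf ((nat_lit 1), [nat_lit 6, nat_lit 7, nat_lit 5, nat_lit 7])))))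
 (.node (nat_lit 800) (.node (nat_lit 798) (.leaf ((nat_lit 0), [nat_lit 4, nat_lit 0, nat_lit 7, nat_lit 3])) (.node (nat_lit 799) (.leaf ((nat_lit 1), [nat_lit 7, nat_lit 5, nat_lit 4, nat_lit 0])) (.leaf ((nat_lit 1), [nat_lit 1, nat_lit 6, nat_lit 7, nat_lit 4, nat_lit 1])))) (.node (nat_lit 801) (.leaf ((nat_lit 1), [nat_lit 4, nat_lit 0, nat_lit 7, nat_lit 5, nat_lit 4, nat_lit 0])) (.node (nat_lit 802) (.leaf ((nat_lit 1), [nat_lit 3, nat_lit 7, nat_lit 1, nat_lit 7, nat_lit 1])) (.leaf ((nat_lit 1), [nat_lit 2, nat_lit 0, nat_lit 6, nat_lit 2, nat_lit 0]))))))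
 (.node (nat_lit 808) (.node (nat_lit 805) (.node (nat_lit 804) (.leaf ((nat_lit 1), [nat_lit 2, nat_lit 6, nat_lit 4, nat_lit 0])) (.leaf ((nat_lit 1), [nat_lit 1, nat_lit 7, nat_lit 5, nat_lit 3, nat_lit 0]))) (.node (nat_lit 806) (.leaf ((nat_lit 1), [nat_lit 7, nat_lit 5, nat_lit 3, nat_lit 7])) (.node (nat_lit 807) (.leaf ((nat_lit 1), [nat_lit 3, nat_lit 0, nat_lit 5, nat_lit 4, nat_lit 2])) (.leaf ((nat_lit 1), [nat_lit 7, nat_lit 1, nat_lit 6, nat_lit 0])))))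
 (.node (nat_lit 811) (.node (nat_lit 809) (.leaf ((nat_lit 1), [nat_lit 1, nat_lit 7])) (.node (nat_lit 810) (.leaf ((nat_lit 1), [nat_lit 3, nat_lit 5, nat_lit 2, nat_lit 1])) (.leaf ((nat_lit 1), [nat_lit 1, nat_lit 7, nat_lit 5, nat_lit 0])))) (.node (nat_lit 812) (.leaf ((nat_lit 1), [nat_lit 1, nat_lit 6, nat_lit 5, nat_lit 1])) (.node (nat_lit 813) (.leaf ((nat_lit 1), [nat_lit 5, nat_lit 6, nat_lit 0])) (.leaf ((nat_lit 1), [nat_lit 6, nat_lit 7, nat_lit 5, nat_lit 7, nat_lit 2])))))))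
 (.node (nat_lit 825) (.node (nat_lit 819) (.node (nat_lit 816) (.node (nat_lit 815) (.leaf ((nat_lit 0), [nat_lit 5, nat_lit 1, nat_lit 7])) (.leaf ((nat_lit 1), [nat_lit 3, nat_lit 6, nat_lit 1, nat_lit 7, nat_lit 1]))) (.node (nat_lit 817) (.leaf ((nat_lit 1), [nat_lit 4, nat_lit 7, nat_lit 4, nat_lit 2])) (.node (nat_lit 818) (.leaf ((nat_lit 1), [nat_lit 6, nat_lit 2, nat_lit 7, nat_lit 3, nat_lit 0])) (.leaf ((nat_lit 1), [nat_lit 7, nat_lit 5, nat_lit 3, nat_lit 1])))))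
 (.node (nat_lit 822) (.node (nat_lit 820) (.leaf ((nat_lit 1), [nat_lit 2, nat_lit 0, nat_lit 6, nat_lit 2])) (.node (nat_lit 821) (.leaf ((nat_lit 1), [nat_lit 5, nat_lit 7, nat_lit 5, nat_lit 6, nat_lit 0])) (.leaf ((nat_lit 1), [nat_lit 7, nat_lit 3, nat_lit 6, nat_lit 5, nat_lit 0])))) (.node (nat_lit 823) (.leaf ((nat_lit 1), [nat_lit 6, nat_lit 4, nat_lit 7, nat_lit 3])) (.node (nat_lit 824) (.leaf ((nat_lit 1), [nat_lit 2, nat_lit 1, nat_lit 5, nat_lit 7])) (.leaf ((nat_lit 1), [nat_lit 7, nat_lit 5, nat_lit 6, nat_lit 1]))))))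
 (.node (nat_lit 830) (.node (nat_lit 827) (.node (nat_lit 826) (.leaf ((nat_lit 1), [nat_lit 5, nat_lit 4, nat_lit 2, nat_lit 1])) (.leaf ((nat_lit 0), [nat_lit 1, nat_lit 7, nat_lit 2]))) (.node (nat_lit 828) (.leaf ((nat_lit 1), [nat_lit 1, nat_lit 7, nat_lit 2, nat_lit 0])) (.node (nat_lit 829) (.leaf ((nat_lit 1), [nat_lit 7, nat_lit 5, nat_lit 4, nat_lit 3])) (.leaf ((nat_lit 1), [nat_lit 7, nat_lit 6, nat_lit 3, nat_lit 7, nat_lit 4, nat_lit 1])))))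
 (.node (nat_lit 833) (.node (nat_lit 831) (.leaf ((nat_lit 1), [nat_lit 5, nat_lit 6, nat_lit 2, nat_lit 7])) (.node (nat_lit 832) (.leaf ((nat_lit 1), [nat_lit 3, nat_lit 7, nat_lit 3, nat_lit 5, nat_lit 1])) (.leaf ((nat_lit 1), [nat_lit 6, nat_lit 7, nat_lit 3, nat_lit 6, nat_lit 0])))) (.node (nat_lit 834) (.leaf ((nat_lit 1), [nat_lit 7, nat_lit 3, nat_lit 7, nat_lit 3, nat_lit 5, nat_lit 1])) (.node (nat_lit 835) (.leaf ((nat_lit 1), [nat_lit 4, nat_lit 5, nat_lit 0])) (.leaf ((nat_lit 1), [nat_lit 5, nat_lit 0, nat_lit 7, nat_lit 1]))))))))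
 (.node (nat_lit 858) (.node (nat_lit 847) (.node (nat_lit 841) (.node (nat_lit 838) (.node (nat_lit 837) (.leaf ((nat_lit 1), [nat_lit 4, nat_lit 0, nat_lit 7, nat_lit 3, nat_lit 1])) (.leaf ((nat_lit 1), [nat_lit 0, nat_lit 7]))) (.node (nat_lit 839) (.leaf ((nat_lit 1), [nat_lit 7, nat_lit 6, nat_lit 1, nat_lit 7, nat_lit 2, nat_lit 0])) (.node (nat_lit 840) (.leaf ((nat_lit 1), [nat_lit 7, nat_lit 0, nat_lit 5, nat_lit 3])) (.leaf ((nat_lit 1), [nat_lit 6, nat_lit 2, nat_lit 1, nat_lit 7, nat_lit 6])))))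
 (.node (nat_lit 844) (.node (nat_lit 842) (.leaf ((nat_lit 0), [nat_lit 0, nat_lit 7, nat_lit 5])) (.node (nat_lit 843) (.leaf ((nat_lit 1), [nat_lit 1, nat_lit 7, nat_lit 6, nat_lit 2, nat_lit 7])) (.leaf ((nat_lit 0), [nat_lit 7, nat_lit 5, nat_lit 3, nat_lit 1])))) (.node (nat_lit 845) (.leaf ((nat_lit 1), [nat_lit 4, nat_lit 3, nat_lit 6, nat_lit 2])) (.node (nat_lit 846) (.leaf ((nat_lit 1), [nat_lit 7, nat_lit 4, nat_lit 7])) (.leaf ((nat_lit 1), [nat_lit 5, nat_lit 4, nat_lit 7, nat_lit 5, nat_lit 3, nat_lit 0]))))))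
 (.node (nat_lit 852) (.node (nat_lit 849) (.node (nat_lit 848) (.leaf ((nat_lit 1), [nat_lit 7, nat_lit 0, nat_lit 7, nat_lit 3])) (.leaf ((nat_lit 1), [nat_lit 5, nat_lit 2, nat_lit 1, nat_lit 5, nat_lit 7]))) (.node (nat_lit 850) (.leaf ((nat_lit 0), [nat_lit 3, nat_lit 7, nat_lit 2])) (.node (nat_lit 851) (.leaf ((nat_lit 1), [nat_lit 1, nat_lit 7, nat_lit 0, nat_lit 5, nat_lit 3])) (.leaf ((nat_lit 1), [nat_lit 7, nat_lit 6, nat_lit 5, nat_lit 0])))))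
 (.node (nat_lit 855) (.node (nat_lit 853) (.leaf ((nat_lit 1), [nat_lit 7, nat_lit 6, nat_lit 7, nat_lit 4, nat_lit 3])) (.node (nat_lit 854) (.leaf ((nat_lit 1), [nat_lit 5, nat_lit 7, nat_lit 4, nat_lit 1, nat_lit 6])) (.leaf ((nat_lit 1), [nat_lit 1, nat_lit 7, nat_lit 2, nat_lit 7])))) (.node (nat_lit 856) (.leaf ((nat_lit 1), [nat_lit 1, nat_lit 5, nat_lit 6])) (.node (nat_lit 857) (.leaf ((nat_lit 1), [nat_lit 3, nat_lit 6, nat_lit 5, nat_lit 7, nat_lit 3, nat_lit 0])) (.leaf ((nat_lit 1), [nat_lit 4, nat_lit 7, nat_lit 5, nat_lit 2, nat_lit 6])))))))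
 (.node (nat_lit 869) (.node (nat_lit 863) (.node (nat_lit 860) (.node (nat_lit 859) (.leaf ((nat_lit 1), [nat_lit 1, nat_lit 6, nat_lit 5, nat_lit 7, nat_lit 2, nat_lit 0])) (.leaf ((nat_lit 1), [nat_lit 7, nat_lit 1, nat_lit 5, nat_lit 7]))) (.node (nat_lit 861) (.leaf ((nat_lit 1), [nat_lit 7, nat_lit 5, nat_lit 7, nat_lit 4, nat_lit 3])) (.node (nat_lit 862) (.leaf ((nat_lit 1), [nat_lit 4, nat_lit 3, nat_lit 6])) (.leaf ((nat_lit 1), [nat_lit 5, nat_lit 2, nat_lit 7, nat_lit 5, nat_lit 6, nat_lit 0])))))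
 (.node (nat_lit 866) (.node (nat_lit 864) (.leaf ((nat_lit 1), [nat_lit 3, nat_lit 1, nat_lit 6, nat_lit 5, nat_lit 7])) (.node (nat_lit 865) (.leaf ((nat_lit 1), [nat_lit 1, nat_lit 5, nat_lit 3, nat_lit 6, nat_lit 0])) (.leaf ((nat_lit 0), [nat_lit 3, nat_lit 1, nat_lit 7])))) (.node (nat_lit 867) (.leaf ((nat_lit 1), [nat_lit 6, nat_lit 1, nat_lit 7, nat_lit 1, nat_lit 7, nat_lit 1])) (.node (nat_lit 868) (.leaf ((nat_lit 1), [nat_lit 7, nat_lit 1, nat_lit 5, nat_lit 3, nat_lit 1])) (.leaf ((nat_lit 1), [nat_lit 3, nat_lit 6, nat_lit 7]))))))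
 (.node (nat_lit 874) (.node (nat_lit 871) (.node (nat_lit 870) (.leaf ((nat_lit 1), [nat_lit 5, nat_lit 7, nat_lit 6, nat_lit 7, nat_lit 4, nat_lit 2])) (.leaf ((nat_lit 1), [nat_lit 0, nat_lit 5, nat_lit 2]))) (.node (nat_lit 872) (.leaf ((nat_lit 1), [nat_lit 5, nat_lit 0, nat_lit 7, nat_lit 2])) (.node (nat_lit 873) (.leaf ((nat_lit 1), [nat_lit 6, nat_lit 1, nat_lit 7, nat_lit 6])) (.leaf ((nat_lit 1), [nat_lit 3, nat_lit 6, nat_lit 7, nat_lit 1])))))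
 (.node (nat_lit 877) (.node (nat_lit 875) (.leaf ((nat_lit 1), [nat_lit 5, nat_lit 0, nat_lit 5, nat_lit 2, nat_lit 1])) (.node (nat_lit 876) (.leaf ((nat_lit 1), [nat_lit 7, nat_lit 5, nat_lit 0])) (.leaf ((nat_lit 1), [nat_lit 4, nat_lit 5, nat_lit 1])))) (.node (nat_lit 878) (.leaf ((nat_lit 1), [nat_lit 5, nat_lit 4, nat_lit 1])) (.node (nat_lit 879) (.leaf ((nat_lit 1), [nat_lit 7, nat_lit 6, nat_lit 3, nat_lit 0, nat_lit 7])) (.leaf ((nat_lit 1), [nat_lit 5, nat_lit 3, nat_lit 6, nat_lit 0]))))))))))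
noncomputable def rPA_5 : Tr (ℕ × List ℕ) := (.node (nat_lit 968) (.node (nat_lit 924) (.node (nat_lit 902) (.node (nat_lit 891) (.node (nat_lit 885) (.node (nat_lit 882) (.node (nat_lit 881) (.leaf ((nat_lit 0), [nat_lit 6, nat_lit 7, nat_lit 1])) (.leaf ((nat_lit 1), [nat_lit 6, nat_lit 5, nat_lit 4, nat_lit 1]))) (.node (nat_lit 883) (.leaf ((nat_lit 1), [nat_lit 6, nat_lit 3, nat_lit 5, nat_lit 1, nat_lit 7])) (.node (nat_lit 884) (.leaf ((nat_lit 1), [nat_lit 3, nat_lit 0])) (.leaf ((nat_lit 0), [nat_lit 7, nat_lit 2])))))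
 (.node (nat_lit 888) (.node (nat_lit 886) (.leaf ((nat_lit 1), [nat_lit 3, nat_lit 6, nat_lit 4, nat_lit 2])) (.node (nat_lit 887) (.leaf ((nat_lit 1), [nat_lit 7, nat_lit 1, nat_lit 7, nat_lit 0, nat_lit 5, nat_lit 0])) (.leaf ((nat_lit 1), [nat_lit 0, nat_lit 7, nat_lit 5, nat_lit 6, nat_lit 4, nat_lit 1])))) (.node (nat_lit 889) (.leaf ((nat_lit 1), [nat_lit 5, nat_lit 2])) (.node (nat_lit 890) (.leaf ((nat_lit 1), [nat_lit 7, nat_lit 6, nat_lit 5, nat_lit 3, nat_lit 6, nat_lit 0])) (.leaf ((nat_lit 1), [nat_lit 1, nat_lit 7, nat_lit 5, nat_lit 6, nat_lit 2]))))))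
 (.node (nat_lit 896) (.node (nat_lit 893) (.node (nat_lit 892) (.leaf ((nat_lit 1), [nat_lit 3, nat_lit 1, nat_lit 7, nat_lit 3, nat_lit 0])) (.leaf ((nat_lit 1), [nat_lit 7, nat_lit 6, nat_lit 4, nat_lit 1]))) (.node (nat_lit 894) (.leaf ((nat_lit 1), [nat_lit 7, nat_lit 2, nat_lit 5, nat_lit 3, nat_lit 6, nat_lit 0])) (.node (nat_lit 895) (.leaf ((nat_lit 1), [nat_lit 1, nat_lit 6, nat_lit 7, nat_lit 6, nat_lit 1])) (.leaf ((nat_lit 1), [nat_lit 7, nat_lit 1, nat_lit 7, nat_lit 3])))))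
 (.node (nat_lit 899) (.node (nat_lit 897) (.leaf ((nat_lit 1), [nat_lit 5, nat_lit 0, nat_lit 5, nat_lit 7])) (.node (nat_lit 898) (.leaf ((nat_lit 1), [nat_lit 0, nat_lit 7, nat_lit 6, nat_lit 5, nat_lit 2, nat_lit 0])) (.leaf ((nat_lit 1), [nat_lit 7, nat_lit 6, nat_lit 3, nat_lit 6, nat_lit 7])))) (.node (nat_lit 900) (.leaf ((nat_lit 1), [nat_lit 7, nat_lit 1, nat_lit 5, nat_lit 4])) (.node (nat_lit 901) (.leaf ((nat_lit 1), [nat_lit 1, nat_lit 7, nat_lit 1, nat_lit 5, nat_lit 2])) (.leaf ((nat_lit 1), [nat_lit 1, nat_lit 7, nat_lit 1, nat_lit 7, nat_lit 3])))))))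
 (.node (nat_lit 913) (.node (nat_lit 907) (.node (nat_lit 904) (.node (nat_lit 903) (.leaf ((nat_lit 0), [nat_lit 7, nat_lit 0, nat_lit 7, nat_lit 2])) (.leaf ((nat_lit 1), [nat_lit 1, nat_lit 7, nat_lit 5, nat_lit 6]))) (.node (nat_lit 905) (.leaf ((nat_lit 1), [nat_lit 2, nat_lit 6, nat_lit 3, nat_lit 6, nat_lit 1])) (.node (nat_lit 906) (.leaf ((nat_lit 1), [nat_lit 5, nat_lit 4, nat_lit 7, nat_lit 3, nat_lit 6])) (.leaf ((nat_lit 1), [nat_lit 6, nat_lit 4, nat_lit 2, nat_lit 1])))))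
 (.node (nat_lit 910) (.node (nat_lit 908) (.leaf ((nat_lit 1), [nat_lit 1, nat_lit 5, nat_lit 6, nat_lit 3, nat_lit 6, nat_lit 0])) (.node (nat_lit 909) (.leaf ((nat_lit 1), [nat_lit 1, nat_lit 7, nat_lit 5, nat_lit 6, nat_lit 1])) (.leaf ((nat_lit 1), [nat_lit 7, nat_lit 6, nat_lit 4, nat_lit 3])))) (.node (nat_lit 911) (.leaf ((nat_lit 1), [nat_lit 1, nat_lit 6, nat_lit 2, nat_lit 1])) (.node (nat_lit 912) (.leaf ((nat_lit 1), [nat_lit 6, nat_lit 7, nat_lit 5, nat_lit 6, nat_lit 1])) (.leaf ((nat_lit 1), [nat_lit 5, nat_lit 3, nat_lit 1, nat_lit 6]))))))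
 (.node (nat_lit 918) (.node (nat_lit 915) (.node (nat_lit 914) (.leaf ((nat_lit 1), [nat_lit 7, nat_lit 6, nat_lit 5, nat_lit 4, nat_lit 1])) (.leaf ((nat_lit 1), [nat_lit 7, nat_lit 6, nat_lit 5, nat_lit 7]))) (.node (nat_lit 916) (.leaf ((nat_lit 1), [nat_lit 0, nat_lit 5, nat_lit 4, nat_lit 0])) (.node (nat_lit 917) (.leaf ((nat_lit 1), [nat_lit 3, nat_lit 1, nat_lit 7, nat_lit 4, nat_lit 0])) (.leaf ((nat_lit 1), [nat_lit 6, nat_lit 7, nat_lit 3, nat_lit 6, nat_lit 2])))))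
 (.node (nat_lit 921) (.node (nat_lit 919) (.leaf ((nat_lit 1), [nat_lit 1, nat_lit 6, nat_lit 2, nat_lit 0, nat_lit 7])) (.node (nat_lit 920) (.leaf ((nat_lit 1), [nat_lit 7, nat_lit 1, nat_lit 5, nat_lit 2])) (.leaf ((nat_lit 1), [nat_lit 1, nat_lit 6, nat_lit 1, nat_lit 7, nat_lit 1])))) (.node (nat_lit 922) (.leaf ((nat_lit 1), [nat_lit 4, nat_lit 2, nat_lit 7, nat_lit 6, nat_lit 2])) (.node (nat_lit 923) (.leaf ((nat_lit 1), [nat_lit 5, nat_lit 7, nat_lit 1, nat_lit 7, nat_lit 3, nat_lit 0])) (.leaf ((nat_lit 1), [nat_lit 6, nat_lit 2, nat_lit 5, nat_lit 1]))))))))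
 (.node (nat_lit 946) (.node (nat_lit 935) (.node (nat_lit 929) (.node (nat_lit 926) (.node (nat_lit 925) (.leaf ((nat_lit 1), [nat_lit 7, nat_lit 0, nat_lit 5, nat_lit 1])) (.leaf ((nat_lit 1), [nat_lit 0, nat_lit 6, nat_lit 5, nat_lit 1]))) (.node (nat_lit 927) (.leaf ((nat_lit 1), [nat_lit 2, nat_lit 5, nat_lit 0, nat_lit 7])) (.node (nat_lit 928) (.leaf ((nat_lit 1), [nat_lit 0, nat_lit 7, nat_lit 2, nat_lit 1])) (.leaf ((nat_lit 1), [nat_lit 7, nat_lit 3, nat_lit 7, nat_lit 5, nat_lit 6, nat_lit 0])))))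
 (.node (nat_lit 932) (.node (nat_lit 930) (.leaf ((nat_lit 1), [nat_lit 3, nat_lit 7, nat_lit 5, nat_lit 7, nat_lit 1])) (.node (nat_lit 931) (.leaf ((nat_lit 1), [nat_lit 2, nat_lit 7, nat_lit 0, nat_lit 5, nat_lit 7])) (.leaf ((nat_lit 1), [nat_lit 5, nat_lit 4, nat_lit 3, nat_lit 1])))) (.node (nat_lit 933) (.leaf ((nat_lit 1), [nat_lit 2, nat_lit 5, nat_lit 2, nat_lit 1])) (.node (nat_lit 934) (.leaf ((nat_lit 1), [nat_lit 1, nat_lit 7, nat_lit 1, nat_lit 6, nat_lit 0])) (.leaf ((nat_lit 1), [nat_lit 1, nat_lit 7, nat_lit 0, nat_lit 5, nat_lit 0]))))))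
 (.node (nat_lit 940) (.node (nat_lit 937) (.node (nat_lit 936) (.leaf ((nat_lit 1), [nat_lit 7, nat_lit 2, nat_lit 0, nat_lit 7])) (.leaf ((nat_lit 1), [nat_lit 6, nat_lit 7, nat_lit 1, nat_lit 6, nat_lit 2, nat_lit 1]))) (.node (nat_lit 938) (.leaf ((nat_lit 1), [nat_lit 6, nat_lit 3, nat_lit 7, nat_lit 4, nat_lit 1])) (.node (nat_lit 939) (.leaf ((nat_lit 1), [nat_lit 4, nat_lit 2, nat_lit 1])) (.leaf ((nat_lit 1), [nat_lit 2, nat_lit 6, nat_lit 7])))))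
 (.node (nat_lit 943) (.node (nat_lit 941) (.leaf ((nat_lit 1), [nat_lit 2, nat_lit 6, nat_lit 7, nat_lit 6, nat_lit 0])) (.node (nat_lit 942) (.leaf ((nat_lit 1), [nat_lit 6, nat_lit 3, nat_lit 1, nat_lit 6, nat_lit 0])) (.leaf ((nat_lit 1), [nat_lit 6, nat_lit 7, nat_lit 5, nat_lit 7, nat_lit 1])))) (.node (nat_lit 944) (.leaf ((nat_lit 1), [nat_lit 2, nat_lit 5, nat_lit 6, nat_lit 7])) (.node (nat_lit 945) (.leaf ((nat_lit 1), [nat_lit 4, nat_lit 1, nat_lit 7])) (.leaf ((nat_lit 0), [nat_lit 1, nat_lit 5, nat_lit 7, nat_lit 1])))))))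
 (.node (nat_lit 957) (.node (nat_lit 951) (.node (nat_lit 948) (.node (nat_lit 947) (.leaf ((nat_lit 1), [nat_lit 2, nat_lit 7, nat_lit 6, nat_lit 7])) (.leaf ((nat_lit 1), [nat_lit 0, nat_lit 5, nat_lit 0, nat_lit 7, nat_lit 1]))) (.node (nat_lit 949) (.leaf ((nat_lit 1), [nat_lit 7, nat_lit 6, nat_lit 2])) (.node (nat_lit 950) (.leaf ((nat_lit 1), [nat_lit 7, nat_lit 0, nat_lit 5, nat_lit 2, nat_lit 1])) (.leaf ((nat_lit 1), [nat_lit 7, nat_lit 2, nat_lit 1, nat_lit 5, nat_lit 3, nat_lit 0])))))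
 (.node (nat_lit 954) (.node (nat_lit 952) (.leaf ((nat_lit 1), [nat_lit 0, nat_lit 7, nat_lit 0, nat_lit 5, nat_lit 3])) (.node (nat_lit 953) (.leaf ((nat_lit 1), [nat_lit 4, nat_lit 7, nat_lit 3, nat_lit 0])) (.leaf ((nat_lit 1), [nat_lit 6, nat_lit 3, nat_lit 6, nat_lit 1])))) (.node (nat_lit 955) (.leaf ((nat_lit 1), [nat_lit 7, nat_lit 2, nat_lit 5, nat_lit 7, nat_lit 1])) (.node (nat_lit 956) (.leaf ((nat_lit 1), [nat_lit 3, nat_lit 6, nat_lit 7, nat_lit 3, nat_lit 6])) (.leaf ((nat_lit 1), [nat_lit 5, nat_lit 7, nat_lit 5, nat_lit 1, nat_lit 7, nat_lit 1]))))))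
 (.node (nat_lit 962) (.node (nat_lit 959) (.node (nat_lit 958) (.leaf ((nat_lit 1), [nat_lit 0, nat_lit 7, nat_lit 3, nat_lit 5, nat_lit 0])) (.leaf ((nat_lit 1), [nat_lit 3, nat_lit 6, nat_lit 1, nat_lit 7]))) (.node (nat_lit 960) (.leaf ((nat_lit 0), [nat_lit 2, nat_lit 7, nat_lit 3])) (.node (nat_lit 961) (.leaf ((nat_lit 1), [nat_lit 2, nat_lit 5, nat_lit 0, nat_lit 5, nat_lit 0])) (.leaf ((nat_lit 1), [nat_lit 7, nat_lit 6, nat_lit 4, nat_lit 2])))))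
 (.node (nat_lit 965) (.node (nat_lit 963) (.leaf ((nat_lit 1), [nat_lit 4, nat_lit 3, nat_lit 5, nat_lit 3, nat_lit 0])) (.node (nat_lit 964) (.leaf ((nat_lit 1), [nat_lit 6, nat_lit 7, nat_lit 5, nat_lit 7, nat_lit 6])) (.leaf ((nat_lit 1), [nat_lit 5, nat_lit 7])))) (.node (nat_lit 966) (.leaf ((nat_lit 0), [nat_lit 1])) (.node (nat_lit 967) (.leaf ((nat_lit 1), [nat_lit 6, nat_lit 4, nat_lit 7, nat_lit 1, nat_lit 6, nat_lit 0])) (.leaf ((nat_lit 1), [nat_lit 3, nat_lit 6, nat_lit 7, nat_lit 4, nat_lit 2])))))))))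
 (.node (nat_lit 1012) (.node (nat_lit 990) (.node (nat_lit 979) (.node (nat_lit 973) (.node (nat_lit 970) (.node (nat_lit 969) (.leaf ((nat_lit 1), [nat_lit 6, nat_lit 5, nat_lit 7, nat_lit 3, nat_lit 0])) (.leaf ((nat_lit 1), [nat_lit 4, nat_lit 7, nat_lit 5, nat_lit 2, nat_lit 1]))) (.node (nat_lit 971) (.leaf ((nat_lit 1), [nat_lit 0, nat_lit 7, nat_lit 3, nat_lit 6, nat_lit 2])) (.node (nat_lit 972) (.leaf ((nat_lit 1), [nat_lit 2, nat_lit 6, nat_lit 7, nat_lit 3])) (.leaf ((nat_lit 1), [nat_lit 4, nat_lit 0, nat_lit 7, nat_lit 4, nat_lit 1])))))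
 (.node (nat_lit 976) (.node (nat_lit 974) (.leaf ((nat_lit 1), [nat_lit 5, nat_lit 7, nat_lit 6, nat_lit 7, nat_lit 3])) (.node (nat_lit 975) (.leaf ((nat_lit 1), [nat_lit 3, nat_lit 5, nat_lit 3, nat_lit 7])) (.leaf ((nat_lit 1), [nat_lit 1, nat_lit 7, nat_lit 5, nat_lit 7, nat_lit 1])))) (.node (nat_lit 977) (.leaf ((nat_lit 1), [nat_lit 3, nat_lit 7, nat_lit 5, nat_lit 6, nat_lit 7])) (.node (nat_lit 978) (.leaf ((nat_lit 1), [nat_lit 7, nat_lit 3, nat_lit 6, nat_lit 4, nat_lit 2])) (.leaf ((nat_lit 1), [nat_lit 3, nat_lit 0, nat_lit 6, nat_lit 1]))))))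
 (.node (nat_lit 984) (.node (nat_lit 981) (.node (nat_lit 980) (.leaf ((nat_lit 1), [nat_lit 1, nat_lit 7, nat_lit 4, nat_lit 2, nat_lit 0])) (.leaf ((nat_lit 1), [nat_lit 6, nat_lit 2, nat_lit 1]))) (.node (nat_lit 982) (.leaf ((nat_lit 1), [nat_lit 7, nat_lit 4, nat_lit 2])) (.node (nat_lit 983) (.leaf ((nat_lit 1), [nat_lit 5, nat_lit 6, nat_lit 7, nat_lit 4, nat_lit 1])) (.leaf ((nat_lit 0), [nat_lit 7, nat_lit 2, nat_lit 7])))))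
 (.node (nat_lit 987) (.node (nat_lit 985) (.leaf ((nat_lit 1), [nat_lit 4, nat_lit 1])) (.node (nat_lit 986) (.leaf ((nat_lit 1), [nat_lit 7, nat_lit 0, nat_lit 6, nat_lit 3])) (.leaf ((nat_lit 1), [nat_lit 7, nat_lit 1, nat_lit 7, nat_lit 2, nat_lit 7])))) (.node (nat_lit 988) (.leaf ((nat_lit 1), [nat_lit 1, nat_lit 7, nat_lit 0, nat_lit 7])) (.node (nat_lit 989) (.leaf ((nat_lit 1), [nat_lit 4, nat_lit 2, nat_lit 7])) (.leaf ((nat_lit 1), [nat_lit 7, nat_lit 3, nat_lit 6, nat_lit 0])))))))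
 (.node (nat_lit 1001) (.node (nat_lit 995) (.node (nat_lit 992) (.node (nat_lit 991) (.leaf ((nat_lit 1), [nat_lit 7, nat_lit 6, nat_lit 4, nat_lit 5, nat_lit 0])) (.leaf ((nat_lit 1), [nat_lit 7, nat_lit 6, nat_lit 2, nat_lit 7]))) (.node (nat_lit 993) (.leaf ((nat_lit 1), [nat_lit 5, nat_lit 3, nat_lit 0])) (.node (nat_lit 994) (.leaf ((nat_lit 1), [nat_lit 7, nat_lit 0, nat_lit 7, nat_lit 6])) (.leaf ((nat_lit 1), [nat_lit 3, nat_lit 5, nat_lit 3, nat_lit 0, nat_lit 7])))))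
 (.node (nat_lit 998) (.node (nat_lit 996) (.leaf ((nat_lit 1), [nat_lit 2, nat_lit 7, nat_lit 4])) (.node (nat_lit 997) (.leaf ((nat_lit 1), [nat_lit 0, nat_lit 5, nat_lit 1, nat_lit 7])) (.leaf ((nat_lit 1), [nat_lit 0, nat_lit 5, nat_lit 3, nat_lit 6, nat_lit 1])))) (.node (nat_lit 999) (.leaf ((nat_lit 1), [nat_lit 7, nat_lit 4, nat_lit 5, nat_lit 0, nat_lit 7])) (.node (nat_lit 1000) (.leaf ((nat_lit 1), [nat_lit 2, nat_lit 0, nat_lit 5, nat_lit 3, nat_lit 0])) (.leaf ((nat_lit 1), [nat_lit 3, nat_lit 0, nat_lit 5, nat_lit 2, nat_lit 1]))))))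
 (.node (nat_lit 1006) (.node (nat_lit 1003) (.node (nat_lit 1002) (.leaf ((nat_lit 1), [nat_lit 5, nat_lit 4])) (.leaf ((nat_lit 0), [nat_lit 0, nat_lit 7, nat_lit 2, nat_lit 0]))) (.node (nat_lit 1004) (.leaf ((nat_lit 1), [nat_lit 5, nat_lit 7, nat_lit 4, nat_lit 3, nat_lit 0])) (.node (nat_lit 1005) (.leaf ((nat_lit 1), [nat_lit 0, nat_lit 5, nat_lit 4, nat_lit 1])) (.leaf ((nat_lit 1), [nat_lit 6, nat_lit 2, nat_lit 6, nat_lit 2])))))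
 (.node (nat_lit 1009) (.node (nat_lit 1007) (.leaf ((nat_lit 1), [nat_lit 2, nat_lit 1, nat_lit 7])) (.node (nat_lit 1008) (.leaf ((nat_lit 1), [nat_lit 5, nat_lit 0, nat_lit 7, nat_lit 2, nat_lit 7])) (.leaf ((nat_lit 1), [nat_lit 7, nat_lit 5, nat_lit 6, nat_lit 0])))) (.node (nat_lit 1010) (.leaf ((nat_lit 1), [nat_lit 3, nat_lit 5, nat_lit 1, nat_lit 6])) (.node (nat_lit 1011) (.leaf ((nat_lit 1), [nat_lit 6, nat_lit 7, nat_lit 3, nat_lit 1, nat_lit 6, nat_lit 0])) (.leaf ((nat_lit 1), [nat_lit 3, nat_lit 0, nat_lit 5, nat_lit 2, nat_lit 0]))))))))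
 (.node (nat_lit 1034) (.node (nat_lit 1023) (.node (nat_lit 1017) (.node (nat_lit 1014) (.node (nat_lit 1013) (.leaf ((nat_lit 1), [nat_lit 4, nat_lit 0, nat_lit 5, nat_lit 2, nat_lit 1])) (.leaf ((nat_lit 1), [nat_lit 0, nat_lit 5, nat_lit 4, nat_lit 3]))) (.node (nat_lit 1015) (.leaf ((nat_lit 1), [nat_lit 7, nat_lit 4, nat_lit 3, nat_lit 5, nat_lit 1])) (.node (nat_lit 1016) (.leaf ((nat_lit 1), [nat_lit 2, nat_lit 1, nat_lit 5, nat_lit 3, nat_lit 1])) (.leaf ((nat_lit 1), [nat_lit 4, nat_lit 2, nat_lit 7, nat_lit 3, nat_lit 1])))))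
 (.node (nat_lit 1020) (.node (nat_lit 1018) (.leaf ((nat_lit 1), [nat_lit 0, nat_lit 6, nat_lit 7, nat_lit 3])) (.node (nat_lit 1019) (.leaf ((nat_lit 1), [nat_lit 6, nat_lit 7, nat_lit 6, nat_lit 7, nat_lit 1])) (.leaf ((nat_lit 1), [nat_lit 2, nat_lit 7, nat_lit 6, nat_lit 3, nat_lit 7])))) (.node (nat_lit 1021) (.leaf ((nat_lit 1), [nat_lit 7, nat_lit 4, nat_lit 3, nat_lit 0])) (.node (nat_lit 1022) (.leaf ((nat_lit 1), [nat_lit 5, nat_lit 3, nat_lit 7])) (.leaf ((nat_lit 1), [nat_lit 6, nat_lit 4, nat_lit 7, nat_lit 2, nat_lit 0]))))))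
 (.node (nat_lit 1028) (.node (nat_lit 1025) (.node (nat_lit 1024) (.leaf ((nat_lit 1), [nat_lit 3, nat_lit 7, nat_lit 3, nat_lit 7, nat_lit 6, nat_lit 1])) (.leaf ((nat_lit 1), [nat_lit 4, nat_lit 5, nat_lit 4, nat_lit 0]))) (.node (nat_lit 1026) (.leaf ((nat_lit 1), [nat_lit 7, nat_lit 2, nat_lit 0, nat_lit 7, nat_lit 6])) (.node (nat_lit 1027) (.leaf ((nat_lit 1), [nat_lit 7, nat_lit 5, nat_lit 1])) (.leaf ((nat_lit 1), [nat_lit 4, nat_lit 1, nat_lit 7, nat_lit 6])))))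
 (.node (nat_lit 1031) (.node (nat_lit 1029) (.leaf ((nat_lit 1), [nat_lit 4, nat_lit 7, nat_lit 2, nat_lit 7, nat_lit 6])) (.node (nat_lit 1030) (.leaf ((nat_lit 1), [nat_lit 3, nat_lit 1])) (.leaf ((nat_lit 1), [nat_lit 1, nat_lit 7, nat_lit 4, nat_lit 3, nat_lit 0])))) (.node (nat_lit 1032) (.leaf ((nat_lit 1), [nat_lit 0, nat_lit 7, nat_lit 5, nat_lit 6, nat_lit 7])) (.node (nat_lit 1033) (.leaf ((nat_lit 1), [nat_lit 5, nat_lit 6, nat_lit 1])) (.leaf ((nat_lit 0), [nat_lit 3, nat_lit 6, nat_lit 7, nat_lit 3])))))))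
 (.node (nat_lit 1045) (.node (nat_lit 1039) (.node (nat_lit 1036) (.node (nat_lit 1035) (.leaf ((nat_lit 0), [nat_lit 3, nat_lit 0, nat_lit 7])) (.leaf ((nat_lit 1), [nat_lit 7, nat_lit 3, nat_lit 7, nat_lit 4, nat_lit 0]))) (.node (nat_lit 1037) (.leaf ((nat_lit 1), [nat_lit 6, nat_lit 5, nat_lit 0])) (.node (nat_lit 1038) (.leaf ((nat_lit 1), [nat_lit 4, nat_lit 1, nat_lit 6])) (.leaf ((nat_lit 1), [nat_lit 0, nat_lit 7, nat_lit 5, nat_lit 0])))))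
 (.node (nat_lit 1042) (.node (nat_lit 1040) (.leaf ((nat_lit 1), [nat_lit 6, nat_lit 3, nat_lit 5, nat_lit 2])) (.node (nat_lit 1041) (.leaf ((nat_lit 1), [nat_lit 5, nat_lit 6, nat_lit 5, nat_lit 0])) (.leaf ((nat_lit 1), [nat_lit 2, nat_lit 7, nat_lit 2, nat_lit 6, nat_lit 0])))) (.node (nat_lit 1043) (.leaf ((nat_lit 1), [nat_lit 0, nat_lit 6])) (.node (nat_lit 1044) (.leaf ((nat_lit 1), [nat_lit 5, nat_lit 6, nat_lit 3, nat_lit 6, nat_lit 0])) (.leaf ((nat_lit 1), [nat_lit 0, nat_lit 6, nat_lit 2, nat_lit 5, nat_lit 0]))))))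
 (.node (nat_lit 1050) (.node (nat_lit 1047) (.node (nat_lit 1046) (.leaf ((nat_lit 0), [nat_lit 2, nat_lit 7, nat_lit 3, nat_lit 0])) (.leaf ((nat_lit 1), [nat_lit 6, nat_lit 2, nat_lit 0]))) (.node (nat_lit 1048) (.leaf ((nat_lit 1), [nat_lit 2, nat_lit 7, nat_lit 6, nat_lit 0, nat_lit 7])) (.node (nat_lit 1049) (.leaf ((nat_lit 1), [nat_lit 6, nat_lit 1])) (.leaf ((nat_lit 1), [nat_lit 7, nat_lit 0, nat_lit 5, nat_lit 1, nat_lit 6])))))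
 (.node (nat_lit 1053) (.node (nat_lit 1051) (.leaf ((nat_lit 1), [nat_lit 4, nat_lit 7, nat_lit 2, nat_lit 5, nat_lit 0])) (.node (nat_lit 1052) (.leaf ((nat_lit 1), [nat_lit 4, nat_lit 5, nat_lit 3, nat_lit 0, nat_lit 7])) (.leaf ((nat_lit 1), [nat_lit 5, nat_lit 6, nat_lit 1, nat_lit 7])))) (.node (nat_lit 1054) (.leaf ((nat_lit 1), [nat_lit 3, nat_lit 1, nat_lit 7, nat_lit 1, nat_lit 6, nat_lit 0])) (.node (nat_lit 1055) (.leaf ((nat_lit 1), [nat_lit 5, nat_lit 1, nat_lit 7, nat_lit 5, nat_lit 7])) (.leaf ((nat_lit 1), [nat_lit 5, nat_lit 0, nat_lit 7, nat_lit 5, nat_lit 6]))))))))))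
noncomputable def rPA_6 : Tr (ℕ × List ℕ) := (.node (nat_lit 1144) (.node (nat_lit 1100) (.node (nat_lit 1078) (.node (nat_lit 1067) (.node (nat_lit 1061) (.node (nat_lit 1058) (.node (nat_lit 1057) (.leaf ((nat_lit 1), [nat_lit 1, nat_lit 7, nat_lit 0, nat_lit 7, nat_lit 2, nat_lit 1])) (.leaf ((nat_lit 1), [nat_lit 1, nat_lit 6, nat_lit 3, nat_lit 7]))) (.node (nat_lit 1059) (.leaf ((nat_lit 1), [nat_lit 2, nat_lit 1, nat_lit 6, nat_lit 0, nat_lit 7, nat_lit 1])) (.node (nat_lit 1060) (.leaf ((nat_lit 1), [nat_lit 5, nat_lit 7, nat_lit 3])) (.leaf ((nat_lit 1), [nat_lit 6, nat_lit 0, nat_lit 5, nat_lit 1])))))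
 (.node (nat_lit 1064) (.node (nat_lit 1062) (.leaf ((nat_lit 1), [nat_lit 5, nat_lit 6, nat_lit 7, nat_lit 6, nat_lit 7, nat_lit 1])) (.node (nat_lit 1063) (.leaf ((nat_lit 1), [nat_lit 7, nat_lit 6, nat_lit 7, nat_lit 6])) (.leaf ((nat_lit 1), [nat_lit 6, nat_lit 0, nat_lit 7])))) (.node (nat_lit 1065) (.leaf ((nat_lit 1), [nat_lit 4, nat_lit 7, nat_lit 6, nat_lit 0])) (.node (nat_lit 1066) (.leaf ((nat_lit 1), [nat_lit 6, nat_lit 5, nat_lit 7, nat_lit 6, nat_lit 4, nat_lit 2])) (.leaf ((nat_lit 1), [nat_lit 7, nat_lit 4, nat_lit 1, nat_lit 6]))))))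
 (.node (nat_lit 1072) (.node (nat_lit 1069) (.node (nat_lit 1068) (.leaf ((nat_lit 1), [nat_lit 7, nat_lit 5, nat_lit 3, nat_lit 6, nat_lit 1])) (.leaf ((nat_lit 1), [nat_lit 6, nat_lit 5, nat_lit 4, nat_lit 2]))) (.node (nat_lit 1070) (.leaf ((nat_lit 1), [nat_lit 6, nat_lit 7, nat_lit 1, nat_lit 5, nat_lit 7])) (.node (nat_lit 1071) (.leaf ((nat_lit 1), [nat_lit 3, nat_lit 0, nat_lit 6, nat_lit 0])) (.leaf ((nat_lit 1), [nat_lit 2, nat_lit 0, nat_lit 5, nat_lit 2, nat_lit 0])))))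
 (.node (nat_lit 1075) (.node (nat_lit 1073) (.leaf ((nat_lit 1), [nat_lit 1, nat_lit 7, nat_lit 5, nat_lit 6, nat_lit 0])) (.node (nat_lit 1074) (.leaf ((nat_lit 1), [nat_lit 5, nat_lit 1, nat_lit 5, nat_lit 7])) (.leaf ((nat_lit 1), [nat_lit 3, nat_lit 7, nat_lit 6, nat_lit 4, nat_lit 1])))) (.node (nat_lit 1076) (.leaf ((nat_lit 1), [nat_lit 1, nat_lit 5, nat_lit 7, nat_lit 6, nat_lit 2])) (.node (nat_lit 1077) (.leaf ((nat_lit 1), [nat_lit 3, nat_lit 1, nat_lit 5, nat_lit 4, nat_lit 2])) (.leaf ((nat_lit 1), [nat_lit 6, nat_lit 4, nat_lit 7])))))))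
 (.node (nat_lit 1089) (.node (nat_lit 1083) (.node (nat_lit 1080) (.node (nat_lit 1079) (.leaf ((nat_lit 1), [nat_lit 7, nat_lit 0, nat_lit 6, nat_lit 5, nat_lit 2])) (.leaf ((nat_lit 1), [nat_lit 1, nat_lit 5, nat_lit 3, nat_lit 1]))) (.node (nat_lit 1081) (.leaf ((nat_lit 1), [nat_lit 2, nat_lit 1, nat_lit 5, nat_lit 7, nat_lit 1])) (.node (nat_lit 1082) (.leaf ((nat_lit 1), [nat_lit 6, nat_lit 7, nat_lit 6, nat_lit 0])) (.leaf ((nat_lit 1), [nat_lit 2, nat_lit 5, nat_lit 3, nat_lit 1, nat_lit 7])))))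
 (.node (nat_lit 1086) (.node (nat_lit 1084) (.leaf ((nat_lit 1), [nat_lit 2, nat_lit 7, nat_lit 6, nat_lit 1])) (.node (nat_lit 1085) (.leaf ((nat_lit 1), [nat_lit 4, nat_lit 0, nat_lit 7, nat_lit 3])) (.leaf ((nat_lit 0), [nat_lit 2, nat_lit 7, nat_lit 2, nat_lit 0])))) (.node (nat_lit 1087) (.leaf ((nat_lit 1), [nat_lit 5, nat_lit 4, nat_lit 7, nat_lit 2, nat_lit 6, nat_lit 0])) (.node (nat_lit 1088) (.leaf ((nat_lit 1), [nat_lit 0, nat_lit 7, nat_lit 3, nat_lit 6, nat_lit 4])) (.leaf ((nat_lit 0), [nat_lit 0]))))))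
 (.node (nat_lit 1094) (.node (nat_lit 1091) (.node (nat_lit 1090) (.leaf ((nat_lit 1), [nat_lit 7, nat_lit 6, nat_lit 0, nat_lit 7])) (.leaf ((nat_lit 1), [nat_lit 2, nat_lit 6, nat_lit 7, nat_lit 4, nat_lit 3]))) (.node (nat_lit 1092) (.leaf ((nat_lit 0), [nat_lit 6, nat_lit 7, nat_lit 2, nat_lit 0])) (.node (nat_lit 1093) (.leaf ((nat_lit 1), [nat_lit 7, nat_lit 3, nat_lit 0, nat_lit 5, nat_lit 4, nat_lit 2])) (.leaf ((nat_lit 1), [nat_lit 6, nat_lit 2, nat_lit 6, nat_lit 4])))))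
 (.node (nat_lit 1097) (.node (nat_lit 1095) (.leaf ((nat_lit 1), [nat_lit 6, nat_lit 4, nat_lit 7, nat_lit 4, nat_lit 1])) (.node (nat_lit 1096) (.leaf ((nat_lit 1), [nat_lit 6, nat_lit 4, nat_lit 7, nat_lit 6])) (.leaf ((nat_lit 1), [nat_lit 1, nat_lit 5, nat_lit 0])))) (.node (nat_lit 1098) (.leaf ((nat_lit 1), [nat_lit 7, nat_lit 1, nat_lit 5, nat_lit 3, nat_lit 6, nat_lit 0])) (.node (nat_lit 1099) (.leaf ((nat_lit 1), [nat_lit 3, nat_lit 1, nat_lit 7, nat_lit 3, nat_lit 6, nat_lit 0])) (.leaf ((nat_lit 1), [nat_lit 5, nat_lit 7, nat_lit 6, nat_lit 3]))))))))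
 (.node (nat_lit 1122) (.node (nat_lit 1111) (.node (nat_lit 1105) (.node (nat_lit 1102) (.node (nat_lit 1101) (.leaf ((nat_lit 1), [nat_lit 6, nat_lit 7, nat_lit 3, nat_lit 5, nat_lit 2])) (.leaf ((nat_lit 1), [nat_lit 5, nat_lit 0, nat_lit 6, nat_lit 7, nat_lit 4, nat_lit 1]))) (.node (nat_lit 1103) (.leaf ((nat_lit 1), [nat_lit 4, nat_lit 3, nat_lit 7])) (.node (nat_lit 1104) (.leaf ((nat_lit 1), [nat_lit 7, nat_lit 2, nat_lit 1])) (.leaf ((nat_lit 1), [nat_lit 7, nat_lit 2, nat_lit 6, nat_lit 1])))))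
 (.node (nat_lit 1108) (.node (nat_lit 1106) (.leaf ((nat_lit 1), [nat_lit 1, nat_lit 5, nat_lit 6, nat_lit 2])) (.node (nat_lit 1107) (.leaf ((nat_lit 1), [nat_lit 2, nat_lit 7, nat_lit 3, nat_lit 1])) (.leaf ((nat_lit 1), [nat_lit 7, nat_lit 5, nat_lit 6, nat_lit 2, nat_lit 7])))) (.node (nat_lit 1109) (.leaf ((nat_lit 1), [nat_lit 0, nat_lit 7, nat_lit 6, nat_lit 4, nat_lit 3])) (.node (nat_lit 1110) (.leaf ((nat_lit 1), [nat_lit 6, nat_lit 5, nat_lit 3, nat_lit 6, nat_lit 1])) (.leaf ((nat_lit 1), [nat_lit 4, nat_lit 2, nat_lit 6, nat_lit 2, nat_lit 1]))))))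
 (.node (nat_lit 1116) (.node (nat_lit 1113) (.node (nat_lit 1112) (.leaf ((nat_lit 0), [nat_lit 6, nat_lit 4, nat_lit 7, nat_lit 2])) (.leaf ((nat_lit 1), [nat_lit 5, nat_lit 1, nat_lit 7]))) (.node (nat_lit 1114) (.leaf ((nat_lit 1), [nat_lit 1, nat_lit 5, nat_lit 7, nat_lit 6, nat_lit 4, nat_lit 1])) (.node (nat_lit 1115) (.leaf ((nat_lit 1), [nat_lit 3, nat_lit 5, nat_lit 6, nat_lit 7])) (.leaf ((nat_lit 1), [nat_lit 4, nat_lit 2, nat_lit 7, nat_lit 4, nat_lit 1])))))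
 (.node (nat_lit 1119) (.node (nat_lit 1117) (.leaf ((nat_lit 1), [nat_lit 7, nat_lit 6, nat_lit 0])) (.node (nat_lit 1118) (.leaf ((nat_lit 1), [nat_lit 5, nat_lit 6, nat_lit 4, nat_lit 1])) (.leaf ((nat_lit 1), [nat_lit 1, nat_lit 7, nat_lit 5, nat_lit 4, nat_lit 3])))) (.node (nat_lit 1120) (.leaf ((nat_lit 1), [nat_lit 7, nat_lit 5, nat_lit 7, nat_lit 2])) (.node (nat_lit 1121) (.leaf ((nat_lit 1), [nat_lit 1, nat_lit 6, nat_lit 7, nat_lit 3, nat_lit 0])) (.leaf ((nat_lit 1), [nat_lit 7, nat_lit 0, nat_lit 7, nat_lit 2, nat_lit 0])))))))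
 (.node (nat_lit 1133) (.node (nat_lit 1127) (.node (nat_lit 1124) (.node (nat_lit 1123) (.leaf ((nat_lit 1), [nat_lit 7, nat_lit 5, nat_lit 2, nat_lit 6])) (.leaf ((nat_lit 1), [nat_lit 3, nat_lit 6, nat_lit 0, nat_lit 5, nat_lit 1]))) (.node (nat_lit 1125) (.leaf ((nat_lit 1), [nat_lit 7, nat_lit 3, nat_lit 0, nat_lit 6])) (.node (nat_lit 1126) (.leaf ((nat_lit 1), [nat_lit 7, nat_lit 5, nat_lit 6])) (.leaf ((nat_lit 1), [nat_lit 3, nat_lit 7, nat_lit 4, nat_lit 5, nat_lit 3, nat_lit 0])))))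
 (.node (nat_lit 1130) (.node (nat_lit 1128) (.leaf ((nat_lit 1), [nat_lit 2, nat_lit 7, nat_lit 0, nat_lit 7, nat_lit 1])) (.node (nat_lit 1129) (.leaf ((nat_lit 1), [nat_lit 7, nat_lit 6, nat_lit 3, nat_lit 7])) (.leaf ((nat_lit 1), [nat_lit 6, nat_lit 4, nat_lit 7, nat_lit 4, nat_lit 5, nat_lit 2])))) (.node (nat_lit 1131) (.leaf ((nat_lit 1), [nat_lit 2, nat_lit 6, nat_lit 3, nat_lit 7, nat_lit 6])) (.node (nat_lit 1132) (.leaf ((nat_lit 1), [nat_lit 1, nat_lit 7, nat_lit 2, nat_lit 6, nat_lit 1])) (.leaf ((nat_lit 0), [nat_lit 5, nat_lit 7, nat_lit 1]))))))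
 (.node (nat_lit 1138) (.node (nat_lit 1135) (.node (nat_lit 1134) (.leaf ((nat_lit 1), [nat_lit 0, nat_lit 5, nat_lit 7, nat_lit 6])) (.leaf ((nat_lit 1), [nat_lit 2, nat_lit 7, nat_lit 5, nat_lit 6, nat_lit 0]))) (.node (nat_lit 1136) (.leaf ((nat_lit 1), [nat_lit 6, nat_lit 1, nat_lit 7])) (.node (nat_lit 1137) (.leaf ((nat_lit 1), [nat_lit 5, nat_lit 0, nat_lit 7, nat_lit 4, nat_lit 1])) (.leaf ((nat_lit 1), [nat_lit 3, nat_lit 7, nat_lit 3, nat_lit 0])))))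
 (.node (nat_lit 1141) (.node (nat_lit 1139) (.leaf ((nat_lit 1), [nat_lit 3, nat_lit 6])) (.node (nat_lit 1140) (.leaf ((nat_lit 1), [nat_lit 5, nat_lit 1, nat_lit 6, nat_lit 2, nat_lit 1])) (.leaf ((nat_lit 1), [nat_lit 5, nat_lit 0, nat_lit 7, nat_lit 3, nat_lit 5, nat_lit 0])))) (.node (nat_lit 1142) (.leaf ((nat_lit 1), [nat_lit 3, nat_lit 7, nat_lit 0, nat_lit 5, nat_lit 0])) (.node (nat_lit 1143) (.leaf ((nat_lit 0), [nat_lit 3])) (.leaf ((nat_lit 1), [nat_lit 4, nat_lit 6, nat_lit 1])))))))))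
 (.node (nat_lit 1188) (.node (nat_lit 1166) (.node (nat_lit 1155) (.node (nat_lit 1149) (.node (nat_lit 1146) (.node (nat_lit 1145) (.leaf ((nat_lit 1), [nat_lit 6, nat_lit 2, nat_lit 5, nat_lit 1, nat_lit 7])) (.leaf ((nat_lit 1), [nat_lit 3, nat_lit 0, nat_lit 6]))) (.node (nat_lit 1147) (.leaf ((nat_lit 1), [nat_lit 0, nat_lit 7, nat_lit 6, nat_lit 5, nat_lit 3])) (.node (nat_lit 1148) (.leaf ((nat_lit 1), [nat_lit 5, nat_lit 3, nat_lit 6, nat_lit 4])) (.leaf ((nat_lit 1), [nat_lit 0, nat_lit 6, nat_lit 1])))))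
 (.node (nat_lit 1152) (.node (nat_lit 1150) (.leaf ((nat_lit 1), [nat_lit 2, nat_lit 5, nat_lit 3, nat_lit 0])) (.node (nat_lit 1151) (.leaf ((nat_lit 1), [nat_lit 3, nat_lit 6, nat_lit 2, nat_lit 1])) (.leaf ((nat_lit 1), [nat_lit 0, nat_lit 6, nat_lit 2, nat_lit 0])))) (.node (nat_lit 1153) (.leaf ((nat_lit 1), [nat_lit 5, nat_lit 2, nat_lit 7, nat_lit 4, nat_lit 1])) (.node (nat_lit 1154) (.leaf ((nat_lit 1), [nat_lit 6, nat_lit 4, nat_lit 1])) (.leaf ((nat_lit 1), [nat_lit 4, nat_lit 5, nat_lit 0, nat_lit 7]))))))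
 (.node (nat_lit 1160) (.node (nat_lit 1157) (.node (nat_lit 1156) (.leaf ((nat_lit 1), [nat_lit 5, nat_lit 6])) (.leaf ((nat_lit 1), [nat_lit 3, nat_lit 6, nat_lit 1]))) (.node (nat_lit 1158) (.leaf ((nat_lit 1), [nat_lit 5, nat_lit 7, nat_lit 6, nat_lit 0])) (.node (nat_lit 1159) (.leaf ((nat_lit 1), [nat_lit 4, nat_lit 1, nat_lit 7, nat_lit 3, nat_lit 0])) (.leaf ((nat_lit 1), [nat_lit 6, nat_lit 3, nat_lit 5, nat_lit 6, nat_lit 1])))))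
 (.node (nat_lit 1163) (.node (nat_lit 1161) (.leaf ((nat_lit 1), [nat_lit 1, nat_lit 5, nat_lit 3, nat_lit 7])) (.node (nat_lit 1162) (.leaf ((nat_lit 1), [nat_lit 3, nat_lit 5, nat_lit 3, nat_lit 0])) (.leaf ((nat_lit 1), [nat_lit 2, nat_lit 6, nat_lit 2, nat_lit 0])))) (.node (nat_lit 1164) (.leaf ((nat_lit 1), [nat_lit 5, nat_lit 3, nat_lit 7, nat_lit 4, nat_lit 0])) (.node (nat_lit 1165) (.leaf ((nat_lit 1), [nat_lit 7, nat_lit 2, nat_lit 6, nat_lit 7])) (.leaf ((nat_lit 1), [nat_lit 2, nat_lit 7, nat_lit 5, nat_lit 6, nat_lit 1])))))))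
 (.node (nat_lit 1177) (.node (nat_lit 1171) (.node (nat_lit 1168) (.node (nat_lit 1167) (.leaf ((nat_lit 1), [nat_lit 6, nat_lit 5, nat_lit 7])) (.leaf ((nat_lit 1), [nat_lit 2, nat_lit 7, nat_lit 4, nat_lit 6]))) (.node (nat_lit 1169) (.leaf ((nat_lit 1), [nat_lit 6, nat_lit 7, nat_lit 0, nat_lit 7])) (.node (nat_lit 1170) (.leaf ((nat_lit 1), [nat_lit 2, nat_lit 5, nat_lit 0])) (.leaf ((nat_lit 1), [nat_lit 6, nat_lit 1, nat_lit 7, nat_lit 5, nat_lit 7])))))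
 (.node (nat_lit 1174) (.node (nat_lit 1172) (.leaf ((nat_lit 1), [nat_lit 1, nat_lit 5, nat_lit 1, nat_lit 7])) (.node (nat_lit 1173) (.leaf ((nat_lit 1), [nat_lit 1, nat_lit 5, nat_lit 7, nat_lit 1, nat_lit 7])) (.leaf ((nat_lit 1), [nat_lit 7, nat_lit 6, nat_lit 5, nat_lit 3])))) (.node (nat_lit 1175) (.leaf ((nat_lit 1), [nat_lit 5, nat_lit 4, nat_lit 7, nat_lit 3])) (.node (nat_lit 1176) (.leaf ((nat_lit 1), [nat_lit 6, nat_lit 7, nat_lit 4, nat_lit 3])) (.leaf ((nat_lit 1), [nat_lit 5, nat_lit 7, nat_lit 4, nat_lit 2, nat_lit 0]))))))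
 (.node (nat_lit 1182) (.node (nat_lit 1179) (.node (nat_lit 1178) (.leaf ((nat_lit 0), [nat_lit 5])) (.leaf ((nat_lit 1), [nat_lit 2, nat_lit 0, nat_lit 7, nat_lit 2]))) (.node (nat_lit 1180) (.leaf ((nat_lit 1), [nat_lit 6, nat_lit 7, nat_lit 3, nat_lit 6])) (.node (nat_lit 1181) (.leaf ((nat_lit 1), [nat_lit 7, nat_lit 1, nat_lit 5, nat_lit 0])) (.leaf ((nat_lit 1), [nat_lit 5, nat_lit 7, nat_lit 5, nat_lit 1])))))
 (.node (nat_lit 1185) (.node (nat_lit 1183) (.leaf ((nat_lit 1), [nat_lit 4, nat_lit 7, nat_lit 3, nat_lit 6])) (.node (nat_lit 1184) (.leaf ((nat_lit 1), [nat_lit 1, nat_lit 7, nat_lit 1])) (.leaf ((nat_lit 0), [nat_lit 7, nat_lit 1])))) (.node (nat_lit 1186) (.leaf ((nat_lit 1), [nat_lit 5, nat_lit 4, nat_lit 2, nat_lit 0])) (.node (nat_lit 1187) (.leaf ((nat_lit 1), [nat_lit 0, nat_lit 7, nat_lit 3, nat_lit 6, nat_lit 0])) (.leaf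 ((nat_lit 0), [nat_lit 5, nat_lit 3, nat_lit 0]))))))))
 (.node (nat_lit 1210) (.node (nat_lit 1199) (.node (nat_lit 1193) (.node (nat_lit 1190) (.node (nat_lit 1189) (.leaf ((nat_lit 1), [nat_lit 3, nat_lit 1, nat_lit 5, nat_lit 4, nat_lit 1])) (.leaf ((nat_lit 1), [nat_lit 2, nat_lit 6, nat_lit 1]))) (.node (nat_lit 1191) (.leaf ((nat_lit 1), [nat_lit 1, nat_lit 6, nat_lit 7, nat_lit 2, nat_lit 0])) (.node (nat_lit 1192) (.leaf ((nat_lit 1), [nat_lit 3, nat_lit 1, nat_lit 5, nat_lit 3, nat_lit 0])) (.leaf ((nat_lit 1), [nat_lit 7, nat_lit 0, nat_lit 7, nat_lit 4, nat_lit 1])))))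
 (.node (nat_lit 1196) (.node (nat_lit 1194) (.leaf ((nat_lit 1), [nat_lit 5, nat_lit 4, nat_lit 1, nat_lit 7, nat_lit 3, nat_lit 0])) (.node (nat_lit 1195) (.leaf ((nat_lit 1), [nat_lit 0, nat_lit 6, nat_lit 3, nat_lit 6])) (.leaf ((nat_lit 1), [nat_lit 5, nat_lit 3, nat_lit 7, nat_lit 5, nat_lit 0])))) (.node (nat_lit 1197) (.leaf ((nat_lit 1), [nat_lit 3, nat_lit 0, nat_lit 6, nat_lit 2, nat_lit 0])) (.node (nat_lit 1198) (.leaf ((nat_lit 1), [nat_lit 5, nat_lit 2, nat_lit 0])) (.leaf ((nat_lit 1), [nat_lit 0, nat_lit 5, nat_lit 7, nat_lit 1]))))))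
 (.node (nat_lit 1204) (.node (nat_lit 1201) (.node (nat_lit 1200) (.leaf ((nat_lit 1), [nat_lit 7, nat_lit 5, nat_lit 6, nat_lit 1, nat_lit 7])) (.leaf ((nat_lit 1), [nat_lit 7, nat_lit 6, nat_lit 5, nat_lit 4]))) (.node (nat_lit 1202) (.leaf ((nat_lit 0), [nat_lit 6, nat_lit 7])) (.node (nat_lit 1203) (.leaf ((nat_lit 1), [nat_lit 6, nat_lit 7, nat_lit 0, nat_lit 7, nat_lit 2, nat_lit 0])) (.leaf ((nat_lit 1), [nat_lit 2, nat_lit 1, nat_lit 6, nat_lit 2])))))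
 (.node (nat_lit 1207) (.node (nat_lit 1205) (.leaf ((nat_lit 1), [nat_lit 2, nat_lit 7, nat_lit 6])) (.node (nat_lit 1206) (.leaf ((nat_lit 1), [nat_lit 1, nat_lit 7, nat_lit 4, nat_lit 3])) (.leaf ((nat_lit 1), [nat_lit 1, nat_lit 5, nat_lit 1])))) (.node (nat_lit 1208) (.leaf ((nat_lit 1), [nat_lit 1, nat_lit 5, nat_lit 4, nat_lit 0])) (.node (nat_lit 1209) (.leaf ((nat_lit 1), [nat_lit 7, nat_lit 3, nat_lit 1, nat_lit 6, nat_lit 0])) (.leaf ((nat_lit 1), [nat_lit 3, nat_lit 6, nat_lit 3, nat_lit 0, nat_lit 7])))))))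
 (.node (nat_lit 1221) (.node (nat_lit 1215) (.node (nat_lit 1212) (.node (nat_lit 1211) (.leaf ((nat_lit 1), [nat_lit 5, nat_lit 3, nat_lit 0, nat_lit 6])) (.leaf ((nat_lit 1), [nat_lit 6, nat_lit 5, nat_lit 3]))) (.node (nat_lit 1213) (.leaf ((nat_lit 1), [nat_lit 6, nat_lit 0, nat_lit 7, nat_lit 5, nat_lit 6])) (.node (nat_lit 1214) (.leaf ((nat_lit 1), [nat_lit 7, nat_lit 3, nat_lit 5, nat_lit 7, nat_lit 1])) (.leaf ((nat_lit 1), [nat_lit 3, nat_lit 7, nat_lit 2, nat_lit 7])))))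
 (.node (nat_lit 1218) (.node (nat_lit 1216) (.leaf ((nat_lit 1), [nat_lit 3, nat_lit 7, nat_lit 0, nat_lit 7, nat_lit 6])) (.node (nat_lit 1217) (.leaf ((nat_lit 1), [nat_lit 3, nat_lit 7, nat_lit 2, nat_lit 0])) (.leaf ((nat_lit 1), [nat_lit 6, nat_lit 7, nat_lit 5, nat_lit 1])))) (.node (nat_lit 1219) (.leaf ((nat_lit 1), [nat_lit 1, nat_lit 5, nat_lit 3, nat_lit 0])) (.node (nat_lit 1220) (.leaf ((nat_lit 1), [nat_lit 6, nat_lit 7, nat_lit 3, nat_lit 0])) (.leaf ((nat_lit 1), [nat_lit 4, nat_lit 0, nat_lit 5, nat_lit 1]))))))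
 (.node (nat_lit 1226) (.node (nat_lit 1223) (.node (nat_lit 1222) (.leaf ((nat_lit 1), [nat_lit 5, nat_lit 4, nat_lit 2])) (.leaf ((nat_lit 1), [nat_lit 1, nat_lit 5, nat_lit 7, nat_lit 3, nat_lit 1]))) (.node (nat_lit 1224) (.leaf ((nat_lit 1), [nat_lit 4, nat_lit 3, nat_lit 6, nat_lit 2, nat_lit 1])) (.node (nat_lit 1225) (.leaf ((nat_lit 1), [nat_lit 5, nat_lit 1, nat_lit 5, nat_lit 4, nat_lit 0])) (.leaf ((nat_lit 1), [nat_lit 1, nat_lit 7, nat_lit 1, nat_lit 6, nat_lit 2, nat_lit 1])))))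
 (.node (nat_lit 1229) (.node (nat_lit 1227) (.leaf ((nat_lit 1), [nat_lit 0, nat_lit 7, nat_lit 5, nat_lit 6, nat_lit 0])) (.node (nat_lit 1228) (.leaf ((nat_lit 1), [nat_lit 6, nat_lit 7])) (.leaf ((nat_lit 0), [nat_lit 5, nat_lit 2, nat_lit 0])))) (.node (nat_lit 1230) (.leaf ((nat_lit 1), [nat_lit 4, nat_lit 3, nat_lit 0])) (.node (nat_lit 1231) (.leaf ((nat_lit 1), [nat_lit 7, nat_lit 1, nat_lit 7])) (.leaf ((nat_lit 1), [nat_lit 6, nat_lit 2, nat_lit 7, nat_lit 6, nat_lit 1]))))))))))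
noncomputable def rPA_7 : Tr (ℕ × List ℕ) := (.node (nat_lit 1320) (.node (nat_lit 1276) (.node (nat_lit 1254) (.node (nat_lit 1243) (.node (nat_lit 1237) (.node (nat_lit 1234) (.node (nat_lit 1233) (.leaf ((nat_lit 1), [nat_lit 3, nat_lit 7, nat_lit 5, nat_lit 4, nat_lit 3])) (.leaf ((nat_lit 1), [nat_lit 4, nat_lit 3]))) (.node (nat_lit 1235) (.leaf ((nat_lit 1), [nat_lit 2, nat_lit 6, nat_lit 4, nat_lit 2])) (.node (nat_lit 1236) (.leaf ((nat_lit 1), [nat_lit 3, nat_lit 5, nat_lit 7, nat_lit 2, nat_lit 0])) (.leaf ((nat_lit 1), [nat_lit 4, nat_lit 6])))))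
 (.node (nat_lit 1240) (.node (nat_lit 1238) (.leaf ((nat_lit 1), [nat_lit 7, nat_lit 3, nat_lit 7, nat_lit 5, nat_lit 1])) (.node (nat_lit 1239) (.leaf ((nat_lit 1), [nat_lit 3, nat_lit 6, nat_lit 2, nat_lit 0])) (.leaf ((nat_lit 1), [nat_lit 7, nat_lit 3, nat_lit 1, nat_lit 6, nat_lit 2])))) (.node (nat_lit 1241) (.leaf ((nat_lit 1), [nat_lit 0, nat_lit 7, nat_lit 5, nat_lit 3, nat_lit 0])) (.node (nat_lit 1242) (.leaf ((nat_lit 1), [nat_lit 6, nat_lit 0, nat_lit 7, nat_lit 2])) (.leaf ((nat_lit 1), [nat_lit 1, nat_lit 5, nat_lit 7, nat_lit 1]))))))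
 (.node (nat_lit 1248) (.node (nat_lit 1245) (.node (nat_lit 1244) (.leaf ((nat_lit 1), [nat_lit 0, nat_lit 5, nat_lit 3, nat_lit 7])) (.leaf ((nat_lit 1), [nat_lit 6, nat_lit 7, nat_lit 1, nat_lit 5, nat_lit 4]))) (.node (nat_lit 1246) (.leaf ((nat_lit 1), [nat_lit 7, nat_lit 1, nat_lit 5, nat_lit 1, nat_lit 7])) (.node (nat_lit 1247) (.leaf ((nat_lit 1), [nat_lit 7, nat_lit 6, nat_lit 1])) (.leaf ((nat_lit 1), [nat_lit 5, nat_lit 6, nat_lit 4, nat_lit 0])))))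
 (.node (nat_lit 1251) (.node (nat_lit 1249) (.leaf ((nat_lit 1), [nat_lit 2, nat_lit 6, nat_lit 7, nat_lit 2, nat_lit 0])) (.node (nat_lit 1250) (.leaf ((nat_lit 1), [nat_lit 1, nat_lit 7, nat_lit 2, nat_lit 1])) (.leaf ((nat_lit 1), [nat_lit 3, nat_lit 1, nat_lit 6, nat_lit 4])))) (.node (nat_lit 1252) (.leaf ((nat_lit 1), [nat_lit 7, nat_lit 0, nat_lit 7, nat_lit 2, nat_lit 1])) (.node (nat_lit 1253) (.leaf ((nat_lit 1), [nat_lit 6, nat_lit 5, nat_lit 2, nat_lit 7])) (.leaf ((nat_lit 1), [nat_lit 2, nat_lit 1, nat_lit 6, nat_lit 3, nat_lit 0])))))))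
 (.node (nat_lit 1265) (.node (nat_lit 1259) (.node (nat_lit 1256) (.node (nat_lit 1255) (.leaf ((nat_lit 1), [nat_lit 1, nat_lit 6, nat_lit 5, nat_lit 7])) (.leaf ((nat_lit 1), [nat_lit 7, nat_lit 1, nat_lit 7, nat_lit 2, nat_lit 1]))) (.node (nat_lit 1257) (.leaf ((nat_lit 1), [nat_lit 6, nat_lit 4, nat_lit 7, nat_lit 3, nat_lit 0])) (.node (nat_lit 1258) (.leaf ((nat_lit 1), [nat_lit 6, nat_lit 2, nat_lit 0, nat_lit 7, nat_lit 6])) (.leaf ((nat_lit 1), [nat_lit 2, nat_lit 0, nat_lit 5, nat_lit 1])))))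
 (.node (nat_lit 1262) (.node (nat_lit 1260) (.leaf ((nat_lit 1), [nat_lit 0, nat_lit 5, nat_lit 3, nat_lit 0])) (.node (nat_lit 1261) (.leaf ((nat_lit 1), [nat_lit 1, nat_lit 6, nat_lit 3, nat_lit 0])) (.leaf ((nat_lit 1), [nat_lit 3, nat_lit 5, nat_lit 7])))) (.node (nat_lit 1263) (.leaf ((nat_lit 1), [nat_lit 7, nat_lit 0, nat_lit 6, nat_lit 5, nat_lit 1])) (.node (nat_lit 1264) (.leaf ((nat_lit 1), [nat_lit 2, nat_lit 6, nat_lit 2, nat_lit 1])) (.leaf ((nat_lit 0), [nat_lit 5, nat_lit 1]))))))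
 (.node (nat_lit 1270) (.node (nat_lit 1267) (.node (nat_lit 1266) (.leaf ((nat_lit 1), [nat_lit 0, nat_lit 5, nat_lit 7, nat_lit 4])) (.leaf ((nat_lit 1), [nat_lit 6, nat_lit 7, nat_lit 0, nat_lit 7, nat_lit 2]))) (.node (nat_lit 1268) (.leaf ((nat_lit 1), [nat_lit 3, nat_lit 6, nat_lit 5, nat_lit 7])) (.node (nat_lit 1269) (.leaf ((nat_lit 0), [nat_lit 3, nat_lit 7, nat_lit 1, nat_lit 7])) (.leaf ((nat_lit 1), [nat_lit 7, nat_lit 5, nat_lit 7])))))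
 (.node (nat_lit 1273) (.node (nat_lit 1271) (.leaf ((nat_lit 1), [nat_lit 5, nat_lit 1, nat_lit 5, nat_lit 0])) (.node (nat_lit 1272) (.leaf ((nat_lit 1), [nat_lit 2, nat_lit 7, nat_lit 2, nat_lit 0])) (.leaf ((nat_lit 1), [nat_lit 7, nat_lit 4, nat_lit 5, nat_lit 2])))) (.node (nat_lit 1274) (.leaf ((nat_lit 1), [nat_lit 3, nat_lit 7, nat_lit 5, nat_lit 1, nat_lit 7])) (.node (nat_lit 1275) (.leaf ((nat_lit 1), [nat_lit 4, nat_lit 7, nat_lit 5, nat_lit 7, nat_lit 1])) (.leaf ((nat_lit 1), [nat_lit 7, nat_lit 4, nat_lit 3, nat_lit 7]))))))))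
 (.node (nat_lit 1298) (.node (nat_lit 1287) (.node (nat_lit 1281) (.node (nat_lit 1278) (.node (nat_lit 1277) (.leaf ((nat_lit 1), [nat_lit 2, nat_lit 1, nat_lit 7, nat_lit 6, nat_lit 0])) (.leaf ((nat_lit 1), [nat_lit 6, nat_lit 7, nat_lit 5, nat_lit 2, nat_lit 1]))) (.node (nat_lit 1279) (.leaf ((nat_lit 1), [nat_lit 0, nat_lit 6, nat_lit 7, nat_lit 6, nat_lit 0])) (.node (nat_lit 1280) (.leaf ((nat_lit 1), [nat_lit 4, nat_lit 6, nat_lit 7, nat_lit 2, nat_lit 0])) (.leaf ((nat_lit 1), [nat_lit 4, nat_lit 7, nat_lit 6])))))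
 (.node (nat_lit 1284) (.node (nat_lit 1282) (.leaf ((nat_lit 1), [nat_lit 2, nat_lit 7, nat_lit 2, nat_lit 5, nat_lit 0])) (.node (nat_lit 1283) (.leaf ((nat_lit 1), [nat_lit 5, nat_lit 7, nat_lit 5, nat_lit 3, nat_lit 1])) (.leaf ((nat_lit 1), [nat_lit 6, nat_lit 3, nat_lit 7])))) (.node (nat_lit 1285) (.leaf ((nat_lit 1), [nat_lit 4, nat_lit 1, nat_lit 6, nat_lit 2])) (.node (nat_lit 1286) (.leaf ((nat_lit 1), [nat_lit 3, nat_lit 7, nat_lit 4, nat_lit 2])) (.leaf ((nat_lit 1), [nat_lit 2, nat_lit 1, nat_lit 5, nat_lit 3, nat_lit 0]))))))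
 (.node (nat_lit 1292) (.node (nat_lit 1289) (.node (nat_lit 1288) (.leaf ((nat_lit 1), [nat_lit 3, nat_lit 1, nat_lit 7, nat_lit 3])) (.leaf ((nat_lit 1), [nat_lit 3, nat_lit 6, nat_lit 4, nat_lit 7]))) (.node (nat_lit 1290) (.leaf ((nat_lit 1), [nat_lit 7, nat_lit 3, nat_lit 7, nat_lit 5, nat_lit 7])) (.node (nat_lit 1291) (.leaf ((nat_lit 1), [nat_lit 7, nat_lit 4, nat_lit 1, nat_lit 5, nat_lit 1])) (.leaf ((nat_lit 1), [nat_lit 7, nat_lit 5, nat_lit 1, nat_lit 7])))))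
 (.node (nat_lit 1295) (.node (nat_lit 1293) (.leaf ((nat_lit 1), [nat_lit 4, nat_lit 5, nat_lit 1, nat_lit 7, nat_lit 1])) (.node (nat_lit 1294) (.leaf ((nat_lit 0), [nat_lit 2, nat_lit 1])) (.leaf ((nat_lit 1), [nat_lit 2, nat_lit 7, nat_lit 5, nat_lit 4, nat_lit 3])))) (.node (nat_lit 1296) (.leaf ((nat_lit 1), [nat_lit 4, nat_lit 7, nat_lit 4, nat_lit 3])) (.node (nat_lit 1297) (.leaf ((nat_lit 1), [nat_lit 7, nat_lit 2])) (.leaf ((nat_lit 1), [nat_lit 7, nat_lit 5, nat_lit 7, nat_lit 6, nat_lit 0])))))))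
 (.node (nat_lit 1309) (.node (nat_lit 1303) (.node (nat_lit 1300) (.node (nat_lit 1299) (.leaf ((nat_lit 1), [nat_lit 1, nat_lit 7, nat_lit 6])) (.leaf ((nat_lit 1), [nat_lit 0, nat_lit 5, nat_lit 3, nat_lit 6, nat_lit 7]))) (.node (nat_lit 1301) (.leaf ((nat_lit 1), [nat_lit 5, nat_lit 1, nat_lit 7, nat_lit 1])) (.node (nat_lit 1302) (.leaf ((nat_lit 1), [nat_lit 2, nat_lit 0, nat_lit 7, nat_lit 6])) (.leaf ((nat_lit 1), [nat_lit 6, nat_lit 7, nat_lit 0, nat_lit 7, nat_lit 1])))))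
 (.node (nat_lit 1306) (.node (nat_lit 1304) (.leaf ((nat_lit 1), [nat_lit 5, nat_lit 0, nat_lit 7, nat_lit 4])) (.node (nat_lit 1305) (.leaf ((nat_lit 1), [nat_lit 0, nat_lit 7, nat_lit 6, nat_lit 0])) (.leaf ((nat_lit 1), [nat_lit 2, nat_lit 5, nat_lit 7, nat_lit 1])))) (.node (nat_lit 1307) (.leaf ((nat_lit 1), [nat_lit 3, nat_lit 0, nat_lit 7, nat_lit 6])) (.node (nat_lit 1308) (.leaf ((nat_lit 1), [nat_lit 6, nat_lit 3, nat_lit 0, nat_lit 7])) (.leaf ((nat_lit 1), [nat_lit 6, nat_lit 7, nat_lit 0, nat_lit 6, nat_lit 1]))))))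
 (.node (nat_lit 1314) (.node (nat_lit 1311) (.node (nat_lit 1310) (.leaf ((nat_lit 1), [nat_lit 0, nat_lit 7, nat_lit 5, nat_lit 2, nat_lit 6])) (.leaf ((nat_lit 1), [nat_lit 1, nat_lit 6, nat_lit 2, nat_lit 0]))) (.node (nat_lit 1312) (.leaf ((nat_lit 1), [nat_lit 4, nat_lit 5, nat_lit 4, nat_lit 2])) (.node (nat_lit 1313) (.leaf ((nat_lit 1), [nat_lit 7, nat_lit 3, nat_lit 6, nat_lit 4, nat_lit 7])) (.leaf ((nat_lit 1), [nat_lit 2, nat_lit 1, nat_lit 7, nat_lit 5, nat_lit 6])))))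
 (.node (nat_lit 1317) (.node (nat_lit 1315) (.leaf ((nat_lit 1), [nat_lit 4, nat_lit 7, nat_lit 5, nat_lit 4, nat_lit 0])) (.node (nat_lit 1316) (.leaf ((nat_lit 1), [nat_lit 3, nat_lit 0, nat_lit 5, nat_lit 0, nat_lit 7, nat_lit 1])) (.leaf ((nat_lit 1), [nat_lit 6, nat_lit 7, nat_lit 1, nat_lit 6, nat_lit 0])))) (.node (nat_lit 1318) (.leaf ((nat_lit 1), [nat_lit 6, nat_lit 0, nat_lit 5, nat_lit 6])) (.node (nat_lit 1319) (.leaf ((nat_lit 1), [nat_lit 7, nat_lit 1, nat_lit 7, nat_lit 5, nat_lit 0])) (.leaf ((nat_lit 1), [nat_lit 5, nat_lit 6, nat_lit 5, nat_lit 1])))))))))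
 (.node (nat_lit 1364) (.node (nat_lit 1342) (.node (nat_lit 1331) (.node (nat_lit 1325) (.node (nat_lit 1322) (.node (nat_lit 1321) (.leaf ((nat_lit 1), [nat_lit 0, nat_lit 7, nat_lit 0, nat_lit 5, nat_lit 6])) (.leaf ((nat_lit 1), [nat_lit 6, nat_lit 7, nat_lit 6, nat_lit 3, nat_lit 6]))) (.node (nat_lit 1323) (.leaf ((nat_lit 0), [nat_lit 5, nat_lit 3, nat_lit 1])) (.node (nat_lit 1324) (.leaf ((nat_lit 1), [nat_lit 5, nat_lit 0, nat_lit 7])) (.leaf ((nat_lit 1), [nat_lit 2, nat_lit 7, nat_lit 0, nat_lit 7])))))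
 (.node (nat_lit 1328) (.node (nat_lit 1326) (.leaf ((nat_lit 0), [nat_lit 2, nat_lit 0, nat_lit 7])) (.node (nat_lit 1327) (.leaf ((nat_lit 1), [nat_lit 6, nat_lit 5, nat_lit 7, nat_lit 2, nat_lit 0])) (.leaf ((nat_lit 1), [nat_lit 6, nat_lit 7, nat_lit 2, nat_lit 5, nat_lit 2, nat_lit 1])))) (.node (nat_lit 1329) (.leaf ((nat_lit 1), [nat_lit 1, nat_lit 7, nat_lit 1, nat_lit 7, nat_lit 1])) (.node (nat_lit 1330) (.leaf ((nat_lit 1), [nat_lit 6, nat_lit 3, nat_lit 5, nat_lit 4, nat_lit 1])) (.leaf ((nat_lit 1), [nat_lit 0, nat_lit 6, nat_lit 0]))))))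
 (.node (nat_lit 1336) (.node (nat_lit 1333) (.node (nat_lit 1332) (.leaf ((nat_lit 1), [nat_lit 7, nat_lit 5, nat_lit 1, nat_lit 7, nat_lit 4, nat_lit 0])) (.leaf ((nat_lit 1), [nat_lit 3, nat_lit 7, nat_lit 6, nat_lit 3, nat_lit 7]))) (.node (nat_lit 1334) (.leaf ((nat_lit 1), [nat_lit 1, nat_lit 6, nat_lit 1, nat_lit 7, nat_lit 6])) (.node (nat_lit 1335) (.leaf ((nat_lit 1), [nat_lit 1, nat_lit 6, nat_lit 7, nat_lit 3])) (.leaf ((nat_lit 1), [nat_lit 2, nat_lit 7, nat_lit 5, nat_lit 3, nat_lit 1])))))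
 (.node (nat_lit 1339) (.node (nat_lit 1337) (.leaf ((nat_lit 1), [nat_lit 5, nat_lit 0, nat_lit 5, nat_lit 0, nat_lit 7])) (.node (nat_lit 1338) (.leaf ((nat_lit 0), [nat_lit 6, nat_lit 7, nat_lit 3])) (.leaf ((nat_lit 1), [nat_lit 4, nat_lit 7, nat_lit 0, nat_lit 7, nat_lit 3])))) (.node (nat_lit 1340) (.leaf ((nat_lit 1), [nat_lit 4, nat_lit 7, nat_lit 0, nat_lit 7, nat_lit 4, nat_lit 1])) (.node (nat_lit 1341) (.leaf ((nat_lit 0), [nat_lit 7, nat_lit 3, nat_lit 7, nat_lit 2])) (.leaf ((nat_lit 1), [nat_lit 7, nat_lit 4, nat_lit 2, nat_lit 6])))))))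
 (.node (nat_lit 1353) (.node (nat_lit 1347) (.node (nat_lit 1344) (.node (nat_lit 1343) (.leaf ((nat_lit 1), [nat_lit 2, nat_lit 5, nat_lit 7, nat_lit 4, nat_lit 2, nat_lit 0])) (.leaf ((nat_lit 1), [nat_lit 5, nat_lit 7, nat_lit 6, nat_lit 7]))) (.node (nat_lit 1345) (.leaf ((nat_lit 0), [nat_lit 2, nat_lit 6, nat_lit 7, nat_lit 2])) (.node (nat_lit 1346) (.leaf ((nat_lit 1), [nat_lit 3, nat_lit 7, nat_lit 1, nat_lit 7])) (.leaf ((nat_lit 1), [nat_lit 0, nat_lit 7, nat_lit 3, nat_lit 7, nat_lit 3])))))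
 (.node (nat_lit 1350) (.node (nat_lit 1348) (.leaf ((nat_lit 1), [nat_lit 7, nat_lit 0, nat_lit 7, nat_lit 1])) (.node (nat_lit 1349) (.leaf ((nat_lit 1), [nat_lit 6, nat_lit 7, nat_lit 2, nat_lit 6])) (.leaf ((nat_lit 0), [nat_lit 2, nat_lit 0, nat_lit 7, nat_lit 1])))) (.node (nat_lit 1351) (.leaf ((nat_lit 1), [nat_lit 7, nat_lit 4, nat_lit 5, nat_lit 7, nat_lit 1])) (.node (nat_lit 1352) (.leaf ((nat_lit 1), [nat_lit 7, nat_lit 1, nat_lit 6, nat_lit 3, nat_lit 0])) (.leaf ((nat_lit 1), [nat_lit 3, nat_lit 7, nat_lit 0, nat_lit 7, nat_lit 4]))))))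
 (.node (nat_lit 1358) (.node (nat_lit 1355) (.node (nat_lit 1354) (.leaf ((nat_lit 1), [nat_lit 0, nat_lit 6, nat_lit 2, nat_lit 1])) (.leaf ((nat_lit 1), [nat_lit 4, nat_lit 1, nat_lit 5, nat_lit 1]))) (.node (nat_lit 1356) (.leaf ((nat_lit 1), [nat_lit 1, nat_lit 7, nat_lit 0, nat_lit 6])) (.node (nat_lit 1357) (.leaf ((nat_lit 1), [nat_lit 1, nat_lit 5, nat_lit 1, nat_lit 5, nat_lit 7])) (.leaf ((nat_lit 1), [nat_lit 7, nat_lit 0, nat_lit 5, nat_lit 0])))))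
 (.node (nat_lit 1361) (.node (nat_lit 1359) (.leaf ((nat_lit 1), [nat_lit 6, nat_lit 1, nat_lit 7, nat_lit 4, nat_lit 6])) (.node (nat_lit 1360) (.leaf ((nat_lit 1), [nat_lit 3, nat_lit 7, nat_lit 4, nat_lit 0])) (.leaf ((nat_lit 1), [nat_lit 3, nat_lit 7, nat_lit 3, nat_lit 5, nat_lit 2])))) (.node (nat_lit 1362) (.leaf ((nat_lit 1), [nat_lit 6, nat_lit 7, nat_lit 0, nat_lit 5, nat_lit 2, nat_lit 1])) (.node (nat_lit 1363) (.leaf ((nat_lit 1), [nat_lit 5, nat_lit 2, nat_lit 7])) (.leaf ((nat_lit 1), [nat_lit 5, nat_lit 6, nat_lit 2]))))))))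
 (.node (nat_lit 1386) (.node (nat_lit 1375) (.node (nat_lit 1369) (.node (nat_lit 1366) (.node (nat_lit 1365) (.leaf ((nat_lit 0), [nat_lit 2, nat_lit 1, nat_lit 7, nat_lit 2])) (.leaf ((nat_lit 1), [nat_lit 7, nat_lit 6, nat_lit 2, nat_lit 7, nat_lit 2]))) (.node (nat_lit 1367) (.leaf ((nat_lit 1), [nat_lit 5, nat_lit 0])) (.node (nat_lit 1368) (.leaf ((nat_lit 1), [nat_lit 6, nat_lit 2, nat_lit 7, nat_lit 6])) (.leaf ((nat_lit 1), [nat_lit 6, nat_lit 3])))))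
 (.node (nat_lit 1372) (.node (nat_lit 1370) (.leaf ((nat_lit 1), [nat_lit 6, nat_lit 2, nat_lit 7, nat_lit 2])) (.node (nat_lit 1371) (.leaf ((nat_lit 1), [nat_lit 4, nat_lit 0, nat_lit 7, nat_lit 6, nat_lit 2])) (.leaf ((nat_lit 1), [nat_lit 3, nat_lit 7, nat_lit 6, nat_lit 1])))) (.node (nat_lit 1373) (.leaf ((nat_lit 0), [nat_lit 4, nat_lit 1, nat_lit 7, nat_lit 2])) (.node (nat_lit 1374) (.leaf ((nat_lit 1), [nat_lit 4, nat_lit 3, nat_lit 5, nat_lit 1, nat_lit 7])) (.leaf ((nat_lit 1), [nat_lit 5, nat_lit 7, nat_lit 0, nat_lit 6]))))))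
 (.node (nat_lit 1380) (.node (nat_lit 1377) (.node (nat_lit 1376) (.leaf ((nat_lit 0), [nat_lit 7, nat_lit 1, nat_lit 5, nat_lit 2, nat_lit 0])) (.leaf ((nat_lit 1), [nat_lit 7, nat_lit 5, nat_lit 6, nat_lit 2]))) (.node (nat_lit 1378) (.leaf ((nat_lit 1), [nat_lit 4, nat_lit 3, nat_lit 7, nat_lit 4, nat_lit 1])) (.node (nat_lit 1379) (.leaf ((nat_lit 1), [nat_lit 3, nat_lit 7, nat_lit 2])) (.leaf ((nat_lit 1), [nat_lit 1, nat_lit 7, nat_lit 6, nat_lit 4, nat_lit 3])))))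
 (.node (nat_lit 1383) (.node (nat_lit 1381) (.leaf ((nat_lit 1), [nat_lit 3, nat_lit 1, nat_lit 7])) (.node (nat_lit 1382) (.leaf ((nat_lit 0), [nat_lit 0, nat_lit 7])) (.leaf ((nat_lit 1), [nat_lit 7, nat_lit 2, nat_lit 5, nat_lit 3, nat_lit 7])))) (.node (nat_lit 1384) (.leaf ((nat_lit 1), [nat_lit 2, nat_lit 6, nat_lit 7, nat_lit 1])) (.node (nat_lit 1385) (.leaf ((nat_lit 1), [nat_lit 2, nat_lit 1, nat_lit 5, nat_lit 1])) (.leaf ((nat_lit 1), [nat_lit 6, nat_lit 4, nat_lit 3, nat_lit 7])))))))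
 (.node (nat_lit 1397) (.node (nat_lit 1391) (.node (nat_lit 1388) (.node (nat_lit 1387) (.leaf ((nat_lit 1), [nat_lit 6, nat_lit 5, nat_lit 1, nat_lit 6, nat_lit 0])) (.leaf ((nat_lit 1), [nat_lit 7, nat_lit 2, nat_lit 0, nat_lit 5, nat_lit 1]))) (.node (nat_lit 1389) (.leaf ((nat_lit 1), [nat_lit 5, nat_lit 0, nat_lit 7, nat_lit 2, nat_lit 0])) (.node (nat_lit 1390) (.leaf ((nat_lit 0), [nat_lit 5, nat_lit 1, nat_lit 7, nat_lit 1])) (.leaf ((nat_lit 1), [nat_lit 6, nat_lit 1, nat_lit 7, nat_lit 4, nat_lit 2, nat_lit 0])))))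
 (.node (nat_lit 1394) (.node (nat_lit 1392) (.leaf ((nat_lit 1), [nat_lit 3, nat_lit 6, nat_lit 7, nat_lit 6, nat_lit 1])) (.node (nat_lit 1393) (.leaf ((nat_lit 1), [nat_lit 6, nat_lit 4, nat_lit 7, nat_lit 6, nat_lit 2])) (.leaf ((nat_lit 0), [nat_lit 3, nat_lit 1, nat_lit 7, nat_lit 3])))) (.node (nat_lit 1395) (.leaf ((nat_lit 1), [nat_lit 3, nat_lit 7, nat_lit 5, nat_lit 6, nat_lit 0])) (.node (nat_lit 1396) (.leaf ((nat_lit 1), [nat_lit 7, nat_lit 1, nat_lit 6, nat_lit 2, nat_lit 1])) (.leaf ((nat_lit 1), [nat_lit 7, nat_lit 2, nat_lit 0, nat_lit 6, nat_lit 2]))))))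
 (.node (nat_lit 1402) (.node (nat_lit 1399) (.node (nat_lit 1398) (.leaf ((nat_lit 1), [nat_lit 5, nat_lit 6, nat_lit 1, nat_lit 5, nat_lit 0])) (.leaf ((nat_lit 1), [nat_lit 2, nat_lit 7, nat_lit 6, nat_lit 7, nat_lit 1]))) (.node (nat_lit 1400) (.leaf ((nat_lit 1), [nat_lit 5, nat_lit 2, nat_lit 6, nat_lit 1])) (.node (nat_lit 1401) (.leaf ((nat_lit 1), [nat_lit 7, nat_lit 5, nat_lit 6, nat_lit 4, nat_lit 1])) (.leaf ((nat_lit 1), [nat_lit 6, nat_lit 7, nat_lit 2, nat_lit 0])))))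
 (.node (nat_lit 1405) (.node (nat_lit 1403) (.leaf ((nat_lit 1), [nat_lit 7, nat_lit 2, nat_lit 7])) (.node (nat_lit 1404) (.leaf ((nat_lit 0), [nat_lit 7, nat_lit 2, nat_lit 0])) (.leaf ((nat_lit 1), [nat_lit 7, nat_lit 1, nat_lit 7, nat_lit 4, nat_lit 3])))) (.node (nat_lit 1406) (.leaf ((nat_lit 1), [nat_lit 7, nat_lit 2, nat_lit 6, nat_lit 2, nat_lit 0])) (.node (nat_lit 1407) (.leaf ((nat_lit 1), [nat_lit 5, nat_lit 7, nat_lit 6])) (.leaf ((nat_lit 0), [nat_lit 0, nat_lit 6, nat_lit 7]))))))))))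
noncomputable def rPA : Tr (ℕ × List ℕ) := (.node (nat_lit 704) (.node (nat_lit 352) (.node (nat_lit 176) rPA_0 rPA_1) (.node (nat_lit 528) rPA_2 rPA_3)) (.node (nat_lit 1056) (.node (nat_lit 880) rPA_4 rPA_5) (.node (nat_lit 1232) rPA_6 rPA_7)))
noncomputable def rWd_0 : Tr (ℕ × List ℕ) := (.node (nat_lit 88) (.node (nat_lit 44) (.node (nat_lit 22) (.node (nat_lit 11) (.node (nat_lit 5) (.node (nat_lit 2) (.node (nat_lit 1) (.leaf ((nat_lit 1), [])) (.leaf ((nat_lit 2), [nat_lit 6, nat_lit 1, nat_lit 4, nat_lit 5, nat_lit 6, nat_lit 1, nat_lit 3, nat_lit 4, nat_lit 1, nat_lit 3]))) (.node (nat_lit 3) (.leaf ((nat_lit 3), [nat_lit 5, nat_lit 0, nat_lit 6, nat_lit 2, nat_lit 6, nat_lit 5, nat_lit 1, nat_lit 0, nat_lit 5, nat_lit 4, nat_lit 2])) (.node (nat_lit 4) (.leaf ((nat_lit 4), [nat_lit 5, nat_lit 6, nat_lit 0, nat_lit 5, nat_lit 3, nat_lit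 6, nat_lit 5, nat_lit 2, nat_lit 3, nat_lit 2, nat_lit 4, nat_lit 2, nat_lit 0, nat_lit 1, nat_lit 0])) (.leaf ((nat_lit 5), [nat_lit 3, nat_lit 1, nat_lit 5, nat_lit 6, nat_lit 2, nat_lit 6, nat_lit 2, nat_lit 3, nat_lit 4, nat_lit 0, nat_lit 1, nat_lit 0])))))
 (.node (nat_lit 8) (.node (nat_lit 6) (.leaf ((nat_lit 6), [nat_lit 1, nat_lit 0, nat_lit 6, nat_lit 2, nat_lit 6, nat_lit 1, nat_lit 3, nat_lit 1, nat_lit 0, nat_lit 4, nat_lit 1, nat_lit 3])) (.node (nat_lit 7) (.leaf ((nat_lit 7), [nat_lit 3, nat_lit 4, nat_lit 1, nat_lit 6, nat_lit 2, nat_lit 5, nat_lit 1, nat_lit 5, nat_lit 4, nat_lit 1, nat_lit 3, nat_lit 2])) (.leaf ((nat_lit 8), [nat_lit 3, nat_lit 6, nat_lit 1, nat_lit 6, nat_lit 3, nat_lit 1, nat_lit 0, nat_lit 4, nat_lit 2, nat_lit 0])))) (.node (nat_lit 9) (.leaf ((nat_lit 9), [nat_lit 0, nat_lit 4, nat_lit 0, nat_lit 6, nat_lit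 2, nat_lit 4, nat_lit 1, nat_lit 0, nat_lit 4, nat_lit 2, nat_lit 3, nat_lit 0])) (.node (nat_lit 10) (.leaf ((nat_lit 10), [nat_lit 2, nat_lit 6, nat_lit 2, nat_lit 3, nat_lit 6, nat_lit 1, nat_lit 4, nat_lit 5, nat_lit 0, nat_lit 4, nat_lit 1, nat_lit 3, nat_lit 1])) (.leaf ((nat_lit 11), [nat_lit 5, nat_lit 2, nat_lit 6, nat_lit 2, nat_lit 6, nat_lit 1, nat_lit 4, nat_lit 5, nat_lit 2, nat_lit 5]))))))
 (.node (nat_lit 16) (.node (nat_lit 13) (.node (nat_lit 12) (.leaf ((nat_lit 12), [nat_lit 5, nat_lit 2, nat_lit 6, nat_lit 1, nat_lit 4, nat_lit 6, nat_lit 5, nat_lit 4, nat_lit 3, nat_lit 4, nat_lit 0, nat_lit 2])) (.leaf ((nat_lit 13), [nat_lit 6, nat_lit 3, nat_lit 0, nat_lit 6, nat_lit 5, nat_lit 2, nat_lit 5, nat_lit 2, nat_lit 4, nat_lit 1, nat_lit 3, nat_lit 2, nat_lit 0]))) (.node (nat_lit 14) (.leaf ((nat_lit 14), [nat_lit 2, nat_lit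 4, nat_lit 6, nat_lit 1, nat_lit 0, nat_lit 6, nat_lit 4, nat_lit 3, nat_lit 5, nat_lit 4, nat_lit 2, nat_lit 0, nat_lit 1, nat_lit 0])) (.node (nat_lit 15) (.leaf ((nat_lit 15), [nat_lit 1, nat_lit 6, nat_lit 2, nat_lit 6, nat_lit 5, nat_lit 1, nat_lit 4, nat_lit 1, nat_lit 3, nat_lit 0])) (.leaf ((nat_lit 16), [nat_lit 0, nat_lit 2, nat_lit 5, nat_lit 0, nat_lit 6, nat_lit 3, nat_lit 4, nat_lit 3, nat_lit 0, nat_lit 4, nat_lit 3, nat_lit 0])))))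
 (.node (nat_lit 19) (.node (nat_lit 17) (.leaf ((nat_lit 17), [nat_lit 2, nat_lit 5, nat_lit 6, nat_lit 2, nat_lit 0, nat_lit 6, nat_lit 5, nat_lit 2, nat_lit 5, nat_lit 1, nat_lit 0, nat_lit 4, nat_lit 3, nat_lit 2])) (.node (nat_lit 18) (.leaf ((nat_lit 18), [nat_lit 1, nat_lit 4, nat_lit 6, nat_lit 4, nat_lit 2, nat_lit 6, nat_lit 0, nat_lit 4, nat_lit 1, nat_lit 0, nat_lit 4, nat_lit 2, nat_lit 0, nat_lit 1, nat_lit 0])) (.leaf ((nat_lit 19), [nat_lit 3, nat_lit 4, nat_lit 2, nat_lit 0, nat_lit 6, nat_lit 4, nat_lit 5, nat_lit 1, nat_lit 4, nat_lit 1, nat_lit 0, nat_lit 2, nat_lit 0])))) (.node (nat_lit 20) (.leaf ((nat_lit 20), [nat_lit 5, nat_lit 2, nat_lit 6, nat_lit 0, nat_lit 4, nat_lit 6, nat_lit 5, nat_lit 1, nat_lit 5, nat_lit 0, nat_lit 2, nat_lit 4, nat_lit 1, nat_lit 0])) (.node (nat_lit 21) (.leaf ((nat_lit 21), [nat_lit 6, nat_lit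 2, nat_lit 6, nat_lit 1, nat_lit 3, nat_lit 6, nat_lit 5, nat_lit 2, nat_lit 5, nat_lit 1, nat_lit 0, nat_lit 4, nat_lit 2, nat_lit 0, nat_lit 2, nat_lit 0])) (.leaf ((nat_lit 22), [nat_lit 6, nat_lit 5, nat_lit 6, nat_lit 3, nat_lit 0, nat_lit 6, nat_lit 1, nat_lit 3, nat_lit 1, nat_lit 0, nat_lit 4, nat_lit 2, nat_lit 3, nat_lit 1, nat_lit 0])))))))
 (.node (nat_lit 33) (.node (nat_lit 27) (.node (nat_lit 24) (.node (nat_lit 23) (.leaf ((nat_lit 23), [nat_lit 1, nat_lit 6, nat_lit 1, nat_lit 5, nat_lit 6, nat_lit 5, nat_lit 4, nat_lit 1, nat_lit 0, nat_lit 1])) (.leaf ((nat_lit 24), [nat_lit 4, nat_lit 5, nat_lit 6, nat_lit 5, nat_lit 2, nat_lit 5, nat_lit 3, nat_lit 2]))) (.node (nat_lit 25) (.leaf ((nat_lit 25), [nat_lit 0, nat_lit 4, nat_lit 6, nat_lit 1, nat_lit 6, nat_lit 2, nat_lit 4, nat_lit 5, nat_lit 4, nat_lit 2, nat_lit 3, nat_lit 1,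 nat_lit 0])) (.node (nat_lit 26) (.leaf ((nat_lit 26), [nat_lit 2, nat_lit 4, nat_lit 6, nat_lit 1, nat_lit 6, nat_lit 1, nat_lit 0, nat_lit 4, nat_lit 0, nat_lit 4, nat_lit 3, nat_lit 1])) (.leaf ((nat_lit 27), [nat_lit 5, nat_lit 6, nat_lit 3, nat_lit 5, nat_lit 0, nat_lit 6, nat_lit 4, nat_lit 1, nat_lit 5, nat_lit 2, nat_lit 0, nat_lit 1])))))
 (.node (nat_lit 30) (.node (nat_lit 28) (.leaf ((nat_lit 28), [nat_lit 0, nat_lit 2, nat_lit 6, nat_lit 2, nat_lit 3, nat_lit 6, nat_lit 3, nat_lit 4, nat_lit 0, nat_lit 5, nat_lit 1, nat_lit 3, nat_lit 2])) (.node (nat_lit 29) (.leaf ((nat_lit 29), [nat_lit 0, nat_lit 6, nat_lit 2, nat_lit 6, nat_lit 1, nat_lit 0, nat_lit 5, nat_lit 4, nat_lit 1, nat_lit 3, nat_lit 1])) (.leaf ((nat_lit 30), [nat_lit 1, nat_lit 6, nat_lit 5, nat_lit 3, nat_lit 6, nat_lit 5, nat_lit 3, nat_lit 0, nat_lit 5])))) (.node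 (nat_lit 31) (.leaf ((nat_lit 31), [nat_lit 6, nat_lit 2, nat_lit 6, nat_lit 1, nat_lit 4, nat_lit 6, nat_lit 3, nat_lit 4, nat_lit 2, nat_lit 0, nat_lit 2, nat_lit 4, nat_lit 1, nat_lit 0, nat_lit 1, nat_lit 0])) (.node (nat_lit 32) (.leaf ((nat_lit 32), [nat_lit 0, nat_lit 6, nat_lit 5, nat_lit 2, nat_lit 6, nat_lit 4, nat_lit 1, nat_lit 5, nat_lit 1, nat_lit 3, nat_lit 0])) (.leaf ((nat_lit 33), [nat_lit 0, nat_lit 6, nat_lit 5, nat_lit 6, nat_lit 3, nat_lit 6, nat_lit 4, nat_lit 0, nat_lit 5, nat_lit 2, nat_lit 5, nat_lit 1, nat_lit 3, nat_lit 1]))))))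
 (.node (nat_lit 38) (.node (nat_lit 35) (.node (nat_lit 34) (.leaf ((nat_lit 34), [nat_lit 4, nat_lit 6, nat_lit 4, nat_lit 1, nat_lit 3, nat_lit 6, nat_lit 4, nat_lit 3, nat_lit 0, nat_lit 4, nat_lit 5, nat_lit 2, nat_lit 3, nat_lit 2, nat_lit 0])) (.leaf ((nat_lit 35), [nat_lit 4, nat_lit 5, nat_lit 6, nat_lit 4, nat_lit 5, nat_lit 6, nat_lit 2, nat_lit 5, nat_lit 3, nat_lit 4, nat_lit 1, nat_lit 0, nat_lit 1]))) (.node (nat_lit 36) (.leaf ((nat_lit 36), [nat_lit 5, nat_lit 6, nat_lit 0, nat_lit 1, nat_lit 6, nat_lit 5, nat_lit 1, nat_lit 3, nat_lit 0, nat_lit 4, nat_lit 1, nat_lit 3, nat_lit 2, nat_lit 0])) (.node (nat_lit 37) (.leaf ((nat_lit 37), [nat_lit 2, nat_lit 6, nat_lit 4, nat_lit 2, nat_lit 6, nat_lit 1, nat_lit 4, nat_lit 1, nat_lit 4, nat_lit 2, nat_lit 0, nat_lit 1, nat_lit 0])) (.leaf ((nat_lit 38), [nat_lit 6, nat_lit 4, nat_lit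 0, nat_lit 6, nat_lit 1, nat_lit 6, nat_lit 5, nat_lit 0, nat_lit 4, nat_lit 2, nat_lit 0])))))
 (.node (nat_lit 41) (.node (nat_lit 39) (.leaf ((nat_lit 39), [nat_lit 5, nat_lit 1, nat_lit 4, nat_lit 6, nat_lit 3, nat_lit 0, nat_lit 4, nat_lit 5, nat_lit 2, nat_lit 3, nat_lit 2, nat_lit 0])) (.node (nat_lit 40) (.leaf ((nat_lit 40), [nat_lit 3, nat_lit 1, nat_lit 6, nat_lit 1, nat_lit 6, nat_lit 0, nat_lit 5, nat_lit 2, nat_lit 0, nat_lit 4, nat_lit 1, nat_lit 3])) (.leaf ((nat_lit 41), [nat_lit 6, nat_lit 5, nat_lit 6, nat_lit 3, nat_lit 1, nat_lit 5, nat_lit 4, nat_lit 2, nat_lit 3])))) (.node (nat_lit 42) (.leaf ((nat_lit 42), [nat_lit 6, nat_lit 0, nat_lit 4, nat_lit 5, nat_lit 6, nat_lit 2, nat_lit 4, nat_lit 5, nat_lit 4, nat_lit 0, nat_lit 5, nat_lit 3])) (.node (nat_lit 43) (.leaf ((nat_lit 43), [nat_lit 4, nat_lit 1, nat_lit 6, nat_lit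 2, nat_lit 6, nat_lit 5, nat_lit 1, nat_lit 3, nat_lit 4, nat_lit 1, nat_lit 0, nat_lit 2, nat_lit 0])) (.leaf ((nat_lit 44), [nat_lit 6, nat_lit 2, nat_lit 6, nat_lit 1, nat_lit 0, nat_lit 6, nat_lit 2, nat_lit 5, nat_lit 1, nat_lit 4, nat_lit 2, nat_lit 3]))))))))
 (.node (nat_lit 66) (.node (nat_lit 55) (.node (nat_lit 49) (.node (nat_lit 46) (.node (nat_lit 45) (.leaf ((nat_lit 45), [nat_lit 5, nat_lit 6, nat_lit 1, nat_lit 0, nat_lit 6, nat_lit 5, nat_lit 1, nat_lit 3, nat_lit 0, nat_lit 4, nat_lit 0])) (.leaf ((nat_lit 46), [nat_lit 0, nat_lit 6, nat_lit 3, nat_lit 5, nat_lit 0, nat_lit 6, nat_lit 4, nat_lit 3]))) (.node (nat_lit 47) (.leaf ((nat_lit 47), [nat_lit 5, nat_lit 1, nat_lit 6, nat_lit 2, nat_lit 0, nat_lit 5, nat_lit 2, nat_lit 4, nat_lit 1, nat_lit 0])) (.node (nat_lit 48) (.leaf ((nat_lit 48), [nat_lit 2, nat_lit 6, nat_lit 2,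 nat_lit 4, nat_lit 2, nat_lit 6, nat_lit 0, nat_lit 5, nat_lit 2, nat_lit 0, nat_lit 4, nat_lit 2, nat_lit 0, nat_lit 2, nat_lit 0])) (.leaf ((nat_lit 49), [nat_lit 0, nat_lit 5, nat_lit 4, nat_lit 6, nat_lit 1, nat_lit 6, nat_lit 5, nat_lit 2, nat_lit 3, nat_lit 0])))))
 (.node (nat_lit 52) (.node (nat_lit 50) (.leaf ((nat_lit 50), [nat_lit 3, nat_lit 2, nat_lit 6, nat_lit 2, nat_lit 4, nat_lit 0, nat_lit 6, nat_lit 2, nat_lit 4, nat_lit 5, nat_lit 3, nat_lit 0, nat_lit 4, nat_lit 1, nat_lit 3, nat_lit 1, nat_lit 0])) (.node (nat_lit 51) (.leaf ((nat_lit 51), [nat_lit 5, nat_lit 6, nat_lit 4, nat_lit 2, nat_lit 0, nat_lit 6, nat_lit 5, nat_lit 2, nat_lit 5, nat_lit 4, nat_lit 0, nat_lit 2, nat_lit 0])) (.leaf ((nat_lit 52), [nat_lit 5, nat_lit 1, nat_lit 6, nat_lit 1, nat_lit 6, nat_lit 4, nat_lit 1, nat_lit 4, nat_lit 3, nat_lit 0])))) (.node (nat_lit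 53) (.leaf ((nat_lit 53), [nat_lit 0, nat_lit 6, nat_lit 3, nat_lit 4, nat_lit 1, nat_lit 6, nat_lit 0, nat_lit 4, nat_lit 1, nat_lit 0, nat_lit 4, nat_lit 2, nat_lit 3, nat_lit 2, nat_lit 0])) (.node (nat_lit 54) (.leaf ((nat_lit 54), [nat_lit 6, nat_lit 3, nat_lit 5, nat_lit 0, nat_lit 6, nat_lit 2, nat_lit 4, nat_lit 0, nat_lit 4, nat_lit 0, nat_lit 1, nat_lit 0])) (.leaf ((nat_lit 55), [nat_lit 5, nat_lit 1, nat_lit 5, nat_lit 6, nat_lit 4, nat_lit 5, nat_lit 3, nat_lit 0, nat_lit 4, nat_lit 0, nat_lit 1, nat_lit 0]))))))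
 (.node (nat_lit 60) (.node (nat_lit 57) (.node (nat_lit 56) (.leaf ((nat_lit 56), [nat_lit 0, nat_lit 6, nat_lit 3, nat_lit 5, nat_lit 6, nat_lit 0, nat_lit 4, nat_lit 3, nat_lit 5, nat_lit 2, nat_lit 3, nat_lit 1])) (.leaf ((nat_lit 57), [nat_lit 5, nat_lit 0, nat_lit 6, nat_lit 2, nat_lit 3, nat_lit 6, nat_lit 5, nat_lit 4, nat_lit 3, nat_lit 5, nat_lit 3, nat_lit 1, nat_lit 0]))) (.node (nat_lit 58) (.leaf ((nat_lit 58), [nat_lit 1, nat_lit 6, nat_lit 1, nat_lit 4, nat_lit 1, nat_lit 6, nat_lit 2, nat_lit 0, nat_lit 4, nat_lit 3, nat_lit 5, nat_lit 1, nat_lit 3, nat_lit 1])) (.node (nat_lit 59) (.leaf ((nat_lit 59), [nat_lit 2, nat_lit 6, nat_lit 4, nat_lit 3, nat_lit 5, nat_lit 2, nat_lit 3, nat_lit 1, nat_lit 0])) (.leaf ((nat_lit 60), [nat_lit 0, nat_lit 2, nat_lit 6, nat_lit 4, nat_lit 0, nat_lit 6, nat_lit 4, nat_lit 5, nat_lit 3, nat_lit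 4, nat_lit 1, nat_lit 0, nat_lit 2, nat_lit 0])))))
 (.node (nat_lit 63) (.node (nat_lit 61) (.leaf ((nat_lit 61), [nat_lit 3, nat_lit 0, nat_lit 6, nat_lit 2, nat_lit 6, nat_lit 4, nat_lit 5, nat_lit 4, nat_lit 5, nat_lit 1])) (.node (nat_lit 62) (.leaf ((nat_lit 62), [nat_lit 5, nat_lit 0, nat_lit 2, nat_lit 6, nat_lit 1, nat_lit 6, nat_lit 4, nat_lit 5, nat_lit 1, nat_lit 5, nat_lit 2, nat_lit 3, nat_lit 1])) (.leaf ((nat_lit 63), [nat_lit 6, nat_lit 4, nat_lit 3, nat_lit 6, nat_lit 0, nat_lit 5, nat_lit 1, nat_lit 0, nat_lit 2])))) (.node (nat_lit 64) (.leaf ((nat_lit 64), [nat_lit 3, nat_lit 4, nat_lit 6, nat_lit 2, nat_lit 6, nat_lit 3, nat_lit 2, nat_lit 0, nat_lit 4, nat_lit 1, nat_lit 3])) (.node (nat_lit 65) (.leaf ((nat_lit 65), [nat_lit 1, nat_lit 6, nat_lit 5, nat_lit 6, nat_lit 3, nat_lit 6, nat_lit 1, nat_lit 3, nat_lit 2, nat_lit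 4, nat_lit 3, nat_lit 2])) (.leaf ((nat_lit 66), [nat_lit 6, nat_lit 2, nat_lit 6, nat_lit 1, nat_lit 4, nat_lit 6, nat_lit 0, nat_lit 1, nat_lit 4, nat_lit 3, nat_lit 0, nat_lit 4, nat_lit 3, nat_lit 2, nat_lit 0])))))))
 (.node (nat_lit 77) (.node (nat_lit 71) (.node (nat_lit 68) (.node (nat_lit 67) (.leaf ((nat_lit 67), [nat_lit 5, nat_lit 6, nat_lit 1, nat_lit 4, nat_lit 5, nat_lit 6, nat_lit 3, nat_lit 1, nat_lit 4, nat_lit 1, nat_lit 4, nat_lit 2, nat_lit 0, nat_lit 1, nat_lit 0])) (.leaf ((nat_lit 68), [nat_lit 5, nat_lit 4, nat_lit 2, nat_lit 0, nat_lit 6, nat_lit 1, nat_lit 5, nat_lit 1, nat_lit 0, nat_lit 4, nat_lit 1, nat_lit 3, nat_lit 1, nat_lit 0]))) (.node (nat_lit 69) (.leaf ((nat_lit 69), [nat_lit 2, nat_lit 6, nat_lit 4, nat_lit 2, nat_lit 6, nat_lit 1, nat_lit 5, nat_lit 4, nat_lit 5, nat_lit 2, nat_lit 0, nat_lit 2])) (.node (nat_lit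 70) (.leaf ((nat_lit 70), [nat_lit 1, nat_lit 3, nat_lit 6, nat_lit 2, nat_lit 6, nat_lit 5, nat_lit 0, nat_lit 2, nat_lit 4, nat_lit 2, nat_lit 3, nat_lit 2, nat_lit 0])) (.leaf ((nat_lit 71), [nat_lit 2, nat_lit 6, nat_lit 2, nat_lit 3, nat_lit 6, nat_lit 0, nat_lit 1, nat_lit 4, nat_lit 1, nat_lit 5, nat_lit 1, nat_lit 3, nat_lit 1, nat_lit 0])))))
 (.node (nat_lit 74) (.node (nat_lit 72) (.leaf ((nat_lit 72), [nat_lit 0, nat_lit 1, nat_lit 4, nat_lit 6, nat_lit 5, nat_lit 1, nat_lit 3, nat_lit 2, nat_lit 4, nat_lit 3, nat_lit 0])) (.node (nat_lit 73) (.leaf ((nat_lit 73), [nat_lit 0, nat_lit 1, nat_lit 4, nat_lit 6, nat_lit 3, nat_lit 5, nat_lit 4, nat_lit 3, nat_lit 4, nat_lit 3, nat_lit 2, nat_lit 0])) (.leaf ((nat_lit 57), [nat_lit 4, nat_lit 0, nat_lit 6, nat_lit 2, nat_lit 0, nat_lit 6, nat_lit 1, nat_lit 4, nat_lit 5, nat_lit 2, nat_lit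 5, nat_lit 2, nat_lit 3, nat_lit 2, nat_lit 0])))) (.node (nat_lit 75) (.leaf ((nat_lit 74), [nat_lit 6, nat_lit 0, nat_lit 1, nat_lit 5, nat_lit 6, nat_lit 4, nat_lit 3, nat_lit 1, nat_lit 5, nat_lit 4, nat_lit 2, nat_lit 0])) (.node (nat_lit 76) (.leaf ((nat_lit 75), [nat_lit 2, nat_lit 5, nat_lit 6, nat_lit 2, nat_lit 0, nat_lit 4, nat_lit 2])) (.leaf ((nat_lit 76), [nat_lit 2, nat_lit 6, nat_lit 4, nat_lit 0, nat_lit 6, nat_lit 3, nat_lit 0, nat_lit 4, nat_lit 1, nat_lit 5, nat_lit 0, nat_lit 2]))))))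
 (.node (nat_lit 82) (.node (nat_lit 79) (.node (nat_lit 78) (.leaf ((nat_lit 65), [nat_lit 5, nat_lit 4, nat_lit 6, nat_lit 0, nat_lit 1, nat_lit 6, nat_lit 5, nat_lit 4, nat_lit 3, nat_lit 2, nat_lit 4, nat_lit 2, nat_lit 3])) (.leaf ((nat_lit 77), [nat_lit 3, nat_lit 5, nat_lit 6, nat_lit 2, nat_lit 0, nat_lit 6, nat_lit 0, nat_lit 1, nat_lit 4, nat_lit 3, nat_lit 0, nat_lit 4, nat_lit 0, nat_lit 2, nat_lit 0]))) (.node (nat_lit 80) (.leaf ((nat_lit 78), [nat_lit 4, nat_lit 5, nat_lit 0, nat_lit 6, nat_lit 2, nat_lit 6, nat_lit 0, nat_lit 2, nat_lit 4, nat_lit 2, nat_lit 4, nat_lit 2, nat_lit 0, nat_lit 2])) (.node (nat_lit 81) (.leaf ((nat_lit 79), [nat_lit 2, nat_lit 6, nat_lit 5, nat_lit 4, nat_lit 2, nat_lit 0, nat_lit 6, nat_lit 2, nat_lit 4, nat_lit 1, nat_lit 3, nat_lit 4, nat_lit 3, nat_lit 1, nat_lit 0])) (.leaf ((nat_lit 80), [nat_lit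 2, nat_lit 6, nat_lit 5, nat_lit 0, nat_lit 2, nat_lit 6, nat_lit 3, nat_lit 5, nat_lit 4, nat_lit 3, nat_lit 4, nat_lit 2, nat_lit 3, nat_lit 1, nat_lit 0])))))
 (.node (nat_lit 85) (.node (nat_lit 83) (.leaf ((nat_lit 81), [nat_lit 2, nat_lit 4, nat_lit 6, nat_lit 1, nat_lit 0, nat_lit 6, nat_lit 5, nat_lit 2, nat_lit 0, nat_lit 2, nat_lit 0, nat_lit 4])) (.node (nat_lit 84) (.leaf ((nat_lit 82), [nat_lit 2, nat_lit 6, nat_lit 4, nat_lit 3, nat_lit 6, nat_lit 3, nat_lit 5, nat_lit 2, nat_lit 4, nat_lit 1, nat_lit 0, nat_lit 1, nat_lit 0])) (.leaf ((nat_lit 83), [nat_lit 2, nat_lit 5, nat_lit 6, nat_lit 0, nat_lit 1, nat_lit 6, nat_lit 1, nat_lit 0, nat_lit 5, nat_lit 2, nat_lit 4, nat_lit 0, nat_lit 2])))) (.node (nat_lit 86) (.leaf ((nat_lit 84), [nat_lit 6, nat_lit 1, nat_lit 6, nat_lit 5, nat_lit 3, nat_lit 6, nat_lit 3, nat_lit 5, nat_lit 1,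 nat_lit 0, nat_lit 4, nat_lit 3, nat_lit 1, nat_lit 0])) (.node (nat_lit 87) (.leaf ((nat_lit 85), [nat_lit 3, nat_lit 0, nat_lit 6, nat_lit 2, nat_lit 6, nat_lit 0, nat_lit 4, nat_lit 5, nat_lit 1, nat_lit 4, nat_lit 2, nat_lit 3, nat_lit 0])) (.leaf ((nat_lit 86), [nat_lit 2, nat_lit 6, nat_lit 4, nat_lit 2, nat_lit 6, nat_lit 2, nat_lit 3, nat_lit 2, nat_lit 4, nat_lit 1, nat_lit 3, nat_lit 2, nat_lit 0])))))))))
 (.node (nat_lit 132) (.node (nat_lit 110) (.node (nat_lit 99) (.node (nat_lit 93) (.node (nat_lit 90) (.node (nat_lit 89) (.leaf ((nat_lit 87), [nat_lit 1, nat_lit 6, nat_lit 0, nat_lit 2, nat_lit 6, nat_lit 5, nat_lit 1, nat_lit 3, nat_lit 4, nat_lit 2])) (.leaf ((nat_lit 88), [nat_lit 2, nat_lit 3, nat_lit 6, nat_lit 2, nat_lit 0, nat_lit 6, nat_lit 4, nat_lit 0, nat_lit 1, nat_lit 4, nat_lit 0, nat_lit 2]))) (.node (nat_lit 91) (.leaf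 ((nat_lit 89), [nat_lit 5, nat_lit 2, nat_lit 6, nat_lit 1, nat_lit 0, nat_lit 6, nat_lit 1, nat_lit 5, nat_lit 0, nat_lit 2, nat_lit 4, nat_lit 1, nat_lit 0, nat_lit 2, nat_lit 0])) (.node (nat_lit 92) (.leaf ((nat_lit 90), [nat_lit 0, nat_lit 6, nat_lit 0, nat_lit 4, nat_lit 1, nat_lit 6, nat_lit 3, nat_lit 1, nat_lit 0, nat_lit 4, nat_lit 0, nat_lit 2])) (.leaf ((nat_lit 91), [nat_lit 6, nat_lit 1, nat_lit 4, nat_lit 1, nat_lit 3, nat_lit 6, nat_lit 3, nat_lit 2, nat_lit 4, nat_lit 2, nat_lit 0, nat_lit 4, nat_lit 2, nat_lit 0])))))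
 (.node (nat_lit 96) (.node (nat_lit 94) (.leaf ((nat_lit 92), [nat_lit 6, nat_lit 2, nat_lit 4, nat_lit 2, nat_lit 6, nat_lit 5, nat_lit 2, nat_lit 5, nat_lit 2, nat_lit 4, nat_lit 1, nat_lit 0, nat_lit 2, nat_lit 0])) (.node (nat_lit 95) (.leaf ((nat_lit 93), [nat_lit 4, nat_lit 5, nat_lit 0, nat_lit 6, nat_lit 2, nat_lit 6, nat_lit 4, nat_lit 2, nat_lit 3, nat_lit 0, nat_lit 4, nat_lit 2, nat_lit 3, nat_lit 1])) (.leaf ((nat_lit 94), [nat_lit 3, nat_lit 1, nat_lit 6, nat_lit 1, nat_lit 6, nat_lit 4, nat_lit 0, nat_lit 1, nat_lit 4, nat_lit 2, nat_lit 3, nat_lit 0])))) (.node (nat_lit 97) (.leaf ((nat_lit 95), [nat_lit 2, nat_lit 6, nat_lit 0, nat_lit 4, nat_lit 6, nat_lit 0, nat_lit 2, nat_lit 4, nat_lit 1, nat_lit 4, nat_lit 1, nat_lit 0, nat_lit 1])) (.node (nat_lit 98) (.leaf ((nat_lit 96), [nat_lit 2, nat_lit 6, nat_lit 1, nat_lit 4, nat_lit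 3, nat_lit 6, nat_lit 1, nat_lit 5, nat_lit 4, nat_lit 0, nat_lit 2, nat_lit 0])) (.leaf ((nat_lit 97), [nat_lit 5, nat_lit 6, nat_lit 3, nat_lit 5, nat_lit 6, nat_lit 4, nat_lit 3, nat_lit 0, nat_lit 4, nat_lit 2, nat_lit 3, nat_lit 1, nat_lit 0]))))))
 (.node (nat_lit 104) (.node (nat_lit 101) (.node (nat_lit 100) (.leaf ((nat_lit 98), [nat_lit 1, nat_lit 5, nat_lit 6, nat_lit 5, nat_lit 1, nat_lit 6, nat_lit 4, nat_lit 1, nat_lit 5, nat_lit 2, nat_lit 5, nat_lit 3, nat_lit 1, nat_lit 0])) (.leaf ((nat_lit 88), [nat_lit 2, nat_lit 6, nat_lit 1, nat_lit 3, nat_lit 6, nat_lit 2, nat_lit 4, nat_lit 3, nat_lit 0, nat_lit 4, nat_lit 0, nat_lit 1, nat_lit 0]))) (.node (nat_lit 102) (.leaf ((nat_lit 99), [nat_lit 1, nat_lit 0, nat_lit 6, nat_lit 2, nat_lit 6, nat_lit 3, nat_lit 0, nat_lit 4, nat_lit 1, nat_lit 0, nat_lit 1, nat_lit 0])) (.node (nat_lit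 103) (.leaf ((nat_lit 100), [nat_lit 2, nat_lit 4, nat_lit 2, nat_lit 6, nat_lit 1, nat_lit 4, nat_lit 3, nat_lit 2, nat_lit 4, nat_lit 2, nat_lit 0, nat_lit 2])) (.leaf ((nat_lit 101), [nat_lit 6, nat_lit 2, nat_lit 0, nat_lit 6, nat_lit 4, nat_lit 0, nat_lit 2, nat_lit 4, nat_lit 1, nat_lit 3])))))
 (.node (nat_lit 107) (.node (nat_lit 105) (.leaf ((nat_lit 102), [nat_lit 6, nat_lit 5, nat_lit 6, nat_lit 5, nat_lit 4, nat_lit 5, nat_lit 0, nat_lit 4, nat_lit 0, nat_lit 2])) (.node (nat_lit 106) (.leaf ((nat_lit 103), [nat_lit 0, nat_lit 6, nat_lit 3, nat_lit 5, nat_lit 6, nat_lit 3, nat_lit 0, nat_lit 5, nat_lit 4, nat_lit 2, nat_lit 0, nat_lit 2, nat_lit 0])) (.leaf ((nat_lit 104), [nat_lit 5, nat_lit 2, nat_lit 6, nat_lit 3, nat_lit 2, nat_lit 6, nat_lit 4, nat_lit 2, nat_lit 3, nat_lit 0, nat_lit 4])))) (.node (nat_lit 108) (.leaf ((nat_lit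 105), [nat_lit 6, nat_lit 5, nat_lit 3, nat_lit 6, nat_lit 5, nat_lit 2, nat_lit 4, nat_lit 3, nat_lit 4, nat_lit 0, nat_lit 2])) (.node (nat_lit 109) (.leaf ((nat_lit 106), [nat_lit 6, nat_lit 4, nat_lit 1, nat_lit 5, nat_lit 6, nat_lit 2, nat_lit 5, nat_lit 2, nat_lit 0, nat_lit 4, nat_lit 2, nat_lit 0, nat_lit 1, nat_lit 0])) (.leaf ((nat_lit 107), [nat_lit 3, nat_lit 4, nat_lit 6, nat_lit 4, nat_lit 1, nat_lit 6, nat_lit 5, nat_lit 2, nat_lit 4, nat_lit 2, nat_lit 0, nat_lit 1, nat_lit 0])))))))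
 (.node (nat_lit 121) (.node (nat_lit 115) (.node (nat_lit 112) (.node (nat_lit 111) (.leaf ((nat_lit 108), [nat_lit 0, nat_lit 6, nat_lit 4, nat_lit 1, nat_lit 0, nat_lit 6, nat_lit 0, nat_lit 5, nat_lit 4, nat_lit 0, nat_lit 2, nat_lit 0])) (.leaf ((nat_lit 109), [nat_lit 0, nat_lit 4, nat_lit 5, nat_lit 6, nat_lit 2, nat_lit 6, nat_lit 5, nat_lit 1, nat_lit 4, nat_lit 1, nat_lit 3, nat_lit 2, nat_lit 0]))) (.node (nat_lit 113) (.leaf ((nat_lit 110), [nat_lit 2, nat_lit 6, nat_lit 4, nat_lit 1, nat_lit 6, nat_lit 4, nat_lit 2, nat_lit 0, nat_lit 2, nat_lit 0, nat_lit 4, nat_lit 2, nat_lit 0, nat_lit 1])) (.node (nat_lit 114) (.leaf ((nat_lit 111), [nat_lit 3, nat_lit 2, nat_lit 6, nat_lit 4, nat_lit 5, nat_lit 4, nat_lit 0, nat_lit 5, nat_lit 1, nat_lit 3, nat_lit 1])) (.leaf ((nat_lit 112), [nat_lit 1, nat_lit 3, nat_lit 6, nat_lit 5, nat_lit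 1, nat_lit 6, nat_lit 0, nat_lit 2, nat_lit 4, nat_lit 5, nat_lit 0, nat_lit 2])))))
 (.node (nat_lit 118) (.node (nat_lit 116) (.leaf ((nat_lit 113), [nat_lit 1, nat_lit 0, nat_lit 6, nat_lit 1, nat_lit 5, nat_lit 4, nat_lit 1, nat_lit 4, nat_lit 2, nat_lit 0, nat_lit 1])) (.node (nat_lit 117) (.leaf ((nat_lit 114), [nat_lit 1, nat_lit 6, nat_lit 3, nat_lit 5, nat_lit 6, nat_lit 4, nat_lit 1, nat_lit 4, nat_lit 3, nat_lit 0, nat_lit 4, nat_lit 1, nat_lit 0, nat_lit 1, nat_lit 0])) (.leaf ((nat_lit 115), [nat_lit 4, nat_lit 6, nat_lit 2, nat_lit 0, nat_lit 6, nat_lit 2, nat_lit 0, nat_lit 2, nat_lit 4, nat_lit 1, nat_lit 3, nat_lit 1, nat_lit 0])))) (.node (nat_lit 119) (.leaf ((nat_lit 116), [nat_lit 1, nat_lit 6, nat_lit 5, nat_lit 1, nat_lit 6, nat_lit 5, nat_lit 4, nat_lit 1, nat_lit 0, nat_lit 4, nat_lit 2, nat_lit 0, nat_lit 2])) (.node (nat_lit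 120) (.leaf ((nat_lit 117), [nat_lit 5, nat_lit 6, nat_lit 5, nat_lit 1, nat_lit 4, nat_lit 6, nat_lit 4, nat_lit 3, nat_lit 5, nat_lit 4, nat_lit 2, nat_lit 0, nat_lit 2])) (.leaf ((nat_lit 118), [nat_lit 0, nat_lit 6, nat_lit 5, nat_lit 2, nat_lit 4, nat_lit 6, nat_lit 5, nat_lit 1, nat_lit 3, nat_lit 4, nat_lit 5, nat_lit 0, nat_lit 1]))))))
 (.node (nat_lit 126) (.node (nat_lit 123) (.node (nat_lit 122) (.leaf ((nat_lit 119), [nat_lit 0, nat_lit 5, nat_lit 2, nat_lit 6, nat_lit 2, nat_lit 6, nat_lit 5, nat_lit 4, nat_lit 3, nat_lit 5, nat_lit 1, nat_lit 3, nat_lit 2, nat_lit 0])) (.leaf ((nat_lit 120), [nat_lit 0, nat_lit 2, nat_lit 6, nat_lit 2, nat_lit 6, nat_lit 3, nat_lit 4, nat_lit 3, nat_lit 2, nat_lit 4, nat_lit 2, nat_lit 3, nat_lit 1, nat_lit 0]))) (.node (nat_lit 124) (.leaf ((nat_lit 121), [nat_lit 1, nat_lit 6, nat_lit 0, nat_lit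 4, nat_lit 6, nat_lit 4, nat_lit 3, nat_lit 2, nat_lit 5, nat_lit 4, nat_lit 2, nat_lit 3, nat_lit 0])) (.node (nat_lit 125) (.leaf ((nat_lit 122), [nat_lit 6, nat_lit 5, nat_lit 6, nat_lit 2, nat_lit 4, nat_lit 3, nat_lit 5, nat_lit 4, nat_lit 3, nat_lit 0])) (.leaf ((nat_lit 123), [nat_lit 5, nat_lit 4, nat_lit 5, nat_lit 6, nat_lit 2, nat_lit 6, nat_lit 3, nat_lit 4, nat_lit 2, nat_lit 0, nat_lit 1])))))
 (.node (nat_lit 129) (.node (nat_lit 127) (.leaf ((nat_lit 124), [nat_lit 3, nat_lit 6, nat_lit 0, nat_lit 2, nat_lit 6, nat_lit 0, nat_lit 5, nat_lit 2, nat_lit 5, nat_lit 3, nat_lit 1, nat_lit 0])) (.node (nat_lit 128) (.leaf ((nat_lit 125), [nat_lit 0, nat_lit 6, nat_lit 4, nat_lit 1, nat_lit 6, nat_lit 1, nat_lit 4, nat_lit 1, nat_lit 0, nat_lit 2, nat_lit 0])) (.leaf ((nat_lit 126), [nat_lit 1, nat_lit 3, nat_lit 6, nat_lit 4, nat_lit 0,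 nat_lit 6, nat_lit 3, nat_lit 5, nat_lit 1, nat_lit 5, nat_lit 2, nat_lit 0])))) (.node (nat_lit 130) (.leaf ((nat_lit 120), [nat_lit 2, nat_lit 6, nat_lit 1, nat_lit 4, nat_lit 6, nat_lit 5, nat_lit 1, nat_lit 0, nat_lit 1, nat_lit 0, nat_lit 4, nat_lit 3, nat_lit 0])) (.node (nat_lit 131) (.leaf ((nat_lit 127), [nat_lit 5, nat_lit 3, nat_lit 6, nat_lit 5, nat_lit 1, nat_lit 6, nat_lit 4, nat_lit 3, nat_lit 5, nat_lit 4, nat_lit 2, nat_lit 0])) (.leaf ((nat_lit 128), [nat_lit 1, nat_lit 6, nat_lit 2, nat_lit 5, nat_lit 6, nat_lit 1, nat_lit 0, nat_lit 4, nat_lit 1, nat_lit 3, nat_lit 1]))))))))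
 (.node (nat_lit 154) (.node (nat_lit 143) (.node (nat_lit 137) (.node (nat_lit 134) (.node (nat_lit 133) (.leaf ((nat_lit 129), [nat_lit 1, nat_lit 5, nat_lit 6, nat_lit 2, nat_lit 6, nat_lit 2, nat_lit 4, nat_lit 5, nat_lit 0, nat_lit 4, nat_lit 2, nat_lit 0, nat_lit 2])) (.leaf ((nat_lit 130), [nat_lit 4, nat_lit 5, nat_lit 2, nat_lit 6, nat_lit 2, nat_lit 6, nat_lit 4, nat_lit 5, nat_lit 1, nat_lit 4, nat_lit 2, nat_lit 0, nat_lit 1]))) (.node (nat_lit 135) (.leaf ((nat_lit 131), [nat_lit 3, nat_lit 0, nat_lit 4, nat_lit 6, nat_lit 4, nat_lit 3, nat_lit 4, nat_lit 2, nat_lit 0, nat_lit 1])) (.node (nat_lit 136) (.leaf ((nat_lit 132), [nat_lit 0, nat_lit 4, nat_lit 6, nat_lit 3, nat_lit 0, nat_lit 6, nat_lit 0, nat_lit 2, nat_lit 4, nat_lit 2, nat_lit 0, nat_lit 1])) (.leaf ((nat_lit 133), [nat_lit 2, nat_lit 3, nat_lit 6, nat_lit 2, nat_lit 0,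 nat_lit 6, nat_lit 5, nat_lit 3, nat_lit 0, nat_lit 4, nat_lit 1, nat_lit 0, nat_lit 1])))))
 (.node (nat_lit 140) (.node (nat_lit 138) (.leaf ((nat_lit 134), [nat_lit 6, nat_lit 2, nat_lit 4, nat_lit 0, nat_lit 6, nat_lit 2, nat_lit 0, nat_lit 5, nat_lit 2, nat_lit 4, nat_lit 0, nat_lit 2])) (.node (nat_lit 139) (.leaf ((nat_lit 135), [nat_lit 6, nat_lit 3, nat_lit 5, nat_lit 6, nat_lit 0, nat_lit 2, nat_lit 0, nat_lit 4, nat_lit 2, nat_lit 3, nat_lit 2])) (.leaf ((nat_lit 136), [nat_lit 5, nat_lit 6, nat_lit 2, nat_lit 6, nat_lit 5, nat_lit 3, nat_lit 2, nat_lit 5, nat_lit 4, nat_lit 2, nat_lit 3, nat_lit 1, nat_lit 0])))) (.node (nat_lit 141) (.leaf ((nat_lit 137), [nat_lit 5, nat_lit 3, nat_lit 6, nat_lit 1, nat_lit 0, nat_lit 2, nat_lit 4, nat_lit 2, nat_lit 3, nat_lit 1, nat_lit 0])) (.node (nat_lit 142) (.leaf ((nat_lit 138), [nat_lit 2, nat_lit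 6, nat_lit 1, nat_lit 6, nat_lit 4, nat_lit 1, nat_lit 5, nat_lit 1, nat_lit 0, nat_lit 2, nat_lit 0])) (.leaf ((nat_lit 139), [nat_lit 6, nat_lit 0, nat_lit 4, nat_lit 6, nat_lit 4, nat_lit 3, nat_lit 2, nat_lit 0, nat_lit 4, nat_lit 3, nat_lit 1, nat_lit 0]))))))
 (.node (nat_lit 148) (.node (nat_lit 145) (.node (nat_lit 144) (.leaf ((nat_lit 140), [nat_lit 0, nat_lit 4, nat_lit 6, nat_lit 1, nat_lit 6, nat_lit 4, nat_lit 1, nat_lit 4, nat_lit 1, nat_lit 3, nat_lit 2])) (.leaf ((nat_lit 141), [nat_lit 3, nat_lit 1, nat_lit 6, nat_lit 3, nat_lit 0, nat_lit 6, nat_lit 2, nat_lit 4, nat_lit 5, nat_lit 0, nat_lit 4, nat_lit 3, nat_lit 1]))) (.node (nat_lit 146) (.leaf ((nat_lit 142), [nat_lit 6, nat_lit 3, nat_lit 5, nat_lit 6, nat_lit 5, nat_lit 3, nat_lit 0, nat_lit 4, nat_lit 1, nat_lit 0, nat_lit 1])) (.node (nat_lit 147) (.leaf ((nat_lit 143),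 [nat_lit 3, nat_lit 0, nat_lit 6, nat_lit 2, nat_lit 6, nat_lit 2, nat_lit 4, nat_lit 3, nat_lit 4, nat_lit 1, nat_lit 0, nat_lit 1, nat_lit 0])) (.leaf ((nat_lit 144), [nat_lit 2, nat_lit 4, nat_lit 2, nat_lit 0, nat_lit 6, nat_lit 3, nat_lit 1, nat_lit 5, nat_lit 3, nat_lit 4, nat_lit 1, nat_lit 0])))))
 (.node (nat_lit 151) (.node (nat_lit 149) (.leaf ((nat_lit 145), [nat_lit 1, nat_lit 5, nat_lit 6, nat_lit 1, nat_lit 0, nat_lit 6, nat_lit 3, nat_lit 4, nat_lit 0, nat_lit 4, nat_lit 1, nat_lit 3, nat_lit 2, nat_lit 0])) (.node (nat_lit 150) (.leaf ((nat_lit 146), [nat_lit 2, nat_lit 0, nat_lit 2, nat_lit 6, nat_lit 1, nat_lit 3, nat_lit 1, nat_lit 5, nat_lit 4, nat_lit 0, nat_lit 1])) (.leaf ((nat_lit 147), [nat_lit 6, nat_lit 0, nat_lit 4, nat_lit 5, nat_lit 6, nat_lit 3, nat_lit 2, nat_lit 5, nat_lit 3, nat_lit 4, nat_lit 1, nat_lit 3, nat_lit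 2])))) (.node (nat_lit 152) (.leaf ((nat_lit 63), [nat_lit 1, nat_lit 4, nat_lit 1, nat_lit 3, nat_lit 6, nat_lit 5, nat_lit 4, nat_lit 1, nat_lit 4, nat_lit 1, nat_lit 0, nat_lit 2, nat_lit 0])) (.node (nat_lit 153) (.leaf ((nat_lit 148), [nat_lit 2, nat_lit 6, nat_lit 4, nat_lit 1, nat_lit 0, nat_lit 6, nat_lit 5, nat_lit 3, nat_lit 2, nat_lit 5, nat_lit 4, nat_lit 2, nat_lit 0, nat_lit 1, nat_lit 0])) (.leaf ((nat_lit 149), [nat_lit 1, nat_lit 6, nat_lit 4, nat_lit 0, nat_lit 6, nat_lit 1, nat_lit 3, nat_lit 4, nat_lit 1, nat_lit 3, nat_lit 1, nat_lit 0])))))))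
 (.node (nat_lit 165) (.node (nat_lit 159) (.node (nat_lit 156) (.node (nat_lit 155) (.leaf ((nat_lit 150), [nat_lit 4, nat_lit 6, nat_lit 4, nat_lit 5, nat_lit 4, nat_lit 6, nat_lit 2, nat_lit 3, nat_lit 4, nat_lit 5, nat_lit 0])) (.leaf ((nat_lit 151), [nat_lit 0, nat_lit 1, nat_lit 5, nat_lit 6, nat_lit 4, nat_lit 3, nat_lit 4, nat_lit 0, nat_lit 5, nat_lit 1, nat_lit 0, nat_lit 1]))) (.node (nat_lit 157) (.leaf ((nat_lit 152), [nat_lit 3, nat_lit 6, nat_lit 0, nat_lit 1, nat_lit 5, nat_lit 6, nat_lit 5, nat_lit 1, nat_lit 4, nat_lit 1, nat_lit 0, nat_lit 4, nat_lit 1, nat_lit 3, nat_lit 0])) (.node (nat_lit 158) (.leaf ((nat_lit 153), [nat_lit 3, nat_lit 6, nat_lit 2, nat_lit 6, nat_lit 1, nat_lit 0, nat_lit 5, nat_lit 2, nat_lit 4, nat_lit 3, nat_lit 2])) (.leaf ((nat_lit 154), [nat_lit 2, nat_lit 6, nat_lit 1, nat_lit 0, nat_lit 6, nat_lit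 5, nat_lit 0, nat_lit 4, nat_lit 3, nat_lit 5, nat_lit 1, nat_lit 0, nat_lit 2, nat_lit 0])))))
 (.node (nat_lit 162) (.node (nat_lit 160) (.leaf ((nat_lit 155), [nat_lit 5, nat_lit 3, nat_lit 6, nat_lit 1, nat_lit 6, nat_lit 0, nat_lit 5, nat_lit 3, nat_lit 0, nat_lit 4, nat_lit 3, nat_lit 1])) (.node (nat_lit 161) (.leaf ((nat_lit 156), [nat_lit 6, nat_lit 1, nat_lit 6, nat_lit 2, nat_lit 6, nat_lit 2, nat_lit 5, nat_lit 4, nat_lit 5, nat_lit 2, nat_lit 3, nat_lit 1])) (.leaf ((nat_lit 157), [nat_lit 2, nat_lit 6, nat_lit 1, nat_lit 0, nat_lit 6, nat_lit 0, nat_lit 4, nat_lit 5, nat_lit 0, nat_lit 4, nat_lit 0, nat_lit 2])))) (.node (nat_lit 163) (.leaf ((nat_lit 158), [nat_lit 4, nat_lit 6, nat_lit 1, nat_lit 3, nat_lit 6, nat_lit 1, nat_lit 4, nat_lit 2, nat_lit 4, nat_lit 3])) (.node (nat_lit 164) (.leaf ((nat_lit 159), [nat_lit 1, nat_lit 4,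 nat_lit 1, nat_lit 6, nat_lit 0, nat_lit 4, nat_lit 0, nat_lit 4, nat_lit 0, nat_lit 2])) (.leaf ((nat_lit 160), [nat_lit 3, nat_lit 5, nat_lit 6, nat_lit 5, nat_lit 2, nat_lit 6, nat_lit 2, nat_lit 0, nat_lit 4, nat_lit 3, nat_lit 0]))))))
 (.node (nat_lit 170) (.node (nat_lit 167) (.node (nat_lit 166) (.leaf ((nat_lit 161), [nat_lit 1, nat_lit 3, nat_lit 4, nat_lit 6, nat_lit 2, nat_lit 6, nat_lit 1, nat_lit 5, nat_lit 0, nat_lit 4, nat_lit 1, nat_lit 0, nat_lit 2])) (.leaf ((nat_lit 162), [nat_lit 5, nat_lit 4, nat_lit 6, nat_lit 4, nat_lit 2, nat_lit 6, nat_lit 4, nat_lit 3, nat_lit 0, nat_lit 4, nat_lit 5, nat_lit 3, nat_lit 0]))) (.node (nat_lit 168) (.leaf ((nat_lit 163), [nat_lit 2, nat_lit 6, nat_lit 3, nat_lit 4, nat_lit 6, nat_lit 0, nat_lit 1, nat_lit 4, nat_lit 0, nat_lit 4, nat_lit 2, nat_lit 0, nat_lit 2])) (.node (nat_lit 169) (.leaf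 ((nat_lit 164), [nat_lit 5, nat_lit 6, nat_lit 0, nat_lit 1, nat_lit 6, nat_lit 5, nat_lit 2, nat_lit 0, nat_lit 5, nat_lit 2, nat_lit 3])) (.leaf ((nat_lit 165), [nat_lit 6, nat_lit 2, nat_lit 6, nat_lit 2, nat_lit 3, nat_lit 6, nat_lit 2, nat_lit 3, nat_lit 2, nat_lit 4, nat_lit 0])))))
 (.node (nat_lit 173) (.node (nat_lit 171) (.leaf ((nat_lit 166), [nat_lit 4, nat_lit 6, nat_lit 2, nat_lit 4, nat_lit 0, nat_lit 6, nat_lit 1, nat_lit 4, nat_lit 1, nat_lit 0, nat_lit 4])) (.node (nat_lit 172) (.leaf ((nat_lit 167), [nat_lit 1, nat_lit 0, nat_lit 6, nat_lit 4, nat_lit 1, nat_lit 0, nat_lit 6, nat_lit 2, nat_lit 5, nat_lit 3, nat_lit 0, nat_lit 4, nat_lit 0, nat_lit 1, nat_lit 0])) (.leaf ((nat_lit 168), [nat_lit 4, nat_lit 6, nat_lit 1, nat_lit 6, nat_lit 3, nat_lit 1, nat_lit 5, nat_lit 4, nat_lit 2, nat_lit 3, nat_lit 2, nat_lit 0])))) (.node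 (nat_lit 174) (.leaf ((nat_lit 169), [nat_lit 2, nat_lit 3, nat_lit 6, nat_lit 4, nat_lit 5, nat_lit 3, nat_lit 0, nat_lit 4, nat_lit 1, nat_lit 3])) (.node (nat_lit 175) (.leaf ((nat_lit 170), [nat_lit 4, nat_lit 3, nat_lit 5, nat_lit 6, nat_lit 2, nat_lit 6, nat_lit 1, nat_lit 4, nat_lit 5, nat_lit 0, nat_lit 4, nat_lit 0, nat_lit 2])) (.leaf ((nat_lit 171), [nat_lit 5, nat_lit 3, nat_lit 4, nat_lit 6, nat_lit 2, nat_lit 6, nat_lit 1, nat_lit 4, nat_lit 0, nat_lit 4, nat_lit 2, nat_lit 3, nat_lit 2, nat_lit 0]))))))))))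
noncomputable def rWd_1 : Tr (ℕ × List ℕ) := (.node (nat_lit 264) (.node (nat_lit 220) (.node (nat_lit 198) (.node (nat_lit 187) (.node (nat_lit 181) (.node (nat_lit 178) (.node (nat_lit 177) (.leaf ((nat_lit 68), [nat_lit 6, nat_lit 4, nat_lit 0, nat_lit 6, nat_lit 1, nat_lit 6, nat_lit 4, nat_lit 3, nat_lit 1, nat_lit 5, nat_lit 4, nat_lit 3, nat_lit 1])) (.leaf ((nat_lit 172), [nat_lit 1, nat_lit 6, nat_lit 2, nat_lit 4, nat_lit 0, nat_lit 4, nat_lit 1, nat_lit 0, nat_lit 2]))) (.node (nat_lit 179) (.leaf ((nat_lit 173), [nat_lit 2, nat_lit 4, nat_lit 2, nat_lit 4, nat_lit 2, nat_lit 0, nat_lit 1, nat_lit 0])) (.node (nat_lit 180) (.leaf ((nat_lit 174), [nat_lit 5, nat_lit 1, nat_lit 0, nat_lit 6, nat_lit 5, nat_lit 2, nat_lit 5, nat_lit 4, nat_lit 2, nat_lit 0, nat_lit 1])) (.leaf ((nat_lit 175), [nat_lit 3, nat_lit 6, nat_lit 2, nat_lit 3, nat_lit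 6, nat_lit 1, nat_lit 4, nat_lit 5, nat_lit 0, nat_lit 4, nat_lit 1, nat_lit 0, nat_lit 2, nat_lit 0])))))
 (.node (nat_lit 184) (.node (nat_lit 182) (.leaf ((nat_lit 176), [nat_lit 2, nat_lit 0, nat_lit 2, nat_lit 6, nat_lit 2, nat_lit 4, nat_lit 1, nat_lit 0, nat_lit 4, nat_lit 2])) (.node (nat_lit 183) (.leaf ((nat_lit 177), [nat_lit 1, nat_lit 6, nat_lit 2, nat_lit 4, nat_lit 5, nat_lit 1, nat_lit 0])) (.leaf ((nat_lit 178), [nat_lit 4, nat_lit 6, nat_lit 4, nat_lit 0, nat_lit 2, nat_lit 6, nat_lit 0, nat_lit 2, nat_lit 0, nat_lit 5, nat_lit 4, nat_lit 1, nat_lit 3, nat_lit 2])))) (.node (nat_lit 185) (.leaf ((nat_lit 179), [nat_lit 2, nat_lit 4, nat_lit 6, nat_lit 3, nat_lit 0, nat_lit 6, nat_lit 0, nat_lit 4, nat_lit 1, nat_lit 0, nat_lit 4, nat_lit 1, nat_lit 3, nat_lit 0])) (.node (nat_lit 186) (.leaf ((nat_lit 180), [nat_lit 3, nat_lit 6,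 nat_lit 2, nat_lit 0, nat_lit 6, nat_lit 2, nat_lit 3, nat_lit 0, nat_lit 4, nat_lit 1, nat_lit 0])) (.leaf ((nat_lit 181), [nat_lit 4, nat_lit 3, nat_lit 6, nat_lit 4, nat_lit 5, nat_lit 1, nat_lit 5, nat_lit 1, nat_lit 3, nat_lit 0]))))))
 (.node (nat_lit 192) (.node (nat_lit 189) (.node (nat_lit 188) (.leaf ((nat_lit 182), [nat_lit 4, nat_lit 2, nat_lit 4, nat_lit 6, nat_lit 1, nat_lit 6, nat_lit 3, nat_lit 1, nat_lit 4, nat_lit 1, nat_lit 4, nat_lit 1, nat_lit 0])) (.leaf ((nat_lit 183), [nat_lit 0, nat_lit 1, nat_lit 0, nat_lit 6, nat_lit 2, nat_lit 6, nat_lit 1, nat_lit 4, nat_lit 3, nat_lit 2, nat_lit 4, nat_lit 2, nat_lit 0, nat_lit 1, nat_lit 0]))) (.node (nat_lit 190) (.leaf ((nat_lit 184), [nat_lit 4, nat_lit 0, nat_lit 6, nat_lit 2, nat_lit 6, nat_lit 2, nat_lit 5, nat_lit 4, nat_lit 3, nat_lit 1, nat_lit 0])) (.node (nat_lit 191) (.leaf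 ((nat_lit 185), [nat_lit 6, nat_lit 5, nat_lit 6, nat_lit 3, nat_lit 6, nat_lit 5, nat_lit 3, nat_lit 5, nat_lit 4, nat_lit 1, nat_lit 0, nat_lit 2, nat_lit 0])) (.leaf ((nat_lit 186), [nat_lit 0, nat_lit 4, nat_lit 6, nat_lit 2, nat_lit 6, nat_lit 0, nat_lit 4, nat_lit 3, nat_lit 5, nat_lit 1, nat_lit 3, nat_lit 1])))))
 (.node (nat_lit 195) (.node (nat_lit 193) (.leaf ((nat_lit 187), [nat_lit 5, nat_lit 6, nat_lit 5, nat_lit 1, nat_lit 4, nat_lit 6, nat_lit 3, nat_lit 5, nat_lit 1, nat_lit 0, nat_lit 4, nat_lit 2, nat_lit 0, nat_lit 1])) (.node (nat_lit 194) (.leaf ((nat_lit 188), [nat_lit 5, nat_lit 6, nat_lit 5, nat_lit 2, nat_lit 6, nat_lit 2, nat_lit 4, nat_lit 2, nat_lit 4, nat_lit 1, nat_lit 3, nat_lit 1])) (.leaf ((nat_lit 189), [nat_lit 2, nat_lit 6, nat_lit 5, nat_lit 3, nat_lit 6, nat_lit 4, nat_lit 5, nat_lit 1, nat_lit 5, nat_lit 2]))))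 (.node (nat_lit 196) (.leaf ((nat_lit 190), [nat_lit 1, nat_lit 0, nat_lit 6, nat_lit 1, nat_lit 6, nat_lit 5, nat_lit 2, nat_lit 0, nat_lit 5, nat_lit 4, nat_lit 1])) (.node (nat_lit 197) (.leaf ((nat_lit 191), [nat_lit 5, nat_lit 2, nat_lit 6, nat_lit 0, nat_lit 1, nat_lit 6, nat_lit 4, nat_lit 3, nat_lit 0, nat_lit 5, nat_lit 2, nat_lit 3, nat_lit 1])) (.leaf ((nat_lit 192), [nat_lit 5, nat_lit 6, nat_lit 4, nat_lit 0, nat_lit 6, nat_lit 4, nat_lit 2, nat_lit 4, nat_lit 1, nat_lit 3, nat_lit 2, nat_lit 0])))))))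
 (.node (nat_lit 209) (.node (nat_lit 203) (.node (nat_lit 200) (.node (nat_lit 199) (.leaf ((nat_lit 193), [nat_lit 5, nat_lit 6, nat_lit 4, nat_lit 1, nat_lit 0, nat_lit 6, nat_lit 3, nat_lit 4, nat_lit 2, nat_lit 4, nat_lit 2, nat_lit 0, nat_lit 2])) (.leaf ((nat_lit 194), [nat_lit 1, nat_lit 6, nat_lit 1, nat_lit 4, nat_lit 1, nat_lit 6, nat_lit 5, nat_lit 0, nat_lit 1, nat_lit 5, nat_lit 4, nat_lit 3]))) (.node (nat_lit 201) (.leaf ((nat_lit 195), [nat_lit 1, nat_lit 4, nat_lit 6, nat_lit 5, nat_lit 1, nat_lit 6, nat_lit 0, nat_lit 5, nat_lit 2, nat_lit 0, nat_lit 4, nat_lit 2, nat_lit 3, nat_lit 1])) (.node (nat_lit 202) (.leaf ((nat_lit 196), [nat_lit 6, nat_lit 1, nat_lit 4, nat_lit 6, nat_lit 0, nat_lit 1, nat_lit 4, nat_lit 3, nat_lit 5, nat_lit 1, nat_lit 0, nat_lit 1, nat_lit 0])) (.leaf ((nat_lit 197), [nat_lit 2, nat_lit 6, nat_lit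 3, nat_lit 5, nat_lit 6, nat_lit 4, nat_lit 3, nat_lit 4, nat_lit 0, nat_lit 5, nat_lit 3, nat_lit 0])))))
 (.node (nat_lit 206) (.node (nat_lit 204) (.leaf ((nat_lit 198), [nat_lit 2, nat_lit 4, nat_lit 6, nat_lit 1, nat_lit 6, nat_lit 3, nat_lit 0, nat_lit 4, nat_lit 1, nat_lit 3, nat_lit 2])) (.node (nat_lit 205) (.leaf ((nat_lit 199), [nat_lit 5, nat_lit 2, nat_lit 6, nat_lit 4, nat_lit 0, nat_lit 6, nat_lit 3, nat_lit 4, nat_lit 2, nat_lit 4, nat_lit 3, nat_lit 1, nat_lit 0])) (.leaf ((nat_lit 100), [nat_lit 4, nat_lit 1, nat_lit 6, nat_lit 5, nat_lit 2, nat_lit 6, nat_lit 5, nat_lit 4, nat_lit 5, nat_lit 2, nat_lit 3, nat_lit 0])))) (.node (nat_lit 207) (.leaf ((nat_lit 12), [nat_lit 4, nat_lit 0, nat_lit 6, nat_lit 1, nat_lit 6, nat_lit 4, nat_lit 3, nat_lit 5, nat_lit 1, nat_lit 0, nat_lit 4, nat_lit 2, nat_lit 3, nat_lit 2, nat_lit 0]))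 (.node (nat_lit 208) (.leaf ((nat_lit 200), [nat_lit 2, nat_lit 6, nat_lit 2, nat_lit 4, nat_lit 2, nat_lit 6, nat_lit 4, nat_lit 1, nat_lit 4, nat_lit 3, nat_lit 0, nat_lit 4, nat_lit 2, nat_lit 3])) (.leaf ((nat_lit 201), [nat_lit 6, nat_lit 1, nat_lit 6, nat_lit 1, nat_lit 4, nat_lit 5, nat_lit 1, nat_lit 4, nat_lit 2, nat_lit 0, nat_lit 1, nat_lit 0]))))))
 (.node (nat_lit 214) (.node (nat_lit 211) (.node (nat_lit 210) (.leaf ((nat_lit 202), [nat_lit 4, nat_lit 2, nat_lit 6, nat_lit 2, nat_lit 0, nat_lit 6, nat_lit 2, nat_lit 4, nat_lit 0, nat_lit 1, nat_lit 4, nat_lit 0, nat_lit 2, nat_lit 0])) (.leaf ((nat_lit 203), [nat_lit 3, nat_lit 0, nat_lit 4, nat_lit 6, nat_lit 5, nat_lit 0, nat_lit 2, nat_lit 4, nat_lit 1, nat_lit 3, nat_lit 2, nat_lit 0]))) (.node (nat_lit 212) (.leaf ((nat_lit 204), [nat_lit 4, nat_lit 5, nat_lit 6, nat_lit 4, nat_lit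 5, nat_lit 6, nat_lit 5, nat_lit 4, nat_lit 0, nat_lit 2, nat_lit 4, nat_lit 3, nat_lit 1])) (.node (nat_lit 213) (.leaf ((nat_lit 205), [nat_lit 6, nat_lit 0, nat_lit 5, nat_lit 3, nat_lit 6, nat_lit 0, nat_lit 4, nat_lit 5, nat_lit 1, nat_lit 4, nat_lit 3, nat_lit 1])) (.leaf ((nat_lit 206), [nat_lit 6, nat_lit 5, nat_lit 6, nat_lit 3, nat_lit 0, nat_lit 6, nat_lit 1, nat_lit 4, nat_lit 2, nat_lit 3, nat_lit 4, nat_lit 1, nat_lit 0])))))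
 (.node (nat_lit 217) (.node (nat_lit 215) (.leaf ((nat_lit 207), [nat_lit 4, nat_lit 2, nat_lit 3, nat_lit 6, nat_lit 0, nat_lit 4, nat_lit 5, nat_lit 0, nat_lit 4, nat_lit 1, nat_lit 0, nat_lit 2])) (.node (nat_lit 216) (.leaf ((nat_lit 208), [nat_lit 1, nat_lit 3, nat_lit 4, nat_lit 6, nat_lit 2, nat_lit 6, nat_lit 4, nat_lit 3, nat_lit 2, nat_lit 0, nat_lit 4, nat_lit 1, nat_lit 3, nat_lit 2])) (.leaf ((nat_lit 209), [nat_lit 5, nat_lit 1, nat_lit 6, nat_lit 5, nat_lit 2, nat_lit 6, nat_lit 2, nat_lit 5, nat_lit 4, nat_lit 5, nat_lit 1, nat_lit 3, nat_lit 1])))) (.node (nat_lit 218) (.leaf ((nat_lit 195), [nat_lit 6, nat_lit 5, nat_lit 1, nat_lit 3, nat_lit 6, nat_lit 2, nat_lit 0, nat_lit 5, nat_lit 3])) (.node (nat_lit 219) (.leaf ((nat_lit 210), [nat_lit 2, nat_lit 6, nat_lit 4, nat_lit 3, nat_lit 6, nat_lit 5, nat_lit 4, nat_lit 5, nat_lit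 1, nat_lit 4, nat_lit 1, nat_lit 0, nat_lit 1, nat_lit 0])) (.leaf ((nat_lit 211), [nat_lit 0, nat_lit 4, nat_lit 1, nat_lit 6, nat_lit 1, nat_lit 5, nat_lit 1, nat_lit 4, nat_lit 2]))))))))
 (.node (nat_lit 242) (.node (nat_lit 231) (.node (nat_lit 225) (.node (nat_lit 222) (.node (nat_lit 221) (.leaf ((nat_lit 212), [nat_lit 2, nat_lit 6, nat_lit 5, nat_lit 2, nat_lit 6, nat_lit 3, nat_lit 2, nat_lit 0, nat_lit 4, nat_lit 2, nat_lit 0, nat_lit 1])) (.leaf ((nat_lit 213), [nat_lit 2, nat_lit 6, nat_lit 3, nat_lit 0, nat_lit 6, nat_lit 2, nat_lit 5, nat_lit 1, nat_lit 5, nat_lit 4, nat_lit 2, nat_lit 3, nat_lit 2]))) (.node (nat_lit 223) (.leaf ((nat_lit 130), [nat_lit 5, nat_lit 0, nat_lit 4, nat_lit 2, nat_lit 6, nat_lit 4, nat_lit 2, nat_lit 3, nat_lit 2, nat_lit 4, nat_lit 1, nat_lit 0, nat_lit 2, nat_lit 0])) (.node (nat_lit 224) (.leaf ((nat_lit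 214), [nat_lit 5, nat_lit 1, nat_lit 0, nat_lit 6, nat_lit 4, nat_lit 0, nat_lit 2, nat_lit 5, nat_lit 0, nat_lit 1])) (.leaf ((nat_lit 215), [nat_lit 4, nat_lit 5, nat_lit 6, nat_lit 1, nat_lit 0, nat_lit 6, nat_lit 1, nat_lit 0, nat_lit 1, nat_lit 0, nat_lit 4, nat_lit 0, nat_lit 2, nat_lit 0])))))
 (.node (nat_lit 228) (.node (nat_lit 226) (.leaf ((nat_lit 216), [nat_lit 5, nat_lit 0, nat_lit 2, nat_lit 6, nat_lit 5, nat_lit 2, nat_lit 5, nat_lit 4, nat_lit 5, nat_lit 2, nat_lit 3, nat_lit 0])) (.node (nat_lit 227) (.leaf ((nat_lit 217), [nat_lit 6, nat_lit 1, nat_lit 3, nat_lit 6, nat_lit 2, nat_lit 4, nat_lit 5, nat_lit 2, nat_lit 3, nat_lit 2, nat_lit 0])) (.leaf ((nat_lit 218), [nat_lit 5, nat_lit 3, nat_lit 6, nat_lit 2, nat_lit 6, nat_lit 0, nat_lit 5, nat_lit 2, nat_lit 0, nat_lit 4, nat_lit 2, nat_lit 0, nat_lit 2, nat_lit 0])))) (.node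 (nat_lit 229) (.leaf ((nat_lit 219), [nat_lit 0, nat_lit 4, nat_lit 6, nat_lit 2, nat_lit 6, nat_lit 5, nat_lit 1, nat_lit 0, nat_lit 5, nat_lit 4, nat_lit 3])) (.node (nat_lit 230) (.leaf ((nat_lit 220), [nat_lit 5, nat_lit 6, nat_lit 3, nat_lit 2, nat_lit 6, nat_lit 2, nat_lit 3, nat_lit 5, nat_lit 4, nat_lit 3, nat_lit 0])) (.leaf ((nat_lit 221), [nat_lit 5, nat_lit 2, nat_lit 6, nat_lit 4, nat_lit 0, nat_lit 6, nat_lit 0, nat_lit 2, nat_lit 4, nat_lit 2, nat_lit 4]))))))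
 (.node (nat_lit 236) (.node (nat_lit 233) (.node (nat_lit 232) (.leaf ((nat_lit 222), [nat_lit 6, nat_lit 2, nat_lit 6, nat_lit 4, nat_lit 0, nat_lit 6, nat_lit 2, nat_lit 0, nat_lit 5, nat_lit 2, nat_lit 3])) (.leaf ((nat_lit 223), [nat_lit 3, nat_lit 2, nat_lit 0, nat_lit 6, nat_lit 2, nat_lit 6, nat_lit 5, nat_lit 4, nat_lit 5, nat_lit 1, nat_lit 4, nat_lit 2, nat_lit 3, nat_lit 2, nat_lit 0]))) (.node (nat_lit 234) (.leaf ((nat_lit 224), [nat_lit 4, nat_lit 2, nat_lit 6, nat_lit 3, nat_lit 0, nat_lit 6, nat_lit 4, nat_lit 2, nat_lit 0, nat_lit 2, nat_lit 4, nat_lit 1])) (.node (nat_lit 235) (.leaf ((nat_lit 225), [nat_lit 5, nat_lit 6, nat_lit 0, nat_lit 1, nat_lit 6, nat_lit 3, nat_lit 5, nat_lit 4, nat_lit 1, nat_lit 0])) (.leaf ((nat_lit 226), [nat_lit 5, nat_lit 6, nat_lit 2, nat_lit 0, nat_lit 6, nat_lit 3, nat_lit 5, nat_lit 4, nat_lit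 2, nat_lit 3, nat_lit 2])))))
 (.node (nat_lit 239) (.node (nat_lit 237) (.leaf ((nat_lit 227), [nat_lit 3, nat_lit 6, nat_lit 2, nat_lit 4, nat_lit 6, nat_lit 3, nat_lit 4, nat_lit 2, nat_lit 4, nat_lit 2, nat_lit 0, nat_lit 1])) (.node (nat_lit 238) (.leaf ((nat_lit 228), [nat_lit 6, nat_lit 4, nat_lit 5, nat_lit 4, nat_lit 6, nat_lit 3, nat_lit 4, nat_lit 0, nat_lit 4, nat_lit 0, nat_lit 1])) (.leaf ((nat_lit 229), [nat_lit 3, nat_lit 6, nat_lit 5, nat_lit 2, nat_lit 6, nat_lit 2, nat_lit 4, nat_lit 5, nat_lit 4, nat_lit 1, nat_lit 0, nat_lit 2])))) (.node (nat_lit 240) (.leaf ((nat_lit 212), [nat_lit 4, nat_lit 6, nat_lit 5, nat_lit 4, nat_lit 6, nat_lit 0, nat_lit 4, nat_lit 5])) (.node (nat_lit 241) (.leaf ((nat_lit 192), [nat_lit 6, nat_lit 2, nat_lit 5, nat_lit 6, nat_lit 2, nat_lit 6, nat_lit 4, nat_lit 1, nat_lit 4, nat_lit 1, nat_lit 3,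 nat_lit 0])) (.leaf ((nat_lit 230), [nat_lit 3, nat_lit 2, nat_lit 6, nat_lit 5, nat_lit 0, nat_lit 5, nat_lit 1, nat_lit 3, nat_lit 2])))))))
 (.node (nat_lit 253) (.node (nat_lit 247) (.node (nat_lit 244) (.node (nat_lit 243) (.leaf ((nat_lit 231), [nat_lit 2, nat_lit 4, nat_lit 6, nat_lit 2, nat_lit 6, nat_lit 1, nat_lit 4, nat_lit 2, nat_lit 3, nat_lit 4, nat_lit 2, nat_lit 3, nat_lit 2])) (.leaf ((nat_lit 232), [nat_lit 1, nat_lit 6, nat_lit 2, nat_lit 5, nat_lit 6, nat_lit 0, nat_lit 4, nat_lit 0, nat_lit 5, nat_lit 4, nat_lit 3]))) (.node (nat_lit 245) (.leaf ((nat_lit 233), [nat_lit 5, nat_lit 1, nat_lit 6, nat_lit 2, nat_lit 6, nat_lit 3, nat_lit 0, nat_lit 5, nat_lit 2, nat_lit 3, nat_lit 2])) (.node (nat_lit 246) (.leaf ((nat_lit 234), [nat_lit 0, nat_lit 6, nat_lit 2, nat_lit 3, nat_lit 6, nat_lit 2, nat_lit 4, nat_lit 5, nat_lit 3, nat_lit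 0, nat_lit 4, nat_lit 1, nat_lit 3, nat_lit 2, nat_lit 0])) (.leaf ((nat_lit 235), [nat_lit 4, nat_lit 5, nat_lit 4, nat_lit 6, nat_lit 2, nat_lit 5, nat_lit 1, nat_lit 4, nat_lit 1, nat_lit 3, nat_lit 2])))))
 (.node (nat_lit 250) (.node (nat_lit 248) (.leaf ((nat_lit 0), [nat_lit 2, nat_lit 3, nat_lit 5, nat_lit 6, nat_lit 0, nat_lit 4, nat_lit 3, nat_lit 4, nat_lit 2, nat_lit 3])) (.node (nat_lit 249) (.leaf ((nat_lit 236), [nat_lit 2, nat_lit 6, nat_lit 2, nat_lit 3, nat_lit 6, nat_lit 2, nat_lit 0, nat_lit 5, nat_lit 2, nat_lit 0, nat_lit 4, nat_lit 0, nat_lit 1, nat_lit 0])) (.leaf ((nat_lit 237), [nat_lit 4, nat_lit 5, nat_lit 6, nat_lit 4, nat_lit 1, nat_lit 0, nat_lit 6, nat_lit 1, nat_lit 5, nat_lit 0, nat_lit 2, nat_lit 4, nat_lit 2])))) (.node (nat_lit 251) (.leaf ((nat_lit 238), [nat_lit 6, nat_lit 0, nat_lit 4, nat_lit 1, nat_lit 6,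 nat_lit 3, nat_lit 0, nat_lit 4, nat_lit 5, nat_lit 2, nat_lit 3, nat_lit 2])) (.node (nat_lit 252) (.leaf ((nat_lit 239), [nat_lit 3, nat_lit 6, nat_lit 5, nat_lit 0, nat_lit 2, nat_lit 6, nat_lit 2, nat_lit 5, nat_lit 4, nat_lit 5, nat_lit 1, nat_lit 0, nat_lit 2, nat_lit 0])) (.leaf ((nat_lit 240), [nat_lit 0, nat_lit 6, nat_lit 3, nat_lit 5, nat_lit 6, nat_lit 4, nat_lit 5, nat_lit 4, nat_lit 2, nat_lit 0, nat_lit 2]))))))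
 (.node (nat_lit 258) (.node (nat_lit 255) (.node (nat_lit 254) (.leaf ((nat_lit 241), [nat_lit 3, nat_lit 5, nat_lit 0, nat_lit 6, nat_lit 2, nat_lit 4, nat_lit 1, nat_lit 0, nat_lit 4, nat_lit 0])) (.leaf ((nat_lit 242), [nat_lit 4, nat_lit 3, nat_lit 6, nat_lit 2, nat_lit 0, nat_lit 6, nat_lit 4, nat_lit 5, nat_lit 1, nat_lit 5, nat_lit 2, nat_lit 3]))) (.node (nat_lit 256) (.leaf ((nat_lit 243), [nat_lit 2, nat_lit 5, nat_lit 1, nat_lit 6, nat_lit 2, nat_lit 6, nat_lit 5, nat_lit 3, nat_lit 5, nat_lit 4, nat_lit 3, nat_lit 2, nat_lit 0])) (.node (nat_lit 257) (.leaf ((nat_lit 244), [nat_lit 2, nat_lit 6, nat_lit 2, nat_lit 4, nat_lit 2, nat_lit 6, nat_lit 1, nat_lit 4, nat_lit 5, nat_lit 0, nat_lit 1])) (.leaf ((nat_lit 245), [nat_lit 1, nat_lit 6, nat_lit 4, nat_lit 1, nat_lit 0, nat_lit 6, nat_lit 5, nat_lit 4, nat_lit 0, nat_lit 5, nat_lit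 4, nat_lit 1, nat_lit 0, nat_lit 1, nat_lit 0])))))
 (.node (nat_lit 261) (.node (nat_lit 259) (.leaf ((nat_lit 246), [nat_lit 4, nat_lit 2, nat_lit 6, nat_lit 3, nat_lit 0, nat_lit 6, nat_lit 2, nat_lit 5, nat_lit 3, nat_lit 0, nat_lit 4, nat_lit 3, nat_lit 1])) (.node (nat_lit 260) (.leaf ((nat_lit 247), [nat_lit 4, nat_lit 5, nat_lit 4, nat_lit 6, nat_lit 0, nat_lit 1, nat_lit 4, nat_lit 1, nat_lit 0, nat_lit 2])) (.leaf ((nat_lit 248), [nat_lit 2, nat_lit 6, nat_lit 0, nat_lit 1, nat_lit 6, nat_lit 3, nat_lit 5, nat_lit 1, nat_lit 0, nat_lit 4, nat_lit 1, nat_lit 3, nat_lit 0])))) (.node (nat_lit 262) (.leaf ((nat_lit 249), [nat_lit 2, nat_lit 6, nat_lit 4, nat_lit 1, nat_lit 0, nat_lit 6, nat_lit 3, nat_lit 2, nat_lit 0, nat_lit 4, nat_lit 1, nat_lit 3, nat_lit 2])) (.node (nat_lit 263) (.leaf ((nat_lit 136), [nat_lit 2, nat_lit 3, nat_lit 6,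 nat_lit 3, nat_lit 0, nat_lit 6, nat_lit 5, nat_lit 3, nat_lit 0, nat_lit 4, nat_lit 1, nat_lit 3, nat_lit 2, nat_lit 0])) (.leaf ((nat_lit 250), [nat_lit 3, nat_lit 6, nat_lit 5, nat_lit 4, nat_lit 6, nat_lit 1, nat_lit 3, nat_lit 0, nat_lit 4, nat_lit 0, nat_lit 1])))))))))
 (.node (nat_lit 308) (.node (nat_lit 286) (.node (nat_lit 275) (.node (nat_lit 269) (.node (nat_lit 266) (.node (nat_lit 265) (.leaf ((nat_lit 251), [nat_lit 4, nat_lit 6, nat_lit 3, nat_lit 5, nat_lit 0, nat_lit 6, nat_lit 3, nat_lit 5, nat_lit 1, nat_lit 5, nat_lit 2, nat_lit 0, nat_lit 1])) (.leaf ((nat_lit 252), [nat_lit 6, nat_lit 1, nat_lit 0, nat_lit 6, nat_lit 1, nat_lit 0, nat_lit 5, nat_lit 2, nat_lit 4, nat_lit 2]))) (.node (nat_lit 267) (.leaf ((nat_lit 196), [nat_lit 6, nat_lit 5, nat_lit 6, nat_lit 4, nat_lit 0, nat_lit 6, nat_lit 4, nat_lit 1, nat_lit 3, nat_lit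 4, nat_lit 1, nat_lit 0])) (.node (nat_lit 268) (.leaf ((nat_lit 253), [nat_lit 6, nat_lit 0, nat_lit 1, nat_lit 5, nat_lit 6, nat_lit 3, nat_lit 5, nat_lit 2, nat_lit 0, nat_lit 4, nat_lit 2, nat_lit 3, nat_lit 1, nat_lit 0])) (.leaf ((nat_lit 254), [nat_lit 6, nat_lit 2, nat_lit 6, nat_lit 3, nat_lit 2, nat_lit 5, nat_lit 1, nat_lit 0, nat_lit 4, nat_lit 3, nat_lit 2])))))
 (.node (nat_lit 272) (.node (nat_lit 270) (.leaf ((nat_lit 255), [nat_lit 5, nat_lit 1, nat_lit 6, nat_lit 3, nat_lit 0, nat_lit 6, nat_lit 5, nat_lit 0, nat_lit 4, nat_lit 1, nat_lit 5, nat_lit 0, nat_lit 1])) (.node (nat_lit 271) (.leaf ((nat_lit 256), [nat_lit 4, nat_lit 6, nat_lit 5, nat_lit 1, nat_lit 3, nat_lit 6, nat_lit 3, nat_lit 2, nat_lit 4, nat_lit 1, nat_lit 3, nat_lit 2, nat_lit 0])) (.leaf ((nat_lit 257), [nat_lit 6, nat_lit 5, nat_lit 4, nat_lit 6, nat_lit 2,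 nat_lit 6, nat_lit 2, nat_lit 5, nat_lit 1, nat_lit 4, nat_lit 0, nat_lit 2])))) (.node (nat_lit 273) (.leaf ((nat_lit 32), [nat_lit 1, nat_lit 0, nat_lit 6, nat_lit 2, nat_lit 6, nat_lit 3, nat_lit 2, nat_lit 4, nat_lit 2, nat_lit 4, nat_lit 3, nat_lit 2, nat_lit 0])) (.node (nat_lit 274) (.leaf ((nat_lit 258), [nat_lit 1, nat_lit 0, nat_lit 6, nat_lit 4, nat_lit 1, nat_lit 6, nat_lit 4, nat_lit 5, nat_lit 1, nat_lit 3, nat_lit 0, nat_lit 4, nat_lit 1, nat_lit 0])) (.leaf ((nat_lit 259), [nat_lit 0, nat_lit 6, nat_lit 2, nat_lit 4, nat_lit 0, nat_lit 6, nat_lit 1, nat_lit 5, nat_lit 4, nat_lit 2, nat_lit 0, nat_lit 4, nat_lit 2, nat_lit 3, nat_lit 0]))))))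
 (.node (nat_lit 280) (.node (nat_lit 277) (.node (nat_lit 276) (.leaf ((nat_lit 260), [nat_lit 6, nat_lit 5, nat_lit 4, nat_lit 6, nat_lit 1, nat_lit 5, nat_lit 2, nat_lit 4, nat_lit 3, nat_lit 1])) (.leaf ((nat_lit 261), [nat_lit 6, nat_lit 4, nat_lit 2, nat_lit 0, nat_lit 6, nat_lit 5, nat_lit 3, nat_lit 4, nat_lit 1, nat_lit 3, nat_lit 4, nat_lit 2, nat_lit 3, nat_lit 1, nat_lit 0]))) (.node (nat_lit 278) (.leaf ((nat_lit 262), [nat_lit 0, nat_lit 5, nat_lit 6, nat_lit 2, nat_lit 6, nat_lit 3, nat_lit 5, nat_lit 2, nat_lit 3, nat_lit 0])) (.node (nat_lit 279) (.leaf ((nat_lit 263), [nat_lit 0, nat_lit 6, nat_lit 5, nat_lit 6, nat_lit 3, nat_lit 6, nat_lit 0, nat_lit 1, nat_lit 4, nat_lit 0, nat_lit 4, nat_lit 2, nat_lit 3, nat_lit 2])) (.leaf ((nat_lit 264), [nat_lit 3, nat_lit 1, nat_lit 6, nat_lit 5, nat_lit 1, nat_lit 6, nat_lit 4, nat_lit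 5, nat_lit 0, nat_lit 4, nat_lit 5, nat_lit 3, nat_lit 1])))))
 (.node (nat_lit 283) (.node (nat_lit 281) (.leaf ((nat_lit 265), [nat_lit 2, nat_lit 4, nat_lit 6, nat_lit 3, nat_lit 0, nat_lit 6, nat_lit 1, nat_lit 5, nat_lit 4, nat_lit 2, nat_lit 0, nat_lit 4, nat_lit 3, nat_lit 2, nat_lit 0])) (.node (nat_lit 282) (.leaf ((nat_lit 266), [nat_lit 5, nat_lit 2, nat_lit 0, nat_lit 6, nat_lit 2, nat_lit 3, nat_lit 1, nat_lit 0, nat_lit 4, nat_lit 2, nat_lit 3, nat_lit 1, nat_lit 0])) (.leaf ((nat_lit 267), [nat_lit 5, nat_lit 1, nat_lit 3, nat_lit 6, nat_lit 2, nat_lit 4, nat_lit 5, nat_lit 0, nat_lit 4, nat_lit 3, nat_lit 2])))) (.node (nat_lit 284) (.leaf ((nat_lit 268), [nat_lit 2, nat_lit 0, nat_lit 6, nat_lit 1, nat_lit 6, nat_lit 5, nat_lit 3, nat_lit 4, nat_lit 2, nat_lit 3, nat_lit 1])) (.node (nat_lit 285) (.leaf ((nat_lit 269), [nat_lit 1,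 nat_lit 6, nat_lit 1, nat_lit 5, nat_lit 6, nat_lit 4, nat_lit 0, nat_lit 1, nat_lit 5, nat_lit 4, nat_lit 0, nat_lit 2, nat_lit 0])) (.leaf ((nat_lit 270), [nat_lit 6, nat_lit 1, nat_lit 6, nat_lit 4, nat_lit 2, nat_lit 6, nat_lit 4, nat_lit 1, nat_lit 4, nat_lit 1, nat_lit 3, nat_lit 2])))))))
 (.node (nat_lit 297) (.node (nat_lit 291) (.node (nat_lit 288) (.node (nat_lit 287) (.leaf ((nat_lit 271), [nat_lit 3, nat_lit 0, nat_lit 6, nat_lit 0, nat_lit 1, nat_lit 4, nat_lit 3, nat_lit 0, nat_lit 4, nat_lit 1, nat_lit 0, nat_lit 1])) (.leaf ((nat_lit 272), [nat_lit 3, nat_lit 4, nat_lit 6, nat_lit 4, nat_lit 1, nat_lit 6, nat_lit 4, nat_lit 5, nat_lit 1, nat_lit 3, nat_lit 4]))) (.node (nat_lit 289) (.leaf ((nat_lit 273), [nat_lit 1, nat_lit 0, nat_lit 6, nat_lit 4, nat_lit 1, nat_lit 0, nat_lit 6, nat_lit 1, nat_lit 4, nat_lit 5, nat_lit 2, nat_lit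 5, nat_lit 1, nat_lit 0])) (.node (nat_lit 290) (.leaf ((nat_lit 274), [nat_lit 2, nat_lit 3, nat_lit 6, nat_lit 3, nat_lit 0, nat_lit 6, nat_lit 4, nat_lit 5, nat_lit 3, nat_lit 0, nat_lit 4, nat_lit 1])) (.leaf ((nat_lit 275), [nat_lit 6, nat_lit 3, nat_lit 5, nat_lit 0, nat_lit 6, nat_lit 4, nat_lit 1, nat_lit 3, nat_lit 2, nat_lit 0, nat_lit 4, nat_lit 1, nat_lit 0, nat_lit 2, nat_lit 0])))))
 (.node (nat_lit 294) (.node (nat_lit 292) (.leaf ((nat_lit 276), [nat_lit 0, nat_lit 4, nat_lit 6, nat_lit 1, nat_lit 6, nat_lit 1, nat_lit 4, nat_lit 5, nat_lit 1, nat_lit 3, nat_lit 4, nat_lit 1, nat_lit 3, nat_lit 1])) (.node (nat_lit 293) (.leaf ((nat_lit 230), [nat_lit 4, nat_lit 6, nat_lit 4, nat_lit 1, nat_lit 3, nat_lit 6, nat_lit 5, nat_lit 1, nat_lit 5, nat_lit 0, nat_lit 2, nat_lit 4])) (.leaf ((nat_lit 277), [nat_lit 4, nat_lit 5, nat_lit 6,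 nat_lit 4, nat_lit 5, nat_lit 6, nat_lit 5, nat_lit 1, nat_lit 5, nat_lit 4, nat_lit 0, nat_lit 1])))) (.node (nat_lit 295) (.leaf ((nat_lit 278), [nat_lit 3, nat_lit 2, nat_lit 6, nat_lit 1, nat_lit 4, nat_lit 6, nat_lit 0, nat_lit 5, nat_lit 0, nat_lit 2])) (.node (nat_lit 296) (.leaf ((nat_lit 279), [nat_lit 5, nat_lit 2, nat_lit 6, nat_lit 0, nat_lit 4, nat_lit 6, nat_lit 4, nat_lit 5, nat_lit 4, nat_lit 5, nat_lit 2, nat_lit 3, nat_lit 1])) (.leaf ((nat_lit 280), [nat_lit 3, nat_lit 1, nat_lit 6, nat_lit 4, nat_lit 1, nat_lit 6, nat_lit 1, nat_lit 0, nat_lit 1, nat_lit 0, nat_lit 4, nat_lit 2, nat_lit 0, nat_lit 2, nat_lit 0]))))))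
 (.node (nat_lit 302) (.node (nat_lit 299) (.node (nat_lit 298) (.leaf ((nat_lit 281), [nat_lit 6, nat_lit 4, nat_lit 2, nat_lit 6, nat_lit 4, nat_lit 5, nat_lit 1, nat_lit 5, nat_lit 4, nat_lit 2, nat_lit 3, nat_lit 2])) (.leaf ((nat_lit 282), [nat_lit 5, nat_lit 6, nat_lit 1, nat_lit 0, nat_lit 6, nat_lit 5, nat_lit 2, nat_lit 5, nat_lit 3, nat_lit 4, nat_lit 1, nat_lit 3, nat_lit 1]))) (.node (nat_lit 300) (.leaf ((nat_lit 283), [nat_lit 5, nat_lit 1, nat_lit 6, nat_lit 1, nat_lit 6, nat_lit 4, nat_lit 2, nat_lit 4, nat_lit 0, nat_lit 4, nat_lit 2, nat_lit 0])) (.node (nat_lit 301) (.leaf ((nat_lit 284), [nat_lit 5, nat_lit 2, nat_lit 5, nat_lit 6, nat_lit 1, nat_lit 6, nat_lit 3, nat_lit 4, nat_lit 3, nat_lit 0])) (.leaf ((nat_lit 285), [nat_lit 5, nat_lit 3, nat_lit 6, nat_lit 1, nat_lit 6, nat_lit 4, nat_lit 0, nat_lit 5, nat_lit 2, nat_lit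 0, nat_lit 4, nat_lit 1, nat_lit 3, nat_lit 2])))))
 (.node (nat_lit 305) (.node (nat_lit 303) (.leaf ((nat_lit 286), [nat_lit 4, nat_lit 6, nat_lit 2, nat_lit 6, nat_lit 4, nat_lit 3, nat_lit 5, nat_lit 1, nat_lit 5, nat_lit 0, nat_lit 1, nat_lit 0])) (.node (nat_lit 304) (.leaf ((nat_lit 287), [nat_lit 0, nat_lit 2, nat_lit 0, nat_lit 6, nat_lit 1, nat_lit 6, nat_lit 1, nat_lit 4, nat_lit 3, nat_lit 0, nat_lit 4, nat_lit 1, nat_lit 3, nat_lit 2])) (.leaf ((nat_lit 169), [nat_lit 6, nat_lit 3, nat_lit 6, nat_lit 2, nat_lit 6, nat_lit 2, nat_lit 5, nat_lit 0, nat_lit 4, nat_lit 1, nat_lit 3, nat_lit 2])))) (.node (nat_lit 306) (.leaf ((nat_lit 154), [nat_lit 6, nat_lit 0, nat_lit 5, nat_lit 6, nat_lit 2, nat_lit 6, nat_lit 5, nat_lit 2, nat_lit 5, nat_lit 2, nat_lit 4, nat_lit 1])) (.node (nat_lit 307) (.leaf ((nat_lit 288), [nat_lit 5, nat_lit 6,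 nat_lit 1, nat_lit 4, nat_lit 5, nat_lit 6, nat_lit 1, nat_lit 3, nat_lit 2, nat_lit 4, nat_lit 2, nat_lit 0, nat_lit 2, nat_lit 0])) (.leaf ((nat_lit 289), [nat_lit 3, nat_lit 1, nat_lit 5, nat_lit 6, nat_lit 2, nat_lit 6, nat_lit 4, nat_lit 3, nat_lit 4, nat_lit 1]))))))))
 (.node (nat_lit 330) (.node (nat_lit 319) (.node (nat_lit 313) (.node (nat_lit 310) (.node (nat_lit 309) (.leaf ((nat_lit 266), [nat_lit 0, nat_lit 6, nat_lit 5, nat_lit 6, nat_lit 3, nat_lit 6, nat_lit 5, nat_lit 1, nat_lit 3, nat_lit 4, nat_lit 5, nat_lit 0])) (.leaf ((nat_lit 246), [nat_lit 6, nat_lit 1, nat_lit 4, nat_lit 1, nat_lit 3, nat_lit 6, nat_lit 4, nat_lit 1, nat_lit 3, nat_lit 0, nat_lit 4, nat_lit 0]))) (.node (nat_lit 311) (.leaf ((nat_lit 290), [nat_lit 5, nat_lit 6, nat_lit 2, nat_lit 5, nat_lit 6, nat_lit 5, nat_lit 4, nat_lit 1, nat_lit 4, nat_lit 0, nat_lit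 2])) (.node (nat_lit 312) (.leaf ((nat_lit 291), [nat_lit 2, nat_lit 5, nat_lit 1, nat_lit 6, nat_lit 2, nat_lit 6, nat_lit 2, nat_lit 0, nat_lit 4, nat_lit 5, nat_lit 1, nat_lit 0, nat_lit 2, nat_lit 0])) (.leaf ((nat_lit 292), [nat_lit 5, nat_lit 6, nat_lit 3, nat_lit 5, nat_lit 0, nat_lit 6, nat_lit 4, nat_lit 5, nat_lit 0, nat_lit 4, nat_lit 5, nat_lit 1, nat_lit 3])))))
 (.node (nat_lit 316) (.node (nat_lit 314) (.leaf ((nat_lit 293), [nat_lit 6, nat_lit 0, nat_lit 5, nat_lit 6, nat_lit 2, nat_lit 6, nat_lit 1, nat_lit 3, nat_lit 1, nat_lit 0, nat_lit 4, nat_lit 2, nat_lit 0, nat_lit 2])) (.node (nat_lit 315) (.leaf ((nat_lit 294), [nat_lit 5, nat_lit 6, nat_lit 1, nat_lit 5, nat_lit 6, nat_lit 5, nat_lit 0, nat_lit 4, nat_lit 5, nat_lit 1, nat_lit 3, nat_lit 2, nat_lit 0])) (.leaf ((nat_lit 295), [nat_lit 1, nat_lit 6, nat_lit 4, nat_lit 1,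 nat_lit 6, nat_lit 3, nat_lit 0, nat_lit 4, nat_lit 1, nat_lit 4, nat_lit 3, nat_lit 1])))) (.node (nat_lit 317) (.leaf ((nat_lit 296), [nat_lit 0, nat_lit 6, nat_lit 1, nat_lit 4, nat_lit 6, nat_lit 4, nat_lit 1, nat_lit 0])) (.node (nat_lit 318) (.leaf ((nat_lit 297), [nat_lit 0, nat_lit 6, nat_lit 2, nat_lit 4, nat_lit 0, nat_lit 6, nat_lit 2, nat_lit 0, nat_lit 1, nat_lit 0, nat_lit 4, nat_lit 1, nat_lit 3])) (.leaf ((nat_lit 298), [nat_lit 3, nat_lit 5, nat_lit 0, nat_lit 6, nat_lit 2, nat_lit 5, nat_lit 1, nat_lit 3, nat_lit 0]))))))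
 (.node (nat_lit 324) (.node (nat_lit 321) (.node (nat_lit 320) (.leaf ((nat_lit 299), [nat_lit 4, nat_lit 6, nat_lit 0, nat_lit 2, nat_lit 6, nat_lit 0, nat_lit 1, nat_lit 0, nat_lit 4, nat_lit 2, nat_lit 0])) (.leaf ((nat_lit 300), [nat_lit 3, nat_lit 6, nat_lit 2, nat_lit 5, nat_lit 0, nat_lit 4, nat_lit 2, nat_lit 0, nat_lit 2]))) (.node (nat_lit 322) (.leaf ((nat_lit 301), [nat_lit 6, nat_lit 5, nat_lit 1, nat_lit 4, nat_lit 6, nat_lit 5, nat_lit 1, nat_lit 3, nat_lit 0, nat_lit 4, nat_lit 0, nat_lit 2])) (.node (nat_lit 323) (.leaf ((nat_lit 302), [nat_lit 4, nat_lit 2, nat_lit 6, nat_lit 3, nat_lit 2, nat_lit 6, nat_lit 1, nat_lit 3, nat_lit 2, nat_lit 0, nat_lit 4, nat_lit 1])) (.leaf ((nat_lit 303), [nat_lit 1, nat_lit 6, nat_lit 5, nat_lit 2, nat_lit 6, nat_lit 2, nat_lit 0, nat_lit 2, nat_lit 4, nat_lit 1, nat_lit 3])))))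
 (.node (nat_lit 327) (.node (nat_lit 325) (.leaf ((nat_lit 304), [nat_lit 2, nat_lit 6, nat_lit 3, nat_lit 4, nat_lit 6, nat_lit 5, nat_lit 1, nat_lit 4, nat_lit 5, nat_lit 0, nat_lit 4])) (.node (nat_lit 326) (.leaf ((nat_lit 305), [nat_lit 4, nat_lit 0, nat_lit 4, nat_lit 6, nat_lit 2, nat_lit 6, nat_lit 0, nat_lit 4, nat_lit 3, nat_lit 4, nat_lit 2, nat_lit 0])) (.leaf ((nat_lit 306), [nat_lit 6, nat_lit 5, nat_lit 1, nat_lit 3, nat_lit 2, nat_lit 4, nat_lit 2, nat_lit 3, nat_lit 1, nat_lit 0])))) (.node (nat_lit 328) (.leaf ((nat_lit 307), [nat_lit 5, nat_lit 6, nat_lit 0, nat_lit 1, nat_lit 6, nat_lit 4, nat_lit 5, nat_lit 4, nat_lit 3, nat_lit 2, nat_lit 0])) (.node (nat_lit 329) (.leaf ((nat_lit 121), [nat_lit 5, nat_lit 6, nat_lit 0, nat_lit 4, nat_lit 6, nat_lit 0, nat_lit 1, nat_lit 4, nat_lit 3, nat_lit 5, nat_lit 2, nat_lit 0, nat_lit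 2, nat_lit 0])) (.leaf ((nat_lit 308), [nat_lit 2, nat_lit 4, nat_lit 6, nat_lit 5, nat_lit 1, nat_lit 6, nat_lit 2, nat_lit 4, nat_lit 5, nat_lit 2, nat_lit 5, nat_lit 1, nat_lit 0, nat_lit 1, nat_lit 0])))))))
 (.node (nat_lit 341) (.node (nat_lit 335) (.node (nat_lit 332) (.node (nat_lit 331) (.leaf ((nat_lit 309), [nat_lit 5, nat_lit 6, nat_lit 3, nat_lit 6, nat_lit 2, nat_lit 6, nat_lit 4, nat_lit 3, nat_lit 5, nat_lit 1, nat_lit 0, nat_lit 4, nat_lit 2])) (.leaf ((nat_lit 310), [nat_lit 0, nat_lit 4, nat_lit 6, nat_lit 1, nat_lit 6, nat_lit 2, nat_lit 5, nat_lit 2, nat_lit 3, nat_lit 2]))) (.node (nat_lit 333) (.leaf ((nat_lit 311), [nat_lit 6, nat_lit 0, nat_lit 5, nat_lit 3, nat_lit 6, nat_lit 1, nat_lit 5, nat_lit 2, nat_lit 5, nat_lit 1, nat_lit 3, nat_lit 1])) (.node (nat_lit 334) (.leaf ((nat_lit 261), [nat_lit 6, nat_lit 2, nat_lit 5,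 nat_lit 6, nat_lit 0, nat_lit 2, nat_lit 4, nat_lit 2, nat_lit 4, nat_lit 3, nat_lit 1])) (.leaf ((nat_lit 312), [nat_lit 5, nat_lit 4, nat_lit 6, nat_lit 5, nat_lit 2, nat_lit 6, nat_lit 5, nat_lit 2, nat_lit 0, nat_lit 2, nat_lit 0, nat_lit 4, nat_lit 0, nat_lit 2, nat_lit 0])))))
 (.node (nat_lit 338) (.node (nat_lit 336) (.leaf ((nat_lit 313), [nat_lit 0, nat_lit 6, nat_lit 1, nat_lit 0, nat_lit 6, nat_lit 2, nat_lit 5, nat_lit 2, nat_lit 0, nat_lit 4, nat_lit 1, nat_lit 0, nat_lit 2, nat_lit 0])) (.node (nat_lit 337) (.leaf ((nat_lit 314), [nat_lit 3, nat_lit 6, nat_lit 5, nat_lit 2, nat_lit 6, nat_lit 5, nat_lit 4, nat_lit 5, nat_lit 0, nat_lit 4, nat_lit 3])) (.leaf ((nat_lit 269), [nat_lit 5, nat_lit 6, nat_lit 2, nat_lit 3, nat_lit 6, nat_lit 0, nat_lit 4, nat_lit 3, nat_lit 5, nat_lit 1, nat_lit 3, nat_lit 2])))) (.node (nat_lit 339) (.leaf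 ((nat_lit 315), [nat_lit 3, nat_lit 6, nat_lit 5, nat_lit 1, nat_lit 6, nat_lit 3, nat_lit 4, nat_lit 2, nat_lit 0, nat_lit 2, nat_lit 4, nat_lit 2])) (.node (nat_lit 340) (.leaf ((nat_lit 316), [nat_lit 1, nat_lit 3, nat_lit 0, nat_lit 6, nat_lit 4, nat_lit 5, nat_lit 1, nat_lit 3, nat_lit 4, nat_lit 1, nat_lit 0])) (.leaf ((nat_lit 317), [nat_lit 5, nat_lit 6, nat_lit 0, nat_lit 1, nat_lit 6, nat_lit 5, nat_lit 3, nat_lit 0, nat_lit 5, nat_lit 0, nat_lit 2]))))))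
 (.node (nat_lit 346) (.node (nat_lit 343) (.node (nat_lit 342) (.leaf ((nat_lit 170), [nat_lit 4, nat_lit 6, nat_lit 2, nat_lit 3, nat_lit 6, nat_lit 1, nat_lit 4, nat_lit 2, nat_lit 3])) (.leaf ((nat_lit 318), [nat_lit 2, nat_lit 4, nat_lit 2, nat_lit 0, nat_lit 6, nat_lit 2, nat_lit 4, nat_lit 5, nat_lit 4, nat_lit 0, nat_lit 5, nat_lit 1, nat_lit 3, nat_lit 1, nat_lit 0]))) (.node (nat_lit 344) (.leaf ((nat_lit 319), [nat_lit 5, nat_lit 3, nat_lit 5, nat_lit 6, nat_lit 2, nat_lit 6, nat_lit 5, nat_lit 3, nat_lit 2, nat_lit 5, nat_lit 4, nat_lit 1, nat_lit 0, nat_lit 1])) (.node (nat_lit 345) (.leaf ((nat_lit 320), [nat_lit 5, nat_lit 6, nat_lit 1, nat_lit 5, nat_lit 6, nat_lit 4, nat_lit 5, nat_lit 3, nat_lit 4, nat_lit 2, nat_lit 0, nat_lit 1, nat_lit 0])) (.leaf ((nat_lit 321), [nat_lit 4, nat_lit 6, nat_lit 2, nat_lit 3, nat_lit 6, nat_lit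 3, nat_lit 4, nat_lit 0, nat_lit 2, nat_lit 5, nat_lit 2, nat_lit 3])))))
 (.node (nat_lit 349) (.node (nat_lit 347) (.leaf ((nat_lit 322), [nat_lit 5, nat_lit 2, nat_lit 6, nat_lit 1, nat_lit 0, nat_lit 6, nat_lit 2, nat_lit 4, nat_lit 1, nat_lit 4, nat_lit 0, nat_lit 2, nat_lit 0])) (.node (nat_lit 348) (.leaf ((nat_lit 323), [nat_lit 6, nat_lit 4, nat_lit 0, nat_lit 6, nat_lit 1, nat_lit 6, nat_lit 4, nat_lit 3, nat_lit 5, nat_lit 3, nat_lit 4, nat_lit 0, nat_lit 1, nat_lit 0])) (.leaf ((nat_lit 324), [nat_lit 4, nat_lit 3, nat_lit 6, nat_lit 5, nat_lit 1, nat_lit 6, nat_lit 5, nat_lit 0, nat_lit 4, nat_lit 0, nat_lit 1])))) (.node (nat_lit 350) (.leaf ((nat_lit 325), [nat_lit 6, nat_lit 1, nat_lit 4, nat_lit 1, nat_lit 3, nat_lit 6, nat_lit 2, nat_lit 5, nat_lit 1, nat_lit 4, nat_lit 1, nat_lit 3, nat_lit 1, nat_lit 0])) (.node (nat_lit 351)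 (.leaf ((nat_lit 326), [nat_lit 5, nat_lit 6, nat_lit 0, nat_lit 5, nat_lit 3, nat_lit 6, nat_lit 5, nat_lit 0, nat_lit 4, nat_lit 1, nat_lit 5, nat_lit 1, nat_lit 0, nat_lit 1])) (.leaf ((nat_lit 327), [nat_lit 0, nat_lit 6, nat_lit 4, nat_lit 3, nat_lit 6, nat_lit 5, nat_lit 2, nat_lit 0, nat_lit 2, nat_lit 4, nat_lit 1, nat_lit 0, nat_lit 1]))))))))))
noncomputable def rWd_2 : Tr (ℕ × List ℕ) := (.node (nat_lit 440) (.node (nat_lit 396) (.node (nat_lit 374) (.node (nat_lit 363) (.node (nat_lit 357) (.node (nat_lit 354) (.node (nat_lit 353) (.leaf ((nat_lit 328), [nat_lit 5, nat_lit 6, nat_lit 2, nat_lit 0, nat_lit 2, nat_lit 6, nat_lit 1, nat_lit 5, nat_lit 2, nat_lit 4, nat_lit 1, nat_lit 3])) (.leaf ((nat_lit 329), [nat_lit 5, nat_lit 6, nat_lit 4, nat_lit 1, nat_lit 0, nat_lit 6, nat_lit 0, nat_lit 1, nat_lit 5, nat_lit 4, nat_lit 2, nat_lit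 3, nat_lit 1]))) (.node (nat_lit 355) (.leaf ((nat_lit 330), [nat_lit 5, nat_lit 4, nat_lit 5, nat_lit 6, nat_lit 4, nat_lit 0, nat_lit 6, nat_lit 0, nat_lit 1, nat_lit 4, nat_lit 3, nat_lit 0, nat_lit 4, nat_lit 2, nat_lit 0])) (.node (nat_lit 356) (.leaf ((nat_lit 331), [nat_lit 3, nat_lit 6, nat_lit 5, nat_lit 1, nat_lit 5, nat_lit 4, nat_lit 0, nat_lit 2])) (.leaf ((nat_lit 332), [nat_lit 4, nat_lit 6, nat_lit 5, nat_lit 4, nat_lit 6, nat_lit 2, nat_lit 5, nat_lit 0, nat_lit 2, nat_lit 4])))))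
 (.node (nat_lit 360) (.node (nat_lit 358) (.leaf ((nat_lit 333), [nat_lit 1, nat_lit 6, nat_lit 4, nat_lit 5, nat_lit 6, nat_lit 4, nat_lit 3, nat_lit 1, nat_lit 5, nat_lit 4, nat_lit 3])) (.node (nat_lit 359) (.leaf ((nat_lit 334), [nat_lit 0, nat_lit 4, nat_lit 0, nat_lit 6, nat_lit 5, nat_lit 2, nat_lit 0, nat_lit 5, nat_lit 4, nat_lit 3, nat_lit 1, nat_lit 0])) (.leaf ((nat_lit 335), [nat_lit 6, nat_lit 4, nat_lit 5, nat_lit 4, nat_lit 6, nat_lit 5, nat_lit 0, nat_lit 4, nat_lit 1, nat_lit 4, nat_lit 1, nat_lit 0])))) (.node (nat_lit 361) (.leaf ((nat_lit 336), [nat_lit 6, nat_lit 0, nat_lit 5, nat_lit 6, nat_lit 2, nat_lit 6, nat_lit 4, nat_lit 1, nat_lit 4, nat_lit 2, nat_lit 4, nat_lit 3, nat_lit 2])) (.node (nat_lit 362) (.leaf ((nat_lit 1), [nat_lit 6, nat_lit 1, nat_lit 3, nat_lit 5, nat_lit 6, nat_lit 2, nat_lit 4, nat_lit 5, nat_lit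 3, nat_lit 2, nat_lit 0])) (.leaf ((nat_lit 337), [nat_lit 0, nat_lit 4, nat_lit 1, nat_lit 6, nat_lit 2, nat_lit 0, nat_lit 2, nat_lit 4, nat_lit 2, nat_lit 4, nat_lit 3, nat_lit 1]))))))
 (.node (nat_lit 368) (.node (nat_lit 365) (.node (nat_lit 364) (.leaf ((nat_lit 338), [nat_lit 6, nat_lit 4, nat_lit 2, nat_lit 3, nat_lit 6, nat_lit 3, nat_lit 5, nat_lit 1, nat_lit 5, nat_lit 2, nat_lit 0, nat_lit 2, nat_lit 0])) (.leaf ((nat_lit 339), [nat_lit 5, nat_lit 6, nat_lit 4, nat_lit 1, nat_lit 0, nat_lit 6, nat_lit 0, nat_lit 4, nat_lit 1, nat_lit 4, nat_lit 3, nat_lit 1, nat_lit 0]))) (.node (nat_lit 366) (.leaf ((nat_lit 340), [nat_lit 4, nat_lit 6, nat_lit 4, nat_lit 2, nat_lit 0, nat_lit 6, nat_lit 1, nat_lit 3, nat_lit 0, nat_lit 4, nat_lit 0, nat_lit 1])) (.node (nat_lit 367) (.leaf ((nat_lit 341), [nat_lit 6, nat_lit 0, nat_lit 4, nat_lit 5,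 nat_lit 6, nat_lit 3, nat_lit 1, nat_lit 5, nat_lit 3, nat_lit 4, nat_lit 0, nat_lit 2, nat_lit 0])) (.leaf ((nat_lit 342), [nat_lit 5, nat_lit 0, nat_lit 4, nat_lit 2, nat_lit 6, nat_lit 0, nat_lit 4, nat_lit 5, nat_lit 0, nat_lit 2, nat_lit 0])))))
 (.node (nat_lit 371) (.node (nat_lit 369) (.leaf ((nat_lit 343), [nat_lit 2, nat_lit 4, nat_lit 1, nat_lit 6, nat_lit 2, nat_lit 4, nat_lit 3, nat_lit 5, nat_lit 4, nat_lit 2])) (.node (nat_lit 370) (.leaf ((nat_lit 344), [nat_lit 4, nat_lit 3, nat_lit 6, nat_lit 2, nat_lit 6, nat_lit 5, nat_lit 2, nat_lit 0, nat_lit 2, nat_lit 4, nat_lit 1, nat_lit 0, nat_lit 2])) (.leaf ((nat_lit 345), [nat_lit 6, nat_lit 0, nat_lit 1, nat_lit 5, nat_lit 6, nat_lit 5, nat_lit 3, nat_lit 0, nat_lit 4, nat_lit 1, nat_lit 0, nat_lit 2])))) (.node (nat_lit 372) (.leaf ((nat_lit 346), [nat_lit 1, nat_lit 4, nat_lit 2,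 nat_lit 6, nat_lit 1, nat_lit 0, nat_lit 1, nat_lit 4, nat_lit 2, nat_lit 3, nat_lit 0])) (.node (nat_lit 373) (.leaf ((nat_lit 347), [nat_lit 6, nat_lit 0, nat_lit 4, nat_lit 1, nat_lit 6, nat_lit 1, nat_lit 0, nat_lit 5, nat_lit 4, nat_lit 0])) (.leaf ((nat_lit 348), [nat_lit 3, nat_lit 5, nat_lit 0, nat_lit 6, nat_lit 4, nat_lit 3, nat_lit 5, nat_lit 4, nat_lit 2, nat_lit 0])))))))
 (.node (nat_lit 385) (.node (nat_lit 379) (.node (nat_lit 376) (.node (nat_lit 375) (.leaf ((nat_lit 349), [nat_lit 4, nat_lit 2, nat_lit 0, nat_lit 6, nat_lit 2, nat_lit 6, nat_lit 2, nat_lit 4, nat_lit 3, nat_lit 5, nat_lit 4, nat_lit 3, nat_lit 1])) (.leaf ((nat_lit 110), [nat_lit 4, nat_lit 6, nat_lit 4, nat_lit 0, nat_lit 2, nat_lit 6, nat_lit 1, nat_lit 5, nat_lit 2, nat_lit 5]))) (.node (nat_lit 377) (.leaf ((nat_lit 350), [nat_lit 1, nat_lit 0, nat_lit 6, nat_lit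 2, nat_lit 6, nat_lit 1, nat_lit 5, nat_lit 1, nat_lit 0, nat_lit 4, nat_lit 1, nat_lit 0])) (.node (nat_lit 378) (.leaf ((nat_lit 351), [nat_lit 5, nat_lit 0, nat_lit 6, nat_lit 1, nat_lit 6, nat_lit 3, nat_lit 5, nat_lit 4, nat_lit 3, nat_lit 4, nat_lit 1, nat_lit 3, nat_lit 2])) (.leaf ((nat_lit 237), [nat_lit 3, nat_lit 1, nat_lit 5, nat_lit 3, nat_lit 4, nat_lit 0, nat_lit 2])))))
 (.node (nat_lit 382) (.node (nat_lit 380) (.leaf ((nat_lit 352), [nat_lit 0, nat_lit 6, nat_lit 5, nat_lit 4, nat_lit 6, nat_lit 1, nat_lit 4, nat_lit 5, nat_lit 2, nat_lit 5, nat_lit 1, nat_lit 0])) (.node (nat_lit 381) (.leaf ((nat_lit 353), [nat_lit 0, nat_lit 6, nat_lit 5, nat_lit 2, nat_lit 6, nat_lit 4, nat_lit 0, nat_lit 2, nat_lit 4, nat_lit 2, nat_lit 0, nat_lit 1])) (.leaf ((nat_lit 354), [nat_lit 5, nat_lit 1, nat_lit 0, nat_lit 6, nat_lit 2, nat_lit 6,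 nat_lit 1, nat_lit 5, nat_lit 2, nat_lit 0, nat_lit 4, nat_lit 2, nat_lit 0, nat_lit 2])))) (.node (nat_lit 383) (.leaf ((nat_lit 355), [nat_lit 4, nat_lit 1, nat_lit 6, nat_lit 3, nat_lit 0, nat_lit 6, nat_lit 5, nat_lit 4, nat_lit 5, nat_lit 0, nat_lit 4, nat_lit 2, nat_lit 0])) (.node (nat_lit 384) (.leaf ((nat_lit 356), [nat_lit 2, nat_lit 3, nat_lit 6, nat_lit 2, nat_lit 6, nat_lit 4, nat_lit 2, nat_lit 4, nat_lit 0, nat_lit 4, nat_lit 2, nat_lit 3, nat_lit 1, nat_lit 0])) (.leaf ((nat_lit 105), [nat_lit 0, nat_lit 2, nat_lit 6, nat_lit 2, nat_lit 3, nat_lit 6, nat_lit 4, nat_lit 2, nat_lit 3]))))))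
 (.node (nat_lit 390) (.node (nat_lit 387) (.node (nat_lit 386) (.leaf ((nat_lit 357), [nat_lit 0, nat_lit 4, nat_lit 2, nat_lit 6, nat_lit 3, nat_lit 2, nat_lit 6, nat_lit 1, nat_lit 4, nat_lit 5, nat_lit 1, nat_lit 4, nat_lit 2, nat_lit 0, nat_lit 2, nat_lit 0])) (.leaf ((nat_lit 358), [nat_lit 5, nat_lit 6, nat_lit 1, nat_lit 4, nat_lit 5, nat_lit 6, nat_lit 4, nat_lit 0, nat_lit 2, nat_lit 5, nat_lit 1, nat_lit 3, nat_lit 2]))) (.node (nat_lit 388) (.leaf ((nat_lit 359), [nat_lit 0, nat_lit 2, nat_lit 6, nat_lit 1, nat_lit 5, nat_lit 2, nat_lit 5, nat_lit 1, nat_lit 3, nat_lit 2])) (.node (nat_lit 389) (.leaf ((nat_lit 360), [nat_lit 6, nat_lit 3, nat_lit 2, nat_lit 5, nat_lit 6, nat_lit 5, nat_lit 4, nat_lit 5, nat_lit 0, nat_lit 4, nat_lit 1, nat_lit 3, nat_lit 2])) (.leaf ((nat_lit 361), [nat_lit 2, nat_lit 5, nat_lit 0, nat_lit 6, nat_lit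 4, nat_lit 5, nat_lit 4, nat_lit 0, nat_lit 5, nat_lit 1, nat_lit 0, nat_lit 2, nat_lit 0])))))
 (.node (nat_lit 393) (.node (nat_lit 391) (.leaf ((nat_lit 362), [nat_lit 2, nat_lit 5, nat_lit 0, nat_lit 6, nat_lit 5, nat_lit 2, nat_lit 3, nat_lit 2, nat_lit 4, nat_lit 2, nat_lit 0, nat_lit 1, nat_lit 0])) (.node (nat_lit 392) (.leaf ((nat_lit 363), [nat_lit 2, nat_lit 5, nat_lit 6, nat_lit 1, nat_lit 6, nat_lit 2, nat_lit 4, nat_lit 2, nat_lit 0, nat_lit 4, nat_lit 2, nat_lit 3])) (.leaf ((nat_lit 276), [nat_lit 3, nat_lit 1, nat_lit 6, nat_lit 5, nat_lit 1, nat_lit 6, nat_lit 4, nat_lit 1, nat_lit 5, nat_lit 2, nat_lit 5, nat_lit 2, nat_lit 0])))) (.node (nat_lit 394) (.leaf ((nat_lit 364), [nat_lit 0, nat_lit 6, nat_lit 5, nat_lit 2, nat_lit 4, nat_lit 6, nat_lit 0, nat_lit 5, nat_lit 4, nat_lit 3, nat_lit 4, nat_lit 0, nat_lit 1])) (.node (nat_lit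 395) (.leaf ((nat_lit 365), [nat_lit 1, nat_lit 6, nat_lit 1, nat_lit 5, nat_lit 6, nat_lit 0, nat_lit 5, nat_lit 4, nat_lit 3, nat_lit 4, nat_lit 1, nat_lit 0, nat_lit 2])) (.leaf ((nat_lit 366), [nat_lit 3, nat_lit 6, nat_lit 4, nat_lit 1, nat_lit 0, nat_lit 6, nat_lit 2, nat_lit 3, nat_lit 4, nat_lit 5, nat_lit 1, nat_lit 0]))))))))
 (.node (nat_lit 418) (.node (nat_lit 407) (.node (nat_lit 401) (.node (nat_lit 398) (.node (nat_lit 397) (.leaf ((nat_lit 367), [nat_lit 5, nat_lit 1, nat_lit 6, nat_lit 2, nat_lit 6, nat_lit 1, nat_lit 4, nat_lit 1, nat_lit 0, nat_lit 4, nat_lit 3, nat_lit 2])) (.leaf ((nat_lit 368), [nat_lit 5, nat_lit 4, nat_lit 1, nat_lit 6, nat_lit 2, nat_lit 5, nat_lit 4, nat_lit 5, nat_lit 2, nat_lit 3]))) (.node (nat_lit 399) (.leaf ((nat_lit 369), [nat_lit 6, nat_lit 5, nat_lit 1, nat_lit 3, nat_lit 6, nat_lit 1, nat_lit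 4, nat_lit 2, nat_lit 4, nat_lit 2, nat_lit 0, nat_lit 1, nat_lit 0])) (.node (nat_lit 400) (.leaf ((nat_lit 370), [nat_lit 5, nat_lit 1, nat_lit 5, nat_lit 6, nat_lit 5, nat_lit 1, nat_lit 0, nat_lit 4, nat_lit 3, nat_lit 1])) (.leaf ((nat_lit 371), [nat_lit 4, nat_lit 6, nat_lit 3, nat_lit 5, nat_lit 0, nat_lit 6, nat_lit 1, nat_lit 5, nat_lit 2, nat_lit 5, nat_lit 2, nat_lit 0, nat_lit 2, nat_lit 0])))))
 (.node (nat_lit 404) (.node (nat_lit 402) (.leaf ((nat_lit 372), [nat_lit 6, nat_lit 5, nat_lit 1, nat_lit 5, nat_lit 6, nat_lit 5, nat_lit 2, nat_lit 3, nat_lit 2, nat_lit 4, nat_lit 2, nat_lit 3])) (.node (nat_lit 403) (.leaf ((nat_lit 373), [nat_lit 6, nat_lit 5, nat_lit 1, nat_lit 4, nat_lit 6, nat_lit 5, nat_lit 4, nat_lit 5, nat_lit 1, nat_lit 0, nat_lit 2, nat_lit 0])) (.leaf ((nat_lit 374), [nat_lit 0, nat_lit 6, nat_lit 2, nat_lit 5,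 nat_lit 3, nat_lit 6, nat_lit 1, nat_lit 5, nat_lit 4, nat_lit 2, nat_lit 3, nat_lit 2, nat_lit 0])))) (.node (nat_lit 405) (.leaf ((nat_lit 375), [nat_lit 1, nat_lit 4, nat_lit 1, nat_lit 6, nat_lit 3, nat_lit 4, nat_lit 3, nat_lit 0, nat_lit 5, nat_lit 0])) (.node (nat_lit 406) (.leaf ((nat_lit 376), [nat_lit 0, nat_lit 5, nat_lit 6, nat_lit 1, nat_lit 6, nat_lit 5, nat_lit 1, nat_lit 4, nat_lit 3, nat_lit 5, nat_lit 2, nat_lit 3, nat_lit 2, nat_lit 0])) (.leaf ((nat_lit 377), [nat_lit 6, nat_lit 0, nat_lit 5, nat_lit 3, nat_lit 6, nat_lit 1, nat_lit 4, nat_lit 0, nat_lit 4, nat_lit 3, nat_lit 0]))))))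
 (.node (nat_lit 412) (.node (nat_lit 409) (.node (nat_lit 408) (.leaf ((nat_lit 378), [nat_lit 5, nat_lit 3, nat_lit 5, nat_lit 6, nat_lit 2, nat_lit 6, nat_lit 5, nat_lit 1, nat_lit 3, nat_lit 4, nat_lit 5, nat_lit 3])) (.leaf ((nat_lit 379), [nat_lit 3, nat_lit 1, nat_lit 6, nat_lit 3, nat_lit 0, nat_lit 6, nat_lit 0, nat_lit 1, nat_lit 4, nat_lit 1, nat_lit 5, nat_lit 3, nat_lit 0]))) (.node (nat_lit 410) (.leaf ((nat_lit 380), [nat_lit 0, nat_lit 6, nat_lit 2, nat_lit 0, nat_lit 6, nat_lit 5, nat_lit 1, nat_lit 3, nat_lit 4, nat_lit 2])) (.node (nat_lit 411) (.leaf ((nat_lit 381), [nat_lit 6, nat_lit 1, nat_lit 6, nat_lit 4, nat_lit 2, nat_lit 6, nat_lit 5, nat_lit 4, nat_lit 2, nat_lit 5, nat_lit 1, nat_lit 3, nat_lit 0])) (.leaf ((nat_lit 382), [nat_lit 6, nat_lit 2, nat_lit 4, nat_lit 3, nat_lit 6, nat_lit 3, nat_lit 2, nat_lit 4, nat_lit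 2, nat_lit 0, nat_lit 4, nat_lit 2, nat_lit 3])))))
 (.node (nat_lit 415) (.node (nat_lit 413) (.leaf ((nat_lit 383), [nat_lit 1, nat_lit 0, nat_lit 6, nat_lit 5, nat_lit 2, nat_lit 6, nat_lit 4, nat_lit 2, nat_lit 4, nat_lit 3, nat_lit 4, nat_lit 1, nat_lit 0, nat_lit 1, nat_lit 0])) (.node (nat_lit 414) (.leaf ((nat_lit 384), [nat_lit 1, nat_lit 4, nat_lit 6, nat_lit 2, nat_lit 3, nat_lit 6, nat_lit 0, nat_lit 4, nat_lit 1, nat_lit 0, nat_lit 4, nat_lit 3, nat_lit 2])) (.leaf ((nat_lit 385), [nat_lit 5, nat_lit 0, nat_lit 6, nat_lit 2, nat_lit 6, nat_lit 3, nat_lit 4, nat_lit 5, nat_lit 0])))) (.node (nat_lit 416) (.leaf ((nat_lit 386), [nat_lit 5, nat_lit 6, nat_lit 5, nat_lit 1, nat_lit 6, nat_lit 3, nat_lit 2, nat_lit 5, nat_lit 4, nat_lit 2, nat_lit 3, nat_lit 2, nat_lit 0])) (.node (nat_lit 417) (.leaf ((nat_lit 387), [nat_lit 2, nat_lit 5,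 nat_lit 3, nat_lit 6, nat_lit 3, nat_lit 4, nat_lit 0, nat_lit 5, nat_lit 1, nat_lit 0, nat_lit 1, nat_lit 0])) (.leaf ((nat_lit 388), [nat_lit 4, nat_lit 0, nat_lit 5, nat_lit 3, nat_lit 6, nat_lit 5, nat_lit 0, nat_lit 4, nat_lit 0, nat_lit 1, nat_lit 0])))))))
 (.node (nat_lit 429) (.node (nat_lit 423) (.node (nat_lit 420) (.node (nat_lit 419) (.leaf ((nat_lit 389), [nat_lit 4, nat_lit 5, nat_lit 6, nat_lit 4, nat_lit 1, nat_lit 6, nat_lit 0, nat_lit 1, nat_lit 5, nat_lit 3, nat_lit 4, nat_lit 2, nat_lit 3, nat_lit 1])) (.leaf ((nat_lit 390), [nat_lit 1, nat_lit 6, nat_lit 3, nat_lit 0, nat_lit 6, nat_lit 5, nat_lit 0, nat_lit 2, nat_lit 0, nat_lit 4, nat_lit 1, nat_lit 0, nat_lit 2]))) (.node (nat_lit 421) (.leaf ((nat_lit 391), [nat_lit 2, nat_lit 4, nat_lit 6, nat_lit 4, nat_lit 1, nat_lit 6, nat_lit 4, nat_lit 1, nat_lit 4, nat_lit 3, nat_lit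 0, nat_lit 4, nat_lit 2, nat_lit 3, nat_lit 2])) (.node (nat_lit 422) (.leaf ((nat_lit 392), [nat_lit 1, nat_lit 6, nat_lit 2, nat_lit 5, nat_lit 6, nat_lit 1, nat_lit 4, nat_lit 1, nat_lit 4, nat_lit 3, nat_lit 1, nat_lit 0])) (.leaf ((nat_lit 393), [nat_lit 5, nat_lit 6, nat_lit 2, nat_lit 4, nat_lit 3, nat_lit 6, nat_lit 4, nat_lit 2, nat_lit 0, nat_lit 4, nat_lit 5, nat_lit 2, nat_lit 0, nat_lit 2, nat_lit 0])))))
 (.node (nat_lit 426) (.node (nat_lit 424) (.leaf ((nat_lit 394), [nat_lit 3, nat_lit 0, nat_lit 6, nat_lit 1, nat_lit 5, nat_lit 6, nat_lit 0, nat_lit 4, nat_lit 3, nat_lit 4, nat_lit 1, nat_lit 3, nat_lit 2])) (.node (nat_lit 425) (.leaf ((nat_lit 395), [nat_lit 3, nat_lit 6, nat_lit 4, nat_lit 1, nat_lit 0, nat_lit 6, nat_lit 3, nat_lit 4, nat_lit 5, nat_lit 2, nat_lit 3, nat_lit 1, nat_lit 0])) (.leaf ((nat_lit 396), [nat_lit 4,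 nat_lit 0, nat_lit 6, nat_lit 2, nat_lit 6, nat_lit 5, nat_lit 2, nat_lit 5, nat_lit 2, nat_lit 0, nat_lit 2, nat_lit 0])))) (.node (nat_lit 427) (.leaf ((nat_lit 397), [nat_lit 2, nat_lit 4, nat_lit 6, nat_lit 1, nat_lit 5, nat_lit 2, nat_lit 4, nat_lit 3, nat_lit 1])) (.node (nat_lit 428) (.leaf ((nat_lit 398), [nat_lit 4, nat_lit 6, nat_lit 4, nat_lit 5, nat_lit 4, nat_lit 6, nat_lit 5, nat_lit 2, nat_lit 0, nat_lit 2, nat_lit 0, nat_lit 4, nat_lit 1, nat_lit 3, nat_lit 0])) (.leaf ((nat_lit 399), [nat_lit 6, nat_lit 4, nat_lit 2, nat_lit 3, nat_lit 6, nat_lit 5, nat_lit 3, nat_lit 4, nat_lit 1, nat_lit 3, nat_lit 4, nat_lit 2, nat_lit 0, nat_lit 2]))))))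
 (.node (nat_lit 434) (.node (nat_lit 431) (.node (nat_lit 430) (.leaf ((nat_lit 400), [nat_lit 0, nat_lit 6, nat_lit 4, nat_lit 1, nat_lit 6, nat_lit 2, nat_lit 4, nat_lit 5, nat_lit 0, nat_lit 4, nat_lit 0, nat_lit 2, nat_lit 0])) (.leaf ((nat_lit 401), [nat_lit 4, nat_lit 3, nat_lit 6, nat_lit 2, nat_lit 6, nat_lit 4, nat_lit 2, nat_lit 0, nat_lit 4, nat_lit 5, nat_lit 2, nat_lit 0, nat_lit 2]))) (.node (nat_lit 432) (.leaf ((nat_lit 402), [nat_lit 5, nat_lit 6, nat_lit 1, nat_lit 5, nat_lit 2, nat_lit 0, nat_lit 5, nat_lit 2, nat_lit 3, nat_lit 1])) (.node (nat_lit 433) (.leaf ((nat_lit 403), [nat_lit 0, nat_lit 1, nat_lit 4, nat_lit 6, nat_lit 4, nat_lit 1, nat_lit 3, nat_lit 4, nat_lit 1, nat_lit 0])) (.leaf ((nat_lit 404), [nat_lit 1, nat_lit 4, nat_lit 3, nat_lit 6, nat_lit 3, nat_lit 2, nat_lit 4, nat_lit 2, nat_lit 0, nat_lit 4, nat_lit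 2, nat_lit 0, nat_lit 2])))))
 (.node (nat_lit 437) (.node (nat_lit 435) (.leaf ((nat_lit 258), [nat_lit 6, nat_lit 5, nat_lit 6, nat_lit 1, nat_lit 3, nat_lit 5, nat_lit 4, nat_lit 1, nat_lit 3, nat_lit 1, nat_lit 0])) (.node (nat_lit 436) (.leaf ((nat_lit 405), [nat_lit 3, nat_lit 6, nat_lit 2, nat_lit 5, nat_lit 6, nat_lit 5, nat_lit 0, nat_lit 2, nat_lit 4, nat_lit 3, nat_lit 1, nat_lit 0])) (.leaf ((nat_lit 406), [nat_lit 5, nat_lit 6, nat_lit 3, nat_lit 2, nat_lit 6, nat_lit 0, nat_lit 4, nat_lit 0, nat_lit 5, nat_lit 3, nat_lit 0])))) (.node (nat_lit 438) (.leaf ((nat_lit 407), [nat_lit 2, nat_lit 5, nat_lit 6, nat_lit 1, nat_lit 6, nat_lit 2, nat_lit 3, nat_lit 0, nat_lit 4, nat_lit 0, nat_lit 2])) (.node (nat_lit 439) (.leaf ((nat_lit 408), [nat_lit 0, nat_lit 2, nat_lit 6, nat_lit 5, nat_lit 2, nat_lit 0, nat_lit 6, nat_lit 3, nat_lit 4,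 nat_lit 2, nat_lit 4, nat_lit 3, nat_lit 0])) (.leaf ((nat_lit 409), [nat_lit 3, nat_lit 6, nat_lit 2, nat_lit 3, nat_lit 6, nat_lit 4, nat_lit 2, nat_lit 0, nat_lit 2, nat_lit 4, nat_lit 1, nat_lit 3, nat_lit 2])))))))))
 (.node (nat_lit 484) (.node (nat_lit 462) (.node (nat_lit 451) (.node (nat_lit 445) (.node (nat_lit 442) (.node (nat_lit 441) (.leaf ((nat_lit 410), [nat_lit 5, nat_lit 4, nat_lit 5, nat_lit 6, nat_lit 4, nat_lit 0, nat_lit 6, nat_lit 5, nat_lit 4, nat_lit 5, nat_lit 4, nat_lit 2, nat_lit 0, nat_lit 2, nat_lit 0])) (.leaf ((nat_lit 411), [nat_lit 4, nat_lit 5, nat_lit 2, nat_lit 6, nat_lit 2, nat_lit 6, nat_lit 5, nat_lit 4, nat_lit 2, nat_lit 0, nat_lit 4, nat_lit 1, nat_lit 0, nat_lit 2]))) (.node (nat_lit 443) (.leaf ((nat_lit 412), [nat_lit 4, nat_lit 0, nat_lit 6, nat_lit 1, nat_lit 6, nat_lit 4, nat_lit 3, nat_lit 0, nat_lit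 4, nat_lit 3])) (.node (nat_lit 444) (.leaf ((nat_lit 413), [nat_lit 4, nat_lit 6, nat_lit 4, nat_lit 1, nat_lit 3, nat_lit 6, nat_lit 5, nat_lit 2, nat_lit 3, nat_lit 4, nat_lit 3, nat_lit 2])) (.leaf ((nat_lit 414), [nat_lit 0, nat_lit 6, nat_lit 3, nat_lit 5, nat_lit 0, nat_lit 6, nat_lit 3, nat_lit 2, nat_lit 4, nat_lit 1, nat_lit 0, nat_lit 2, nat_lit 0])))))
 (.node (nat_lit 448) (.node (nat_lit 446) (.leaf ((nat_lit 415), [nat_lit 3, nat_lit 6, nat_lit 2, nat_lit 6, nat_lit 4, nat_lit 5, nat_lit 1, nat_lit 4, nat_lit 3, nat_lit 0])) (.node (nat_lit 447) (.leaf ((nat_lit 208), [nat_lit 6, nat_lit 3, nat_lit 0, nat_lit 4, nat_lit 6, nat_lit 0, nat_lit 5, nat_lit 2, nat_lit 5, nat_lit 1, nat_lit 3, nat_lit 0])) (.leaf ((nat_lit 416), [nat_lit 4, nat_lit 2, nat_lit 6, nat_lit 3, nat_lit 0, nat_lit 6, nat_lit 0, nat_lit 4, nat_lit 3, nat_lit 4,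 nat_lit 1, nat_lit 3, nat_lit 1])))) (.node (nat_lit 449) (.leaf ((nat_lit 417), [nat_lit 4, nat_lit 3, nat_lit 6, nat_lit 0, nat_lit 2, nat_lit 0])) (.node (nat_lit 450) (.leaf ((nat_lit 418), [nat_lit 6, nat_lit 4, nat_lit 0, nat_lit 5, nat_lit 3, nat_lit 6, nat_lit 5, nat_lit 1, nat_lit 3, nat_lit 0, nat_lit 4, nat_lit 1, nat_lit 3, nat_lit 2])) (.leaf ((nat_lit 419), [nat_lit 1, nat_lit 4, nat_lit 6, nat_lit 1, nat_lit 6, nat_lit 2, nat_lit 5, nat_lit 3, nat_lit 1, nat_lit 0]))))))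
 (.node (nat_lit 456) (.node (nat_lit 453) (.node (nat_lit 452) (.leaf ((nat_lit 420), [nat_lit 0, nat_lit 1, nat_lit 0, nat_lit 6, nat_lit 2, nat_lit 6, nat_lit 1, nat_lit 0, nat_lit 5, nat_lit 2, nat_lit 4, nat_lit 1, nat_lit 3])) (.leaf ((nat_lit 421), [nat_lit 6, nat_lit 2, nat_lit 4, nat_lit 6, nat_lit 0, nat_lit 2, nat_lit 5, nat_lit 3, nat_lit 4, nat_lit 1, nat_lit 0, nat_lit 2]))) (.node (nat_lit 454) (.leaf ((nat_lit 74), [nat_lit 4, nat_lit 0, nat_lit 6, nat_lit 1, nat_lit 0, nat_lit 4, nat_lit 2, nat_lit 0, nat_lit 1, nat_lit 0])) (.node (nat_lit 455) (.leaf ((nat_lit 422), [nat_lit 6, nat_lit 1, nat_lit 4, nat_lit 1, nat_lit 3, nat_lit 6, nat_lit 0, nat_lit 2, nat_lit 5, nat_lit 0, nat_lit 1])) (.leaf ((nat_lit 423), [nat_lit 0, nat_lit 2, nat_lit 6, nat_lit 4, nat_lit 0, nat_lit 6, nat_lit 3, nat_lit 5, nat_lit 3, nat_lit 2, nat_lit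 0])))))
 (.node (nat_lit 459) (.node (nat_lit 457) (.leaf ((nat_lit 424), [nat_lit 6, nat_lit 2, nat_lit 6, nat_lit 3, nat_lit 2, nat_lit 6, nat_lit 2, nat_lit 4, nat_lit 3, nat_lit 2, nat_lit 4, nat_lit 2, nat_lit 0, nat_lit 1, nat_lit 0])) (.node (nat_lit 458) (.leaf ((nat_lit 425), [nat_lit 3, nat_lit 6, nat_lit 1, nat_lit 6, nat_lit 0, nat_lit 1, nat_lit 4, nat_lit 2, nat_lit 0, nat_lit 1, nat_lit 0])) (.leaf ((nat_lit 426), [nat_lit 6, nat_lit 1, nat_lit 6, nat_lit 1, nat_lit 0, nat_lit 6, nat_lit 5, nat_lit 3, nat_lit 0, nat_lit 4, nat_lit 2])))) (.node (nat_lit 460) (.leaf ((nat_lit 427), [nat_lit 4, nat_lit 0, nat_lit 2, nat_lit 6, nat_lit 3, nat_lit 4, nat_lit 3, nat_lit 0, nat_lit 5, nat_lit 2, nat_lit 0, nat_lit 1])) (.node (nat_lit 461) (.leaf ((nat_lit 428), [nat_lit 5, nat_lit 4, nat_lit 6, nat_lit 2, nat_lit 6, nat_lit 0, nat_lit 4,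 nat_lit 0, nat_lit 4, nat_lit 3, nat_lit 2, nat_lit 0])) (.leaf ((nat_lit 429), [nat_lit 0, nat_lit 4, nat_lit 0, nat_lit 6, nat_lit 1, nat_lit 5, nat_lit 2, nat_lit 0, nat_lit 4, nat_lit 3, nat_lit 2, nat_lit 0])))))))
 (.node (nat_lit 473) (.node (nat_lit 467) (.node (nat_lit 464) (.node (nat_lit 463) (.leaf ((nat_lit 430), [nat_lit 6, nat_lit 2, nat_lit 4, nat_lit 3, nat_lit 6, nat_lit 4, nat_lit 1, nat_lit 3, nat_lit 0, nat_lit 4, nat_lit 2, nat_lit 0, nat_lit 1, nat_lit 0])) (.leaf ((nat_lit 278), [nat_lit 5, nat_lit 6, nat_lit 4, nat_lit 1, nat_lit 6, nat_lit 1, nat_lit 4, nat_lit 1, nat_lit 4, nat_lit 2, nat_lit 0]))) (.node (nat_lit 465) (.leaf ((nat_lit 92), [nat_lit 5, nat_lit 3, nat_lit 5, nat_lit 6, nat_lit 2, nat_lit 6, nat_lit 3, nat_lit 0, nat_lit 4, nat_lit 1, nat_lit 5, nat_lit 1, nat_lit 3, nat_lit 0])) (.node (nat_lit 466) (.leaf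 ((nat_lit 431), [nat_lit 2, nat_lit 5, nat_lit 6, nat_lit 1, nat_lit 0, nat_lit 6, nat_lit 5, nat_lit 1, nat_lit 4, nat_lit 5, nat_lit 0, nat_lit 4, nat_lit 2, nat_lit 3, nat_lit 1, nat_lit 0])) (.leaf ((nat_lit 432), [nat_lit 4, nat_lit 6, nat_lit 5, nat_lit 2, nat_lit 0, nat_lit 6, nat_lit 4, nat_lit 3, nat_lit 5, nat_lit 3, nat_lit 1])))))
 (.node (nat_lit 470) (.node (nat_lit 468) (.leaf ((nat_lit 265), [nat_lit 6, nat_lit 4, nat_lit 1, nat_lit 6, nat_lit 1, nat_lit 0, nat_lit 5, nat_lit 4, nat_lit 1, nat_lit 0, nat_lit 2])) (.node (nat_lit 469) (.leaf ((nat_lit 200), [nat_lit 4, nat_lit 1, nat_lit 6, nat_lit 2, nat_lit 6, nat_lit 2, nat_lit 4, nat_lit 1, nat_lit 3, nat_lit 4, nat_lit 1, nat_lit 3])) (.leaf ((nat_lit 89), [nat_lit 6, nat_lit 2, nat_lit 6, nat_lit 4, nat_lit 0, nat_lit 6, nat_lit 3, nat_lit 5, nat_lit 3, nat_lit 4, nat_lit 1,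 nat_lit 3, nat_lit 2])))) (.node (nat_lit 471) (.leaf ((nat_lit 433), [nat_lit 2, nat_lit 3, nat_lit 6, nat_lit 2, nat_lit 4, nat_lit 1, nat_lit 4, nat_lit 0, nat_lit 1, nat_lit 0])) (.node (nat_lit 472) (.leaf ((nat_lit 95), [nat_lit 6, nat_lit 5, nat_lit 2, nat_lit 4, nat_lit 6, nat_lit 0, nat_lit 5, nat_lit 2, nat_lit 5, nat_lit 0])) (.leaf ((nat_lit 434), [nat_lit 3, nat_lit 2, nat_lit 6, nat_lit 4, nat_lit 1, nat_lit 6, nat_lit 4, nat_lit 0, nat_lit 5, nat_lit 4, nat_lit 1, nat_lit 0, nat_lit 1]))))))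
 (.node (nat_lit 478) (.node (nat_lit 475) (.node (nat_lit 474) (.leaf ((nat_lit 435), [nat_lit 6, nat_lit 4, nat_lit 1, nat_lit 5, nat_lit 6, nat_lit 4, nat_lit 5, nat_lit 1, nat_lit 5, nat_lit 4, nat_lit 2, nat_lit 3, nat_lit 2, nat_lit 0])) (.leaf ((nat_lit 436), [nat_lit 0, nat_lit 6, nat_lit 3, nat_lit 5, nat_lit 0, nat_lit 6, nat_lit 2, nat_lit 0, nat_lit 2, nat_lit 4, nat_lit 1, nat_lit 0]))) (.node (nat_lit 476) (.leaf ((nat_lit 437), [nat_lit 2, nat_lit 6, nat_lit 5, nat_lit 0, nat_lit 2, nat_lit 6, nat_lit 3, nat_lit 0, nat_lit 4, nat_lit 5, nat_lit 2, nat_lit 0, nat_lit 2, nat_lit 0])) (.node (nat_lit 477) (.leaf ((nat_lit 438), [nat_lit 5, nat_lit 1, nat_lit 4, nat_lit 6, nat_lit 5, nat_lit 4, nat_lit 3, nat_lit 4, nat_lit 2, nat_lit 3])) (.leaf ((nat_lit 439), [nat_lit 3, nat_lit 5, nat_lit 3, nat_lit 6, nat_lit 2, nat_lit 4, nat_lit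 5, nat_lit 4, nat_lit 0, nat_lit 5, nat_lit 1, nat_lit 0, nat_lit 2, nat_lit 0])))))
 (.node (nat_lit 481) (.node (nat_lit 479) (.leaf ((nat_lit 440), [nat_lit 4, nat_lit 2, nat_lit 0, nat_lit 6, nat_lit 2, nat_lit 6, nat_lit 1, nat_lit 0, nat_lit 2, nat_lit 4, nat_lit 1, nat_lit 3, nat_lit 1, nat_lit 0])) (.node (nat_lit 480) (.leaf ((nat_lit 441), [nat_lit 0, nat_lit 6, nat_lit 3, nat_lit 5, nat_lit 6, nat_lit 2, nat_lit 4, nat_lit 1, nat_lit 4, nat_lit 2, nat_lit 3])) (.leaf ((nat_lit 442), [nat_lit 3, nat_lit 6, nat_lit 4, nat_lit 1, nat_lit 0, nat_lit 6, nat_lit 3, nat_lit 4, nat_lit 3, nat_lit 0, nat_lit 5])))) (.node (nat_lit 482) (.leaf ((nat_lit 443), [nat_lit 3, nat_lit 6, nat_lit 5, nat_lit 1, nat_lit 6, nat_lit 1, nat_lit 3, nat_lit 2, nat_lit 4, nat_lit 1, nat_lit 0, nat_lit 2])) (.node (nat_lit 483) (.leaf ((nat_lit 444), [nat_lit 3,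 nat_lit 4, nat_lit 3, nat_lit 6, nat_lit 2, nat_lit 6, nat_lit 1, nat_lit 5, nat_lit 4, nat_lit 5, nat_lit 1, nat_lit 3, nat_lit 2])) (.leaf ((nat_lit 445), [nat_lit 0, nat_lit 5, nat_lit 6, nat_lit 1, nat_lit 6, nat_lit 1, nat_lit 4, nat_lit 2, nat_lit 4, nat_lit 2, nat_lit 3, nat_lit 1, nat_lit 0]))))))))
 (.node (nat_lit 506) (.node (nat_lit 495) (.node (nat_lit 489) (.node (nat_lit 486) (.node (nat_lit 485) (.leaf ((nat_lit 446), [nat_lit 3, nat_lit 6, nat_lit 2, nat_lit 5, nat_lit 6, nat_lit 4, nat_lit 2, nat_lit 3, nat_lit 1])) (.leaf ((nat_lit 447), [nat_lit 2, nat_lit 6, nat_lit 2, nat_lit 5, nat_lit 6, nat_lit 5, nat_lit 1, nat_lit 4, nat_lit 1, nat_lit 3, nat_lit 0]))) (.node (nat_lit 487) (.leaf ((nat_lit 448), [nat_lit 5, nat_lit 2, nat_lit 6, nat_lit 1, nat_lit 0, nat_lit 6, nat_lit 2, nat_lit 3, nat_lit 5, nat_lit 4, nat_lit 3, nat_lit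 1])) (.node (nat_lit 488) (.leaf ((nat_lit 449), [nat_lit 2, nat_lit 4, nat_lit 0, nat_lit 6, nat_lit 5, nat_lit 1, nat_lit 0, nat_lit 5, nat_lit 4, nat_lit 1, nat_lit 3, nat_lit 0])) (.leaf ((nat_lit 450), [nat_lit 4, nat_lit 1, nat_lit 3, nat_lit 6, nat_lit 5, nat_lit 1, nat_lit 3, nat_lit 2, nat_lit 4, nat_lit 1, nat_lit 0])))))
 (.node (nat_lit 492) (.node (nat_lit 490) (.leaf ((nat_lit 451), [nat_lit 1, nat_lit 3, nat_lit 6, nat_lit 1, nat_lit 6, nat_lit 1, nat_lit 0, nat_lit 4, nat_lit 0, nat_lit 4])) (.node (nat_lit 491) (.leaf ((nat_lit 452), [nat_lit 5, nat_lit 6, nat_lit 0, nat_lit 5, nat_lit 3, nat_lit 6, nat_lit 3, nat_lit 2, nat_lit 4, nat_lit 2, nat_lit 4, nat_lit 1, nat_lit 3])) (.leaf ((nat_lit 3), [nat_lit 5, nat_lit 6, nat_lit 4, nat_lit 1, nat_lit 6, nat_lit 5, nat_lit 4, nat_lit 0, nat_lit 5, nat_lit 4, nat_lit 1, nat_lit 3, nat_lit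 2, nat_lit 0])))) (.node (nat_lit 493) (.leaf ((nat_lit 453), [nat_lit 6, nat_lit 5, nat_lit 4, nat_lit 6, nat_lit 2, nat_lit 6, nat_lit 1, nat_lit 4, nat_lit 3, nat_lit 0, nat_lit 4, nat_lit 2, nat_lit 3, nat_lit 1, nat_lit 0])) (.node (nat_lit 494) (.leaf ((nat_lit 454), [nat_lit 4, nat_lit 2, nat_lit 6, nat_lit 1, nat_lit 4, nat_lit 5, nat_lit 0, nat_lit 1, nat_lit 0])) (.leaf ((nat_lit 455), [nat_lit 6, nat_lit 4, nat_lit 1, nat_lit 6, nat_lit 2, nat_lit 6, nat_lit 1, nat_lit 5, nat_lit 2, nat_lit 0, nat_lit 4, nat_lit 1, nat_lit 3, nat_lit 2, nat_lit 0]))))))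
 (.node (nat_lit 500) (.node (nat_lit 497) (.node (nat_lit 496) (.leaf ((nat_lit 456), [nat_lit 6, nat_lit 2, nat_lit 5, nat_lit 6, nat_lit 5, nat_lit 3, nat_lit 5, nat_lit 4, nat_lit 1, nat_lit 3, nat_lit 2])) (.leaf ((nat_lit 457), [nat_lit 4, nat_lit 3, nat_lit 6, nat_lit 2, nat_lit 6, nat_lit 3, nat_lit 2, nat_lit 4, nat_lit 2, nat_lit 4, nat_lit 0, nat_lit 2, nat_lit 0]))) (.node (nat_lit 498) (.leaf ((nat_lit 458), [nat_lit 3, nat_lit 4, nat_lit 6, nat_lit 4, nat_lit 1, nat_lit 6, nat_lit 0, nat_lit 4, nat_lit 0, nat_lit 4, nat_lit 2, nat_lit 0, nat_lit 1])) (.node (nat_lit 499) (.leaf ((nat_lit 14), [nat_lit 5, nat_lit 4, nat_lit 6, nat_lit 2, nat_lit 6, nat_lit 2, nat_lit 3, nat_lit 4, nat_lit 1, nat_lit 0, nat_lit 1])) (.leaf ((nat_lit 459), [nat_lit 0, nat_lit 2, nat_lit 5, nat_lit 0, nat_lit 6, nat_lit 2, nat_lit 5, nat_lit 4, nat_lit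 5, nat_lit 2, nat_lit 3, nat_lit 2])))))
 (.node (nat_lit 503) (.node (nat_lit 501) (.leaf ((nat_lit 460), [nat_lit 5, nat_lit 6, nat_lit 1, nat_lit 3, nat_lit 6, nat_lit 5, nat_lit 2, nat_lit 0, nat_lit 2, nat_lit 0, nat_lit 4])) (.node (nat_lit 502) (.leaf ((nat_lit 461), [nat_lit 6, nat_lit 5, nat_lit 1, nat_lit 4, nat_lit 6, nat_lit 0, nat_lit 2, nat_lit 4, nat_lit 1, nat_lit 4, nat_lit 3, nat_lit 2, nat_lit 0])) (.leaf ((nat_lit 462), [nat_lit 5, nat_lit 0, nat_lit 2, nat_lit 6, nat_lit 1, nat_lit 6, nat_lit 3, nat_lit 5, nat_lit 3, nat_lit 4, nat_lit 2, nat_lit 3, nat_lit 0])))) (.node (nat_lit 504) (.leaf ((nat_lit 463), [nat_lit 6, nat_lit 4, nat_lit 5, nat_lit 6, nat_lit 3, nat_lit 5, nat_lit 2, nat_lit 4, nat_lit 1, nat_lit 3, nat_lit 0])) (.node (nat_lit 505) (.leaf ((nat_lit 464), [nat_lit 6, nat_lit 3, nat_lit 6, nat_lit 2, nat_lit 6,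 nat_lit 0, nat_lit 1, nat_lit 4, nat_lit 3, nat_lit 0, nat_lit 4, nat_lit 3, nat_lit 1, nat_lit 0])) (.leaf ((nat_lit 330), [nat_lit 1, nat_lit 4, nat_lit 6, nat_lit 1, nat_lit 0, nat_lit 6, nat_lit 2, nat_lit 5, nat_lit 1, nat_lit 5, nat_lit 4, nat_lit 1, nat_lit 0, nat_lit 2])))))))
 (.node (nat_lit 517) (.node (nat_lit 511) (.node (nat_lit 508) (.node (nat_lit 507) (.leaf ((nat_lit 465), [nat_lit 2, nat_lit 5, nat_lit 3, nat_lit 6, nat_lit 4, nat_lit 0, nat_lit 6, nat_lit 4, nat_lit 5, nat_lit 0, nat_lit 4, nat_lit 5, nat_lit 1, nat_lit 3, nat_lit 0])) (.leaf ((nat_lit 466), [nat_lit 6, nat_lit 1, nat_lit 6, nat_lit 0, nat_lit 2, nat_lit 6, nat_lit 0, nat_lit 4, nat_lit 5, nat_lit 0, nat_lit 4, nat_lit 0, nat_lit 1, nat_lit 0]))) (.node (nat_lit 509) (.leaf ((nat_lit 467), [nat_lit 5, nat_lit 2, nat_lit 6, nat_lit 3, nat_lit 2, nat_lit 6, nat_lit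 0, nat_lit 5, nat_lit 1, nat_lit 3, nat_lit 2])) (.node (nat_lit 510) (.leaf ((nat_lit 468), [nat_lit 4, nat_lit 2, nat_lit 6, nat_lit 2, nat_lit 0, nat_lit 6, nat_lit 3, nat_lit 2, nat_lit 5, nat_lit 1, nat_lit 0, nat_lit 4, nat_lit 1, nat_lit 0, nat_lit 2, nat_lit 0])) (.leaf ((nat_lit 469), [nat_lit 5, nat_lit 6, nat_lit 2, nat_lit 6, nat_lit 0, nat_lit 4, nat_lit 5, nat_lit 1, nat_lit 4, nat_lit 1, nat_lit 3, nat_lit 2, nat_lit 0])))))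
 (.node (nat_lit 514) (.node (nat_lit 512) (.leaf ((nat_lit 470), [nat_lit 4, nat_lit 0, nat_lit 6, nat_lit 2, nat_lit 0, nat_lit 6, nat_lit 4, nat_lit 3, nat_lit 5, nat_lit 0, nat_lit 1, nat_lit 0])) (.node (nat_lit 513) (.leaf ((nat_lit 471), [nat_lit 1, nat_lit 6, nat_lit 5, nat_lit 2, nat_lit 0, nat_lit 6, nat_lit 4, nat_lit 5, nat_lit 4, nat_lit 0, nat_lit 5, nat_lit 3, nat_lit 2])) (.leaf ((nat_lit 373), [nat_lit 6, nat_lit 2, nat_lit 5, nat_lit 6, nat_lit 4, nat_lit 5, nat_lit 4, nat_lit 2, nat_lit 0])))) (.node (nat_lit 515) (.leaf ((nat_lit 361), [nat_lit 1, nat_lit 6, nat_lit 2, nat_lit 0, nat_lit 6, nat_lit 3, nat_lit 0, nat_lit 4, nat_lit 1, nat_lit 5, nat_lit 3, nat_lit 1])) (.node (nat_lit 516) (.leaf ((nat_lit 350), [nat_lit 3, nat_lit 0, nat_lit 6, nat_lit 1, nat_lit 6, nat_lit 2, nat_lit 4, nat_lit 1, nat_lit 4, nat_lit 2, nat_lit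 0, nat_lit 1, nat_lit 0])) (.leaf ((nat_lit 472), [nat_lit 6, nat_lit 4, nat_lit 1, nat_lit 0, nat_lit 6, nat_lit 4, nat_lit 5, nat_lit 4, nat_lit 5, nat_lit 1, nat_lit 0, nat_lit 1, nat_lit 0]))))))
 (.node (nat_lit 522) (.node (nat_lit 519) (.node (nat_lit 518) (.leaf ((nat_lit 473), [nat_lit 1, nat_lit 6, nat_lit 4, nat_lit 1, nat_lit 6, nat_lit 5, nat_lit 4, nat_lit 0, nat_lit 2, nat_lit 4, nat_lit 3, nat_lit 1, nat_lit 0])) (.leaf ((nat_lit 474), [nat_lit 4, nat_lit 0, nat_lit 5, nat_lit 3, nat_lit 6, nat_lit 4, nat_lit 0, nat_lit 2, nat_lit 5, nat_lit 2, nat_lit 0, nat_lit 2]))) (.node (nat_lit 520) (.leaf ((nat_lit 475), [nat_lit 6, nat_lit 3, nat_lit 5, nat_lit 3, nat_lit 6, nat_lit 4, nat_lit 1, nat_lit 3, nat_lit 4, nat_lit 3, nat_lit 0])) (.node (nat_lit 521) (.leaf ((nat_lit 257), [nat_lit 0, nat_lit 1, nat_lit 5, nat_lit 6, nat_lit 2,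 nat_lit 6, nat_lit 5, nat_lit 1, nat_lit 0, nat_lit 5, nat_lit 4, nat_lit 3, nat_lit 1, nat_lit 0])) (.leaf ((nat_lit 371), [nat_lit 5, nat_lit 2, nat_lit 6, nat_lit 2, nat_lit 6, nat_lit 4, nat_lit 1, nat_lit 4, nat_lit 3, nat_lit 0, nat_lit 4, nat_lit 1, nat_lit 3, nat_lit 1])))))
 (.node (nat_lit 525) (.node (nat_lit 523) (.leaf ((nat_lit 476), [nat_lit 4, nat_lit 0, nat_lit 6, nat_lit 0, nat_lit 2, nat_lit 6, nat_lit 5, nat_lit 3, nat_lit 5, nat_lit 4, nat_lit 1, nat_lit 0, nat_lit 1, nat_lit 0])) (.node (nat_lit 524) (.leaf ((nat_lit 477), [nat_lit 0, nat_lit 6, nat_lit 4, nat_lit 1, nat_lit 0, nat_lit 6, nat_lit 3, nat_lit 4, nat_lit 5])) (.leaf ((nat_lit 478), [nat_lit 5, nat_lit 6, nat_lit 0, nat_lit 4, nat_lit 6, nat_lit 4, nat_lit 1, nat_lit 3, nat_lit 0, nat_lit 4, nat_lit 2, nat_lit 3, nat_lit 2, nat_lit 0])))) (.node (nat_lit 526) (.leaf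 ((nat_lit 479), [nat_lit 0, nat_lit 1, nat_lit 6, nat_lit 5, nat_lit 4, nat_lit 5])) (.node (nat_lit 527) (.leaf ((nat_lit 44), [nat_lit 1, nat_lit 6, nat_lit 1, nat_lit 5, nat_lit 6, nat_lit 3, nat_lit 2, nat_lit 5, nat_lit 3, nat_lit 4, nat_lit 0, nat_lit 1])) (.leaf ((nat_lit 480), [nat_lit 0, nat_lit 2, nat_lit 6, nat_lit 1, nat_lit 6, nat_lit 2, nat_lit 5, nat_lit 2, nat_lit 0, nat_lit 4, nat_lit 2, nat_lit 3, nat_lit 1]))))))))))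
noncomputable def rWd_3 : Tr (ℕ × List ℕ) := (.node (nat_lit 616) (.node (nat_lit 572) (.node (nat_lit 550) (.node (nat_lit 539) (.node (nat_lit 533) (.node (nat_lit 530) (.node (nat_lit 529) (.leaf ((nat_lit 481), [nat_lit 3, nat_lit 1, nat_lit 6, nat_lit 1, nat_lit 6, nat_lit 4, nat_lit 0, nat_lit 2, nat_lit 5, nat_lit 0, nat_lit 2, nat_lit 0])) (.leaf ((nat_lit 482), [nat_lit 3, nat_lit 6, nat_lit 0, nat_lit 4, nat_lit 6, nat_lit 2, nat_lit 4, nat_lit 2, nat_lit 0, nat_lit 1]))) (.node (nat_lit 531) (.leaf ((nat_lit 483), [nat_lit 5, nat_lit 1, nat_lit 6, nat_lit 2, nat_lit 4, nat_lit 6, nat_lit 3, nat_lit 4, nat_lit 2, nat_lit 4, nat_lit 3, nat_lit 1, nat_lit 0])) (.node (nat_lit 532) (.leaf ((nat_lit 484), [nat_lit 6, nat_lit 1, nat_lit 4, nat_lit 3, nat_lit 6, nat_lit 0, nat_lit 5, nat_lit 2, nat_lit 4, nat_lit 1, nat_lit 3, nat_lit 2, nat_lit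 0])) (.leaf ((nat_lit 151), [nat_lit 2, nat_lit 4, nat_lit 6, nat_lit 4, nat_lit 1, nat_lit 6, nat_lit 3, nat_lit 0, nat_lit 4, nat_lit 2, nat_lit 0, nat_lit 1, nat_lit 0])))))
 (.node (nat_lit 536) (.node (nat_lit 534) (.leaf ((nat_lit 485), [nat_lit 4, nat_lit 6, nat_lit 4, nat_lit 2, nat_lit 6, nat_lit 2, nat_lit 5, nat_lit 3, nat_lit 4, nat_lit 2])) (.node (nat_lit 535) (.leaf ((nat_lit 486), [nat_lit 0, nat_lit 6, nat_lit 5, nat_lit 6, nat_lit 3, nat_lit 6, nat_lit 1, nat_lit 4, nat_lit 1, nat_lit 0, nat_lit 4, nat_lit 1, nat_lit 0, nat_lit 2])) (.leaf ((nat_lit 487), [nat_lit 5, nat_lit 6, nat_lit 2, nat_lit 3, nat_lit 6, nat_lit 3, nat_lit 4, nat_lit 0, nat_lit 4, nat_lit 2, nat_lit 0])))) (.node (nat_lit 537) (.leaf ((nat_lit 488), [nat_lit 5, nat_lit 1, nat_lit 3, nat_lit 6, nat_lit 5, nat_lit 1, nat_lit 5, nat_lit 3, nat_lit 4, nat_lit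 2, nat_lit 3, nat_lit 2, nat_lit 0])) (.node (nat_lit 538) (.leaf ((nat_lit 489), [nat_lit 4, nat_lit 1, nat_lit 6, nat_lit 4, nat_lit 2, nat_lit 4, nat_lit 1, nat_lit 4, nat_lit 1, nat_lit 0, nat_lit 2, nat_lit 0])) (.leaf ((nat_lit 490), [nat_lit 4, nat_lit 2, nat_lit 6, nat_lit 4, nat_lit 2, nat_lit 6, nat_lit 5, nat_lit 2, nat_lit 0, nat_lit 2, nat_lit 4, nat_lit 1]))))))
 (.node (nat_lit 544) (.node (nat_lit 541) (.node (nat_lit 540) (.leaf ((nat_lit 491), [nat_lit 2, nat_lit 5, nat_lit 6, nat_lit 4, nat_lit 0, nat_lit 6, nat_lit 0, nat_lit 4, nat_lit 5, nat_lit 4, nat_lit 3, nat_lit 1])) (.leaf ((nat_lit 492), [nat_lit 6, nat_lit 4, nat_lit 0, nat_lit 5, nat_lit 3, nat_lit 6, nat_lit 5, nat_lit 2, nat_lit 5, nat_lit 4, nat_lit 5, nat_lit 3, nat_lit 2, nat_lit 0]))) (.node (nat_lit 542) (.leaf ((nat_lit 493), [nat_lit 5, nat_lit 4, nat_lit 5,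 nat_lit 6, nat_lit 2, nat_lit 6, nat_lit 5, nat_lit 3, nat_lit 0, nat_lit 4, nat_lit 3, nat_lit 2])) (.node (nat_lit 543) (.leaf ((nat_lit 494), [nat_lit 0, nat_lit 2, nat_lit 6, nat_lit 5, nat_lit 2, nat_lit 0, nat_lit 6, nat_lit 2, nat_lit 0, nat_lit 4, nat_lit 3, nat_lit 0])) (.leaf ((nat_lit 495), [nat_lit 0, nat_lit 4, nat_lit 2, nat_lit 6, nat_lit 3, nat_lit 2, nat_lit 6, nat_lit 5, nat_lit 4, nat_lit 5, nat_lit 2, nat_lit 3])))))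
 (.node (nat_lit 547) (.node (nat_lit 545) (.leaf ((nat_lit 496), [nat_lit 0, nat_lit 6, nat_lit 1, nat_lit 0, nat_lit 5, nat_lit 4, nat_lit 2, nat_lit 3, nat_lit 1])) (.node (nat_lit 546) (.leaf ((nat_lit 311), [nat_lit 2, nat_lit 6, nat_lit 5, nat_lit 3, nat_lit 6, nat_lit 2, nat_lit 3, nat_lit 4, nat_lit 5, nat_lit 0])) (.leaf ((nat_lit 299), [nat_lit 2, nat_lit 6, nat_lit 3, nat_lit 2, nat_lit 6, nat_lit 0, nat_lit 4, nat_lit 5, nat_lit 0, nat_lit 4, nat_lit 2, nat_lit 3, nat_lit 2, nat_lit 0])))) (.node (nat_lit 548) (.leaf ((nat_lit 497), [nat_lit 2, nat_lit 4, nat_lit 1, nat_lit 6, nat_lit 2, nat_lit 0, nat_lit 5, nat_lit 2, nat_lit 0, nat_lit 4])) (.node (nat_lit 549) (.leaf ((nat_lit 498), [nat_lit 6, nat_lit 5, nat_lit 4, nat_lit 6, nat_lit 2, nat_lit 6, nat_lit 5, nat_lit 1, nat_lit 4, nat_lit 5, nat_lit 0, nat_lit 4, nat_lit 2, nat_lit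 0, nat_lit 1])) (.leaf ((nat_lit 499), [nat_lit 5, nat_lit 6, nat_lit 2, nat_lit 0, nat_lit 2, nat_lit 6, nat_lit 1, nat_lit 3, nat_lit 2, nat_lit 0, nat_lit 4, nat_lit 0, nat_lit 1, nat_lit 0])))))))
 (.node (nat_lit 561) (.node (nat_lit 555) (.node (nat_lit 552) (.node (nat_lit 551) (.leaf ((nat_lit 500), [nat_lit 2, nat_lit 4, nat_lit 6, nat_lit 2, nat_lit 6, nat_lit 2, nat_lit 0, nat_lit 1, nat_lit 0, nat_lit 4, nat_lit 2, nat_lit 3, nat_lit 1, nat_lit 0])) (.leaf ((nat_lit 501), [nat_lit 3, nat_lit 5, nat_lit 6, nat_lit 5, nat_lit 2, nat_lit 6, nat_lit 2, nat_lit 4, nat_lit 3, nat_lit 0, nat_lit 4, nat_lit 3, nat_lit 0]))) (.node (nat_lit 553) (.leaf ((nat_lit 502), [nat_lit 5, nat_lit 4, nat_lit 6, nat_lit 2, nat_lit 3, nat_lit 6, nat_lit 2, nat_lit 4, nat_lit 1, nat_lit 3, nat_lit 4, nat_lit 0, nat_lit 1])) (.node (nat_lit 554) (.leaf ((nat_lit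 503), [nat_lit 5, nat_lit 0, nat_lit 4, nat_lit 2, nat_lit 6, nat_lit 4, nat_lit 2, nat_lit 4, nat_lit 0, nat_lit 4, nat_lit 1, nat_lit 3, nat_lit 2])) (.leaf ((nat_lit 504), [nat_lit 5, nat_lit 6, nat_lit 4, nat_lit 3, nat_lit 6, nat_lit 0, nat_lit 1, nat_lit 4, nat_lit 1, nat_lit 5, nat_lit 2, nat_lit 3, nat_lit 1])))))
 (.node (nat_lit 558) (.node (nat_lit 556) (.leaf ((nat_lit 505), [nat_lit 5, nat_lit 3, nat_lit 4, nat_lit 6, nat_lit 2, nat_lit 6, nat_lit 3, nat_lit 4, nat_lit 2, nat_lit 0, nat_lit 2, nat_lit 0])) (.node (nat_lit 557) (.leaf ((nat_lit 454), [nat_lit 5, nat_lit 1, nat_lit 5, nat_lit 6, nat_lit 2, nat_lit 6, nat_lit 0, nat_lit 5, nat_lit 4, nat_lit 3, nat_lit 4, nat_lit 2, nat_lit 3, nat_lit 0])) (.leaf ((nat_lit 506), [nat_lit 5, nat_lit 1, nat_lit 3, nat_lit 6, nat_lit 1, nat_lit 6, nat_lit 2, nat_lit 5, nat_lit 2, nat_lit 0,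 nat_lit 4, nat_lit 2])))) (.node (nat_lit 559) (.leaf ((nat_lit 119), [nat_lit 0, nat_lit 6, nat_lit 0, nat_lit 1, nat_lit 5, nat_lit 6, nat_lit 2, nat_lit 3, nat_lit 2, nat_lit 4, nat_lit 3, nat_lit 2, nat_lit 0])) (.node (nat_lit 560) (.leaf ((nat_lit 69), [nat_lit 5, nat_lit 6, nat_lit 0, nat_lit 1, nat_lit 6, nat_lit 1, nat_lit 4, nat_lit 0, nat_lit 4, nat_lit 0, nat_lit 1, nat_lit 0])) (.leaf ((nat_lit 507), [nat_lit 4, nat_lit 5, nat_lit 6, nat_lit 4, nat_lit 0, nat_lit 6, nat_lit 1, nat_lit 4, nat_lit 3, nat_lit 0, nat_lit 4, nat_lit 1, nat_lit 3, nat_lit 2]))))))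
 (.node (nat_lit 566) (.node (nat_lit 563) (.node (nat_lit 562) (.leaf ((nat_lit 508), [nat_lit 6, nat_lit 5, nat_lit 1, nat_lit 5, nat_lit 6, nat_lit 0, nat_lit 1, nat_lit 5, nat_lit 3, nat_lit 4, nat_lit 2, nat_lit 3, nat_lit 0])) (.leaf ((nat_lit 509), [nat_lit 3, nat_lit 6, nat_lit 4, nat_lit 1, nat_lit 6, nat_lit 0, nat_lit 2, nat_lit 5, nat_lit 1, nat_lit 0, nat_lit 2]))) (.node (nat_lit 564) (.leaf ((nat_lit 510), [nat_lit 5, nat_lit 3, nat_lit 5, nat_lit 6, nat_lit 2, nat_lit 6, nat_lit 4, nat_lit 0, nat_lit 5, nat_lit 4, nat_lit 2, nat_lit 0, nat_lit 2, nat_lit 0])) (.node (nat_lit 565) (.leaf ((nat_lit 511), [nat_lit 1, nat_lit 6, nat_lit 5, nat_lit 2, nat_lit 4, nat_lit 6, nat_lit 4, nat_lit 2, nat_lit 3, nat_lit 0, nat_lit 4, nat_lit 2, nat_lit 3, nat_lit 2, nat_lit 0])) (.leaf ((nat_lit 512), [nat_lit 5, nat_lit 4, nat_lit 6, nat_lit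 5, nat_lit 2, nat_lit 6, nat_lit 1, nat_lit 0, nat_lit 5, nat_lit 2, nat_lit 4, nat_lit 1, nat_lit 0, nat_lit 1])))))
 (.node (nat_lit 569) (.node (nat_lit 567) (.leaf ((nat_lit 245), [nat_lit 2, nat_lit 6, nat_lit 2, nat_lit 4, nat_lit 0, nat_lit 6, nat_lit 4, nat_lit 0, nat_lit 4, nat_lit 1, nat_lit 4, nat_lit 3, nat_lit 2, nat_lit 0])) (.node (nat_lit 568) (.leaf ((nat_lit 513), [nat_lit 5, nat_lit 2, nat_lit 4, nat_lit 6, nat_lit 0, nat_lit 4, nat_lit 2, nat_lit 0, nat_lit 4, nat_lit 2, nat_lit 3, nat_lit 1])) (.leaf ((nat_lit 514), [nat_lit 5, nat_lit 1, nat_lit 6, nat_lit 4, nat_lit 2, nat_lit 0, nat_lit 5, nat_lit 4, nat_lit 1, nat_lit 3, nat_lit 2])))) (.node (nat_lit 570) (.leaf ((nat_lit 515), [nat_lit 5, nat_lit 6, nat_lit 2, nat_lit 0, nat_lit 6, nat_lit 4, nat_lit 5, nat_lit 1, nat_lit 5, nat_lit 4, nat_lit 0, nat_lit 2])) (.node (nat_lit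 571) (.leaf ((nat_lit 516), [nat_lit 2, nat_lit 4, nat_lit 1, nat_lit 6, nat_lit 4, nat_lit 0, nat_lit 5, nat_lit 2, nat_lit 3, nat_lit 2])) (.leaf ((nat_lit 517), [nat_lit 5, nat_lit 4, nat_lit 2, nat_lit 0, nat_lit 6, nat_lit 5, nat_lit 4, nat_lit 2, nat_lit 3, nat_lit 4, nat_lit 1, nat_lit 3, nat_lit 0]))))))))
 (.node (nat_lit 594) (.node (nat_lit 583) (.node (nat_lit 577) (.node (nat_lit 574) (.node (nat_lit 573) (.leaf ((nat_lit 407), [nat_lit 1, nat_lit 6, nat_lit 2, nat_lit 6, nat_lit 5, nat_lit 3, nat_lit 0, nat_lit 5, nat_lit 2, nat_lit 0, nat_lit 2, nat_lit 0])) (.leaf ((nat_lit 518), [nat_lit 2, nat_lit 4, nat_lit 6, nat_lit 4, nat_lit 1, nat_lit 6, nat_lit 1, nat_lit 4, nat_lit 5, nat_lit 0, nat_lit 4, nat_lit 0, nat_lit 1]))) (.node (nat_lit 575) (.leaf ((nat_lit 519), [nat_lit 4, nat_lit 5, nat_lit 6, nat_lit 2, nat_lit 0, nat_lit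 6, nat_lit 2, nat_lit 3, nat_lit 4, nat_lit 5, nat_lit 1])) (.node (nat_lit 576) (.leaf ((nat_lit 520), [nat_lit 1, nat_lit 6, nat_lit 5, nat_lit 2, nat_lit 4, nat_lit 6, nat_lit 0, nat_lit 4, nat_lit 3, nat_lit 5, nat_lit 0, nat_lit 2, nat_lit 0])) (.leaf ((nat_lit 521), [nat_lit 1, nat_lit 4, nat_lit 6, nat_lit 1, nat_lit 6, nat_lit 5, nat_lit 4, nat_lit 0, nat_lit 5, nat_lit 1, nat_lit 3, nat_lit 2, nat_lit 0])))))
 (.node (nat_lit 580) (.node (nat_lit 578) (.leaf ((nat_lit 522), [nat_lit 6, nat_lit 1, nat_lit 3, nat_lit 6, nat_lit 3, nat_lit 5, nat_lit 1])) (.node (nat_lit 579) (.leaf ((nat_lit 366), [nat_lit 3, nat_lit 6, nat_lit 5, nat_lit 0, nat_lit 5, nat_lit 2, nat_lit 0, nat_lit 2])) (.leaf ((nat_lit 523), [nat_lit 1, nat_lit 6, nat_lit 3, nat_lit 0, nat_lit 6, nat_lit 5, nat_lit 4, nat_lit 5, nat_lit 1, nat_lit 5, nat_lit 0])))) (.node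 (nat_lit 581) (.leaf ((nat_lit 524), [nat_lit 0, nat_lit 5, nat_lit 2, nat_lit 6, nat_lit 2, nat_lit 6, nat_lit 0, nat_lit 1, nat_lit 5, nat_lit 3, nat_lit 4, nat_lit 1, nat_lit 3, nat_lit 0])) (.node (nat_lit 582) (.leaf ((nat_lit 525), [nat_lit 3, nat_lit 1, nat_lit 6, nat_lit 1, nat_lit 6, nat_lit 5, nat_lit 4, nat_lit 3, nat_lit 4, nat_lit 0, nat_lit 1])) (.leaf ((nat_lit 96), [nat_lit 6, nat_lit 2, nat_lit 6, nat_lit 4, nat_lit 2, nat_lit 6, nat_lit 5, nat_lit 0, nat_lit 2, nat_lit 0, nat_lit 4, nat_lit 3, nat_lit 2]))))))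
 (.node (nat_lit 588) (.node (nat_lit 585) (.node (nat_lit 584) (.leaf ((nat_lit 102), [nat_lit 3, nat_lit 6, nat_lit 1, nat_lit 5, nat_lit 6, nat_lit 2, nat_lit 4, nat_lit 2, nat_lit 0, nat_lit 4, nat_lit 1, nat_lit 3, nat_lit 1])) (.leaf ((nat_lit 526), [nat_lit 1, nat_lit 6, nat_lit 5, nat_lit 0, nat_lit 2, nat_lit 6, nat_lit 2, nat_lit 4, nat_lit 1, nat_lit 4, nat_lit 2]))) (.node (nat_lit 586) (.leaf ((nat_lit 527), [nat_lit 2, nat_lit 0, nat_lit 6, nat_lit 3, nat_lit 5, nat_lit 3, nat_lit 4, nat_lit 3])) (.node (nat_lit 587) (.leaf ((nat_lit 528), [nat_lit 1, nat_lit 0, nat_lit 6, nat_lit 2, nat_lit 4, nat_lit 5, nat_lit 3, nat_lit 1, nat_lit 0])) (.leaf ((nat_lit 385), [nat_lit 1, nat_lit 6, nat_lit 5, nat_lit 0, nat_lit 2, nat_lit 6, nat_lit 2, nat_lit 5, nat_lit 0, nat_lit 2, nat_lit 4, nat_lit 3, nat_lit 2, nat_lit 0])))))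
 (.node (nat_lit 591) (.node (nat_lit 589) (.leaf ((nat_lit 529), [nat_lit 4, nat_lit 2, nat_lit 3, nat_lit 6, nat_lit 2, nat_lit 0, nat_lit 4, nat_lit 1, nat_lit 4, nat_lit 2, nat_lit 3, nat_lit 2, nat_lit 0])) (.node (nat_lit 590) (.leaf ((nat_lit 530), [nat_lit 5, nat_lit 0, nat_lit 6, nat_lit 3, nat_lit 4, nat_lit 5, nat_lit 0, nat_lit 1])) (.leaf ((nat_lit 531), [nat_lit 4, nat_lit 6, nat_lit 0, nat_lit 2, nat_lit 6, nat_lit 4, nat_lit 0, nat_lit 2, nat_lit 4, nat_lit 0, nat_lit 1])))) (.node (nat_lit 592) (.leaf ((nat_lit 532), [nat_lit 1, nat_lit 6, nat_lit 2, nat_lit 5, nat_lit 6, nat_lit 1, nat_lit 5, nat_lit 2, nat_lit 0, nat_lit 4, nat_lit 0, nat_lit 1])) (.node (nat_lit 593) (.leaf ((nat_lit 533), [nat_lit 4, nat_lit 6, nat_lit 5, nat_lit 2, nat_lit 0, nat_lit 6, nat_lit 2, nat_lit 5, nat_lit 0, nat_lit 4])) (.leaf ((nat_lit 534), [nat_lit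 3, nat_lit 1, nat_lit 6, nat_lit 4, nat_lit 1, nat_lit 6, nat_lit 5, nat_lit 1, nat_lit 0, nat_lit 2])))))))
 (.node (nat_lit 605) (.node (nat_lit 599) (.node (nat_lit 596) (.node (nat_lit 595) (.leaf ((nat_lit 535), [nat_lit 5, nat_lit 6, nat_lit 3, nat_lit 5, nat_lit 3, nat_lit 6, nat_lit 4, nat_lit 0, nat_lit 5, nat_lit 2, nat_lit 0, nat_lit 4, nat_lit 1, nat_lit 3, nat_lit 2, nat_lit 0])) (.leaf ((nat_lit 509), [nat_lit 2, nat_lit 6, nat_lit 3, nat_lit 4, nat_lit 6, nat_lit 0, nat_lit 4, nat_lit 0, nat_lit 4, nat_lit 1, nat_lit 0, nat_lit 2]))) (.node (nat_lit 597) (.leaf ((nat_lit 536), [nat_lit 1, nat_lit 3, nat_lit 6, nat_lit 4, nat_lit 0, nat_lit 6, nat_lit 2, nat_lit 5, nat_lit 4, nat_lit 5, nat_lit 1, nat_lit 3, nat_lit 1, nat_lit 0])) (.node (nat_lit 598) (.leaf ((nat_lit 537), [nat_lit 5, nat_lit 6, nat_lit 3, nat_lit 4, nat_lit 6, nat_lit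 3, nat_lit 1, nat_lit 5, nat_lit 4, nat_lit 2, nat_lit 3, nat_lit 2, nat_lit 0])) (.leaf ((nat_lit 188), [nat_lit 4, nat_lit 3, nat_lit 6, nat_lit 2, nat_lit 0, nat_lit 6, nat_lit 3, nat_lit 4, nat_lit 3, nat_lit 0, nat_lit 4, nat_lit 1])))))
 (.node (nat_lit 602) (.node (nat_lit 600) (.leaf ((nat_lit 538), [nat_lit 1, nat_lit 5, nat_lit 6, nat_lit 0, nat_lit 1, nat_lit 6, nat_lit 3, nat_lit 0, nat_lit 4, nat_lit 2, nat_lit 3, nat_lit 2, nat_lit 0])) (.node (nat_lit 601) (.leaf ((nat_lit 539), [nat_lit 5, nat_lit 6, nat_lit 4, nat_lit 3, nat_lit 6, nat_lit 3, nat_lit 0, nat_lit 5, nat_lit 4, nat_lit 1, nat_lit 0, nat_lit 2])) (.leaf ((nat_lit 540), [nat_lit 3, nat_lit 2, nat_lit 6, nat_lit 4, nat_lit 0, nat_lit 6, nat_lit 3, nat_lit 1, nat_lit 5, nat_lit 3, nat_lit 4, nat_lit 2])))) (.node (nat_lit 603) (.leaf ((nat_lit 541), [nat_lit 3, nat_lit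 6, nat_lit 4, nat_lit 1, nat_lit 3, nat_lit 6, nat_lit 2, nat_lit 0, nat_lit 5, nat_lit 3, nat_lit 1])) (.node (nat_lit 604) (.leaf ((nat_lit 542), [nat_lit 3, nat_lit 6, nat_lit 2, nat_lit 3, nat_lit 6, nat_lit 3, nat_lit 2, nat_lit 5, nat_lit 1, nat_lit 0, nat_lit 4, nat_lit 2, nat_lit 3])) (.leaf ((nat_lit 26), [nat_lit 6, nat_lit 1, nat_lit 4, nat_lit 1, nat_lit 3, nat_lit 6, nat_lit 2, nat_lit 4, nat_lit 3, nat_lit 2, nat_lit 4, nat_lit 2, nat_lit 0, nat_lit 1, nat_lit 0]))))))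
 (.node (nat_lit 610) (.node (nat_lit 607) (.node (nat_lit 606) (.leaf ((nat_lit 543), [nat_lit 6, nat_lit 3, nat_lit 6, nat_lit 4, nat_lit 0, nat_lit 6, nat_lit 0, nat_lit 5, nat_lit 4, nat_lit 3, nat_lit 4, nat_lit 1, nat_lit 3, nat_lit 2])) (.leaf ((nat_lit 544), [nat_lit 1, nat_lit 6, nat_lit 3, nat_lit 5, nat_lit 6, nat_lit 2, nat_lit 4, nat_lit 1, nat_lit 0, nat_lit 4, nat_lit 0, nat_lit 2, nat_lit 0]))) (.node (nat_lit 608) (.leaf ((nat_lit 545), [nat_lit 5, nat_lit 6, nat_lit 5, nat_lit 4, nat_lit 6, nat_lit 1, nat_lit 4, nat_lit 5, nat_lit 2, nat_lit 5, nat_lit 2, nat_lit 0, nat_lit 2, nat_lit 0])) (.node (nat_lit 609) (.leaf ((nat_lit 546), [nat_lit 1, nat_lit 5, nat_lit 3, nat_lit 6, nat_lit 1, nat_lit 6, nat_lit 2, nat_lit 5, nat_lit 1, nat_lit 5, nat_lit 4, nat_lit 1, nat_lit 3, nat_lit 2])) (.leaf ((nat_lit 547), [nat_lit 5, nat_lit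 1, nat_lit 6, nat_lit 5, nat_lit 2, nat_lit 6, nat_lit 4, nat_lit 1, nat_lit 3, nat_lit 4, nat_lit 0, nat_lit 2, nat_lit 0])))))
 (.node (nat_lit 613) (.node (nat_lit 611) (.leaf ((nat_lit 548), [nat_lit 6, nat_lit 5, nat_lit 3, nat_lit 6, nat_lit 2, nat_lit 4, nat_lit 5, nat_lit 3, nat_lit 0, nat_lit 4, nat_lit 1, nat_lit 3])) (.node (nat_lit 612) (.leaf ((nat_lit 193), [nat_lit 3, nat_lit 2, nat_lit 5, nat_lit 6, nat_lit 0, nat_lit 2, nat_lit 4, nat_lit 1, nat_lit 4, nat_lit 1, nat_lit 0, nat_lit 1])) (.leaf ((nat_lit 549), [nat_lit 4, nat_lit 5, nat_lit 6, nat_lit 2, nat_lit 3, nat_lit 6, nat_lit 0, nat_lit 4, nat_lit 1, nat_lit 0, nat_lit 4, nat_lit 1, nat_lit 0, nat_lit 1])))) (.node (nat_lit 614) (.leaf ((nat_lit 173), [nat_lit 0, nat_lit 2, nat_lit 6, nat_lit 5, nat_lit 2, nat_lit 0, nat_lit 6, nat_lit 1, nat_lit 5, nat_lit 3, nat_lit 0, nat_lit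 4, nat_lit 1, nat_lit 3])) (.node (nat_lit 615) (.leaf ((nat_lit 550), [nat_lit 5, nat_lit 0, nat_lit 6, nat_lit 2, nat_lit 6, nat_lit 3, nat_lit 4, nat_lit 0, nat_lit 4, nat_lit 3, nat_lit 2, nat_lit 0])) (.leaf ((nat_lit 464), [nat_lit 3, nat_lit 2, nat_lit 6, nat_lit 1, nat_lit 6, nat_lit 5, nat_lit 2, nat_lit 5, nat_lit 3, nat_lit 4, nat_lit 2, nat_lit 0])))))))))
 (.node (nat_lit 660) (.node (nat_lit 638) (.node (nat_lit 627) (.node (nat_lit 621) (.node (nat_lit 618) (.node (nat_lit 617) (.leaf ((nat_lit 551), [nat_lit 2, nat_lit 6, nat_lit 2, nat_lit 0, nat_lit 6, nat_lit 1, nat_lit 5, nat_lit 2, nat_lit 5, nat_lit 2, nat_lit 0, nat_lit 1, nat_lit 0])) (.leaf ((nat_lit 552), [nat_lit 2, nat_lit 6, nat_lit 1, nat_lit 0, nat_lit 6, nat_lit 1, nat_lit 5, nat_lit 0, nat_lit 4, nat_lit 3, nat_lit 0]))) (.node (nat_lit 619) (.leaf ((nat_lit 553),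 [nat_lit 1, nat_lit 4, nat_lit 6, nat_lit 4, nat_lit 2, nat_lit 6, nat_lit 3, nat_lit 4, nat_lit 3, nat_lit 2, nat_lit 4, nat_lit 1, nat_lit 3])) (.node (nat_lit 620) (.leaf ((nat_lit 554), [nat_lit 1, nat_lit 0, nat_lit 6, nat_lit 5, nat_lit 2, nat_lit 6, nat_lit 1, nat_lit 3, nat_lit 5, nat_lit 3, nat_lit 4, nat_lit 1, nat_lit 3, nat_lit 1, nat_lit 0])) (.leaf ((nat_lit 234), [nat_lit 2, nat_lit 5, nat_lit 6, nat_lit 2, nat_lit 6, nat_lit 5, nat_lit 2, nat_lit 4, nat_lit 3, nat_lit 4])))))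
 (.node (nat_lit 624) (.node (nat_lit 622) (.leaf ((nat_lit 555), [nat_lit 0, nat_lit 1, nat_lit 4, nat_lit 2, nat_lit 6, nat_lit 5, nat_lit 1, nat_lit 5, nat_lit 0, nat_lit 4, nat_lit 2, nat_lit 0, nat_lit 2, nat_lit 0])) (.node (nat_lit 623) (.leaf ((nat_lit 556), [nat_lit 6, nat_lit 4, nat_lit 1, nat_lit 6, nat_lit 4, nat_lit 0, nat_lit 5, nat_lit 3, nat_lit 2])) (.leaf ((nat_lit 557), [nat_lit 6, nat_lit 5, nat_lit 2, nat_lit 0, nat_lit 2, nat_lit 6, nat_lit 2, nat_lit 4, nat_lit 5, nat_lit 3, nat_lit 0, nat_lit 4, nat_lit 0, nat_lit 1, nat_lit 0])))) (.node (nat_lit 625) (.leaf ((nat_lit 558), [nat_lit 4, nat_lit 6, nat_lit 5, nat_lit 1, nat_lit 3, nat_lit 6, nat_lit 5, nat_lit 1, nat_lit 4, nat_lit 1, nat_lit 0, nat_lit 4, nat_lit 2, nat_lit 0])) (.node (nat_lit 626) (.leaf ((nat_lit 559), [nat_lit 3, nat_lit 6, nat_lit 4, nat_lit 0, nat_lit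 6, nat_lit 3, nat_lit 4, nat_lit 1, nat_lit 4, nat_lit 1, nat_lit 0, nat_lit 2])) (.leaf ((nat_lit 8), [nat_lit 4, nat_lit 6, nat_lit 4, nat_lit 0, nat_lit 2, nat_lit 6, nat_lit 4, nat_lit 5, nat_lit 4, nat_lit 3, nat_lit 1, nat_lit 0]))))))
 (.node (nat_lit 632) (.node (nat_lit 629) (.node (nat_lit 628) (.leaf ((nat_lit 560), [nat_lit 5, nat_lit 3, nat_lit 4, nat_lit 6, nat_lit 5, nat_lit 2, nat_lit 0, nat_lit 4])) (.leaf ((nat_lit 561), [nat_lit 5, nat_lit 4, nat_lit 6, nat_lit 0, nat_lit 1, nat_lit 6, nat_lit 4, nat_lit 5, nat_lit 1, nat_lit 3, nat_lit 0]))) (.node (nat_lit 630) (.leaf ((nat_lit 562), [nat_lit 2, nat_lit 4, nat_lit 6, nat_lit 4, nat_lit 1, nat_lit 6, nat_lit 3, nat_lit 5, nat_lit 2, nat_lit 4, nat_lit 2, nat_lit 0, nat_lit 1])) (.node (nat_lit 631) (.leaf ((nat_lit 563), [nat_lit 4, nat_lit 6, nat_lit 4, nat_lit 2, nat_lit 0,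 nat_lit 6, nat_lit 3, nat_lit 2, nat_lit 5, nat_lit 4, nat_lit 1, nat_lit 0, nat_lit 2])) (.leaf ((nat_lit 19), [nat_lit 6, nat_lit 0, nat_lit 4, nat_lit 6, nat_lit 3, nat_lit 0, nat_lit 4, nat_lit 5, nat_lit 1, nat_lit 3, nat_lit 2])))))
 (.node (nat_lit 635) (.node (nat_lit 633) (.leaf ((nat_lit 564), [nat_lit 3, nat_lit 2, nat_lit 5, nat_lit 6, nat_lit 4, nat_lit 5, nat_lit 0, nat_lit 4, nat_lit 5, nat_lit 2, nat_lit 3, nat_lit 2, nat_lit 0])) (.node (nat_lit 634) (.leaf ((nat_lit 565), [nat_lit 3, nat_lit 0, nat_lit 6, nat_lit 3, nat_lit 5, nat_lit 1, nat_lit 0, nat_lit 4, nat_lit 3, nat_lit 2])) (.leaf ((nat_lit 313), [nat_lit 4, nat_lit 6, nat_lit 2, nat_lit 0, nat_lit 6, nat_lit 0, nat_lit 4, nat_lit 5, nat_lit 0, nat_lit 4, nat_lit 3, nat_lit 2])))) (.node (nat_lit 636) (.leaf ((nat_lit 566), [nat_lit 1, nat_lit 4, nat_lit 6, nat_lit 2, nat_lit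 6, nat_lit 1, nat_lit 3, nat_lit 5, nat_lit 3, nat_lit 4, nat_lit 1, nat_lit 3, nat_lit 2, nat_lit 0])) (.node (nat_lit 637) (.leaf ((nat_lit 567), [nat_lit 5, nat_lit 2, nat_lit 6, nat_lit 1, nat_lit 6, nat_lit 4, nat_lit 0, nat_lit 1, nat_lit 5, nat_lit 4, nat_lit 2, nat_lit 0, nat_lit 2, nat_lit 0])) (.leaf ((nat_lit 568), [nat_lit 4, nat_lit 6, nat_lit 0, nat_lit 1, nat_lit 6, nat_lit 5, nat_lit 2, nat_lit 5, nat_lit 1, nat_lit 0, nat_lit 4, nat_lit 0, nat_lit 1, nat_lit 0])))))))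
 (.node (nat_lit 649) (.node (nat_lit 643) (.node (nat_lit 640) (.node (nat_lit 639) (.leaf ((nat_lit 569), [nat_lit 5, nat_lit 4, nat_lit 5, nat_lit 6, nat_lit 4, nat_lit 0, nat_lit 6, nat_lit 1, nat_lit 4, nat_lit 3, nat_lit 2, nat_lit 4])) (.leaf ((nat_lit 570), [nat_lit 5, nat_lit 3, nat_lit 6, nat_lit 4, nat_lit 0, nat_lit 6, nat_lit 3, nat_lit 4, nat_lit 5, nat_lit 1, nat_lit 3, nat_lit 2]))) (.node (nat_lit 641) (.leaf ((nat_lit 571), [nat_lit 1, nat_lit 4, nat_lit 6, nat_lit 5, nat_lit 1, nat_lit 6, nat_lit 5, nat_lit 0, nat_lit 2, nat_lit 4, nat_lit 0, nat_lit 1, nat_lit 0])) (.node (nat_lit 642) (.leaf ((nat_lit 280), [nat_lit 0, nat_lit 4, nat_lit 2, nat_lit 6, nat_lit 3, nat_lit 2, nat_lit 6, nat_lit 2, nat_lit 3, nat_lit 0, nat_lit 4, nat_lit 1, nat_lit 3, nat_lit 1])) (.leaf ((nat_lit 572), [nat_lit 3, nat_lit 6, nat_lit 1, nat_lit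 4, nat_lit 6, nat_lit 4, nat_lit 0, nat_lit 4, nat_lit 1, nat_lit 4, nat_lit 1, nat_lit 3, nat_lit 1])))))
 (.node (nat_lit 646) (.node (nat_lit 644) (.leaf ((nat_lit 573), [nat_lit 5, nat_lit 6, nat_lit 3, nat_lit 5, nat_lit 3, nat_lit 6, nat_lit 1, nat_lit 4, nat_lit 5, nat_lit 0, nat_lit 4, nat_lit 1, nat_lit 3])) (.node (nat_lit 645) (.leaf ((nat_lit 574), [nat_lit 5, nat_lit 1, nat_lit 6, nat_lit 2, nat_lit 6, nat_lit 5, nat_lit 4, nat_lit 5, nat_lit 1, nat_lit 5, nat_lit 3])) (.leaf ((nat_lit 575), [nat_lit 1, nat_lit 6, nat_lit 5, nat_lit 2, nat_lit 4, nat_lit 6, nat_lit 2, nat_lit 4, nat_lit 1, nat_lit 3, nat_lit 4, nat_lit 1, nat_lit 3])))) (.node (nat_lit 647) (.leaf ((nat_lit 576), [nat_lit 0, nat_lit 4, nat_lit 6, nat_lit 3, nat_lit 0, nat_lit 6, nat_lit 2, nat_lit 0, nat_lit 5, nat_lit 2, nat_lit 0, nat_lit 4, nat_lit 2, nat_lit 0, nat_lit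 2, nat_lit 0])) (.node (nat_lit 648) (.leaf ((nat_lit 91), [nat_lit 3, nat_lit 6, nat_lit 0, nat_lit 5, nat_lit 3, nat_lit 6, nat_lit 2, nat_lit 4, nat_lit 2, nat_lit 0, nat_lit 4, nat_lit 0, nat_lit 2])) (.leaf ((nat_lit 157), [nat_lit 1, nat_lit 6, nat_lit 5, nat_lit 3, nat_lit 6, nat_lit 4, nat_lit 5, nat_lit 1, nat_lit 4, nat_lit 2, nat_lit 3, nat_lit 1, nat_lit 0]))))))
 (.node (nat_lit 654) (.node (nat_lit 651) (.node (nat_lit 650) (.leaf ((nat_lit 13), [nat_lit 1, nat_lit 5, nat_lit 6, nat_lit 4, nat_lit 2, nat_lit 0, nat_lit 6, nat_lit 2, nat_lit 5, nat_lit 1, nat_lit 0, nat_lit 4, nat_lit 0, nat_lit 2])) (.leaf ((nat_lit 144), [nat_lit 5, nat_lit 1, nat_lit 0, nat_lit 6, nat_lit 5, nat_lit 4, nat_lit 2, nat_lit 0, nat_lit 4, nat_lit 2, nat_lit 3]))) (.node (nat_lit 652) (.leaf ((nat_lit 577), [nat_lit 6, nat_lit 1, nat_lit 4, nat_lit 6,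 nat_lit 1, nat_lit 6, nat_lit 3, nat_lit 0, nat_lit 4, nat_lit 1, nat_lit 4, nat_lit 1, nat_lit 0, nat_lit 2])) (.node (nat_lit 653) (.leaf ((nat_lit 578), [nat_lit 6, nat_lit 1, nat_lit 4, nat_lit 6, nat_lit 5, nat_lit 1, nat_lit 3, nat_lit 4, nat_lit 5, nat_lit 2, nat_lit 3])) (.leaf ((nat_lit 401), [nat_lit 6, nat_lit 3, nat_lit 0, nat_lit 4, nat_lit 6, nat_lit 1, nat_lit 4, nat_lit 5, nat_lit 1, nat_lit 4, nat_lit 2, nat_lit 0, nat_lit 2])))))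
 (.node (nat_lit 657) (.node (nat_lit 655) (.leaf ((nat_lit 579), [nat_lit 4, nat_lit 2, nat_lit 4, nat_lit 6, nat_lit 1, nat_lit 6, nat_lit 1, nat_lit 4, nat_lit 1, nat_lit 0, nat_lit 4, nat_lit 3, nat_lit 0])) (.node (nat_lit 656) (.leaf ((nat_lit 580), [nat_lit 3, nat_lit 2, nat_lit 6, nat_lit 2, nat_lit 6, nat_lit 1, nat_lit 4, nat_lit 3, nat_lit 0, nat_lit 4, nat_lit 1, nat_lit 3, nat_lit 2, nat_lit 0])) (.leaf ((nat_lit 581), [nat_lit 2, nat_lit 6, nat_lit 4, nat_lit 1, nat_lit 3, nat_lit 2, nat_lit 0, nat_lit 4, nat_lit 1, nat_lit 3, nat_lit 2])))) (.node (nat_lit 658) (.leaf ((nat_lit 582), [nat_lit 0, nat_lit 6, nat_lit 3, nat_lit 5, nat_lit 6, nat_lit 1, nat_lit 4, nat_lit 0, nat_lit 4, nat_lit 1])) (.node (nat_lit 659) (.leaf ((nat_lit 583), [nat_lit 6, nat_lit 3, nat_lit 4, nat_lit 1, nat_lit 6, nat_lit 5, nat_lit 4, nat_lit 5, nat_lit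 4, nat_lit 1, nat_lit 3])) (.leaf ((nat_lit 584), [nat_lit 0, nat_lit 6, nat_lit 0, nat_lit 1, nat_lit 6, nat_lit 5, nat_lit 2, nat_lit 3, nat_lit 2, nat_lit 4]))))))))
 (.node (nat_lit 682) (.node (nat_lit 671) (.node (nat_lit 665) (.node (nat_lit 662) (.node (nat_lit 661) (.leaf ((nat_lit 585), [nat_lit 6, nat_lit 2, nat_lit 6, nat_lit 3, nat_lit 2, nat_lit 6, nat_lit 5, nat_lit 1, nat_lit 3, nat_lit 2, nat_lit 4])) (.leaf ((nat_lit 586), [nat_lit 6, nat_lit 0, nat_lit 4, nat_lit 6, nat_lit 1, nat_lit 3, nat_lit 4, nat_lit 1, nat_lit 3, nat_lit 1, nat_lit 0]))) (.node (nat_lit 663) (.leaf ((nat_lit 587), [nat_lit 2, nat_lit 6, nat_lit 1, nat_lit 0, nat_lit 6, nat_lit 4, nat_lit 1, nat_lit 0, nat_lit 4, nat_lit 3, nat_lit 2])) (.node (nat_lit 664) (.leaf ((nat_lit 164), [nat_lit 6, nat_lit 2, nat_lit 5, nat_lit 3, nat_lit 6, nat_lit 0, nat_lit 4,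 nat_lit 1, nat_lit 5, nat_lit 1, nat_lit 3, nat_lit 1])) (.leaf ((nat_lit 588), [nat_lit 6, nat_lit 0, nat_lit 5, nat_lit 6, nat_lit 2, nat_lit 6, nat_lit 3, nat_lit 4, nat_lit 2, nat_lit 3, nat_lit 4, nat_lit 2, nat_lit 3, nat_lit 2])))))
 (.node (nat_lit 668) (.node (nat_lit 666) (.leaf ((nat_lit 589), [nat_lit 4, nat_lit 6, nat_lit 1, nat_lit 6, nat_lit 2, nat_lit 6, nat_lit 1, nat_lit 0, nat_lit 1, nat_lit 0, nat_lit 4, nat_lit 1, nat_lit 3, nat_lit 1])) (.node (nat_lit 667) (.leaf ((nat_lit 174), [nat_lit 3, nat_lit 6, nat_lit 0, nat_lit 1, nat_lit 5, nat_lit 6, nat_lit 5, nat_lit 2, nat_lit 5, nat_lit 0, nat_lit 4, nat_lit 1, nat_lit 0])) (.leaf ((nat_lit 590), [nat_lit 4, nat_lit 2, nat_lit 4, nat_lit 6, nat_lit 1, nat_lit 6, nat_lit 2, nat_lit 5, nat_lit 1, nat_lit 5, nat_lit 4, nat_lit 0, nat_lit 1, nat_lit 0])))) (.node (nat_lit 669) (.leaf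 ((nat_lit 591), [nat_lit 6, nat_lit 5, nat_lit 4, nat_lit 6, nat_lit 2, nat_lit 6, nat_lit 3, nat_lit 2, nat_lit 5, nat_lit 3, nat_lit 4, nat_lit 1, nat_lit 3, nat_lit 1, nat_lit 0])) (.node (nat_lit 670) (.leaf ((nat_lit 592), [nat_lit 2, nat_lit 6, nat_lit 2, nat_lit 4, nat_lit 3, nat_lit 4, nat_lit 2, nat_lit 0, nat_lit 2, nat_lit 0])) (.leaf ((nat_lit 593), [nat_lit 5, nat_lit 0, nat_lit 4, nat_lit 6, nat_lit 2, nat_lit 6, nat_lit 1, nat_lit 5, nat_lit 0, nat_lit 2, nat_lit 4, nat_lit 1, nat_lit 0, nat_lit 2]))))))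
 (.node (nat_lit 676) (.node (nat_lit 673) (.node (nat_lit 672) (.leaf ((nat_lit 594), [nat_lit 4, nat_lit 6, nat_lit 3, nat_lit 5, nat_lit 0, nat_lit 6, nat_lit 4, nat_lit 5, nat_lit 4, nat_lit 5, nat_lit 1, nat_lit 3])) (.leaf ((nat_lit 595), [nat_lit 5, nat_lit 2, nat_lit 0, nat_lit 6, nat_lit 5, nat_lit 4, nat_lit 0, nat_lit 5, nat_lit 4, nat_lit 1, nat_lit 0, nat_lit 2, nat_lit 0]))) (.node (nat_lit 674) (.leaf ((nat_lit 231), [nat_lit 4, nat_lit 3, nat_lit 6, nat_lit 2, nat_lit 6, nat_lit 0, nat_lit 5, nat_lit 2, nat_lit 5, nat_lit 2, nat_lit 3, nat_lit 2, nat_lit 0])) (.node (nat_lit 675) (.leaf ((nat_lit 580), [nat_lit 5, nat_lit 4, nat_lit 5, nat_lit 6, nat_lit 4, nat_lit 0, nat_lit 6, nat_lit 1, nat_lit 3, nat_lit 1, nat_lit 5, nat_lit 4, nat_lit 2, nat_lit 0, nat_lit 2])) (.leaf ((nat_lit 596), [nat_lit 1, nat_lit 6, nat_lit 1, nat_lit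 5, nat_lit 6, nat_lit 2, nat_lit 0, nat_lit 2, nat_lit 4, nat_lit 2, nat_lit 4, nat_lit 2, nat_lit 3, nat_lit 0])))))
 (.node (nat_lit 679) (.node (nat_lit 677) (.leaf ((nat_lit 597), [nat_lit 6, nat_lit 2, nat_lit 4, nat_lit 2, nat_lit 0, nat_lit 6, nat_lit 4, nat_lit 2, nat_lit 4, nat_lit 0, nat_lit 4, nat_lit 1, nat_lit 0, nat_lit 1])) (.node (nat_lit 678) (.leaf ((nat_lit 598), [nat_lit 6, nat_lit 5, nat_lit 0, nat_lit 6, nat_lit 1, nat_lit 6, nat_lit 5, nat_lit 4, nat_lit 2, nat_lit 5, nat_lit 2, nat_lit 0, nat_lit 1, nat_lit 0])) (.leaf ((nat_lit 599), [nat_lit 0, nat_lit 4, nat_lit 6, nat_lit 5, nat_lit 0, nat_lit 2])))) (.node (nat_lit 680) (.leaf ((nat_lit 600), [nat_lit 0, nat_lit 6, nat_lit 4, nat_lit 1, nat_lit 6, nat_lit 4, nat_lit 3, nat_lit 5, nat_lit 4, nat_lit 1, nat_lit 3])) (.node (nat_lit 681) (.leaf ((nat_lit 601), [nat_lit 2,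 nat_lit 6, nat_lit 4, nat_lit 3, nat_lit 6, nat_lit 2, nat_lit 3, nat_lit 0])) (.leaf ((nat_lit 602), [nat_lit 6, nat_lit 1, nat_lit 4, nat_lit 3, nat_lit 6, nat_lit 5, nat_lit 4, nat_lit 0, nat_lit 5, nat_lit 4, nat_lit 2, nat_lit 0, nat_lit 2, nat_lit 0])))))))
 (.node (nat_lit 693) (.node (nat_lit 687) (.node (nat_lit 684) (.node (nat_lit 683) (.leaf ((nat_lit 603), [nat_lit 0, nat_lit 6, nat_lit 4, nat_lit 1, nat_lit 6, nat_lit 2, nat_lit 0, nat_lit 5, nat_lit 2, nat_lit 3, nat_lit 1, nat_lit 0])) (.leaf ((nat_lit 604), [nat_lit 6, nat_lit 3, nat_lit 4, nat_lit 2, nat_lit 0, nat_lit 6, nat_lit 4, nat_lit 2, nat_lit 3, nat_lit 2, nat_lit 4, nat_lit 2, nat_lit 0, nat_lit 2, nat_lit 0]))) (.node (nat_lit 685) (.leaf ((nat_lit 543), [nat_lit 2, nat_lit 5, nat_lit 3, nat_lit 6, nat_lit 4, nat_lit 0, nat_lit 6, nat_lit 4, nat_lit 5, nat_lit 4, nat_lit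 0, nat_lit 5, nat_lit 2, nat_lit 3, nat_lit 0])) (.node (nat_lit 686) (.leaf ((nat_lit 605), [nat_lit 6, nat_lit 1, nat_lit 5, nat_lit 6, nat_lit 3, nat_lit 0, nat_lit 4, nat_lit 1, nat_lit 5, nat_lit 3])) (.leaf ((nat_lit 606), [nat_lit 4, nat_lit 3, nat_lit 6, nat_lit 5, nat_lit 1, nat_lit 6, nat_lit 1, nat_lit 3, nat_lit 5, nat_lit 2, nat_lit 4, nat_lit 0, nat_lit 2, nat_lit 0])))))
 (.node (nat_lit 690) (.node (nat_lit 688) (.leaf ((nat_lit 607), [nat_lit 4, nat_lit 5, nat_lit 6, nat_lit 3, nat_lit 2, nat_lit 6, nat_lit 4, nat_lit 1, nat_lit 3, nat_lit 0, nat_lit 4, nat_lit 2, nat_lit 3])) (.node (nat_lit 689) (.leaf ((nat_lit 608), [nat_lit 1, nat_lit 6, nat_lit 2, nat_lit 5, nat_lit 6, nat_lit 5, nat_lit 0, nat_lit 4, nat_lit 3, nat_lit 1])) (.leaf ((nat_lit 609), [nat_lit 4, nat_lit 6, nat_lit 2, nat_lit 0, nat_lit 6, nat_lit 2, nat_lit 5,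 nat_lit 3, nat_lit 2])))) (.node (nat_lit 691) (.leaf ((nat_lit 610), [nat_lit 3, nat_lit 6, nat_lit 1, nat_lit 6, nat_lit 5, nat_lit 1, nat_lit 3, nat_lit 0, nat_lit 4, nat_lit 1, nat_lit 3, nat_lit 2, nat_lit 0])) (.node (nat_lit 692) (.leaf ((nat_lit 158), [nat_lit 1, nat_lit 4, nat_lit 6, nat_lit 4, nat_lit 2, nat_lit 6, nat_lit 1, nat_lit 3, nat_lit 0, nat_lit 4, nat_lit 1, nat_lit 0, nat_lit 1])) (.leaf ((nat_lit 611), [nat_lit 4, nat_lit 2, nat_lit 0, nat_lit 6, nat_lit 2, nat_lit 6, nat_lit 4, nat_lit 3, nat_lit 5, nat_lit 1, nat_lit 5, nat_lit 3, nat_lit 2, nat_lit 0]))))))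
 (.node (nat_lit 698) (.node (nat_lit 695) (.node (nat_lit 694) (.leaf ((nat_lit 612), [nat_lit 2, nat_lit 6, nat_lit 1, nat_lit 3, nat_lit 6, nat_lit 4, nat_lit 2, nat_lit 3, nat_lit 0, nat_lit 4, nat_lit 1, nat_lit 3, nat_lit 1])) (.leaf ((nat_lit 613), [nat_lit 1, nat_lit 6, nat_lit 2, nat_lit 6, nat_lit 5, nat_lit 1, nat_lit 4, nat_lit 2]))) (.node (nat_lit 696) (.leaf ((nat_lit 614), [nat_lit 1, nat_lit 6, nat_lit 2, nat_lit 4, nat_lit 6, nat_lit 3, nat_lit 2, nat_lit 4, nat_lit 3])) (.node (nat_lit 697) (.leaf ((nat_lit 441), [nat_lit 3, nat_lit 2, nat_lit 6, nat_lit 1, nat_lit 6, nat_lit 4, nat_lit 2, nat_lit 4, nat_lit 5, nat_lit 2, nat_lit 0, nat_lit 2, nat_lit 0])) (.leaf ((nat_lit 615), [nat_lit 6, nat_lit 2, nat_lit 6, nat_lit 4, nat_lit 0, nat_lit 6, nat_lit 4, nat_lit 2, nat_lit 5, nat_lit 2, nat_lit 0, nat_lit 2])))))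
 (.node (nat_lit 701) (.node (nat_lit 699) (.leaf ((nat_lit 616), [nat_lit 2, nat_lit 4, nat_lit 6, nat_lit 4, nat_lit 1, nat_lit 6, nat_lit 5, nat_lit 1, nat_lit 4, nat_lit 2, nat_lit 0, nat_lit 1])) (.node (nat_lit 700) (.leaf ((nat_lit 617), [nat_lit 5, nat_lit 6, nat_lit 2, nat_lit 4, nat_lit 3, nat_lit 6, nat_lit 1, nat_lit 3, nat_lit 0, nat_lit 4, nat_lit 2, nat_lit 3])) (.leaf ((nat_lit 618), [nat_lit 5, nat_lit 6, nat_lit 5, nat_lit 6, nat_lit 3, nat_lit 4, nat_lit 2, nat_lit 3, nat_lit 1])))) (.node (nat_lit 702) (.leaf ((nat_lit 619), [nat_lit 3, nat_lit 2, nat_lit 4, nat_lit 6, nat_lit 3, nat_lit 2, nat_lit 4, nat_lit 2, nat_lit 4, nat_lit 2, nat_lit 3, nat_lit 2, nat_lit 0])) (.node (nat_lit 703) (.leaf ((nat_lit 415), [nat_lit 5, nat_lit 6, nat_lit 4, nat_lit 1, nat_lit 0, nat_lit 6, nat_lit 2, nat_lit 5, nat_lit 0, nat_lit 4, nat_lit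 1, nat_lit 0, nat_lit 1])) (.leaf ((nat_lit 620), [nat_lit 6, nat_lit 3, nat_lit 2, nat_lit 5, nat_lit 6, nat_lit 0, nat_lit 4, nat_lit 1, nat_lit 4, nat_lit 3]))))))))))
noncomputable def rWd_4 : Tr (ℕ × List ℕ) := (.node (nat_lit 792) (.node (nat_lit 748) (.node (nat_lit 726) (.node (nat_lit 715) (.node (nat_lit 709) (.node (nat_lit 706) (.node (nat_lit 705) (.leaf ((nat_lit 621), [nat_lit 6, nat_lit 1, nat_lit 4, nat_lit 5, nat_lit 6, nat_lit 5, nat_lit 4, nat_lit 1, nat_lit 0, nat_lit 4, nat_lit 3, nat_lit 0])) (.leaf ((nat_lit 622), [nat_lit 0, nat_lit 6, nat_lit 5, nat_lit 2, nat_lit 6, nat_lit 3, nat_lit 4, nat_lit 1, nat_lit 0, nat_lit 4, nat_lit 3, nat_lit 2, nat_lit 0]))) (.node (nat_lit 707) (.leaf ((nat_lit 418), [nat_lit 3, nat_lit 6, nat_lit 0, nat_lit 2, nat_lit 6, nat_lit 2, nat_lit 5, nat_lit 1, nat_lit 4, nat_lit 2, nat_lit 3, nat_lit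 0])) (.node (nat_lit 708) (.leaf ((nat_lit 623), [nat_lit 6, nat_lit 1, nat_lit 5, nat_lit 6, nat_lit 0, nat_lit 2, nat_lit 4, nat_lit 1, nat_lit 4, nat_lit 3, nat_lit 2, nat_lit 0])) (.leaf ((nat_lit 624), [nat_lit 2, nat_lit 5, nat_lit 6, nat_lit 1, nat_lit 6, nat_lit 4, nat_lit 2, nat_lit 4, nat_lit 5, nat_lit 2])))))
 (.node (nat_lit 712) (.node (nat_lit 710) (.leaf ((nat_lit 625), [nat_lit 2, nat_lit 4, nat_lit 3, nat_lit 6, nat_lit 0, nat_lit 4, nat_lit 1, nat_lit 0, nat_lit 4, nat_lit 1, nat_lit 3, nat_lit 2])) (.node (nat_lit 711) (.leaf ((nat_lit 626), [nat_lit 3, nat_lit 4, nat_lit 1, nat_lit 6, nat_lit 4, nat_lit 2, nat_lit 4, nat_lit 0, nat_lit 4, nat_lit 2, nat_lit 3, nat_lit 2, nat_lit 0])) (.leaf ((nat_lit 627), [nat_lit 4, nat_lit 6, nat_lit 2, nat_lit 4, nat_lit 6, nat_lit 4, nat_lit 0, nat_lit 1, nat_lit 4, nat_lit 2])))) (.node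 (nat_lit 713) (.leaf ((nat_lit 628), [nat_lit 2, nat_lit 6, nat_lit 5, nat_lit 2, nat_lit 4, nat_lit 6, nat_lit 5, nat_lit 2, nat_lit 3, nat_lit 4, nat_lit 3])) (.node (nat_lit 714) (.leaf ((nat_lit 97), [nat_lit 5, nat_lit 3, nat_lit 6, nat_lit 4, nat_lit 3, nat_lit 6, nat_lit 2, nat_lit 5, nat_lit 3, nat_lit 4, nat_lit 1])) (.leaf ((nat_lit 629), [nat_lit 0, nat_lit 1, nat_lit 5, nat_lit 6, nat_lit 1, nat_lit 5, nat_lit 2, nat_lit 4, nat_lit 1, nat_lit 3, nat_lit 0]))))))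
 (.node (nat_lit 720) (.node (nat_lit 717) (.node (nat_lit 716) (.leaf ((nat_lit 630), [nat_lit 1, nat_lit 6, nat_lit 3, nat_lit 0, nat_lit 6, nat_lit 1, nat_lit 4, nat_lit 1, nat_lit 4, nat_lit 3, nat_lit 2])) (.leaf ((nat_lit 272), [nat_lit 4, nat_lit 6, nat_lit 3, nat_lit 5, nat_lit 0, nat_lit 6, nat_lit 0, nat_lit 4, nat_lit 0, nat_lit 5, nat_lit 1, nat_lit 0, nat_lit 2, nat_lit 0]))) (.node (nat_lit 718) (.leaf ((nat_lit 631), [nat_lit 6, nat_lit 2, nat_lit 0, nat_lit 2, nat_lit 6, nat_lit 5, nat_lit 0, nat_lit 4, nat_lit 3, nat_lit 5, nat_lit 1, nat_lit 3, nat_lit 2, nat_lit 0])) (.node (nat_lit 719) (.leaf ((nat_lit 534), [nat_lit 6, nat_lit 2, nat_lit 4, nat_lit 2, nat_lit 6, nat_lit 3, nat_lit 0, nat_lit 4, nat_lit 5, nat_lit 2])) (.leaf ((nat_lit 632), [nat_lit 3, nat_lit 6, nat_lit 2, nat_lit 4, nat_lit 6, nat_lit 1, nat_lit 3, nat_lit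 2, nat_lit 4, nat_lit 3, nat_lit 1])))))
 (.node (nat_lit 723) (.node (nat_lit 721) (.leaf ((nat_lit 631), [nat_lit 6, nat_lit 5, nat_lit 6, nat_lit 3, nat_lit 0, nat_lit 6, nat_lit 4, nat_lit 0, nat_lit 1, nat_lit 4, nat_lit 2, nat_lit 3, nat_lit 2])) (.node (nat_lit 722) (.leaf ((nat_lit 298), [nat_lit 2, nat_lit 6, nat_lit 4, nat_lit 3, nat_lit 6, nat_lit 4, nat_lit 0, nat_lit 5, nat_lit 2, nat_lit 0, nat_lit 4, nat_lit 1, nat_lit 0])) (.leaf ((nat_lit 176), [nat_lit 4, nat_lit 6, nat_lit 4, nat_lit 1, nat_lit 3, nat_lit 6, nat_lit 0, nat_lit 1, nat_lit 4, nat_lit 0, nat_lit 4, nat_lit 0])))) (.node (nat_lit 724) (.leaf ((nat_lit 549), [nat_lit 0, nat_lit 2, nat_lit 6, nat_lit 2, nat_lit 6, nat_lit 2, nat_lit 4, nat_lit 0, nat_lit 1, nat_lit 4, nat_lit 2, nat_lit 0, nat_lit 2])) (.node (nat_lit 725) (.leaf ((nat_lit 633), [nat_lit 1, nat_lit 5,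 nat_lit 6, nat_lit 1, nat_lit 6, nat_lit 3, nat_lit 2, nat_lit 0, nat_lit 4, nat_lit 0, nat_lit 1, nat_lit 0])) (.leaf ((nat_lit 634), [nat_lit 6, nat_lit 0, nat_lit 1, nat_lit 6, nat_lit 1, nat_lit 6, nat_lit 3, nat_lit 5, nat_lit 1, nat_lit 5, nat_lit 2, nat_lit 0, nat_lit 1, nat_lit 0])))))))
 (.node (nat_lit 737) (.node (nat_lit 731) (.node (nat_lit 728) (.node (nat_lit 727) (.leaf ((nat_lit 635), [nat_lit 6, nat_lit 1, nat_lit 3, nat_lit 6, nat_lit 3, nat_lit 2, nat_lit 4, nat_lit 3, nat_lit 1, nat_lit 0])) (.leaf ((nat_lit 636), [nat_lit 6, nat_lit 4, nat_lit 1, nat_lit 5, nat_lit 6, nat_lit 5, nat_lit 0, nat_lit 4, nat_lit 3, nat_lit 4, nat_lit 0]))) (.node (nat_lit 729) (.leaf ((nat_lit 637), [nat_lit 6, nat_lit 3, nat_lit 2, nat_lit 5, nat_lit 6, nat_lit 1, nat_lit 3, nat_lit 4, nat_lit 2, nat_lit 0, nat_lit 1, nat_lit 0])) (.node (nat_lit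 730) (.leaf ((nat_lit 79), [nat_lit 2, nat_lit 6, nat_lit 3, nat_lit 2, nat_lit 6, nat_lit 0, nat_lit 1, nat_lit 4, nat_lit 3, nat_lit 5, nat_lit 3, nat_lit 1, nat_lit 0])) (.leaf ((nat_lit 638), [nat_lit 6, nat_lit 2, nat_lit 3, nat_lit 5, nat_lit 6, nat_lit 5, nat_lit 3, nat_lit 4, nat_lit 1, nat_lit 3, nat_lit 4, nat_lit 2, nat_lit 0, nat_lit 2, nat_lit 0])))))
 (.node (nat_lit 734) (.node (nat_lit 732) (.leaf ((nat_lit 639), [nat_lit 4, nat_lit 6, nat_lit 2, nat_lit 0, nat_lit 6, nat_lit 1, nat_lit 4, nat_lit 2, nat_lit 3, nat_lit 4, nat_lit 1, nat_lit 0, nat_lit 2])) (.node (nat_lit 733) (.leaf ((nat_lit 622), [nat_lit 3, nat_lit 2, nat_lit 6, nat_lit 4, nat_lit 1, nat_lit 6, nat_lit 5, nat_lit 4, nat_lit 2, nat_lit 5, nat_lit 0])) (.leaf ((nat_lit 640), [nat_lit 6, nat_lit 0, nat_lit 4, nat_lit 6, nat_lit 5, nat_lit 2, nat_lit 3, nat_lit 2,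 nat_lit 4, nat_lit 1, nat_lit 0, nat_lit 2, nat_lit 0])))) (.node (nat_lit 735) (.leaf ((nat_lit 171), [nat_lit 4, nat_lit 6, nat_lit 3, nat_lit 5, nat_lit 0, nat_lit 6, nat_lit 2, nat_lit 0, nat_lit 4, nat_lit 1, nat_lit 4, nat_lit 2, nat_lit 3, nat_lit 1, nat_lit 0])) (.node (nat_lit 736) (.leaf ((nat_lit 641), [nat_lit 0, nat_lit 6, nat_lit 2, nat_lit 4, nat_lit 2, nat_lit 6, nat_lit 1, nat_lit 4, nat_lit 1, nat_lit 0, nat_lit 4, nat_lit 2, nat_lit 0, nat_lit 2, nat_lit 0])) (.leaf ((nat_lit 642), [nat_lit 5, nat_lit 6, nat_lit 3, nat_lit 5, nat_lit 3, nat_lit 6, nat_lit 1, nat_lit 3, nat_lit 4, nat_lit 2, nat_lit 4, nat_lit 1, nat_lit 3]))))))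
 (.node (nat_lit 742) (.node (nat_lit 739) (.node (nat_lit 738) (.leaf ((nat_lit 643), [nat_lit 5, nat_lit 4, nat_lit 1, nat_lit 6, nat_lit 4, nat_lit 3, nat_lit 1, nat_lit 0])) (.leaf ((nat_lit 644), [nat_lit 6, nat_lit 1, nat_lit 4, nat_lit 6, nat_lit 5, nat_lit 4, nat_lit 5, nat_lit 1, nat_lit 4, nat_lit 0, nat_lit 1, nat_lit 0]))) (.node (nat_lit 740) (.leaf ((nat_lit 645), [nat_lit 0, nat_lit 6, nat_lit 5, nat_lit 6, nat_lit 3, nat_lit 6, nat_lit 2, nat_lit 4, nat_lit 0, nat_lit 2, nat_lit 4, nat_lit 2, nat_lit 0])) (.node (nat_lit 741) (.leaf ((nat_lit 646), [nat_lit 4, nat_lit 6, nat_lit 2, nat_lit 0, nat_lit 6, nat_lit 2, nat_lit 3, nat_lit 0, nat_lit 4, nat_lit 3, nat_lit 0])) (.leaf ((nat_lit 591), [nat_lit 4, nat_lit 2, nat_lit 5, nat_lit 6, nat_lit 1, nat_lit 5, nat_lit 2, nat_lit 5, nat_lit 2, nat_lit 0, nat_lit 1])))))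
 (.node (nat_lit 745) (.node (nat_lit 743) (.leaf ((nat_lit 647), [nat_lit 5, nat_lit 2, nat_lit 5, nat_lit 6, nat_lit 1, nat_lit 6, nat_lit 4, nat_lit 2, nat_lit 3, nat_lit 0, nat_lit 4, nat_lit 3, nat_lit 1])) (.node (nat_lit 744) (.leaf ((nat_lit 648), [nat_lit 4, nat_lit 0, nat_lit 6, nat_lit 1, nat_lit 5, nat_lit 6, nat_lit 5, nat_lit 1, nat_lit 5, nat_lit 0, nat_lit 2, nat_lit 4, nat_lit 3, nat_lit 2, nat_lit 0])) (.leaf ((nat_lit 117), [nat_lit 1, nat_lit 6, nat_lit 4, nat_lit 0, nat_lit 2, nat_lit 6, nat_lit 2, nat_lit 3, nat_lit 1, nat_lit 0, nat_lit 4, nat_lit 1, nat_lit 3, nat_lit 1])))) (.node (nat_lit 746) (.leaf ((nat_lit 649), [nat_lit 5, nat_lit 1, nat_lit 6, nat_lit 1, nat_lit 6, nat_lit 1, nat_lit 4, nat_lit 3, nat_lit 0, nat_lit 4, nat_lit 0, nat_lit 1, nat_lit 0])) (.node (nat_lit 747) (.leaf ((nat_lit 650), [nat_lit 4, nat_lit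 0, nat_lit 6, nat_lit 1, nat_lit 5, nat_lit 6, nat_lit 2, nat_lit 0, nat_lit 5, nat_lit 2, nat_lit 4, nat_lit 2, nat_lit 0, nat_lit 2])) (.leaf ((nat_lit 651), [nat_lit 5, nat_lit 3, nat_lit 4, nat_lit 6, nat_lit 2, nat_lit 6, nat_lit 5, nat_lit 4, nat_lit 1, nat_lit 0, nat_lit 4, nat_lit 2, nat_lit 3, nat_lit 1, nat_lit 0]))))))))
 (.node (nat_lit 770) (.node (nat_lit 759) (.node (nat_lit 753) (.node (nat_lit 750) (.node (nat_lit 749) (.leaf ((nat_lit 206), [nat_lit 5, nat_lit 6, nat_lit 2, nat_lit 3, nat_lit 6, nat_lit 4, nat_lit 0, nat_lit 1, nat_lit 4, nat_lit 1, nat_lit 3, nat_lit 2, nat_lit 0])) (.leaf ((nat_lit 150), [nat_lit 2, nat_lit 5, nat_lit 3, nat_lit 6, nat_lit 4, nat_lit 0, nat_lit 6, nat_lit 5, nat_lit 2, nat_lit 5, nat_lit 0, nat_lit 4, nat_lit 1, nat_lit 3, nat_lit 2]))) (.node (nat_lit 751) (.leaf ((nat_lit 652), [nat_lit 2, nat_lit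 6, nat_lit 2, nat_lit 4, nat_lit 6, nat_lit 1, nat_lit 5, nat_lit 4, nat_lit 5, nat_lit 3, nat_lit 2])) (.node (nat_lit 752) (.leaf ((nat_lit 653), [nat_lit 6, nat_lit 2, nat_lit 5, nat_lit 6, nat_lit 2, nat_lit 6, nat_lit 2, nat_lit 3, nat_lit 4, nat_lit 5, nat_lit 2, nat_lit 0])) (.leaf ((nat_lit 654), [nat_lit 0, nat_lit 6, nat_lit 2, nat_lit 3, nat_lit 6, nat_lit 4, nat_lit 2, nat_lit 4, nat_lit 1, nat_lit 3, nat_lit 1, nat_lit 0])))))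
 (.node (nat_lit 756) (.node (nat_lit 754) (.leaf ((nat_lit 141), [nat_lit 6, nat_lit 2, nat_lit 6, nat_lit 1, nat_lit 0, nat_lit 6, nat_lit 1, nat_lit 5, nat_lit 1, nat_lit 4, nat_lit 3])) (.node (nat_lit 755) (.leaf ((nat_lit 568), [nat_lit 2, nat_lit 4, nat_lit 1, nat_lit 6, nat_lit 4, nat_lit 0, nat_lit 4, nat_lit 1, nat_lit 4, nat_lit 3])) (.leaf ((nat_lit 655), [nat_lit 1, nat_lit 6, nat_lit 3, nat_lit 1, nat_lit 5, nat_lit 4, nat_lit 0, nat_lit 1, nat_lit 0])))) (.node (nat_lit 757) (.leaf ((nat_lit 656), [nat_lit 0, nat_lit 6, nat_lit 0, nat_lit 1, nat_lit 6, nat_lit 3, nat_lit 0, nat_lit 4, nat_lit 1, nat_lit 4, nat_lit 1, nat_lit 3, nat_lit 1])) (.node (nat_lit 758) (.leaf ((nat_lit 657), [nat_lit 1, nat_lit 4, nat_lit 6, nat_lit 2, nat_lit 3, nat_lit 6, nat_lit 5, nat_lit 3, nat_lit 0, nat_lit 4, nat_lit 1])) (.leaf ((nat_lit 149), [nat_lit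 4, nat_lit 1, nat_lit 6, nat_lit 2, nat_lit 6, nat_lit 3, nat_lit 0, nat_lit 4, nat_lit 1, nat_lit 5, nat_lit 1, nat_lit 3, nat_lit 1, nat_lit 0]))))))
 (.node (nat_lit 764) (.node (nat_lit 761) (.node (nat_lit 760) (.leaf ((nat_lit 548), [nat_lit 2, nat_lit 4, nat_lit 6, nat_lit 4, nat_lit 1, nat_lit 6, nat_lit 5, nat_lit 2, nat_lit 3, nat_lit 4, nat_lit 2, nat_lit 3, nat_lit 0])) (.leaf ((nat_lit 658), [nat_lit 3, nat_lit 6, nat_lit 0, nat_lit 2, nat_lit 6, nat_lit 3, nat_lit 2, nat_lit 5, nat_lit 4, nat_lit 1, nat_lit 3, nat_lit 1]))) (.node (nat_lit 762) (.leaf ((nat_lit 659), [nat_lit 0, nat_lit 6, nat_lit 5, nat_lit 6, nat_lit 3, nat_lit 6, nat_lit 5, nat_lit 2, nat_lit 5, nat_lit 1, nat_lit 0, nat_lit 4, nat_lit 2, nat_lit 0, nat_lit 2])) (.node (nat_lit 763) (.leaf ((nat_lit 660), [nat_lit 0, nat_lit 6, nat_lit 0, nat_lit 2, nat_lit 6, nat_lit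 3, nat_lit 1, nat_lit 5, nat_lit 4, nat_lit 0, nat_lit 2])) (.leaf ((nat_lit 661), [nat_lit 6, nat_lit 0, nat_lit 1, nat_lit 6, nat_lit 0, nat_lit 4, nat_lit 1, nat_lit 5, nat_lit 1, nat_lit 3])))))
 (.node (nat_lit 767) (.node (nat_lit 765) (.leaf ((nat_lit 662), [nat_lit 2, nat_lit 5, nat_lit 6, nat_lit 2, nat_lit 0, nat_lit 6, nat_lit 5, nat_lit 1, nat_lit 4, nat_lit 1, nat_lit 4, nat_lit 2])) (.node (nat_lit 766) (.leaf ((nat_lit 576), [nat_lit 4, nat_lit 2, nat_lit 6, nat_lit 4, nat_lit 2, nat_lit 6, nat_lit 2, nat_lit 4, nat_lit 5, nat_lit 4, nat_lit 0, nat_lit 5, nat_lit 1, nat_lit 0, nat_lit 2])) (.leaf ((nat_lit 663), [nat_lit 6, nat_lit 5, nat_lit 6, nat_lit 3, nat_lit 6, nat_lit 0, nat_lit 1, nat_lit 4, nat_lit 0, nat_lit 4, nat_lit 3, nat_lit 2])))) (.node (nat_lit 768) (.leaf ((nat_lit 116), [nat_lit 3, nat_lit 6, nat_lit 5, nat_lit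 6, nat_lit 4, nat_lit 0, nat_lit 2, nat_lit 4, nat_lit 2, nat_lit 0, nat_lit 1, nat_lit 0])) (.node (nat_lit 769) (.leaf ((nat_lit 285), [nat_lit 0, nat_lit 1, nat_lit 6, nat_lit 4, nat_lit 1, nat_lit 6, nat_lit 4, nat_lit 5, nat_lit 4, nat_lit 5, nat_lit 2, nat_lit 0, nat_lit 2, nat_lit 0])) (.leaf ((nat_lit 55), [nat_lit 2, nat_lit 6, nat_lit 4, nat_lit 1, nat_lit 6, nat_lit 4, nat_lit 1, nat_lit 4, nat_lit 2, nat_lit 4, nat_lit 2, nat_lit 3])))))))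
 (.node (nat_lit 781) (.node (nat_lit 775) (.node (nat_lit 772) (.node (nat_lit 771) (.leaf ((nat_lit 664), [nat_lit 0, nat_lit 6, nat_lit 3, nat_lit 4, nat_lit 1, nat_lit 6, nat_lit 2, nat_lit 4, nat_lit 3, nat_lit 0, nat_lit 4, nat_lit 1, nat_lit 3, nat_lit 2, nat_lit 0])) (.leaf ((nat_lit 665), [nat_lit 4, nat_lit 6, nat_lit 2, nat_lit 4, nat_lit 2, nat_lit 6, nat_lit 5, nat_lit 2, nat_lit 3, nat_lit 4, nat_lit 1, nat_lit 3]))) (.node (nat_lit 773) (.leaf ((nat_lit 641), [nat_lit 0, nat_lit 1, nat_lit 4, nat_lit 2, nat_lit 6, nat_lit 3, nat_lit 0, nat_lit 4, nat_lit 5, nat_lit 1, nat_lit 0])) (.node (nat_lit 774) (.leaf ((nat_lit 666), [nat_lit 3, nat_lit 6, nat_lit 2, nat_lit 6, nat_lit 4, nat_lit 0, nat_lit 1, nat_lit 4, nat_lit 0, nat_lit 2, nat_lit 0])) (.leaf ((nat_lit 667), [nat_lit 0, nat_lit 4, nat_lit 6, nat_lit 2, nat_lit 6, nat_lit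 0, nat_lit 4, nat_lit 5, nat_lit 0, nat_lit 4, nat_lit 2, nat_lit 0, nat_lit 2])))))
 (.node (nat_lit 778) (.node (nat_lit 776) (.leaf ((nat_lit 668), [nat_lit 6, nat_lit 5, nat_lit 1, nat_lit 3, nat_lit 6, nat_lit 1, nat_lit 4, nat_lit 3, nat_lit 5, nat_lit 3, nat_lit 0])) (.node (nat_lit 777) (.leaf ((nat_lit 512), [nat_lit 5, nat_lit 4, nat_lit 5, nat_lit 6, nat_lit 4, nat_lit 0, nat_lit 6, nat_lit 4, nat_lit 0, nat_lit 5, nat_lit 2, nat_lit 0, nat_lit 4, nat_lit 1, nat_lit 0, nat_lit 2])) (.leaf ((nat_lit 5), [nat_lit 6, nat_lit 2, nat_lit 4, nat_lit 2, nat_lit 6, nat_lit 5, nat_lit 0, nat_lit 2, nat_lit 0, nat_lit 4, nat_lit 3, nat_lit 2])))) (.node (nat_lit 779) (.leaf ((nat_lit 623), [nat_lit 1, nat_lit 4, nat_lit 1, nat_lit 6, nat_lit 5, nat_lit 1, nat_lit 4, nat_lit 1, nat_lit 4, nat_lit 2, nat_lit 0, nat_lit 1, nat_lit 0])) (.node (nat_lit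 780) (.leaf ((nat_lit 669), [nat_lit 4, nat_lit 2, nat_lit 3, nat_lit 6, nat_lit 0, nat_lit 4, nat_lit 5, nat_lit 0, nat_lit 4, nat_lit 1])) (.leaf ((nat_lit 220), [nat_lit 5, nat_lit 6, nat_lit 1, nat_lit 5, nat_lit 6, nat_lit 2, nat_lit 0, nat_lit 2, nat_lit 4, nat_lit 2, nat_lit 4, nat_lit 0, nat_lit 2, nat_lit 0]))))))
 (.node (nat_lit 786) (.node (nat_lit 783) (.node (nat_lit 782) (.leaf ((nat_lit 670), [nat_lit 1, nat_lit 4, nat_lit 6, nat_lit 2, nat_lit 3, nat_lit 6, nat_lit 2, nat_lit 5, nat_lit 2, nat_lit 4, nat_lit 0, nat_lit 2])) (.leaf ((nat_lit 671), [nat_lit 6, nat_lit 4, nat_lit 1, nat_lit 6, nat_lit 2, nat_lit 6, nat_lit 4, nat_lit 2, nat_lit 3, nat_lit 4, nat_lit 3]))) (.node (nat_lit 784) (.leaf ((nat_lit 433), [nat_lit 2, nat_lit 4, nat_lit 1, nat_lit 6, nat_lit 5, nat_lit 2, nat_lit 6, nat_lit 3, nat_lit 5, nat_lit 4, nat_lit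 3, nat_lit 4, nat_lit 1, nat_lit 3, nat_lit 1])) (.node (nat_lit 785) (.leaf ((nat_lit 672), [nat_lit 6, nat_lit 3, nat_lit 4, nat_lit 6, nat_lit 2, nat_lit 5, nat_lit 1, nat_lit 0, nat_lit 4, nat_lit 3, nat_lit 2])) (.leaf ((nat_lit 41), [nat_lit 5, nat_lit 0, nat_lit 6, nat_lit 2, nat_lit 6, nat_lit 1, nat_lit 3, nat_lit 1, nat_lit 5, nat_lit 4, nat_lit 1, nat_lit 3, nat_lit 2])))))
 (.node (nat_lit 789) (.node (nat_lit 787) (.leaf ((nat_lit 673), [nat_lit 5, nat_lit 2, nat_lit 6, nat_lit 0, nat_lit 1, nat_lit 6, nat_lit 1, nat_lit 5, nat_lit 1, nat_lit 0, nat_lit 4])) (.node (nat_lit 788) (.leaf ((nat_lit 674), [nat_lit 4, nat_lit 2, nat_lit 0, nat_lit 6, nat_lit 2, nat_lit 6, nat_lit 3, nat_lit 0, nat_lit 5, nat_lit 2, nat_lit 0, nat_lit 2, nat_lit 0])) (.leaf ((nat_lit 675), [nat_lit 3, nat_lit 6, nat_lit 4, nat_lit 1, nat_lit 0, nat_lit 6,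 nat_lit 5, nat_lit 3, nat_lit 4, nat_lit 1, nat_lit 3, nat_lit 4, nat_lit 1, nat_lit 3, nat_lit 1])))) (.node (nat_lit 790) (.leaf ((nat_lit 106), [nat_lit 3, nat_lit 5, nat_lit 0, nat_lit 6, nat_lit 4, nat_lit 2, nat_lit 3, nat_lit 2, nat_lit 4, nat_lit 2, nat_lit 0, nat_lit 2])) (.node (nat_lit 791) (.leaf ((nat_lit 596), [nat_lit 3, nat_lit 6, nat_lit 2, nat_lit 3, nat_lit 6, nat_lit 2, nat_lit 4, nat_lit 1, nat_lit 0, nat_lit 4, nat_lit 2, nat_lit 3])) (.leaf ((nat_lit 676), [nat_lit 6, nat_lit 2, nat_lit 3, nat_lit 5, nat_lit 6, nat_lit 1, nat_lit 4, nat_lit 1, nat_lit 5, nat_lit 1, nat_lit 0, nat_lit 1])))))))))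
 (.node (nat_lit 836) (.node (nat_lit 814) (.node (nat_lit 803) (.node (nat_lit 797) (.node (nat_lit 794) (.node (nat_lit 793) (.leaf ((nat_lit 677), [nat_lit 2, nat_lit 5, nat_lit 6, nat_lit 0, nat_lit 1, nat_lit 4, nat_lit 1, nat_lit 0, nat_lit 2])) (.leaf ((nat_lit 436), [nat_lit 3, nat_lit 6, nat_lit 1, nat_lit 4, nat_lit 6, nat_lit 0, nat_lit 4, nat_lit 1, nat_lit 5, nat_lit 3, nat_lit 1]))) (.node (nat_lit 795) (.leaf ((nat_lit 678), [nat_lit 5, nat_lit 0, nat_lit 4, nat_lit 6, nat_lit 2, nat_lit 6, nat_lit 0, nat_lit 1, nat_lit 5, nat_lit 4, nat_lit 3, nat_lit 1, nat_lit 0])) (.node (nat_lit 796) (.leaf ((nat_lit 644), [nat_lit 6, nat_lit 3, nat_lit 6, nat_lit 4, nat_lit 0, nat_lit 6, nat_lit 0, nat_lit 1, nat_lit 4, nat_lit 0, nat_lit 4, nat_lit 2])) (.leaf ((nat_lit 592), [nat_lit 2, nat_lit 6, nat_lit 5, nat_lit 2, nat_lit 6, nat_lit 4,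 nat_lit 0, nat_lit 2, nat_lit 5, nat_lit 1, nat_lit 0, nat_lit 1])))))
 (.node (nat_lit 800) (.node (nat_lit 798) (.leaf ((nat_lit 362), [nat_lit 0, nat_lit 6, nat_lit 4, nat_lit 0, nat_lit 2, nat_lit 6, nat_lit 5, nat_lit 4, nat_lit 1, nat_lit 4, nat_lit 1, nat_lit 3, nat_lit 2, nat_lit 0])) (.node (nat_lit 799) (.leaf ((nat_lit 679), [nat_lit 4, nat_lit 6, nat_lit 3, nat_lit 2, nat_lit 6, nat_lit 2, nat_lit 0, nat_lit 4, nat_lit 1, nat_lit 4, nat_lit 1, nat_lit 0, nat_lit 2, nat_lit 0])) (.leaf ((nat_lit 680), [nat_lit 5, nat_lit 1, nat_lit 0, nat_lit 6, nat_lit 2, nat_lit 4, nat_lit 5, nat_lit 4, nat_lit 2])))) (.node (nat_lit 801) (.leaf ((nat_lit 681), [nat_lit 1, nat_lit 4, nat_lit 5, nat_lit 6, nat_lit 5, nat_lit 1, nat_lit 4, nat_lit 5, nat_lit 2, nat_lit 0])) (.node (nat_lit 802) (.leaf ((nat_lit 682), [nat_lit 3, nat_lit 1, nat_lit 6, nat_lit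 3, nat_lit 0, nat_lit 6, nat_lit 3, nat_lit 5, nat_lit 4, nat_lit 2, nat_lit 0])) (.leaf ((nat_lit 683), [nat_lit 6, nat_lit 2, nat_lit 6, nat_lit 4, nat_lit 0, nat_lit 6, nat_lit 4, nat_lit 0, nat_lit 5, nat_lit 4, nat_lit 2, nat_lit 3, nat_lit 1, nat_lit 0]))))))
 (.node (nat_lit 808) (.node (nat_lit 805) (.node (nat_lit 804) (.leaf ((nat_lit 684), [nat_lit 5, nat_lit 0, nat_lit 4, nat_lit 6, nat_lit 2, nat_lit 6, nat_lit 0, nat_lit 2, nat_lit 4, nat_lit 2, nat_lit 3])) (.leaf ((nat_lit 420), [nat_lit 5, nat_lit 6, nat_lit 5, nat_lit 2, nat_lit 0, nat_lit 6, nat_lit 3, nat_lit 0, nat_lit 5, nat_lit 4, nat_lit 3, nat_lit 2, nat_lit 0]))) (.node (nat_lit 806) (.leaf ((nat_lit 511), [nat_lit 2, nat_lit 6, nat_lit 4, nat_lit 1, nat_lit 0, nat_lit 6, nat_lit 1, nat_lit 5, nat_lit 2, nat_lit 4, nat_lit 2, nat_lit 0])) (.node (nat_lit 807) (.leaf ((nat_lit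 684), [nat_lit 0, nat_lit 6, nat_lit 3, nat_lit 4, nat_lit 1, nat_lit 6, nat_lit 5, nat_lit 1, nat_lit 3, nat_lit 2, nat_lit 4, nat_lit 1, nat_lit 0])) (.leaf ((nat_lit 685), [nat_lit 5, nat_lit 0, nat_lit 2, nat_lit 6, nat_lit 3, nat_lit 0, nat_lit 4, nat_lit 1, nat_lit 4, nat_lit 1, nat_lit 3, nat_lit 2, nat_lit 0])))))
 (.node (nat_lit 811) (.node (nat_lit 809) (.leaf ((nat_lit 686), [nat_lit 3, nat_lit 1, nat_lit 5, nat_lit 6, nat_lit 2, nat_lit 6, nat_lit 2, nat_lit 5, nat_lit 2, nat_lit 0, nat_lit 4, nat_lit 2, nat_lit 3, nat_lit 0])) (.node (nat_lit 810) (.leaf ((nat_lit 687), [nat_lit 6, nat_lit 3, nat_lit 6, nat_lit 2, nat_lit 6, nat_lit 4, nat_lit 5, nat_lit 2, nat_lit 5, nat_lit 1])) (.leaf ((nat_lit 607), [nat_lit 2, nat_lit 5, nat_lit 1, nat_lit 6, nat_lit 2, nat_lit 6, nat_lit 4, nat_lit 3, nat_lit 2, nat_lit 5, nat_lit 4, nat_lit 1,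 nat_lit 0, nat_lit 1])))) (.node (nat_lit 812) (.leaf ((nat_lit 688), [nat_lit 0, nat_lit 4, nat_lit 6, nat_lit 5, nat_lit 3, nat_lit 4, nat_lit 1, nat_lit 3, nat_lit 1, nat_lit 0])) (.node (nat_lit 813) (.leaf ((nat_lit 689), [nat_lit 3, nat_lit 6, nat_lit 5, nat_lit 4, nat_lit 6, nat_lit 1, nat_lit 4, nat_lit 0, nat_lit 2, nat_lit 4, nat_lit 0, nat_lit 2, nat_lit 0])) (.leaf ((nat_lit 690), [nat_lit 6, nat_lit 0, nat_lit 2, nat_lit 0, nat_lit 6, nat_lit 5, nat_lit 1, nat_lit 5, nat_lit 0, nat_lit 2, nat_lit 4, nat_lit 0, nat_lit 1])))))))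
 (.node (nat_lit 825) (.node (nat_lit 819) (.node (nat_lit 816) (.node (nat_lit 815) (.leaf ((nat_lit 691), [nat_lit 0, nat_lit 6, nat_lit 2, nat_lit 4, nat_lit 0, nat_lit 6, nat_lit 3, nat_lit 4, nat_lit 0, nat_lit 4, nat_lit 1, nat_lit 3])) (.leaf ((nat_lit 637), [nat_lit 5, nat_lit 4, nat_lit 6, nat_lit 5, nat_lit 4, nat_lit 0, nat_lit 5, nat_lit 4, nat_lit 2, nat_lit 0, nat_lit 1]))) (.node (nat_lit 817) (.leaf ((nat_lit 692), [nat_lit 3, nat_lit 2, nat_lit 0, nat_lit 6, nat_lit 2, nat_lit 6, nat_lit 0, nat_lit 4, nat_lit 0, nat_lit 5, nat_lit 4, nat_lit 3, nat_lit 2, nat_lit 0])) (.node (nat_lit 818) (.leaf ((nat_lit 693), [nat_lit 3, nat_lit 6, nat_lit 1, nat_lit 6, nat_lit 2, nat_lit 4, nat_lit 3, nat_lit 2, nat_lit 4, nat_lit 2, nat_lit 3, nat_lit 2, nat_lit 0])) (.leaf ((nat_lit 604), [nat_lit 5, nat_lit 1, nat_lit 6, nat_lit 2, nat_lit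 6, nat_lit 4, nat_lit 5, nat_lit 4, nat_lit 5, nat_lit 2, nat_lit 0, nat_lit 2, nat_lit 0])))))
 (.node (nat_lit 822) (.node (nat_lit 820) (.leaf ((nat_lit 694), [nat_lit 5, nat_lit 1, nat_lit 5, nat_lit 6, nat_lit 1, nat_lit 5, nat_lit 2, nat_lit 4, nat_lit 2, nat_lit 0, nat_lit 2, nat_lit 0])) (.node (nat_lit 821) (.leaf ((nat_lit 515), [nat_lit 2, nat_lit 6, nat_lit 2, nat_lit 6, nat_lit 5, nat_lit 3, nat_lit 4, nat_lit 0])) (.leaf ((nat_lit 695), [nat_lit 4, nat_lit 6, nat_lit 2, nat_lit 4, nat_lit 0, nat_lit 6, nat_lit 2, nat_lit 3, nat_lit 4, nat_lit 5, nat_lit 2, nat_lit 3, nat_lit 2])))) (.node (nat_lit 823) (.leaf ((nat_lit 78), [nat_lit 3, nat_lit 6, nat_lit 5, nat_lit 3, nat_lit 6, nat_lit 2, nat_lit 3, nat_lit 2, nat_lit 4, nat_lit 0])) (.node (nat_lit 824) (.leaf ((nat_lit 696), [nat_lit 6, nat_lit 1, nat_lit 6, nat_lit 4, nat_lit 0,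 nat_lit 6, nat_lit 4, nat_lit 5, nat_lit 3, nat_lit 4, nat_lit 3, nat_lit 1, nat_lit 0])) (.leaf ((nat_lit 697), [nat_lit 6, nat_lit 1, nat_lit 6, nat_lit 4, nat_lit 0, nat_lit 6, nat_lit 1, nat_lit 0, nat_lit 1, nat_lit 0, nat_lit 4, nat_lit 0]))))))
 (.node (nat_lit 830) (.node (nat_lit 827) (.node (nat_lit 826) (.leaf ((nat_lit 698), [nat_lit 1, nat_lit 6, nat_lit 3, nat_lit 5, nat_lit 6, nat_lit 4, nat_lit 3, nat_lit 2, nat_lit 4, nat_lit 3, nat_lit 1])) (.leaf ((nat_lit 699), [nat_lit 0, nat_lit 6, nat_lit 0, nat_lit 1, nat_lit 5, nat_lit 6, nat_lit 5, nat_lit 1, nat_lit 4]))) (.node (nat_lit 828) (.leaf ((nat_lit 438), [nat_lit 1, nat_lit 6, nat_lit 1, nat_lit 4, nat_lit 1, nat_lit 6, nat_lit 1, nat_lit 4, nat_lit 1, nat_lit 5, nat_lit 1, nat_lit 3, nat_lit 2])) (.node (nat_lit 829) (.leaf ((nat_lit 700), [nat_lit 6, nat_lit 4, nat_lit 0, nat_lit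 2, nat_lit 6, nat_lit 3, nat_lit 1, nat_lit 5, nat_lit 3, nat_lit 4, nat_lit 3, nat_lit 2])) (.leaf ((nat_lit 701), [nat_lit 6, nat_lit 1, nat_lit 4, nat_lit 3, nat_lit 6, nat_lit 3, nat_lit 0, nat_lit 4, nat_lit 0, nat_lit 4, nat_lit 1, nat_lit 0])))))
 (.node (nat_lit 833) (.node (nat_lit 831) (.leaf ((nat_lit 702), [nat_lit 5, nat_lit 6, nat_lit 3, nat_lit 4, nat_lit 6, nat_lit 5, nat_lit 3, nat_lit 5, nat_lit 4, nat_lit 1, nat_lit 3, nat_lit 2])) (.node (nat_lit 832) (.leaf ((nat_lit 324), [nat_lit 4, nat_lit 6, nat_lit 2, nat_lit 3, nat_lit 6, nat_lit 3, nat_lit 4, nat_lit 0, nat_lit 5, nat_lit 0, nat_lit 1])) (.leaf ((nat_lit 703), [nat_lit 0, nat_lit 5, nat_lit 6, nat_lit 2, nat_lit 6, nat_lit 2, nat_lit 3, nat_lit 0, nat_lit 4, nat_lit 2, nat_lit 0, nat_lit 2])))) (.node (nat_lit 834) (.leaf ((nat_lit 273), [nat_lit 6, nat_lit 0, nat_lit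 2, nat_lit 6, nat_lit 0, nat_lit 2, nat_lit 4, nat_lit 5, nat_lit 3, nat_lit 0])) (.node (nat_lit 835) (.leaf ((nat_lit 704), [nat_lit 4, nat_lit 6, nat_lit 4, nat_lit 0, nat_lit 2, nat_lit 6, nat_lit 1, nat_lit 5, nat_lit 4, nat_lit 1, nat_lit 4, nat_lit 1, nat_lit 3, nat_lit 2])) (.leaf ((nat_lit 705), [nat_lit 3, nat_lit 6, nat_lit 1, nat_lit 6, nat_lit 1, nat_lit 4, nat_lit 5, nat_lit 2, nat_lit 5, nat_lit 0]))))))))
 (.node (nat_lit 858) (.node (nat_lit 847) (.node (nat_lit 841) (.node (nat_lit 838) (.node (nat_lit 837) (.leaf ((nat_lit 253), [nat_lit 6, nat_lit 3, nat_lit 2, nat_lit 5, nat_lit 6, nat_lit 0, nat_lit 4, nat_lit 0, nat_lit 4, nat_lit 1, nat_lit 0])) (.leaf ((nat_lit 706), [nat_lit 5, nat_lit 1, nat_lit 6, nat_lit 4, nat_lit 1, nat_lit 6, nat_lit 1, nat_lit 5, nat_lit 2, nat_lit 0, nat_lit 4, nat_lit 0, nat_lit 1]))) (.node (nat_lit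 839) (.leaf ((nat_lit 707), [nat_lit 6, nat_lit 4, nat_lit 2, nat_lit 0, nat_lit 6, nat_lit 1, nat_lit 4, nat_lit 3, nat_lit 5, nat_lit 0, nat_lit 1])) (.node (nat_lit 840) (.leaf ((nat_lit 708), [nat_lit 4, nat_lit 5, nat_lit 6, nat_lit 5, nat_lit 2, nat_lit 5, nat_lit 1, nat_lit 0, nat_lit 4, nat_lit 1, nat_lit 3, nat_lit 1, nat_lit 0])) (.leaf ((nat_lit 709), [nat_lit 1, nat_lit 5, nat_lit 0, nat_lit 6, nat_lit 1, nat_lit 6, nat_lit 3, nat_lit 5, nat_lit 1, nat_lit 0, nat_lit 4, nat_lit 3])))))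
 (.node (nat_lit 844) (.node (nat_lit 842) (.leaf ((nat_lit 710), [nat_lit 4, nat_lit 6, nat_lit 5, nat_lit 2, nat_lit 0, nat_lit 6, nat_lit 4, nat_lit 5, nat_lit 1, nat_lit 3, nat_lit 4, nat_lit 1, nat_lit 0])) (.node (nat_lit 843) (.leaf ((nat_lit 711), [nat_lit 6, nat_lit 4, nat_lit 5, nat_lit 4, nat_lit 6, nat_lit 5, nat_lit 2, nat_lit 3])) (.leaf ((nat_lit 712), [nat_lit 6, nat_lit 5, nat_lit 6, nat_lit 3, nat_lit 0, nat_lit 6, nat_lit 2, nat_lit 5, nat_lit 1, nat_lit 5, nat_lit 4, nat_lit 0, nat_lit 2])))) (.node (nat_lit 845) (.leaf ((nat_lit 706), [nat_lit 6, nat_lit 1, nat_lit 6, nat_lit 5, nat_lit 1, nat_lit 6, nat_lit 4, nat_lit 0, nat_lit 5, nat_lit 2, nat_lit 5, nat_lit 1, nat_lit 0, nat_lit 1])) (.node (nat_lit 846) (.leaf ((nat_lit 679), [nat_lit 2, nat_lit 6, nat_lit 1, nat_lit 6, nat_lit 5, nat_lit 0, nat_lit 2, nat_lit 4, nat_lit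 1, nat_lit 0, nat_lit 1])) (.leaf ((nat_lit 713), [nat_lit 1, nat_lit 6, nat_lit 5, nat_lit 4, nat_lit 2, nat_lit 0]))))))
 (.node (nat_lit 852) (.node (nat_lit 849) (.node (nat_lit 848) (.leaf ((nat_lit 714), [nat_lit 0, nat_lit 6, nat_lit 0, nat_lit 2, nat_lit 6, nat_lit 2, nat_lit 3, nat_lit 4, nat_lit 2, nat_lit 0])) (.leaf ((nat_lit 715), [nat_lit 2, nat_lit 5, nat_lit 6, nat_lit 2, nat_lit 3, nat_lit 6, nat_lit 3, nat_lit 1, nat_lit 4, nat_lit 1, nat_lit 4, nat_lit 0, nat_lit 1]))) (.node (nat_lit 850) (.leaf ((nat_lit 716), [nat_lit 2, nat_lit 6, nat_lit 5, nat_lit 4, nat_lit 2, nat_lit 0, nat_lit 6, nat_lit 3, nat_lit 0, nat_lit 4, nat_lit 5, nat_lit 2, nat_lit 3, nat_lit 0])) (.node (nat_lit 851) (.leaf ((nat_lit 717), [nat_lit 3, nat_lit 1, nat_lit 0, nat_lit 6, nat_lit 2, nat_lit 6, nat_lit 0, nat_lit 4, nat_lit 1, nat_lit 3, nat_lit 0]))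 (.leaf ((nat_lit 718), [nat_lit 5, nat_lit 6, nat_lit 1, nat_lit 6, nat_lit 3, nat_lit 0, nat_lit 4, nat_lit 3, nat_lit 0])))))
 (.node (nat_lit 855) (.node (nat_lit 853) (.leaf ((nat_lit 719), [nat_lit 4, nat_lit 6, nat_lit 2, nat_lit 6, nat_lit 1, nat_lit 6, nat_lit 4, nat_lit 1, nat_lit 5, nat_lit 2, nat_lit 5, nat_lit 1])) (.node (nat_lit 854) (.leaf ((nat_lit 496), [nat_lit 6, nat_lit 2, nat_lit 3, nat_lit 6, nat_lit 0, nat_lit 4, nat_lit 3, nat_lit 0, nat_lit 4, nat_lit 1, nat_lit 0, nat_lit 1])) (.leaf ((nat_lit 649), [nat_lit 1, nat_lit 6, nat_lit 4, nat_lit 1, nat_lit 0, nat_lit 6, nat_lit 5, nat_lit 1, nat_lit 3, nat_lit 4, nat_lit 5, nat_lit 1, nat_lit 0, nat_lit 1])))) (.node (nat_lit 856) (.leaf ((nat_lit 720), [nat_lit 3, nat_lit 2, nat_lit 6, nat_lit 1, nat_lit 4, nat_lit 6, nat_lit 2, nat_lit 4, nat_lit 0, nat_lit 4, nat_lit 2, nat_lit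 3, nat_lit 0])) (.node (nat_lit 857) (.leaf ((nat_lit 721), [nat_lit 5, nat_lit 3, nat_lit 6, nat_lit 5, nat_lit 1, nat_lit 6, nat_lit 0, nat_lit 4, nat_lit 3, nat_lit 0, nat_lit 4, nat_lit 2, nat_lit 3, nat_lit 1, nat_lit 0])) (.leaf ((nat_lit 722), [nat_lit 3, nat_lit 2, nat_lit 6, nat_lit 4, nat_lit 1, nat_lit 6, nat_lit 2, nat_lit 4, nat_lit 3, nat_lit 0, nat_lit 4, nat_lit 1, nat_lit 3, nat_lit 1, nat_lit 0])))))))
 (.node (nat_lit 869) (.node (nat_lit 863) (.node (nat_lit 860) (.node (nat_lit 859) (.leaf ((nat_lit 657), [nat_lit 2, nat_lit 5, nat_lit 2, nat_lit 6, nat_lit 4, nat_lit 0, nat_lit 5, nat_lit 2, nat_lit 3])) (.leaf ((nat_lit 723), [nat_lit 5, nat_lit 4, nat_lit 6, nat_lit 0, nat_lit 4, nat_lit 3, nat_lit 5, nat_lit 1, nat_lit 0]))) (.node (nat_lit 861) (.leaf ((nat_lit 724), [nat_lit 3, nat_lit 4, nat_lit 1, nat_lit 6, nat_lit 2,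 nat_lit 3, nat_lit 4, nat_lit 1, nat_lit 0, nat_lit 1])) (.node (nat_lit 862) (.leaf ((nat_lit 725), [nat_lit 6, nat_lit 5, nat_lit 2, nat_lit 6, nat_lit 5, nat_lit 4, nat_lit 2, nat_lit 3, nat_lit 4, nat_lit 0, nat_lit 2, nat_lit 0])) (.leaf ((nat_lit 726), [nat_lit 2, nat_lit 5, nat_lit 1, nat_lit 6, nat_lit 2, nat_lit 6, nat_lit 0, nat_lit 1, nat_lit 4, nat_lit 3, nat_lit 5, nat_lit 2, nat_lit 3, nat_lit 2])))))
 (.node (nat_lit 866) (.node (nat_lit 864) (.leaf ((nat_lit 727), [nat_lit 6, nat_lit 4, nat_lit 3, nat_lit 6, nat_lit 3, nat_lit 4, nat_lit 2, nat_lit 0, nat_lit 2, nat_lit 4, nat_lit 2, nat_lit 0, nat_lit 2, nat_lit 0])) (.node (nat_lit 865) (.leaf ((nat_lit 728), [nat_lit 5, nat_lit 3, nat_lit 6, nat_lit 5, nat_lit 1, nat_lit 6, nat_lit 5, nat_lit 0, nat_lit 4, nat_lit 3, nat_lit 5, nat_lit 2, nat_lit 3, nat_lit 1, nat_lit 0])) (.leaf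 ((nat_lit 729), [nat_lit 3, nat_lit 6, nat_lit 0, nat_lit 5, nat_lit 3, nat_lit 6, nat_lit 0, nat_lit 2, nat_lit 4, nat_lit 2, nat_lit 4, nat_lit 1, nat_lit 3])))) (.node (nat_lit 867) (.leaf ((nat_lit 730), [nat_lit 4, nat_lit 3, nat_lit 6, nat_lit 2, nat_lit 6, nat_lit 2, nat_lit 4, nat_lit 1, nat_lit 0, nat_lit 4, nat_lit 3, nat_lit 2, nat_lit 0])) (.node (nat_lit 868) (.leaf ((nat_lit 731), [nat_lit 1, nat_lit 6, nat_lit 3, nat_lit 0, nat_lit 6, nat_lit 3, nat_lit 0, nat_lit 5, nat_lit 4, nat_lit 0, nat_lit 1, nat_lit 0])) (.leaf ((nat_lit 732), [nat_lit 1, nat_lit 5, nat_lit 6, nat_lit 1, nat_lit 0, nat_lit 6, nat_lit 4, nat_lit 1, nat_lit 3, nat_lit 4, nat_lit 2, nat_lit 0, nat_lit 2, nat_lit 0]))))))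
 (.node (nat_lit 874) (.node (nat_lit 871) (.node (nat_lit 870) (.leaf ((nat_lit 733), [nat_lit 3, nat_lit 0, nat_lit 6, nat_lit 1, nat_lit 5, nat_lit 6, nat_lit 5, nat_lit 4, nat_lit 1, nat_lit 4, nat_lit 2, nat_lit 0, nat_lit 1, nat_lit 0])) (.leaf ((nat_lit 729), [nat_lit 1, nat_lit 6, nat_lit 1, nat_lit 5, nat_lit 6, nat_lit 5, nat_lit 1, nat_lit 4, nat_lit 3, nat_lit 5, nat_lit 1, nat_lit 3, nat_lit 2, nat_lit 0]))) (.node (nat_lit 872) (.leaf ((nat_lit 734), [nat_lit 4, nat_lit 6, nat_lit 0, nat_lit 1, nat_lit 6, nat_lit 0, nat_lit 2, nat_lit 5, nat_lit 2, nat_lit 3, nat_lit 1])) (.node (nat_lit 873) (.leaf ((nat_lit 735), [nat_lit 2, nat_lit 5, nat_lit 6, nat_lit 2, nat_lit 0, nat_lit 6, nat_lit 2, nat_lit 5, nat_lit 0, nat_lit 4, nat_lit 1, nat_lit 3, nat_lit 2])) (.leaf ((nat_lit 736), [nat_lit 6, nat_lit 0, nat_lit 2, nat_lit 6, nat_lit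 1, nat_lit 3, nat_lit 2, nat_lit 4, nat_lit 1, nat_lit 3])))))
 (.node (nat_lit 877) (.node (nat_lit 875) (.leaf ((nat_lit 737), [nat_lit 6, nat_lit 1, nat_lit 4, nat_lit 5, nat_lit 6, nat_lit 2, nat_lit 5, nat_lit 3, nat_lit 5, nat_lit 4, nat_lit 1, nat_lit 0, nat_lit 2])) (.node (nat_lit 876) (.leaf ((nat_lit 391), [nat_lit 6, nat_lit 2, nat_lit 6, nat_lit 1, nat_lit 4, nat_lit 6, nat_lit 0, nat_lit 5, nat_lit 2, nat_lit 0, nat_lit 4, nat_lit 2])) (.leaf ((nat_lit 409), [nat_lit 4, nat_lit 2, nat_lit 5, nat_lit 6, nat_lit 5, nat_lit 1, nat_lit 3, nat_lit 4, nat_lit 2, nat_lit 3, nat_lit 1])))) (.node (nat_lit 878) (.leaf ((nat_lit 677), [nat_lit 5, nat_lit 6, nat_lit 3, nat_lit 6, nat_lit 5, nat_lit 4, nat_lit 2, nat_lit 0, nat_lit 4, nat_lit 3, nat_lit 2])) (.node (nat_lit 879) (.leaf ((nat_lit 738), [nat_lit 4, nat_lit 3, nat_lit 5, nat_lit 6,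 nat_lit 2, nat_lit 6, nat_lit 4, nat_lit 3, nat_lit 4, nat_lit 0, nat_lit 5, nat_lit 2, nat_lit 3, nat_lit 0])) (.leaf ((nat_lit 417), [nat_lit 5, nat_lit 6, nat_lit 4, nat_lit 2, nat_lit 0, nat_lit 6, nat_lit 4, nat_lit 3, nat_lit 5, nat_lit 1, nat_lit 0, nat_lit 4, nat_lit 1, nat_lit 3, nat_lit 0]))))))))))
noncomputable def rWd_5 : Tr (ℕ × List ℕ) := (.node (nat_lit 968) (.node (nat_lit 924) (.node (nat_lit 902) (.node (nat_lit 891) (.node (nat_lit 885) (.node (nat_lit 882) (.node (nat_lit 881) (.leaf ((nat_lit 552), [nat_lit 2, nat_lit 5, nat_lit 6, nat_lit 4, nat_lit 0, nat_lit 6, nat_lit 0, nat_lit 1, nat_lit 0, nat_lit 4, nat_lit 2, nat_lit 3, nat_lit 1])) (.leaf ((nat_lit 739), [nat_lit 5, nat_lit 1, nat_lit 5, nat_lit 6, nat_lit 2, nat_lit 6, nat_lit 5, nat_lit 1, nat_lit 5, nat_lit 0, nat_lit 4, nat_lit 2, nat_lit 0, nat_lit 2]))) (.node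 (nat_lit 883) (.leaf ((nat_lit 740), [nat_lit 6, nat_lit 0, nat_lit 2, nat_lit 5, nat_lit 0, nat_lit 6, nat_lit 1, nat_lit 4, nat_lit 3, nat_lit 5, nat_lit 3, nat_lit 0])) (.node (nat_lit 884) (.leaf ((nat_lit 741), [nat_lit 3, nat_lit 4, nat_lit 6, nat_lit 2, nat_lit 6, nat_lit 3, nat_lit 4, nat_lit 3, nat_lit 0, nat_lit 4, nat_lit 1, nat_lit 0, nat_lit 1])) (.leaf ((nat_lit 742), [nat_lit 2, nat_lit 0, nat_lit 2, nat_lit 6, nat_lit 1, nat_lit 4, nat_lit 2, nat_lit 4, nat_lit 3, nat_lit 2])))))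
 (.node (nat_lit 888) (.node (nat_lit 886) (.leaf ((nat_lit 743), [nat_lit 5, nat_lit 1, nat_lit 6, nat_lit 2, nat_lit 4, nat_lit 6, nat_lit 4, nat_lit 3, nat_lit 2, nat_lit 4, nat_lit 2, nat_lit 0, nat_lit 1, nat_lit 0])) (.node (nat_lit 887) (.leaf ((nat_lit 744), [nat_lit 2, nat_lit 4, nat_lit 6, nat_lit 4, nat_lit 2, nat_lit 3, nat_lit 4, nat_lit 0])) (.leaf ((nat_lit 745), [nat_lit 6, nat_lit 1, nat_lit 4, nat_lit 6, nat_lit 5, nat_lit 3, nat_lit 4, nat_lit 1, nat_lit 3, nat_lit 0])))) (.node (nat_lit 889) (.leaf ((nat_lit 746), [nat_lit 4, nat_lit 2, nat_lit 4, nat_lit 6, nat_lit 1, nat_lit 6, nat_lit 4, nat_lit 5, nat_lit 4, nat_lit 5, nat_lit 1, nat_lit 0, nat_lit 2, nat_lit 0])) (.node (nat_lit 890) (.leaf ((nat_lit 704), [nat_lit 5, nat_lit 3, nat_lit 5, nat_lit 6, nat_lit 2, nat_lit 6, nat_lit 0, nat_lit 4, nat_lit 3, nat_lit 5, nat_lit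 3])) (.leaf ((nat_lit 211), [nat_lit 2, nat_lit 4, nat_lit 1, nat_lit 6, nat_lit 2, nat_lit 4, nat_lit 5, nat_lit 4, nat_lit 0, nat_lit 5, nat_lit 1, nat_lit 0, nat_lit 1]))))))
 (.node (nat_lit 896) (.node (nat_lit 893) (.node (nat_lit 892) (.leaf ((nat_lit 747), [nat_lit 5, nat_lit 2, nat_lit 4, nat_lit 6, nat_lit 5, nat_lit 1, nat_lit 4, nat_lit 5, nat_lit 2, nat_lit 0, nat_lit 2, nat_lit 0])) (.leaf ((nat_lit 748), [nat_lit 3, nat_lit 6, nat_lit 0, nat_lit 5, nat_lit 3, nat_lit 6, nat_lit 5, nat_lit 1, nat_lit 4, nat_lit 1, nat_lit 4, nat_lit 3, nat_lit 2]))) (.node (nat_lit 894) (.leaf ((nat_lit 749), [nat_lit 5, nat_lit 6, nat_lit 5, nat_lit 4, nat_lit 6, nat_lit 4, nat_lit 5, nat_lit 3, nat_lit 0, nat_lit 4, nat_lit 3])) (.node (nat_lit 895) (.leaf ((nat_lit 750), [nat_lit 6, nat_lit 2, nat_lit 6, nat_lit 4, nat_lit 2, nat_lit 6, nat_lit 5,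 nat_lit 1, nat_lit 3, nat_lit 4, nat_lit 5, nat_lit 1, nat_lit 3, nat_lit 2])) (.leaf ((nat_lit 751), [nat_lit 2, nat_lit 6, nat_lit 3, nat_lit 0, nat_lit 6, nat_lit 1, nat_lit 3, nat_lit 4, nat_lit 5, nat_lit 2, nat_lit 3, nat_lit 2])))))
 (.node (nat_lit 899) (.node (nat_lit 897) (.leaf ((nat_lit 752), [nat_lit 6, nat_lit 5, nat_lit 0, nat_lit 2, nat_lit 6, nat_lit 2, nat_lit 4, nat_lit 0, nat_lit 2, nat_lit 4])) (.node (nat_lit 898) (.leaf ((nat_lit 753), [nat_lit 6, nat_lit 0, nat_lit 5, nat_lit 6, nat_lit 2, nat_lit 6, nat_lit 1, nat_lit 0, nat_lit 1, nat_lit 0, nat_lit 4, nat_lit 2, nat_lit 0, nat_lit 1, nat_lit 0])) (.leaf ((nat_lit 754), [nat_lit 6, nat_lit 2, nat_lit 3, nat_lit 5, nat_lit 6, nat_lit 3, nat_lit 4, nat_lit 1, nat_lit 3, nat_lit 4, nat_lit 3])))) (.node (nat_lit 900) (.leaf ((nat_lit 112), [nat_lit 2, nat_lit 6, nat_lit 2,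 nat_lit 5, nat_lit 6, nat_lit 4, nat_lit 2, nat_lit 0, nat_lit 4, nat_lit 1, nat_lit 3, nat_lit 0])) (.node (nat_lit 901) (.leaf ((nat_lit 582), [nat_lit 2, nat_lit 4, nat_lit 0, nat_lit 6, nat_lit 5, nat_lit 0, nat_lit 4, nat_lit 2, nat_lit 0, nat_lit 2, nat_lit 0])) (.leaf ((nat_lit 755), [nat_lit 3, nat_lit 1, nat_lit 0, nat_lit 6, nat_lit 2, nat_lit 6, nat_lit 5, nat_lit 4, nat_lit 0, nat_lit 5, nat_lit 4, nat_lit 1, nat_lit 0, nat_lit 1, nat_lit 0])))))))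
 (.node (nat_lit 913) (.node (nat_lit 907) (.node (nat_lit 904) (.node (nat_lit 903) (.leaf ((nat_lit 756), [nat_lit 4, nat_lit 0, nat_lit 6, nat_lit 2, nat_lit 6, nat_lit 4, nat_lit 2, nat_lit 4, nat_lit 5, nat_lit 2, nat_lit 0, nat_lit 1])) (.leaf ((nat_lit 263), [nat_lit 4, nat_lit 6, nat_lit 5, nat_lit 4, nat_lit 6, nat_lit 0, nat_lit 5, nat_lit 4, nat_lit 3, nat_lit 4, nat_lit 1, nat_lit 3, nat_lit 1, nat_lit 0]))) (.node (nat_lit 905) (.leaf ((nat_lit 757), [nat_lit 2, nat_lit 0, nat_lit 6, nat_lit 1, nat_lit 6, nat_lit 1, nat_lit 0, nat_lit 4, nat_lit 0, nat_lit 1])) (.node (nat_lit 906) (.leaf ((nat_lit 758), [nat_lit 3, nat_lit 1, nat_lit 0, nat_lit 6, nat_lit 2, nat_lit 6, nat_lit 0, nat_lit 2, nat_lit 0, nat_lit 4, nat_lit 3])) (.leaf ((nat_lit 759), [nat_lit 3, nat_lit 1, nat_lit 5, nat_lit 6, nat_lit 2, nat_lit 6, nat_lit 0, nat_lit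 4, nat_lit 0, nat_lit 5, nat_lit 4, nat_lit 0, nat_lit 2, nat_lit 0])))))
 (.node (nat_lit 910) (.node (nat_lit 908) (.leaf ((nat_lit 444), [nat_lit 6, nat_lit 1, nat_lit 6, nat_lit 5, nat_lit 3, nat_lit 6, nat_lit 4, nat_lit 1, nat_lit 3, nat_lit 2, nat_lit 0, nat_lit 4, nat_lit 2, nat_lit 0, nat_lit 1, nat_lit 0])) (.node (nat_lit 909) (.leaf ((nat_lit 760), [nat_lit 5, nat_lit 6, nat_lit 4, nat_lit 5, nat_lit 6, nat_lit 5, nat_lit 1, nat_lit 4, nat_lit 1, nat_lit 0, nat_lit 4, nat_lit 0])) (.leaf ((nat_lit 585), [nat_lit 2, nat_lit 6, nat_lit 1, nat_lit 0, nat_lit 6, nat_lit 4, nat_lit 3, nat_lit 2, nat_lit 5, nat_lit 4, nat_lit 2, nat_lit 3, nat_lit 1, nat_lit 0])))) (.node (nat_lit 911) (.leaf ((nat_lit 761), [nat_lit 1, nat_lit 4, nat_lit 6, nat_lit 0, nat_lit 2, nat_lit 6, nat_lit 5, nat_lit 1, nat_lit 3, nat_lit 2, nat_lit 4, nat_lit 0]))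 (.node (nat_lit 912) (.leaf ((nat_lit 762), [nat_lit 6, nat_lit 5, nat_lit 0, nat_lit 6, nat_lit 1, nat_lit 6, nat_lit 5, nat_lit 2, nat_lit 5, nat_lit 2, nat_lit 4, nat_lit 1, nat_lit 3, nat_lit 0])) (.leaf ((nat_lit 763), [nat_lit 6, nat_lit 0, nat_lit 2, nat_lit 5, nat_lit 0, nat_lit 6, nat_lit 2, nat_lit 3, nat_lit 4, nat_lit 1, nat_lit 3, nat_lit 2]))))))
 (.node (nat_lit 918) (.node (nat_lit 915) (.node (nat_lit 914) (.leaf ((nat_lit 236), [nat_lit 3, nat_lit 2, nat_lit 6, nat_lit 2, nat_lit 6, nat_lit 1, nat_lit 5, nat_lit 2, nat_lit 5, nat_lit 2, nat_lit 0, nat_lit 1, nat_lit 0])) (.leaf ((nat_lit 764), [nat_lit 2, nat_lit 6, nat_lit 2, nat_lit 3, nat_lit 6, nat_lit 3, nat_lit 0, nat_lit 5, nat_lit 4, nat_lit 2, nat_lit 3, nat_lit 2, nat_lit 0]))) (.node (nat_lit 916) (.leaf ((nat_lit 765), [nat_lit 6, nat_lit 1, nat_lit 4, nat_lit 3, nat_lit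 6, nat_lit 5, nat_lit 4, nat_lit 0, nat_lit 5, nat_lit 4, nat_lit 3, nat_lit 2, nat_lit 0])) (.node (nat_lit 917) (.leaf ((nat_lit 766), [nat_lit 3, nat_lit 2, nat_lit 6, nat_lit 2, nat_lit 6, nat_lit 4, nat_lit 2, nat_lit 4, nat_lit 1, nat_lit 4, nat_lit 3, nat_lit 1, nat_lit 0])) (.leaf ((nat_lit 767), [nat_lit 2, nat_lit 6, nat_lit 1, nat_lit 4, nat_lit 6, nat_lit 2, nat_lit 4, nat_lit 5, nat_lit 3, nat_lit 0, nat_lit 4, nat_lit 2, nat_lit 3, nat_lit 2, nat_lit 0])))))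
 (.node (nat_lit 921) (.node (nat_lit 919) (.leaf ((nat_lit 768), [nat_lit 3, nat_lit 1, nat_lit 5, nat_lit 6, nat_lit 2, nat_lit 6, nat_lit 4, nat_lit 5, nat_lit 3, nat_lit 0, nat_lit 4, nat_lit 2, nat_lit 0, nat_lit 1, nat_lit 0])) (.node (nat_lit 920) (.leaf ((nat_lit 769), [nat_lit 2, nat_lit 4, nat_lit 1, nat_lit 6, nat_lit 2, nat_lit 5, nat_lit 1, nat_lit 0, nat_lit 1, nat_lit 0])) (.leaf ((nat_lit 770), [nat_lit 1, nat_lit 5, nat_lit 3, nat_lit 6, nat_lit 1, nat_lit 6, nat_lit 5, nat_lit 1, nat_lit 5, nat_lit 0, nat_lit 2])))) (.node (nat_lit 922) (.leaf ((nat_lit 771), [nat_lit 5, nat_lit 3, nat_lit 6, nat_lit 4, nat_lit 3, nat_lit 6, nat_lit 1, nat_lit 4, nat_lit 1, nat_lit 4, nat_lit 0])) (.node (nat_lit 923) (.leaf ((nat_lit 772), [nat_lit 0, nat_lit 6, nat_lit 4, nat_lit 1, nat_lit 6, nat_lit 2, nat_lit 4, nat_lit 5, nat_lit 2, nat_lit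 5, nat_lit 1, nat_lit 0, nat_lit 2])) (.leaf ((nat_lit 181), [nat_lit 4, nat_lit 3, nat_lit 6, nat_lit 2, nat_lit 6, nat_lit 4, nat_lit 2, nat_lit 3, nat_lit 2, nat_lit 4, nat_lit 2, nat_lit 3, nat_lit 0]))))))))
 (.node (nat_lit 946) (.node (nat_lit 935) (.node (nat_lit 929) (.node (nat_lit 926) (.node (nat_lit 925) (.leaf ((nat_lit 773), [nat_lit 2, nat_lit 6, nat_lit 0, nat_lit 1, nat_lit 5, nat_lit 6, nat_lit 5, nat_lit 1, nat_lit 3, nat_lit 2, nat_lit 4, nat_lit 2, nat_lit 0, nat_lit 2, nat_lit 0])) (.leaf ((nat_lit 49), [nat_lit 2, nat_lit 6, nat_lit 3, nat_lit 5, nat_lit 6, nat_lit 5, nat_lit 0, nat_lit 4, nat_lit 3, nat_lit 4, nat_lit 0, nat_lit 2]))) (.node (nat_lit 927) (.leaf ((nat_lit 630), [nat_lit 5, nat_lit 6, nat_lit 1, nat_lit 6, nat_lit 2, nat_lit 4, nat_lit 1, nat_lit 0, nat_lit 4, nat_lit 3, nat_lit 2, nat_lit 0])) (.node (nat_lit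 928) (.leaf ((nat_lit 774), [nat_lit 5, nat_lit 3, nat_lit 6, nat_lit 4, nat_lit 0, nat_lit 6, nat_lit 1, nat_lit 5, nat_lit 4, nat_lit 1, nat_lit 4, nat_lit 3])) (.leaf ((nat_lit 775), [nat_lit 3, nat_lit 1, nat_lit 6, nat_lit 1, nat_lit 6, nat_lit 5, nat_lit 4, nat_lit 2, nat_lit 5, nat_lit 1, nat_lit 0, nat_lit 2, nat_lit 0])))))
 (.node (nat_lit 932) (.node (nat_lit 930) (.leaf ((nat_lit 776), [nat_lit 0, nat_lit 5, nat_lit 1, nat_lit 6, nat_lit 2, nat_lit 6, nat_lit 3, nat_lit 4, nat_lit 2, nat_lit 3, nat_lit 1, nat_lit 0])) (.node (nat_lit 931) (.leaf ((nat_lit 64), [nat_lit 6, nat_lit 4, nat_lit 1, nat_lit 0, nat_lit 6, nat_lit 0, nat_lit 2, nat_lit 4, nat_lit 2, nat_lit 4, nat_lit 0, nat_lit 1, nat_lit 0])) (.leaf ((nat_lit 379), [nat_lit 0, nat_lit 5, nat_lit 4, nat_lit 6, nat_lit 1, nat_lit 6, nat_lit 0, nat_lit 4, nat_lit 5, nat_lit 1,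 nat_lit 3, nat_lit 2, nat_lit 0])))) (.node (nat_lit 933) (.leaf ((nat_lit 777), [nat_lit 3, nat_lit 6, nat_lit 5, nat_lit 6, nat_lit 3, nat_lit 4, nat_lit 2, nat_lit 4, nat_lit 2, nat_lit 0, nat_lit 2])) (.node (nat_lit 934) (.leaf ((nat_lit 778), [nat_lit 5, nat_lit 1, nat_lit 6, nat_lit 5, nat_lit 2, nat_lit 6, nat_lit 2, nat_lit 4, nat_lit 2, nat_lit 4, nat_lit 1, nat_lit 0, nat_lit 2])) (.leaf ((nat_lit 779), [nat_lit 5, nat_lit 1, nat_lit 3, nat_lit 6, nat_lit 2, nat_lit 3, nat_lit 0, nat_lit 4, nat_lit 2, nat_lit 0, nat_lit 2]))))))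
 (.node (nat_lit 940) (.node (nat_lit 937) (.node (nat_lit 936) (.leaf ((nat_lit 780), [nat_lit 6, nat_lit 0, nat_lit 4, nat_lit 1, nat_lit 6, nat_lit 4, nat_lit 0, nat_lit 4, nat_lit 1, nat_lit 0, nat_lit 1, nat_lit 0])) (.leaf ((nat_lit 781), [nat_lit 4, nat_lit 0, nat_lit 6, nat_lit 3, nat_lit 4, nat_lit 1, nat_lit 5, nat_lit 2, nat_lit 3]))) (.node (nat_lit 938) (.leaf ((nat_lit 360), [nat_lit 4, nat_lit 6, nat_lit 2, nat_lit 3, nat_lit 6, nat_lit 5, nat_lit 0, nat_lit 4, nat_lit 3, nat_lit 5, nat_lit 0, nat_lit 2, nat_lit 0])) (.node (nat_lit 939) (.leaf ((nat_lit 439), [nat_lit 2, nat_lit 6, nat_lit 5, nat_lit 4, nat_lit 2, nat_lit 0, nat_lit 6, nat_lit 4, nat_lit 5, nat_lit 1, nat_lit 5, nat_lit 0])) (.leaf ((nat_lit 760), [nat_lit 0, nat_lit 6, nat_lit 2, nat_lit 6, nat_lit 0, nat_lit 4, nat_lit 0, nat_lit 5, nat_lit 0, nat_lit 1])))))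
 (.node (nat_lit 943) (.node (nat_lit 941) (.leaf ((nat_lit 782), [nat_lit 0, nat_lit 6, nat_lit 0, nat_lit 2, nat_lit 6, nat_lit 5, nat_lit 1, nat_lit 5, nat_lit 4, nat_lit 1, nat_lit 3, nat_lit 1])) (.node (nat_lit 942) (.leaf ((nat_lit 783), [nat_lit 3, nat_lit 1, nat_lit 6, nat_lit 1, nat_lit 6, nat_lit 2, nat_lit 4, nat_lit 5, nat_lit 4, nat_lit 0, nat_lit 5, nat_lit 1, nat_lit 0, nat_lit 1, nat_lit 0])) (.leaf ((nat_lit 784), [nat_lit 1, nat_lit 3, nat_lit 6, nat_lit 4, nat_lit 0, nat_lit 6, nat_lit 2, nat_lit 3, nat_lit 2, nat_lit 4, nat_lit 0, nat_lit 2])))) (.node (nat_lit 944) (.leaf ((nat_lit 785), [nat_lit 5, nat_lit 1, nat_lit 5, nat_lit 6, nat_lit 2, nat_lit 6, nat_lit 0, nat_lit 5, nat_lit 3, nat_lit 0, nat_lit 4, nat_lit 2, nat_lit 3])) (.node (nat_lit 945) (.leaf ((nat_lit 776), [nat_lit 4, nat_lit 6, nat_lit 5, nat_lit 1, nat_lit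 6, nat_lit 5, nat_lit 1, nat_lit 4, nat_lit 1, nat_lit 4, nat_lit 0])) (.leaf ((nat_lit 179), [nat_lit 5, nat_lit 1, nat_lit 0, nat_lit 6, nat_lit 2, nat_lit 6, nat_lit 1, nat_lit 4, nat_lit 2, nat_lit 4, nat_lit 3, nat_lit 1])))))))
 (.node (nat_lit 957) (.node (nat_lit 951) (.node (nat_lit 948) (.node (nat_lit 947) (.leaf ((nat_lit 786), [nat_lit 3, nat_lit 2, nat_lit 5, nat_lit 6, nat_lit 2, nat_lit 3, nat_lit 4, nat_lit 1, nat_lit 0, nat_lit 1])) (.leaf ((nat_lit 779), [nat_lit 5, nat_lit 6, nat_lit 4, nat_lit 2, nat_lit 0, nat_lit 6, nat_lit 5, nat_lit 1, nat_lit 4, nat_lit 1, nat_lit 0, nat_lit 4, nat_lit 2, nat_lit 3, nat_lit 0]))) (.node (nat_lit 949) (.leaf ((nat_lit 787), [nat_lit 4, nat_lit 5, nat_lit 0, nat_lit 6, nat_lit 2, nat_lit 6, nat_lit 4, nat_lit 2, nat_lit 3, nat_lit 4, nat_lit 1, nat_lit 3, nat_lit 1, nat_lit 0])) (.node (nat_lit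 950) (.leaf ((nat_lit 581), [nat_lit 4, nat_lit 6, nat_lit 0, nat_lit 2, nat_lit 6, nat_lit 2, nat_lit 4, nat_lit 5, nat_lit 2, nat_lit 5, nat_lit 3, nat_lit 0])) (.leaf ((nat_lit 301), [nat_lit 6, nat_lit 5, nat_lit 2, nat_lit 4, nat_lit 6, nat_lit 0, nat_lit 4, nat_lit 0, nat_lit 5, nat_lit 1, nat_lit 0, nat_lit 1, nat_lit 0])))))
 (.node (nat_lit 954) (.node (nat_lit 952) (.leaf ((nat_lit 788), [nat_lit 2, nat_lit 5, nat_lit 3, nat_lit 6, nat_lit 4, nat_lit 0, nat_lit 6, nat_lit 0, nat_lit 4, nat_lit 1, nat_lit 5, nat_lit 0, nat_lit 2, nat_lit 0])) (.node (nat_lit 953) (.leaf ((nat_lit 178), [nat_lit 3, nat_lit 4, nat_lit 2, nat_lit 0, nat_lit 6, nat_lit 4, nat_lit 5, nat_lit 1, nat_lit 3, nat_lit 4, nat_lit 2, nat_lit 0, nat_lit 1])) (.leaf ((nat_lit 789), [nat_lit 1, nat_lit 6, nat_lit 4, nat_lit 1, nat_lit 6, nat_lit 3, nat_lit 4, nat_lit 0,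 nat_lit 4, nat_lit 1, nat_lit 3, nat_lit 0])))) (.node (nat_lit 955) (.leaf ((nat_lit 790), [nat_lit 5, nat_lit 2, nat_lit 4, nat_lit 6, nat_lit 4, nat_lit 2, nat_lit 4, nat_lit 3, nat_lit 4, nat_lit 3, nat_lit 0])) (.node (nat_lit 956) (.leaf ((nat_lit 791), [nat_lit 3, nat_lit 4, nat_lit 3, nat_lit 6, nat_lit 2, nat_lit 6, nat_lit 0, nat_lit 4, nat_lit 3, nat_lit 4, nat_lit 1])) (.leaf ((nat_lit 538), [nat_lit 3, nat_lit 6, nat_lit 2, nat_lit 5, nat_lit 6, nat_lit 5, nat_lit 4, nat_lit 3, nat_lit 2, nat_lit 4, nat_lit 1, nat_lit 3]))))))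
 (.node (nat_lit 962) (.node (nat_lit 959) (.node (nat_lit 958) (.leaf ((nat_lit 692), [nat_lit 1, nat_lit 0, nat_lit 6, nat_lit 1, nat_lit 3, nat_lit 4, nat_lit 2, nat_lit 4, nat_lit 3, nat_lit 0])) (.leaf ((nat_lit 792), [nat_lit 6, nat_lit 1, nat_lit 6, nat_lit 4, nat_lit 2, nat_lit 6, nat_lit 0, nat_lit 4, nat_lit 1]))) (.node (nat_lit 960) (.leaf ((nat_lit 7), [nat_lit 2, nat_lit 6, nat_lit 0, nat_lit 1, nat_lit 5, nat_lit 6, nat_lit 3, nat_lit 2, nat_lit 4, nat_lit 2, nat_lit 0, nat_lit 4, nat_lit 0, nat_lit 2])) (.node (nat_lit 961) (.leaf ((nat_lit 793), [nat_lit 5, nat_lit 2, nat_lit 4, nat_lit 6, nat_lit 4, nat_lit 3, nat_lit 5, nat_lit 1, nat_lit 3, nat_lit 1])) (.leaf ((nat_lit 794), [nat_lit 4, nat_lit 6, nat_lit 0, nat_lit 2, nat_lit 0, nat_lit 6, nat_lit 3, nat_lit 5, nat_lit 1, nat_lit 0, nat_lit 4, nat_lit 2, nat_lit 3, nat_lit 1])))))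
 (.node (nat_lit 965) (.node (nat_lit 963) (.leaf ((nat_lit 795), [nat_lit 2, nat_lit 6, nat_lit 1, nat_lit 4, nat_lit 3, nat_lit 6, nat_lit 2, nat_lit 4, nat_lit 5, nat_lit 3, nat_lit 0, nat_lit 4, nat_lit 1, nat_lit 0, nat_lit 2, nat_lit 0])) (.node (nat_lit 964) (.leaf ((nat_lit 796), [nat_lit 4, nat_lit 6, nat_lit 1, nat_lit 0, nat_lit 6, nat_lit 3, nat_lit 0, nat_lit 4, nat_lit 0, nat_lit 4, nat_lit 1])) (.leaf ((nat_lit 797), [nat_lit 0, nat_lit 2, nat_lit 6, nat_lit 4, nat_lit 3, nat_lit 4, nat_lit 1, nat_lit 4, nat_lit 1, nat_lit 3, nat_lit 2])))) (.node (nat_lit 966) (.leaf ((nat_lit 798), [nat_lit 6, nat_lit 4, nat_lit 1, nat_lit 3, nat_lit 6, nat_lit 1, nat_lit 3, nat_lit 4, nat_lit 2, nat_lit 4, nat_lit 2, nat_lit 3])) (.node (nat_lit 967) (.leaf ((nat_lit 799), [nat_lit 4, nat_lit 5, nat_lit 6, nat_lit 4, nat_lit 3, nat_lit 6, nat_lit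 5, nat_lit 2, nat_lit 0, nat_lit 2, nat_lit 4, nat_lit 3, nat_lit 1])) (.leaf ((nat_lit 122), [nat_lit 0, nat_lit 2, nat_lit 6, nat_lit 4, nat_lit 0, nat_lit 6, nat_lit 5, nat_lit 2, nat_lit 4, nat_lit 3, nat_lit 1])))))))))
 (.node (nat_lit 1012) (.node (nat_lit 990) (.node (nat_lit 979) (.node (nat_lit 973) (.node (nat_lit 970) (.node (nat_lit 969) (.leaf ((nat_lit 800), [nat_lit 6, nat_lit 2, nat_lit 6, nat_lit 4, nat_lit 5, nat_lit 1, nat_lit 4, nat_lit 3, nat_lit 0])) (.leaf ((nat_lit 365), [nat_lit 5, nat_lit 0, nat_lit 4, nat_lit 2, nat_lit 6, nat_lit 3, nat_lit 0, nat_lit 4, nat_lit 1, nat_lit 4, nat_lit 2, nat_lit 3, nat_lit 1, nat_lit 0]))) (.node (nat_lit 971) (.leaf ((nat_lit 801), [nat_lit 2, nat_lit 4, nat_lit 6, nat_lit 1, nat_lit 6, nat_lit 5, nat_lit 1, nat_lit 4, nat_lit 5, nat_lit 3])) (.node (nat_lit 972) (.leaf ((nat_lit 802),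 [nat_lit 4, nat_lit 2, nat_lit 3, nat_lit 6, nat_lit 1, nat_lit 5, nat_lit 0, nat_lit 4, nat_lit 1, nat_lit 3, nat_lit 1])) (.leaf ((nat_lit 803), [nat_lit 5, nat_lit 6, nat_lit 2, nat_lit 0, nat_lit 2, nat_lit 6, nat_lit 5, nat_lit 3, nat_lit 0, nat_lit 5, nat_lit 1, nat_lit 0, nat_lit 1])))))
 (.node (nat_lit 976) (.node (nat_lit 974) (.leaf ((nat_lit 403), [nat_lit 5, nat_lit 3, nat_lit 5, nat_lit 6, nat_lit 2, nat_lit 6, nat_lit 4, nat_lit 2, nat_lit 0, nat_lit 4, nat_lit 5, nat_lit 2])) (.node (nat_lit 975) (.leaf ((nat_lit 804), [nat_lit 3, nat_lit 0, nat_lit 6, nat_lit 2, nat_lit 0, nat_lit 4, nat_lit 2, nat_lit 3, nat_lit 2])) (.leaf ((nat_lit 455), [nat_lit 0, nat_lit 1, nat_lit 4, nat_lit 2, nat_lit 6, nat_lit 1, nat_lit 4, nat_lit 3, nat_lit 5, nat_lit 1, nat_lit 3, nat_lit 2])))) (.node (nat_lit 977) (.leaf ((nat_lit 331), [nat_lit 1,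 nat_lit 4, nat_lit 6, nat_lit 2, nat_lit 3, nat_lit 6, nat_lit 5, nat_lit 1, nat_lit 5, nat_lit 0, nat_lit 4, nat_lit 2, nat_lit 0, nat_lit 2])) (.node (nat_lit 978) (.leaf ((nat_lit 601), [nat_lit 6, nat_lit 5, nat_lit 2, nat_lit 0, nat_lit 6, nat_lit 2, nat_lit 0, nat_lit 5, nat_lit 2, nat_lit 0, nat_lit 4, nat_lit 0])) (.leaf ((nat_lit 459), [nat_lit 4, nat_lit 3, nat_lit 5, nat_lit 6, nat_lit 2, nat_lit 6, nat_lit 4, nat_lit 0, nat_lit 5, nat_lit 2, nat_lit 5, nat_lit 3, nat_lit 1, nat_lit 0]))))))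
 (.node (nat_lit 984) (.node (nat_lit 981) (.node (nat_lit 980) (.leaf ((nat_lit 805), [nat_lit 2, nat_lit 5, nat_lit 3, nat_lit 6, nat_lit 4, nat_lit 0, nat_lit 6, nat_lit 2, nat_lit 4, nat_lit 5, nat_lit 4, nat_lit 1, nat_lit 0, nat_lit 2])) (.leaf ((nat_lit 645), [nat_lit 5, nat_lit 4, nat_lit 3, nat_lit 6, nat_lit 2, nat_lit 6, nat_lit 0, nat_lit 2, nat_lit 0, nat_lit 4, nat_lit 0]))) (.node (nat_lit 982) (.leaf ((nat_lit 806), [nat_lit 3, nat_lit 6, nat_lit 5, nat_lit 0, nat_lit 2, nat_lit 6, nat_lit 5, nat_lit 1, nat_lit 0, nat_lit 1, nat_lit 0, nat_lit 4, nat_lit 1, nat_lit 3, nat_lit 0])) (.node (nat_lit 983) (.leaf ((nat_lit 807), [nat_lit 4, nat_lit 6, nat_lit 0, nat_lit 1, nat_lit 6, nat_lit 5, nat_lit 2, nat_lit 5, nat_lit 4, nat_lit 2, nat_lit 0, nat_lit 1])) (.leaf ((nat_lit 578), [nat_lit 1, nat_lit 4, nat_lit 6, nat_lit 5, nat_lit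 1, nat_lit 6, nat_lit 2, nat_lit 5, nat_lit 3, nat_lit 0, nat_lit 4, nat_lit 3, nat_lit 2, nat_lit 0])))))
 (.node (nat_lit 987) (.node (nat_lit 985) (.leaf ((nat_lit 808), [nat_lit 4, nat_lit 1, nat_lit 6, nat_lit 5, nat_lit 2, nat_lit 6, nat_lit 3, nat_lit 4, nat_lit 0, nat_lit 4, nat_lit 2, nat_lit 3, nat_lit 0])) (.node (nat_lit 986) (.leaf ((nat_lit 809), [nat_lit 0, nat_lit 4, nat_lit 5, nat_lit 6, nat_lit 2, nat_lit 6, nat_lit 5, nat_lit 0, nat_lit 4, nat_lit 5, nat_lit 4, nat_lit 0, nat_lit 2, nat_lit 0])) (.leaf ((nat_lit 398), [nat_lit 5, nat_lit 6, nat_lit 4, nat_lit 3, nat_lit 6, nat_lit 3, nat_lit 1, nat_lit 5, nat_lit 4, nat_lit 2, nat_lit 3])))) (.node (nat_lit 988) (.leaf ((nat_lit 810), [nat_lit 0, nat_lit 2, nat_lit 0, nat_lit 6, nat_lit 5, nat_lit 2, nat_lit 5, nat_lit 4, nat_lit 5, nat_lit 0, nat_lit 2])) (.node (nat_lit 989)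 (.leaf ((nat_lit 811), [nat_lit 3, nat_lit 1, nat_lit 6, nat_lit 4, nat_lit 1, nat_lit 6, nat_lit 1, nat_lit 0, nat_lit 5, nat_lit 4, nat_lit 1, nat_lit 3, nat_lit 1, nat_lit 0])) (.leaf ((nat_lit 812), [nat_lit 0, nat_lit 6, nat_lit 4, nat_lit 1, nat_lit 0, nat_lit 6, nat_lit 3, nat_lit 2, nat_lit 0, nat_lit 4, nat_lit 0])))))))
 (.node (nat_lit 1001) (.node (nat_lit 995) (.node (nat_lit 992) (.node (nat_lit 991) (.leaf ((nat_lit 547), [nat_lit 2, nat_lit 6, nat_lit 2, nat_lit 6, nat_lit 4, nat_lit 3, nat_lit 5, nat_lit 1, nat_lit 0, nat_lit 1])) (.leaf ((nat_lit 813), [nat_lit 6, nat_lit 4, nat_lit 2, nat_lit 0, nat_lit 6, nat_lit 4, nat_lit 5, nat_lit 1, nat_lit 5, nat_lit 1, nat_lit 0]))) (.node (nat_lit 993) (.leaf ((nat_lit 814), [nat_lit 3, nat_lit 1, nat_lit 6, nat_lit 4, nat_lit 1, nat_lit 6, nat_lit 5, nat_lit 4, nat_lit 3, nat_lit 4, nat_lit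 1, nat_lit 3, nat_lit 2])) (.node (nat_lit 994) (.leaf ((nat_lit 815), [nat_lit 6, nat_lit 0, nat_lit 1, nat_lit 5, nat_lit 6, nat_lit 5, nat_lit 0, nat_lit 4, nat_lit 3, nat_lit 5, nat_lit 2])) (.leaf ((nat_lit 295), [nat_lit 2, nat_lit 5, nat_lit 6, nat_lit 2, nat_lit 0, nat_lit 6, nat_lit 0, nat_lit 2, nat_lit 4, nat_lit 3, nat_lit 1, nat_lit 0])))))
 (.node (nat_lit 998) (.node (nat_lit 996) (.leaf ((nat_lit 410), [nat_lit 3, nat_lit 4, nat_lit 3, nat_lit 6, nat_lit 2, nat_lit 6, nat_lit 4, nat_lit 1, nat_lit 5, nat_lit 2, nat_lit 0])) (.node (nat_lit 997) (.leaf ((nat_lit 816), [nat_lit 0, nat_lit 5, nat_lit 1, nat_lit 6, nat_lit 2, nat_lit 6, nat_lit 1, nat_lit 4, nat_lit 5, nat_lit 1, nat_lit 3, nat_lit 4, nat_lit 1, nat_lit 0, nat_lit 2])) (.leaf ((nat_lit 817), [nat_lit 4, nat_lit 3, nat_lit 6, nat_lit 5, nat_lit 2, nat_lit 6, nat_lit 1,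 nat_lit 5, nat_lit 4, nat_lit 5, nat_lit 2, nat_lit 3, nat_lit 1])))) (.node (nat_lit 999) (.leaf ((nat_lit 818), [nat_lit 1, nat_lit 6, nat_lit 1, nat_lit 0, nat_lit 6, nat_lit 4, nat_lit 2, nat_lit 0, nat_lit 2, nat_lit 0, nat_lit 4, nat_lit 1, nat_lit 0, nat_lit 2, nat_lit 0])) (.node (nat_lit 1000) (.leaf ((nat_lit 819), [nat_lit 0, nat_lit 4, nat_lit 6, nat_lit 3, nat_lit 0, nat_lit 6, nat_lit 5, nat_lit 3, nat_lit 4, nat_lit 3, nat_lit 2, nat_lit 0])) (.leaf ((nat_lit 820), [nat_lit 1, nat_lit 6, nat_lit 5, nat_lit 2, nat_lit 0, nat_lit 6, nat_lit 5, nat_lit 4, nat_lit 0, nat_lit 5, nat_lit 1, nat_lit 0]))))))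
 (.node (nat_lit 1006) (.node (nat_lit 1003) (.node (nat_lit 1002) (.leaf ((nat_lit 821), [nat_lit 2, nat_lit 0, nat_lit 6, nat_lit 1, nat_lit 6, nat_lit 4, nat_lit 5, nat_lit 4, nat_lit 3])) (.leaf ((nat_lit 822), [nat_lit 2, nat_lit 0, nat_lit 4, nat_lit 6, nat_lit 2, nat_lit 6, nat_lit 0, nat_lit 5, nat_lit 4, nat_lit 1]))) (.node (nat_lit 1004) (.leaf ((nat_lit 328), [nat_lit 6, nat_lit 0, nat_lit 1, nat_lit 6, nat_lit 5, nat_lit 2, nat_lit 0, nat_lit 2, nat_lit 4, nat_lit 3, nat_lit 1])) (.node (nat_lit 1005) (.leaf ((nat_lit 340), [nat_lit 5, nat_lit 1, nat_lit 6, nat_lit 3, nat_lit 2, nat_lit 6, nat_lit 2, nat_lit 0, nat_lit 5, nat_lit 2, nat_lit 4, nat_lit 1, nat_lit 3, nat_lit 2, nat_lit 0])) (.leaf ((nat_lit 823), [nat_lit 3, nat_lit 2, nat_lit 6, nat_lit 4, nat_lit 0, nat_lit 6, nat_lit 3, nat_lit 0, nat_lit 4, nat_lit 1, nat_lit 5, nat_lit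 1, nat_lit 0])))))
 (.node (nat_lit 1009) (.node (nat_lit 1007) (.leaf ((nat_lit 824), [nat_lit 3, nat_lit 6, nat_lit 5, nat_lit 0, nat_lit 2, nat_lit 6, nat_lit 2, nat_lit 4, nat_lit 3, nat_lit 2, nat_lit 4, nat_lit 3, nat_lit 2])) (.node (nat_lit 1008) (.leaf ((nat_lit 825), [nat_lit 5, nat_lit 6, nat_lit 2, nat_lit 0, nat_lit 2, nat_lit 6, nat_lit 4, nat_lit 5, nat_lit 1, nat_lit 5, nat_lit 4, nat_lit 1, nat_lit 3, nat_lit 1, nat_lit 0])) (.leaf ((nat_lit 826), [nat_lit 6, nat_lit 5, nat_lit 0, nat_lit 2, nat_lit 6, nat_lit 1, nat_lit 4, nat_lit 2, nat_lit 4, nat_lit 2, nat_lit 3])))) (.node (nat_lit 1010) (.leaf ((nat_lit 31), [nat_lit 5, nat_lit 6, nat_lit 3, nat_lit 6, nat_lit 2, nat_lit 6, nat_lit 4, nat_lit 3, nat_lit 5, nat_lit 1, nat_lit 5, nat_lit 3, nat_lit 2, nat_lit 0])) (.node (nat_lit 1011) (.leaf ((nat_lit 159), [nat_lit 4, nat_lit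 2, nat_lit 0, nat_lit 6, nat_lit 3, nat_lit 1, nat_lit 4, nat_lit 1, nat_lit 4, nat_lit 0, nat_lit 2])) (.leaf ((nat_lit 59), [nat_lit 5, nat_lit 6, nat_lit 3, nat_lit 2, nat_lit 6, nat_lit 4, nat_lit 5, nat_lit 3, nat_lit 4, nat_lit 1, nat_lit 3, nat_lit 0]))))))))
 (.node (nat_lit 1034) (.node (nat_lit 1023) (.node (nat_lit 1017) (.node (nat_lit 1014) (.node (nat_lit 1013) (.leaf ((nat_lit 264), [nat_lit 1, nat_lit 6, nat_lit 5, nat_lit 6, nat_lit 3, nat_lit 6, nat_lit 3, nat_lit 2, nat_lit 4, nat_lit 2, nat_lit 0, nat_lit 4, nat_lit 1, nat_lit 3, nat_lit 1])) (.leaf ((nat_lit 827), [nat_lit 3, nat_lit 6, nat_lit 4, nat_lit 1, nat_lit 3, nat_lit 6, nat_lit 1, nat_lit 0, nat_lit 4, nat_lit 5, nat_lit 2, nat_lit 3, nat_lit 1]))) (.node (nat_lit 1015) (.leaf ((nat_lit 262), [nat_lit 4, nat_lit 0, nat_lit 6, nat_lit 2, nat_lit 0, nat_lit 6, nat_lit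 1, nat_lit 5, nat_lit 0, nat_lit 4, nat_lit 3, nat_lit 1, nat_lit 0])) (.node (nat_lit 1016) (.leaf ((nat_lit 288), [nat_lit 3, nat_lit 0, nat_lit 6, nat_lit 5, nat_lit 2, nat_lit 0, nat_lit 2, nat_lit 4])) (.leaf ((nat_lit 828), [nat_lit 4, nat_lit 1, nat_lit 6, nat_lit 5, nat_lit 2, nat_lit 6, nat_lit 5, nat_lit 0, nat_lit 4, nat_lit 3, nat_lit 4, nat_lit 2])))))
 (.node (nat_lit 1020) (.node (nat_lit 1018) (.leaf ((nat_lit 683), [nat_lit 4, nat_lit 6, nat_lit 4, nat_lit 0, nat_lit 2, nat_lit 6, nat_lit 1, nat_lit 4, nat_lit 1, nat_lit 4, nat_lit 2, nat_lit 0, nat_lit 1])) (.node (nat_lit 1019) (.leaf ((nat_lit 829), [nat_lit 2, nat_lit 6, nat_lit 2, nat_lit 0, nat_lit 6, nat_lit 1, nat_lit 5, nat_lit 1, nat_lit 4, nat_lit 1, nat_lit 3, nat_lit 2])) (.leaf ((nat_lit 341), [nat_lit 6, nat_lit 2, nat_lit 6, nat_lit 4, nat_lit 2, nat_lit 6, nat_lit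 2, nat_lit 4, nat_lit 3, nat_lit 5, nat_lit 4])))) (.node (nat_lit 1021) (.leaf ((nat_lit 557), [nat_lit 3, nat_lit 6, nat_lit 3, nat_lit 0, nat_lit 6, nat_lit 0, nat_lit 4, nat_lit 1, nat_lit 4, nat_lit 2])) (.node (nat_lit 1022) (.leaf ((nat_lit 795), [nat_lit 5, nat_lit 6, nat_lit 3, nat_lit 5, nat_lit 0, nat_lit 6, nat_lit 5, nat_lit 2, nat_lit 5, nat_lit 4, nat_lit 2, nat_lit 0])) (.leaf ((nat_lit 701), [nat_lit 0, nat_lit 4, nat_lit 1, nat_lit 6, nat_lit 1, nat_lit 5, nat_lit 2, nat_lit 4, nat_lit 2, nat_lit 3, nat_lit 2, nat_lit 0]))))))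
 (.node (nat_lit 1028) (.node (nat_lit 1025) (.node (nat_lit 1024) (.leaf ((nat_lit 830), [nat_lit 6, nat_lit 5, nat_lit 6, nat_lit 4, nat_lit 2, nat_lit 5, nat_lit 1, nat_lit 3, nat_lit 0])) (.leaf ((nat_lit 831), [nat_lit 4, nat_lit 0, nat_lit 6, nat_lit 2, nat_lit 6, nat_lit 4, nat_lit 3, nat_lit 4, nat_lit 1, nat_lit 4, nat_lit 3, nat_lit 2, nat_lit 0]))) (.node (nat_lit 1026) (.leaf ((nat_lit 118), [nat_lit 1, nat_lit 3, nat_lit 6, nat_lit 4, nat_lit 0, nat_lit 6, nat_lit 4, nat_lit 5, nat_lit 0])) (.node (nat_lit 1027) (.leaf ((nat_lit 832), [nat_lit 5, nat_lit 1, nat_lit 6, nat_lit 2, nat_lit 5, nat_lit 1, nat_lit 4, nat_lit 3, nat_lit 2, nat_lit 0])) (.leaf ((nat_lit 833), [nat_lit 2, nat_lit 5, nat_lit 3, nat_lit 6, nat_lit 4, nat_lit 0, nat_lit 6, nat_lit 5, nat_lit 3, nat_lit 4, nat_lit 3, nat_lit 1, nat_lit 0])))))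
 (.node (nat_lit 1031) (.node (nat_lit 1029) (.leaf ((nat_lit 834), [nat_lit 6, nat_lit 0, nat_lit 5, nat_lit 6, nat_lit 2, nat_lit 6, nat_lit 0, nat_lit 1, nat_lit 4, nat_lit 0, nat_lit 4, nat_lit 2, nat_lit 3, nat_lit 2])) (.node (nat_lit 1030) (.leaf ((nat_lit 448), [nat_lit 6, nat_lit 3, nat_lit 6, nat_lit 2, nat_lit 6, nat_lit 4, nat_lit 5, nat_lit 4, nat_lit 0, nat_lit 5, nat_lit 1, nat_lit 0, nat_lit 2, nat_lit 0])) (.leaf ((nat_lit 835), [nat_lit 4, nat_lit 2, nat_lit 6, nat_lit 2, nat_lit 3, nat_lit 6, nat_lit 1, nat_lit 5, nat_lit 3, nat_lit 0, nat_lit 4, nat_lit 0])))) (.node (nat_lit 1032) (.leaf ((nat_lit 836), [nat_lit 6, nat_lit 5, nat_lit 2, nat_lit 6, nat_lit 4, nat_lit 1, nat_lit 4, nat_lit 3, nat_lit 0, nat_lit 4, nat_lit 2, nat_lit 0, nat_lit 1, nat_lit 0])) (.node (nat_lit 1033) (.leaf ((nat_lit 466), [nat_lit 6, nat_lit 1, nat_lit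 4, nat_lit 6, nat_lit 1, nat_lit 6, nat_lit 4, nat_lit 3, nat_lit 4, nat_lit 1, nat_lit 4, nat_lit 1])) (.leaf ((nat_lit 656), [nat_lit 2, nat_lit 3, nat_lit 6, nat_lit 2, nat_lit 6, nat_lit 5, nat_lit 1, nat_lit 3, nat_lit 2, nat_lit 4, nat_lit 3, nat_lit 2])))))))
 (.node (nat_lit 1045) (.node (nat_lit 1039) (.node (nat_lit 1036) (.node (nat_lit 1035) (.leaf ((nat_lit 837), [nat_lit 1, nat_lit 5, nat_lit 6, nat_lit 1, nat_lit 0, nat_lit 6, nat_lit 4, nat_lit 2, nat_lit 5, nat_lit 0, nat_lit 2, nat_lit 0])) (.leaf ((nat_lit 838), [nat_lit 1, nat_lit 4, nat_lit 2, nat_lit 6, nat_lit 5, nat_lit 0, nat_lit 4, nat_lit 0]))) (.node (nat_lit 1037) (.leaf ((nat_lit 839), [nat_lit 5, nat_lit 2, nat_lit 4, nat_lit 6, nat_lit 1, nat_lit 0, nat_lit 6, nat_lit 0, nat_lit 4, nat_lit 1, nat_lit 0, nat_lit 4, nat_lit 2, nat_lit 3])) (.node (nat_lit 1038) (.leaf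 ((nat_lit 840), [nat_lit 6, nat_lit 2, nat_lit 5, nat_lit 6, nat_lit 5, nat_lit 4, nat_lit 5, nat_lit 1, nat_lit 5, nat_lit 1, nat_lit 0, nat_lit 1])) (.leaf ((nat_lit 573), [nat_lit 6, nat_lit 4, nat_lit 1, nat_lit 0, nat_lit 6, nat_lit 0, nat_lit 2, nat_lit 4, nat_lit 5, nat_lit 2, nat_lit 3, nat_lit 2, nat_lit 0])))))
 (.node (nat_lit 1042) (.node (nat_lit 1040) (.leaf ((nat_lit 841), [nat_lit 6, nat_lit 3, nat_lit 5, nat_lit 3, nat_lit 6, nat_lit 4, nat_lit 2, nat_lit 3, nat_lit 0, nat_lit 4, nat_lit 3, nat_lit 2])) (.node (nat_lit 1041) (.leaf ((nat_lit 146), [nat_lit 0, nat_lit 2, nat_lit 6, nat_lit 5, nat_lit 2, nat_lit 0, nat_lit 6, nat_lit 5, nat_lit 2, nat_lit 0, nat_lit 5, nat_lit 4, nat_lit 2, nat_lit 0, nat_lit 2])) (.leaf ((nat_lit 842), [nat_lit 1, nat_lit 4, nat_lit 3, nat_lit 6, nat_lit 4, nat_lit 5, nat_lit 0, nat_lit 1, nat_lit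 0])))) (.node (nat_lit 1043) (.leaf ((nat_lit 843), [nat_lit 0, nat_lit 1, nat_lit 4, nat_lit 6, nat_lit 4, nat_lit 3, nat_lit 4, nat_lit 2])) (.node (nat_lit 1044) (.leaf ((nat_lit 844), [nat_lit 5, nat_lit 1, nat_lit 6, nat_lit 4, nat_lit 1, nat_lit 6, nat_lit 5, nat_lit 2, nat_lit 0, nat_lit 5, nat_lit 4, nat_lit 1, nat_lit 0, nat_lit 2, nat_lit 0])) (.leaf ((nat_lit 845), [nat_lit 6, nat_lit 0, nat_lit 1, nat_lit 5, nat_lit 6, nat_lit 1, nat_lit 5, nat_lit 2, nat_lit 5, nat_lit 0, nat_lit 2, nat_lit 0]))))))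
 (.node (nat_lit 1050) (.node (nat_lit 1047) (.node (nat_lit 1046) (.leaf ((nat_lit 846), [nat_lit 3, nat_lit 5, nat_lit 6, nat_lit 4, nat_lit 1, nat_lit 4, nat_lit 2, nat_lit 4, nat_lit 2, nat_lit 0, nat_lit 1, nat_lit 0])) (.leaf ((nat_lit 847), [nat_lit 4, nat_lit 1, nat_lit 6, nat_lit 2, nat_lit 6, nat_lit 1, nat_lit 5, nat_lit 0, nat_lit 4, nat_lit 0]))) (.node (nat_lit 1048) (.leaf ((nat_lit 848), [nat_lit 5, nat_lit 6, nat_lit 0, nat_lit 1, nat_lit 6, nat_lit 2, nat_lit 4, nat_lit 5, nat_lit 2, nat_lit 5])) (.node (nat_lit 1049) (.leaf ((nat_lit 849), [nat_lit 4, nat_lit 5, nat_lit 6, nat_lit 4, nat_lit 3, nat_lit 6, nat_lit 3, nat_lit 1, nat_lit 0, nat_lit 4, nat_lit 2, nat_lit 3, nat_lit 0])) (.leaf ((nat_lit 567), [nat_lit 4, nat_lit 6, nat_lit 2, nat_lit 6, nat_lit 1, nat_lit 6, nat_lit 4, nat_lit 5, nat_lit 0, nat_lit 4, nat_lit 5, nat_lit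 1, nat_lit 3, nat_lit 2])))))
 (.node (nat_lit 1053) (.node (nat_lit 1051) (.leaf ((nat_lit 765), [nat_lit 2, nat_lit 4, nat_lit 6, nat_lit 1, nat_lit 6, nat_lit 4, nat_lit 5, nat_lit 4, nat_lit 5, nat_lit 3, nat_lit 0])) (.node (nat_lit 1052) (.leaf ((nat_lit 339), [nat_lit 6, nat_lit 5, nat_lit 2, nat_lit 4, nat_lit 6, nat_lit 3, nat_lit 1, nat_lit 4, nat_lit 1, nat_lit 4, nat_lit 0, nat_lit 2])) (.leaf ((nat_lit 72), [nat_lit 5, nat_lit 1, nat_lit 6, nat_lit 2, nat_lit 4, nat_lit 6, nat_lit 0, nat_lit 4, nat_lit 1, nat_lit 5, nat_lit 1, nat_lit 3, nat_lit 2, nat_lit 0])))) (.node (nat_lit 1054) (.leaf ((nat_lit 850), [nat_lit 0, nat_lit 6, nat_lit 4, nat_lit 3, nat_lit 6, nat_lit 2, nat_lit 4, nat_lit 3, nat_lit 5, nat_lit 4, nat_lit 2, nat_lit 0, nat_lit 1, nat_lit 0])) (.node (nat_lit 1055) (.leaf ((nat_lit 851), [nat_lit 5, nat_lit 6, nat_lit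 3, nat_lit 0, nat_lit 6, nat_lit 4, nat_lit 1, nat_lit 0, nat_lit 4, nat_lit 1])) (.leaf ((nat_lit 852), [nat_lit 3, nat_lit 6, nat_lit 4, nat_lit 1, nat_lit 0, nat_lit 6, nat_lit 5, nat_lit 1, nat_lit 0, nat_lit 1, nat_lit 0, nat_lit 4, nat_lit 2, nat_lit 0, nat_lit 1, nat_lit 0]))))))))))
noncomputable def rWd_6 : Tr (ℕ × List ℕ) := (.node (nat_lit 1144) (.node (nat_lit 1100) (.node (nat_lit 1078) (.node (nat_lit 1067) (.node (nat_lit 1061) (.node (nat_lit 1058) (.node (nat_lit 1057) (.leaf ((nat_lit 562), [nat_lit 4, nat_lit 6, nat_lit 2, nat_lit 0, nat_lit 6, nat_lit 2, nat_lit 0, nat_lit 5, nat_lit 2, nat_lit 4, nat_lit 0, nat_lit 1])) (.leaf ((nat_lit 717), [nat_lit 2, nat_lit 6, nat_lit 5, nat_lit 4, nat_lit 2, nat_lit 0, nat_lit 6, nat_lit 4, nat_lit 3, nat_lit 5, nat_lit 1, nat_lit 0, nat_lit 4, nat_lit 2, nat_lit 3, nat_lit 1, nat_lit 0])))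 (.node (nat_lit 1059) (.leaf ((nat_lit 625), [nat_lit 5, nat_lit 4, nat_lit 6, nat_lit 5, nat_lit 2, nat_lit 6, nat_lit 3, nat_lit 4, nat_lit 1, nat_lit 5, nat_lit 1, nat_lit 0])) (.node (nat_lit 1060) (.leaf ((nat_lit 853), [nat_lit 5, nat_lit 2, nat_lit 0, nat_lit 2, nat_lit 6, nat_lit 4, nat_lit 2, nat_lit 4, nat_lit 0, nat_lit 1, nat_lit 0])) (.leaf ((nat_lit 854), [nat_lit 2, nat_lit 5, nat_lit 2, nat_lit 6, nat_lit 0, nat_lit 5, nat_lit 2, nat_lit 3, nat_lit 2, nat_lit 0])))))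
 (.node (nat_lit 1064) (.node (nat_lit 1062) (.leaf ((nat_lit 855), [nat_lit 1, nat_lit 4, nat_lit 2, nat_lit 6, nat_lit 3, nat_lit 1, nat_lit 4, nat_lit 1, nat_lit 4, nat_lit 2, nat_lit 3, nat_lit 2, nat_lit 0])) (.node (nat_lit 1063) (.leaf ((nat_lit 643), [nat_lit 3, nat_lit 4, nat_lit 3, nat_lit 6, nat_lit 2, nat_lit 6, nat_lit 2, nat_lit 5, nat_lit 2, nat_lit 3, nat_lit 1])) (.leaf ((nat_lit 856), [nat_lit 4, nat_lit 5, nat_lit 6, nat_lit 2, nat_lit 0, nat_lit 6, nat_lit 4, nat_lit 2, nat_lit 0, nat_lit 2, nat_lit 4, nat_lit 1, nat_lit 0, nat_lit 2, nat_lit 0])))) (.node (nat_lit 1065) (.leaf ((nat_lit 180), [nat_lit 3, nat_lit 1, nat_lit 5, nat_lit 6, nat_lit 2, nat_lit 6, nat_lit 4, nat_lit 3, nat_lit 5, nat_lit 1, nat_lit 0, nat_lit 4, nat_lit 1])) (.node (nat_lit 1066) (.leaf ((nat_lit 315), [nat_lit 6, nat_lit 5, nat_lit 1, nat_lit 6, nat_lit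 3, nat_lit 4, nat_lit 0, nat_lit 4, nat_lit 1, nat_lit 0, nat_lit 2, nat_lit 0])) (.leaf ((nat_lit 708), [nat_lit 4, nat_lit 6, nat_lit 1, nat_lit 0, nat_lit 6, nat_lit 5, nat_lit 4, nat_lit 5, nat_lit 0, nat_lit 4, nat_lit 1, nat_lit 3, nat_lit 2, nat_lit 0]))))))
 (.node (nat_lit 1072) (.node (nat_lit 1069) (.node (nat_lit 1068) (.leaf ((nat_lit 857), [nat_lit 4, nat_lit 2, nat_lit 6, nat_lit 2, nat_lit 0, nat_lit 6, nat_lit 5, nat_lit 0, nat_lit 5, nat_lit 2, nat_lit 0, nat_lit 1, nat_lit 0])) (.leaf ((nat_lit 602), [nat_lit 2, nat_lit 6, nat_lit 4, nat_lit 1, nat_lit 6, nat_lit 3, nat_lit 0, nat_lit 5, nat_lit 1, nat_lit 3, nat_lit 1, nat_lit 0]))) (.node (nat_lit 1070) (.leaf ((nat_lit 858), [nat_lit 6, nat_lit 2, nat_lit 3, nat_lit 5, nat_lit 6, nat_lit 2, nat_lit 4, nat_lit 2, nat_lit 4, nat_lit 2])) (.node (nat_lit 1071) (.leaf ((nat_lit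 859), [nat_lit 4, nat_lit 5, nat_lit 6, nat_lit 2, nat_lit 3, nat_lit 2, nat_lit 4, nat_lit 1, nat_lit 3, nat_lit 2])) (.leaf ((nat_lit 860), [nat_lit 6, nat_lit 1, nat_lit 6, nat_lit 4, nat_lit 2, nat_lit 6, nat_lit 1, nat_lit 5, nat_lit 0, nat_lit 2, nat_lit 4, nat_lit 0, nat_lit 2, nat_lit 0])))))
 (.node (nat_lit 1075) (.node (nat_lit 1073) (.leaf ((nat_lit 861), [nat_lit 1, nat_lit 6, nat_lit 1, nat_lit 0, nat_lit 6, nat_lit 4, nat_lit 5, nat_lit 0, nat_lit 4, nat_lit 5, nat_lit 0])) (.node (nat_lit 1074) (.leaf ((nat_lit 862), [nat_lit 5, nat_lit 6, nat_lit 5, nat_lit 6, nat_lit 1, nat_lit 5, nat_lit 4, nat_lit 2, nat_lit 0, nat_lit 4, nat_lit 1, nat_lit 3])) (.leaf ((nat_lit 517), [nat_lit 0, nat_lit 6, nat_lit 1, nat_lit 0, nat_lit 6, nat_lit 5, nat_lit 1, nat_lit 5, nat_lit 4, nat_lit 1, nat_lit 0, nat_lit 2, nat_lit 0])))) (.node (nat_lit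 1076) (.leaf ((nat_lit 863), [nat_lit 0, nat_lit 2, nat_lit 6, nat_lit 5, nat_lit 2, nat_lit 5, nat_lit 3, nat_lit 4, nat_lit 0, nat_lit 1, nat_lit 0])) (.node (nat_lit 1077) (.leaf ((nat_lit 864), [nat_lit 6, nat_lit 1, nat_lit 4, nat_lit 1, nat_lit 6, nat_lit 3, nat_lit 5, nat_lit 4, nat_lit 3, nat_lit 4, nat_lit 3])) (.leaf ((nat_lit 865), [nat_lit 2, nat_lit 5, nat_lit 6, nat_lit 4, nat_lit 0, nat_lit 6, nat_lit 0, nat_lit 1, nat_lit 0, nat_lit 4, nat_lit 0, nat_lit 2, nat_lit 0])))))))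
 (.node (nat_lit 1089) (.node (nat_lit 1083) (.node (nat_lit 1080) (.node (nat_lit 1079) (.leaf ((nat_lit 18), [nat_lit 2, nat_lit 6, nat_lit 2, nat_lit 4, nat_lit 0, nat_lit 6, nat_lit 0, nat_lit 1, nat_lit 5, nat_lit 3, nat_lit 0, nat_lit 4, nat_lit 0, nat_lit 1, nat_lit 0])) (.leaf ((nat_lit 866), [nat_lit 5, nat_lit 1, nat_lit 6, nat_lit 3, nat_lit 0, nat_lit 6, nat_lit 5, nat_lit 1, nat_lit 3, nat_lit 4, nat_lit 1, nat_lit 3, nat_lit 0]))) (.node (nat_lit 1081) (.leaf ((nat_lit 867), [nat_lit 5, nat_lit 2, nat_lit 6, nat_lit 2, nat_lit 6, nat_lit 1, nat_lit 4, nat_lit 5, nat_lit 0, nat_lit 4, nat_lit 3, nat_lit 0])) (.node (nat_lit 1082) (.leaf ((nat_lit 868), [nat_lit 5, nat_lit 0, nat_lit 6, nat_lit 2, nat_lit 6, nat_lit 1, nat_lit 4, nat_lit 5])) (.leaf ((nat_lit 184), [nat_lit 5, nat_lit 2, nat_lit 5, nat_lit 6, nat_lit 1, nat_lit 6, nat_lit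 4, nat_lit 2, nat_lit 0, nat_lit 2, nat_lit 0, nat_lit 4, nat_lit 0, nat_lit 1])))))
 (.node (nat_lit 1086) (.node (nat_lit 1084) (.leaf ((nat_lit 869), [nat_lit 0, nat_lit 6, nat_lit 1, nat_lit 6, nat_lit 3, nat_lit 4, nat_lit 0, nat_lit 4, nat_lit 1, nat_lit 0, nat_lit 1, nat_lit 0])) (.node (nat_lit 1085) (.leaf ((nat_lit 736), [nat_lit 3, nat_lit 6, nat_lit 2, nat_lit 5, nat_lit 6, nat_lit 2, nat_lit 0, nat_lit 5, nat_lit 2, nat_lit 3])) (.leaf ((nat_lit 870), [nat_lit 1, nat_lit 5, nat_lit 6, nat_lit 1, nat_lit 6, nat_lit 0, nat_lit 5, nat_lit 4, nat_lit 3, nat_lit 4, nat_lit 2])))) (.node (nat_lit 1087) (.leaf ((nat_lit 871), [nat_lit 0, nat_lit 4, nat_lit 6, nat_lit 2, nat_lit 6, nat_lit 1, nat_lit 5, nat_lit 1, nat_lit 4, nat_lit 2, nat_lit 0, nat_lit 1, nat_lit 0])) (.node (nat_lit 1088) (.leaf ((nat_lit 872), [nat_lit 4, nat_lit 1, nat_lit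 6, nat_lit 0, nat_lit 2, nat_lit 6, nat_lit 0, nat_lit 1, nat_lit 4, nat_lit 0, nat_lit 1])) (.leaf ((nat_lit 503), [nat_lit 0, nat_lit 4, nat_lit 1, nat_lit 6, nat_lit 4, nat_lit 1, nat_lit 4, nat_lit 3, nat_lit 0, nat_lit 4, nat_lit 0, nat_lit 1]))))))
 (.node (nat_lit 1094) (.node (nat_lit 1091) (.node (nat_lit 1090) (.leaf ((nat_lit 826), [nat_lit 6, nat_lit 2, nat_lit 6, nat_lit 1, nat_lit 4, nat_lit 6, nat_lit 0, nat_lit 2, nat_lit 0, nat_lit 5, nat_lit 4, nat_lit 1, nat_lit 0, nat_lit 1])) (.leaf ((nat_lit 794), [nat_lit 1, nat_lit 4, nat_lit 6, nat_lit 1, nat_lit 6, nat_lit 3, nat_lit 5, nat_lit 1, nat_lit 5, nat_lit 2, nat_lit 0, nat_lit 1]))) (.node (nat_lit 1092) (.leaf ((nat_lit 210), [nat_lit 3, nat_lit 4, nat_lit 6, nat_lit 4, nat_lit 1, nat_lit 6, nat_lit 4, nat_lit 2, nat_lit 4, nat_lit 1, nat_lit 0, nat_lit 4, nat_lit 2, nat_lit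 0, nat_lit 2, nat_lit 0])) (.node (nat_lit 1093) (.leaf ((nat_lit 670), [nat_lit 1, nat_lit 6, nat_lit 1, nat_lit 5, nat_lit 6, nat_lit 2, nat_lit 4, nat_lit 5, nat_lit 4, nat_lit 0, nat_lit 2])) (.leaf ((nat_lit 873), [nat_lit 4, nat_lit 1, nat_lit 6, nat_lit 1, nat_lit 5, nat_lit 2, nat_lit 0, nat_lit 5, nat_lit 1, nat_lit 0, nat_lit 1])))))
 (.node (nat_lit 1097) (.node (nat_lit 1095) (.leaf ((nat_lit 874), [nat_lit 4, nat_lit 6, nat_lit 3, nat_lit 5, nat_lit 0, nat_lit 6, nat_lit 3, nat_lit 0, nat_lit 5, nat_lit 2, nat_lit 3])) (.node (nat_lit 1096) (.leaf ((nat_lit 875), [nat_lit 5, nat_lit 6, nat_lit 5, nat_lit 4, nat_lit 6, nat_lit 5, nat_lit 0, nat_lit 4, nat_lit 3, nat_lit 5, nat_lit 2, nat_lit 3, nat_lit 0])) (.leaf ((nat_lit 338), [nat_lit 6, nat_lit 3, nat_lit 2, nat_lit 5, nat_lit 6, nat_lit 2, nat_lit 4, nat_lit 0, nat_lit 4, nat_lit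 1, nat_lit 3, nat_lit 1, nat_lit 0])))) (.node (nat_lit 1098) (.leaf ((nat_lit 876), [nat_lit 2, nat_lit 3, nat_lit 6, nat_lit 2, nat_lit 3, nat_lit 1, nat_lit 0, nat_lit 4, nat_lit 0, nat_lit 1])) (.node (nat_lit 1099) (.leaf ((nat_lit 877), [nat_lit 4, nat_lit 1, nat_lit 3, nat_lit 6, nat_lit 0, nat_lit 5, nat_lit 2, nat_lit 0, nat_lit 4, nat_lit 3, nat_lit 1, nat_lit 0])) (.leaf ((nat_lit 11), [nat_lit 3, nat_lit 2, nat_lit 5, nat_lit 6, nat_lit 4, nat_lit 0, nat_lit 5, nat_lit 2, nat_lit 0, nat_lit 4, nat_lit 2, nat_lit 0]))))))))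
 (.node (nat_lit 1122) (.node (nat_lit 1111) (.node (nat_lit 1105) (.node (nat_lit 1102) (.node (nat_lit 1101) (.leaf ((nat_lit 109), [nat_lit 5, nat_lit 2, nat_lit 6, nat_lit 3, nat_lit 2, nat_lit 6, nat_lit 3, nat_lit 5, nat_lit 1, nat_lit 0, nat_lit 4, nat_lit 0, nat_lit 1])) (.leaf ((nat_lit 160), [nat_lit 6, nat_lit 4, nat_lit 1, nat_lit 6, nat_lit 4, nat_lit 2, nat_lit 4, nat_lit 0, nat_lit 4, nat_lit 2, nat_lit 3, nat_lit 2, nat_lit 0]))) (.node (nat_lit 1103) (.leaf ((nat_lit 878), [nat_lit 5, nat_lit 4, nat_lit 3, nat_lit 6, nat_lit 2, nat_lit 6, nat_lit 1, nat_lit 0, nat_lit 4, nat_lit 0, nat_lit 4, nat_lit 1, nat_lit 0, nat_lit 1, nat_lit 0])) (.node (nat_lit 1104) (.leaf ((nat_lit 879), [nat_lit 5, nat_lit 1, nat_lit 6, nat_lit 2, nat_lit 0, nat_lit 6, nat_lit 2, nat_lit 4, nat_lit 0, nat_lit 2, nat_lit 4, nat_lit 1, nat_lit 0])) (.leaf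 ((nat_lit 880), [nat_lit 2, nat_lit 5, nat_lit 3, nat_lit 6, nat_lit 0, nat_lit 1, nat_lit 0, nat_lit 4])))))
 (.node (nat_lit 1108) (.node (nat_lit 1106) (.leaf ((nat_lit 881), [nat_lit 0, nat_lit 6, nat_lit 1, nat_lit 4, nat_lit 6, nat_lit 2, nat_lit 4, nat_lit 3, nat_lit 5, nat_lit 4, nat_lit 2, nat_lit 3, nat_lit 2])) (.node (nat_lit 1107) (.leaf ((nat_lit 305), [nat_lit 5, nat_lit 3, nat_lit 6, nat_lit 4, nat_lit 0, nat_lit 6, nat_lit 2, nat_lit 5, nat_lit 3, nat_lit 5, nat_lit 4, nat_lit 2, nat_lit 3])) (.leaf ((nat_lit 650), [nat_lit 3, nat_lit 4, nat_lit 1, nat_lit 6, nat_lit 4, nat_lit 3, nat_lit 5, nat_lit 3, nat_lit 4, nat_lit 3, nat_lit 0])))) (.node (nat_lit 1109) (.leaf ((nat_lit 882), [nat_lit 4, nat_lit 5, nat_lit 6, nat_lit 2, nat_lit 0, nat_lit 6, nat_lit 5, nat_lit 3, nat_lit 4, nat_lit 1, nat_lit 3, nat_lit 4, nat_lit 1, nat_lit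 0])) (.node (nat_lit 1110) (.leaf ((nat_lit 675), [nat_lit 1, nat_lit 5, nat_lit 6, nat_lit 3, nat_lit 2, nat_lit 6, nat_lit 4, nat_lit 5, nat_lit 3, nat_lit 4, nat_lit 1, nat_lit 3, nat_lit 1])) (.leaf ((nat_lit 883), [nat_lit 6, nat_lit 1, nat_lit 4, nat_lit 1, nat_lit 3, nat_lit 6, nat_lit 4, nat_lit 5, nat_lit 4, nat_lit 5, nat_lit 3, nat_lit 1, nat_lit 0]))))))
 (.node (nat_lit 1116) (.node (nat_lit 1113) (.node (nat_lit 1112) (.leaf ((nat_lit 9), [nat_lit 1, nat_lit 5, nat_lit 6, nat_lit 1, nat_lit 0, nat_lit 6, nat_lit 4, nat_lit 5, nat_lit 2, nat_lit 0, nat_lit 2, nat_lit 0])) (.leaf ((nat_lit 461), [nat_lit 0, nat_lit 5, nat_lit 6, nat_lit 5, nat_lit 2, nat_lit 6, nat_lit 1, nat_lit 5, nat_lit 2, nat_lit 4, nat_lit 2, nat_lit 0]))) (.node (nat_lit 1114) (.leaf ((nat_lit 884), [nat_lit 6, nat_lit 3, nat_lit 2, nat_lit 5, nat_lit 6, nat_lit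 4, nat_lit 0, nat_lit 1, nat_lit 4, nat_lit 2, nat_lit 3, nat_lit 1, nat_lit 0])) (.node (nat_lit 1115) (.leaf ((nat_lit 885), [nat_lit 1, nat_lit 6, nat_lit 0, nat_lit 4, nat_lit 1, nat_lit 6, nat_lit 5, nat_lit 4, nat_lit 5, nat_lit 0, nat_lit 4, nat_lit 1, nat_lit 3, nat_lit 1, nat_lit 0])) (.leaf ((nat_lit 421), [nat_lit 6, nat_lit 2, nat_lit 5, nat_lit 6, nat_lit 2, nat_lit 6, nat_lit 0, nat_lit 4, nat_lit 5, nat_lit 0, nat_lit 1, nat_lit 0])))))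
 (.node (nat_lit 1119) (.node (nat_lit 1117) (.leaf ((nat_lit 886), [nat_lit 3, nat_lit 2, nat_lit 6, nat_lit 2, nat_lit 6, nat_lit 3, nat_lit 0, nat_lit 5, nat_lit 4, nat_lit 1, nat_lit 0, nat_lit 1])) (.node (nat_lit 1118) (.leaf ((nat_lit 822), [nat_lit 4, nat_lit 5, nat_lit 6, nat_lit 1, nat_lit 5, nat_lit 1, nat_lit 4])) (.leaf ((nat_lit 887), [nat_lit 6, nat_lit 3, nat_lit 6, nat_lit 2, nat_lit 6, nat_lit 4, nat_lit 2, nat_lit 4, nat_lit 1, nat_lit 0, nat_lit 4, nat_lit 1, nat_lit 0, nat_lit 2])))) (.node (nat_lit 1120) (.leaf ((nat_lit 888), [nat_lit 3, nat_lit 6, nat_lit 1, nat_lit 6, nat_lit 4, nat_lit 3, nat_lit 2])) (.node (nat_lit 1121) (.leaf ((nat_lit 329), [nat_lit 0, nat_lit 6, nat_lit 5, nat_lit 2, nat_lit 6, nat_lit 1, nat_lit 4, nat_lit 1, nat_lit 0, nat_lit 4, nat_lit 1, nat_lit 0, nat_lit 1, nat_lit 0])) (.leaf ((nat_lit 784),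 [nat_lit 5, nat_lit 6, nat_lit 2, nat_lit 4, nat_lit 3, nat_lit 6, nat_lit 3, nat_lit 4, nat_lit 2, nat_lit 3, nat_lit 4, nat_lit 0, nat_lit 1, nat_lit 0])))))))
 (.node (nat_lit 1133) (.node (nat_lit 1127) (.node (nat_lit 1124) (.node (nat_lit 1123) (.leaf ((nat_lit 293), [nat_lit 6, nat_lit 0, nat_lit 5, nat_lit 6, nat_lit 2, nat_lit 6, nat_lit 1, nat_lit 4, nat_lit 3, nat_lit 2, nat_lit 4, nat_lit 0, nat_lit 2])) (.leaf ((nat_lit 135), [nat_lit 5, nat_lit 3, nat_lit 4, nat_lit 6, nat_lit 2, nat_lit 6, nat_lit 2, nat_lit 4, nat_lit 3, nat_lit 5, nat_lit 4, nat_lit 2, nat_lit 0, nat_lit 1, nat_lit 0]))) (.node (nat_lit 1125) (.leaf ((nat_lit 584), [nat_lit 4, nat_lit 5, nat_lit 6, nat_lit 4, nat_lit 1, nat_lit 0, nat_lit 6, nat_lit 1, nat_lit 3, nat_lit 0, nat_lit 4, nat_lit 2, nat_lit 3, nat_lit 2, nat_lit 0])) (.node (nat_lit 1126) (.leaf ((nat_lit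 355), [nat_lit 2, nat_lit 6, nat_lit 2, nat_lit 6, nat_lit 4, nat_lit 3, nat_lit 1, nat_lit 5, nat_lit 4, nat_lit 1, nat_lit 0, nat_lit 2])) (.leaf ((nat_lit 889), [nat_lit 0, nat_lit 1, nat_lit 4, nat_lit 2, nat_lit 6, nat_lit 5, nat_lit 0, nat_lit 2, nat_lit 0, nat_lit 4, nat_lit 3])))))
 (.node (nat_lit 1130) (.node (nat_lit 1128) (.leaf ((nat_lit 221), [nat_lit 6, nat_lit 4, nat_lit 0, nat_lit 6, nat_lit 5, nat_lit 4, nat_lit 5, nat_lit 4, nat_lit 2, nat_lit 3])) (.node (nat_lit 1129) (.leaf ((nat_lit 890), [nat_lit 5, nat_lit 1, nat_lit 6, nat_lit 5, nat_lit 2, nat_lit 6, nat_lit 4, nat_lit 3, nat_lit 1, nat_lit 5, nat_lit 4, nat_lit 3, nat_lit 2])) (.leaf ((nat_lit 891), [nat_lit 1, nat_lit 6, nat_lit 4, nat_lit 3, nat_lit 6, nat_lit 2, nat_lit 0, nat_lit 4, nat_lit 0, nat_lit 2, nat_lit 0])))) (.node (nat_lit 1131) (.leaf ((nat_lit 892), [nat_lit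 5, nat_lit 6, nat_lit 5, nat_lit 2, nat_lit 6, nat_lit 5, nat_lit 4, nat_lit 3, nat_lit 4, nat_lit 1, nat_lit 3, nat_lit 0])) (.node (nat_lit 1132) (.leaf ((nat_lit 893), [nat_lit 5, nat_lit 2, nat_lit 5, nat_lit 6, nat_lit 1, nat_lit 6, nat_lit 4, nat_lit 5, nat_lit 1, nat_lit 0, nat_lit 1])) (.leaf ((nat_lit 894), [nat_lit 6, nat_lit 4, nat_lit 1, nat_lit 0, nat_lit 6, nat_lit 4, nat_lit 5, nat_lit 1, nat_lit 5, nat_lit 4, nat_lit 2, nat_lit 3, nat_lit 1]))))))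
 (.node (nat_lit 1138) (.node (nat_lit 1135) (.node (nat_lit 1134) (.leaf ((nat_lit 895), [nat_lit 6, nat_lit 5, nat_lit 6, nat_lit 3, nat_lit 0, nat_lit 6, nat_lit 4, nat_lit 5, nat_lit 3, nat_lit 0, nat_lit 4, nat_lit 1, nat_lit 3, nat_lit 2, nat_lit 0])) (.leaf ((nat_lit 896), [nat_lit 0, nat_lit 1, nat_lit 6, nat_lit 4, nat_lit 1, nat_lit 6, nat_lit 3, nat_lit 2, nat_lit 4, nat_lit 2, nat_lit 0, nat_lit 4, nat_lit 3, nat_lit 0]))) (.node (nat_lit 1136) (.leaf ((nat_lit 275), [nat_lit 3, nat_lit 6, nat_lit 5, nat_lit 2, nat_lit 6, nat_lit 4, nat_lit 5, nat_lit 1, nat_lit 5, nat_lit 4, nat_lit 0, nat_lit 1, nat_lit 0])) (.node (nat_lit 1137) (.leaf ((nat_lit 897), [nat_lit 5, nat_lit 1, nat_lit 3, nat_lit 6, nat_lit 1, nat_lit 6, nat_lit 2, nat_lit 5, nat_lit 3, nat_lit 5, nat_lit 4, nat_lit 0])) (.leaf ((nat_lit 898), [nat_lit 3, nat_lit 2, nat_lit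 6, nat_lit 4, nat_lit 0, nat_lit 6, nat_lit 5, nat_lit 2, nat_lit 5, nat_lit 4, nat_lit 2, nat_lit 3, nat_lit 2, nat_lit 0])))))
 (.node (nat_lit 1141) (.node (nat_lit 1139) (.leaf ((nat_lit 620), [nat_lit 0, nat_lit 1, nat_lit 6, nat_lit 1, nat_lit 6, nat_lit 1, nat_lit 0, nat_lit 5, nat_lit 4, nat_lit 2, nat_lit 3, nat_lit 2])) (.node (nat_lit 1140) (.leaf ((nat_lit 77), [nat_lit 1, nat_lit 6, nat_lit 5, nat_lit 1, nat_lit 4, nat_lit 3, nat_lit 5, nat_lit 1, nat_lit 0])) (.leaf ((nat_lit 899), [nat_lit 5, nat_lit 0, nat_lit 6, nat_lit 2, nat_lit 6, nat_lit 3, nat_lit 4, nat_lit 1, nat_lit 5])))) (.node (nat_lit 1142) (.leaf ((nat_lit 831), [nat_lit 3, nat_lit 6, nat_lit 5, nat_lit 4, nat_lit 6, nat_lit 2, nat_lit 5, nat_lit 4, nat_lit 5, nat_lit 2, nat_lit 3, nat_lit 1])) (.node (nat_lit 1143) (.leaf ((nat_lit 900), [nat_lit 0, nat_lit 5, nat_lit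 6, nat_lit 5, nat_lit 2, nat_lit 6, nat_lit 5, nat_lit 2, nat_lit 5, nat_lit 4, nat_lit 5, nat_lit 2, nat_lit 0, nat_lit 2])) (.leaf ((nat_lit 775), [nat_lit 3, nat_lit 6, nat_lit 5, nat_lit 3, nat_lit 6, nat_lit 2, nat_lit 4, nat_lit 1, nat_lit 3, nat_lit 4, nat_lit 2, nat_lit 3, nat_lit 1])))))))))
 (.node (nat_lit 1188) (.node (nat_lit 1166) (.node (nat_lit 1155) (.node (nat_lit 1149) (.node (nat_lit 1146) (.node (nat_lit 1145) (.leaf ((nat_lit 589), [nat_lit 5, nat_lit 1, nat_lit 6, nat_lit 1, nat_lit 6, nat_lit 5, nat_lit 1, nat_lit 4, nat_lit 5, nat_lit 0, nat_lit 2, nat_lit 0])) (.leaf ((nat_lit 901), [nat_lit 2, nat_lit 6, nat_lit 3, nat_lit 5, nat_lit 6, nat_lit 0, nat_lit 2, nat_lit 4, nat_lit 1, nat_lit 4, nat_lit 1, nat_lit 0, nat_lit 1, nat_lit 0]))) (.node (nat_lit 1147) (.leaf ((nat_lit 902), [nat_lit 3, nat_lit 6, nat_lit 1, nat_lit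 5, nat_lit 6, nat_lit 4, nat_lit 3, nat_lit 4, nat_lit 0, nat_lit 5, nat_lit 3, nat_lit 1, nat_lit 0])) (.node (nat_lit 1148) (.leaf ((nat_lit 903), [nat_lit 1, nat_lit 6, nat_lit 1, nat_lit 3, nat_lit 2, nat_lit 0, nat_lit 4, nat_lit 2, nat_lit 0, nat_lit 2, nat_lit 0])) (.leaf ((nat_lit 725), [nat_lit 0, nat_lit 4, nat_lit 2, nat_lit 6, nat_lit 2, nat_lit 4, nat_lit 3, nat_lit 0, nat_lit 4, nat_lit 3, nat_lit 1, nat_lit 0])))))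
 (.node (nat_lit 1152) (.node (nat_lit 1150) (.leaf ((nat_lit 904), [nat_lit 6, nat_lit 2, nat_lit 3, nat_lit 5, nat_lit 6, nat_lit 2, nat_lit 3, nat_lit 1, nat_lit 0, nat_lit 4, nat_lit 0, nat_lit 2])) (.node (nat_lit 1151) (.leaf ((nat_lit 905), [nat_lit 6, nat_lit 5, nat_lit 1, nat_lit 3, nat_lit 6, nat_lit 3, nat_lit 4, nat_lit 1, nat_lit 5, nat_lit 2, nat_lit 3, nat_lit 2, nat_lit 0])) (.leaf ((nat_lit 906), [nat_lit 1, nat_lit 3, nat_lit 4, nat_lit 6, nat_lit 2, nat_lit 6, nat_lit 4, nat_lit 2, nat_lit 0, nat_lit 2, nat_lit 4, nat_lit 2, nat_lit 0, nat_lit 1])))) (.node (nat_lit 1153) (.leaf ((nat_lit 493), [nat_lit 5, nat_lit 4, nat_lit 6, nat_lit 4, nat_lit 1, nat_lit 0, nat_lit 4, nat_lit 0, nat_lit 2])) (.node (nat_lit 1154) (.leaf ((nat_lit 907), [nat_lit 6, nat_lit 2, nat_lit 3, nat_lit 5, nat_lit 6, nat_lit 4, nat_lit 2, nat_lit 4, nat_lit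 1, nat_lit 0, nat_lit 4, nat_lit 1, nat_lit 3, nat_lit 0])) (.leaf ((nat_lit 908), [nat_lit 6, nat_lit 0, nat_lit 1, nat_lit 5, nat_lit 6, nat_lit 5, nat_lit 1, nat_lit 0, nat_lit 4, nat_lit 1, nat_lit 3, nat_lit 1]))))))
 (.node (nat_lit 1160) (.node (nat_lit 1157) (.node (nat_lit 1156) (.leaf ((nat_lit 483), [nat_lit 4, nat_lit 0, nat_lit 6, nat_lit 1, nat_lit 5, nat_lit 6, nat_lit 0, nat_lit 4, nat_lit 1, nat_lit 4, nat_lit 0, nat_lit 2])) (.leaf ((nat_lit 153), [nat_lit 2, nat_lit 6, nat_lit 5, nat_lit 3, nat_lit 6, nat_lit 1, nat_lit 4, nat_lit 5, nat_lit 1, nat_lit 3, nat_lit 2]))) (.node (nat_lit 1158) (.leaf ((nat_lit 347), [nat_lit 5, nat_lit 6, nat_lit 4, nat_lit 1, nat_lit 0, nat_lit 6, nat_lit 0, nat_lit 2, nat_lit 4, nat_lit 1, nat_lit 4, nat_lit 3, nat_lit 2, nat_lit 0])) (.node (nat_lit 1159) (.leaf ((nat_lit 909), [nat_lit 1, nat_lit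 6, nat_lit 5, nat_lit 2, nat_lit 4, nat_lit 6, nat_lit 0, nat_lit 2, nat_lit 5, nat_lit 3, nat_lit 4, nat_lit 1, nat_lit 3])) (.leaf ((nat_lit 550), [nat_lit 4, nat_lit 6, nat_lit 2, nat_lit 4, nat_lit 2, nat_lit 6, nat_lit 3, nat_lit 2, nat_lit 5, nat_lit 4, nat_lit 1, nat_lit 3])))))
 (.node (nat_lit 1163) (.node (nat_lit 1161) (.leaf ((nat_lit 594), [nat_lit 6, nat_lit 3, nat_lit 4, nat_lit 1, nat_lit 6, nat_lit 4, nat_lit 0, nat_lit 4, nat_lit 5, nat_lit 4, nat_lit 1, nat_lit 0, nat_lit 2])) (.node (nat_lit 1162) (.leaf ((nat_lit 910), [nat_lit 5, nat_lit 0, nat_lit 2, nat_lit 6, nat_lit 1, nat_lit 6, nat_lit 2, nat_lit 0, nat_lit 2, nat_lit 4, nat_lit 1])) (.leaf ((nat_lit 342), [nat_lit 1, nat_lit 4, nat_lit 6, nat_lit 1, nat_lit 0, nat_lit 6, nat_lit 2, nat_lit 4, nat_lit 5, nat_lit 4, nat_lit 0, nat_lit 5, nat_lit 2, nat_lit 3, nat_lit 2]))))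 (.node (nat_lit 1164) (.leaf ((nat_lit 911), [nat_lit 6, nat_lit 5, nat_lit 1, nat_lit 6, nat_lit 2, nat_lit 4, nat_lit 5, nat_lit 0, nat_lit 4, nat_lit 1, nat_lit 3, nat_lit 1])) (.node (nat_lit 1165) (.leaf ((nat_lit 898), [nat_lit 3, nat_lit 2, nat_lit 6, nat_lit 4, nat_lit 2, nat_lit 6, nat_lit 4, nat_lit 3, nat_lit 4, nat_lit 0, nat_lit 5, nat_lit 1, nat_lit 0])) (.leaf ((nat_lit 671), [nat_lit 6, nat_lit 2, nat_lit 5, nat_lit 3, nat_lit 6, nat_lit 0, nat_lit 4, nat_lit 5, nat_lit 3, nat_lit 1])))))))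
 (.node (nat_lit 1177) (.node (nat_lit 1171) (.node (nat_lit 1168) (.node (nat_lit 1167) (.leaf ((nat_lit 912), [nat_lit 6, nat_lit 5, nat_lit 6, nat_lit 1, nat_lit 6, nat_lit 5, nat_lit 2, nat_lit 5, nat_lit 4, nat_lit 0, nat_lit 2])) (.leaf ((nat_lit 913), [nat_lit 6, nat_lit 2, nat_lit 4, nat_lit 3, nat_lit 6, nat_lit 1, nat_lit 3, nat_lit 0, nat_lit 4, nat_lit 1, nat_lit 0]))) (.node (nat_lit 1169) (.leaf ((nat_lit 914), [nat_lit 6, nat_lit 5, nat_lit 4, nat_lit 2, nat_lit 0, nat_lit 6, nat_lit 0, nat_lit 2, nat_lit 5, nat_lit 1, nat_lit 3, nat_lit 1])) (.node (nat_lit 1170) (.leaf ((nat_lit 915), [nat_lit 6, nat_lit 2, nat_lit 4, nat_lit 6, nat_lit 3, nat_lit 2, nat_lit 5, nat_lit 4, nat_lit 2, nat_lit 3, nat_lit 2, nat_lit 0])) (.leaf ((nat_lit 56), [nat_lit 0, nat_lit 6, nat_lit 0, nat_lit 2, nat_lit 6, nat_lit 0, nat_lit 4, nat_lit 0, nat_lit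 4, nat_lit 0, nat_lit 1, nat_lit 0])))))
 (.node (nat_lit 1174) (.node (nat_lit 1172) (.leaf ((nat_lit 916), [nat_lit 6, nat_lit 5, nat_lit 1, nat_lit 6, nat_lit 3, nat_lit 5, nat_lit 4, nat_lit 2])) (.node (nat_lit 1173) (.leaf ((nat_lit 161), [nat_lit 3, nat_lit 2, nat_lit 6, nat_lit 2, nat_lit 6, nat_lit 0, nat_lit 4, nat_lit 1, nat_lit 4, nat_lit 0, nat_lit 1])) (.leaf ((nat_lit 917), [nat_lit 1, nat_lit 5, nat_lit 6, nat_lit 4, nat_lit 2, nat_lit 0, nat_lit 6, nat_lit 4, nat_lit 5, nat_lit 4, nat_lit 0, nat_lit 5, nat_lit 2, nat_lit 0, nat_lit 2])))) (.node (nat_lit 1175) (.leaf ((nat_lit 918), [nat_lit 5, nat_lit 2, nat_lit 6, nat_lit 0, nat_lit 4, nat_lit 6, nat_lit 5, nat_lit 1, nat_lit 0, nat_lit 4, nat_lit 2, nat_lit 0])) (.node (nat_lit 1176) (.leaf ((nat_lit 919), [nat_lit 3, nat_lit 6, nat_lit 0, nat_lit 2, nat_lit 6, nat_lit 5, nat_lit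 1, nat_lit 0, nat_lit 4, nat_lit 2, nat_lit 0, nat_lit 2])) (.leaf ((nat_lit 920), [nat_lit 3, nat_lit 6, nat_lit 0, nat_lit 2, nat_lit 6, nat_lit 4, nat_lit 0, nat_lit 4]))))))
 (.node (nat_lit 1182) (.node (nat_lit 1179) (.node (nat_lit 1178) (.leaf ((nat_lit 921), [nat_lit 6, nat_lit 4, nat_lit 2, nat_lit 3, nat_lit 6, nat_lit 4, nat_lit 0, nat_lit 2, nat_lit 4, nat_lit 1, nat_lit 3, nat_lit 2])) (.leaf ((nat_lit 922), [nat_lit 1, nat_lit 3, nat_lit 6, nat_lit 4, nat_lit 0, nat_lit 6, nat_lit 2, nat_lit 4, nat_lit 5, nat_lit 1, nat_lit 0]))) (.node (nat_lit 1180) (.leaf ((nat_lit 923), [nat_lit 6, nat_lit 3, nat_lit 5, nat_lit 3, nat_lit 6, nat_lit 4, nat_lit 2, nat_lit 4, nat_lit 3, nat_lit 4, nat_lit 1, nat_lit 0, nat_lit 1])) (.node (nat_lit 1181) (.leaf ((nat_lit 924), [nat_lit 4, nat_lit 0, nat_lit 6, nat_lit 2, nat_lit 0, nat_lit 6, nat_lit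 3, nat_lit 5, nat_lit 1, nat_lit 0, nat_lit 4, nat_lit 1, nat_lit 3])) (.leaf ((nat_lit 306), [nat_lit 2, nat_lit 4, nat_lit 1, nat_lit 6, nat_lit 1])))))
 (.node (nat_lit 1185) (.node (nat_lit 1183) (.leaf ((nat_lit 838), [nat_lit 2, nat_lit 0, nat_lit 6, nat_lit 1, nat_lit 6, nat_lit 2, nat_lit 3, nat_lit 1, nat_lit 0, nat_lit 4, nat_lit 2, nat_lit 0, nat_lit 1, nat_lit 0])) (.node (nat_lit 1184) (.leaf ((nat_lit 925), [nat_lit 6, nat_lit 1, nat_lit 6, nat_lit 5, nat_lit 1, nat_lit 6, nat_lit 1, nat_lit 4, nat_lit 1, nat_lit 0, nat_lit 4, nat_lit 2, nat_lit 3, nat_lit 1, nat_lit 0])) (.leaf ((nat_lit 926), [nat_lit 2, nat_lit 4, nat_lit 1, nat_lit 6, nat_lit 5, nat_lit 2, nat_lit 6, nat_lit 2, nat_lit 4, nat_lit 1, nat_lit 3, nat_lit 4, nat_lit 2, nat_lit 3, nat_lit 2])))) (.node (nat_lit 1186) (.leaf ((nat_lit 927), [nat_lit 5, nat_lit 4, nat_lit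 5, nat_lit 6, nat_lit 2, nat_lit 6, nat_lit 2, nat_lit 4, nat_lit 5, nat_lit 3, nat_lit 0, nat_lit 4, nat_lit 0])) (.node (nat_lit 1187) (.leaf ((nat_lit 463), [nat_lit 0, nat_lit 6, nat_lit 5, nat_lit 6, nat_lit 3, nat_lit 6, nat_lit 2, nat_lit 0, nat_lit 4, nat_lit 2, nat_lit 0])) (.leaf ((nat_lit 928), [nat_lit 5, nat_lit 4, nat_lit 6, nat_lit 5, nat_lit 1, nat_lit 3, nat_lit 4, nat_lit 5, nat_lit 3, nat_lit 2]))))))))
 (.node (nat_lit 1210) (.node (nat_lit 1199) (.node (nat_lit 1193) (.node (nat_lit 1190) (.node (nat_lit 1189) (.leaf ((nat_lit 929), [nat_lit 2, nat_lit 6, nat_lit 3, nat_lit 0, nat_lit 4, nat_lit 6, nat_lit 5, nat_lit 2, nat_lit 0, nat_lit 5, nat_lit 4, nat_lit 1, nat_lit 3, nat_lit 1, nat_lit 0])) (.leaf ((nat_lit 478), [nat_lit 6, nat_lit 2, nat_lit 6, nat_lit 4, nat_lit 2, nat_lit 6, nat_lit 0, nat_lit 4, nat_lit 3, nat_lit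 4, nat_lit 2, nat_lit 3]))) (.node (nat_lit 1191) (.leaf ((nat_lit 930), [nat_lit 2, nat_lit 6, nat_lit 1, nat_lit 4, nat_lit 0, nat_lit 2, nat_lit 4, nat_lit 2, nat_lit 3, nat_lit 2, nat_lit 0])) (.node (nat_lit 1192) (.leaf ((nat_lit 406), [nat_lit 0, nat_lit 6, nat_lit 1, nat_lit 0, nat_lit 6, nat_lit 4, nat_lit 1, nat_lit 3, nat_lit 2, nat_lit 0, nat_lit 4, nat_lit 1, nat_lit 3])) (.leaf ((nat_lit 931), [nat_lit 4, nat_lit 6, nat_lit 2, nat_lit 6, nat_lit 1, nat_lit 6, nat_lit 0, nat_lit 5, nat_lit 2, nat_lit 3, nat_lit 2])))))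
 (.node (nat_lit 1196) (.node (nat_lit 1194) (.leaf ((nat_lit 189), [nat_lit 4, nat_lit 6, nat_lit 1, nat_lit 6, nat_lit 1, nat_lit 4, nat_lit 5, nat_lit 0, nat_lit 4, nat_lit 2, nat_lit 3, nat_lit 1, nat_lit 0])) (.node (nat_lit 1195) (.leaf ((nat_lit 753), [nat_lit 6, nat_lit 5, nat_lit 6, nat_lit 3, nat_lit 6, nat_lit 2, nat_lit 4, nat_lit 3, nat_lit 0, nat_lit 4, nat_lit 2, nat_lit 0, nat_lit 1])) (.leaf ((nat_lit 932), [nat_lit 2, nat_lit 0, nat_lit 2, nat_lit 6, nat_lit 5, nat_lit 0, nat_lit 2, nat_lit 0, nat_lit 4, nat_lit 2, nat_lit 0, nat_lit 1, nat_lit 0])))) (.node (nat_lit 1197) (.leaf ((nat_lit 933), [nat_lit 5, nat_lit 6, nat_lit 3, nat_lit 6, nat_lit 2, nat_lit 4, nat_lit 3, nat_lit 1, nat_lit 0])) (.node (nat_lit 1198) (.leaf ((nat_lit 934), [nat_lit 4, nat_lit 1, nat_lit 6, nat_lit 1, nat_lit 4, nat_lit 5, nat_lit 0, nat_lit 4, nat_lit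 3, nat_lit 0])) (.leaf ((nat_lit 134), [nat_lit 6, nat_lit 5, nat_lit 2, nat_lit 0, nat_lit 6, nat_lit 4, nat_lit 1, nat_lit 4, nat_lit 3, nat_lit 0, nat_lit 4, nat_lit 2, nat_lit 3, nat_lit 1]))))))
 (.node (nat_lit 1204) (.node (nat_lit 1201) (.node (nat_lit 1200) (.leaf ((nat_lit 935), [nat_lit 0, nat_lit 6, nat_lit 5, nat_lit 2, nat_lit 4, nat_lit 6, nat_lit 0, nat_lit 4, nat_lit 2, nat_lit 0, nat_lit 1])) (.leaf ((nat_lit 687), [nat_lit 6, nat_lit 5, nat_lit 2, nat_lit 6, nat_lit 1, nat_lit 3, nat_lit 1, nat_lit 5, nat_lit 4, nat_lit 2, nat_lit 3, nat_lit 1, nat_lit 0]))) (.node (nat_lit 1202) (.leaf ((nat_lit 219), [nat_lit 1, nat_lit 6, nat_lit 1, nat_lit 6, nat_lit 3, nat_lit 5, nat_lit 3, nat_lit 4, nat_lit 1, nat_lit 3, nat_lit 1, nat_lit 0])) (.node (nat_lit 1203) (.leaf ((nat_lit 936), [nat_lit 4, nat_lit 1, nat_lit 6, nat_lit 0, nat_lit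 2, nat_lit 6, nat_lit 1, nat_lit 0, nat_lit 4, nat_lit 3, nat_lit 5, nat_lit 1, nat_lit 3, nat_lit 2])) (.leaf ((nat_lit 937), [nat_lit 6, nat_lit 5, nat_lit 6, nat_lit 0, nat_lit 4, nat_lit 5, nat_lit 0, nat_lit 4, nat_lit 0, nat_lit 2, nat_lit 0])))))
 (.node (nat_lit 1207) (.node (nat_lit 1205) (.leaf ((nat_lit 938), [nat_lit 3, nat_lit 2, nat_lit 4, nat_lit 6, nat_lit 3, nat_lit 0, nat_lit 4, nat_lit 1, nat_lit 4, nat_lit 2, nat_lit 3, nat_lit 2, nat_lit 0])) (.node (nat_lit 1206) (.leaf ((nat_lit 419), [nat_lit 0, nat_lit 1, nat_lit 6, nat_lit 4, nat_lit 3, nat_lit 5, nat_lit 1, nat_lit 0, nat_lit 4, nat_lit 1, nat_lit 0, nat_lit 1, nat_lit 0])) (.leaf ((nat_lit 939), [nat_lit 0, nat_lit 6, nat_lit 4, nat_lit 1, nat_lit 0, nat_lit 6, nat_lit 4, nat_lit 0, nat_lit 1, nat_lit 4, nat_lit 0, nat_lit 1, nat_lit 0])))) (.node (nat_lit 1208) (.leaf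 ((nat_lit 940), [nat_lit 0, nat_lit 1, nat_lit 5, nat_lit 6, nat_lit 0, nat_lit 1, nat_lit 5, nat_lit 3, nat_lit 4, nat_lit 2, nat_lit 3, nat_lit 1, nat_lit 0])) (.node (nat_lit 1209) (.leaf ((nat_lit 437), [nat_lit 4, nat_lit 0, nat_lit 4, nat_lit 5, nat_lit 4, nat_lit 3, nat_lit 0])) (.leaf ((nat_lit 941), [nat_lit 6, nat_lit 4, nat_lit 2, nat_lit 0, nat_lit 6, nat_lit 0, nat_lit 5, nat_lit 2, nat_lit 5, nat_lit 2, nat_lit 0])))))))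
 (.node (nat_lit 1221) (.node (nat_lit 1215) (.node (nat_lit 1212) (.node (nat_lit 1211) (.leaf ((nat_lit 942), [nat_lit 0, nat_lit 4, nat_lit 0, nat_lit 6, nat_lit 5, nat_lit 2, nat_lit 0, nat_lit 4, nat_lit 2, nat_lit 3, nat_lit 1])) (.leaf ((nat_lit 943), [nat_lit 1, nat_lit 6, nat_lit 5, nat_lit 0, nat_lit 2, nat_lit 6, nat_lit 1, nat_lit 4, nat_lit 5, nat_lit 0, nat_lit 4, nat_lit 2, nat_lit 0, nat_lit 2, nat_lit 0]))) (.node (nat_lit 1213) (.leaf ((nat_lit 944), [nat_lit 4, nat_lit 6, nat_lit 2, nat_lit 6, nat_lit 1, nat_lit 6, nat_lit 0, nat_lit 2, nat_lit 4, nat_lit 2, nat_lit 0, nat_lit 1, nat_lit 0])) (.node (nat_lit 1214) (.leaf ((nat_lit 945), [nat_lit 6, nat_lit 5, nat_lit 4, nat_lit 6, nat_lit 0, nat_lit 4, nat_lit 1, nat_lit 5, nat_lit 2, nat_lit 3, nat_lit 1])) (.leaf ((nat_lit 946), [nat_lit 2, nat_lit 3, nat_lit 6, nat_lit 2, nat_lit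 6, nat_lit 5, nat_lit 0, nat_lit 4, nat_lit 3, nat_lit 1])))))
 (.node (nat_lit 1218) (.node (nat_lit 1216) (.leaf ((nat_lit 947), [nat_lit 5, nat_lit 0, nat_lit 6, nat_lit 1, nat_lit 6, nat_lit 3, nat_lit 4, nat_lit 0, nat_lit 5, nat_lit 3, nat_lit 0])) (.node (nat_lit 1217) (.leaf ((nat_lit 948), [nat_lit 4, nat_lit 3, nat_lit 6, nat_lit 1, nat_lit 5, nat_lit 1, nat_lit 0, nat_lit 4, nat_lit 0, nat_lit 2, nat_lit 0])) (.leaf ((nat_lit 949), [nat_lit 4, nat_lit 6, nat_lit 4, nat_lit 5, nat_lit 4, nat_lit 6, nat_lit 2, nat_lit 0, nat_lit 2, nat_lit 0, nat_lit 4, nat_lit 1, nat_lit 3, nat_lit 1, nat_lit 0])))) (.node (nat_lit 1219) (.leaf ((nat_lit 950), [nat_lit 1, nat_lit 6, nat_lit 5, nat_lit 2, nat_lit 4, nat_lit 6, nat_lit 5, nat_lit 0, nat_lit 4, nat_lit 3, nat_lit 1, nat_lit 0])) (.node (nat_lit 1220) (.leaf ((nat_lit 377), [nat_lit 5, nat_lit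 2, nat_lit 6, nat_lit 0, nat_lit 1, nat_lit 6, nat_lit 4, nat_lit 0, nat_lit 4, nat_lit 5, nat_lit 4, nat_lit 3, nat_lit 2, nat_lit 0])) (.leaf ((nat_lit 951), [nat_lit 4, nat_lit 6, nat_lit 3, nat_lit 5, nat_lit 0, nat_lit 6, nat_lit 0, nat_lit 4, nat_lit 0, nat_lit 5, nat_lit 0, nat_lit 1]))))))
 (.node (nat_lit 1226) (.node (nat_lit 1223) (.node (nat_lit 1222) (.leaf ((nat_lit 952), [nat_lit 4, nat_lit 5, nat_lit 6, nat_lit 4, nat_lit 3, nat_lit 6, nat_lit 5, nat_lit 0, nat_lit 1, nat_lit 5, nat_lit 4, nat_lit 1, nat_lit 0, nat_lit 2, nat_lit 0])) (.leaf ((nat_lit 953), [nat_lit 2, nat_lit 5, nat_lit 3, nat_lit 6, nat_lit 3, nat_lit 4, nat_lit 1, nat_lit 5, nat_lit 1]))) (.node (nat_lit 1224) (.leaf ((nat_lit 954), [nat_lit 1, nat_lit 6, nat_lit 4, nat_lit 5, nat_lit 6, nat_lit 1, nat_lit 3, nat_lit 1, nat_lit 5, nat_lit 4, nat_lit 2, nat_lit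 3])) (.node (nat_lit 1225) (.leaf ((nat_lit 527), [nat_lit 0, nat_lit 4, nat_lit 0, nat_lit 6, nat_lit 5, nat_lit 4, nat_lit 2, nat_lit 0, nat_lit 4, nat_lit 2, nat_lit 0, nat_lit 1])) (.leaf ((nat_lit 955), [nat_lit 4, nat_lit 6, nat_lit 2, nat_lit 5, nat_lit 6, nat_lit 2, nat_lit 0, nat_lit 1, nat_lit 0, nat_lit 4, nat_lit 1, nat_lit 0, nat_lit 1, nat_lit 0])))))
 (.node (nat_lit 1229) (.node (nat_lit 1227) (.leaf ((nat_lit 956), [nat_lit 2, nat_lit 0, nat_lit 4, nat_lit 2, nat_lit 6, nat_lit 0, nat_lit 4, nat_lit 3, nat_lit 5, nat_lit 3])) (.node (nat_lit 1228) (.leaf ((nat_lit 957), [nat_lit 3, nat_lit 1, nat_lit 6, nat_lit 5, nat_lit 1, nat_lit 6, nat_lit 4, nat_lit 2, nat_lit 0, nat_lit 2, nat_lit 0, nat_lit 4, nat_lit 3, nat_lit 1, nat_lit 0])) (.leaf ((nat_lit 870), [nat_lit 6, nat_lit 5, nat_lit 2, nat_lit 0, nat_lit 2, nat_lit 6, nat_lit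 0, nat_lit 1, nat_lit 0])))) (.node (nat_lit 1230) (.leaf ((nat_lit 958), [nat_lit 3, nat_lit 6, nat_lit 4, nat_lit 0, nat_lit 6, nat_lit 3, nat_lit 4, nat_lit 5, nat_lit 0, nat_lit 2, nat_lit 0])) (.node (nat_lit 1231) (.leaf ((nat_lit 959), [nat_lit 6, nat_lit 5, nat_lit 6, nat_lit 1, nat_lit 6, nat_lit 4, nat_lit 2, nat_lit 5, nat_lit 1, nat_lit 0, nat_lit 1, nat_lit 0])) (.leaf ((nat_lit 960), [nat_lit 4, nat_lit 5, nat_lit 6, nat_lit 4, nat_lit 0, nat_lit 6, nat_lit 5, nat_lit 1, nat_lit 3, nat_lit 2, nat_lit 4]))))))))))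
noncomputable def rWd_7 : Tr (ℕ × List ℕ) := (.node (nat_lit 1320) (.node (nat_lit 1276) (.node (nat_lit 1254) (.node (nat_lit 1243) (.node (nat_lit 1237) (.node (nat_lit 1234) (.node (nat_lit 1233) (.leaf ((nat_lit 961), [nat_lit 3, nat_lit 1, nat_lit 6, nat_lit 4, nat_lit 1, nat_lit 6, nat_lit 1, nat_lit 3, nat_lit 1, nat_lit 0, nat_lit 4, nat_lit 0, nat_lit 1, nat_lit 0])) (.leaf ((nat_lit 962), [nat_lit 0, nat_lit 6, nat_lit 2, nat_lit 6, nat_lit 4, nat_lit 0, nat_lit 6, nat_lit 4, nat_lit 0, nat_lit 4, nat_lit 5, nat_lit 4, nat_lit 2, nat_lit 0, nat_lit 1, nat_lit 0]))) (.node (nat_lit 1235) (.leaf ((nat_lit 427), [nat_lit 5, nat_lit 4, nat_lit 6, nat_lit 1, nat_lit 6, nat_lit 1, nat_lit 4, nat_lit 2, nat_lit 3, nat_lit 4, nat_lit 3, nat_lit 1])) (.node (nat_lit 1236) (.leaf ((nat_lit 963), [nat_lit 0, nat_lit 5, nat_lit 2, nat_lit 6, nat_lit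 2, nat_lit 6, nat_lit 4, nat_lit 5, nat_lit 1, nat_lit 3, nat_lit 4, nat_lit 2, nat_lit 0, nat_lit 2])) (.leaf ((nat_lit 297), [nat_lit 5, nat_lit 1, nat_lit 3, nat_lit 6, nat_lit 2, nat_lit 4, nat_lit 5, nat_lit 2, nat_lit 3, nat_lit 2])))))
 (.node (nat_lit 1240) (.node (nat_lit 1238) (.leaf ((nat_lit 964), [nat_lit 2, nat_lit 0, nat_lit 6, nat_lit 1, nat_lit 6, nat_lit 1, nat_lit 3, nat_lit 4, nat_lit 1])) (.node (nat_lit 1239) (.leaf ((nat_lit 965), [nat_lit 2, nat_lit 6, nat_lit 5, nat_lit 0, nat_lit 2, nat_lit 6, nat_lit 1, nat_lit 5, nat_lit 4, nat_lit 1, nat_lit 4, nat_lit 2, nat_lit 0, nat_lit 1, nat_lit 0])) (.leaf ((nat_lit 440), [nat_lit 2, nat_lit 6, nat_lit 5, nat_lit 0, nat_lit 2, nat_lit 6, nat_lit 5, nat_lit 4, nat_lit 5, nat_lit 1, nat_lit 5])))) (.node (nat_lit 1241) (.leaf ((nat_lit 966), [nat_lit 2, nat_lit 6, nat_lit 5, nat_lit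 3, nat_lit 6, nat_lit 1, nat_lit 3, nat_lit 4, nat_lit 2, nat_lit 4, nat_lit 0, nat_lit 2])) (.node (nat_lit 1242) (.leaf ((nat_lit 967), [nat_lit 5, nat_lit 0, nat_lit 4, nat_lit 6, nat_lit 2, nat_lit 5, nat_lit 4, nat_lit 2, nat_lit 0, nat_lit 1, nat_lit 0])) (.leaf ((nat_lit 363), [nat_lit 6, nat_lit 2, nat_lit 6, nat_lit 1, nat_lit 4, nat_lit 6, nat_lit 1, nat_lit 4, nat_lit 3, nat_lit 2, nat_lit 4, nat_lit 2, nat_lit 0, nat_lit 1, nat_lit 0]))))))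
 (.node (nat_lit 1248) (.node (nat_lit 1245) (.node (nat_lit 1244) (.leaf ((nat_lit 673), [nat_lit 2, nat_lit 5, nat_lit 6, nat_lit 4, nat_lit 0, nat_lit 6, nat_lit 2, nat_lit 5, nat_lit 4, nat_lit 5, nat_lit 1, nat_lit 3])) (.leaf ((nat_lit 968), [nat_lit 2, nat_lit 6, nat_lit 2, nat_lit 0, nat_lit 6, nat_lit 4, nat_lit 0, nat_lit 4, nat_lit 5, nat_lit 4, nat_lit 2, nat_lit 3, nat_lit 2, nat_lit 0]))) (.node (nat_lit 1246) (.leaf ((nat_lit 516), [nat_lit 2, nat_lit 6, nat_lit 4, nat_lit 3, nat_lit 6, nat_lit 4, nat_lit 0, nat_lit 4, nat_lit 5, nat_lit 4, nat_lit 1, nat_lit 0, nat_lit 2, nat_lit 0])) (.node (nat_lit 1247) (.leaf ((nat_lit 969), [nat_lit 4, nat_lit 0, nat_lit 6, nat_lit 5, nat_lit 4, nat_lit 5, nat_lit 1, nat_lit 4, nat_lit 2])) (.leaf ((nat_lit 713), [nat_lit 3, nat_lit 2, nat_lit 6, nat_lit 0, nat_lit 2, nat_lit 5, nat_lit 3, nat_lit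 4, nat_lit 2, nat_lit 3, nat_lit 2, nat_lit 0])))))
 (.node (nat_lit 1251) (.node (nat_lit 1249) (.leaf ((nat_lit 970), [nat_lit 1, nat_lit 6, nat_lit 5, nat_lit 3, nat_lit 6, nat_lit 5, nat_lit 4, nat_lit 2, nat_lit 0, nat_lit 4, nat_lit 2, nat_lit 0, nat_lit 2, nat_lit 0])) (.node (nat_lit 1250) (.leaf ((nat_lit 971), [nat_lit 6, nat_lit 5, nat_lit 2, nat_lit 0, nat_lit 6, nat_lit 3, nat_lit 4, nat_lit 0, nat_lit 4, nat_lit 0, nat_lit 1, nat_lit 0])) (.leaf ((nat_lit 972), [nat_lit 0, nat_lit 1, nat_lit 5, nat_lit 6, nat_lit 2, nat_lit 6, nat_lit 4, nat_lit 5, nat_lit 4, nat_lit 5, nat_lit 2])))) (.node (nat_lit 1252) (.leaf ((nat_lit 757), [nat_lit 6, nat_lit 4, nat_lit 1, nat_lit 6, nat_lit 2, nat_lit 6, nat_lit 5, nat_lit 1, nat_lit 4, nat_lit 3, nat_lit 5, nat_lit 2, nat_lit 3, nat_lit 1])) (.node (nat_lit 1253) (.leaf ((nat_lit 182), [nat_lit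 5, nat_lit 4, nat_lit 6, nat_lit 4, nat_lit 2, nat_lit 6, nat_lit 4, nat_lit 2, nat_lit 5, nat_lit 2, nat_lit 0, nat_lit 1, nat_lit 0])) (.leaf ((nat_lit 936), [nat_lit 6, nat_lit 2, nat_lit 5, nat_lit 6, nat_lit 0, nat_lit 4, nat_lit 5, nat_lit 1, nat_lit 3, nat_lit 1, nat_lit 0])))))))
 (.node (nat_lit 1265) (.node (nat_lit 1259) (.node (nat_lit 1256) (.node (nat_lit 1255) (.leaf ((nat_lit 291), [nat_lit 3, nat_lit 4, nat_lit 6, nat_lit 4, nat_lit 1, nat_lit 6, nat_lit 4, nat_lit 2, nat_lit 5, nat_lit 2, nat_lit 3, nat_lit 1, nat_lit 0])) (.leaf ((nat_lit 973), [nat_lit 2, nat_lit 6, nat_lit 2, nat_lit 4, nat_lit 6, nat_lit 3, nat_lit 2, nat_lit 0, nat_lit 4, nat_lit 2, nat_lit 0, nat_lit 1, nat_lit 0]))) (.node (nat_lit 1257) (.leaf ((nat_lit 935), [nat_lit 4, nat_lit 6, nat_lit 1, nat_lit 0, nat_lit 6, nat_lit 1, nat_lit 5, nat_lit 0, nat_lit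 4, nat_lit 1])) (.node (nat_lit 1258) (.leaf ((nat_lit 974), [nat_lit 3, nat_lit 2, nat_lit 6, nat_lit 2, nat_lit 4, nat_lit 0, nat_lit 6, nat_lit 3, nat_lit 2, nat_lit 0, nat_lit 4, nat_lit 2, nat_lit 3, nat_lit 1])) (.leaf ((nat_lit 789), [nat_lit 1, nat_lit 6, nat_lit 4, nat_lit 1, nat_lit 6, nat_lit 0, nat_lit 2, nat_lit 5, nat_lit 2, nat_lit 3, nat_lit 1, nat_lit 0])))))
 (.node (nat_lit 1262) (.node (nat_lit 1260) (.leaf ((nat_lit 975), [nat_lit 1, nat_lit 6, nat_lit 2, nat_lit 5, nat_lit 6, nat_lit 4, nat_lit 3, nat_lit 2, nat_lit 0, nat_lit 4, nat_lit 2, nat_lit 3, nat_lit 2])) (.node (nat_lit 1261) (.leaf ((nat_lit 976), [nat_lit 1, nat_lit 6, nat_lit 0, nat_lit 2, nat_lit 6, nat_lit 1, nat_lit 5, nat_lit 2, nat_lit 0, nat_lit 4, nat_lit 1, nat_lit 3, nat_lit 0])) (.leaf ((nat_lit 905), [nat_lit 6, nat_lit 1, nat_lit 4, nat_lit 3, nat_lit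 6, nat_lit 3, nat_lit 4, nat_lit 3, nat_lit 0, nat_lit 5, nat_lit 3, nat_lit 2, nat_lit 0])))) (.node (nat_lit 1263) (.leaf ((nat_lit 913), [nat_lit 5, nat_lit 6, nat_lit 5, nat_lit 1, nat_lit 4, nat_lit 6, nat_lit 2, nat_lit 0, nat_lit 5, nat_lit 1, nat_lit 0, nat_lit 2])) (.node (nat_lit 1264) (.leaf ((nat_lit 51), [nat_lit 5, nat_lit 3, nat_lit 6, nat_lit 4, nat_lit 3, nat_lit 6, nat_lit 5, nat_lit 1, nat_lit 5, nat_lit 0, nat_lit 2, nat_lit 4, nat_lit 2, nat_lit 0, nat_lit 2])) (.leaf ((nat_lit 172), [nat_lit 1, nat_lit 6, nat_lit 2, nat_lit 6, nat_lit 3, nat_lit 4, nat_lit 3, nat_lit 0, nat_lit 5, nat_lit 1, nat_lit 3, nat_lit 1]))))))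
 (.node (nat_lit 1270) (.node (nat_lit 1267) (.node (nat_lit 1266) (.leaf ((nat_lit 977), [nat_lit 3, nat_lit 6, nat_lit 5, nat_lit 6, nat_lit 2, nat_lit 3, nat_lit 4, nat_lit 3, nat_lit 0])) (.leaf ((nat_lit 947), [nat_lit 3, nat_lit 6, nat_lit 1, nat_lit 5, nat_lit 6, nat_lit 5, nat_lit 4, nat_lit 2, nat_lit 3, nat_lit 4, nat_lit 3]))) (.node (nat_lit 1268) (.leaf ((nat_lit 481), [nat_lit 1, nat_lit 0, nat_lit 6, nat_lit 2, nat_lit 6, nat_lit 2, nat_lit 5, nat_lit 3, nat_lit 1])) (.node (nat_lit 1269) (.leaf ((nat_lit 978), [nat_lit 4, nat_lit 0, nat_lit 6, nat_lit 2, nat_lit 6, nat_lit 4, nat_lit 0, nat_lit 5, nat_lit 2, nat_lit 5, nat_lit 2, nat_lit 0, nat_lit 1, nat_lit 0])) (.leaf ((nat_lit 979), [nat_lit 3, nat_lit 6, nat_lit 4, nat_lit 1, nat_lit 3, nat_lit 6, nat_lit 4, nat_lit 5, nat_lit 2, nat_lit 5, nat_lit 0, nat_lit 1, nat_lit 0])))))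
 (.node (nat_lit 1273) (.node (nat_lit 1271) (.leaf ((nat_lit 163), [nat_lit 3, nat_lit 0, nat_lit 6, nat_lit 1, nat_lit 5, nat_lit 6, nat_lit 4, nat_lit 5, nat_lit 1, nat_lit 5, nat_lit 2, nat_lit 0, nat_lit 2])) (.node (nat_lit 1272) (.leaf ((nat_lit 732), [nat_lit 6, nat_lit 4, nat_lit 5, nat_lit 4, nat_lit 6, nat_lit 1, nat_lit 3, nat_lit 4, nat_lit 5, nat_lit 1])) (.leaf ((nat_lit 980), [nat_lit 2, nat_lit 4, nat_lit 6, nat_lit 1, nat_lit 6, nat_lit 1, nat_lit 5, nat_lit 4, nat_lit 2, nat_lit 0, nat_lit 4, nat_lit 2, nat_lit 3, nat_lit 1])))) (.node (nat_lit 1274) (.leaf ((nat_lit 981), [nat_lit 2, nat_lit 5, nat_lit 2, nat_lit 6, nat_lit 3, nat_lit 5, nat_lit 2, nat_lit 0, nat_lit 4, nat_lit 2])) (.node (nat_lit 1275) (.leaf ((nat_lit 982), [nat_lit 2, nat_lit 6, nat_lit 1, nat_lit 4, nat_lit 3, nat_lit 6, nat_lit 4, nat_lit 3, nat_lit 5, nat_lit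 1, nat_lit 5, nat_lit 3, nat_lit 2])) (.leaf ((nat_lit 17), [nat_lit 6, nat_lit 3, nat_lit 4, nat_lit 2, nat_lit 0, nat_lit 6, nat_lit 0, nat_lit 1, nat_lit 4, nat_lit 3, nat_lit 2]))))))))
 (.node (nat_lit 1298) (.node (nat_lit 1287) (.node (nat_lit 1281) (.node (nat_lit 1278) (.node (nat_lit 1277) (.leaf ((nat_lit 54), [nat_lit 5, nat_lit 2, nat_lit 0, nat_lit 6, nat_lit 5, nat_lit 4, nat_lit 5, nat_lit 2, nat_lit 3, nat_lit 1])) (.leaf ((nat_lit 983), [nat_lit 6, nat_lit 1, nat_lit 6, nat_lit 1, nat_lit 0, nat_lit 6, nat_lit 1, nat_lit 5, nat_lit 4, nat_lit 1, nat_lit 3]))) (.node (nat_lit 1279) (.leaf ((nat_lit 451), [nat_lit 6, nat_lit 4, nat_lit 5, nat_lit 6, nat_lit 3, nat_lit 0, nat_lit 4, nat_lit 1, nat_lit 4, nat_lit 0, nat_lit 1])) (.node (nat_lit 1280) (.leaf ((nat_lit 933), [nat_lit 0, nat_lit 5, nat_lit 1, nat_lit 6, nat_lit 2, nat_lit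 6, nat_lit 3, nat_lit 2, nat_lit 4, nat_lit 2, nat_lit 0, nat_lit 4, nat_lit 3])) (.leaf ((nat_lit 984), [nat_lit 4, nat_lit 0, nat_lit 6, nat_lit 1, nat_lit 6, nat_lit 2, nat_lit 4, nat_lit 0, nat_lit 1, nat_lit 4, nat_lit 1, nat_lit 3, nat_lit 0])))))
 (.node (nat_lit 1284) (.node (nat_lit 1282) (.leaf ((nat_lit 942), [nat_lit 1, nat_lit 4, nat_lit 6, nat_lit 1, nat_lit 0, nat_lit 6, nat_lit 3, nat_lit 5, nat_lit 4, nat_lit 1, nat_lit 0])) (.node (nat_lit 1283) (.leaf ((nat_lit 819), [nat_lit 2, nat_lit 6, nat_lit 1, nat_lit 0, nat_lit 6, nat_lit 1, nat_lit 3, nat_lit 0, nat_lit 4, nat_lit 2, nat_lit 0, nat_lit 2, nat_lit 0])) (.leaf ((nat_lit 985), [nat_lit 6, nat_lit 2, nat_lit 5, nat_lit 6, nat_lit 2, nat_lit 6, nat_lit 2, nat_lit 5, nat_lit 2, nat_lit 0, nat_lit 4, nat_lit 1, nat_lit 3])))) (.node (nat_lit 1285) (.leaf ((nat_lit 986), [nat_lit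 2, nat_lit 6, nat_lit 2, nat_lit 4, nat_lit 0, nat_lit 6, nat_lit 3, nat_lit 4, nat_lit 2, nat_lit 3, nat_lit 4, nat_lit 1, nat_lit 0, nat_lit 1])) (.node (nat_lit 1286) (.leaf ((nat_lit 185), [nat_lit 5, nat_lit 3, nat_lit 6, nat_lit 4, nat_lit 3, nat_lit 6, nat_lit 2, nat_lit 4, nat_lit 5, nat_lit 2, nat_lit 5, nat_lit 1, nat_lit 3, nat_lit 1, nat_lit 0])) (.leaf ((nat_lit 987), [nat_lit 2, nat_lit 5, nat_lit 2, nat_lit 6, nat_lit 5, nat_lit 0, nat_lit 4, nat_lit 0, nat_lit 1]))))))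
 (.node (nat_lit 1292) (.node (nat_lit 1289) (.node (nat_lit 1288) (.leaf ((nat_lit 358), [nat_lit 2, nat_lit 6, nat_lit 4, nat_lit 0, nat_lit 6, nat_lit 0, nat_lit 2, nat_lit 4, nat_lit 5, nat_lit 2, nat_lit 3, nat_lit 1, nat_lit 0])) (.leaf ((nat_lit 988), [nat_lit 2, nat_lit 0, nat_lit 4, nat_lit 6, nat_lit 2, nat_lit 6, nat_lit 1, nat_lit 3, nat_lit 5, nat_lit 2, nat_lit 4, nat_lit 3, nat_lit 1, nat_lit 0]))) (.node (nat_lit 1290) (.leaf ((nat_lit 989), [nat_lit 3, nat_lit 5, nat_lit 0, nat_lit 6, nat_lit 0, nat_lit 2, nat_lit 5, nat_lit 3, nat_lit 1, nat_lit 0])) (.node (nat_lit 1291) (.leaf ((nat_lit 813), [nat_lit 0, nat_lit 5, nat_lit 6, nat_lit 1, nat_lit 6, nat_lit 4, nat_lit 3, nat_lit 5, nat_lit 4, nat_lit 1, nat_lit 0])) (.leaf ((nat_lit 314), [nat_lit 1, nat_lit 3, nat_lit 6, nat_lit 5, nat_lit 1, nat_lit 3, nat_lit 2, nat_lit 4])))))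
 (.node (nat_lit 1295) (.node (nat_lit 1293) (.leaf ((nat_lit 695), [nat_lit 6, nat_lit 1, nat_lit 4, nat_lit 3, nat_lit 6, nat_lit 1, nat_lit 4, nat_lit 2, nat_lit 3, nat_lit 4, nat_lit 0, nat_lit 2])) (.node (nat_lit 1294) (.leaf ((nat_lit 990), [nat_lit 1, nat_lit 6, nat_lit 5, nat_lit 3, nat_lit 6, nat_lit 5, nat_lit 2, nat_lit 0, nat_lit 5, nat_lit 2, nat_lit 0, nat_lit 1, nat_lit 0])) (.leaf ((nat_lit 934), [nat_lit 6, nat_lit 2, nat_lit 6, nat_lit 3, nat_lit 2, nat_lit 6, nat_lit 3, nat_lit 0, nat_lit 5, nat_lit 4, nat_lit 0])))) (.node (nat_lit 1296) (.leaf ((nat_lit 991), [nat_lit 1, nat_lit 6, nat_lit 2, nat_lit 6, nat_lit 0, nat_lit 5, nat_lit 4, nat_lit 3, nat_lit 4])) (.node (nat_lit 1297) (.leaf ((nat_lit 477), [nat_lit 2, nat_lit 6, nat_lit 2, nat_lit 5, nat_lit 6, nat_lit 1, nat_lit 5, nat_lit 3, nat_lit 0, nat_lit 4, nat_lit 3, nat_lit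 2])) (.leaf ((nat_lit 987), [nat_lit 4, nat_lit 5, nat_lit 6, nat_lit 4, nat_lit 1, nat_lit 6, nat_lit 4, nat_lit 5, nat_lit 2, nat_lit 5, nat_lit 1, nat_lit 0, nat_lit 2])))))))
 (.node (nat_lit 1309) (.node (nat_lit 1303) (.node (nat_lit 1300) (.node (nat_lit 1299) (.leaf ((nat_lit 28), [nat_lit 2, nat_lit 6, nat_lit 5, nat_lit 2, nat_lit 6, nat_lit 5, nat_lit 1, nat_lit 3, nat_lit 4, nat_lit 1, nat_lit 3, nat_lit 2])) (.leaf ((nat_lit 992), [nat_lit 5, nat_lit 1, nat_lit 3, nat_lit 6, nat_lit 0, nat_lit 4, nat_lit 0, nat_lit 5, nat_lit 0, nat_lit 2]))) (.node (nat_lit 1301) (.leaf ((nat_lit 993), [nat_lit 2, nat_lit 6, nat_lit 2, nat_lit 4, nat_lit 6, nat_lit 2, nat_lit 4, nat_lit 3, nat_lit 2, nat_lit 4, nat_lit 2, nat_lit 0, nat_lit 2, nat_lit 0])) (.node (nat_lit 1302) (.leaf ((nat_lit 426), [nat_lit 5, nat_lit 6, nat_lit 1, nat_lit 0, nat_lit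 6, nat_lit 1, nat_lit 5, nat_lit 4, nat_lit 2, nat_lit 0, nat_lit 4, nat_lit 1, nat_lit 3, nat_lit 1, nat_lit 0])) (.leaf ((nat_lit 994), [nat_lit 5, nat_lit 1, nat_lit 6, nat_lit 4, nat_lit 1, nat_lit 6, nat_lit 2, nat_lit 4, nat_lit 5, nat_lit 4, nat_lit 0, nat_lit 5, nat_lit 1, nat_lit 0, nat_lit 2])))))
 (.node (nat_lit 1306) (.node (nat_lit 1304) (.leaf ((nat_lit 995), [nat_lit 4, nat_lit 6, nat_lit 3, nat_lit 5, nat_lit 0, nat_lit 6, nat_lit 1, nat_lit 5, nat_lit 0, nat_lit 4, nat_lit 2, nat_lit 0])) (.node (nat_lit 1305) (.leaf ((nat_lit 996), [nat_lit 6, nat_lit 3, nat_lit 5, nat_lit 6, nat_lit 5, nat_lit 3, nat_lit 0, nat_lit 4, nat_lit 1, nat_lit 0, nat_lit 2, nat_lit 0])) (.leaf ((nat_lit 997), [nat_lit 6, nat_lit 4, nat_lit 0, nat_lit 6, nat_lit 0, nat_lit 2, nat_lit 4, nat_lit 5, nat_lit 1, nat_lit 3, nat_lit 0])))) (.node (nat_lit 1307)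 (.leaf ((nat_lit 998), [nat_lit 6, nat_lit 4, nat_lit 1, nat_lit 3, nat_lit 6, nat_lit 0, nat_lit 1, nat_lit 5, nat_lit 4, nat_lit 3, nat_lit 0])) (.node (nat_lit 1308) (.leaf ((nat_lit 803), [nat_lit 1, nat_lit 6, nat_lit 4, nat_lit 5, nat_lit 6, nat_lit 5, nat_lit 0, nat_lit 4, nat_lit 3, nat_lit 4, nat_lit 3, nat_lit 0])) (.leaf ((nat_lit 530), [nat_lit 6, nat_lit 1, nat_lit 6, nat_lit 5, nat_lit 3, nat_lit 6, nat_lit 0, nat_lit 4, nat_lit 5, nat_lit 1, nat_lit 4, nat_lit 2, nat_lit 0]))))))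
 (.node (nat_lit 1314) (.node (nat_lit 1311) (.node (nat_lit 1310) (.leaf ((nat_lit 999), [nat_lit 1, nat_lit 5, nat_lit 6, nat_lit 2, nat_lit 0, nat_lit 6, nat_lit 1, nat_lit 4, nat_lit 5, nat_lit 2, nat_lit 5, nat_lit 3, nat_lit 1])) (.leaf ((nat_lit 1000), [nat_lit 2, nat_lit 6, nat_lit 2, nat_lit 4, nat_lit 0, nat_lit 6, nat_lit 1, nat_lit 0, nat_lit 4, nat_lit 5, nat_lit 1, nat_lit 0, nat_lit 1]))) (.node (nat_lit 1312) (.leaf ((nat_lit 47), [nat_lit 1, nat_lit 5, nat_lit 3, nat_lit 6, nat_lit 1, nat_lit 6, nat_lit 5, nat_lit 4])) (.node (nat_lit 1313) (.leaf ((nat_lit 1001), [nat_lit 5, nat_lit 6, nat_lit 4, nat_lit 1, nat_lit 6, nat_lit 0, nat_lit 4, nat_lit 1, nat_lit 5, nat_lit 1, nat_lit 3, nat_lit 0])) (.leaf ((nat_lit 337), [nat_lit 5, nat_lit 6, nat_lit 2, nat_lit 4, nat_lit 3, nat_lit 6, nat_lit 3, nat_lit 4, nat_lit 2, nat_lit 4, nat_lit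 1, nat_lit 0])))))
 (.node (nat_lit 1317) (.node (nat_lit 1315) (.leaf ((nat_lit 1002), [nat_lit 4, nat_lit 5, nat_lit 6, nat_lit 5, nat_lit 2, nat_lit 0, nat_lit 4, nat_lit 1, nat_lit 3, nat_lit 1])) (.node (nat_lit 1316) (.leaf ((nat_lit 1003), [nat_lit 5, nat_lit 6, nat_lit 2, nat_lit 0, nat_lit 6, nat_lit 0, nat_lit 2, nat_lit 4, nat_lit 1, nat_lit 4, nat_lit 3, nat_lit 2])) (.leaf ((nat_lit 1004), [nat_lit 5, nat_lit 3, nat_lit 6, nat_lit 5, nat_lit 1, nat_lit 6, nat_lit 3, nat_lit 4, nat_lit 1, nat_lit 0, nat_lit 4, nat_lit 1, nat_lit 0, nat_lit 2, nat_lit 0])))) (.node (nat_lit 1318) (.leaf ((nat_lit 956), [nat_lit 3, nat_lit 6, nat_lit 0, nat_lit 4, nat_lit 6, nat_lit 0, nat_lit 4, nat_lit 5, nat_lit 4, nat_lit 3])) (.node (nat_lit 1319) (.leaf ((nat_lit 1005), [nat_lit 0, nat_lit 2, nat_lit 6, nat_lit 1, nat_lit 6, nat_lit 3, nat_lit 0,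 nat_lit 5, nat_lit 4, nat_lit 1, nat_lit 3])) (.leaf ((nat_lit 1006), [nat_lit 4, nat_lit 2, nat_lit 6, nat_lit 4, nat_lit 2, nat_lit 6, nat_lit 4, nat_lit 3, nat_lit 4, nat_lit 0, nat_lit 5, nat_lit 2, nat_lit 0, nat_lit 1])))))))))
 (.node (nat_lit 1364) (.node (nat_lit 1342) (.node (nat_lit 1331) (.node (nat_lit 1325) (.node (nat_lit 1322) (.node (nat_lit 1321) (.leaf ((nat_lit 565), [nat_lit 5, nat_lit 6, nat_lit 4, nat_lit 1, nat_lit 0, nat_lit 6, nat_lit 5, nat_lit 0, nat_lit 1, nat_lit 5, nat_lit 4, nat_lit 3])) (.leaf ((nat_lit 896), [nat_lit 1, nat_lit 6, nat_lit 1, nat_lit 4, nat_lit 1, nat_lit 6, nat_lit 4, nat_lit 5, nat_lit 0, nat_lit 4, nat_lit 5, nat_lit 0, nat_lit 1]))) (.node (nat_lit 1323) (.leaf ((nat_lit 815), [nat_lit 0, nat_lit 5, nat_lit 2, nat_lit 6, nat_lit 2, nat_lit 6, nat_lit 2, nat_lit 0, nat_lit 4, nat_lit 3, nat_lit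 5, nat_lit 1, nat_lit 0, nat_lit 2, nat_lit 0])) (.node (nat_lit 1324) (.leaf ((nat_lit 574), [nat_lit 1, nat_lit 6, nat_lit 4, nat_lit 2, nat_lit 6, nat_lit 5, nat_lit 2, nat_lit 4, nat_lit 3, nat_lit 4, nat_lit 2, nat_lit 0, nat_lit 1])) (.leaf ((nat_lit 1007), [nat_lit 6, nat_lit 2, nat_lit 4, nat_lit 3, nat_lit 6, nat_lit 5, nat_lit 0, nat_lit 5, nat_lit 1, nat_lit 3, nat_lit 0])))))
 (.node (nat_lit 1328) (.node (nat_lit 1326) (.leaf ((nat_lit 1008), [nat_lit 6, nat_lit 5, nat_lit 6, nat_lit 3, nat_lit 0, nat_lit 6, nat_lit 3, nat_lit 4, nat_lit 2, nat_lit 4, nat_lit 2, nat_lit 0])) (.node (nat_lit 1327) (.leaf ((nat_lit 1009), [nat_lit 2, nat_lit 3, nat_lit 6, nat_lit 2, nat_lit 0, nat_lit 6, nat_lit 3, nat_lit 5, nat_lit 2, nat_lit 0, nat_lit 4, nat_lit 1, nat_lit 0])) (.leaf ((nat_lit 1010), [nat_lit 1, nat_lit 5, nat_lit 6, nat_lit 2, nat_lit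 0, nat_lit 6, nat_lit 5, nat_lit 4, nat_lit 0, nat_lit 5, nat_lit 1, nat_lit 0, nat_lit 1, nat_lit 0])))) (.node (nat_lit 1329) (.leaf ((nat_lit 940), [nat_lit 0, nat_lit 6, nat_lit 0, nat_lit 4, nat_lit 1, nat_lit 6, nat_lit 4, nat_lit 2, nat_lit 0, nat_lit 2, nat_lit 4, nat_lit 2])) (.node (nat_lit 1330) (.leaf ((nat_lit 1011), [nat_lit 0, nat_lit 4, nat_lit 5, nat_lit 6, nat_lit 2, nat_lit 6, nat_lit 4, nat_lit 2, nat_lit 3, nat_lit 0])) (.leaf ((nat_lit 876), [nat_lit 1, nat_lit 3, nat_lit 5, nat_lit 6, nat_lit 2, nat_lit 4, nat_lit 3, nat_lit 2, nat_lit 4, nat_lit 1, nat_lit 0, nat_lit 2]))))))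
 (.node (nat_lit 1336) (.node (nat_lit 1333) (.node (nat_lit 1332) (.leaf ((nat_lit 808), [nat_lit 2, nat_lit 6, nat_lit 2, nat_lit 5, nat_lit 6, nat_lit 3, nat_lit 0, nat_lit 4, nat_lit 0, nat_lit 4, nat_lit 2, nat_lit 3])) (.leaf ((nat_lit 722), [nat_lit 1, nat_lit 6, nat_lit 1, nat_lit 0, nat_lit 6, nat_lit 2, nat_lit 0, nat_lit 4, nat_lit 3, nat_lit 5, nat_lit 1, nat_lit 0]))) (.node (nat_lit 1334) (.leaf ((nat_lit 1012), [nat_lit 2, nat_lit 4, nat_lit 0, nat_lit 6, nat_lit 5, nat_lit 2, nat_lit 5, nat_lit 2, nat_lit 4, nat_lit 2, nat_lit 3])) (.node (nat_lit 1335) (.leaf ((nat_lit 999), [nat_lit 5, nat_lit 6, nat_lit 4, nat_lit 0, nat_lit 6, nat_lit 1, nat_lit 5, nat_lit 4, nat_lit 5, nat_lit 0, nat_lit 2])) (.leaf ((nat_lit 67), [nat_lit 4, nat_lit 5, nat_lit 6, nat_lit 4, nat_lit 5, nat_lit 6, nat_lit 5, nat_lit 1, nat_lit 4, nat_lit 1, nat_lit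 0, nat_lit 4, nat_lit 3, nat_lit 2, nat_lit 0])))))
 (.node (nat_lit 1339) (.node (nat_lit 1337) (.leaf ((nat_lit 911), [nat_lit 5, nat_lit 1, nat_lit 6, nat_lit 5, nat_lit 2, nat_lit 6, nat_lit 1, nat_lit 5, nat_lit 4, nat_lit 5, nat_lit 2, nat_lit 0, nat_lit 2])) (.node (nat_lit 1338) (.leaf ((nat_lit 446), [nat_lit 3, nat_lit 6, nat_lit 2, nat_lit 0, nat_lit 6, nat_lit 5, nat_lit 2, nat_lit 3, nat_lit 4, nat_lit 2, nat_lit 0, nat_lit 1, nat_lit 0])) (.leaf ((nat_lit 1013), [nat_lit 0, nat_lit 6, nat_lit 1, nat_lit 6, nat_lit 0, nat_lit 2, nat_lit 6, nat_lit 4, nat_lit 2, nat_lit 4, nat_lit 0, nat_lit 4, nat_lit 2, nat_lit 0, nat_lit 2])))) (.node (nat_lit 1340) (.leaf ((nat_lit 541), [nat_lit 6, nat_lit 5, nat_lit 1, nat_lit 6, nat_lit 3, nat_lit 1, nat_lit 5, nat_lit 4, nat_lit 2, nat_lit 0])) (.node (nat_lit 1341) (.leaf ((nat_lit 1010), [nat_lit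 2, nat_lit 6, nat_lit 1, nat_lit 4, nat_lit 6, nat_lit 0, nat_lit 2, nat_lit 5, nat_lit 3, nat_lit 4, nat_lit 3, nat_lit 2])) (.leaf ((nat_lit 1014), [nat_lit 6, nat_lit 4, nat_lit 1, nat_lit 6, nat_lit 2, nat_lit 4, nat_lit 5, nat_lit 4, nat_lit 2])))))))
 (.node (nat_lit 1353) (.node (nat_lit 1347) (.node (nat_lit 1344) (.node (nat_lit 1343) (.leaf ((nat_lit 895), [nat_lit 6, nat_lit 1, nat_lit 4, nat_lit 6, nat_lit 1, nat_lit 6, nat_lit 5, nat_lit 2, nat_lit 5, nat_lit 3, nat_lit 4, nat_lit 1, nat_lit 3, nat_lit 1, nat_lit 0])) (.leaf ((nat_lit 524), [nat_lit 1, nat_lit 6, nat_lit 4, nat_lit 3, nat_lit 6, nat_lit 3, nat_lit 4, nat_lit 1, nat_lit 4, nat_lit 1]))) (.node (nat_lit 1345) (.leaf ((nat_lit 1015), [nat_lit 3, nat_lit 0, nat_lit 6, nat_lit 1, nat_lit 6, nat_lit 1, nat_lit 0, nat_lit 2, nat_lit 4, nat_lit 1, nat_lit 0, nat_lit 2, nat_lit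 0])) (.node (nat_lit 1346) (.leaf ((nat_lit 1016), [nat_lit 1, nat_lit 6, nat_lit 1, nat_lit 4, nat_lit 1, nat_lit 6, nat_lit 1, nat_lit 0, nat_lit 4, nat_lit 0])) (.leaf ((nat_lit 1017), [nat_lit 1, nat_lit 6, nat_lit 1, nat_lit 4, nat_lit 3, nat_lit 6, nat_lit 2, nat_lit 3, nat_lit 4, nat_lit 5, nat_lit 1, nat_lit 3, nat_lit 2])))))
 (.node (nat_lit 1350) (.node (nat_lit 1348) (.leaf ((nat_lit 490), [nat_lit 2, nat_lit 6, nat_lit 1, nat_lit 3, nat_lit 6, nat_lit 5, nat_lit 0, nat_lit 2, nat_lit 4, nat_lit 1, nat_lit 0, nat_lit 1, nat_lit 0])) (.node (nat_lit 1349) (.leaf ((nat_lit 10), [nat_lit 3, nat_lit 2, nat_lit 6, nat_lit 4, nat_lit 2, nat_lit 6, nat_lit 3, nat_lit 1, nat_lit 0, nat_lit 4, nat_lit 0, nat_lit 1, nat_lit 0])) (.leaf ((nat_lit 1018), [nat_lit 2, nat_lit 6, nat_lit 5, nat_lit 3, nat_lit 6, nat_lit 3, nat_lit 1, nat_lit 0, nat_lit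 4, nat_lit 3])))) (.node (nat_lit 1351) (.leaf ((nat_lit 636), [nat_lit 3, nat_lit 1, nat_lit 0, nat_lit 6, nat_lit 2, nat_lit 6, nat_lit 3, nat_lit 1, nat_lit 5, nat_lit 3, nat_lit 4, nat_lit 3, nat_lit 1, nat_lit 0])) (.node (nat_lit 1352) (.leaf ((nat_lit 1019), [nat_lit 5, nat_lit 4, nat_lit 6, nat_lit 5, nat_lit 2, nat_lit 6, nat_lit 2, nat_lit 4, nat_lit 1, nat_lit 0, nat_lit 4, nat_lit 2, nat_lit 0, nat_lit 2])) (.leaf ((nat_lit 167), [nat_lit 4, nat_lit 0, nat_lit 5, nat_lit 3, nat_lit 6, nat_lit 4, nat_lit 2, nat_lit 3, nat_lit 2, nat_lit 4, nat_lit 2, nat_lit 3, nat_lit 0]))))))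
 (.node (nat_lit 1358) (.node (nat_lit 1355) (.node (nat_lit 1354) (.leaf ((nat_lit 1020), [nat_lit 4, nat_lit 6, nat_lit 5, nat_lit 2, nat_lit 6, nat_lit 0, nat_lit 1, nat_lit 5, nat_lit 3, nat_lit 0, nat_lit 4, nat_lit 1, nat_lit 0, nat_lit 2, nat_lit 0])) (.leaf ((nat_lit 1021), [nat_lit 0, nat_lit 6, nat_lit 1, nat_lit 4, nat_lit 6, nat_lit 5, nat_lit 1, nat_lit 3, nat_lit 4, nat_lit 3, nat_lit 2, nat_lit 0]))) (.node (nat_lit 1356) (.leaf ((nat_lit 1022), [nat_lit 5, nat_lit 1, nat_lit 6, nat_lit 4, nat_lit 1, nat_lit 6, nat_lit 5, nat_lit 2, nat_lit 5, nat_lit 4, nat_lit 3, nat_lit 1, nat_lit 0])) (.node (nat_lit 1357) (.leaf ((nat_lit 1023), [nat_lit 5, nat_lit 6, nat_lit 3, nat_lit 6, nat_lit 2, nat_lit 6, nat_lit 0, nat_lit 1, nat_lit 4, nat_lit 0, nat_lit 1])) (.leaf ((nat_lit 1024), [nat_lit 3, nat_lit 6, nat_lit 5, nat_lit 4, nat_lit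 6, nat_lit 4, nat_lit 3, nat_lit 2, nat_lit 5, nat_lit 4, nat_lit 0, nat_lit 1])))))
 (.node (nat_lit 1361) (.node (nat_lit 1359) (.leaf ((nat_lit 1025), [nat_lit 0, nat_lit 4, nat_lit 6, nat_lit 2, nat_lit 6, nat_lit 4, nat_lit 2, nat_lit 4, nat_lit 2, nat_lit 3])) (.node (nat_lit 1360) (.leaf ((nat_lit 389), [nat_lit 6, nat_lit 1, nat_lit 4, nat_lit 1, nat_lit 3, nat_lit 6, nat_lit 5, nat_lit 3, nat_lit 0, nat_lit 5, nat_lit 2, nat_lit 3, nat_lit 1, nat_lit 0])) (.leaf ((nat_lit 941), [nat_lit 6, nat_lit 4, nat_lit 1, nat_lit 5, nat_lit 6, nat_lit 3, nat_lit 4, nat_lit 5, nat_lit 0, nat_lit 1])))) (.node (nat_lit 1362) (.leaf ((nat_lit 1026), [nat_lit 4, nat_lit 5, nat_lit 4, nat_lit 6, nat_lit 3, nat_lit 4, nat_lit 2, nat_lit 0, nat_lit 2, nat_lit 4, nat_lit 2, nat_lit 0, nat_lit 2, nat_lit 0])) (.node (nat_lit 1363) (.leaf ((nat_lit 1027), [nat_lit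 4, nat_lit 2, nat_lit 6, nat_lit 2, nat_lit 3, nat_lit 6, nat_lit 5, nat_lit 2, nat_lit 3, nat_lit 2, nat_lit 4, nat_lit 2, nat_lit 0, nat_lit 1, nat_lit 0])) (.leaf ((nat_lit 1028), [nat_lit 0, nat_lit 4, nat_lit 2, nat_lit 6, nat_lit 3, nat_lit 2, nat_lit 6, nat_lit 5, nat_lit 4, nat_lit 3, nat_lit 5, nat_lit 1, nat_lit 3, nat_lit 1, nat_lit 0]))))))))
 (.node (nat_lit 1386) (.node (nat_lit 1375) (.node (nat_lit 1369) (.node (nat_lit 1366) (.node (nat_lit 1365) (.leaf ((nat_lit 733), [nat_lit 6, nat_lit 2, nat_lit 6, nat_lit 1, nat_lit 0, nat_lit 6, nat_lit 4, nat_lit 2, nat_lit 0, nat_lit 5, nat_lit 4, nat_lit 2])) (.leaf ((nat_lit 948), [nat_lit 4, nat_lit 6, nat_lit 4, nat_lit 1, nat_lit 3, nat_lit 6, nat_lit 3, nat_lit 4, nat_lit 1, nat_lit 0, nat_lit 1, nat_lit 0]))) (.node (nat_lit 1367) (.leaf ((nat_lit 710), [nat_lit 2, nat_lit 6, nat_lit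 1, nat_lit 3, nat_lit 6, nat_lit 4, nat_lit 2, nat_lit 4, nat_lit 1, nat_lit 4, nat_lit 2, nat_lit 0, nat_lit 1])) (.node (nat_lit 1368) (.leaf ((nat_lit 1029), [nat_lit 0, nat_lit 1, nat_lit 6, nat_lit 4, nat_lit 1, nat_lit 6, nat_lit 2, nat_lit 0, nat_lit 5, nat_lit 2, nat_lit 0, nat_lit 4, nat_lit 1, nat_lit 3])) (.leaf ((nat_lit 307), [nat_lit 5, nat_lit 6, nat_lit 2, nat_lit 6, nat_lit 5, nat_lit 0, nat_lit 4, nat_lit 0])))))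
 (.node (nat_lit 1372) (.node (nat_lit 1370) (.leaf ((nat_lit 764), [nat_lit 3, nat_lit 5, nat_lit 0, nat_lit 6, nat_lit 1, nat_lit 4, nat_lit 0, nat_lit 2, nat_lit 4, nat_lit 2, nat_lit 3])) (.node (nat_lit 1371) (.leaf ((nat_lit 868), [nat_lit 2, nat_lit 6, nat_lit 4, nat_lit 1, nat_lit 0, nat_lit 6, nat_lit 0, nat_lit 4, nat_lit 0, nat_lit 4, nat_lit 3, nat_lit 1])) (.leaf ((nat_lit 215), [nat_lit 3, nat_lit 2, nat_lit 4, nat_lit 6, nat_lit 1, nat_lit 3, nat_lit 2, nat_lit 4, nat_lit 3, nat_lit 0])))) (.node (nat_lit 1373) (.leaf ((nat_lit 232), [nat_lit 6, nat_lit 0, nat_lit 5, nat_lit 3, nat_lit 6, nat_lit 3, nat_lit 0, nat_lit 4, nat_lit 1, nat_lit 4, nat_lit 2, nat_lit 3, nat_lit 1])) (.node (nat_lit 1374) (.leaf ((nat_lit 1030), [nat_lit 0, nat_lit 4, nat_lit 2, nat_lit 6, nat_lit 1, nat_lit 4, nat_lit 5, nat_lit 1, nat_lit 3, nat_lit 4,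 nat_lit 1, nat_lit 3, nat_lit 2])) (.leaf ((nat_lit 495), [nat_lit 5, nat_lit 6, nat_lit 2, nat_lit 4, nat_lit 2, nat_lit 6, nat_lit 2, nat_lit 3, nat_lit 5, nat_lit 4, nat_lit 1, nat_lit 0, nat_lit 1, nat_lit 0]))))))
 (.node (nat_lit 1380) (.node (nat_lit 1377) (.node (nat_lit 1376) (.leaf ((nat_lit 127), [nat_lit 5, nat_lit 6, nat_lit 2, nat_lit 0, nat_lit 2, nat_lit 6, nat_lit 4, nat_lit 2, nat_lit 0, nat_lit 4, nat_lit 5])) (.leaf ((nat_lit 1031), [nat_lit 3, nat_lit 6, nat_lit 0, nat_lit 1, nat_lit 5, nat_lit 6, nat_lit 4, nat_lit 0, nat_lit 5, nat_lit 0, nat_lit 1]))) (.node (nat_lit 1378) (.leaf ((nat_lit 608), [nat_lit 1, nat_lit 5, nat_lit 6, nat_lit 0, nat_lit 1, nat_lit 6, nat_lit 1, nat_lit 5, nat_lit 3, nat_lit 0, nat_lit 4, nat_lit 2, nat_lit 3, nat_lit 2])) (.node (nat_lit 1379) (.leaf ((nat_lit 1032), [nat_lit 4, nat_lit 0, nat_lit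 6, nat_lit 1, nat_lit 6, nat_lit 1, nat_lit 4, nat_lit 3, nat_lit 2, nat_lit 4, nat_lit 2, nat_lit 0, nat_lit 2, nat_lit 0])) (.leaf ((nat_lit 611), [nat_lit 2, nat_lit 5, nat_lit 6, nat_lit 1, nat_lit 0, nat_lit 6, nat_lit 5, nat_lit 2, nat_lit 4, nat_lit 3, nat_lit 4, nat_lit 1, nat_lit 0, nat_lit 2])))))
 (.node (nat_lit 1383) (.node (nat_lit 1381) (.leaf ((nat_lit 1033), [nat_lit 1, nat_lit 0, nat_lit 4, nat_lit 2, nat_lit 6, nat_lit 4, nat_lit 3, nat_lit 2, nat_lit 0, nat_lit 4, nat_lit 1, nat_lit 0, nat_lit 2])) (.node (nat_lit 1382) (.leaf ((nat_lit 1034), [nat_lit 1, nat_lit 3, nat_lit 6, nat_lit 4, nat_lit 0, nat_lit 6, nat_lit 0, nat_lit 4, nat_lit 0, nat_lit 4, nat_lit 1, nat_lit 3, nat_lit 1])) (.leaf ((nat_lit 1016), [nat_lit 2, nat_lit 4, nat_lit 3, nat_lit 6, nat_lit 5, nat_lit 2, nat_lit 5, nat_lit 2, nat_lit 4, nat_lit 3, nat_lit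 2, nat_lit 0])))) (.node (nat_lit 1384) (.leaf ((nat_lit 1035), [nat_lit 3, nat_lit 2, nat_lit 6, nat_lit 4, nat_lit 0, nat_lit 6, nat_lit 3, nat_lit 2, nat_lit 5, nat_lit 3, nat_lit 4, nat_lit 1, nat_lit 3, nat_lit 0])) (.node (nat_lit 1385) (.leaf ((nat_lit 1036), [nat_lit 2, nat_lit 4, nat_lit 6, nat_lit 1, nat_lit 0, nat_lit 6, nat_lit 4, nat_lit 2, nat_lit 4, nat_lit 0, nat_lit 4, nat_lit 2, nat_lit 0, nat_lit 1])) (.leaf ((nat_lit 1037), [nat_lit 0, nat_lit 6, nat_lit 4, nat_lit 3, nat_lit 6, nat_lit 3, nat_lit 0, nat_lit 5, nat_lit 3, nat_lit 4, nat_lit 1])))))))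
 (.node (nat_lit 1397) (.node (nat_lit 1391) (.node (nat_lit 1388) (.node (nat_lit 1387) (.leaf ((nat_lit 1038), [nat_lit 1, nat_lit 6, nat_lit 2, nat_lit 0, nat_lit 5, nat_lit 4, nat_lit 1, nat_lit 0, nat_lit 1])) (.leaf ((nat_lit 1039), [nat_lit 2, nat_lit 6, nat_lit 2, nat_lit 6, nat_lit 4, nat_lit 5, nat_lit 2, nat_lit 5, nat_lit 0, nat_lit 1]))) (.node (nat_lit 1389) (.leaf ((nat_lit 475), [nat_lit 1, nat_lit 6, nat_lit 1, nat_lit 0, nat_lit 6, nat_lit 5, nat_lit 1, nat_lit 5, nat_lit 3, nat_lit 4, nat_lit 2, nat_lit 0, nat_lit 1])) (.node (nat_lit 1390) (.leaf ((nat_lit 290), [nat_lit 3, nat_lit 6, nat_lit 5, nat_lit 4, nat_lit 6, nat_lit 3, nat_lit 0, nat_lit 4, nat_lit 5, nat_lit 1, nat_lit 3, nat_lit 1, nat_lit 0])) (.leaf ((nat_lit 1040), [nat_lit 5, nat_lit 0, nat_lit 6, nat_lit 2, nat_lit 6, nat_lit 0, nat_lit 4, nat_lit 3, nat_lit 4,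 nat_lit 0, nat_lit 2, nat_lit 0])))))
 (.node (nat_lit 1394) (.node (nat_lit 1392) (.leaf ((nat_lit 818), [nat_lit 1, nat_lit 6, nat_lit 4, nat_lit 3, nat_lit 6, nat_lit 1, nat_lit 4, nat_lit 5, nat_lit 1, nat_lit 3, nat_lit 4, nat_lit 2, nat_lit 3, nat_lit 2, nat_lit 0])) (.node (nat_lit 1393) (.leaf ((nat_lit 1041), [nat_lit 1, nat_lit 3, nat_lit 0, nat_lit 6, nat_lit 5, nat_lit 4, nat_lit 1, nat_lit 0, nat_lit 4, nat_lit 3, nat_lit 0])) (.leaf ((nat_lit 1042), [nat_lit 1, nat_lit 5, nat_lit 6, nat_lit 1, nat_lit 0, nat_lit 6, nat_lit 5, nat_lit 2, nat_lit 5, nat_lit 2, nat_lit 4, nat_lit 1, nat_lit 0, nat_lit 1])))) (.node (nat_lit 1395) (.leaf ((nat_lit 522), [nat_lit 1, nat_lit 6, nat_lit 5, nat_lit 6, nat_lit 3, nat_lit 6, nat_lit 0, nat_lit 2, nat_lit 4, nat_lit 1, nat_lit 4, nat_lit 2, nat_lit 3, nat_lit 2, nat_lit 0])) (.node (nat_lit 1396)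 (.leaf ((nat_lit 1043), [nat_lit 3, nat_lit 6, nat_lit 3, nat_lit 5, nat_lit 0, nat_lit 6, nat_lit 2, nat_lit 0, nat_lit 4, nat_lit 3, nat_lit 5, nat_lit 1, nat_lit 0, nat_lit 2, nat_lit 0])) (.leaf ((nat_lit 1044), [nat_lit 5, nat_lit 2, nat_lit 6, nat_lit 1, nat_lit 0, nat_lit 6, nat_lit 2, nat_lit 4, nat_lit 2, nat_lit 0, nat_lit 4, nat_lit 1, nat_lit 3]))))))
 (.node (nat_lit 1402) (.node (nat_lit 1399) (.node (nat_lit 1398) (.leaf ((nat_lit 1045), [nat_lit 4, nat_lit 1, nat_lit 5, nat_lit 6, nat_lit 4, nat_lit 0, nat_lit 1, nat_lit 4, nat_lit 1, nat_lit 0, nat_lit 2, nat_lit 0])) (.leaf ((nat_lit 974), [nat_lit 1, nat_lit 0, nat_lit 6, nat_lit 2, nat_lit 6, nat_lit 3, nat_lit 4, nat_lit 3, nat_lit 0, nat_lit 4, nat_lit 1, nat_lit 0]))) (.node (nat_lit 1400) (.leaf ((nat_lit 1046), [nat_lit 5, nat_lit 3, nat_lit 4, nat_lit 6, nat_lit 2, nat_lit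 6, nat_lit 0, nat_lit 4, nat_lit 2, nat_lit 0, nat_lit 4, nat_lit 2, nat_lit 0, nat_lit 2, nat_lit 0])) (.node (nat_lit 1401) (.leaf ((nat_lit 1047), [nat_lit 5, nat_lit 6, nat_lit 4, nat_lit 5, nat_lit 6, nat_lit 1, nat_lit 4, nat_lit 1, nat_lit 0, nat_lit 4])) (.leaf ((nat_lit 1048), [nat_lit 3, nat_lit 6, nat_lit 4, nat_lit 1, nat_lit 6, nat_lit 1, nat_lit 3, nat_lit 2, nat_lit 0, nat_lit 4, nat_lit 2, nat_lit 0, nat_lit 1, nat_lit 0])))))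
 (.node (nat_lit 1405) (.node (nat_lit 1403) (.leaf ((nat_lit 1049), [nat_lit 2, nat_lit 5, nat_lit 6, nat_lit 0, nat_lit 1, nat_lit 6, nat_lit 1, nat_lit 5, nat_lit 2, nat_lit 0, nat_lit 4, nat_lit 2, nat_lit 0, nat_lit 1, nat_lit 0])) (.node (nat_lit 1404) (.leaf ((nat_lit 835), [nat_lit 4, nat_lit 5, nat_lit 6, nat_lit 2, nat_lit 0, nat_lit 6, nat_lit 2, nat_lit 4, nat_lit 5, nat_lit 4, nat_lit 0, nat_lit 2])) (.leaf ((nat_lit 1050), [nat_lit 6, nat_lit 1, nat_lit 4, nat_lit 3, nat_lit 6, nat_lit 1, nat_lit 0, nat_lit 5, nat_lit 2, nat_lit 4, nat_lit 1, nat_lit 3, nat_lit 1])))) (.node (nat_lit 1406) (.leaf ((nat_lit 610), [nat_lit 1, nat_lit 5, nat_lit 6, nat_lit 1, nat_lit 0, nat_lit 6, nat_lit 5, nat_lit 3, nat_lit 4, nat_lit 1, nat_lit 3, nat_lit 4, nat_lit 3, nat_lit 0])) (.node (nat_lit 1407) (.leaf ((nat_lit 279), [nat_lit 0, nat_lit 6,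 nat_lit 3, nat_lit 4, nat_lit 1, nat_lit 6, nat_lit 4, nat_lit 5, nat_lit 4, nat_lit 5, nat_lit 2, nat_lit 3, nat_lit 0])) (.leaf ((nat_lit 1051), [nat_lit 3, nat_lit 6, nat_lit 5, nat_lit 1, nat_lit 6, nat_lit 3, nat_lit 0, nat_lit 5, nat_lit 4, nat_lit 2, nat_lit 0]))))))))))
noncomputable def rWd_8 : Tr (ℕ × List ℕ) := (.node (nat_lit 1496) (.node (nat_lit 1452) (.node (nat_lit 1430) (.node (nat_lit 1419) (.node (nat_lit 1413) (.node (nat_lit 1410) (.node (nat_lit 1409) (.leaf ((nat_lit 1052), [nat_lit 0, nat_lit 5, nat_lit 1, nat_lit 6, nat_lit 2, nat_lit 6, nat_lit 4, nat_lit 0, nat_lit 1, nat_lit 4, nat_lit 2, nat_lit 3])) (.leaf ((nat_lit 889), [nat_lit 6, nat_lit 1, nat_lit 3, nat_lit 6, nat_lit 4, nat_lit 5, nat_lit 1, nat_lit 5, nat_lit 4, nat_lit 2, nat_lit 3, nat_lit 1, nat_lit 0]))) (.node (nat_lit 1411) (.leaf ((nat_lit 252), [nat_lit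 6, nat_lit 2, nat_lit 6, nat_lit 2, nat_lit 3, nat_lit 6, nat_lit 1, nat_lit 4, nat_lit 0, nat_lit 2, nat_lit 4, nat_lit 2, nat_lit 0, nat_lit 1, nat_lit 0])) (.node (nat_lit 1412) (.leaf ((nat_lit 882), [nat_lit 3, nat_lit 4, nat_lit 1, nat_lit 6, nat_lit 4, nat_lit 1, nat_lit 5, nat_lit 3, nat_lit 1, nat_lit 0])) (.leaf ((nat_lit 1053), [nat_lit 4, nat_lit 6, nat_lit 5, nat_lit 1, nat_lit 3, nat_lit 6, nat_lit 4, nat_lit 2, nat_lit 5, nat_lit 2, nat_lit 0, nat_lit 1, nat_lit 0])))))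
 (.node (nat_lit 1416) (.node (nat_lit 1414) (.leaf ((nat_lit 902), [nat_lit 6, nat_lit 3, nat_lit 2, nat_lit 5, nat_lit 6, nat_lit 2, nat_lit 0, nat_lit 5, nat_lit 2, nat_lit 0, nat_lit 4, nat_lit 3, nat_lit 0])) (.node (nat_lit 1415) (.leaf ((nat_lit 425), [nat_lit 3, nat_lit 5, nat_lit 0, nat_lit 6, nat_lit 3, nat_lit 4, nat_lit 1, nat_lit 4, nat_lit 1, nat_lit 3, nat_lit 1, nat_lit 0])) (.leaf ((nat_lit 899), [nat_lit 2, nat_lit 5, nat_lit 6, nat_lit 5, nat_lit 2, nat_lit 6, nat_lit 0, nat_lit 2, nat_lit 4, nat_lit 2, nat_lit 4, nat_lit 2, nat_lit 3, nat_lit 0])))) (.node (nat_lit 1417) (.leaf ((nat_lit 785), [nat_lit 0, nat_lit 6, nat_lit 3, nat_lit 5, nat_lit 0, nat_lit 6, nat_lit 4, nat_lit 3, nat_lit 4, nat_lit 0, nat_lit 5, nat_lit 2, nat_lit 3, nat_lit 2, nat_lit 0])) (.node (nat_lit 1418) (.leaf ((nat_lit 1054), [nat_lit 4, nat_lit 5,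 nat_lit 6, nat_lit 2, nat_lit 6, nat_lit 0, nat_lit 1, nat_lit 4, nat_lit 1, nat_lit 5, nat_lit 1])) (.leaf ((nat_lit 690), [nat_lit 4, nat_lit 5, nat_lit 0, nat_lit 6, nat_lit 2, nat_lit 6, nat_lit 1, nat_lit 3, nat_lit 2, nat_lit 0, nat_lit 4, nat_lit 2, nat_lit 3, nat_lit 2]))))))
 (.node (nat_lit 1424) (.node (nat_lit 1421) (.node (nat_lit 1420) (.leaf ((nat_lit 137), [nat_lit 0, nat_lit 4, nat_lit 2, nat_lit 6, nat_lit 2, nat_lit 5, nat_lit 3, nat_lit 5, nat_lit 4, nat_lit 2])) (.leaf ((nat_lit 780), [nat_lit 5, nat_lit 6, nat_lit 4, nat_lit 1, nat_lit 6, nat_lit 5, nat_lit 2, nat_lit 3, nat_lit 4, nat_lit 2, nat_lit 3, nat_lit 1, nat_lit 0]))) (.node (nat_lit 1422) (.leaf ((nat_lit 742), [nat_lit 6, nat_lit 4, nat_lit 3, nat_lit 6, nat_lit 3, nat_lit 5, nat_lit 1, nat_lit 5, nat_lit 1, nat_lit 3])) (.node (nat_lit 1423) (.leaf ((nat_lit 370),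 [nat_lit 2, nat_lit 6, nat_lit 3, nat_lit 0, nat_lit 6, nat_lit 1, nat_lit 4, nat_lit 1, nat_lit 5, nat_lit 1, nat_lit 3, nat_lit 0])) (.leaf ((nat_lit 1055), [nat_lit 6, nat_lit 3, nat_lit 0, nat_lit 4, nat_lit 6, nat_lit 1, nat_lit 4, nat_lit 5, nat_lit 3, nat_lit 2])))))
 (.node (nat_lit 1427) (.node (nat_lit 1425) (.leaf ((nat_lit 1056), [nat_lit 4, nat_lit 3, nat_lit 6, nat_lit 2, nat_lit 6, nat_lit 5, nat_lit 0, nat_lit 4, nat_lit 1, nat_lit 4, nat_lit 3])) (.node (nat_lit 1426) (.leaf ((nat_lit 886), [nat_lit 2, nat_lit 0, nat_lit 2, nat_lit 6, nat_lit 4, nat_lit 3, nat_lit 4, nat_lit 0, nat_lit 5, nat_lit 2, nat_lit 0, nat_lit 1, nat_lit 0])) (.leaf ((nat_lit 716), [nat_lit 6, nat_lit 1, nat_lit 3, nat_lit 5, nat_lit 6, nat_lit 1, nat_lit 0, nat_lit 4, nat_lit 5, nat_lit 2, nat_lit 3, nat_lit 2])))) (.node (nat_lit 1428) (.leaf ((nat_lit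 1057), [nat_lit 2, nat_lit 6, nat_lit 3, nat_lit 0, nat_lit 6, nat_lit 2, nat_lit 3, nat_lit 2, nat_lit 4, nat_lit 1, nat_lit 0, nat_lit 1])) (.node (nat_lit 1429) (.leaf ((nat_lit 925), [nat_lit 5, nat_lit 4, nat_lit 6, nat_lit 4, nat_lit 2, nat_lit 6, nat_lit 2, nat_lit 4, nat_lit 3, nat_lit 4, nat_lit 2, nat_lit 0, nat_lit 2])) (.leaf ((nat_lit 284), [nat_lit 0, nat_lit 6, nat_lit 1, nat_lit 6, nat_lit 0, nat_lit 2, nat_lit 6, nat_lit 4, nat_lit 0, nat_lit 4, nat_lit 0, nat_lit 2, nat_lit 0])))))))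
 (.node (nat_lit 1441) (.node (nat_lit 1435) (.node (nat_lit 1432) (.node (nat_lit 1431) (.leaf ((nat_lit 806), [nat_lit 4, nat_lit 6, nat_lit 0, nat_lit 1, nat_lit 6, nat_lit 2, nat_lit 0, nat_lit 2, nat_lit 0, nat_lit 4, nat_lit 3])) (.leaf ((nat_lit 1058), [nat_lit 6, nat_lit 3, nat_lit 6, nat_lit 5, nat_lit 2, nat_lit 5, nat_lit 4, nat_lit 1, nat_lit 3, nat_lit 2, nat_lit 0]))) (.node (nat_lit 1433) (.leaf ((nat_lit 1059), [nat_lit 2, nat_lit 6, nat_lit 5, nat_lit 1, nat_lit 6, nat_lit 1, nat_lit 3, nat_lit 4, nat_lit 2, nat_lit 4, nat_lit 1, nat_lit 0, nat_lit 2])) (.node (nat_lit 1434) (.leaf ((nat_lit 965), [nat_lit 5, nat_lit 3, nat_lit 6, nat_lit 4, nat_lit 3, nat_lit 6, nat_lit 1, nat_lit 0, nat_lit 4, nat_lit 0, nat_lit 4, nat_lit 1, nat_lit 0, nat_lit 2, nat_lit 0])) (.leaf ((nat_lit 1060), [nat_lit 6, nat_lit 2, nat_lit 6, nat_lit 2,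 nat_lit 3, nat_lit 6, nat_lit 5, nat_lit 2, nat_lit 5, nat_lit 4, nat_lit 5, nat_lit 1, nat_lit 0, nat_lit 1, nat_lit 0])))))
 (.node (nat_lit 1438) (.node (nat_lit 1436) (.leaf ((nat_lit 1061), [nat_lit 5, nat_lit 6, nat_lit 2, nat_lit 3, nat_lit 6, nat_lit 4, nat_lit 2, nat_lit 3, nat_lit 0, nat_lit 4, nat_lit 2, nat_lit 3, nat_lit 2, nat_lit 0])) (.node (nat_lit 1437) (.leaf ((nat_lit 1062), [nat_lit 0, nat_lit 6, nat_lit 2, nat_lit 6, nat_lit 4, nat_lit 3, nat_lit 1, nat_lit 5, nat_lit 4, nat_lit 2])) (.leaf ((nat_lit 1063), [nat_lit 2, nat_lit 6, nat_lit 3, nat_lit 0, nat_lit 4, nat_lit 6, nat_lit 3, nat_lit 4, nat_lit 1, nat_lit 5, nat_lit 1, nat_lit 3])))) (.node (nat_lit 1439) (.leaf ((nat_lit 1064), [nat_lit 3, nat_lit 4, nat_lit 6, nat_lit 1, nat_lit 3, nat_lit 2, nat_lit 4, nat_lit 1, nat_lit 3, nat_lit 2, nat_lit 0])) (.node (nat_lit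 1440) (.leaf ((nat_lit 393), [nat_lit 2, nat_lit 6, nat_lit 2, nat_lit 3, nat_lit 5, nat_lit 4, nat_lit 1, nat_lit 3, nat_lit 2])) (.leaf ((nat_lit 1065), [nat_lit 6, nat_lit 2, nat_lit 5, nat_lit 6, nat_lit 2, nat_lit 6, nat_lit 5, nat_lit 2, nat_lit 3, nat_lit 2, nat_lit 4, nat_lit 0, nat_lit 1]))))))
 (.node (nat_lit 1446) (.node (nat_lit 1443) (.node (nat_lit 1442) (.leaf ((nat_lit 1066), [nat_lit 4, nat_lit 6, nat_lit 5, nat_lit 2, nat_lit 0, nat_lit 6, nat_lit 1, nat_lit 4, nat_lit 1, nat_lit 4, nat_lit 2, nat_lit 0])) (.leaf ((nat_lit 405), [nat_lit 4, nat_lit 2, nat_lit 6, nat_lit 4, nat_lit 2, nat_lit 6, nat_lit 3, nat_lit 4, nat_lit 3, nat_lit 0, nat_lit 4, nat_lit 1, nat_lit 0, nat_lit 1, nat_lit 0]))) (.node (nat_lit 1444) (.leaf ((nat_lit 1067), [nat_lit 4, nat_lit 2, nat_lit 6, nat_lit 2, nat_lit 3, nat_lit 6, nat_lit 2, nat_lit 3,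 nat_lit 0, nat_lit 4, nat_lit 0, nat_lit 2, nat_lit 0])) (.node (nat_lit 1445) (.leaf ((nat_lit 1068), [nat_lit 2, nat_lit 3, nat_lit 6, nat_lit 2, nat_lit 6, nat_lit 5, nat_lit 4, nat_lit 3, nat_lit 5, nat_lit 2, nat_lit 0, nat_lit 1])) (.leaf ((nat_lit 1069), [nat_lit 1, nat_lit 4, nat_lit 6, nat_lit 5, nat_lit 1, nat_lit 6, nat_lit 3, nat_lit 5, nat_lit 2, nat_lit 4, nat_lit 1])))))
 (.node (nat_lit 1449) (.node (nat_lit 1447) (.leaf ((nat_lit 1070), [nat_lit 2, nat_lit 4, nat_lit 6, nat_lit 0, nat_lit 2, nat_lit 4, nat_lit 2, nat_lit 4, nat_lit 3])) (.node (nat_lit 1448) (.leaf ((nat_lit 504), [nat_lit 2, nat_lit 4, nat_lit 2, nat_lit 6, nat_lit 0, nat_lit 4, nat_lit 0, nat_lit 5, nat_lit 1, nat_lit 3, nat_lit 2])) (.leaf ((nat_lit 1071), [nat_lit 0, nat_lit 5, nat_lit 2, nat_lit 6, nat_lit 2, nat_lit 6, nat_lit 5, nat_lit 1, nat_lit 4, nat_lit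 3, nat_lit 5, nat_lit 0, nat_lit 1, nat_lit 0])))) (.node (nat_lit 1450) (.leaf ((nat_lit 1072), [nat_lit 0, nat_lit 6, nat_lit 2, nat_lit 4, nat_lit 2, nat_lit 6, nat_lit 1, nat_lit 0, nat_lit 5, nat_lit 2, nat_lit 4, nat_lit 2])) (.node (nat_lit 1451) (.leaf ((nat_lit 1073), [nat_lit 1, nat_lit 5, nat_lit 6, nat_lit 3, nat_lit 2, nat_lit 6, nat_lit 4, nat_lit 2, nat_lit 4, nat_lit 1, nat_lit 3, nat_lit 2, nat_lit 0])) (.leaf ((nat_lit 1074), [nat_lit 1, nat_lit 4, nat_lit 6, nat_lit 4, nat_lit 2, nat_lit 6, nat_lit 5, nat_lit 1, nat_lit 3, nat_lit 0, nat_lit 4, nat_lit 1, nat_lit 3]))))))))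
 (.node (nat_lit 1474) (.node (nat_lit 1463) (.node (nat_lit 1457) (.node (nat_lit 1454) (.node (nat_lit 1453) (.leaf ((nat_lit 979), [nat_lit 5, nat_lit 2, nat_lit 4, nat_lit 6, nat_lit 1, nat_lit 0, nat_lit 6, nat_lit 0, nat_lit 1, nat_lit 5, nat_lit 4, nat_lit 2, nat_lit 3, nat_lit 1])) (.leaf ((nat_lit 1075), [nat_lit 5, nat_lit 0, nat_lit 4, nat_lit 6, nat_lit 2, nat_lit 6, nat_lit 3, nat_lit 4, nat_lit 2, nat_lit 0, nat_lit 2, nat_lit 4, nat_lit 2, nat_lit 0, nat_lit 2, nat_lit 0]))) (.node (nat_lit 1455) (.leaf ((nat_lit 1076), [nat_lit 6, nat_lit 2, nat_lit 6, nat_lit 3, nat_lit 2, nat_lit 6, nat_lit 0, nat_lit 2, nat_lit 5, nat_lit 3, nat_lit 4, nat_lit 1, nat_lit 0, nat_lit 1])) (.node (nat_lit 1456) (.leaf ((nat_lit 931), [nat_lit 5, nat_lit 2, nat_lit 6, nat_lit 0, nat_lit 4, nat_lit 6, nat_lit 1, nat_lit 5, nat_lit 1, nat_lit 4, nat_lit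 1, nat_lit 3])) (.leaf ((nat_lit 1077), [nat_lit 4, nat_lit 6, nat_lit 4, nat_lit 1, nat_lit 6, nat_lit 4, nat_lit 1, nat_lit 5, nat_lit 1, nat_lit 3, nat_lit 1, nat_lit 0])))))
 (.node (nat_lit 1460) (.node (nat_lit 1458) (.leaf ((nat_lit 878), [nat_lit 6, nat_lit 5, nat_lit 2, nat_lit 0, nat_lit 2, nat_lit 6, nat_lit 4, nat_lit 1, nat_lit 3, nat_lit 0, nat_lit 4, nat_lit 2, nat_lit 3, nat_lit 2])) (.node (nat_lit 1459) (.leaf ((nat_lit 1078), [nat_lit 5, nat_lit 6, nat_lit 5, nat_lit 2, nat_lit 0, nat_lit 6, nat_lit 5, nat_lit 2, nat_lit 0, nat_lit 5, nat_lit 4, nat_lit 2, nat_lit 3, nat_lit 1, nat_lit 0])) (.leaf ((nat_lit 786), [nat_lit 1, nat_lit 4, nat_lit 6, nat_lit 2, nat_lit 3, nat_lit 6, nat_lit 3, nat_lit 4, nat_lit 2, nat_lit 4, nat_lit 2, nat_lit 3, nat_lit 0])))) (.node (nat_lit 1461) (.leaf ((nat_lit 1079), [nat_lit 3, nat_lit 6, nat_lit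 0, nat_lit 2, nat_lit 6, nat_lit 1, nat_lit 4, nat_lit 3, nat_lit 0, nat_lit 4, nat_lit 2])) (.node (nat_lit 1462) (.leaf ((nat_lit 494), [nat_lit 1, nat_lit 5, nat_lit 6, nat_lit 4, nat_lit 2, nat_lit 0, nat_lit 6, nat_lit 4, nat_lit 0, nat_lit 4, nat_lit 5, nat_lit 4, nat_lit 1])) (.leaf ((nat_lit 674), [nat_lit 4, nat_lit 5, nat_lit 6, nat_lit 1, nat_lit 6, nat_lit 5, nat_lit 4, nat_lit 0, nat_lit 2, nat_lit 4]))))))
 (.node (nat_lit 1468) (.node (nat_lit 1465) (.node (nat_lit 1464) (.leaf ((nat_lit 1080), [nat_lit 0, nat_lit 6, nat_lit 5, nat_lit 2, nat_lit 4, nat_lit 6, nat_lit 5, nat_lit 3, nat_lit 0, nat_lit 4, nat_lit 0, nat_lit 2])) (.leaf ((nat_lit 0), [nat_lit 1, nat_lit 5, nat_lit 6, nat_lit 1, nat_lit 0, nat_lit 6, nat_lit 3, nat_lit 4, nat_lit 1, nat_lit 4, nat_lit 2, nat_lit 3]))) (.node (nat_lit 1466) (.leaf ((nat_lit 1081), [nat_lit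 0, nat_lit 1, nat_lit 4, nat_lit 6, nat_lit 2, nat_lit 0, nat_lit 5, nat_lit 2, nat_lit 0, nat_lit 4, nat_lit 2, nat_lit 3, nat_lit 2, nat_lit 0])) (.node (nat_lit 1467) (.leaf ((nat_lit 802), [nat_lit 4, nat_lit 5, nat_lit 6, nat_lit 2, nat_lit 6, nat_lit 5, nat_lit 2, nat_lit 0, nat_lit 5, nat_lit 1, nat_lit 3, nat_lit 2, nat_lit 0])) (.leaf ((nat_lit 1082), [nat_lit 6, nat_lit 3, nat_lit 5, nat_lit 6, nat_lit 5, nat_lit 4, nat_lit 2, nat_lit 3, nat_lit 4, nat_lit 2, nat_lit 0, nat_lit 2])))))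
 (.node (nat_lit 1471) (.node (nat_lit 1469) (.leaf ((nat_lit 991), [nat_lit 4, nat_lit 6, nat_lit 2, nat_lit 5, nat_lit 6, nat_lit 5, nat_lit 1, nat_lit 4, nat_lit 3, nat_lit 5, nat_lit 2, nat_lit 3, nat_lit 2])) (.node (nat_lit 1470) (.leaf ((nat_lit 1083), [nat_lit 2, nat_lit 0, nat_lit 6, nat_lit 2, nat_lit 6, nat_lit 4, nat_lit 2, nat_lit 3, nat_lit 0, nat_lit 4, nat_lit 2, nat_lit 0, nat_lit 2, nat_lit 0])) (.leaf ((nat_lit 1084), [nat_lit 6, nat_lit 4, nat_lit 0, nat_lit 6, nat_lit 3, nat_lit 4, nat_lit 0, nat_lit 5, nat_lit 1, nat_lit 0])))) (.node (nat_lit 1472) (.leaf ((nat_lit 528), [nat_lit 2, nat_lit 6, nat_lit 3, nat_lit 2, nat_lit 6, nat_lit 1, nat_lit 5, nat_lit 2, nat_lit 5, nat_lit 2, nat_lit 3, nat_lit 2])) (.node (nat_lit 1473) (.leaf ((nat_lit 906), [nat_lit 0, nat_lit 6, nat_lit 5, nat_lit 2, nat_lit 6, nat_lit 4, nat_lit 1,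 nat_lit 0, nat_lit 4, nat_lit 1, nat_lit 0, nat_lit 1, nat_lit 0])) (.leaf ((nat_lit 29), [nat_lit 0, nat_lit 6, nat_lit 0, nat_lit 1, nat_lit 5, nat_lit 6, nat_lit 3, nat_lit 4, nat_lit 2, nat_lit 0, nat_lit 2, nat_lit 0])))))))
 (.node (nat_lit 1485) (.node (nat_lit 1479) (.node (nat_lit 1476) (.node (nat_lit 1475) (.leaf ((nat_lit 962), [nat_lit 3, nat_lit 6, nat_lit 1, nat_lit 6, nat_lit 4, nat_lit 5, nat_lit 1, nat_lit 4, nat_lit 1, nat_lit 3, nat_lit 2])) (.leaf ((nat_lit 800), [nat_lit 4, nat_lit 5, nat_lit 6, nat_lit 4, nat_lit 1, nat_lit 0, nat_lit 6, nat_lit 5, nat_lit 2, nat_lit 4, nat_lit 3, nat_lit 4, nat_lit 3, nat_lit 2, nat_lit 0]))) (.node (nat_lit 1477) (.leaf ((nat_lit 1085), [nat_lit 6, nat_lit 5, nat_lit 6, nat_lit 3, nat_lit 0, nat_lit 6, nat_lit 3, nat_lit 5, nat_lit 2, nat_lit 4, nat_lit 2, nat_lit 3, nat_lit 2])) (.node (nat_lit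 1478) (.leaf ((nat_lit 1086), [nat_lit 2, nat_lit 6, nat_lit 2, nat_lit 4, nat_lit 2, nat_lit 6, nat_lit 1, nat_lit 0, nat_lit 5, nat_lit 2, nat_lit 4, nat_lit 1, nat_lit 3, nat_lit 1, nat_lit 0])) (.leaf ((nat_lit 352), [nat_lit 6, nat_lit 1, nat_lit 4, nat_lit 6, nat_lit 1, nat_lit 3, nat_lit 4, nat_lit 2, nat_lit 4, nat_lit 3, nat_lit 1, nat_lit 0])))))
 (.node (nat_lit 1482) (.node (nat_lit 1480) (.leaf ((nat_lit 561), [nat_lit 5, nat_lit 6, nat_lit 3, nat_lit 5, nat_lit 6, nat_lit 2, nat_lit 0, nat_lit 5, nat_lit 0, nat_lit 1])) (.node (nat_lit 1481) (.leaf ((nat_lit 639), [nat_lit 3, nat_lit 5, nat_lit 0, nat_lit 6, nat_lit 2, nat_lit 0, nat_lit 4, nat_lit 5, nat_lit 1, nat_lit 0, nat_lit 1])) (.leaf ((nat_lit 1087), [nat_lit 6, nat_lit 2, nat_lit 4, nat_lit 0, nat_lit 6, nat_lit 1, nat_lit 4, nat_lit 1, nat_lit 5, nat_lit 0, nat_lit 1]))))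 (.node (nat_lit 1483) (.leaf ((nat_lit 1088), [nat_lit 6, nat_lit 4, nat_lit 0, nat_lit 5, nat_lit 3, nat_lit 6, nat_lit 4, nat_lit 0, nat_lit 4, nat_lit 1, nat_lit 4, nat_lit 2, nat_lit 0, nat_lit 1])) (.node (nat_lit 1484) (.leaf ((nat_lit 37), [nat_lit 0, nat_lit 6, nat_lit 4, nat_lit 3, nat_lit 6, nat_lit 4, nat_lit 5, nat_lit 1, nat_lit 3, nat_lit 0, nat_lit 4, nat_lit 1, nat_lit 0, nat_lit 2, nat_lit 0])) (.leaf ((nat_lit 1089), [nat_lit 6, nat_lit 3, nat_lit 2, nat_lit 5, nat_lit 6, nat_lit 4, nat_lit 5, nat_lit 1, nat_lit 3, nat_lit 4, nat_lit 2, nat_lit 0, nat_lit 1, nat_lit 0]))))))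
 (.node (nat_lit 1490) (.node (nat_lit 1487) (.node (nat_lit 1486) (.leaf ((nat_lit 1090), [nat_lit 0, nat_lit 6, nat_lit 5, nat_lit 2, nat_lit 6, nat_lit 0, nat_lit 4, nat_lit 0, nat_lit 5, nat_lit 1, nat_lit 0, nat_lit 1, nat_lit 0])) (.leaf ((nat_lit 1091), [nat_lit 6, nat_lit 4, nat_lit 0, nat_lit 6, nat_lit 1, nat_lit 6, nat_lit 0, nat_lit 1, nat_lit 4, nat_lit 1, nat_lit 5, nat_lit 0, nat_lit 1]))) (.node (nat_lit 1488) (.leaf ((nat_lit 1092), [nat_lit 0, nat_lit 5, nat_lit 4, nat_lit 6, nat_lit 1, nat_lit 6, nat_lit 4, nat_lit 5, nat_lit 1, nat_lit 5, nat_lit 4, nat_lit 1, nat_lit 3, nat_lit 1, nat_lit 0])) (.node (nat_lit 1489) (.leaf ((nat_lit 751), [nat_lit 3, nat_lit 0, nat_lit 6, nat_lit 5, nat_lit 2, nat_lit 6, nat_lit 2, nat_lit 0, nat_lit 5, nat_lit 2, nat_lit 4, nat_lit 2])) (.leaf ((nat_lit 492), [nat_lit 5, nat_lit 6, nat_lit 4,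 nat_lit 3, nat_lit 6, nat_lit 2, nat_lit 3, nat_lit 4, nat_lit 5, nat_lit 1, nat_lit 0, nat_lit 2, nat_lit 0])))))
 (.node (nat_lit 1493) (.node (nat_lit 1491) (.leaf ((nat_lit 1022), [nat_lit 2, nat_lit 3, nat_lit 6, nat_lit 0, nat_lit 1, nat_lit 5, nat_lit 3, nat_lit 0, nat_lit 4, nat_lit 2])) (.node (nat_lit 1492) (.leaf ((nat_lit 1093), [nat_lit 0, nat_lit 1, nat_lit 5, nat_lit 6, nat_lit 2, nat_lit 6, nat_lit 3, nat_lit 2, nat_lit 4, nat_lit 2, nat_lit 0, nat_lit 4, nat_lit 2, nat_lit 3])) (.leaf ((nat_lit 335), [nat_lit 3, nat_lit 2, nat_lit 6, nat_lit 5, nat_lit 0, nat_lit 4, nat_lit 5, nat_lit 4, nat_lit 3, nat_lit 0])))) (.node (nat_lit 1494) (.leaf ((nat_lit 152), [nat_lit 5, nat_lit 4, nat_lit 2, nat_lit 0, nat_lit 6, nat_lit 2, nat_lit 4, nat_lit 3, nat_lit 4, nat_lit 2, nat_lit 3, nat_lit 0])) (.node (nat_lit 1495) (.leaf ((nat_lit 1094),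 [nat_lit 6, nat_lit 1, nat_lit 6, nat_lit 0, nat_lit 1, nat_lit 0, nat_lit 4, nat_lit 1, nat_lit 3, nat_lit 2])) (.leaf ((nat_lit 414), [nat_lit 0, nat_lit 1, nat_lit 6, nat_lit 0, nat_lit 4, nat_lit 6, nat_lit 2, nat_lit 5, nat_lit 1, nat_lit 5, nat_lit 4, nat_lit 1])))))))))
 (.node (nat_lit 1540) (.node (nat_lit 1518) (.node (nat_lit 1507) (.node (nat_lit 1501) (.node (nat_lit 1498) (.node (nat_lit 1497) (.leaf ((nat_lit 16), [nat_lit 4, nat_lit 5, nat_lit 6, nat_lit 0, nat_lit 5, nat_lit 3, nat_lit 2])) (.leaf ((nat_lit 1095), [nat_lit 6, nat_lit 2, nat_lit 6, nat_lit 1, nat_lit 4, nat_lit 6, nat_lit 2, nat_lit 3, nat_lit 0, nat_lit 4, nat_lit 2, nat_lit 0, nat_lit 2]))) (.node (nat_lit 1499) (.leaf ((nat_lit 1096), [nat_lit 3, nat_lit 2, nat_lit 6, nat_lit 2, nat_lit 6, nat_lit 5, nat_lit 2, nat_lit 5, nat_lit 0, nat_lit 4, nat_lit 1, nat_lit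 3, nat_lit 1])) (.node (nat_lit 1500) (.leaf ((nat_lit 318), [nat_lit 4, nat_lit 1, nat_lit 6, nat_lit 0, nat_lit 5, nat_lit 3, nat_lit 0, nat_lit 4, nat_lit 0, nat_lit 1, nat_lit 0])) (.leaf ((nat_lit 505), [nat_lit 0, nat_lit 6, nat_lit 2, nat_lit 6, nat_lit 4, nat_lit 0, nat_lit 6, nat_lit 5, nat_lit 4, nat_lit 5, nat_lit 1, nat_lit 5, nat_lit 3])))))
 (.node (nat_lit 1504) (.node (nat_lit 1502) (.leaf ((nat_lit 1097), [nat_lit 1, nat_lit 6, nat_lit 4, nat_lit 3, nat_lit 6, nat_lit 5, nat_lit 4, nat_lit 2, nat_lit 3, nat_lit 4, nat_lit 1, nat_lit 0, nat_lit 1, nat_lit 0])) (.node (nat_lit 1503) (.leaf ((nat_lit 1080), [nat_lit 5, nat_lit 2, nat_lit 5, nat_lit 6, nat_lit 1, nat_lit 6, nat_lit 3, nat_lit 2, nat_lit 4, nat_lit 2, nat_lit 0, nat_lit 4, nat_lit 2, nat_lit 0])) (.leaf ((nat_lit 322), [nat_lit 0, nat_lit 5, nat_lit 6, nat_lit 2, nat_lit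 6, nat_lit 4, nat_lit 0, nat_lit 5, nat_lit 3, nat_lit 0])))) (.node (nat_lit 1505) (.leaf ((nat_lit 798), [nat_lit 3, nat_lit 5, nat_lit 6, nat_lit 5, nat_lit 2, nat_lit 6, nat_lit 4, nat_lit 1, nat_lit 5, nat_lit 2, nat_lit 5, nat_lit 1, nat_lit 0, nat_lit 1, nat_lit 0])) (.node (nat_lit 1506) (.leaf ((nat_lit 874), [nat_lit 1, nat_lit 4, nat_lit 6, nat_lit 4, nat_lit 2, nat_lit 6, nat_lit 4, nat_lit 3, nat_lit 4, nat_lit 1, nat_lit 4, nat_lit 1, nat_lit 3, nat_lit 2, nat_lit 0])) (.leaf ((nat_lit 1029), [nat_lit 3, nat_lit 6, nat_lit 2, nat_lit 4, nat_lit 2, nat_lit 6, nat_lit 0, nat_lit 5, nat_lit 4, nat_lit 2]))))))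
 (.node (nat_lit 1512) (.node (nat_lit 1509) (.node (nat_lit 1508) (.leaf ((nat_lit 621), [nat_lit 3, nat_lit 5, nat_lit 0, nat_lit 6, nat_lit 2, nat_lit 4, nat_lit 3, nat_lit 0, nat_lit 4, nat_lit 1, nat_lit 0, nat_lit 2, nat_lit 0])) (.leaf ((nat_lit 42), [nat_lit 6, nat_lit 5, nat_lit 2, nat_lit 0, nat_lit 6, nat_lit 5, nat_lit 1, nat_lit 4, nat_lit 5, nat_lit 0, nat_lit 4, nat_lit 1, nat_lit 3, nat_lit 2, nat_lit 0]))) (.node (nat_lit 1510) (.leaf ((nat_lit 353), [nat_lit 2, nat_lit 4, nat_lit 1, nat_lit 6, nat_lit 2, nat_lit 5, nat_lit 3, nat_lit 4, nat_lit 0, nat_lit 1, nat_lit 0])) (.node (nat_lit 1511) (.leaf ((nat_lit 1098), [nat_lit 2, nat_lit 6, nat_lit 2, nat_lit 4, nat_lit 6, nat_lit 4, nat_lit 0, nat_lit 2, nat_lit 5, nat_lit 2, nat_lit 3, nat_lit 0])) (.leaf ((nat_lit 970), [nat_lit 6, nat_lit 2, nat_lit 6, nat_lit 4, nat_lit 0, nat_lit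 6, nat_lit 2, nat_lit 4, nat_lit 0, nat_lit 1, nat_lit 4, nat_lit 1, nat_lit 3])))))
 (.node (nat_lit 1515) (.node (nat_lit 1513) (.leaf ((nat_lit 1069), [nat_lit 2, nat_lit 4, nat_lit 6, nat_lit 2, nat_lit 6, nat_lit 3, nat_lit 4, nat_lit 0, nat_lit 2, nat_lit 5, nat_lit 0, nat_lit 2, nat_lit 0])) (.node (nat_lit 1514) (.leaf ((nat_lit 569), [nat_lit 2, nat_lit 6, nat_lit 2, nat_lit 3, nat_lit 6, nat_lit 4, nat_lit 2, nat_lit 4, nat_lit 1, nat_lit 0, nat_lit 4, nat_lit 1, nat_lit 3, nat_lit 1, nat_lit 0])) (.leaf ((nat_lit 1099), [nat_lit 1, nat_lit 6, nat_lit 2, nat_lit 6, nat_lit 2, nat_lit 0, nat_lit 4, nat_lit 1, nat_lit 4, nat_lit 3, nat_lit 2, nat_lit 0])))) (.node (nat_lit 1516) (.leaf ((nat_lit 191), [nat_lit 2, nat_lit 5, nat_lit 0, nat_lit 6, nat_lit 5, nat_lit 0, nat_lit 4, nat_lit 1, nat_lit 4, nat_lit 1, nat_lit 3, nat_lit 0])) (.node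 (nat_lit 1517) (.leaf ((nat_lit 1100), [nat_lit 5, nat_lit 0, nat_lit 2, nat_lit 6, nat_lit 1, nat_lit 5, nat_lit 2, nat_lit 0, nat_lit 5, nat_lit 2, nat_lit 0, nat_lit 2, nat_lit 0])) (.leaf ((nat_lit 1101), [nat_lit 6, nat_lit 2, nat_lit 0, nat_lit 2, nat_lit 6, nat_lit 3, nat_lit 5, nat_lit 4, nat_lit 3, nat_lit 4, nat_lit 0, nat_lit 1, nat_lit 0])))))))
 (.node (nat_lit 1529) (.node (nat_lit 1523) (.node (nat_lit 1520) (.node (nat_lit 1519) (.leaf ((nat_lit 665), [nat_lit 5, nat_lit 6, nat_lit 1, nat_lit 4, nat_lit 5, nat_lit 6, nat_lit 2, nat_lit 4, nat_lit 3, nat_lit 2, nat_lit 4])) (.leaf ((nat_lit 1102), [nat_lit 1, nat_lit 6, nat_lit 5, nat_lit 1, nat_lit 6, nat_lit 0, nat_lit 4, nat_lit 3, nat_lit 0, nat_lit 4, nat_lit 1, nat_lit 0, nat_lit 2, nat_lit 0]))) (.node (nat_lit 1521) (.leaf ((nat_lit 1103), [nat_lit 0, nat_lit 6, nat_lit 2,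 nat_lit 6, nat_lit 4, nat_lit 0, nat_lit 6, nat_lit 2, nat_lit 0, nat_lit 4, nat_lit 1, nat_lit 4, nat_lit 2, nat_lit 0, nat_lit 2])) (.node (nat_lit 1522) (.leaf ((nat_lit 1104), [nat_lit 6, nat_lit 5, nat_lit 6, nat_lit 0, nat_lit 1, nat_lit 6, nat_lit 5, nat_lit 1, nat_lit 0, nat_lit 5, nat_lit 4, nat_lit 2, nat_lit 3, nat_lit 1, nat_lit 0])) (.leaf ((nat_lit 1105), [nat_lit 0, nat_lit 4, nat_lit 1, nat_lit 6, nat_lit 4, nat_lit 3, nat_lit 4, nat_lit 1, nat_lit 4, nat_lit 2, nat_lit 0, nat_lit 1])))))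
 (.node (nat_lit 1526) (.node (nat_lit 1524) (.leaf ((nat_lit 1106), [nat_lit 4, nat_lit 6, nat_lit 0, nat_lit 1, nat_lit 6, nat_lit 3, nat_lit 4, nat_lit 0, nat_lit 4, nat_lit 0])) (.node (nat_lit 1525) (.leaf ((nat_lit 1107), [nat_lit 6, nat_lit 5, nat_lit 4, nat_lit 2, nat_lit 0, nat_lit 6, nat_lit 2, nat_lit 0, nat_lit 2, nat_lit 4, nat_lit 1, nat_lit 0, nat_lit 2, nat_lit 0])) (.leaf ((nat_lit 450), [nat_lit 1, nat_lit 0, nat_lit 6, nat_lit 1, nat_lit 6, nat_lit 4, nat_lit 0, nat_lit 5, nat_lit 2, nat_lit 5, nat_lit 3, nat_lit 2, nat_lit 0])))) (.node (nat_lit 1527) (.leaf ((nat_lit 1102), [nat_lit 1, nat_lit 3, nat_lit 6, nat_lit 2, nat_lit 5, nat_lit 3, nat_lit 5, nat_lit 4, nat_lit 0, nat_lit 1])) (.node (nat_lit 1528) (.leaf ((nat_lit 730), [nat_lit 6, nat_lit 5, nat_lit 2, nat_lit 4, nat_lit 6, nat_lit 4, nat_lit 2, nat_lit 4, nat_lit 1,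 nat_lit 4, nat_lit 2, nat_lit 3, nat_lit 2, nat_lit 0])) (.leaf ((nat_lit 1108), [nat_lit 0, nat_lit 2, nat_lit 6, nat_lit 2, nat_lit 3, nat_lit 6, nat_lit 4, nat_lit 1, nat_lit 5, nat_lit 1, nat_lit 3]))))))
 (.node (nat_lit 1534) (.node (nat_lit 1531) (.node (nat_lit 1530) (.leaf ((nat_lit 646), [nat_lit 5, nat_lit 6, nat_lit 2, nat_lit 3, nat_lit 6, nat_lit 4, nat_lit 5, nat_lit 1, nat_lit 5, nat_lit 4, nat_lit 0, nat_lit 2, nat_lit 0])) (.leaf ((nat_lit 384), [nat_lit 5, nat_lit 6, nat_lit 3, nat_lit 2, nat_lit 6, nat_lit 1, nat_lit 4, nat_lit 5, nat_lit 1, nat_lit 4, nat_lit 2, nat_lit 3]))) (.node (nat_lit 1532) (.leaf ((nat_lit 847), [nat_lit 2, nat_lit 6, nat_lit 3, nat_lit 0, nat_lit 6, nat_lit 4, nat_lit 2, nat_lit 3, nat_lit 2, nat_lit 4, nat_lit 3, nat_lit 1, nat_lit 0])) (.node (nat_lit 1533) (.leaf ((nat_lit 30), [nat_lit 6, nat_lit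 4, nat_lit 5, nat_lit 6, nat_lit 4, nat_lit 2, nat_lit 0])) (.leaf ((nat_lit 1109), [nat_lit 4, nat_lit 3, nat_lit 6, nat_lit 5, nat_lit 1, nat_lit 6, nat_lit 4, nat_lit 3, nat_lit 5, nat_lit 1, nat_lit 3])))))
 (.node (nat_lit 1537) (.node (nat_lit 1535) (.leaf ((nat_lit 40), [nat_lit 2, nat_lit 3, nat_lit 6, nat_lit 1, nat_lit 5, nat_lit 6, nat_lit 3, nat_lit 0, nat_lit 4, nat_lit 0, nat_lit 4, nat_lit 1, nat_lit 3, nat_lit 2])) (.node (nat_lit 1536) (.leaf ((nat_lit 959), [nat_lit 4, nat_lit 3, nat_lit 6, nat_lit 1, nat_lit 6, nat_lit 1, nat_lit 0, nat_lit 4, nat_lit 2, nat_lit 0, nat_lit 1, nat_lit 0])) (.leaf ((nat_lit 413), [nat_lit 0, nat_lit 6, nat_lit 4, nat_lit 0, nat_lit 2, nat_lit 6, nat_lit 3, nat_lit 5, nat_lit 3, nat_lit 4, nat_lit 2, nat_lit 0, nat_lit 1, nat_lit 0])))) (.node (nat_lit 1538) (.leaf ((nat_lit 1110), [nat_lit 5, nat_lit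 6, nat_lit 1, nat_lit 4, nat_lit 6, nat_lit 1, nat_lit 0, nat_lit 1, nat_lit 0, nat_lit 4, nat_lit 1, nat_lit 0, nat_lit 1])) (.node (nat_lit 1539) (.leaf ((nat_lit 1111), [nat_lit 1, nat_lit 6, nat_lit 5, nat_lit 2, nat_lit 6, nat_lit 5, nat_lit 2, nat_lit 5, nat_lit 0, nat_lit 2, nat_lit 0])) (.leaf ((nat_lit 15), [nat_lit 5, nat_lit 1, nat_lit 6, nat_lit 5, nat_lit 2, nat_lit 6, nat_lit 0, nat_lit 4, nat_lit 2, nat_lit 3, nat_lit 2]))))))))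
 (.node (nat_lit 1562) (.node (nat_lit 1551) (.node (nat_lit 1545) (.node (nat_lit 1542) (.node (nat_lit 1541) (.leaf ((nat_lit 1112), [nat_lit 1, nat_lit 4, nat_lit 6, nat_lit 1, nat_lit 6, nat_lit 5, nat_lit 0, nat_lit 4, nat_lit 1, nat_lit 4, nat_lit 3, nat_lit 0])) (.leaf ((nat_lit 1001), [nat_lit 3, nat_lit 6, nat_lit 3, nat_lit 5, nat_lit 0, nat_lit 6, nat_lit 1, nat_lit 0, nat_lit 2, nat_lit 4, nat_lit 0, nat_lit 2]))) (.node (nat_lit 1543) (.leaf ((nat_lit 90), [nat_lit 5, nat_lit 6, nat_lit 1, nat_lit 3, nat_lit 6, nat_lit 0, nat_lit 5, nat_lit 3, nat_lit 4, nat_lit 2, nat_lit 3, nat_lit 1])) (.node (nat_lit 1544) (.leaf ((nat_lit 73), [nat_lit 1, nat_lit 6, nat_lit 1, nat_lit 6, nat_lit 5, nat_lit 4, nat_lit 3, nat_lit 4, nat_lit 3, nat_lit 1, nat_lit 0])) (.leaf ((nat_lit 731), [nat_lit 4, nat_lit 3, nat_lit 5, nat_lit 6, nat_lit 2, nat_lit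 6, nat_lit 0, nat_lit 4, nat_lit 3, nat_lit 4, nat_lit 3, nat_lit 2, nat_lit 0])))))
 (.node (nat_lit 1548) (.node (nat_lit 1546) (.leaf ((nat_lit 1113), [nat_lit 3, nat_lit 6, nat_lit 5, nat_lit 3, nat_lit 6, nat_lit 1, nat_lit 3, nat_lit 2, nat_lit 4, nat_lit 2, nat_lit 3, nat_lit 0])) (.node (nat_lit 1547) (.leaf ((nat_lit 1114), [nat_lit 2, nat_lit 4, nat_lit 2, nat_lit 0, nat_lit 6, nat_lit 5, nat_lit 1, nat_lit 4, nat_lit 5])) (.leaf ((nat_lit 1115), [nat_lit 5, nat_lit 3, nat_lit 6, nat_lit 2, nat_lit 6, nat_lit 5, nat_lit 2, nat_lit 4, nat_lit 2, nat_lit 0, nat_lit 1, nat_lit 0])))) (.node (nat_lit 1549) (.leaf ((nat_lit 1116), [nat_lit 5, nat_lit 6, nat_lit 3, nat_lit 0, nat_lit 6, nat_lit 5, nat_lit 1, nat_lit 3, nat_lit 4, nat_lit 1, nat_lit 0, nat_lit 2])) (.node (nat_lit 1550) (.leaf ((nat_lit 166), [nat_lit 6, nat_lit 5, nat_lit 0,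 nat_lit 2, nat_lit 6, nat_lit 5, nat_lit 0, nat_lit 4, nat_lit 1, nat_lit 5, nat_lit 0])) (.leaf ((nat_lit 836), [nat_lit 6, nat_lit 1, nat_lit 6, nat_lit 5, nat_lit 3, nat_lit 6, nat_lit 4, nat_lit 3, nat_lit 4, nat_lit 1, nat_lit 0, nat_lit 1, nat_lit 0]))))))
 (.node (nat_lit 1556) (.node (nat_lit 1553) (.node (nat_lit 1552) (.leaf ((nat_lit 1070), [nat_lit 2, nat_lit 5, nat_lit 1, nat_lit 6, nat_lit 2, nat_lit 6, nat_lit 1, nat_lit 4, nat_lit 5, nat_lit 1, nat_lit 3, nat_lit 1])) (.leaf ((nat_lit 1117), [nat_lit 6, nat_lit 3, nat_lit 4, nat_lit 6, nat_lit 5, nat_lit 4, nat_lit 1, nat_lit 0, nat_lit 1]))) (.node (nat_lit 1554) (.leaf ((nat_lit 837), [nat_lit 4, nat_lit 2, nat_lit 6, nat_lit 3, nat_lit 0, nat_lit 6, nat_lit 4, nat_lit 3, nat_lit 4, nat_lit 1, nat_lit 0, nat_lit 2])) (.node (nat_lit 1555) (.leaf ((nat_lit 1118), [nat_lit 6, nat_lit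 2, nat_lit 4, nat_lit 3, nat_lit 6, nat_lit 5, nat_lit 3, nat_lit 2, nat_lit 5, nat_lit 4, nat_lit 3, nat_lit 1])) (.leaf ((nat_lit 343), [nat_lit 6, nat_lit 2, nat_lit 6, nat_lit 2, nat_lit 3, nat_lit 6, nat_lit 5, nat_lit 1, nat_lit 4, nat_lit 1, nat_lit 4, nat_lit 3, nat_lit 1])))))
 (.node (nat_lit 1559) (.node (nat_lit 1557) (.leaf ((nat_lit 1119), [nat_lit 2, nat_lit 6, nat_lit 2, nat_lit 3, nat_lit 6, nat_lit 4, nat_lit 5, nat_lit 3, nat_lit 0, nat_lit 4, nat_lit 2, nat_lit 0, nat_lit 1])) (.node (nat_lit 1558) (.leaf ((nat_lit 1120), [nat_lit 5, nat_lit 4, nat_lit 3, nat_lit 6, nat_lit 2, nat_lit 6, nat_lit 0, nat_lit 1, nat_lit 5, nat_lit 4, nat_lit 0])) (.leaf ((nat_lit 98), [nat_lit 6, nat_lit 4, nat_lit 0, nat_lit 2, nat_lit 6, nat_lit 3, nat_lit 0, nat_lit 5, nat_lit 3, nat_lit 4, nat_lit 2])))) (.node (nat_lit 1560) (.leaf ((nat_lit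 147), [nat_lit 2, nat_lit 6, nat_lit 2, nat_lit 4, nat_lit 0, nat_lit 6, nat_lit 0, nat_lit 2, nat_lit 4, nat_lit 5, nat_lit 0, nat_lit 2, nat_lit 0])) (.node (nat_lit 1561) (.leaf ((nat_lit 617), [nat_lit 2, nat_lit 4, nat_lit 6, nat_lit 1, nat_lit 0, nat_lit 6, nat_lit 2, nat_lit 4, nat_lit 5, nat_lit 4, nat_lit 0, nat_lit 5, nat_lit 2, nat_lit 3, nat_lit 1])) (.leaf ((nat_lit 1121), [nat_lit 1, nat_lit 0, nat_lit 6, nat_lit 1, nat_lit 6, nat_lit 2, nat_lit 3, nat_lit 2, nat_lit 4, nat_lit 3, nat_lit 2, nat_lit 0])))))))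
 (.node (nat_lit 1573) (.node (nat_lit 1567) (.node (nat_lit 1564) (.node (nat_lit 1563) (.leaf ((nat_lit 928), [nat_lit 5, nat_lit 1, nat_lit 6, nat_lit 1, nat_lit 6, nat_lit 5, nat_lit 2, nat_lit 4, nat_lit 3, nat_lit 4, nat_lit 0, nat_lit 2])) (.leaf ((nat_lit 197), [nat_lit 1, nat_lit 0, nat_lit 6, nat_lit 4, nat_lit 1, nat_lit 6, nat_lit 5, nat_lit 1, nat_lit 0, nat_lit 5, nat_lit 4, nat_lit 3]))) (.node (nat_lit 1565) (.leaf ((nat_lit 696), [nat_lit 1, nat_lit 6, nat_lit 4, nat_lit 2, nat_lit 6, nat_lit 3, nat_lit 5, nat_lit 1, nat_lit 5, nat_lit 2, nat_lit 3, nat_lit 0])) (.node (nat_lit 1566) (.leaf ((nat_lit 1122), [nat_lit 1, nat_lit 5, nat_lit 6, nat_lit 4, nat_lit 0, nat_lit 6, nat_lit 2, nat_lit 5, nat_lit 1, nat_lit 5, nat_lit 4, nat_lit 0, nat_lit 2, nat_lit 0])) (.leaf ((nat_lit 283), [nat_lit 6, nat_lit 3, nat_lit 5, nat_lit 3, nat_lit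 6, nat_lit 1, nat_lit 3, nat_lit 4, nat_lit 0, nat_lit 2, nat_lit 0])))))
 (.node (nat_lit 1570) (.node (nat_lit 1568) (.leaf ((nat_lit 1123), [nat_lit 6, nat_lit 0, nat_lit 4, nat_lit 1, nat_lit 6, nat_lit 1, nat_lit 3, nat_lit 4, nat_lit 2, nat_lit 4, nat_lit 2, nat_lit 0])) (.node (nat_lit 1569) (.leaf ((nat_lit 270), [nat_lit 2, nat_lit 6, nat_lit 1, nat_lit 5, nat_lit 6, nat_lit 3, nat_lit 0, nat_lit 4, nat_lit 5, nat_lit 1, nat_lit 3, nat_lit 2, nat_lit 0])) (.leaf ((nat_lit 1124), [nat_lit 1, nat_lit 0, nat_lit 6, nat_lit 5, nat_lit 2, nat_lit 6, nat_lit 2, nat_lit 5, nat_lit 2, nat_lit 4, nat_lit 1])))) (.node (nat_lit 1571) (.leaf ((nat_lit 1125), [nat_lit 0, nat_lit 6, nat_lit 2, nat_lit 6, nat_lit 4, nat_lit 0, nat_lit 6, nat_lit 3, nat_lit 0, nat_lit 4, nat_lit 5, nat_lit 3])) (.node (nat_lit 1572) (.leaf ((nat_lit 1126), [nat_lit 4,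 nat_lit 2, nat_lit 5, nat_lit 6, nat_lit 0, nat_lit 4, nat_lit 1, nat_lit 3, nat_lit 2, nat_lit 0])) (.leaf ((nat_lit 1008), [nat_lit 5, nat_lit 6, nat_lit 2, nat_lit 5, nat_lit 6, nat_lit 0, nat_lit 1, nat_lit 5, nat_lit 3, nat_lit 0, nat_lit 4, nat_lit 0, nat_lit 1, nat_lit 0]))))))
 (.node (nat_lit 1578) (.node (nat_lit 1575) (.node (nat_lit 1574) (.leaf ((nat_lit 203), [nat_lit 2, nat_lit 5, nat_lit 6, nat_lit 0, nat_lit 1, nat_lit 6, nat_lit 2, nat_lit 4, nat_lit 5, nat_lit 1, nat_lit 3, nat_lit 1, nat_lit 0])) (.leaf ((nat_lit 1127), [nat_lit 6, nat_lit 0, nat_lit 2, nat_lit 6, nat_lit 0, nat_lit 1, nat_lit 5, nat_lit 4]))) (.node (nat_lit 1576) (.leaf ((nat_lit 1128), [nat_lit 1, nat_lit 6, nat_lit 0, nat_lit 4, nat_lit 6, nat_lit 4, nat_lit 3, nat_lit 2, nat_lit 4, nat_lit 3, nat_lit 1])) (.node (nat_lit 1577) (.leaf ((nat_lit 745), [nat_lit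 4, nat_lit 6, nat_lit 2, nat_lit 3, nat_lit 6, nat_lit 4, nat_lit 0, nat_lit 2, nat_lit 4, nat_lit 1, nat_lit 3])) (.leaf ((nat_lit 1129), [nat_lit 6, nat_lit 5, nat_lit 6, nat_lit 4, nat_lit 0, nat_lit 6, nat_lit 4, nat_lit 3, nat_lit 4, nat_lit 1, nat_lit 4, nat_lit 1, nat_lit 0])))))
 (.node (nat_lit 1581) (.node (nat_lit 1579) (.leaf ((nat_lit 1130), [nat_lit 2, nat_lit 6, nat_lit 1, nat_lit 0, nat_lit 6, nat_lit 3, nat_lit 2, nat_lit 5, nat_lit 1, nat_lit 0, nat_lit 4, nat_lit 3, nat_lit 2, nat_lit 0])) (.node (nat_lit 1580) (.leaf ((nat_lit 678), [nat_lit 6, nat_lit 2, nat_lit 6, nat_lit 1, nat_lit 0, nat_lit 6, nat_lit 4, nat_lit 3, nat_lit 0, nat_lit 4, nat_lit 1, nat_lit 3, nat_lit 2])) (.leaf ((nat_lit 525), [nat_lit 0, nat_lit 5, nat_lit 6, nat_lit 1, nat_lit 6, nat_lit 5, nat_lit 2, nat_lit 5, nat_lit 4, nat_lit 5, nat_lit 2, nat_lit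 0])))) (.node (nat_lit 1582) (.leaf ((nat_lit 312), [nat_lit 1, nat_lit 4, nat_lit 6, nat_lit 1, nat_lit 6, nat_lit 5, nat_lit 2, nat_lit 0, nat_lit 2, nat_lit 4, nat_lit 2, nat_lit 3])) (.node (nat_lit 1583) (.leaf ((nat_lit 1131), [nat_lit 5, nat_lit 4, nat_lit 5, nat_lit 6, nat_lit 4, nat_lit 0, nat_lit 6, nat_lit 0, nat_lit 2, nat_lit 4, nat_lit 2, nat_lit 4, nat_lit 2, nat_lit 0])) (.leaf ((nat_lit 251), [nat_lit 1, nat_lit 6, nat_lit 5, nat_lit 2, nat_lit 6, nat_lit 5, nat_lit 2, nat_lit 3, nat_lit 2, nat_lit 4, nat_lit 3, nat_lit 1, nat_lit 0]))))))))))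
noncomputable def rWd_9 : Tr (ℕ × List ℕ) := (.node (nat_lit 1672) (.node (nat_lit 1628) (.node (nat_lit 1606) (.node (nat_lit 1595) (.node (nat_lit 1589) (.node (nat_lit 1586) (.node (nat_lit 1585) (.leaf ((nat_lit 954), [nat_lit 0, nat_lit 1, nat_lit 0, nat_lit 6, nat_lit 2, nat_lit 6, nat_lit 4, nat_lit 3, nat_lit 5, nat_lit 1, nat_lit 3, nat_lit 1])) (.leaf ((nat_lit 1132), [nat_lit 1, nat_lit 6, nat_lit 4, nat_lit 1, nat_lit 0, nat_lit 6, nat_lit 4, nat_lit 0, nat_lit 4, nat_lit 5, nat_lit 4, nat_lit 1, nat_lit 3, nat_lit 2, nat_lit 0]))) (.node (nat_lit 1587) (.leaf ((nat_lit 1133), [nat_lit 6, nat_lit 4, nat_lit 0, nat_lit 6, nat_lit 1, nat_lit 6, nat_lit 5, nat_lit 0, nat_lit 4, nat_lit 3, nat_lit 5, nat_lit 3, nat_lit 2])) (.node (nat_lit 1588) (.leaf ((nat_lit 770), [nat_lit 5, nat_lit 6, nat_lit 2, nat_lit 0, nat_lit 2, nat_lit 6, nat_lit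 5, nat_lit 0, nat_lit 4, nat_lit 1, nat_lit 0, nat_lit 1, nat_lit 0])) (.leaf ((nat_lit 741), [nat_lit 0, nat_lit 6, nat_lit 2, nat_lit 4, nat_lit 2, nat_lit 6, nat_lit 1, nat_lit 5, nat_lit 0, nat_lit 4, nat_lit 1, nat_lit 3, nat_lit 2])))))
 (.node (nat_lit 1592) (.node (nat_lit 1590) (.leaf ((nat_lit 1134), [nat_lit 1, nat_lit 0, nat_lit 4, nat_lit 2, nat_lit 6, nat_lit 2, nat_lit 0, nat_lit 4, nat_lit 1, nat_lit 4, nat_lit 1, nat_lit 0, nat_lit 1, nat_lit 0])) (.node (nat_lit 1591) (.leaf ((nat_lit 388), [nat_lit 0, nat_lit 1, nat_lit 6, nat_lit 4, nat_lit 1, nat_lit 6, nat_lit 1, nat_lit 5, nat_lit 4, nat_lit 2, nat_lit 0, nat_lit 4, nat_lit 1, nat_lit 3, nat_lit 1, nat_lit 0])) (.leaf ((nat_lit 1135), [nat_lit 1, nat_lit 4, nat_lit 3, nat_lit 6, nat_lit 1, nat_lit 4, nat_lit 0, nat_lit 2, nat_lit 4, nat_lit 3, nat_lit 2, nat_lit 0])))) (.node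 (nat_lit 1593) (.leaf ((nat_lit 570), [nat_lit 6, nat_lit 4, nat_lit 1, nat_lit 3, nat_lit 6, nat_lit 3, nat_lit 4, nat_lit 1, nat_lit 4, nat_lit 3, nat_lit 2])) (.node (nat_lit 1594) (.leaf ((nat_lit 1136), [nat_lit 0, nat_lit 6, nat_lit 1, nat_lit 6, nat_lit 0, nat_lit 2, nat_lit 6, nat_lit 3, nat_lit 5, nat_lit 4, nat_lit 3, nat_lit 4, nat_lit 0, nat_lit 1, nat_lit 0])) (.leaf ((nat_lit 1137), [nat_lit 6, nat_lit 2, nat_lit 6, nat_lit 3, nat_lit 2, nat_lit 6, nat_lit 0, nat_lit 2, nat_lit 0, nat_lit 4, nat_lit 1, nat_lit 0, nat_lit 2]))))))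
 (.node (nat_lit 1600) (.node (nat_lit 1597) (.node (nat_lit 1596) (.leaf ((nat_lit 1138), [nat_lit 0, nat_lit 4, nat_lit 5, nat_lit 6, nat_lit 2, nat_lit 6, nat_lit 0, nat_lit 4, nat_lit 2, nat_lit 3, nat_lit 0])) (.leaf ((nat_lit 619), [nat_lit 5, nat_lit 6, nat_lit 5, nat_lit 1, nat_lit 6, nat_lit 0, nat_lit 5, nat_lit 2, nat_lit 4, nat_lit 1, nat_lit 0, nat_lit 2, nat_lit 0]))) (.node (nat_lit 1598) (.leaf ((nat_lit 845), [nat_lit 4, nat_lit 6, nat_lit 2, nat_lit 0, nat_lit 6, nat_lit 1, nat_lit 3, nat_lit 4, nat_lit 0])) (.node (nat_lit 1599) (.leaf ((nat_lit 1139), [nat_lit 4, nat_lit 2, nat_lit 6, nat_lit 3, nat_lit 0, nat_lit 6, nat_lit 4, nat_lit 2, nat_lit 4, nat_lit 0, nat_lit 4, nat_lit 2])) (.leaf ((nat_lit 681), [nat_lit 5, nat_lit 6, nat_lit 1, nat_lit 6, nat_lit 2, nat_lit 0, nat_lit 4, nat_lit 5, nat_lit 2, nat_lit 3, nat_lit 2,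 nat_lit 0])))))
 (.node (nat_lit 1603) (.node (nat_lit 1601) (.leaf ((nat_lit 1140), [nat_lit 6, nat_lit 2, nat_lit 6, nat_lit 2, nat_lit 5, nat_lit 2, nat_lit 4, nat_lit 2, nat_lit 0, nat_lit 1, nat_lit 0])) (.node (nat_lit 1602) (.leaf ((nat_lit 1141), [nat_lit 1, nat_lit 4, nat_lit 3, nat_lit 6, nat_lit 3, nat_lit 4, nat_lit 3, nat_lit 0, nat_lit 5, nat_lit 3, nat_lit 1])) (.leaf ((nat_lit 1142), [nat_lit 2, nat_lit 5, nat_lit 6, nat_lit 3, nat_lit 5, nat_lit 2, nat_lit 0, nat_lit 4, nat_lit 1, nat_lit 3, nat_lit 0])))) (.node (nat_lit 1604) (.leaf ((nat_lit 1143), [nat_lit 6, nat_lit 1, nat_lit 6, nat_lit 0, nat_lit 2, nat_lit 6, nat_lit 4, nat_lit 3, nat_lit 5, nat_lit 3, nat_lit 4, nat_lit 2])) (.node (nat_lit 1605) (.leaf ((nat_lit 1144), [nat_lit 3, nat_lit 4, nat_lit 1, nat_lit 6, nat_lit 5, nat_lit 2, nat_lit 5, nat_lit 3, nat_lit 4, nat_lit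 3, nat_lit 0])) (.leaf ((nat_lit 829), [nat_lit 4, nat_lit 6, nat_lit 1, nat_lit 3, nat_lit 6, nat_lit 5, nat_lit 2, nat_lit 5, nat_lit 3, nat_lit 4, nat_lit 0])))))))
 (.node (nat_lit 1617) (.node (nat_lit 1611) (.node (nat_lit 1608) (.node (nat_lit 1607) (.leaf ((nat_lit 989), [nat_lit 4, nat_lit 3, nat_lit 5, nat_lit 6, nat_lit 2, nat_lit 6, nat_lit 5, nat_lit 1, nat_lit 4, nat_lit 1, nat_lit 0, nat_lit 4, nat_lit 2, nat_lit 3, nat_lit 0])) (.leaf ((nat_lit 1145), [nat_lit 2, nat_lit 6, nat_lit 2, nat_lit 4, nat_lit 6, nat_lit 0, nat_lit 2, nat_lit 4, nat_lit 1]))) (.node (nat_lit 1609) (.leaf ((nat_lit 694), [nat_lit 2, nat_lit 4, nat_lit 6, nat_lit 1, nat_lit 0, nat_lit 6, nat_lit 4, nat_lit 0, nat_lit 2, nat_lit 4, nat_lit 2, nat_lit 0, nat_lit 1])) (.node (nat_lit 1610) (.leaf ((nat_lit 442), [nat_lit 2, nat_lit 6, nat_lit 5, nat_lit 0, nat_lit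 2, nat_lit 6, nat_lit 0, nat_lit 4, nat_lit 2, nat_lit 3, nat_lit 2])) (.leaf ((nat_lit 1146), [nat_lit 4, nat_lit 2, nat_lit 6, nat_lit 2, nat_lit 0, nat_lit 6, nat_lit 2, nat_lit 4, nat_lit 1, nat_lit 0, nat_lit 2])))))
 (.node (nat_lit 1614) (.node (nat_lit 1612) (.leaf ((nat_lit 104), [nat_lit 4, nat_lit 0, nat_lit 6, nat_lit 3, nat_lit 4, nat_lit 5, nat_lit 1, nat_lit 3, nat_lit 2, nat_lit 0])) (.node (nat_lit 1613) (.leaf ((nat_lit 720), [nat_lit 0, nat_lit 6, nat_lit 1, nat_lit 0, nat_lit 6, nat_lit 3, nat_lit 5, nat_lit 4, nat_lit 3, nat_lit 4, nat_lit 0, nat_lit 2])) (.leaf ((nat_lit 514), [nat_lit 2, nat_lit 5, nat_lit 3, nat_lit 6, nat_lit 4, nat_lit 0, nat_lit 4, nat_lit 5, nat_lit 4, nat_lit 0])))) (.node (nat_lit 1615) (.leaf ((nat_lit 316), [nat_lit 2, nat_lit 6, nat_lit 2, nat_lit 3, nat_lit 6, nat_lit 4, nat_lit 1, nat_lit 3, nat_lit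 4, nat_lit 2, nat_lit 3, nat_lit 0])) (.node (nat_lit 1616) (.leaf ((nat_lit 1147), [nat_lit 1, nat_lit 4, nat_lit 6, nat_lit 4, nat_lit 2, nat_lit 6, nat_lit 5, nat_lit 4, nat_lit 3, nat_lit 2, nat_lit 4, nat_lit 2, nat_lit 0, nat_lit 1])) (.leaf ((nat_lit 823), [nat_lit 0, nat_lit 1, nat_lit 6, nat_lit 5, nat_lit 2, nat_lit 6, nat_lit 5, nat_lit 0, nat_lit 4, nat_lit 5, nat_lit 4, nat_lit 0, nat_lit 1, nat_lit 0]))))))
 (.node (nat_lit 1622) (.node (nat_lit 1619) (.node (nat_lit 1618) (.leaf ((nat_lit 887), [nat_lit 2, nat_lit 6, nat_lit 5, nat_lit 3, nat_lit 6, nat_lit 1, nat_lit 0, nat_lit 5, nat_lit 4, nat_lit 1])) (.leaf ((nat_lit 1148), [nat_lit 2, nat_lit 5, nat_lit 6, nat_lit 1, nat_lit 0, nat_lit 6, nat_lit 4, nat_lit 5, nat_lit 3, nat_lit 0, nat_lit 4]))) (.node (nat_lit 1620) (.leaf ((nat_lit 1038), [nat_lit 0, nat_lit 6, nat_lit 1, nat_lit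 6, nat_lit 0, nat_lit 2, nat_lit 6, nat_lit 2, nat_lit 5, nat_lit 1, nat_lit 0, nat_lit 4, nat_lit 1])) (.node (nat_lit 1621) (.leaf ((nat_lit 1149), [nat_lit 6, nat_lit 5, nat_lit 1, nat_lit 3, nat_lit 6, nat_lit 5, nat_lit 1, nat_lit 3, nat_lit 4, nat_lit 2, nat_lit 3, nat_lit 2])) (.leaf ((nat_lit 1150), [nat_lit 5, nat_lit 0, nat_lit 2, nat_lit 6, nat_lit 1, nat_lit 6, nat_lit 3, nat_lit 0, nat_lit 4, nat_lit 1, nat_lit 4, nat_lit 0, nat_lit 2, nat_lit 0])))))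
 (.node (nat_lit 1625) (.node (nat_lit 1623) (.leaf ((nat_lit 809), [nat_lit 4, nat_lit 0, nat_lit 6, nat_lit 2, nat_lit 6, nat_lit 3, nat_lit 4, nat_lit 0, nat_lit 2, nat_lit 0])) (.node (nat_lit 1624) (.leaf ((nat_lit 1103), [nat_lit 5, nat_lit 4, nat_lit 6, nat_lit 0, nat_lit 1, nat_lit 6, nat_lit 5, nat_lit 0, nat_lit 5, nat_lit 3, nat_lit 2, nat_lit 0])) (.leaf ((nat_lit 1151), [nat_lit 6, nat_lit 0, nat_lit 4, nat_lit 5, nat_lit 6, nat_lit 2, nat_lit 5, nat_lit 0, nat_lit 2, nat_lit 4, nat_lit 0, nat_lit 1, nat_lit 0])))) (.node (nat_lit 1626) (.leaf ((nat_lit 424), [nat_lit 6, nat_lit 2, nat_lit 6, nat_lit 2, nat_lit 3, nat_lit 6, nat_lit 4, nat_lit 2, nat_lit 3, nat_lit 0, nat_lit 4, nat_lit 2, nat_lit 3, nat_lit 2, nat_lit 0])) (.node (nat_lit 1627) (.leaf ((nat_lit 810), [nat_lit 6, nat_lit 3, nat_lit 4, nat_lit 6, nat_lit 3, nat_lit 4,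 nat_lit 1, nat_lit 5, nat_lit 1, nat_lit 3, nat_lit 2, nat_lit 0])) (.leaf ((nat_lit 719), [nat_lit 0, nat_lit 1, nat_lit 6, nat_lit 0, nat_lit 4, nat_lit 6, nat_lit 0, nat_lit 4, nat_lit 1, nat_lit 0, nat_lit 4, nat_lit 2, nat_lit 0, nat_lit 2]))))))))
 (.node (nat_lit 1650) (.node (nat_lit 1639) (.node (nat_lit 1633) (.node (nat_lit 1630) (.node (nat_lit 1629) (.leaf ((nat_lit 1152), [nat_lit 6, nat_lit 1, nat_lit 0, nat_lit 6, nat_lit 4, nat_lit 5, nat_lit 0, nat_lit 4, nat_lit 5, nat_lit 0, nat_lit 1, nat_lit 0])) (.leaf ((nat_lit 782), [nat_lit 6, nat_lit 3, nat_lit 2, nat_lit 5, nat_lit 6, nat_lit 2, nat_lit 0, nat_lit 2, nat_lit 4, nat_lit 2, nat_lit 4, nat_lit 1, nat_lit 0]))) (.node (nat_lit 1631) (.leaf ((nat_lit 140), [nat_lit 2, nat_lit 3, nat_lit 6, nat_lit 5, nat_lit 0, nat_lit 2, nat_lit 0, nat_lit 4, nat_lit 3, nat_lit 1])) (.node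 (nat_lit 1632) (.leaf ((nat_lit 618), [nat_lit 2, nat_lit 6, nat_lit 2, nat_lit 3, nat_lit 6, nat_lit 4, nat_lit 0, nat_lit 1, nat_lit 4, nat_lit 2, nat_lit 3, nat_lit 1])) (.leaf ((nat_lit 226), [nat_lit 1, nat_lit 6, nat_lit 5, nat_lit 2, nat_lit 6, nat_lit 0, nat_lit 5, nat_lit 2, nat_lit 5, nat_lit 2, nat_lit 3, nat_lit 1])))))
 (.node (nat_lit 1636) (.node (nat_lit 1634) (.leaf ((nat_lit 1153), [nat_lit 6, nat_lit 5, nat_lit 2, nat_lit 6, nat_lit 0, nat_lit 5, nat_lit 4, nat_lit 3, nat_lit 4, nat_lit 3, nat_lit 1])) (.node (nat_lit 1635) (.leaf ((nat_lit 1048), [nat_lit 2, nat_lit 6, nat_lit 1, nat_lit 5, nat_lit 6, nat_lit 5, nat_lit 3, nat_lit 2, nat_lit 5, nat_lit 4, nat_lit 1, nat_lit 3])) (.leaf ((nat_lit 939), [nat_lit 4, nat_lit 6, nat_lit 5, nat_lit 2, nat_lit 5, nat_lit 0, nat_lit 4, nat_lit 3, nat_lit 1])))) (.node (nat_lit 1637) (.leaf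 ((nat_lit 1051), [nat_lit 0, nat_lit 6, nat_lit 4, nat_lit 3, nat_lit 6, nat_lit 5, nat_lit 2, nat_lit 3, nat_lit 4, nat_lit 2, nat_lit 3, nat_lit 2])) (.node (nat_lit 1638) (.leaf ((nat_lit 223), [nat_lit 6, nat_lit 2, nat_lit 0, nat_lit 2, nat_lit 6, nat_lit 2, nat_lit 4, nat_lit 2, nat_lit 4, nat_lit 1, nat_lit 0, nat_lit 1])) (.leaf ((nat_lit 250), [nat_lit 2, nat_lit 6, nat_lit 2, nat_lit 3, nat_lit 6, nat_lit 1, nat_lit 5, nat_lit 4, nat_lit 2, nat_lit 0, nat_lit 4, nat_lit 2, nat_lit 0]))))))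
 (.node (nat_lit 1644) (.node (nat_lit 1641) (.node (nat_lit 1640) (.leaf ((nat_lit 460), [nat_lit 4, nat_lit 3, nat_lit 6, nat_lit 2, nat_lit 0, nat_lit 6, nat_lit 1, nat_lit 5, nat_lit 1, nat_lit 4, nat_lit 2, nat_lit 0, nat_lit 2])) (.leaf ((nat_lit 82), [nat_lit 4, nat_lit 6, nat_lit 1, nat_lit 6, nat_lit 2, nat_lit 6, nat_lit 4, nat_lit 2, nat_lit 0, nat_lit 4, nat_lit 3, nat_lit 1, nat_lit 0]))) (.node (nat_lit 1642) (.leaf ((nat_lit 259), [nat_lit 3, nat_lit 2, nat_lit 6, nat_lit 4, nat_lit 2, nat_lit 6, nat_lit 5, nat_lit 4, nat_lit 2, nat_lit 3, nat_lit 4, nat_lit 2, nat_lit 3, nat_lit 1, nat_lit 0])) (.node (nat_lit 1643) (.leaf ((nat_lit 416), [nat_lit 2, nat_lit 6, nat_lit 0, nat_lit 1, nat_lit 6, nat_lit 4, nat_lit 5, nat_lit 1, nat_lit 3, nat_lit 4, nat_lit 1, nat_lit 3, nat_lit 2, nat_lit 0])) (.leaf ((nat_lit 1154), [nat_lit 6, nat_lit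 0, nat_lit 1, nat_lit 6, nat_lit 1, nat_lit 6, nat_lit 1, nat_lit 0, nat_lit 4, nat_lit 5, nat_lit 3, nat_lit 2, nat_lit 0])))))
 (.node (nat_lit 1647) (.node (nat_lit 1645) (.leaf ((nat_lit 1155), [nat_lit 1, nat_lit 3, nat_lit 6, nat_lit 5, nat_lit 1, nat_lit 6, nat_lit 3, nat_lit 2, nat_lit 5, nat_lit 3, nat_lit 4, nat_lit 1, nat_lit 0, nat_lit 1, nat_lit 0])) (.node (nat_lit 1646) (.leaf ((nat_lit 1156), [nat_lit 6, nat_lit 2, nat_lit 5, nat_lit 3, nat_lit 6, nat_lit 4, nat_lit 0, nat_lit 4, nat_lit 1, nat_lit 0, nat_lit 1])) (.leaf ((nat_lit 827), [nat_lit 6, nat_lit 3, nat_lit 0, nat_lit 6, nat_lit 3, nat_lit 4, nat_lit 3, nat_lit 0, nat_lit 4, nat_lit 1, nat_lit 3, nat_lit 0])))) (.node (nat_lit 1648) (.leaf ((nat_lit 1157), [nat_lit 0, nat_lit 4, nat_lit 6, nat_lit 3, nat_lit 0, nat_lit 6, nat_lit 5, nat_lit 4, nat_lit 2, nat_lit 5, nat_lit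 2, nat_lit 3, nat_lit 0])) (.node (nat_lit 1649) (.leaf ((nat_lit 1037), [nat_lit 4, nat_lit 6, nat_lit 2, nat_lit 0, nat_lit 6, nat_lit 2, nat_lit 4, nat_lit 3, nat_lit 5, nat_lit 4, nat_lit 2, nat_lit 0])) (.leaf ((nat_lit 1131), [nat_lit 3, nat_lit 6, nat_lit 2, nat_lit 5, nat_lit 6, nat_lit 2, nat_lit 5, nat_lit 0, nat_lit 1, nat_lit 0])))))))
 (.node (nat_lit 1661) (.node (nat_lit 1655) (.node (nat_lit 1652) (.node (nat_lit 1651) (.leaf ((nat_lit 1063), [nat_lit 3, nat_lit 1, nat_lit 6, nat_lit 5, nat_lit 1, nat_lit 6, nat_lit 5, nat_lit 1, nat_lit 3, nat_lit 2, nat_lit 4, nat_lit 2, nat_lit 0, nat_lit 2])) (.leaf ((nat_lit 1158), [nat_lit 2, nat_lit 3, nat_lit 6, nat_lit 2, nat_lit 6, nat_lit 1, nat_lit 0, nat_lit 4, nat_lit 3, nat_lit 0]))) (.node (nat_lit 1653) (.leaf ((nat_lit 1090), [nat_lit 1, nat_lit 0, nat_lit 6, nat_lit 2, nat_lit 6,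 nat_lit 5, nat_lit 3, nat_lit 0, nat_lit 5, nat_lit 2, nat_lit 0, nat_lit 1])) (.node (nat_lit 1654) (.leaf ((nat_lit 1114), [nat_lit 0, nat_lit 5, nat_lit 6, nat_lit 2, nat_lit 6, nat_lit 0, nat_lit 1, nat_lit 5, nat_lit 4, nat_lit 2, nat_lit 0, nat_lit 2, nat_lit 0])) (.leaf ((nat_lit 34), [nat_lit 6, nat_lit 2, nat_lit 4, nat_lit 2, nat_lit 6, nat_lit 0, nat_lit 5, nat_lit 4, nat_lit 2, nat_lit 3, nat_lit 1, nat_lit 0])))))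
 (.node (nat_lit 1658) (.node (nat_lit 1656) (.leaf ((nat_lit 1159), [nat_lit 5, nat_lit 3, nat_lit 6, nat_lit 1, nat_lit 6, nat_lit 1, nat_lit 3, nat_lit 1, nat_lit 0, nat_lit 4, nat_lit 0, nat_lit 1])) (.node (nat_lit 1657) (.leaf ((nat_lit 927), [nat_lit 2, nat_lit 6, nat_lit 4, nat_lit 3, nat_lit 6, nat_lit 0, nat_lit 2, nat_lit 0, nat_lit 5, nat_lit 4, nat_lit 1, nat_lit 0, nat_lit 1])) (.leaf ((nat_lit 148), [nat_lit 4, nat_lit 5, nat_lit 6, nat_lit 2, nat_lit 3, nat_lit 6, nat_lit 5, nat_lit 4, nat_lit 5, nat_lit 4, nat_lit 0, nat_lit 1, nat_lit 0])))) (.node (nat_lit 1659) (.leaf ((nat_lit 1160), [nat_lit 4, nat_lit 1, nat_lit 6, nat_lit 2, nat_lit 6, nat_lit 3, nat_lit 2, nat_lit 5, nat_lit 1, nat_lit 0, nat_lit 4, nat_lit 2, nat_lit 0, nat_lit 1, nat_lit 0])) (.node (nat_lit 1660) (.leaf ((nat_lit 1004), [nat_lit 6, nat_lit 1, nat_lit 4,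 nat_lit 1, nat_lit 3, nat_lit 6, nat_lit 3, nat_lit 4, nat_lit 5, nat_lit 0, nat_lit 4, nat_lit 0])) (.leaf ((nat_lit 1161), [nat_lit 1, nat_lit 6, nat_lit 2, nat_lit 0, nat_lit 6, nat_lit 1, nat_lit 0, nat_lit 4, nat_lit 3, nat_lit 5, nat_lit 2, nat_lit 3, nat_lit 1]))))))
 (.node (nat_lit 1666) (.node (nat_lit 1663) (.node (nat_lit 1662) (.leaf ((nat_lit 486), [nat_lit 1, nat_lit 3, nat_lit 6, nat_lit 3, nat_lit 4, nat_lit 0, nat_lit 4, nat_lit 3, nat_lit 0])) (.leaf ((nat_lit 289), [nat_lit 0, nat_lit 1, nat_lit 5, nat_lit 6, nat_lit 3, nat_lit 5, nat_lit 2, nat_lit 4, nat_lit 0]))) (.node (nat_lit 1664) (.leaf ((nat_lit 1162), [nat_lit 5, nat_lit 6, nat_lit 1, nat_lit 3, nat_lit 6, nat_lit 5, nat_lit 4, nat_lit 5, nat_lit 0, nat_lit 4, nat_lit 3, nat_lit 1])) (.node (nat_lit 1665) (.leaf ((nat_lit 1163), [nat_lit 6, nat_lit 4, nat_lit 1, nat_lit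 0, nat_lit 6, nat_lit 2, nat_lit 5, nat_lit 3, nat_lit 5, nat_lit 4, nat_lit 1, nat_lit 3, nat_lit 1])) (.leaf ((nat_lit 1164), [nat_lit 5, nat_lit 2, nat_lit 6, nat_lit 3, nat_lit 2, nat_lit 6, nat_lit 1, nat_lit 5, nat_lit 1, nat_lit 3, nat_lit 2])))))
 (.node (nat_lit 1669) (.node (nat_lit 1667) (.leaf ((nat_lit 489), [nat_lit 2, nat_lit 0, nat_lit 6, nat_lit 2, nat_lit 6, nat_lit 4, nat_lit 1, nat_lit 4, nat_lit 2, nat_lit 4, nat_lit 3, nat_lit 2, nat_lit 0])) (.node (nat_lit 1668) (.leaf ((nat_lit 546), [nat_lit 2, nat_lit 6, nat_lit 2, nat_lit 6, nat_lit 1, nat_lit 0, nat_lit 2, nat_lit 4, nat_lit 2, nat_lit 0, nat_lit 2, nat_lit 0])) (.leaf ((nat_lit 907), [nat_lit 5, nat_lit 6, nat_lit 5, nat_lit 1, nat_lit 6, nat_lit 5, nat_lit 0, nat_lit 4, nat_lit 3, nat_lit 5, nat_lit 3, nat_lit 2])))) (.node (nat_lit 1670) (.leaf ((nat_lit 828), [nat_lit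 1, nat_lit 6, nat_lit 5, nat_lit 1, nat_lit 6, nat_lit 1, nat_lit 0, nat_lit 4, nat_lit 3, nat_lit 1, nat_lit 0])) (.node (nat_lit 1671) (.leaf ((nat_lit 1123), [nat_lit 3, nat_lit 5, nat_lit 3, nat_lit 6, nat_lit 0, nat_lit 4, nat_lit 3, nat_lit 5, nat_lit 1, nat_lit 0, nat_lit 1])) (.leaf ((nat_lit 126), [nat_lit 2, nat_lit 6, nat_lit 4, nat_lit 0, nat_lit 6, nat_lit 2, nat_lit 0, nat_lit 4, nat_lit 3, nat_lit 5, nat_lit 3])))))))))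
 (.node (nat_lit 1716) (.node (nat_lit 1694) (.node (nat_lit 1683) (.node (nat_lit 1677) (.node (nat_lit 1674) (.node (nat_lit 1673) (.leaf ((nat_lit 1165), [nat_lit 0, nat_lit 2, nat_lit 6, nat_lit 1, nat_lit 6, nat_lit 1, nat_lit 4, nat_lit 1, nat_lit 4, nat_lit 1, nat_lit 0, nat_lit 1])) (.leaf ((nat_lit 1166), [nat_lit 0, nat_lit 5, nat_lit 6, nat_lit 5, nat_lit 2, nat_lit 6, nat_lit 0, nat_lit 5, nat_lit 2, nat_lit 5, nat_lit 2, nat_lit 3, nat_lit 0]))) (.node (nat_lit 1675) (.leaf ((nat_lit 937), [nat_lit 0, nat_lit 6, nat_lit 5, nat_lit 2, nat_lit 6, nat_lit 5, nat_lit 2, nat_lit 0, nat_lit 2, nat_lit 0, nat_lit 4, nat_lit 2, nat_lit 0, nat_lit 1, nat_lit 0])) (.node (nat_lit 1676) (.leaf ((nat_lit 1167), [nat_lit 1, nat_lit 6, nat_lit 1, nat_lit 4, nat_lit 3, nat_lit 6, nat_lit 2, nat_lit 4, nat_lit 1, nat_lit 0, nat_lit 4])) (.leaf ((nat_lit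 1168), [nat_lit 5, nat_lit 1, nat_lit 3, nat_lit 6, nat_lit 1, nat_lit 5, nat_lit 4, nat_lit 1, nat_lit 3, nat_lit 0])))))
 (.node (nat_lit 1680) (.node (nat_lit 1678) (.leaf ((nat_lit 1169), [nat_lit 1, nat_lit 6, nat_lit 5, nat_lit 3, nat_lit 6, nat_lit 4, nat_lit 0, nat_lit 5, nat_lit 1, nat_lit 3, nat_lit 1, nat_lit 0])) (.node (nat_lit 1679) (.leaf ((nat_lit 1170), [nat_lit 2, nat_lit 4, nat_lit 6, nat_lit 3, nat_lit 0, nat_lit 6, nat_lit 0, nat_lit 1, nat_lit 4, nat_lit 0, nat_lit 1, nat_lit 0])) (.leaf ((nat_lit 87), [nat_lit 0, nat_lit 1, nat_lit 5, nat_lit 6, nat_lit 1, nat_lit 6, nat_lit 3, nat_lit 4, nat_lit 3, nat_lit 0, nat_lit 5, nat_lit 2, nat_lit 0, nat_lit 1, nat_lit 0])))) (.node (nat_lit 1681) (.leaf ((nat_lit 1171), [nat_lit 2, nat_lit 0, nat_lit 6, nat_lit 5, nat_lit 4, nat_lit 5, nat_lit 1, nat_lit 0])) (.node (nat_lit 1682)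 (.leaf ((nat_lit 1172), [nat_lit 2, nat_lit 5, nat_lit 1, nat_lit 6, nat_lit 2, nat_lit 6, nat_lit 5, nat_lit 2, nat_lit 3, nat_lit 2, nat_lit 4, nat_lit 2, nat_lit 3, nat_lit 2])) (.leaf ((nat_lit 771), [nat_lit 4, nat_lit 0, nat_lit 5, nat_lit 3, nat_lit 6, nat_lit 4, nat_lit 0, nat_lit 4, nat_lit 1, nat_lit 4, nat_lit 3, nat_lit 1, nat_lit 0]))))))
 (.node (nat_lit 1688) (.node (nat_lit 1685) (.node (nat_lit 1684) (.leaf ((nat_lit 1173), [nat_lit 3, nat_lit 6, nat_lit 0, nat_lit 2, nat_lit 6, nat_lit 2, nat_lit 4, nat_lit 3, nat_lit 2, nat_lit 0])) (.leaf ((nat_lit 1174), [nat_lit 4, nat_lit 6, nat_lit 2, nat_lit 4, nat_lit 0, nat_lit 6, nat_lit 3, nat_lit 5, nat_lit 0, nat_lit 2]))) (.node (nat_lit 1686) (.leaf ((nat_lit 756), [nat_lit 5, nat_lit 4, nat_lit 6, nat_lit 5, nat_lit 0, nat_lit 4, nat_lit 5, nat_lit 4, nat_lit 1, nat_lit 3, nat_lit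 2])) (.node (nat_lit 1687) (.leaf ((nat_lit 1175), [nat_lit 5, nat_lit 0, nat_lit 4, nat_lit 6, nat_lit 2, nat_lit 6, nat_lit 2, nat_lit 3, nat_lit 5, nat_lit 2, nat_lit 4, nat_lit 1, nat_lit 0, nat_lit 1, nat_lit 0])) (.leaf ((nat_lit 529), [nat_lit 3, nat_lit 2, nat_lit 6, nat_lit 4, nat_lit 0, nat_lit 6, nat_lit 3, nat_lit 4, nat_lit 2, nat_lit 0, nat_lit 2, nat_lit 4, nat_lit 1, nat_lit 3, nat_lit 0])))))
 (.node (nat_lit 1691) (.node (nat_lit 1689) (.leaf ((nat_lit 1176), [nat_lit 0, nat_lit 1, nat_lit 5, nat_lit 6, nat_lit 2, nat_lit 0, nat_lit 5, nat_lit 4, nat_lit 1, nat_lit 0, nat_lit 1])) (.node (nat_lit 1690) (.leaf ((nat_lit 1177), [nat_lit 1, nat_lit 0, nat_lit 6, nat_lit 4, nat_lit 1, nat_lit 0, nat_lit 6, nat_lit 0, nat_lit 5, nat_lit 4, nat_lit 3, nat_lit 4, nat_lit 1, nat_lit 3, nat_lit 2, nat_lit 0])) (.leaf ((nat_lit 1178), [nat_lit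 5, nat_lit 6, nat_lit 4, nat_lit 0, nat_lit 6, nat_lit 5, nat_lit 3, nat_lit 4, nat_lit 1, nat_lit 3, nat_lit 2])))) (.node (nat_lit 1692) (.leaf ((nat_lit 1002), [nat_lit 1, nat_lit 0, nat_lit 6, nat_lit 2, nat_lit 6, nat_lit 4, nat_lit 0, nat_lit 5, nat_lit 2, nat_lit 5, nat_lit 2, nat_lit 0, nat_lit 2])) (.node (nat_lit 1693) (.leaf ((nat_lit 977), [nat_lit 3, nat_lit 2, nat_lit 6, nat_lit 4, nat_lit 1, nat_lit 6, nat_lit 2, nat_lit 4, nat_lit 0, nat_lit 1, nat_lit 4, nat_lit 3, nat_lit 1])) (.leaf ((nat_lit 1179), [nat_lit 6, nat_lit 0, nat_lit 2, nat_lit 0, nat_lit 6, nat_lit 5, nat_lit 1, nat_lit 0, nat_lit 1, nat_lit 0, nat_lit 4, nat_lit 2, nat_lit 0, nat_lit 2, nat_lit 0])))))))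
 (.node (nat_lit 1705) (.node (nat_lit 1699) (.node (nat_lit 1696) (.node (nat_lit 1695) (.leaf ((nat_lit 1180), [nat_lit 4, nat_lit 6, nat_lit 2, nat_lit 4, nat_lit 6, nat_lit 5, nat_lit 2, nat_lit 3, nat_lit 2, nat_lit 4, nat_lit 2, nat_lit 3])) (.leaf ((nat_lit 658), [nat_lit 4, nat_lit 2, nat_lit 6, nat_lit 2, nat_lit 0, nat_lit 6, nat_lit 1, nat_lit 0, nat_lit 4, nat_lit 3, nat_lit 5, nat_lit 1, nat_lit 3]))) (.node (nat_lit 1697) (.leaf ((nat_lit 1181), [nat_lit 5, nat_lit 3, nat_lit 6, nat_lit 2, nat_lit 3, nat_lit 5, nat_lit 4, nat_lit 2, nat_lit 3, nat_lit 2, nat_lit 0])) (.node (nat_lit 1698) (.leaf ((nat_lit 894), [nat_lit 1, nat_lit 6, nat_lit 3, nat_lit 5, nat_lit 6, nat_lit 4, nat_lit 3, nat_lit 0, nat_lit 4, nat_lit 3, nat_lit 1])) (.leaf ((nat_lit 1182), [nat_lit 4, nat_lit 5, nat_lit 6, nat_lit 4, nat_lit 1, nat_lit 0, nat_lit 6,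 nat_lit 0, nat_lit 2, nat_lit 0, nat_lit 5, nat_lit 4, nat_lit 2, nat_lit 3])))))
 (.node (nat_lit 1702) (.node (nat_lit 1700) (.leaf ((nat_lit 162), [nat_lit 0, nat_lit 6, nat_lit 4, nat_lit 1, nat_lit 0, nat_lit 6, nat_lit 5, nat_lit 2, nat_lit 0, nat_lit 2, nat_lit 4, nat_lit 2, nat_lit 3, nat_lit 1, nat_lit 0])) (.node (nat_lit 1701) (.leaf ((nat_lit 243), [nat_lit 0, nat_lit 4, nat_lit 5, nat_lit 6, nat_lit 2, nat_lit 6, nat_lit 0, nat_lit 5, nat_lit 3, nat_lit 2])) (.leaf ((nat_lit 801), [nat_lit 6, nat_lit 4, nat_lit 5, nat_lit 6, nat_lit 0, nat_lit 2, nat_lit 0, nat_lit 4, nat_lit 1, nat_lit 0])))) (.node (nat_lit 1703) (.leaf ((nat_lit 881), [nat_lit 2, nat_lit 4, nat_lit 0, nat_lit 6, nat_lit 3, nat_lit 5, nat_lit 1, nat_lit 5, nat_lit 1, nat_lit 3, nat_lit 2, nat_lit 0])) (.node (nat_lit 1704) (.leaf ((nat_lit 1031), [nat_lit 5, nat_lit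 3, nat_lit 5, nat_lit 6, nat_lit 2, nat_lit 6, nat_lit 1, nat_lit 0, nat_lit 4, nat_lit 5, nat_lit 1, nat_lit 0, nat_lit 1, nat_lit 0])) (.leaf ((nat_lit 1183), [nat_lit 2, nat_lit 0, nat_lit 6, nat_lit 1, nat_lit 6, nat_lit 5, nat_lit 0, nat_lit 4, nat_lit 5, nat_lit 4, nat_lit 0, nat_lit 2]))))))
 (.node (nat_lit 1710) (.node (nat_lit 1707) (.node (nat_lit 1706) (.leaf ((nat_lit 972), [nat_lit 5, nat_lit 4, nat_lit 5, nat_lit 6, nat_lit 4, nat_lit 0, nat_lit 6, nat_lit 5, nat_lit 4, nat_lit 5, nat_lit 1, nat_lit 4, nat_lit 1, nat_lit 0, nat_lit 2])) (.leaf ((nat_lit 1184), [nat_lit 0, nat_lit 1, nat_lit 5, nat_lit 6, nat_lit 2, nat_lit 6, nat_lit 0, nat_lit 4, nat_lit 1, nat_lit 5, nat_lit 2]))) (.node (nat_lit 1708) (.leaf ((nat_lit 1009), [nat_lit 0, nat_lit 4, nat_lit 6, nat_lit 3, nat_lit 0, nat_lit 6, nat_lit 1, nat_lit 0, nat_lit 2, nat_lit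 4, nat_lit 2])) (.node (nat_lit 1709) (.leaf ((nat_lit 873), [nat_lit 0, nat_lit 4, nat_lit 5, nat_lit 6, nat_lit 2, nat_lit 6, nat_lit 5, nat_lit 1, nat_lit 3, nat_lit 2, nat_lit 4, nat_lit 3, nat_lit 1])) (.leaf ((nat_lit 1185), [nat_lit 3, nat_lit 1, nat_lit 6, nat_lit 3, nat_lit 0, nat_lit 6, nat_lit 4, nat_lit 1, nat_lit 0, nat_lit 4, nat_lit 3, nat_lit 2])))))
 (.node (nat_lit 1713) (.node (nat_lit 1711) (.leaf ((nat_lit 1186), [nat_lit 6, nat_lit 1, nat_lit 6, nat_lit 1, nat_lit 0, nat_lit 6, nat_lit 4, nat_lit 0, nat_lit 4, nat_lit 5, nat_lit 4, nat_lit 1, nat_lit 3, nat_lit 1, nat_lit 0])) (.node (nat_lit 1712) (.leaf ((nat_lit 867), [nat_lit 4, nat_lit 2, nat_lit 3, nat_lit 6, nat_lit 1, nat_lit 4, nat_lit 1, nat_lit 4, nat_lit 2, nat_lit 0])) (.leaf ((nat_lit 277), [nat_lit 4, nat_lit 5, nat_lit 6, nat_lit 3, nat_lit 2, nat_lit 6, nat_lit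 4, nat_lit 1, nat_lit 4, nat_lit 2, nat_lit 0, nat_lit 1])))) (.node (nat_lit 1714) (.leaf ((nat_lit 1187), [nat_lit 2, nat_lit 3, nat_lit 6, nat_lit 2, nat_lit 0, nat_lit 6, nat_lit 3, nat_lit 0, nat_lit 5, nat_lit 4, nat_lit 3, nat_lit 2])) (.node (nat_lit 1715) (.leaf ((nat_lit 1188), [nat_lit 1, nat_lit 6, nat_lit 1, nat_lit 4, nat_lit 1, nat_lit 6, nat_lit 2, nat_lit 0, nat_lit 5, nat_lit 4, nat_lit 1, nat_lit 3, nat_lit 2])) (.leaf ((nat_lit 1175), [nat_lit 5, nat_lit 6, nat_lit 2, nat_lit 0, nat_lit 2, nat_lit 6, nat_lit 1, nat_lit 4, nat_lit 5, nat_lit 1, nat_lit 4, nat_lit 0, nat_lit 1]))))))))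
 (.node (nat_lit 1738) (.node (nat_lit 1727) (.node (nat_lit 1721) (.node (nat_lit 1718) (.node (nat_lit 1717) (.leaf ((nat_lit 1189), [nat_lit 3, nat_lit 6, nat_lit 1, nat_lit 0, nat_lit 5, nat_lit 4, nat_lit 2, nat_lit 0, nat_lit 1, nat_lit 0])) (.leaf ((nat_lit 1190), [nat_lit 2, nat_lit 5, nat_lit 6, nat_lit 2, nat_lit 0, nat_lit 6, nat_lit 5, nat_lit 4, nat_lit 5, nat_lit 4, nat_lit 0, nat_lit 1, nat_lit 0]))) (.node (nat_lit 1719) (.leaf ((nat_lit 1191), [nat_lit 4, nat_lit 6, nat_lit 1, nat_lit 0, nat_lit 6, nat_lit 5, nat_lit 1, nat_lit 5, nat_lit 3, nat_lit 4, nat_lit 1, nat_lit 3, nat_lit 2])) (.node (nat_lit 1720) (.leaf ((nat_lit 1192), [nat_lit 2, nat_lit 4, nat_lit 3, nat_lit 6, nat_lit 1, nat_lit 4, nat_lit 5, nat_lit 2, nat_lit 0, nat_lit 2])) (.leaf ((nat_lit 1193), [nat_lit 5, nat_lit 6, nat_lit 1, nat_lit 0, nat_lit 6, nat_lit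 4, nat_lit 1, nat_lit 3, nat_lit 2, nat_lit 0, nat_lit 4, nat_lit 1, nat_lit 3])))))
 (.node (nat_lit 1724) (.node (nat_lit 1722) (.leaf ((nat_lit 1089), [nat_lit 3, nat_lit 6, nat_lit 3, nat_lit 0, nat_lit 6, nat_lit 2, nat_lit 4, nat_lit 3, nat_lit 5, nat_lit 4, nat_lit 0, nat_lit 2, nat_lit 0])) (.node (nat_lit 1723) (.leaf ((nat_lit 1194), [nat_lit 6, nat_lit 5, nat_lit 6, nat_lit 1, nat_lit 6, nat_lit 4, nat_lit 2, nat_lit 0, nat_lit 5, nat_lit 4, nat_lit 2, nat_lit 0])) (.leaf ((nat_lit 1195), [nat_lit 4, nat_lit 6, nat_lit 5, nat_lit 0, nat_lit 2, nat_lit 0, nat_lit 4, nat_lit 2, nat_lit 3, nat_lit 2, nat_lit 0])))) (.node (nat_lit 1725) (.leaf ((nat_lit 470), [nat_lit 2, nat_lit 6, nat_lit 4, nat_lit 1, nat_lit 0, nat_lit 6, nat_lit 4, nat_lit 5, nat_lit 1, nat_lit 5, nat_lit 2, nat_lit 0])) (.node (nat_lit 1726) (.leaf ((nat_lit 689), [nat_lit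 4, nat_lit 3, nat_lit 5, nat_lit 6, nat_lit 2, nat_lit 6, nat_lit 2, nat_lit 0, nat_lit 2, nat_lit 4, nat_lit 1])) (.leaf ((nat_lit 468), [nat_lit 5, nat_lit 3, nat_lit 6, nat_lit 1, nat_lit 4, nat_lit 1, nat_lit 0, nat_lit 4, nat_lit 0, nat_lit 1, nat_lit 0]))))))
 (.node (nat_lit 1732) (.node (nat_lit 1729) (.node (nat_lit 1728) (.leaf ((nat_lit 1196), [nat_lit 4, nat_lit 6, nat_lit 2, nat_lit 0, nat_lit 6, nat_lit 2, nat_lit 3, nat_lit 4, nat_lit 2, nat_lit 3, nat_lit 2])) (.leaf ((nat_lit 1095), [nat_lit 5, nat_lit 0, nat_lit 4, nat_lit 6, nat_lit 2, nat_lit 6, nat_lit 0, nat_lit 4, nat_lit 5, nat_lit 1, nat_lit 4, nat_lit 1, nat_lit 0, nat_lit 1, nat_lit 0]))) (.node (nat_lit 1730) (.leaf ((nat_lit 1197), [nat_lit 5, nat_lit 6, nat_lit 5, nat_lit 1, nat_lit 4, nat_lit 6, nat_lit 1, nat_lit 3, nat_lit 2, nat_lit 0, nat_lit 4, nat_lit 2, nat_lit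 0, nat_lit 2, nat_lit 0])) (.node (nat_lit 1731) (.leaf ((nat_lit 863), [nat_lit 0, nat_lit 4, nat_lit 0, nat_lit 6, nat_lit 5, nat_lit 2, nat_lit 5, nat_lit 1, nat_lit 0, nat_lit 4, nat_lit 1, nat_lit 3, nat_lit 2])) (.leaf ((nat_lit 1198), [nat_lit 4, nat_lit 5, nat_lit 6, nat_lit 4, nat_lit 1, nat_lit 6, nat_lit 4, nat_lit 3, nat_lit 2, nat_lit 0, nat_lit 4, nat_lit 1])))))
 (.node (nat_lit 1735) (.node (nat_lit 1733) (.leaf ((nat_lit 228), [nat_lit 3, nat_lit 5, nat_lit 3, nat_lit 6, nat_lit 3, nat_lit 4, nat_lit 1, nat_lit 4, nat_lit 2, nat_lit 3])) (.node (nat_lit 1734) (.leaf ((nat_lit 1168), [nat_lit 3, nat_lit 1, nat_lit 6, nat_lit 3, nat_lit 0, nat_lit 6, nat_lit 4, nat_lit 3, nat_lit 5, nat_lit 1, nat_lit 0, nat_lit 4, nat_lit 2, nat_lit 3])) (.leaf ((nat_lit 449), [nat_lit 6, nat_lit 4, nat_lit 3, nat_lit 6, nat_lit 2, nat_lit 4, nat_lit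 5, nat_lit 4, nat_lit 1, nat_lit 3])))) (.node (nat_lit 1736) (.leaf ((nat_lit 1199), [nat_lit 6, nat_lit 0, nat_lit 5, nat_lit 3, nat_lit 6, nat_lit 5, nat_lit 0, nat_lit 4, nat_lit 3, nat_lit 4, nat_lit 1, nat_lit 3])) (.node (nat_lit 1737) (.leaf ((nat_lit 1200), [nat_lit 5, nat_lit 0, nat_lit 2, nat_lit 6, nat_lit 5, nat_lit 1, nat_lit 4, nat_lit 5, nat_lit 0, nat_lit 1, nat_lit 0])) (.leaf ((nat_lit 1013), [nat_lit 4, nat_lit 6, nat_lit 1, nat_lit 0, nat_lit 5, nat_lit 4, nat_lit 2, nat_lit 3, nat_lit 2])))))))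
 (.node (nat_lit 1749) (.node (nat_lit 1743) (.node (nat_lit 1740) (.node (nat_lit 1739) (.leaf ((nat_lit 123), [nat_lit 2, nat_lit 3, nat_lit 6, nat_lit 1, nat_lit 5, nat_lit 6, nat_lit 4, nat_lit 2, nat_lit 0, nat_lit 2, nat_lit 4, nat_lit 3])) (.leaf ((nat_lit 1201), [nat_lit 4, nat_lit 0, nat_lit 2, nat_lit 6, nat_lit 4, nat_lit 2, nat_lit 4, nat_lit 0, nat_lit 4, nat_lit 2, nat_lit 0, nat_lit 2, nat_lit 0]))) (.node (nat_lit 1741) (.leaf ((nat_lit 1202), [nat_lit 5, nat_lit 6, nat_lit 3, nat_lit 5, nat_lit 3, nat_lit 6, nat_lit 5, nat_lit 1, nat_lit 5, nat_lit 0, nat_lit 2, nat_lit 4, nat_lit 3, nat_lit 2])) (.node (nat_lit 1742) (.leaf ((nat_lit 1203), [nat_lit 3, nat_lit 6, nat_lit 1, nat_lit 5, nat_lit 6, nat_lit 1, nat_lit 4, nat_lit 5, nat_lit 3, nat_lit 2, nat_lit 0])) (.leaf ((nat_lit 1204), [nat_lit 2, nat_lit 6, nat_lit 5, nat_lit 4,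 nat_lit 2, nat_lit 0, nat_lit 6, nat_lit 0, nat_lit 1, nat_lit 5, nat_lit 3, nat_lit 0, nat_lit 4, nat_lit 1, nat_lit 3, nat_lit 2])))))
 (.node (nat_lit 1746) (.node (nat_lit 1744) (.leaf ((nat_lit 336), [nat_lit 4, nat_lit 5, nat_lit 6, nat_lit 1, nat_lit 0, nat_lit 6, nat_lit 2, nat_lit 4, nat_lit 3, nat_lit 1, nat_lit 0])) (.node (nat_lit 1745) (.leaf ((nat_lit 1067), [nat_lit 5, nat_lit 2, nat_lit 6, nat_lit 1, nat_lit 5, nat_lit 0, nat_lit 4, nat_lit 3])) (.leaf ((nat_lit 1180), [nat_lit 4, nat_lit 1, nat_lit 3, nat_lit 6, nat_lit 5, nat_lit 2, nat_lit 5, nat_lit 1, nat_lit 0, nat_lit 4, nat_lit 1, nat_lit 3])))) (.node (nat_lit 1747) (.leaf ((nat_lit 1205), [nat_lit 1, nat_lit 6, nat_lit 2, nat_lit 0, nat_lit 6, nat_lit 4, nat_lit 2, nat_lit 3, nat_lit 4, nat_lit 2, nat_lit 3, nat_lit 1])) (.node (nat_lit 1748) (.leaf ((nat_lit 76), [nat_lit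 1, nat_lit 5, nat_lit 6, nat_lit 2, nat_lit 0, nat_lit 4, nat_lit 1, nat_lit 4, nat_lit 3, nat_lit 1])) (.leaf ((nat_lit 218), [nat_lit 5, nat_lit 6, nat_lit 4, nat_lit 3, nat_lit 6, nat_lit 4, nat_lit 0, nat_lit 2, nat_lit 4, nat_lit 2, nat_lit 3, nat_lit 1]))))))
 (.node (nat_lit 1754) (.node (nat_lit 1751) (.node (nat_lit 1750) (.leaf ((nat_lit 183), [nat_lit 3, nat_lit 1, nat_lit 5, nat_lit 6, nat_lit 2, nat_lit 6, nat_lit 0, nat_lit 4, nat_lit 1, nat_lit 0, nat_lit 4, nat_lit 1, nat_lit 0])) (.leaf ((nat_lit 577), [nat_lit 5, nat_lit 6, nat_lit 3, nat_lit 6, nat_lit 2, nat_lit 6, nat_lit 5, nat_lit 0, nat_lit 4, nat_lit 1, nat_lit 5, nat_lit 2, nat_lit 0, nat_lit 1, nat_lit 0]))) (.node (nat_lit 1752) (.leaf ((nat_lit 654), [nat_lit 3, nat_lit 2, nat_lit 0, nat_lit 6, nat_lit 2, nat_lit 6, nat_lit 1, nat_lit 3, nat_lit 1, nat_lit 0, nat_lit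 4, nat_lit 1])) (.node (nat_lit 1753) (.leaf ((nat_lit 1206), [nat_lit 2, nat_lit 6, nat_lit 1, nat_lit 4, nat_lit 3, nat_lit 6, nat_lit 4, nat_lit 5, nat_lit 0, nat_lit 4, nat_lit 5, nat_lit 1, nat_lit 0, nat_lit 2, nat_lit 0])) (.leaf ((nat_lit 1207), [nat_lit 0, nat_lit 6, nat_lit 0, nat_lit 1, nat_lit 5, nat_lit 6, nat_lit 2, nat_lit 5, nat_lit 2, nat_lit 0, nat_lit 4, nat_lit 1, nat_lit 0, nat_lit 2])))))
 (.node (nat_lit 1757) (.node (nat_lit 1755) (.leaf ((nat_lit 1208), [nat_lit 2, nat_lit 6, nat_lit 0, nat_lit 1, nat_lit 5, nat_lit 6, nat_lit 3, nat_lit 4, nat_lit 2, nat_lit 0, nat_lit 2, nat_lit 4, nat_lit 2, nat_lit 0, nat_lit 2, nat_lit 0])) (.node (nat_lit 1756) (.leaf ((nat_lit 1209), [nat_lit 5, nat_lit 2, nat_lit 6, nat_lit 1, nat_lit 4, nat_lit 6, nat_lit 5, nat_lit 0, nat_lit 4, nat_lit 0, nat_lit 2])) (.leaf ((nat_lit 1210), [nat_lit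 5, nat_lit 1, nat_lit 6, nat_lit 5, nat_lit 2, nat_lit 0, nat_lit 4, nat_lit 0, nat_lit 2])))) (.node (nat_lit 1758) (.leaf ((nat_lit 1139), [nat_lit 6, nat_lit 1, nat_lit 4, nat_lit 6, nat_lit 1, nat_lit 6, nat_lit 4, nat_lit 2, nat_lit 0, nat_lit 2, nat_lit 4, nat_lit 2])) (.node (nat_lit 1759) (.leaf ((nat_lit 1211), [nat_lit 2, nat_lit 6, nat_lit 0, nat_lit 4, nat_lit 6, nat_lit 4, nat_lit 3, nat_lit 5, nat_lit 3, nat_lit 4, nat_lit 2, nat_lit 3, nat_lit 1, nat_lit 0])) (.leaf ((nat_lit 599), [nat_lit 5, nat_lit 1, nat_lit 6, nat_lit 2, nat_lit 0, nat_lit 6, nat_lit 2, nat_lit 5, nat_lit 3, nat_lit 5, nat_lit 4, nat_lit 3, nat_lit 1]))))))))))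
noncomputable def rWd_10 : Tr (ℕ × List ℕ) := (.node (nat_lit 1848) (.node (nat_lit 1804) (.node (nat_lit 1782) (.node (nat_lit 1771) (.node (nat_lit 1765) (.node (nat_lit 1762) (.node (nat_lit 1761) (.leaf ((nat_lit 983), [nat_lit 4, nat_lit 6, nat_lit 2, nat_lit 3, nat_lit 6, nat_lit 1, nat_lit 4, nat_lit 1, nat_lit 5, nat_lit 0, nat_lit 2])) (.leaf ((nat_lit 709), [nat_lit 4, nat_lit 2, nat_lit 6, nat_lit 2, nat_lit 3, nat_lit 5, nat_lit 4, nat_lit 1, nat_lit 3]))) (.node (nat_lit 1763) (.leaf ((nat_lit 705), [nat_lit 2, nat_lit 6, nat_lit 2, nat_lit 5, nat_lit 6, nat_lit 5, nat_lit 2, nat_lit 0, nat_lit 5, nat_lit 4, nat_lit 0, nat_lit 2])) (.node (nat_lit 1764) (.leaf ((nat_lit 900), [nat_lit 1, nat_lit 6, nat_lit 0, nat_lit 1, nat_lit 5, nat_lit 3, nat_lit 0, nat_lit 4, nat_lit 1, nat_lit 3, nat_lit 2, nat_lit 0])) (.leaf ((nat_lit 1124), [nat_lit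 6, nat_lit 5, nat_lit 4, nat_lit 6, nat_lit 2, nat_lit 4, nat_lit 0, nat_lit 4, nat_lit 3, nat_lit 2])))))
 (.node (nat_lit 1768) (.node (nat_lit 1766) (.leaf ((nat_lit 1212), [nat_lit 0, nat_lit 6, nat_lit 1, nat_lit 6, nat_lit 0, nat_lit 2, nat_lit 6, nat_lit 1, nat_lit 5, nat_lit 3, nat_lit 0, nat_lit 4, nat_lit 2, nat_lit 0, nat_lit 1])) (.node (nat_lit 1767) (.leaf ((nat_lit 1213), [nat_lit 6, nat_lit 2, nat_lit 6, nat_lit 3, nat_lit 2, nat_lit 6, nat_lit 1, nat_lit 3, nat_lit 5, nat_lit 3, nat_lit 4, nat_lit 1, nat_lit 3])) (.leaf ((nat_lit 1214), [nat_lit 6, nat_lit 1, nat_lit 5, nat_lit 6, nat_lit 2, nat_lit 4, nat_lit 1, nat_lit 0, nat_lit 4, nat_lit 2])))) (.node (nat_lit 1769) (.leaf ((nat_lit 1215), [nat_lit 5, nat_lit 6, nat_lit 5, nat_lit 1, nat_lit 6, nat_lit 3, nat_lit 4, nat_lit 0, nat_lit 4, nat_lit 2, nat_lit 3, nat_lit 0])) (.node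 (nat_lit 1770) (.leaf ((nat_lit 1200), [nat_lit 6, nat_lit 3, nat_lit 0, nat_lit 6, nat_lit 5, nat_lit 1, nat_lit 4, nat_lit 5, nat_lit 2, nat_lit 3, nat_lit 0])) (.leaf ((nat_lit 1216), [nat_lit 6, nat_lit 4, nat_lit 3, nat_lit 6, nat_lit 5, nat_lit 3, nat_lit 5, nat_lit 4, nat_lit 1, nat_lit 3, nat_lit 1]))))))
 (.node (nat_lit 1776) (.node (nat_lit 1773) (.node (nat_lit 1772) (.leaf ((nat_lit 1100), [nat_lit 6, nat_lit 5, nat_lit 2, nat_lit 0, nat_lit 6, nat_lit 2, nat_lit 0, nat_lit 4, nat_lit 3, nat_lit 1])) (.leaf ((nat_lit 1217), [nat_lit 3, nat_lit 2, nat_lit 6, nat_lit 4, nat_lit 1, nat_lit 6, nat_lit 2, nat_lit 4, nat_lit 5, nat_lit 0, nat_lit 4, nat_lit 1, nat_lit 3, nat_lit 0]))) (.node (nat_lit 1774) (.leaf ((nat_lit 143), [nat_lit 1, nat_lit 4, nat_lit 6, nat_lit 0, nat_lit 2, nat_lit 6, nat_lit 4, nat_lit 0, nat_lit 4, nat_lit 5, nat_lit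 4, nat_lit 1, nat_lit 3, nat_lit 1])) (.node (nat_lit 1775) (.leaf ((nat_lit 374), [nat_lit 2, nat_lit 5, nat_lit 6, nat_lit 1, nat_lit 6, nat_lit 5, nat_lit 1, nat_lit 4, nat_lit 3])) (.leaf ((nat_lit 1218), [nat_lit 2, nat_lit 6, nat_lit 2, nat_lit 6, nat_lit 4, nat_lit 3, nat_lit 0, nat_lit 4, nat_lit 5, nat_lit 3, nat_lit 2, nat_lit 0])))))
 (.node (nat_lit 1779) (.node (nat_lit 1777) (.leaf ((nat_lit 1061), [nat_lit 2, nat_lit 6, nat_lit 4, nat_lit 1, nat_lit 6, nat_lit 0, nat_lit 4, nat_lit 2, nat_lit 3])) (.node (nat_lit 1778) (.leaf ((nat_lit 1098), [nat_lit 4, nat_lit 6, nat_lit 4, nat_lit 1, nat_lit 6, nat_lit 5, nat_lit 4, nat_lit 5, nat_lit 1, nat_lit 4, nat_lit 1, nat_lit 0, nat_lit 1])) (.leaf ((nat_lit 1207), [nat_lit 6, nat_lit 4, nat_lit 1, nat_lit 0, nat_lit 6, nat_lit 2, nat_lit 4, nat_lit 1, nat_lit 3, nat_lit 4, nat_lit 2]))))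 (.node (nat_lit 1780) (.leaf ((nat_lit 1219), [nat_lit 5, nat_lit 6, nat_lit 5, nat_lit 6, nat_lit 4, nat_lit 1, nat_lit 4, nat_lit 3, nat_lit 0, nat_lit 4, nat_lit 3, nat_lit 2])) (.node (nat_lit 1781) (.leaf ((nat_lit 390), [nat_lit 3, nat_lit 1, nat_lit 6, nat_lit 1, nat_lit 6, nat_lit 2, nat_lit 3, nat_lit 1, nat_lit 0, nat_lit 4, nat_lit 1, nat_lit 3, nat_lit 1, nat_lit 0])) (.leaf ((nat_lit 754), [nat_lit 0, nat_lit 6, nat_lit 2, nat_lit 6, nat_lit 4, nat_lit 0, nat_lit 6, nat_lit 3, nat_lit 4, nat_lit 0])))))))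
 (.node (nat_lit 1793) (.node (nat_lit 1787) (.node (nat_lit 1784) (.node (nat_lit 1783) (.leaf ((nat_lit 364), [nat_lit 3, nat_lit 5, nat_lit 0, nat_lit 6, nat_lit 2, nat_lit 0, nat_lit 5, nat_lit 2, nat_lit 3, nat_lit 0])) (.leaf ((nat_lit 672), [nat_lit 4, nat_lit 5, nat_lit 6, nat_lit 4, nat_lit 1, nat_lit 6, nat_lit 1, nat_lit 3, nat_lit 5, nat_lit 4, nat_lit 2, nat_lit 3, nat_lit 1, nat_lit 0]))) (.node (nat_lit 1785) (.leaf ((nat_lit 101), [nat_lit 2, nat_lit 6, nat_lit 3, nat_lit 0, nat_lit 6, nat_lit 2, nat_lit 5, nat_lit 4, nat_lit 5, nat_lit 3, nat_lit 1, nat_lit 0])) (.node (nat_lit 1786) (.leaf ((nat_lit 1220), [nat_lit 2, nat_lit 5, nat_lit 0, nat_lit 6, nat_lit 5, nat_lit 2, nat_lit 4, nat_lit 1, nat_lit 3, nat_lit 0])) (.leaf ((nat_lit 884), [nat_lit 1, nat_lit 6, nat_lit 0, nat_lit 4, nat_lit 6, nat_lit 4, nat_lit 5, nat_lit 3, nat_lit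 2])))))
 (.node (nat_lit 1790) (.node (nat_lit 1788) (.leaf ((nat_lit 1221), [nat_lit 1, nat_lit 5, nat_lit 6, nat_lit 1, nat_lit 0, nat_lit 6, nat_lit 4, nat_lit 2, nat_lit 0, nat_lit 4, nat_lit 5, nat_lit 2, nat_lit 3, nat_lit 2])) (.node (nat_lit 1789) (.leaf ((nat_lit 1222), [nat_lit 6, nat_lit 4, nat_lit 5, nat_lit 6, nat_lit 0, nat_lit 1, nat_lit 4, nat_lit 3, nat_lit 0, nat_lit 4, nat_lit 1, nat_lit 3, nat_lit 2])) (.leaf ((nat_lit 39), [nat_lit 0, nat_lit 2, nat_lit 6, nat_lit 4, nat_lit 0, nat_lit 6, nat_lit 1, nat_lit 3, nat_lit 5, nat_lit 3, nat_lit 4, nat_lit 0])))) (.node (nat_lit 1791) (.leaf ((nat_lit 1223), [nat_lit 6, nat_lit 2, nat_lit 3, nat_lit 6, nat_lit 0, nat_lit 4, nat_lit 1, nat_lit 5, nat_lit 1, nat_lit 0, nat_lit 1])) (.node (nat_lit 1792) (.leaf ((nat_lit 1224), [nat_lit 3, nat_lit 6, nat_lit 4, nat_lit 1, nat_lit 6, nat_lit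 1, nat_lit 5, nat_lit 3, nat_lit 4, nat_lit 0, nat_lit 2, nat_lit 0])) (.leaf ((nat_lit 769), [nat_lit 5, nat_lit 1, nat_lit 0, nat_lit 6, nat_lit 0, nat_lit 4, nat_lit 1, nat_lit 4, nat_lit 3, nat_lit 2]))))))
 (.node (nat_lit 1798) (.node (nat_lit 1795) (.node (nat_lit 1794) (.leaf ((nat_lit 804), [nat_lit 5, nat_lit 4, nat_lit 6, nat_lit 4, nat_lit 0, nat_lit 1, nat_lit 5, nat_lit 4, nat_lit 0, nat_lit 1, nat_lit 0])) (.leaf ((nat_lit 458), [nat_lit 1, nat_lit 5, nat_lit 6, nat_lit 1, nat_lit 0, nat_lit 6, nat_lit 1, nat_lit 4, nat_lit 5, nat_lit 2, nat_lit 5, nat_lit 1, nat_lit 3, nat_lit 2, nat_lit 0]))) (.node (nat_lit 1796) (.leaf ((nat_lit 1184), [nat_lit 2, nat_lit 4, nat_lit 6, nat_lit 4, nat_lit 2, nat_lit 3, nat_lit 2, nat_lit 4, nat_lit 3])) (.node (nat_lit 1797) (.leaf ((nat_lit 1167), [nat_lit 5, nat_lit 4, nat_lit 6, nat_lit 4, nat_lit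 0, nat_lit 5, nat_lit 4, nat_lit 0, nat_lit 2, nat_lit 0])) (.leaf ((nat_lit 387), [nat_lit 1, nat_lit 6, nat_lit 5, nat_lit 6, nat_lit 3, nat_lit 6, nat_lit 3, nat_lit 5, nat_lit 2])))))
 (.node (nat_lit 1801) (.node (nat_lit 1799) (.leaf ((nat_lit 198), [nat_lit 0, nat_lit 5, nat_lit 2, nat_lit 6, nat_lit 2, nat_lit 6, nat_lit 5, nat_lit 3, nat_lit 4, nat_lit 2, nat_lit 0])) (.node (nat_lit 1800) (.leaf ((nat_lit 1225), [nat_lit 1, nat_lit 0, nat_lit 6, nat_lit 3, nat_lit 4, nat_lit 1, nat_lit 4, nat_lit 2, nat_lit 0])) (.leaf ((nat_lit 75), [nat_lit 6, nat_lit 4, nat_lit 5, nat_lit 4, nat_lit 6, nat_lit 3, nat_lit 2, nat_lit 5, nat_lit 1, nat_lit 0, nat_lit 4, nat_lit 3, nat_lit 1, nat_lit 0])))) (.node (nat_lit 1802) (.leaf ((nat_lit 177), [nat_lit 1, nat_lit 5, nat_lit 0, nat_lit 6, nat_lit 1, nat_lit 6, nat_lit 4, nat_lit 3, nat_lit 2, nat_lit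 4, nat_lit 0, nat_lit 2, nat_lit 0])) (.node (nat_lit 1803) (.leaf ((nat_lit 1226), [nat_lit 4, nat_lit 1, nat_lit 0, nat_lit 6, nat_lit 2, nat_lit 6, nat_lit 1, nat_lit 0, nat_lit 4, nat_lit 5, nat_lit 2, nat_lit 0, nat_lit 1])) (.leaf ((nat_lit 781), [nat_lit 6, nat_lit 4, nat_lit 1, nat_lit 6, nat_lit 2, nat_lit 6, nat_lit 5, nat_lit 4, nat_lit 0, nat_lit 2, nat_lit 4, nat_lit 2, nat_lit 0]))))))))
 (.node (nat_lit 1826) (.node (nat_lit 1815) (.node (nat_lit 1809) (.node (nat_lit 1806) (.node (nat_lit 1805) (.leaf ((nat_lit 1227), [nat_lit 3, nat_lit 6, nat_lit 0, nat_lit 1, nat_lit 5, nat_lit 6, nat_lit 0, nat_lit 5, nat_lit 3, nat_lit 0, nat_lit 4, nat_lit 0])) (.leaf ((nat_lit 1228), [nat_lit 5, nat_lit 6, nat_lit 3, nat_lit 6, nat_lit 2, nat_lit 6, nat_lit 5, nat_lit 2, nat_lit 5, nat_lit 1, nat_lit 0, nat_lit 4, nat_lit 3, nat_lit 1, nat_lit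 0]))) (.node (nat_lit 1807) (.leaf ((nat_lit 128), [nat_lit 6, nat_lit 1, nat_lit 4, nat_lit 1, nat_lit 6, nat_lit 4, nat_lit 3, nat_lit 2, nat_lit 0, nat_lit 4, nat_lit 1, nat_lit 3, nat_lit 2, nat_lit 0])) (.node (nat_lit 1808) (.leaf ((nat_lit 21), [nat_lit 0, nat_lit 5, nat_lit 6, nat_lit 1, nat_lit 6, nat_lit 3, nat_lit 4, nat_lit 1, nat_lit 3, nat_lit 4, nat_lit 3, nat_lit 2])) (.leaf ((nat_lit 1229), [nat_lit 6, nat_lit 5, nat_lit 4, nat_lit 6, nat_lit 2, nat_lit 6, nat_lit 5, nat_lit 4, nat_lit 5, nat_lit 1, nat_lit 3, nat_lit 2])))))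
 (.node (nat_lit 1812) (.node (nat_lit 1810) (.leaf ((nat_lit 1084), [nat_lit 1, nat_lit 6, nat_lit 5, nat_lit 1, nat_lit 6, nat_lit 2, nat_lit 0, nat_lit 4])) (.node (nat_lit 1811) (.leaf ((nat_lit 402), [nat_lit 4, nat_lit 1, nat_lit 6, nat_lit 2, nat_lit 6, nat_lit 3, nat_lit 1, nat_lit 5, nat_lit 3, nat_lit 4, nat_lit 3, nat_lit 1, nat_lit 0])) (.leaf ((nat_lit 462), [nat_lit 2, nat_lit 5, nat_lit 6, nat_lit 2, nat_lit 6, nat_lit 4, nat_lit 5, nat_lit 1, nat_lit 3, nat_lit 0, nat_lit 4, nat_lit 2, nat_lit 3, nat_lit 2])))) (.node (nat_lit 1813) (.leaf ((nat_lit 1097), [nat_lit 2, nat_lit 0, nat_lit 6, nat_lit 4, nat_lit 1, nat_lit 0, nat_lit 4, nat_lit 3, nat_lit 1, nat_lit 0])) (.node (nat_lit 1814) (.leaf ((nat_lit 1230), [nat_lit 2, nat_lit 6, nat_lit 5, nat_lit 2, nat_lit 4, nat_lit 6, nat_lit 4, nat_lit 5, nat_lit 1, nat_lit 3, nat_lit 0,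 nat_lit 4, nat_lit 2, nat_lit 0])) (.leaf ((nat_lit 1231), [nat_lit 2, nat_lit 6, nat_lit 5, nat_lit 3, nat_lit 6, nat_lit 4, nat_lit 0, nat_lit 2, nat_lit 4, nat_lit 0, nat_lit 1]))))))
 (.node (nat_lit 1820) (.node (nat_lit 1817) (.node (nat_lit 1816) (.leaf ((nat_lit 1232), [nat_lit 5, nat_lit 6, nat_lit 2, nat_lit 3, nat_lit 6, nat_lit 3, nat_lit 1, nat_lit 0, nat_lit 4, nat_lit 0, nat_lit 1, nat_lit 0])) (.leaf ((nat_lit 380), [nat_lit 5, nat_lit 2, nat_lit 4, nat_lit 6, nat_lit 1, nat_lit 0, nat_lit 6, nat_lit 4, nat_lit 2, nat_lit 0, nat_lit 2, nat_lit 4, nat_lit 0]))) (.node (nat_lit 1818) (.leaf ((nat_lit 296), [nat_lit 4, nat_lit 5, nat_lit 6, nat_lit 4, nat_lit 1, nat_lit 6, nat_lit 1, nat_lit 3, nat_lit 5, nat_lit 2, nat_lit 4, nat_lit 0, nat_lit 2, nat_lit 0])) (.node (nat_lit 1819) (.leaf ((nat_lit 1169), [nat_lit 6, nat_lit 0, nat_lit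 4, nat_lit 5, nat_lit 6, nat_lit 3, nat_lit 5, nat_lit 1, nat_lit 3, nat_lit 1, nat_lit 0])) (.leaf ((nat_lit 953), [nat_lit 6, nat_lit 3, nat_lit 4, nat_lit 2, nat_lit 0, nat_lit 6, nat_lit 0, nat_lit 4, nat_lit 1, nat_lit 0, nat_lit 4, nat_lit 3, nat_lit 1])))))
 (.node (nat_lit 1823) (.node (nat_lit 1821) (.leaf ((nat_lit 52), [nat_lit 5, nat_lit 1, nat_lit 6, nat_lit 2, nat_lit 4, nat_lit 6, nat_lit 2, nat_lit 5, nat_lit 3, nat_lit 0, nat_lit 4, nat_lit 2, nat_lit 3, nat_lit 1])) (.node (nat_lit 1822) (.leaf ((nat_lit 1233), [nat_lit 0, nat_lit 6, nat_lit 2, nat_lit 0, nat_lit 6, nat_lit 5, nat_lit 1, nat_lit 4, nat_lit 1, nat_lit 0, nat_lit 4, nat_lit 1, nat_lit 3, nat_lit 1, nat_lit 0])) (.leaf ((nat_lit 1234), [nat_lit 4, nat_lit 1, nat_lit 6, nat_lit 4, nat_lit 3, nat_lit 2, nat_lit 0, nat_lit 4, nat_lit 1, nat_lit 3, nat_lit 2])))) (.node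 (nat_lit 1824) (.leaf ((nat_lit 1235), [nat_lit 2, nat_lit 6, nat_lit 4, nat_lit 0, nat_lit 6, nat_lit 2, nat_lit 0, nat_lit 5, nat_lit 2, nat_lit 4, nat_lit 1, nat_lit 3, nat_lit 2])) (.node (nat_lit 1825) (.leaf ((nat_lit 1236), [nat_lit 2, nat_lit 0, nat_lit 4, nat_lit 2, nat_lit 6, nat_lit 1, nat_lit 4, nat_lit 0, nat_lit 4, nat_lit 2, nat_lit 3, nat_lit 1])) (.leaf ((nat_lit 1021), [nat_lit 6, nat_lit 1, nat_lit 6, nat_lit 5, nat_lit 1, nat_lit 6, nat_lit 2, nat_lit 5, nat_lit 1, nat_lit 0, nat_lit 4, nat_lit 1, nat_lit 0, nat_lit 1])))))))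
 (.node (nat_lit 1837) (.node (nat_lit 1831) (.node (nat_lit 1828) (.node (nat_lit 1827) (.leaf ((nat_lit 1045), [nat_lit 6, nat_lit 3, nat_lit 5, nat_lit 6, nat_lit 4, nat_lit 1, nat_lit 4, nat_lit 2, nat_lit 4, nat_lit 3, nat_lit 1])) (.leaf ((nat_lit 702), [nat_lit 6, nat_lit 1, nat_lit 6, nat_lit 0, nat_lit 2, nat_lit 6, nat_lit 5, nat_lit 2, nat_lit 0, nat_lit 2, nat_lit 4, nat_lit 2, nat_lit 3, nat_lit 1]))) (.node (nat_lit 1829) (.leaf ((nat_lit 1228), [nat_lit 3, nat_lit 6, nat_lit 2, nat_lit 4, nat_lit 6, nat_lit 1, nat_lit 4, nat_lit 2, nat_lit 4, nat_lit 3, nat_lit 2])) (.node (nat_lit 1830) (.leaf ((nat_lit 944), [nat_lit 0, nat_lit 4, nat_lit 1, nat_lit 6, nat_lit 5, nat_lit 2, nat_lit 3, nat_lit 4, nat_lit 1, nat_lit 0, nat_lit 1])) (.leaf ((nat_lit 1196), [nat_lit 4, nat_lit 2, nat_lit 0, nat_lit 6, nat_lit 2, nat_lit 6, nat_lit 1,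 nat_lit 0, nat_lit 2, nat_lit 4, nat_lit 2, nat_lit 0, nat_lit 2, nat_lit 0])))))
 (.node (nat_lit 1834) (.node (nat_lit 1832) (.leaf ((nat_lit 988), [nat_lit 3, nat_lit 5, nat_lit 3, nat_lit 6, nat_lit 4, nat_lit 1, nat_lit 5, nat_lit 2, nat_lit 5])) (.node (nat_lit 1833) (.leaf ((nat_lit 1147), [nat_lit 0, nat_lit 2, nat_lit 0, nat_lit 6, nat_lit 1, nat_lit 6, nat_lit 1, nat_lit 0, nat_lit 4, nat_lit 5, nat_lit 3, nat_lit 0])) (.leaf ((nat_lit 746), [nat_lit 1, nat_lit 6, nat_lit 1, nat_lit 4, nat_lit 3, nat_lit 6, nat_lit 3, nat_lit 4, nat_lit 0, nat_lit 4, nat_lit 1, nat_lit 3, nat_lit 1])))) (.node (nat_lit 1835) (.leaf ((nat_lit 1237), [nat_lit 4, nat_lit 3, nat_lit 6, nat_lit 2, nat_lit 0, nat_lit 6, nat_lit 5, nat_lit 4, nat_lit 2, nat_lit 3, nat_lit 4, nat_lit 2, nat_lit 3, nat_lit 2])) (.node (nat_lit 1836) (.leaf ((nat_lit 667), [nat_lit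 6, nat_lit 0, nat_lit 1, nat_lit 6, nat_lit 1, nat_lit 6, nat_lit 5, nat_lit 3, nat_lit 5, nat_lit 4, nat_lit 2, nat_lit 0, nat_lit 2, nat_lit 0])) (.leaf ((nat_lit 1238), [nat_lit 6, nat_lit 5, nat_lit 6, nat_lit 5, nat_lit 2, nat_lit 5, nat_lit 2, nat_lit 4, nat_lit 1, nat_lit 0, nat_lit 2]))))))
 (.node (nat_lit 1842) (.node (nat_lit 1839) (.node (nat_lit 1838) (.leaf ((nat_lit 1239), [nat_lit 6, nat_lit 1, nat_lit 6, nat_lit 5, nat_lit 4, nat_lit 0, nat_lit 1, nat_lit 0])) (.leaf ((nat_lit 1092), [nat_lit 3, nat_lit 6, nat_lit 0, nat_lit 5, nat_lit 3, nat_lit 6, nat_lit 2, nat_lit 5, nat_lit 3]))) (.node (nat_lit 1840) (.leaf ((nat_lit 375), [nat_lit 5, nat_lit 6, nat_lit 1, nat_lit 6, nat_lit 4, nat_lit 1, nat_lit 5, nat_lit 1, nat_lit 0, nat_lit 2])) (.node (nat_lit 1841) (.leaf ((nat_lit 1240), [nat_lit 4, nat_lit 6, nat_lit 1, nat_lit 6,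 nat_lit 2, nat_lit 6, nat_lit 5, nat_lit 4, nat_lit 0, nat_lit 5, nat_lit 1, nat_lit 3, nat_lit 0])) (.leaf ((nat_lit 1027), [nat_lit 6, nat_lit 1, nat_lit 6, nat_lit 5, nat_lit 3, nat_lit 6, nat_lit 1, nat_lit 0, nat_lit 4, nat_lit 3, nat_lit 5, nat_lit 3, nat_lit 2, nat_lit 0])))))
 (.node (nat_lit 1845) (.node (nat_lit 1843) (.leaf ((nat_lit 1241), [nat_lit 1, nat_lit 6, nat_lit 5, nat_lit 3, nat_lit 6, nat_lit 4, nat_lit 5, nat_lit 1, nat_lit 5, nat_lit 4, nat_lit 3, nat_lit 0])) (.node (nat_lit 1844) (.leaf ((nat_lit 1242), [nat_lit 4, nat_lit 6, nat_lit 4, nat_lit 0, nat_lit 2, nat_lit 6, nat_lit 1, nat_lit 0, nat_lit 4, nat_lit 5, nat_lit 2, nat_lit 3])) (.leaf ((nat_lit 1243), [nat_lit 5, nat_lit 0, nat_lit 2, nat_lit 6, nat_lit 1, nat_lit 6, nat_lit 5, nat_lit 1, nat_lit 3, nat_lit 0, nat_lit 4, nat_lit 1, nat_lit 0, nat_lit 2, nat_lit 0]))))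 (.node (nat_lit 1846) (.leaf ((nat_lit 536), [nat_lit 5, nat_lit 6, nat_lit 2, nat_lit 0, nat_lit 2, nat_lit 6, nat_lit 5, nat_lit 2, nat_lit 5, nat_lit 1, nat_lit 0, nat_lit 4])) (.node (nat_lit 1847) (.leaf ((nat_lit 1187), [nat_lit 5, nat_lit 6, nat_lit 5, nat_lit 1, nat_lit 6, nat_lit 1, nat_lit 3, nat_lit 4, nat_lit 1, nat_lit 3, nat_lit 2, nat_lit 0])) (.leaf ((nat_lit 556), [nat_lit 3, nat_lit 6, nat_lit 5, nat_lit 4, nat_lit 6, nat_lit 2, nat_lit 4, nat_lit 5, nat_lit 0, nat_lit 4, nat_lit 2, nat_lit 3, nat_lit 2])))))))))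
 (.node (nat_lit 1892) (.node (nat_lit 1870) (.node (nat_lit 1859) (.node (nat_lit 1853) (.node (nat_lit 1850) (.node (nat_lit 1849) (.leaf ((nat_lit 1244), [nat_lit 6, nat_lit 0, nat_lit 1, nat_lit 6, nat_lit 1, nat_lit 6, nat_lit 2, nat_lit 5, nat_lit 4, nat_lit 1, nat_lit 3, nat_lit 0])) (.leaf ((nat_lit 1245), [nat_lit 0, nat_lit 6, nat_lit 0, nat_lit 4, nat_lit 1, nat_lit 6, nat_lit 0, nat_lit 4, nat_lit 5, nat_lit 3, nat_lit 2, nat_lit 0]))) (.node (nat_lit 1851) (.leaf ((nat_lit 640), [nat_lit 5, nat_lit 6, nat_lit 2, nat_lit 0, nat_lit 6, nat_lit 2, nat_lit 5, nat_lit 3, nat_lit 4, nat_lit 0, nat_lit 1, nat_lit 0])) (.node (nat_lit 1852) (.leaf ((nat_lit 1189), [nat_lit 6, nat_lit 0, nat_lit 2, nat_lit 6, nat_lit 5, nat_lit 2, nat_lit 5, nat_lit 3, nat_lit 4, nat_lit 1, nat_lit 0, nat_lit 1])) (.leaf ((nat_lit 1246), [nat_lit 3, nat_lit 5,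 nat_lit 6, nat_lit 5, nat_lit 2, nat_lit 6, nat_lit 2, nat_lit 0, nat_lit 4, nat_lit 5, nat_lit 1, nat_lit 3, nat_lit 0])))))
 (.node (nat_lit 1856) (.node (nat_lit 1854) (.leaf ((nat_lit 1247), [nat_lit 5, nat_lit 6, nat_lit 4, nat_lit 3, nat_lit 5, nat_lit 3])) (.node (nat_lit 1855) (.leaf ((nat_lit 860), [nat_lit 0, nat_lit 6, nat_lit 3, nat_lit 4, nat_lit 2, nat_lit 0, nat_lit 6, nat_lit 3, nat_lit 4, nat_lit 5, nat_lit 0, nat_lit 4, nat_lit 1, nat_lit 3, nat_lit 2])) (.leaf ((nat_lit 1248), [nat_lit 6, nat_lit 5, nat_lit 1, nat_lit 6, nat_lit 3, nat_lit 4, nat_lit 0, nat_lit 2, nat_lit 5, nat_lit 2, nat_lit 3, nat_lit 2, nat_lit 0])))) (.node (nat_lit 1857) (.leaf ((nat_lit 1249), [nat_lit 0, nat_lit 6, nat_lit 1, nat_lit 0, nat_lit 6, nat_lit 4, nat_lit 0, nat_lit 5, nat_lit 4, nat_lit 2, nat_lit 3, nat_lit 2, nat_lit 0])) (.node (nat_lit 1858)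 (.leaf ((nat_lit 1250), [nat_lit 3, nat_lit 2, nat_lit 6, nat_lit 4, nat_lit 2, nat_lit 6, nat_lit 4, nat_lit 5, nat_lit 1, nat_lit 4, nat_lit 2, nat_lit 0, nat_lit 1])) (.leaf ((nat_lit 2), [nat_lit 1, nat_lit 3, nat_lit 6, nat_lit 4, nat_lit 0, nat_lit 6, nat_lit 5, nat_lit 1, nat_lit 5, nat_lit 3, nat_lit 4, nat_lit 2, nat_lit 3, nat_lit 1, nat_lit 0]))))))
 (.node (nat_lit 1864) (.node (nat_lit 1861) (.node (nat_lit 1860) (.leaf ((nat_lit 986), [nat_lit 4, nat_lit 0, nat_lit 6, nat_lit 2, nat_lit 6, nat_lit 1, nat_lit 5, nat_lit 4, nat_lit 2, nat_lit 0, nat_lit 4, nat_lit 2, nat_lit 0, nat_lit 1, nat_lit 0])) (.leaf ((nat_lit 344), [nat_lit 1, nat_lit 6, nat_lit 2, nat_lit 4, nat_lit 6, nat_lit 0, nat_lit 5, nat_lit 3, nat_lit 1]))) (.node (nat_lit 1862) (.leaf ((nat_lit 1251), [nat_lit 3, nat_lit 0, nat_lit 6, nat_lit 2, nat_lit 6, nat_lit 0,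 nat_lit 2, nat_lit 4, nat_lit 5, nat_lit 3, nat_lit 2])) (.node (nat_lit 1863) (.leaf ((nat_lit 46), [nat_lit 5, nat_lit 6, nat_lit 3, nat_lit 6, nat_lit 5, nat_lit 2, nat_lit 4, nat_lit 3, nat_lit 4, nat_lit 1])) (.leaf ((nat_lit 1142), [nat_lit 3, nat_lit 6, nat_lit 0, nat_lit 2, nat_lit 6, nat_lit 0, nat_lit 4, nat_lit 0, nat_lit 5, nat_lit 2, nat_lit 0, nat_lit 1, nat_lit 0])))))
 (.node (nat_lit 1867) (.node (nat_lit 1865) (.leaf ((nat_lit 1173), [nat_lit 4, nat_lit 6, nat_lit 3, nat_lit 5, nat_lit 0, nat_lit 6, nat_lit 3, nat_lit 4, nat_lit 0, nat_lit 2, nat_lit 5, nat_lit 2, nat_lit 0])) (.node (nat_lit 1866) (.leaf ((nat_lit 1119), [nat_lit 0, nat_lit 2, nat_lit 0, nat_lit 6, nat_lit 2, nat_lit 5, nat_lit 2, nat_lit 4, nat_lit 0, nat_lit 2])) (.leaf ((nat_lit 869), [nat_lit 5, nat_lit 3, nat_lit 6, nat_lit 4, nat_lit 0, nat_lit 6, nat_lit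 2, nat_lit 0, nat_lit 4, nat_lit 1, nat_lit 4, nat_lit 2, nat_lit 0, nat_lit 2, nat_lit 0])))) (.node (nat_lit 1868) (.leaf ((nat_lit 1252), [nat_lit 4, nat_lit 6, nat_lit 4, nat_lit 5, nat_lit 4, nat_lit 6, nat_lit 1, nat_lit 3, nat_lit 2, nat_lit 0, nat_lit 4, nat_lit 2, nat_lit 3, nat_lit 2, nat_lit 0])) (.node (nat_lit 1869) (.leaf ((nat_lit 357), [nat_lit 0, nat_lit 5, nat_lit 3, nat_lit 6, nat_lit 3, nat_lit 4, nat_lit 1, nat_lit 4, nat_lit 2])) (.leaf ((nat_lit 131), [nat_lit 3, nat_lit 5, nat_lit 6, nat_lit 5, nat_lit 2, nat_lit 6, nat_lit 0, nat_lit 4, nat_lit 5, nat_lit 0, nat_lit 2, nat_lit 0])))))))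
 (.node (nat_lit 1881) (.node (nat_lit 1875) (.node (nat_lit 1872) (.node (nat_lit 1871) (.leaf ((nat_lit 1253), [nat_lit 6, nat_lit 3, nat_lit 6, nat_lit 5, nat_lit 6, nat_lit 1, nat_lit 3, nat_lit 4, nat_lit 3, nat_lit 0])) (.leaf ((nat_lit 1223), [nat_lit 1, nat_lit 0, nat_lit 6, nat_lit 1, nat_lit 6, nat_lit 2, nat_lit 5, nat_lit 4, nat_lit 1, nat_lit 3, nat_lit 1, nat_lit 0]))) (.node (nat_lit 1873) (.leaf ((nat_lit 1254), [nat_lit 0, nat_lit 6, nat_lit 2, nat_lit 4, nat_lit 0, nat_lit 6, nat_lit 0, nat_lit 4, nat_lit 3, nat_lit 4, nat_lit 2, nat_lit 3])) (.node (nat_lit 1874) (.leaf ((nat_lit 133), [nat_lit 5, nat_lit 0, nat_lit 4, nat_lit 6, nat_lit 2, nat_lit 6, nat_lit 5, nat_lit 4, nat_lit 5, nat_lit 4, nat_lit 0, nat_lit 2])) (.leaf ((nat_lit 1120), [nat_lit 6, nat_lit 5, nat_lit 2, nat_lit 0, nat_lit 6, nat_lit 1, nat_lit 4, nat_lit 5,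 nat_lit 1, nat_lit 3, nat_lit 2, nat_lit 0])))))
 (.node (nat_lit 1878) (.node (nat_lit 1876) (.leaf ((nat_lit 759), [nat_lit 6, nat_lit 3, nat_lit 6, nat_lit 4, nat_lit 0, nat_lit 6, nat_lit 1, nat_lit 4, nat_lit 5, nat_lit 2, nat_lit 5, nat_lit 3])) (.node (nat_lit 1877) (.leaf ((nat_lit 60), [nat_lit 6, nat_lit 1, nat_lit 3, nat_lit 5, nat_lit 6, nat_lit 1, nat_lit 4, nat_lit 0, nat_lit 4, nat_lit 2])) (.leaf ((nat_lit 1238), [nat_lit 6, nat_lit 4, nat_lit 0, nat_lit 6, nat_lit 1, nat_lit 6, nat_lit 5, nat_lit 4, nat_lit 5, nat_lit 2, nat_lit 3, nat_lit 2])))) (.node (nat_lit 1879) (.leaf ((nat_lit 518), [nat_lit 6, nat_lit 3, nat_lit 6, nat_lit 0, nat_lit 2, nat_lit 4, nat_lit 5, nat_lit 3, nat_lit 0])) (.node (nat_lit 1880) (.leaf ((nat_lit 521), [nat_lit 1, nat_lit 4, nat_lit 0, nat_lit 6, nat_lit 2, nat_lit 6, nat_lit 1, nat_lit 0, nat_lit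 2, nat_lit 4, nat_lit 0, nat_lit 1, nat_lit 0])) (.leaf ((nat_lit 1055), [nat_lit 5, nat_lit 6, nat_lit 2, nat_lit 6, nat_lit 5, nat_lit 0, nat_lit 4, nat_lit 0]))))))
 (.node (nat_lit 1886) (.node (nat_lit 1883) (.node (nat_lit 1882) (.leaf ((nat_lit 914), [nat_lit 6, nat_lit 0, nat_lit 2, nat_lit 5, nat_lit 0, nat_lit 6, nat_lit 0, nat_lit 5, nat_lit 2, nat_lit 0, nat_lit 4, nat_lit 1, nat_lit 3, nat_lit 2, nat_lit 0])) (.leaf ((nat_lit 669), [nat_lit 2, nat_lit 6, nat_lit 4, nat_lit 0, nat_lit 6, nat_lit 5, nat_lit 2, nat_lit 4, nat_lit 3, nat_lit 4, nat_lit 1, nat_lit 0]))) (.node (nat_lit 1884) (.leaf ((nat_lit 345), [nat_lit 5, nat_lit 0, nat_lit 4, nat_lit 6, nat_lit 2, nat_lit 6, nat_lit 4, nat_lit 2, nat_lit 0, nat_lit 4, nat_lit 0, nat_lit 1])) (.node (nat_lit 1885) (.leaf ((nat_lit 997), [nat_lit 5, nat_lit 6, nat_lit 3, nat_lit 5, nat_lit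 0, nat_lit 6, nat_lit 1, nat_lit 5, nat_lit 4, nat_lit 1, nat_lit 4, nat_lit 1, nat_lit 3, nat_lit 0])) (.leaf ((nat_lit 572), [nat_lit 5, nat_lit 0, nat_lit 6, nat_lit 4, nat_lit 1, nat_lit 3, nat_lit 2, nat_lit 0, nat_lit 4, nat_lit 1, nat_lit 0, nat_lit 1])))))
 (.node (nat_lit 1889) (.node (nat_lit 1887) (.leaf ((nat_lit 1220), [nat_lit 6, nat_lit 1, nat_lit 6, nat_lit 4, nat_lit 0, nat_lit 6, nat_lit 2, nat_lit 4, nat_lit 3, nat_lit 5, nat_lit 4, nat_lit 0, nat_lit 1])) (.node (nat_lit 1888) (.leaf ((nat_lit 1255), [nat_lit 4, nat_lit 0, nat_lit 6, nat_lit 1, nat_lit 6, nat_lit 0, nat_lit 1, nat_lit 5, nat_lit 3, nat_lit 0, nat_lit 4, nat_lit 2, nat_lit 3, nat_lit 2, nat_lit 0])) (.leaf ((nat_lit 1256), [nat_lit 3, nat_lit 6, nat_lit 4, nat_lit 3, nat_lit 6, nat_lit 5, nat_lit 2, nat_lit 0, nat_lit 2, nat_lit 0, nat_lit 4])))) (.node (nat_lit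 1890) (.leaf ((nat_lit 606), [nat_lit 0, nat_lit 2, nat_lit 5, nat_lit 0, nat_lit 6, nat_lit 3, nat_lit 0, nat_lit 4, nat_lit 1, nat_lit 5, nat_lit 1, nat_lit 0, nat_lit 2, nat_lit 0])) (.node (nat_lit 1891) (.leaf ((nat_lit 676), [nat_lit 3, nat_lit 1, nat_lit 6, nat_lit 1, nat_lit 6, nat_lit 2, nat_lit 4, nat_lit 1, nat_lit 4, nat_lit 3, nat_lit 1])) (.leaf ((nat_lit 1257), [nat_lit 5, nat_lit 6, nat_lit 3, nat_lit 5, nat_lit 0, nat_lit 6, nat_lit 5, nat_lit 4, nat_lit 0, nat_lit 5, nat_lit 4, nat_lit 3]))))))))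
 (.node (nat_lit 1914) (.node (nat_lit 1903) (.node (nat_lit 1897) (.node (nat_lit 1894) (.node (nat_lit 1893) (.leaf ((nat_lit 1258), [nat_lit 6, nat_lit 5, nat_lit 6, nat_lit 4, nat_lit 0, nat_lit 6, nat_lit 4, nat_lit 5, nat_lit 0, nat_lit 4, nat_lit 5, nat_lit 2, nat_lit 3, nat_lit 1])) (.leaf ((nat_lit 735), [nat_lit 5, nat_lit 2, nat_lit 6, nat_lit 3, nat_lit 2, nat_lit 6, nat_lit 0, nat_lit 5, nat_lit 4, nat_lit 3, nat_lit 4, nat_lit 2, nat_lit 0, nat_lit 2, nat_lit 0]))) (.node (nat_lit 1895) (.leaf ((nat_lit 1259), [nat_lit 2, nat_lit 6, nat_lit 1, nat_lit 4, nat_lit 6, nat_lit 5, nat_lit 3, nat_lit 0, nat_lit 4, nat_lit 3, nat_lit 0])) (.node (nat_lit 1896) (.leaf ((nat_lit 1062), [nat_lit 6, nat_lit 3, nat_lit 0, nat_lit 4, nat_lit 6, nat_lit 0, nat_lit 4, nat_lit 3, nat_lit 0, nat_lit 4, nat_lit 1, nat_lit 0, nat_lit 2, nat_lit 0])) (.leaf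 ((nat_lit 1195), [nat_lit 2, nat_lit 6, nat_lit 5, nat_lit 4, nat_lit 2, nat_lit 0, nat_lit 6, nat_lit 1, nat_lit 3, nat_lit 5, nat_lit 2, nat_lit 4, nat_lit 1, nat_lit 3, nat_lit 1, nat_lit 0])))))
 (.node (nat_lit 1900) (.node (nat_lit 1898) (.leaf ((nat_lit 27), [nat_lit 6, nat_lit 5, nat_lit 1, nat_lit 6, nat_lit 4, nat_lit 5, nat_lit 0, nat_lit 4, nat_lit 3, nat_lit 2])) (.node (nat_lit 1899) (.leaf ((nat_lit 1260), [nat_lit 2, nat_lit 4, nat_lit 6, nat_lit 1, nat_lit 3, nat_lit 5, nat_lit 3, nat_lit 4, nat_lit 2, nat_lit 0])) (.leaf ((nat_lit 1125), [nat_lit 1, nat_lit 3, nat_lit 4, nat_lit 6, nat_lit 2, nat_lit 6, nat_lit 4, nat_lit 5, nat_lit 1, nat_lit 3, nat_lit 0, nat_lit 4, nat_lit 0])))) (.node (nat_lit 1901) (.leaf ((nat_lit 1129), [nat_lit 0, nat_lit 1, nat_lit 6, nat_lit 5, nat_lit 2, nat_lit 5, nat_lit 4, nat_lit 5, nat_lit 1, nat_lit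 0])) (.node (nat_lit 1902) (.leaf ((nat_lit 1182), [nat_lit 4, nat_lit 0, nat_lit 6, nat_lit 1, nat_lit 5, nat_lit 6, nat_lit 0, nat_lit 2, nat_lit 0, nat_lit 4, nat_lit 3, nat_lit 2])) (.leaf ((nat_lit 605), [nat_lit 0, nat_lit 6, nat_lit 2, nat_lit 5, nat_lit 3, nat_lit 6, nat_lit 4, nat_lit 2, nat_lit 4, nat_lit 3, nat_lit 4, nat_lit 2, nat_lit 3, nat_lit 1]))))))
 (.node (nat_lit 1908) (.node (nat_lit 1905) (.node (nat_lit 1904) (.leaf ((nat_lit 1261), [nat_lit 0, nat_lit 6, nat_lit 2, nat_lit 3, nat_lit 6, nat_lit 0, nat_lit 4, nat_lit 3, nat_lit 1])) (.leaf ((nat_lit 1199), [nat_lit 5, nat_lit 6, nat_lit 1, nat_lit 4, nat_lit 5, nat_lit 6, nat_lit 3, nat_lit 5, nat_lit 2, nat_lit 3, nat_lit 2]))) (.node (nat_lit 1906) (.leaf ((nat_lit 664), [nat_lit 4, nat_lit 6, nat_lit 1, nat_lit 3, nat_lit 6, nat_lit 4, nat_lit 1, nat_lit 5, nat_lit 1, nat_lit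 3, nat_lit 2])) (.node (nat_lit 1907) (.leaf ((nat_lit 1042), [nat_lit 3, nat_lit 4, nat_lit 1, nat_lit 6, nat_lit 5, nat_lit 3, nat_lit 4, nat_lit 1, nat_lit 3, nat_lit 4, nat_lit 1, nat_lit 3, nat_lit 1, nat_lit 0])) (.leaf ((nat_lit 820), [nat_lit 5, nat_lit 6, nat_lit 2, nat_lit 4, nat_lit 2, nat_lit 6, nat_lit 0, nat_lit 2, nat_lit 5, nat_lit 0])))))
 (.node (nat_lit 1911) (.node (nat_lit 1909) (.leaf ((nat_lit 1262), [nat_lit 4, nat_lit 0, nat_lit 2, nat_lit 6, nat_lit 1, nat_lit 3, nat_lit 1, nat_lit 5, nat_lit 4, nat_lit 1, nat_lit 0, nat_lit 1, nat_lit 0])) (.node (nat_lit 1910) (.leaf ((nat_lit 1263), [nat_lit 0, nat_lit 4, nat_lit 6, nat_lit 3, nat_lit 2, nat_lit 6, nat_lit 1, nat_lit 4, nat_lit 5, nat_lit 1, nat_lit 3, nat_lit 4, nat_lit 0, nat_lit 1])) (.leaf ((nat_lit 303), [nat_lit 6, nat_lit 4, nat_lit 5, nat_lit 4, nat_lit 6, nat_lit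 4, nat_lit 3, nat_lit 4, nat_lit 1, nat_lit 4, nat_lit 1, nat_lit 3, nat_lit 2, nat_lit 0])))) (.node (nat_lit 1912) (.leaf ((nat_lit 1264), [nat_lit 0, nat_lit 5, nat_lit 6, nat_lit 1, nat_lit 6, nat_lit 2, nat_lit 5, nat_lit 3, nat_lit 0, nat_lit 4, nat_lit 3, nat_lit 2])) (.node (nat_lit 1913) (.leaf ((nat_lit 115), [nat_lit 3, nat_lit 4, nat_lit 2, nat_lit 0, nat_lit 6, nat_lit 1, nat_lit 5, nat_lit 2, nat_lit 4, nat_lit 2, nat_lit 3, nat_lit 1])) (.leaf ((nat_lit 652), [nat_lit 6, nat_lit 3, nat_lit 4, nat_lit 2, nat_lit 0, nat_lit 6, nat_lit 3, nat_lit 5, nat_lit 4, nat_lit 3, nat_lit 4, nat_lit 2, nat_lit 0, nat_lit 2, nat_lit 0])))))))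
 (.node (nat_lit 1925) (.node (nat_lit 1919) (.node (nat_lit 1916) (.node (nat_lit 1915) (.leaf ((nat_lit 1265), [nat_lit 3, nat_lit 2, nat_lit 4, nat_lit 6, nat_lit 1, nat_lit 4, nat_lit 1, nat_lit 0, nat_lit 4, nat_lit 2, nat_lit 0])) (.leaf ((nat_lit 744), [nat_lit 4, nat_lit 3, nat_lit 6, nat_lit 1, nat_lit 6, nat_lit 1, nat_lit 3]))) (.node (nat_lit 1917) (.leaf ((nat_lit 866), [nat_lit 0, nat_lit 1, nat_lit 6, nat_lit 4, nat_lit 3, nat_lit 5, nat_lit 3, nat_lit 4, nat_lit 2, nat_lit 3, nat_lit 1, nat_lit 0])) (.node (nat_lit 1918) (.leaf ((nat_lit 168), [nat_lit 4, nat_lit 6, nat_lit 1, nat_lit 6, nat_lit 2, nat_lit 6, nat_lit 1, nat_lit 4, nat_lit 3, nat_lit 0, nat_lit 4, nat_lit 3, nat_lit 0])) (.leaf ((nat_lit 963), [nat_lit 6, nat_lit 5, nat_lit 6, nat_lit 0, nat_lit 1, nat_lit 6, nat_lit 2, nat_lit 5, nat_lit 4, nat_lit 2, nat_lit 0, nat_lit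 2])))))
 (.node (nat_lit 1922) (.node (nat_lit 1920) (.leaf ((nat_lit 984), [nat_lit 6, nat_lit 5, nat_lit 1, nat_lit 3, nat_lit 6, nat_lit 5, nat_lit 1, nat_lit 5, nat_lit 4, nat_lit 1, nat_lit 3, nat_lit 1])) (.node (nat_lit 1921) (.leaf ((nat_lit 893), [nat_lit 1, nat_lit 5, nat_lit 6, nat_lit 5, nat_lit 2, nat_lit 5, nat_lit 2, nat_lit 0])) (.leaf ((nat_lit 1226), [nat_lit 2, nat_lit 6, nat_lit 4, nat_lit 0, nat_lit 6, nat_lit 5, nat_lit 3, nat_lit 4, nat_lit 1, nat_lit 3, nat_lit 4, nat_lit 1, nat_lit 3, nat_lit 1, nat_lit 0])))) (.node (nat_lit 1923) (.leaf ((nat_lit 1266), [nat_lit 3, nat_lit 4, nat_lit 2, nat_lit 0, nat_lit 6, nat_lit 4, nat_lit 5, nat_lit 1, nat_lit 4, nat_lit 2, nat_lit 0, nat_lit 1, nat_lit 0])) (.node (nat_lit 1924) (.leaf ((nat_lit 1244), [nat_lit 1, nat_lit 3, nat_lit 6, nat_lit 0, nat_lit 4, nat_lit 6, nat_lit 1, nat_lit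 4, nat_lit 0, nat_lit 4, nat_lit 0, nat_lit 1])) (.leaf ((nat_lit 1267), [nat_lit 2, nat_lit 6, nat_lit 4, nat_lit 3, nat_lit 6, nat_lit 5, nat_lit 2, nat_lit 5, nat_lit 3, nat_lit 4, nat_lit 1, nat_lit 3, nat_lit 1]))))))
 (.node (nat_lit 1930) (.node (nat_lit 1927) (.node (nat_lit 1926) (.leaf ((nat_lit 1155), [nat_lit 0, nat_lit 6, nat_lit 3, nat_lit 5, nat_lit 0, nat_lit 6, nat_lit 1, nat_lit 0, nat_lit 4, nat_lit 3, nat_lit 5, nat_lit 3])) (.leaf ((nat_lit 958), [nat_lit 0, nat_lit 1, nat_lit 4, nat_lit 6, nat_lit 0, nat_lit 2, nat_lit 0, nat_lit 4, nat_lit 3, nat_lit 0]))) (.node (nat_lit 1928) (.leaf ((nat_lit 811), [nat_lit 6, nat_lit 0, nat_lit 2, nat_lit 6, nat_lit 4, nat_lit 3, nat_lit 0, nat_lit 4, nat_lit 0, nat_lit 1, nat_lit 0])) (.node (nat_lit 1929) (.leaf ((nat_lit 1268), [nat_lit 5, nat_lit 6, nat_lit 4, nat_lit 5, nat_lit 6, nat_lit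 4, nat_lit 5, nat_lit 1, nat_lit 4, nat_lit 2, nat_lit 0])) (.leaf ((nat_lit 553), [nat_lit 6, nat_lit 1, nat_lit 3, nat_lit 5, nat_lit 6, nat_lit 2, nat_lit 4, nat_lit 0, nat_lit 4, nat_lit 2, nat_lit 0, nat_lit 1])))))
 (.node (nat_lit 1933) (.node (nat_lit 1931) (.leaf ((nat_lit 1269), [nat_lit 0, nat_lit 4, nat_lit 1, nat_lit 6, nat_lit 2, nat_lit 3, nat_lit 4, nat_lit 2, nat_lit 0, nat_lit 1, nat_lit 0])) (.node (nat_lit 1932) (.leaf ((nat_lit 763), [nat_lit 4, nat_lit 6, nat_lit 2, nat_lit 0, nat_lit 6, nat_lit 1, nat_lit 4, nat_lit 1, nat_lit 0, nat_lit 4, nat_lit 3, nat_lit 1])) (.leaf ((nat_lit 661), [nat_lit 6, nat_lit 1, nat_lit 5, nat_lit 6, nat_lit 1, nat_lit 0, nat_lit 2, nat_lit 4, nat_lit 1, nat_lit 3, nat_lit 2, nat_lit 0])))) (.node (nat_lit 1934) (.leaf ((nat_lit 635), [nat_lit 4, nat_lit 0, nat_lit 2, nat_lit 6, nat_lit 4, nat_lit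 1, nat_lit 4, nat_lit 3, nat_lit 0, nat_lit 4, nat_lit 2])) (.node (nat_lit 1935) (.leaf ((nat_lit 479), [nat_lit 1, nat_lit 6, nat_lit 5, nat_lit 2, nat_lit 6, nat_lit 1, nat_lit 4, nat_lit 1, nat_lit 0, nat_lit 4, nat_lit 3, nat_lit 2])) (.leaf ((nat_lit 23), [nat_lit 2, nat_lit 3, nat_lit 5, nat_lit 6, nat_lit 2, nat_lit 4, nat_lit 5, nat_lit 4, nat_lit 3, nat_lit 2, nat_lit 0]))))))))))
noncomputable def rWd_11 : Tr (ℕ × List ℕ) := (.node (nat_lit 2024) (.node (nat_lit 1980) (.node (nat_lit 1958) (.node (nat_lit 1947) (.node (nat_lit 1941) (.node (nat_lit 1938) (.node (nat_lit 1937) (.leaf ((nat_lit 506), [nat_lit 3, nat_lit 5, nat_lit 6, nat_lit 5, nat_lit 2, nat_lit 4, nat_lit 0, nat_lit 1, nat_lit 0])) (.leaf ((nat_lit 946), [nat_lit 5, nat_lit 2, nat_lit 5, nat_lit 6, nat_lit 1, nat_lit 6, nat_lit 3, nat_lit 0, nat_lit 5, nat_lit 4, nat_lit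 0, nat_lit 2]))) (.node (nat_lit 1939) (.leaf ((nat_lit 1270), [nat_lit 5, nat_lit 6, nat_lit 3, nat_lit 5, nat_lit 6, nat_lit 2, nat_lit 4, nat_lit 5, nat_lit 0, nat_lit 4, nat_lit 3, nat_lit 0])) (.node (nat_lit 1940) (.leaf ((nat_lit 1271), [nat_lit 1, nat_lit 4, nat_lit 6, nat_lit 1, nat_lit 0, nat_lit 6, nat_lit 1, nat_lit 4, nat_lit 0, nat_lit 4])) (.leaf ((nat_lit 447), [nat_lit 2, nat_lit 6, nat_lit 2, nat_lit 3, nat_lit 6, nat_lit 1, nat_lit 4, nat_lit 2, nat_lit 4, nat_lit 0, nat_lit 1])))))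
 (.node (nat_lit 1944) (.node (nat_lit 1942) (.leaf ((nat_lit 267), [nat_lit 5, nat_lit 1, nat_lit 6, nat_lit 2, nat_lit 6, nat_lit 3, nat_lit 4, nat_lit 1, nat_lit 4, nat_lit 2, nat_lit 3, nat_lit 2])) (.node (nat_lit 1943) (.leaf ((nat_lit 1197), [nat_lit 6, nat_lit 2, nat_lit 5, nat_lit 6, nat_lit 5, nat_lit 2, nat_lit 5, nat_lit 4, nat_lit 5, nat_lit 1, nat_lit 3, nat_lit 2])) (.leaf ((nat_lit 773), [nat_lit 6, nat_lit 1, nat_lit 4, nat_lit 6, nat_lit 1, nat_lit 6, nat_lit 5, nat_lit 3, nat_lit 0, nat_lit 5, nat_lit 1, nat_lit 0, nat_lit 1])))) (.node (nat_lit 1945) (.leaf ((nat_lit 431), [nat_lit 6, nat_lit 3, nat_lit 4, nat_lit 1, nat_lit 6, nat_lit 1, nat_lit 0, nat_lit 4, nat_lit 5, nat_lit 2, nat_lit 3, nat_lit 1, nat_lit 0])) (.node (nat_lit 1946) (.leaf ((nat_lit 724), [nat_lit 5, nat_lit 6, nat_lit 2, nat_lit 4, nat_lit 2, nat_lit 6,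 nat_lit 3, nat_lit 2, nat_lit 5, nat_lit 1, nat_lit 0, nat_lit 4, nat_lit 3, nat_lit 1])) (.leaf ((nat_lit 443), [nat_lit 6, nat_lit 0, nat_lit 1, nat_lit 6, nat_lit 1, nat_lit 6, nat_lit 1, nat_lit 3, nat_lit 1, nat_lit 0, nat_lit 4]))))))
 (.node (nat_lit 1952) (.node (nat_lit 1949) (.node (nat_lit 1948) (.leaf ((nat_lit 369), [nat_lit 5, nat_lit 4, nat_lit 6, nat_lit 2, nat_lit 6, nat_lit 5, nat_lit 1, nat_lit 5, nat_lit 0, nat_lit 2, nat_lit 4, nat_lit 3, nat_lit 1])) (.leaf ((nat_lit 510), [nat_lit 1, nat_lit 6, nat_lit 2, nat_lit 0, nat_lit 6, nat_lit 0, nat_lit 4, nat_lit 5, nat_lit 0, nat_lit 4, nat_lit 1, nat_lit 3, nat_lit 2]))) (.node (nat_lit 1950) (.leaf ((nat_lit 1056), [nat_lit 4, nat_lit 6, nat_lit 1, nat_lit 3, nat_lit 6, nat_lit 0, nat_lit 4, nat_lit 0, nat_lit 5, nat_lit 2, nat_lit 0, nat_lit 2])) (.node (nat_lit 1951) (.leaf ((nat_lit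 1252), [nat_lit 6, nat_lit 5, nat_lit 2, nat_lit 0, nat_lit 6, nat_lit 4, nat_lit 0, nat_lit 4, nat_lit 5, nat_lit 4, nat_lit 2, nat_lit 0])) (.leaf ((nat_lit 1272), [nat_lit 4, nat_lit 6, nat_lit 3, nat_lit 5, nat_lit 0, nat_lit 6, nat_lit 3, nat_lit 1, nat_lit 5, nat_lit 4, nat_lit 2])))))
 (.node (nat_lit 1955) (.node (nat_lit 1953) (.leaf ((nat_lit 1122), [nat_lit 1, nat_lit 5, nat_lit 6, nat_lit 1, nat_lit 5, nat_lit 6, nat_lit 1, nat_lit 0, nat_lit 1, nat_lit 4, nat_lit 1, nat_lit 0])) (.node (nat_lit 1954) (.leaf ((nat_lit 1273), [nat_lit 2, nat_lit 4, nat_lit 6, nat_lit 4, nat_lit 1, nat_lit 6, nat_lit 1, nat_lit 3, nat_lit 4, nat_lit 3])) (.leaf ((nat_lit 821), [nat_lit 3, nat_lit 4, nat_lit 1, nat_lit 6, nat_lit 5, nat_lit 1, nat_lit 0, nat_lit 4, nat_lit 1, nat_lit 3, nat_lit 2])))) (.node (nat_lit 1956) (.leaf ((nat_lit 849), [nat_lit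 6, nat_lit 5, nat_lit 2, nat_lit 0, nat_lit 2, nat_lit 6, nat_lit 5, nat_lit 0, nat_lit 4, nat_lit 1, nat_lit 4, nat_lit 1, nat_lit 3, nat_lit 0])) (.node (nat_lit 1957) (.leaf ((nat_lit 1274), [nat_lit 0, nat_lit 2, nat_lit 6, nat_lit 5, nat_lit 2, nat_lit 0, nat_lit 6, nat_lit 3, nat_lit 4, nat_lit 2, nat_lit 4, nat_lit 3, nat_lit 0])) (.leaf ((nat_lit 1050), [nat_lit 3, nat_lit 6, nat_lit 1, nat_lit 6, nat_lit 2, nat_lit 4, nat_lit 2, nat_lit 4, nat_lit 1, nat_lit 0, nat_lit 1])))))))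
 (.node (nat_lit 1969) (.node (nat_lit 1963) (.node (nat_lit 1960) (.node (nat_lit 1959) (.leaf ((nat_lit 333), [nat_lit 3, nat_lit 2, nat_lit 5, nat_lit 6, nat_lit 5, nat_lit 2, nat_lit 5, nat_lit 4, nat_lit 5, nat_lit 0, nat_lit 2])) (.leaf ((nat_lit 187), [nat_lit 5, nat_lit 0, nat_lit 6, nat_lit 2, nat_lit 3, nat_lit 6, nat_lit 4, nat_lit 5, nat_lit 4, nat_lit 0, nat_lit 5, nat_lit 2, nat_lit 0]))) (.node (nat_lit 1961) (.leaf ((nat_lit 392), [nat_lit 6, nat_lit 2, nat_lit 5, nat_lit 6, nat_lit 2, nat_lit 6, nat_lit 3, nat_lit 4, nat_lit 1, nat_lit 4, nat_lit 0])) (.node (nat_lit 1962) (.leaf ((nat_lit 1275), [nat_lit 5, nat_lit 1, nat_lit 6, nat_lit 5, nat_lit 2, nat_lit 6, nat_lit 5, nat_lit 4, nat_lit 5, nat_lit 1, nat_lit 4])) (.leaf ((nat_lit 323), [nat_lit 2, nat_lit 6, nat_lit 2, nat_lit 6, nat_lit 5, nat_lit 4, nat_lit 0, nat_lit 2, nat_lit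 4, nat_lit 1, nat_lit 3, nat_lit 2, nat_lit 0])))))
 (.node (nat_lit 1966) (.node (nat_lit 1964) (.leaf ((nat_lit 1108), [nat_lit 0, nat_lit 6, nat_lit 0, nat_lit 1, nat_lit 5, nat_lit 6, nat_lit 3, nat_lit 4, nat_lit 3, nat_lit 2, nat_lit 4, nat_lit 2, nat_lit 0, nat_lit 2])) (.node (nat_lit 1965) (.leaf ((nat_lit 1276), [nat_lit 0, nat_lit 1, nat_lit 4, nat_lit 6, nat_lit 1, nat_lit 4, nat_lit 2, nat_lit 3, nat_lit 4, nat_lit 2, nat_lit 3, nat_lit 1, nat_lit 0])) (.leaf ((nat_lit 1116), [nat_lit 1, nat_lit 4, nat_lit 6, nat_lit 2, nat_lit 6, nat_lit 4, nat_lit 2, nat_lit 4, nat_lit 5, nat_lit 1, nat_lit 0, nat_lit 1, nat_lit 0])))) (.node (nat_lit 1967) (.leaf ((nat_lit 376), [nat_lit 5, nat_lit 6, nat_lit 5, nat_lit 4, nat_lit 6, nat_lit 4, nat_lit 2, nat_lit 4, nat_lit 1, nat_lit 3, nat_lit 2])) (.node (nat_lit 1968) (.leaf ((nat_lit 1240), [nat_lit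 5, nat_lit 6, nat_lit 1, nat_lit 5, nat_lit 4, nat_lit 1, nat_lit 4, nat_lit 1, nat_lit 0, nat_lit 2])) (.leaf ((nat_lit 915), [nat_lit 5, nat_lit 6, nat_lit 2, nat_lit 4, nat_lit 3, nat_lit 6, nat_lit 0, nat_lit 5, nat_lit 4, nat_lit 3, nat_lit 4, nat_lit 2, nat_lit 0, nat_lit 1]))))))
 (.node (nat_lit 1974) (.node (nat_lit 1971) (.node (nat_lit 1970) (.leaf ((nat_lit 1277), [nat_lit 2, nat_lit 6, nat_lit 5, nat_lit 0, nat_lit 2, nat_lit 6, nat_lit 3, nat_lit 4, nat_lit 5, nat_lit 0, nat_lit 4, nat_lit 2, nat_lit 0, nat_lit 1, nat_lit 0])) (.leaf ((nat_lit 1278), [nat_lit 5, nat_lit 3, nat_lit 6, nat_lit 2, nat_lit 6, nat_lit 0, nat_lit 2, nat_lit 4, nat_lit 2, nat_lit 4, nat_lit 3, nat_lit 1, nat_lit 0]))) (.node (nat_lit 1972) (.leaf ((nat_lit 1254), [nat_lit 1, nat_lit 6, nat_lit 5, nat_lit 1, nat_lit 6, nat_lit 0, nat_lit 4, nat_lit 1, nat_lit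 3, nat_lit 1, nat_lit 0])) (.node (nat_lit 1973) (.leaf ((nat_lit 138), [nat_lit 0, nat_lit 4, nat_lit 5, nat_lit 6, nat_lit 2, nat_lit 6, nat_lit 1, nat_lit 5, nat_lit 2, nat_lit 5, nat_lit 2, nat_lit 3])) (.leaf ((nat_lit 207), [nat_lit 5, nat_lit 1, nat_lit 4, nat_lit 6, nat_lit 0, nat_lit 4, nat_lit 0, nat_lit 5, nat_lit 2, nat_lit 3, nat_lit 2])))))
 (.node (nat_lit 1977) (.node (nat_lit 1975) (.leaf ((nat_lit 508), [nat_lit 5, nat_lit 4, nat_lit 6, nat_lit 0, nat_lit 1, nat_lit 6, nat_lit 4, nat_lit 5, nat_lit 1, nat_lit 5, nat_lit 1, nat_lit 0, nat_lit 1, nat_lit 0])) (.node (nat_lit 1976) (.leaf ((nat_lit 880), [nat_lit 0, nat_lit 6, nat_lit 2, nat_lit 6, nat_lit 4, nat_lit 1, nat_lit 0, nat_lit 2, nat_lit 0])) (.leaf ((nat_lit 774), [nat_lit 2, nat_lit 4, nat_lit 6, nat_lit 5, nat_lit 1, nat_lit 4, nat_lit 3, nat_lit 5, nat_lit 1, nat_lit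 3, nat_lit 1])))) (.node (nat_lit 1978) (.leaf ((nat_lit 45), [nat_lit 2, nat_lit 3, nat_lit 6, nat_lit 1, nat_lit 5, nat_lit 6, nat_lit 4, nat_lit 5, nat_lit 1, nat_lit 3, nat_lit 0, nat_lit 4, nat_lit 3, nat_lit 0])) (.node (nat_lit 1979) (.leaf ((nat_lit 1212), [nat_lit 5, nat_lit 2, nat_lit 4, nat_lit 6, nat_lit 5, nat_lit 4, nat_lit 5, nat_lit 1, nat_lit 4, nat_lit 2, nat_lit 0, nat_lit 2])) (.leaf ((nat_lit 1279), [nat_lit 5, nat_lit 0, nat_lit 6, nat_lit 1, nat_lit 6, nat_lit 3, nat_lit 4, nat_lit 0, nat_lit 5, nat_lit 3, nat_lit 0]))))))))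
 (.node (nat_lit 2002) (.node (nat_lit 1991) (.node (nat_lit 1985) (.node (nat_lit 1982) (.node (nat_lit 1981) (.leaf ((nat_lit 1225), [nat_lit 5, nat_lit 6, nat_lit 5, nat_lit 6, nat_lit 4, nat_lit 2, nat_lit 0, nat_lit 2, nat_lit 0, nat_lit 4, nat_lit 1, nat_lit 3])) (.leaf ((nat_lit 1280), [nat_lit 0, nat_lit 6, nat_lit 3, nat_lit 5, nat_lit 0, nat_lit 6, nat_lit 2, nat_lit 3, nat_lit 2, nat_lit 4, nat_lit 3, nat_lit 2, nat_lit 0]))) (.node (nat_lit 1983) (.leaf ((nat_lit 653), [nat_lit 4, nat_lit 6, nat_lit 0, nat_lit 1, nat_lit 6, nat_lit 3, nat_lit 0, nat_lit 4, nat_lit 2, nat_lit 0, nat_lit 1])) (.node (nat_lit 1984) (.leaf ((nat_lit 1217), [nat_lit 3, nat_lit 4, nat_lit 6, nat_lit 1, nat_lit 4, nat_lit 1, nat_lit 4, nat_lit 2, nat_lit 3, nat_lit 2, nat_lit 0])) (.leaf ((nat_lit 1281), [nat_lit 1, nat_lit 6, nat_lit 0, nat_lit 4, nat_lit 1,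 nat_lit 6, nat_lit 3, nat_lit 4, nat_lit 2, nat_lit 0, nat_lit 2, nat_lit 4, nat_lit 2, nat_lit 0, nat_lit 1, nat_lit 0])))))
 (.node (nat_lit 1988) (.node (nat_lit 1986) (.leaf ((nat_lit 25), [nat_lit 5, nat_lit 6, nat_lit 4, nat_lit 2, nat_lit 0, nat_lit 6, nat_lit 2, nat_lit 3, nat_lit 1, nat_lit 0, nat_lit 4, nat_lit 3, nat_lit 2, nat_lit 0])) (.node (nat_lit 1987) (.leaf ((nat_lit 1150), [nat_lit 2, nat_lit 6, nat_lit 2, nat_lit 6, nat_lit 5, nat_lit 4, nat_lit 2, nat_lit 0, nat_lit 4, nat_lit 0, nat_lit 2])) (.leaf ((nat_lit 1282), [nat_lit 5, nat_lit 4, nat_lit 3, nat_lit 6, nat_lit 2, nat_lit 6, nat_lit 5, nat_lit 2, nat_lit 4, nat_lit 3, nat_lit 4, nat_lit 0, nat_lit 1, nat_lit 0])))) (.node (nat_lit 1989) (.leaf ((nat_lit 1179), [nat_lit 1, nat_lit 6, nat_lit 2, nat_lit 6, nat_lit 0, nat_lit 4, nat_lit 1, nat_lit 0, nat_lit 4, nat_lit 2,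 nat_lit 0, nat_lit 1])) (.node (nat_lit 1990) (.leaf ((nat_lit 1283), [nat_lit 6, nat_lit 5, nat_lit 2, nat_lit 4, nat_lit 6, nat_lit 5, nat_lit 1, nat_lit 4, nat_lit 1, nat_lit 4, nat_lit 0, nat_lit 2])) (.leaf ((nat_lit 1284), [nat_lit 1, nat_lit 0, nat_lit 6, nat_lit 4, nat_lit 1, nat_lit 6, nat_lit 0, nat_lit 1, nat_lit 4, nat_lit 3, nat_lit 5, nat_lit 1, nat_lit 0, nat_lit 1, nat_lit 0]))))))
 (.node (nat_lit 1996) (.node (nat_lit 1993) (.node (nat_lit 1992) (.leaf ((nat_lit 1285), [nat_lit 4, nat_lit 5, nat_lit 0, nat_lit 6, nat_lit 2, nat_lit 6, nat_lit 3, nat_lit 2, nat_lit 4, nat_lit 2, nat_lit 0, nat_lit 4, nat_lit 0, nat_lit 2, nat_lit 0])) (.leaf ((nat_lit 1286), [nat_lit 6, nat_lit 5, nat_lit 4, nat_lit 6, nat_lit 2, nat_lit 4, nat_lit 0, nat_lit 4, nat_lit 2, nat_lit 3]))) (.node (nat_lit 1994) (.leaf ((nat_lit 761), [nat_lit 1, nat_lit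 3, nat_lit 6, nat_lit 5, nat_lit 1, nat_lit 6, nat_lit 1, nat_lit 5, nat_lit 2, nat_lit 0, nat_lit 5, nat_lit 1, nat_lit 0])) (.node (nat_lit 1995) (.leaf ((nat_lit 1287), [nat_lit 6, nat_lit 5, nat_lit 3, nat_lit 6, nat_lit 2, nat_lit 0, nat_lit 5, nat_lit 2, nat_lit 0, nat_lit 4, nat_lit 1, nat_lit 0])) (.leaf ((nat_lit 457), [nat_lit 2, nat_lit 6, nat_lit 0, nat_lit 2, nat_lit 0, nat_lit 6, nat_lit 2, nat_lit 3, nat_lit 4, nat_lit 5, nat_lit 2, nat_lit 3, nat_lit 1])))))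
 (.node (nat_lit 1999) (.node (nat_lit 1997) (.leaf ((nat_lit 862), [nat_lit 4, nat_lit 5, nat_lit 6, nat_lit 1, nat_lit 0, nat_lit 6, nat_lit 2, nat_lit 4, nat_lit 3, nat_lit 2, nat_lit 4, nat_lit 3, nat_lit 1, nat_lit 0])) (.node (nat_lit 1998) (.leaf ((nat_lit 1094), [nat_lit 0, nat_lit 4, nat_lit 6, nat_lit 1, nat_lit 0, nat_lit 4, nat_lit 5, nat_lit 2, nat_lit 0])) (.leaf ((nat_lit 1288), [nat_lit 2, nat_lit 6, nat_lit 0, nat_lit 1, nat_lit 5, nat_lit 6, nat_lit 1, nat_lit 4, nat_lit 1, nat_lit 0, nat_lit 4, nat_lit 3, nat_lit 1, nat_lit 0])))) (.node (nat_lit 2000) (.leaf ((nat_lit 1289), [nat_lit 6, nat_lit 1, nat_lit 6, nat_lit 1, nat_lit 5, nat_lit 2, nat_lit 3, nat_lit 1])) (.node (nat_lit 2001) (.leaf ((nat_lit 132), [nat_lit 6, nat_lit 5, nat_lit 4, nat_lit 6, nat_lit 4, nat_lit 2, nat_lit 5, nat_lit 2, nat_lit 0])) (.leaf ((nat_lit 996),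 [nat_lit 4, nat_lit 1, nat_lit 3, nat_lit 6, nat_lit 0, nat_lit 5, nat_lit 2, nat_lit 5, nat_lit 1, nat_lit 3, nat_lit 0])))))))
 (.node (nat_lit 2013) (.node (nat_lit 2007) (.node (nat_lit 2004) (.node (nat_lit 2003) (.leaf ((nat_lit 1290), [nat_lit 6, nat_lit 0, nat_lit 1, nat_lit 6, nat_lit 1, nat_lit 6, nat_lit 1, nat_lit 0, nat_lit 4, nat_lit 3, nat_lit 5, nat_lit 1, nat_lit 0, nat_lit 1])) (.leaf ((nat_lit 912), [nat_lit 6, nat_lit 2, nat_lit 4, nat_lit 2, nat_lit 6, nat_lit 4, nat_lit 2, nat_lit 5, nat_lit 3, nat_lit 1]))) (.node (nat_lit 2005) (.leaf ((nat_lit 1291), [nat_lit 4, nat_lit 1, nat_lit 0, nat_lit 6, nat_lit 0, nat_lit 2, nat_lit 0, nat_lit 4, nat_lit 2, nat_lit 3, nat_lit 2])) (.node (nat_lit 2006) (.leaf ((nat_lit 1148), [nat_lit 6, nat_lit 2, nat_lit 6, nat_lit 1, nat_lit 4, nat_lit 6, nat_lit 2, nat_lit 0, nat_lit 5, nat_lit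 4, nat_lit 0, nat_lit 1, nat_lit 0])) (.leaf ((nat_lit 1235), [nat_lit 3, nat_lit 6, nat_lit 0, nat_lit 1, nat_lit 5, nat_lit 6, nat_lit 4, nat_lit 0, nat_lit 2, nat_lit 5, nat_lit 0, nat_lit 2, nat_lit 0])))))
 (.node (nat_lit 2010) (.node (nat_lit 2008) (.leaf ((nat_lit 432), [nat_lit 5, nat_lit 6, nat_lit 3, nat_lit 0, nat_lit 6, nat_lit 3, nat_lit 4, nat_lit 1, nat_lit 5, nat_lit 3, nat_lit 2])) (.node (nat_lit 2009) (.leaf ((nat_lit 1292), [nat_lit 6, nat_lit 1, nat_lit 3, nat_lit 6, nat_lit 1, nat_lit 0, nat_lit 1, nat_lit 4, nat_lit 0, nat_lit 2, nat_lit 0])) (.leaf ((nat_lit 71), [nat_lit 5, nat_lit 2, nat_lit 6, nat_lit 1, nat_lit 4, nat_lit 6, nat_lit 0, nat_lit 1, nat_lit 4, nat_lit 3, nat_lit 0, nat_lit 4, nat_lit 3, nat_lit 0])))) (.node (nat_lit 2011) (.leaf ((nat_lit 1104), [nat_lit 3, nat_lit 6, nat_lit 5, nat_lit 2, nat_lit 6, nat_lit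 2, nat_lit 4, nat_lit 3, nat_lit 1, nat_lit 0])) (.node (nat_lit 2012) (.leaf ((nat_lit 1023), [nat_lit 5, nat_lit 6, nat_lit 2, nat_lit 0, nat_lit 2, nat_lit 6, nat_lit 0, nat_lit 1, nat_lit 4, nat_lit 0, nat_lit 4, nat_lit 2, nat_lit 3, nat_lit 1, nat_lit 0])) (.leaf ((nat_lit 891), [nat_lit 6, nat_lit 0, nat_lit 5, nat_lit 6, nat_lit 2, nat_lit 6, nat_lit 5, nat_lit 4, nat_lit 5, nat_lit 1, nat_lit 5, nat_lit 0, nat_lit 2, nat_lit 0]))))))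
 (.node (nat_lit 2018) (.node (nat_lit 2015) (.node (nat_lit 2014) (.leaf ((nat_lit 1267), [nat_lit 0, nat_lit 2, nat_lit 6, nat_lit 4, nat_lit 0, nat_lit 6, nat_lit 5, nat_lit 2, nat_lit 5, nat_lit 2, nat_lit 3, nat_lit 1, nat_lit 0])) (.leaf ((nat_lit 1293), [nat_lit 5, nat_lit 1, nat_lit 3, nat_lit 6, nat_lit 5, nat_lit 4, nat_lit 2, nat_lit 5, nat_lit 2, nat_lit 0, nat_lit 2, nat_lit 0]))) (.node (nat_lit 2016) (.leaf ((nat_lit 519), [nat_lit 0, nat_lit 4, nat_lit 6, nat_lit 3, nat_lit 0, nat_lit 6, nat_lit 1, nat_lit 3, nat_lit 2, nat_lit 0, nat_lit 4, nat_lit 2, nat_lit 3, nat_lit 2, nat_lit 0])) (.node (nat_lit 2017) (.leaf ((nat_lit 1294), [nat_lit 0, nat_lit 6, nat_lit 4, nat_lit 1, nat_lit 0, nat_lit 6, nat_lit 4, nat_lit 2, nat_lit 0, nat_lit 2, nat_lit 0, nat_lit 4, nat_lit 1, nat_lit 0])) (.leaf ((nat_lit 1137), [nat_lit 0, nat_lit 4,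 nat_lit 6, nat_lit 3, nat_lit 2, nat_lit 6, nat_lit 3, nat_lit 4, nat_lit 3, nat_lit 0, nat_lit 5, nat_lit 0, nat_lit 1])))))
 (.node (nat_lit 2021) (.node (nat_lit 2019) (.leaf ((nat_lit 1295), [nat_lit 5, nat_lit 1, nat_lit 6, nat_lit 1, nat_lit 6, nat_lit 1, nat_lit 3, nat_lit 1, nat_lit 0, nat_lit 4, nat_lit 3, nat_lit 1, nat_lit 0])) (.node (nat_lit 2020) (.leaf ((nat_lit 1296), [nat_lit 6, nat_lit 0, nat_lit 1, nat_lit 6, nat_lit 3, nat_lit 4, nat_lit 1, nat_lit 4, nat_lit 2, nat_lit 0, nat_lit 2, nat_lit 0])) (.leaf ((nat_lit 540), [nat_lit 6, nat_lit 2, nat_lit 0, nat_lit 2, nat_lit 6, nat_lit 2, nat_lit 5, nat_lit 3, nat_lit 4, nat_lit 1, nat_lit 3, nat_lit 0])))) (.node (nat_lit 2022) (.leaf ((nat_lit 797), [nat_lit 3, nat_lit 1, nat_lit 6, nat_lit 4, nat_lit 1, nat_lit 6, nat_lit 2, nat_lit 4, nat_lit 0, nat_lit 2, nat_lit 4, nat_lit 2,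 nat_lit 0, nat_lit 1])) (.node (nat_lit 2023) (.leaf ((nat_lit 830), [nat_lit 0, nat_lit 5, nat_lit 6, nat_lit 1, nat_lit 6, nat_lit 2, nat_lit 5, nat_lit 1, nat_lit 4, nat_lit 1, nat_lit 3, nat_lit 0])) (.leaf ((nat_lit 583), [nat_lit 1, nat_lit 4, nat_lit 3, nat_lit 6, nat_lit 2, nat_lit 4, nat_lit 0, nat_lit 1, nat_lit 4, nat_lit 2, nat_lit 3])))))))))
 (.node (nat_lit 2068) (.node (nat_lit 2046) (.node (nat_lit 2035) (.node (nat_lit 2029) (.node (nat_lit 2026) (.node (nat_lit 2025) (.leaf ((nat_lit 1185), [nat_lit 1, nat_lit 6, nat_lit 5, nat_lit 0, nat_lit 2, nat_lit 6, nat_lit 1, nat_lit 5, nat_lit 1, nat_lit 0, nat_lit 2, nat_lit 0])) (.leaf ((nat_lit 1259), [nat_lit 6, nat_lit 5, nat_lit 1, nat_lit 5, nat_lit 6, nat_lit 5, nat_lit 4, nat_lit 0, nat_lit 5, nat_lit 4, nat_lit 1, nat_lit 0, nat_lit 2]))) (.node (nat_lit 2027) (.leaf ((nat_lit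 1297), [nat_lit 5, nat_lit 3, nat_lit 6, nat_lit 2, nat_lit 4, nat_lit 1, nat_lit 3, nat_lit 4, nat_lit 3])) (.node (nat_lit 2028) (.leaf ((nat_lit 1118), [nat_lit 6, nat_lit 3, nat_lit 6, nat_lit 1, nat_lit 5, nat_lit 1, nat_lit 0, nat_lit 4, nat_lit 1, nat_lit 0, nat_lit 1, nat_lit 0])) (.leaf ((nat_lit 1054), [nat_lit 2, nat_lit 4, nat_lit 6, nat_lit 4, nat_lit 1, nat_lit 6, nat_lit 5, nat_lit 1, nat_lit 3, nat_lit 0, nat_lit 4, nat_lit 2, nat_lit 0, nat_lit 2])))))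
 (.node (nat_lit 2032) (.node (nat_lit 2030) (.leaf ((nat_lit 535), [nat_lit 5, nat_lit 2, nat_lit 0, nat_lit 6, nat_lit 0, nat_lit 4, nat_lit 5, nat_lit 3, nat_lit 2])) (.node (nat_lit 2031) (.leaf ((nat_lit 1081), [nat_lit 4, nat_lit 2, nat_lit 6, nat_lit 2, nat_lit 0, nat_lit 6, nat_lit 1, nat_lit 5, nat_lit 4, nat_lit 5, nat_lit 2, nat_lit 0, nat_lit 1])) (.leaf ((nat_lit 1298), [nat_lit 2, nat_lit 6, nat_lit 2, nat_lit 5, nat_lit 6, nat_lit 3, nat_lit 0, nat_lit 5, nat_lit 4, nat_lit 1, nat_lit 3, nat_lit 2])))) (.node (nat_lit 2033) (.leaf ((nat_lit 1224), [nat_lit 6, nat_lit 4, nat_lit 5, nat_lit 4, nat_lit 6, nat_lit 5, nat_lit 4, nat_lit 5, nat_lit 1, nat_lit 4, nat_lit 2, nat_lit 3, nat_lit 1])) (.node (nat_lit 2034) (.leaf ((nat_lit 1183), [nat_lit 4, nat_lit 2, nat_lit 0, nat_lit 6, nat_lit 2, nat_lit 6, nat_lit 0, nat_lit 1, nat_lit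 4, nat_lit 3, nat_lit 5, nat_lit 2])) (.leaf ((nat_lit 659), [nat_lit 1, nat_lit 0, nat_lit 6, nat_lit 1, nat_lit 6, nat_lit 5, nat_lit 0, nat_lit 5, nat_lit 3, nat_lit 2]))))))
 (.node (nat_lit 2040) (.node (nat_lit 2037) (.node (nat_lit 2036) (.leaf ((nat_lit 502), [nat_lit 6, nat_lit 1, nat_lit 4, nat_lit 3, nat_lit 6, nat_lit 4, nat_lit 5, nat_lit 0, nat_lit 4, nat_lit 5, nat_lit 0])) (.leaf ((nat_lit 359), [nat_lit 4, nat_lit 1, nat_lit 6, nat_lit 0, nat_lit 2, nat_lit 6, nat_lit 5, nat_lit 4, nat_lit 5, nat_lit 0]))) (.node (nat_lit 2038) (.leaf ((nat_lit 271), [nat_lit 6, nat_lit 1, nat_lit 6, nat_lit 2, nat_lit 6, nat_lit 0, nat_lit 4, nat_lit 1, nat_lit 5, nat_lit 2, nat_lit 3, nat_lit 0])) (.node (nat_lit 2039) (.leaf ((nat_lit 499), [nat_lit 5, nat_lit 0, nat_lit 4, nat_lit 2, nat_lit 6, nat_lit 3, nat_lit 4, nat_lit 1])) (.leaf ((nat_lit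 1299), [nat_lit 2, nat_lit 6, nat_lit 5, nat_lit 2, nat_lit 0, nat_lit 6, nat_lit 5, nat_lit 1, nat_lit 5, nat_lit 3, nat_lit 4, nat_lit 0])))))
 (.node (nat_lit 2043) (.node (nat_lit 2041) (.leaf ((nat_lit 1300), [nat_lit 5, nat_lit 1, nat_lit 5, nat_lit 6, nat_lit 2, nat_lit 6, nat_lit 3, nat_lit 0, nat_lit 4, nat_lit 0, nat_lit 4, nat_lit 1, nat_lit 3, nat_lit 2, nat_lit 0])) (.node (nat_lit 2042) (.leaf ((nat_lit 1301), [nat_lit 3, nat_lit 2, nat_lit 0, nat_lit 6, nat_lit 2, nat_lit 6, nat_lit 5, nat_lit 1, nat_lit 4, nat_lit 1, nat_lit 4, nat_lit 1, nat_lit 3, nat_lit 2])) (.leaf ((nat_lit 1011), [nat_lit 4, nat_lit 6, nat_lit 5, nat_lit 4, nat_lit 6, nat_lit 4, nat_lit 2, nat_lit 0, nat_lit 2, nat_lit 4, nat_lit 1, nat_lit 0])))) (.node (nat_lit 2044) (.leaf ((nat_lit 1302), [nat_lit 6, nat_lit 1, nat_lit 3, nat_lit 6, nat_lit 5, nat_lit 4,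 nat_lit 0, nat_lit 2, nat_lit 4, nat_lit 3, nat_lit 0])) (.node (nat_lit 2045) (.leaf ((nat_lit 917), [nat_lit 2, nat_lit 5, nat_lit 6, nat_lit 0, nat_lit 1, nat_lit 6, nat_lit 4, nat_lit 1, nat_lit 0, nat_lit 4, nat_lit 2, nat_lit 0])) (.leaf ((nat_lit 1303), [nat_lit 6, nat_lit 4, nat_lit 0, nat_lit 6, nat_lit 2, nat_lit 0, nat_lit 4, nat_lit 5, nat_lit 1, nat_lit 3, nat_lit 2, nat_lit 0])))))))
 (.node (nat_lit 2057) (.node (nat_lit 2051) (.node (nat_lit 2048) (.node (nat_lit 2047) (.leaf ((nat_lit 1304), [nat_lit 5, nat_lit 1, nat_lit 6, nat_lit 3, nat_lit 2, nat_lit 6, nat_lit 0, nat_lit 2, nat_lit 4, nat_lit 5, nat_lit 2, nat_lit 0, nat_lit 1])) (.leaf ((nat_lit 1107), [nat_lit 0, nat_lit 6, nat_lit 2, nat_lit 6, nat_lit 4, nat_lit 1, nat_lit 4, nat_lit 2, nat_lit 4, nat_lit 2, nat_lit 3, nat_lit 1, nat_lit 0]))) (.node (nat_lit 2049) (.leaf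 ((nat_lit 435), [nat_lit 5, nat_lit 0, nat_lit 4, nat_lit 6, nat_lit 2, nat_lit 6, nat_lit 4, nat_lit 3, nat_lit 1, nat_lit 5, nat_lit 4, nat_lit 1, nat_lit 0, nat_lit 2, nat_lit 0])) (.node (nat_lit 2050) (.leaf ((nat_lit 1215), [nat_lit 2, nat_lit 4, nat_lit 6, nat_lit 2, nat_lit 6, nat_lit 2, nat_lit 4, nat_lit 3, nat_lit 5, nat_lit 4, nat_lit 2, nat_lit 0, nat_lit 2])) (.leaf ((nat_lit 743), [nat_lit 6, nat_lit 5, nat_lit 6, nat_lit 1, nat_lit 6, nat_lit 4, nat_lit 5, nat_lit 4, nat_lit 0, nat_lit 5, nat_lit 2, nat_lit 3, nat_lit 1])))))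
 (.node (nat_lit 2054) (.node (nat_lit 2052) (.leaf ((nat_lit 1249), [nat_lit 1, nat_lit 6, nat_lit 4, nat_lit 0, nat_lit 6, nat_lit 4, nat_lit 2, nat_lit 3, nat_lit 0, nat_lit 4, nat_lit 3, nat_lit 2])) (.node (nat_lit 2053) (.leaf ((nat_lit 682), [nat_lit 1, nat_lit 5, nat_lit 6, nat_lit 1, nat_lit 6, nat_lit 4, nat_lit 2, nat_lit 3, nat_lit 0, nat_lit 4, nat_lit 0, nat_lit 2, nat_lit 0])) (.leaf ((nat_lit 1305), [nat_lit 5, nat_lit 3, nat_lit 6, nat_lit 4, nat_lit 3, nat_lit 6, nat_lit 3, nat_lit 0, nat_lit 4, nat_lit 1, nat_lit 5, nat_lit 0, nat_lit 1, nat_lit 0])))) (.node (nat_lit 2055) (.leaf ((nat_lit 858), [nat_lit 3, nat_lit 2, nat_lit 6, nat_lit 3, nat_lit 4, nat_lit 0, nat_lit 2, nat_lit 5, nat_lit 2, nat_lit 0, nat_lit 2, nat_lit 0])) (.node (nat_lit 2056) (.leaf ((nat_lit 558), [nat_lit 2, nat_lit 6, nat_lit 5, nat_lit 1, nat_lit 6,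 nat_lit 2, nat_lit 5, nat_lit 3, nat_lit 4, nat_lit 2, nat_lit 3, nat_lit 2, nat_lit 0])) (.leaf ((nat_lit 1306), [nat_lit 2, nat_lit 4, nat_lit 2, nat_lit 6, nat_lit 4, nat_lit 2, nat_lit 4, nat_lit 0, nat_lit 4, nat_lit 1, nat_lit 3, nat_lit 0]))))))
 (.node (nat_lit 2062) (.node (nat_lit 2059) (.node (nat_lit 2058) (.leaf ((nat_lit 1307), [nat_lit 3, nat_lit 1, nat_lit 0, nat_lit 6, nat_lit 2, nat_lit 6, nat_lit 3, nat_lit 0, nat_lit 5, nat_lit 4, nat_lit 3, nat_lit 0])) (.leaf ((nat_lit 1138), [nat_lit 0, nat_lit 4, nat_lit 6, nat_lit 2, nat_lit 6, nat_lit 4, nat_lit 5, nat_lit 1, nat_lit 3, nat_lit 4, nat_lit 0, nat_lit 1, nat_lit 0]))) (.node (nat_lit 2060) (.leaf ((nat_lit 1308), [nat_lit 1, nat_lit 0, nat_lit 6, nat_lit 2, nat_lit 6, nat_lit 4, nat_lit 5, nat_lit 4, nat_lit 5, nat_lit 2, nat_lit 3])) (.node (nat_lit 2061) (.leaf ((nat_lit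 247), [nat_lit 5, nat_lit 6, nat_lit 3, nat_lit 6, nat_lit 2, nat_lit 6, nat_lit 1, nat_lit 0, nat_lit 1, nat_lit 4, nat_lit 0, nat_lit 1, nat_lit 0])) (.leaf ((nat_lit 1309), [nat_lit 0, nat_lit 6, nat_lit 4, nat_lit 3, nat_lit 6, nat_lit 3, nat_lit 2, nat_lit 5, nat_lit 3, nat_lit 4, nat_lit 1, nat_lit 0, nat_lit 1])))))
 (.node (nat_lit 2065) (.node (nat_lit 2063) (.leaf ((nat_lit 1251), [nat_lit 1, nat_lit 6, nat_lit 1, nat_lit 6, nat_lit 2, nat_lit 5, nat_lit 0])) (.node (nat_lit 2064) (.leaf ((nat_lit 526), [nat_lit 3, nat_lit 6, nat_lit 0, nat_lit 2, nat_lit 6, nat_lit 4, nat_lit 5, nat_lit 0, nat_lit 4, nat_lit 1, nat_lit 0, nat_lit 2, nat_lit 0])) (.leaf ((nat_lit 1310), [nat_lit 6, nat_lit 2, nat_lit 5, nat_lit 3, nat_lit 6, nat_lit 1, nat_lit 4, nat_lit 2, nat_lit 4, nat_lit 2, nat_lit 0, nat_lit 2, nat_lit 0])))) (.node (nat_lit 2066)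 (.leaf ((nat_lit 1237), [nat_lit 1, nat_lit 0, nat_lit 6, nat_lit 5, nat_lit 2, nat_lit 6, nat_lit 5, nat_lit 4, nat_lit 1, nat_lit 4, nat_lit 1, nat_lit 3, nat_lit 1, nat_lit 0])) (.node (nat_lit 2067) (.leaf ((nat_lit 456), [nat_lit 2, nat_lit 4, nat_lit 3, nat_lit 6, nat_lit 5, nat_lit 0, nat_lit 2, nat_lit 0, nat_lit 4, nat_lit 1])) (.leaf ((nat_lit 1311), [nat_lit 6, nat_lit 2, nat_lit 4, nat_lit 3, nat_lit 6, nat_lit 2, nat_lit 4, nat_lit 1, nat_lit 3, nat_lit 4, nat_lit 1, nat_lit 3, nat_lit 1, nat_lit 0]))))))))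
 (.node (nat_lit 2090) (.node (nat_lit 2079) (.node (nat_lit 2073) (.node (nat_lit 2070) (.node (nat_lit 2069) (.leaf ((nat_lit 1230), [nat_lit 0, nat_lit 6, nat_lit 2, nat_lit 0, nat_lit 6, nat_lit 5, nat_lit 4, nat_lit 3, nat_lit 4, nat_lit 0, nat_lit 2, nat_lit 0])) (.leaf ((nat_lit 1312), [nat_lit 6, nat_lit 5, nat_lit 6, nat_lit 3, nat_lit 6, nat_lit 2, nat_lit 4, nat_lit 1, nat_lit 4, nat_lit 1, nat_lit 3, nat_lit 1]))) (.node (nat_lit 2071) (.leaf ((nat_lit 844), [nat_lit 3, nat_lit 6, nat_lit 5, nat_lit 4, nat_lit 6, nat_lit 4, nat_lit 1, nat_lit 5, nat_lit 0])) (.node (nat_lit 2072) (.leaf ((nat_lit 1313), [nat_lit 6, nat_lit 5, nat_lit 2, nat_lit 6, nat_lit 5, nat_lit 1, nat_lit 3, nat_lit 1])) (.leaf ((nat_lit 1245), [nat_lit 2, nat_lit 6, nat_lit 3, nat_lit 5, nat_lit 6, nat_lit 0, nat_lit 1, nat_lit 4, nat_lit 3, nat_lit 5, nat_lit 0,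 nat_lit 2, nat_lit 0])))))
 (.node (nat_lit 2076) (.node (nat_lit 2074) (.leaf ((nat_lit 1314), [nat_lit 5, nat_lit 1, nat_lit 0, nat_lit 6, nat_lit 5, nat_lit 1, nat_lit 5, nat_lit 2, nat_lit 3])) (.node (nat_lit 2075) (.leaf ((nat_lit 1315), [nat_lit 1, nat_lit 0, nat_lit 6, nat_lit 5, nat_lit 2, nat_lit 6, nat_lit 4, nat_lit 1, nat_lit 4, nat_lit 2, nat_lit 4, nat_lit 0, nat_lit 1])) (.leaf ((nat_lit 472), [nat_lit 5, nat_lit 6, nat_lit 3, nat_lit 0, nat_lit 6, nat_lit 5, nat_lit 2, nat_lit 3, nat_lit 2, nat_lit 4, nat_lit 2, nat_lit 3, nat_lit 2])))) (.node (nat_lit 2077) (.leaf ((nat_lit 762), [nat_lit 4, nat_lit 6, nat_lit 2, nat_lit 0, nat_lit 6, nat_lit 0, nat_lit 1, nat_lit 4, nat_lit 0, nat_lit 4, nat_lit 1, nat_lit 3, nat_lit 0])) (.node (nat_lit 2078) (.leaf ((nat_lit 1077), [nat_lit 6, nat_lit 1, nat_lit 4, nat_lit 5, nat_lit 6, nat_lit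 1, nat_lit 4, nat_lit 5, nat_lit 1, nat_lit 4, nat_lit 3, nat_lit 2, nat_lit 0])) (.leaf ((nat_lit 1316), [nat_lit 5, nat_lit 6, nat_lit 0, nat_lit 5, nat_lit 3, nat_lit 6, nat_lit 4, nat_lit 0, nat_lit 5, nat_lit 2, nat_lit 5, nat_lit 0, nat_lit 2]))))))
 (.node (nat_lit 2084) (.node (nat_lit 2081) (.node (nat_lit 2080) (.leaf ((nat_lit 1151), [nat_lit 2, nat_lit 6, nat_lit 1, nat_lit 6, nat_lit 1, nat_lit 4, nat_lit 0, nat_lit 4, nat_lit 3, nat_lit 0])) (.leaf ((nat_lit 1057), [nat_lit 2, nat_lit 0, nat_lit 6, nat_lit 2, nat_lit 5, nat_lit 1, nat_lit 4, nat_lit 3, nat_lit 2, nat_lit 0]))) (.node (nat_lit 2082) (.leaf ((nat_lit 969), [nat_lit 1, nat_lit 4, nat_lit 6, nat_lit 2, nat_lit 6, nat_lit 2, nat_lit 0, nat_lit 4, nat_lit 1, nat_lit 4, nat_lit 2, nat_lit 3])) (.node (nat_lit 2083) (.leaf ((nat_lit 957), [nat_lit 6, nat_lit 1, nat_lit 6, nat_lit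 4, nat_lit 0, nat_lit 6, nat_lit 3, nat_lit 5, nat_lit 4, nat_lit 3, nat_lit 4, nat_lit 2, nat_lit 3])) (.leaf ((nat_lit 832), [nat_lit 6, nat_lit 4, nat_lit 1, nat_lit 3, nat_lit 6, nat_lit 3, nat_lit 0, nat_lit 4, nat_lit 5, nat_lit 3, nat_lit 2, nat_lit 0])))))
 (.node (nat_lit 2087) (.node (nat_lit 2085) (.leaf ((nat_lit 1024), [nat_lit 3, nat_lit 6, nat_lit 0, nat_lit 2, nat_lit 6, nat_lit 1, nat_lit 4, nat_lit 3, nat_lit 0, nat_lit 4, nat_lit 2])) (.node (nat_lit 2086) (.leaf ((nat_lit 1112), [nat_lit 1, nat_lit 6, nat_lit 4, nat_lit 0, nat_lit 2, nat_lit 6, nat_lit 1, nat_lit 0, nat_lit 4, nat_lit 1, nat_lit 3])) (.leaf ((nat_lit 923), [nat_lit 6, nat_lit 0, nat_lit 5, nat_lit 3, nat_lit 6, nat_lit 1, nat_lit 0, nat_lit 4, nat_lit 5, nat_lit 2, nat_lit 3, nat_lit 2])))) (.node (nat_lit 2088) (.leaf ((nat_lit 1317), [nat_lit 5, nat_lit 6, nat_lit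 3, nat_lit 2, nat_lit 6, nat_lit 4, nat_lit 1, nat_lit 3, nat_lit 4, nat_lit 3])) (.node (nat_lit 2089) (.leaf ((nat_lit 1318), [nat_lit 1, nat_lit 6, nat_lit 2, nat_lit 6, nat_lit 2, nat_lit 5, nat_lit 2, nat_lit 4, nat_lit 1, nat_lit 0, nat_lit 2, nat_lit 0])) (.leaf ((nat_lit 1315), [nat_lit 1, nat_lit 6, nat_lit 4, nat_lit 0, nat_lit 2, nat_lit 6, nat_lit 0, nat_lit 2, nat_lit 4, nat_lit 5, nat_lit 3, nat_lit 1, nat_lit 0])))))))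
 (.node (nat_lit 2101) (.node (nat_lit 2095) (.node (nat_lit 2092) (.node (nat_lit 2091) (.leaf ((nat_lit 1066), [nat_lit 2, nat_lit 6, nat_lit 0, nat_lit 1, nat_lit 5, nat_lit 6, nat_lit 1, nat_lit 3, nat_lit 1, nat_lit 5, nat_lit 4, nat_lit 2, nat_lit 3, nat_lit 1, nat_lit 0])) (.leaf ((nat_lit 1319), [nat_lit 2, nat_lit 4, nat_lit 6, nat_lit 2, nat_lit 6, nat_lit 1, nat_lit 4, nat_lit 2, nat_lit 3]))) (.node (nat_lit 2093) (.leaf ((nat_lit 1307), [nat_lit 0, nat_lit 1, nat_lit 6, nat_lit 4, nat_lit 1, nat_lit 6, nat_lit 4, nat_lit 1, nat_lit 0, nat_lit 4, nat_lit 2, nat_lit 0])) (.node (nat_lit 2094) (.leaf ((nat_lit 790), [nat_lit 5, nat_lit 6, nat_lit 5, nat_lit 2, nat_lit 6, nat_lit 1, nat_lit 5, nat_lit 1, nat_lit 3, nat_lit 2])) (.leaf ((nat_lit 1320), [nat_lit 0, nat_lit 1, nat_lit 5, nat_lit 6, nat_lit 1, nat_lit 6, nat_lit 3, nat_lit 4,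 nat_lit 2, nat_lit 3, nat_lit 4, nat_lit 2, nat_lit 3, nat_lit 1])))))
 (.node (nat_lit 2098) (.node (nat_lit 2096) (.leaf ((nat_lit 531), [nat_lit 1, nat_lit 6, nat_lit 4, nat_lit 3, nat_lit 6, nat_lit 3, nat_lit 4, nat_lit 5, nat_lit 0, nat_lit 4, nat_lit 2, nat_lit 3, nat_lit 0])) (.node (nat_lit 2097) (.leaf ((nat_lit 520), [nat_lit 6, nat_lit 3, nat_lit 0, nat_lit 6, nat_lit 1, nat_lit 4, nat_lit 2, nat_lit 4, nat_lit 2, nat_lit 0, nat_lit 1, nat_lit 0])) (.leaf ((nat_lit 1193), [nat_lit 4, nat_lit 3, nat_lit 6, nat_lit 2, nat_lit 0, nat_lit 6, nat_lit 1, nat_lit 3, nat_lit 2, nat_lit 4, nat_lit 0, nat_lit 1])))) (.node (nat_lit 2099) (.leaf ((nat_lit 1321), [nat_lit 6, nat_lit 2, nat_lit 4, nat_lit 0, nat_lit 6, nat_lit 2, nat_lit 3, nat_lit 2, nat_lit 4, nat_lit 1, nat_lit 3, nat_lit 1])) (.node (nat_lit 2100) (.leaf ((nat_lit 1204), [nat_lit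 0, nat_lit 6, nat_lit 1, nat_lit 4, nat_lit 6, nat_lit 5, nat_lit 4, nat_lit 5, nat_lit 1, nat_lit 5, nat_lit 1, nat_lit 0])) (.leaf ((nat_lit 1322), [nat_lit 6, nat_lit 2, nat_lit 5, nat_lit 3, nat_lit 6, nat_lit 5, nat_lit 1, nat_lit 3, nat_lit 4, nat_lit 1, nat_lit 3, nat_lit 2, nat_lit 0]))))))
 (.node (nat_lit 2106) (.node (nat_lit 2103) (.node (nat_lit 2102) (.leaf ((nat_lit 1323), [nat_lit 6, nat_lit 2, nat_lit 6, nat_lit 1, nat_lit 6, nat_lit 1, nat_lit 4, nat_lit 3, nat_lit 5, nat_lit 1, nat_lit 0, nat_lit 2, nat_lit 0])) (.leaf ((nat_lit 1324), [nat_lit 6, nat_lit 4, nat_lit 0, nat_lit 5, nat_lit 3, nat_lit 6, nat_lit 2, nat_lit 4, nat_lit 2, nat_lit 0, nat_lit 4, nat_lit 0]))) (.node (nat_lit 2104) (.leaf ((nat_lit 334), [nat_lit 5, nat_lit 1, nat_lit 6, nat_lit 5, nat_lit 2, nat_lit 6, nat_lit 1, nat_lit 5, nat_lit 1, nat_lit 0, nat_lit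 4, nat_lit 2, nat_lit 3])) (.node (nat_lit 2105) (.leaf ((nat_lit 1325), [nat_lit 6, nat_lit 4, nat_lit 0, nat_lit 2, nat_lit 6, nat_lit 2, nat_lit 4, nat_lit 5, nat_lit 0, nat_lit 4, nat_lit 0])) (.leaf ((nat_lit 381), [nat_lit 6, nat_lit 1, nat_lit 5, nat_lit 6, nat_lit 5, nat_lit 4, nat_lit 5, nat_lit 4, nat_lit 2, nat_lit 0])))))
 (.node (nat_lit 2109) (.node (nat_lit 2107) (.leaf ((nat_lit 1018), [nat_lit 1, nat_lit 6, nat_lit 4, nat_lit 1, nat_lit 0, nat_lit 6, nat_lit 2, nat_lit 5, nat_lit 3, nat_lit 0, nat_lit 4, nat_lit 2, nat_lit 3, nat_lit 2])) (.node (nat_lit 2108) (.leaf ((nat_lit 926), [nat_lit 1, nat_lit 6, nat_lit 5, nat_lit 2, nat_lit 6, nat_lit 3, nat_lit 4, nat_lit 1, nat_lit 3, nat_lit 4, nat_lit 1, nat_lit 0, nat_lit 2])) (.leaf ((nat_lit 1319), [nat_lit 6, nat_lit 4, nat_lit 2, nat_lit 3, nat_lit 6, nat_lit 4, nat_lit 5, nat_lit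 1, nat_lit 4, nat_lit 0, nat_lit 2, nat_lit 0])))) (.node (nat_lit 2110) (.leaf ((nat_lit 93), [nat_lit 5, nat_lit 6, nat_lit 1, nat_lit 4, nat_lit 5, nat_lit 6, nat_lit 3, nat_lit 5, nat_lit 4, nat_lit 3, nat_lit 4, nat_lit 1, nat_lit 3, nat_lit 2, nat_lit 0])) (.node (nat_lit 2111) (.leaf ((nat_lit 1326), [nat_lit 5, nat_lit 0, nat_lit 6, nat_lit 2, nat_lit 3, nat_lit 6, nat_lit 2, nat_lit 0, nat_lit 1, nat_lit 0, nat_lit 4, nat_lit 1, nat_lit 3, nat_lit 2, nat_lit 0])) (.leaf ((nat_lit 1274), [nat_lit 4, nat_lit 6, nat_lit 3, nat_lit 5, nat_lit 0, nat_lit 6, nat_lit 3, nat_lit 0, nat_lit 4, nat_lit 1, nat_lit 3, nat_lit 1]))))))))))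
noncomputable def rWd_12 : Tr (ℕ × List ℕ) := (.node (nat_lit 2200) (.node (nat_lit 2156) (.node (nat_lit 2134) (.node (nat_lit 2123) (.node (nat_lit 2117) (.node (nat_lit 2114) (.node (nat_lit 2113) (.leaf ((nat_lit 1020), [nat_lit 6, nat_lit 1, nat_lit 6, nat_lit 2, nat_lit 6, nat_lit 4, nat_lit 3, nat_lit 0, nat_lit 5, nat_lit 3, nat_lit 2])) (.leaf ((nat_lit 766), [nat_lit 5, nat_lit 6, nat_lit 3, nat_lit 0, nat_lit 4, nat_lit 1, nat_lit 4]))) (.node (nat_lit 2115) (.leaf ((nat_lit 274), [nat_lit 5, nat_lit 6, nat_lit 3, nat_lit 6, nat_lit 2, nat_lit 6, nat_lit 2, nat_lit 0, nat_lit 2, nat_lit 4, nat_lit 1, nat_lit 0, nat_lit 2, nat_lit 0])) (.node (nat_lit 2116) (.leaf ((nat_lit 1171), [nat_lit 5, nat_lit 1, nat_lit 3, nat_lit 6, nat_lit 1, nat_lit 6, nat_lit 4, nat_lit 2, nat_lit 4, nat_lit 2, nat_lit 3, nat_lit 2, nat_lit 0])) (.leaf ((nat_lit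 600), [nat_lit 5, nat_lit 6, nat_lit 3, nat_lit 6, nat_lit 0, nat_lit 2, nat_lit 5, nat_lit 2, nat_lit 0, nat_lit 2])))))
 (.node (nat_lit 2120) (.node (nat_lit 2118) (.leaf ((nat_lit 1327), [nat_lit 2, nat_lit 6, nat_lit 0, nat_lit 2, nat_lit 0, nat_lit 6, nat_lit 5, nat_lit 2, nat_lit 0, nat_lit 4, nat_lit 1, nat_lit 3, nat_lit 2, nat_lit 0])) (.node (nat_lit 2119) (.leaf ((nat_lit 791), [nat_lit 0, nat_lit 4, nat_lit 0, nat_lit 6, nat_lit 2, nat_lit 4, nat_lit 3, nat_lit 5, nat_lit 4, nat_lit 1, nat_lit 0, nat_lit 1])) (.leaf ((nat_lit 587), [nat_lit 6, nat_lit 2, nat_lit 6, nat_lit 3, nat_lit 2, nat_lit 6, nat_lit 2, nat_lit 4, nat_lit 5, nat_lit 2, nat_lit 5, nat_lit 2, nat_lit 0, nat_lit 2, nat_lit 0])))) (.node (nat_lit 2121) (.leaf ((nat_lit 919), [nat_lit 3, nat_lit 6, nat_lit 4, nat_lit 1, nat_lit 3, nat_lit 6, nat_lit 1, nat_lit 4, nat_lit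 5, nat_lit 1, nat_lit 3, nat_lit 4, nat_lit 1, nat_lit 3, nat_lit 1, nat_lit 0])) (.node (nat_lit 2122) (.leaf ((nat_lit 799), [nat_lit 0, nat_lit 6, nat_lit 3, nat_lit 4, nat_lit 1, nat_lit 6, nat_lit 0, nat_lit 4, nat_lit 0, nat_lit 5, nat_lit 1, nat_lit 3, nat_lit 2])) (.leaf ((nat_lit 1134), [nat_lit 0, nat_lit 5, nat_lit 2, nat_lit 6, nat_lit 2, nat_lit 6, nat_lit 4, nat_lit 2, nat_lit 0, nat_lit 2, nat_lit 4, nat_lit 0, nat_lit 2]))))))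
 (.node (nat_lit 2128) (.node (nat_lit 2125) (.node (nat_lit 2124) (.leaf ((nat_lit 1268), [nat_lit 2, nat_lit 0, nat_lit 4, nat_lit 2, nat_lit 6, nat_lit 3, nat_lit 5, nat_lit 3, nat_lit 4, nat_lit 3, nat_lit 1, nat_lit 0])) (.leaf ((nat_lit 1328), [nat_lit 4, nat_lit 6, nat_lit 3, nat_lit 5, nat_lit 0, nat_lit 6, nat_lit 0, nat_lit 4, nat_lit 3, nat_lit 0, nat_lit 4, nat_lit 1, nat_lit 3, nat_lit 1, nat_lit 0]))) (.node (nat_lit 2126) (.leaf ((nat_lit 1329), [nat_lit 1, nat_lit 4, nat_lit 0, nat_lit 6, nat_lit 2, nat_lit 6, nat_lit 1, nat_lit 3, nat_lit 4, nat_lit 5, nat_lit 2, nat_lit 0, nat_lit 1, nat_lit 0])) (.node (nat_lit 2127) (.leaf ((nat_lit 783), [nat_lit 6, nat_lit 1, nat_lit 6, nat_lit 2, nat_lit 5, nat_lit 3, nat_lit 4, nat_lit 3, nat_lit 2])) (.leaf ((nat_lit 282), [nat_lit 2, nat_lit 6, nat_lit 1, nat_lit 6, nat_lit 4, nat_lit 1,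 nat_lit 4, nat_lit 2, nat_lit 4, nat_lit 2, nat_lit 3, nat_lit 2])))))
 (.node (nat_lit 2131) (.node (nat_lit 2129) (.leaf ((nat_lit 846), [nat_lit 5, nat_lit 6, nat_lit 0, nat_lit 5, nat_lit 3, nat_lit 6, nat_lit 0, nat_lit 2, nat_lit 0, nat_lit 4, nat_lit 1, nat_lit 0, nat_lit 1])) (.node (nat_lit 2130) (.leaf ((nat_lit 793), [nat_lit 4, nat_lit 1, nat_lit 6, nat_lit 0, nat_lit 2, nat_lit 6, nat_lit 3, nat_lit 1, nat_lit 4, nat_lit 1, nat_lit 4, nat_lit 0, nat_lit 2])) (.leaf ((nat_lit 615), [nat_lit 6, nat_lit 3, nat_lit 5, nat_lit 6, nat_lit 5, nat_lit 3, nat_lit 2, nat_lit 5, nat_lit 4, nat_lit 1, nat_lit 3])))) (.node (nat_lit 2132) (.leaf ((nat_lit 1330), [nat_lit 2, nat_lit 4, nat_lit 6, nat_lit 1, nat_lit 0, nat_lit 6, nat_lit 2, nat_lit 0, nat_lit 4, nat_lit 3, nat_lit 5, nat_lit 0, nat_lit 2])) (.node (nat_lit 2133) (.leaf ((nat_lit 1331),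 [nat_lit 0, nat_lit 2, nat_lit 6, nat_lit 2, nat_lit 6, nat_lit 4, nat_lit 5, nat_lit 0, nat_lit 4, nat_lit 2, nat_lit 3, nat_lit 1, nat_lit 0])) (.leaf ((nat_lit 726), [nat_lit 0, nat_lit 2, nat_lit 0, nat_lit 6, nat_lit 1, nat_lit 6, nat_lit 4, nat_lit 5, nat_lit 1, nat_lit 5, nat_lit 4, nat_lit 2, nat_lit 3])))))))
 (.node (nat_lit 2145) (.node (nat_lit 2139) (.node (nat_lit 2136) (.node (nat_lit 2135) (.leaf ((nat_lit 1012), [nat_lit 2, nat_lit 6, nat_lit 3, nat_lit 4, nat_lit 6, nat_lit 2, nat_lit 5, nat_lit 2, nat_lit 4, nat_lit 2, nat_lit 0, nat_lit 2, nat_lit 0])) (.leaf ((nat_lit 1287), [nat_lit 2, nat_lit 4, nat_lit 0, nat_lit 6, nat_lit 2, nat_lit 4, nat_lit 5, nat_lit 3, nat_lit 0, nat_lit 4, nat_lit 0, nat_lit 2]))) (.node (nat_lit 2137) (.leaf ((nat_lit 480), [nat_lit 6, nat_lit 2, nat_lit 4, nat_lit 2, nat_lit 6, nat_lit 3, nat_lit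 2, nat_lit 5, nat_lit 3, nat_lit 4, nat_lit 1, nat_lit 0, nat_lit 2, nat_lit 0])) (.node (nat_lit 2138) (.leaf ((nat_lit 1208), [nat_lit 4, nat_lit 6, nat_lit 1, nat_lit 6, nat_lit 4, nat_lit 1, nat_lit 3, nat_lit 2, nat_lit 0, nat_lit 4, nat_lit 0, nat_lit 2, nat_lit 0])) (.leaf ((nat_lit 1285), [nat_lit 2, nat_lit 6, nat_lit 2, nat_lit 4, nat_lit 0, nat_lit 6, nat_lit 0, nat_lit 2, nat_lit 0, nat_lit 5, nat_lit 4, nat_lit 3, nat_lit 2])))))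
 (.node (nat_lit 2142) (.node (nat_lit 2140) (.leaf ((nat_lit 816), [nat_lit 2, nat_lit 6, nat_lit 5, nat_lit 2, nat_lit 6, nat_lit 2, nat_lit 3, nat_lit 1, nat_lit 0, nat_lit 4, nat_lit 2, nat_lit 3, nat_lit 2, nat_lit 0])) (.node (nat_lit 2141) (.leaf ((nat_lit 910), [nat_lit 0, nat_lit 6, nat_lit 2, nat_lit 5, nat_lit 1, nat_lit 4, nat_lit 3, nat_lit 0])) (.leaf ((nat_lit 1041), [nat_lit 2, nat_lit 0, nat_lit 4, nat_lit 2, nat_lit 6, nat_lit 3, nat_lit 0, nat_lit 4, nat_lit 0, nat_lit 4, nat_lit 2, nat_lit 0, nat_lit 2])))) (.node (nat_lit 2143) (.leaf ((nat_lit 872), [nat_lit 1, nat_lit 3, nat_lit 6, nat_lit 5, nat_lit 1, nat_lit 6, nat_lit 5, nat_lit 2, nat_lit 5, nat_lit 0, nat_lit 2, nat_lit 0])) (.node (nat_lit 2144) (.leaf ((nat_lit 1332), [nat_lit 6, nat_lit 3, nat_lit 2, nat_lit 6, nat_lit 3, nat_lit 4, nat_lit 3, nat_lit 2, nat_lit 4,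 nat_lit 2, nat_lit 3, nat_lit 2])) (.leaf ((nat_lit 1333), [nat_lit 0, nat_lit 4, nat_lit 6, nat_lit 1, nat_lit 6, nat_lit 2, nat_lit 4, nat_lit 1, nat_lit 0, nat_lit 4, nat_lit 2, nat_lit 3, nat_lit 2]))))))
 (.node (nat_lit 2150) (.node (nat_lit 2147) (.node (nat_lit 2146) (.leaf ((nat_lit 1246), [nat_lit 2, nat_lit 3, nat_lit 6, nat_lit 1, nat_lit 5, nat_lit 6, nat_lit 5, nat_lit 3, nat_lit 0, nat_lit 5, nat_lit 3, nat_lit 1])) (.leaf ((nat_lit 1279), [nat_lit 5, nat_lit 3, nat_lit 6, nat_lit 3, nat_lit 5, nat_lit 1, nat_lit 0, nat_lit 2]))) (.node (nat_lit 2148) (.leaf ((nat_lit 488), [nat_lit 2, nat_lit 5, nat_lit 1, nat_lit 6, nat_lit 2, nat_lit 6, nat_lit 4, nat_lit 3, nat_lit 5, nat_lit 3, nat_lit 4])) (.node (nat_lit 2149) (.leaf ((nat_lit 103), [nat_lit 6, nat_lit 0, nat_lit 2, nat_lit 5, nat_lit 0, nat_lit 6, nat_lit 1, nat_lit 4, nat_lit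 5, nat_lit 0])) (.leaf ((nat_lit 1096), [nat_lit 6, nat_lit 2, nat_lit 0, nat_lit 2, nat_lit 6, nat_lit 1, nat_lit 3, nat_lit 0, nat_lit 4, nat_lit 1, nat_lit 3, nat_lit 2])))))
 (.node (nat_lit 2153) (.node (nat_lit 2151) (.leaf ((nat_lit 1334), [nat_lit 4, nat_lit 5, nat_lit 6, nat_lit 4, nat_lit 1, nat_lit 0, nat_lit 6, nat_lit 5, nat_lit 1, nat_lit 5, nat_lit 1, nat_lit 3])) (.node (nat_lit 2152) (.leaf ((nat_lit 1316), [nat_lit 6, nat_lit 4, nat_lit 3, nat_lit 6, nat_lit 4, nat_lit 5, nat_lit 0, nat_lit 2, nat_lit 0])) (.leaf ((nat_lit 224), [nat_lit 1, nat_lit 6, nat_lit 0, nat_lit 4, nat_lit 1, nat_lit 6, nat_lit 0, nat_lit 1, nat_lit 4, nat_lit 1, nat_lit 5, nat_lit 1, nat_lit 3, nat_lit 1])))) (.node (nat_lit 2154) (.leaf ((nat_lit 1335), [nat_lit 2, nat_lit 3, nat_lit 6, nat_lit 1, nat_lit 5, nat_lit 6, nat_lit 4, nat_lit 3, nat_lit 5,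 nat_lit 3, nat_lit 4, nat_lit 0, nat_lit 2, nat_lit 0])) (.node (nat_lit 2155) (.leaf ((nat_lit 1336), [nat_lit 0, nat_lit 6, nat_lit 2, nat_lit 5, nat_lit 3, nat_lit 6, nat_lit 3, nat_lit 4, nat_lit 1, nat_lit 3, nat_lit 4, nat_lit 0, nat_lit 1, nat_lit 0])) (.leaf ((nat_lit 613), [nat_lit 5, nat_lit 4, nat_lit 6, nat_lit 4, nat_lit 1, nat_lit 4, nat_lit 2, nat_lit 3, nat_lit 1, nat_lit 0]))))))))
 (.node (nat_lit 2178) (.node (nat_lit 2167) (.node (nat_lit 2161) (.node (nat_lit 2158) (.node (nat_lit 2157) (.leaf ((nat_lit 513), [nat_lit 4, nat_lit 6, nat_lit 1, nat_lit 0, nat_lit 6, nat_lit 2, nat_lit 4, nat_lit 3, nat_lit 5, nat_lit 4, nat_lit 2, nat_lit 0])) (.leaf ((nat_lit 465), [nat_lit 5, nat_lit 1, nat_lit 4, nat_lit 6, nat_lit 1, nat_lit 5, nat_lit 4, nat_lit 2, nat_lit 0, nat_lit 4, nat_lit 1]))) (.node (nat_lit 2159) (.leaf ((nat_lit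 964), [nat_lit 1, nat_lit 6, nat_lit 5, nat_lit 0, nat_lit 2, nat_lit 6, nat_lit 5, nat_lit 2, nat_lit 3, nat_lit 0])) (.node (nat_lit 2160) (.leaf ((nat_lit 628), [nat_lit 5, nat_lit 6, nat_lit 2, nat_lit 5, nat_lit 6, nat_lit 5, nat_lit 0, nat_lit 2, nat_lit 4, nat_lit 2, nat_lit 3, nat_lit 2, nat_lit 0])) (.leaf ((nat_lit 985), [nat_lit 0, nat_lit 6, nat_lit 4, nat_lit 1, nat_lit 0, nat_lit 6, nat_lit 4, nat_lit 0, nat_lit 1, nat_lit 5, nat_lit 4, nat_lit 1, nat_lit 0, nat_lit 2])))))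
 (.node (nat_lit 2164) (.node (nat_lit 2162) (.leaf ((nat_lit 124), [nat_lit 4, nat_lit 6, nat_lit 1, nat_lit 6, nat_lit 5, nat_lit 3, nat_lit 5, nat_lit 4, nat_lit 1, nat_lit 3])) (.node (nat_lit 2163) (.leaf ((nat_lit 853), [nat_lit 5, nat_lit 6, nat_lit 2, nat_lit 0, nat_lit 6, nat_lit 4, nat_lit 2, nat_lit 4, nat_lit 1, nat_lit 3, nat_lit 1])) (.leaf ((nat_lit 1337), [nat_lit 6, nat_lit 5, nat_lit 0, nat_lit 2, nat_lit 6, nat_lit 2, nat_lit 0, nat_lit 2, nat_lit 4, nat_lit 2])))) (.node (nat_lit 2165) (.leaf ((nat_lit 38), [nat_lit 5, nat_lit 6, nat_lit 3, nat_lit 6, nat_lit 5, nat_lit 0, nat_lit 4, nat_lit 1, nat_lit 5, nat_lit 3, nat_lit 2, nat_lit 0])) (.node (nat_lit 2166) (.leaf ((nat_lit 1017), [nat_lit 6, nat_lit 3, nat_lit 5, nat_lit 3, nat_lit 6, nat_lit 5, nat_lit 4, nat_lit 2, nat_lit 0, nat_lit 4, nat_lit 1, nat_lit 3, nat_lit 2]))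 (.leaf ((nat_lit 921), [nat_lit 2, nat_lit 3, nat_lit 6, nat_lit 2, nat_lit 4, nat_lit 1, nat_lit 4, nat_lit 0, nat_lit 1, nat_lit 0]))))))
 (.node (nat_lit 2172) (.node (nat_lit 2169) (.node (nat_lit 2168) (.leaf ((nat_lit 129), [nat_lit 6, nat_lit 2, nat_lit 3, nat_lit 6, nat_lit 5, nat_lit 2, nat_lit 4, nat_lit 3, nat_lit 4, nat_lit 2, nat_lit 3, nat_lit 2, nat_lit 0])) (.leaf ((nat_lit 805), [nat_lit 4, nat_lit 5, nat_lit 6, nat_lit 4, nat_lit 3, nat_lit 6, nat_lit 1, nat_lit 5, nat_lit 0, nat_lit 4, nat_lit 3, nat_lit 1]))) (.node (nat_lit 2170) (.leaf ((nat_lit 1294), [nat_lit 1, nat_lit 6, nat_lit 0, nat_lit 2, nat_lit 6, nat_lit 3, nat_lit 4, nat_lit 0, nat_lit 2, nat_lit 5, nat_lit 2, nat_lit 0, nat_lit 2, nat_lit 0])) (.node (nat_lit 2171) (.leaf ((nat_lit 865), [nat_lit 4, nat_lit 5, nat_lit 6, nat_lit 3, nat_lit 2, nat_lit 6, nat_lit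 5, nat_lit 1, nat_lit 0, nat_lit 1, nat_lit 0])) (.leaf ((nat_lit 738), [nat_lit 0, nat_lit 1, nat_lit 6, nat_lit 4, nat_lit 1, nat_lit 6, nat_lit 5, nat_lit 4, nat_lit 3, nat_lit 4, nat_lit 3, nat_lit 2, nat_lit 0])))))
 (.node (nat_lit 2175) (.node (nat_lit 2173) (.leaf ((nat_lit 287), [nat_lit 3, nat_lit 6, nat_lit 2, nat_lit 4, nat_lit 6, nat_lit 4, nat_lit 3, nat_lit 5, nat_lit 4, nat_lit 1, nat_lit 3, nat_lit 2, nat_lit 0])) (.node (nat_lit 2174) (.leaf ((nat_lit 1133), [nat_lit 6, nat_lit 3, nat_lit 6, nat_lit 2, nat_lit 6, nat_lit 3, nat_lit 0, nat_lit 5, nat_lit 3, nat_lit 4, nat_lit 0, nat_lit 2, nat_lit 0])) (.leaf ((nat_lit 1338), [nat_lit 1, nat_lit 5, nat_lit 6, nat_lit 2, nat_lit 0, nat_lit 6, nat_lit 2, nat_lit 3, nat_lit 2, nat_lit 4, nat_lit 1, nat_lit 0, nat_lit 1, nat_lit 0])))) (.node (nat_lit 2176) (.leaf ((nat_lit 1339), [nat_lit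 1, nat_lit 4, nat_lit 1, nat_lit 3, nat_lit 6, nat_lit 0, nat_lit 4, nat_lit 1, nat_lit 5, nat_lit 0, nat_lit 1])) (.node (nat_lit 2177) (.leaf ((nat_lit 1232), [nat_lit 2, nat_lit 5, nat_lit 6, nat_lit 2, nat_lit 3, nat_lit 6, nat_lit 2, nat_lit 0, nat_lit 4, nat_lit 1, nat_lit 3, nat_lit 1])) (.leaf ((nat_lit 1222), [nat_lit 5, nat_lit 6, nat_lit 3, nat_lit 6, nat_lit 5, nat_lit 4, nat_lit 1, nat_lit 4, nat_lit 1])))))))
 (.node (nat_lit 2189) (.node (nat_lit 2183) (.node (nat_lit 2180) (.node (nat_lit 2179) (.leaf ((nat_lit 190), [nat_lit 5, nat_lit 4, nat_lit 6, nat_lit 0, nat_lit 1, nat_lit 6, nat_lit 4, nat_lit 2, nat_lit 4, nat_lit 5, nat_lit 0, nat_lit 2, nat_lit 0])) (.leaf ((nat_lit 209), [nat_lit 5, nat_lit 2, nat_lit 5, nat_lit 6, nat_lit 1, nat_lit 6, nat_lit 5, nat_lit 2, nat_lit 5, nat_lit 3, nat_lit 4, nat_lit 3, nat_lit 2]))) (.node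 (nat_lit 2181) (.leaf ((nat_lit 484), [nat_lit 6, nat_lit 1, nat_lit 4, nat_lit 6, nat_lit 4, nat_lit 2, nat_lit 3, nat_lit 0, nat_lit 4, nat_lit 3, nat_lit 2])) (.node (nat_lit 2182) (.leaf ((nat_lit 982), [nat_lit 0, nat_lit 1, nat_lit 4, nat_lit 2, nat_lit 6, nat_lit 5, nat_lit 2, nat_lit 4, nat_lit 3, nat_lit 2])) (.leaf ((nat_lit 1340), [nat_lit 1, nat_lit 6, nat_lit 1, nat_lit 6, nat_lit 0, nat_lit 4, nat_lit 5, nat_lit 0, nat_lit 4, nat_lit 1, nat_lit 3, nat_lit 1, nat_lit 0])))))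
 (.node (nat_lit 2186) (.node (nat_lit 2184) (.leaf ((nat_lit 1025), [nat_lit 3, nat_lit 6, nat_lit 2, nat_lit 0, nat_lit 6, nat_lit 4, nat_lit 0, nat_lit 2, nat_lit 4, nat_lit 1, nat_lit 0, nat_lit 1, nat_lit 0])) (.node (nat_lit 2185) (.leaf ((nat_lit 1341), [nat_lit 1, nat_lit 3, nat_lit 6, nat_lit 1, nat_lit 6, nat_lit 2, nat_lit 5, nat_lit 0, nat_lit 2, nat_lit 4, nat_lit 2, nat_lit 0, nat_lit 1, nat_lit 0])) (.leaf ((nat_lit 1326), [nat_lit 2, nat_lit 5, nat_lit 2, nat_lit 6, nat_lit 4, nat_lit 2, nat_lit 4, nat_lit 1, nat_lit 0, nat_lit 4, nat_lit 2, nat_lit 3, nat_lit 1])))) (.node (nat_lit 2187) (.leaf ((nat_lit 1298), [nat_lit 6, nat_lit 3, nat_lit 5, nat_lit 3, nat_lit 6, nat_lit 5, nat_lit 4, nat_lit 5, nat_lit 1, nat_lit 4, nat_lit 1, nat_lit 3, nat_lit 2])) (.node (nat_lit 2188) (.leaf ((nat_lit 978), [nat_lit 2, nat_lit 4, nat_lit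 0, nat_lit 6, nat_lit 5, nat_lit 2, nat_lit 5, nat_lit 1, nat_lit 0, nat_lit 4, nat_lit 1, nat_lit 3, nat_lit 2, nat_lit 0])) (.leaf ((nat_lit 1342), [nat_lit 6, nat_lit 0, nat_lit 4, nat_lit 5, nat_lit 6, nat_lit 5, nat_lit 3, nat_lit 0]))))))
 (.node (nat_lit 2194) (.node (nat_lit 2191) (.node (nat_lit 2190) (.leaf ((nat_lit 728), [nat_lit 1, nat_lit 5, nat_lit 6, nat_lit 2, nat_lit 0, nat_lit 6, nat_lit 2, nat_lit 0, nat_lit 5, nat_lit 2, nat_lit 0, nat_lit 4, nat_lit 1, nat_lit 0, nat_lit 1])) (.leaf ((nat_lit 1082), [nat_lit 0, nat_lit 1, nat_lit 5, nat_lit 6, nat_lit 2, nat_lit 6, nat_lit 5, nat_lit 0, nat_lit 2, nat_lit 0, nat_lit 4, nat_lit 2]))) (.node (nat_lit 2192) (.leaf ((nat_lit 1343), [nat_lit 6, nat_lit 1, nat_lit 6, nat_lit 5, nat_lit 3, nat_lit 6, nat_lit 3, nat_lit 5, nat_lit 1, nat_lit 0, nat_lit 4, nat_lit 3, nat_lit 1])) (.node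 (nat_lit 2193) (.leaf ((nat_lit 1344), [nat_lit 6, nat_lit 3, nat_lit 5, nat_lit 6, nat_lit 2, nat_lit 5, nat_lit 2, nat_lit 0, nat_lit 4])) (.leaf ((nat_lit 1340), [nat_lit 6, nat_lit 1, nat_lit 6, nat_lit 4, nat_lit 0, nat_lit 6, nat_lit 4, nat_lit 0, nat_lit 4, nat_lit 1, nat_lit 4, nat_lit 1, nat_lit 3, nat_lit 1])))))
 (.node (nat_lit 2197) (.node (nat_lit 2195) (.leaf ((nat_lit 655), [nat_lit 5, nat_lit 6, nat_lit 1, nat_lit 3, nat_lit 6, nat_lit 5, nat_lit 1, nat_lit 3, nat_lit 4, nat_lit 2, nat_lit 0, nat_lit 1, nat_lit 0])) (.node (nat_lit 2196) (.leaf ((nat_lit 593), [nat_lit 5, nat_lit 4, nat_lit 6, nat_lit 4, nat_lit 2, nat_lit 6, nat_lit 1, nat_lit 5, nat_lit 1, nat_lit 0, nat_lit 4, nat_lit 1, nat_lit 0, nat_lit 1])) (.leaf ((nat_lit 111), [nat_lit 4, nat_lit 6, nat_lit 4, nat_lit 2, nat_lit 6, nat_lit 2, nat_lit 5, nat_lit 1, nat_lit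 3, nat_lit 1, nat_lit 0])))) (.node (nat_lit 2198) (.leaf ((nat_lit 699), [nat_lit 4, nat_lit 5, nat_lit 6, nat_lit 2, nat_lit 6, nat_lit 4, nat_lit 1, nat_lit 4, nat_lit 3, nat_lit 2])) (.node (nat_lit 2199) (.leaf ((nat_lit 812), [nat_lit 0, nat_lit 6, nat_lit 0, nat_lit 1, nat_lit 6, nat_lit 0, nat_lit 4, nat_lit 0, nat_lit 5, nat_lit 4, nat_lit 0, nat_lit 2])) (.leaf ((nat_lit 787), [nat_lit 0, nat_lit 4, nat_lit 6, nat_lit 3, nat_lit 2, nat_lit 6, nat_lit 1, nat_lit 3, nat_lit 5, nat_lit 4, nat_lit 1, nat_lit 3, nat_lit 2])))))))))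
 (.node (nat_lit 2244) (.node (nat_lit 2222) (.node (nat_lit 2211) (.node (nat_lit 2205) (.node (nat_lit 2202) (.node (nat_lit 2201) (.leaf ((nat_lit 348), [nat_lit 4, nat_lit 0, nat_lit 6, nat_lit 0, nat_lit 2, nat_lit 6, nat_lit 1, nat_lit 4, nat_lit 5, nat_lit 2, nat_lit 0, nat_lit 1])) (.leaf ((nat_lit 1336), [nat_lit 4, nat_lit 3, nat_lit 6, nat_lit 5, nat_lit 2, nat_lit 6, nat_lit 5, nat_lit 0, nat_lit 4, nat_lit 1, nat_lit 4, nat_lit 2, nat_lit 0, nat_lit 1, nat_lit 0]))) (.node (nat_lit 2203) (.leaf ((nat_lit 758), [nat_lit 5, nat_lit 1, nat_lit 0, nat_lit 6, nat_lit 2, nat_lit 6, nat_lit 5, nat_lit 1, nat_lit 5, nat_lit 0, nat_lit 4, nat_lit 1, nat_lit 3, nat_lit 1, nat_lit 0])) (.node (nat_lit 2204) (.leaf ((nat_lit 1345), [nat_lit 5, nat_lit 6, nat_lit 5, nat_lit 1, nat_lit 4, nat_lit 6, nat_lit 1, nat_lit 4, nat_lit 1, nat_lit 0, nat_lit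 4, nat_lit 1, nat_lit 3, nat_lit 0])) (.leaf ((nat_lit 1126), [nat_lit 2, nat_lit 6, nat_lit 1, nat_lit 0, nat_lit 6, nat_lit 4, nat_lit 2, nat_lit 5, nat_lit 1, nat_lit 0, nat_lit 2])))))
 (.node (nat_lit 2208) (.node (nat_lit 2206) (.leaf ((nat_lit 1253), [nat_lit 4, nat_lit 6, nat_lit 3, nat_lit 0, nat_lit 6, nat_lit 3, nat_lit 5, nat_lit 4, nat_lit 3, nat_lit 2, nat_lit 0])) (.node (nat_lit 2207) (.leaf ((nat_lit 632), [nat_lit 1, nat_lit 4, nat_lit 1, nat_lit 3, nat_lit 6, nat_lit 4, nat_lit 2, nat_lit 3, nat_lit 2, nat_lit 0])) (.leaf ((nat_lit 1346), [nat_lit 2, nat_lit 4, nat_lit 0, nat_lit 6, nat_lit 3, nat_lit 4, nat_lit 1, nat_lit 4, nat_lit 0, nat_lit 1, nat_lit 0])))) (.node (nat_lit 2209) (.leaf ((nat_lit 614), [nat_lit 0, nat_lit 4, nat_lit 6, nat_lit 1, nat_lit 6, nat_lit 5, nat_lit 1, nat_lit 3, nat_lit 4, nat_lit 2, nat_lit 3, nat_lit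 1])) (.node (nat_lit 2210) (.leaf ((nat_lit 1347), [nat_lit 0, nat_lit 6, nat_lit 5, nat_lit 4, nat_lit 6, nat_lit 3, nat_lit 1, nat_lit 5, nat_lit 4])) (.leaf ((nat_lit 1242), [nat_lit 2, nat_lit 5, nat_lit 6, nat_lit 2, nat_lit 3, nat_lit 6, nat_lit 2, nat_lit 0, nat_lit 4, nat_lit 0, nat_lit 2, nat_lit 0]))))))
 (.node (nat_lit 2216) (.node (nat_lit 2213) (.node (nat_lit 2212) (.leaf ((nat_lit 1202), [nat_lit 1, nat_lit 4, nat_lit 6, nat_lit 1, nat_lit 0, nat_lit 6, nat_lit 1, nat_lit 5, nat_lit 0, nat_lit 2, nat_lit 4, nat_lit 0, nat_lit 1])) (.leaf ((nat_lit 1348), [nat_lit 4, nat_lit 0, nat_lit 6, nat_lit 2, nat_lit 0, nat_lit 6, nat_lit 5, nat_lit 1, nat_lit 3, nat_lit 0, nat_lit 4, nat_lit 1, nat_lit 3]))) (.node (nat_lit 2214) (.leaf ((nat_lit 721), [nat_lit 5, nat_lit 6, nat_lit 2, nat_lit 6, nat_lit 5, nat_lit 4, nat_lit 5, nat_lit 0,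 nat_lit 4, nat_lit 1, nat_lit 3, nat_lit 0])) (.node (nat_lit 2215) (.leaf ((nat_lit 651), [nat_lit 6, nat_lit 2, nat_lit 4, nat_lit 2, nat_lit 0, nat_lit 6, nat_lit 0, nat_lit 4, nat_lit 5, nat_lit 1, nat_lit 4, nat_lit 2, nat_lit 3])) (.leaf ((nat_lit 748), [nat_lit 0, nat_lit 5, nat_lit 6, nat_lit 2, nat_lit 6, nat_lit 2, nat_lit 4, nat_lit 3, nat_lit 5, nat_lit 4, nat_lit 1, nat_lit 0, nat_lit 2, nat_lit 0])))))
 (.node (nat_lit 2219) (.node (nat_lit 2217) (.leaf ((nat_lit 482), [nat_lit 0, nat_lit 5, nat_lit 6, nat_lit 1, nat_lit 6, nat_lit 1, nat_lit 5, nat_lit 3, nat_lit 0, nat_lit 4, nat_lit 0, nat_lit 1])) (.node (nat_lit 2218) (.leaf ((nat_lit 1291), [nat_lit 2, nat_lit 4, nat_lit 0, nat_lit 6, nat_lit 4, nat_lit 5, nat_lit 1, nat_lit 3, nat_lit 4, nat_lit 2, nat_lit 3, nat_lit 1, nat_lit 0])) (.leaf ((nat_lit 612), [nat_lit 3, nat_lit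 6, nat_lit 0, nat_lit 1, nat_lit 5, nat_lit 6, nat_lit 4, nat_lit 2, nat_lit 4, nat_lit 5, nat_lit 3])))) (.node (nat_lit 2220) (.leaf ((nat_lit 1349), [nat_lit 5, nat_lit 0, nat_lit 6, nat_lit 1, nat_lit 6, nat_lit 3, nat_lit 4, nat_lit 0, nat_lit 5, nat_lit 2, nat_lit 0, nat_lit 1, nat_lit 0])) (.node (nat_lit 2221) (.leaf ((nat_lit 1272), [nat_lit 0, nat_lit 1, nat_lit 6, nat_lit 4, nat_lit 1, nat_lit 6, nat_lit 0, nat_lit 1, nat_lit 0, nat_lit 4, nat_lit 0, nat_lit 2, nat_lit 0])) (.leaf ((nat_lit 595), [nat_lit 2, nat_lit 4, nat_lit 2, nat_lit 0, nat_lit 6, nat_lit 4, nat_lit 5, nat_lit 2, nat_lit 5, nat_lit 2, nat_lit 0, nat_lit 1])))))))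
 (.node (nat_lit 2233) (.node (nat_lit 2227) (.node (nat_lit 2224) (.node (nat_lit 2223) (.leaf ((nat_lit 796), [nat_lit 5, nat_lit 1, nat_lit 3, nat_lit 6, nat_lit 4, nat_lit 5, nat_lit 1, nat_lit 5, nat_lit 4, nat_lit 0, nat_lit 1, nat_lit 0])) (.leaf ((nat_lit 1350), [nat_lit 1, nat_lit 5, nat_lit 6, nat_lit 4, nat_lit 2, nat_lit 0, nat_lit 6, nat_lit 0, nat_lit 1, nat_lit 4, nat_lit 3, nat_lit 5, nat_lit 1, nat_lit 3, nat_lit 0]))) (.node (nat_lit 2225) (.leaf ((nat_lit 1345), [nat_lit 6, nat_lit 5, nat_lit 4, nat_lit 6, nat_lit 3, nat_lit 5, nat_lit 2, nat_lit 0, nat_lit 1, nat_lit 0])) (.node (nat_lit 2226) (.leaf ((nat_lit 1260), [nat_lit 5, nat_lit 0, nat_lit 2, nat_lit 6, nat_lit 1, nat_lit 6, nat_lit 4, nat_lit 2, nat_lit 4, nat_lit 1, nat_lit 0, nat_lit 4, nat_lit 2, nat_lit 3, nat_lit 2])) (.leaf ((nat_lit 241), [nat_lit 3, nat_lit 4,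 nat_lit 2, nat_lit 0, nat_lit 6, nat_lit 1, nat_lit 4, nat_lit 3, nat_lit 2, nat_lit 4, nat_lit 0])))))
 (.node (nat_lit 2230) (.node (nat_lit 2228) (.leaf ((nat_lit 199), [nat_lit 6, nat_lit 4, nat_lit 1, nat_lit 6, nat_lit 0, nat_lit 5, nat_lit 4, nat_lit 3, nat_lit 4, nat_lit 3, nat_lit 0])) (.node (nat_lit 2229) (.leaf ((nat_lit 542), [nat_lit 6, nat_lit 2, nat_lit 4, nat_lit 0, nat_lit 6, nat_lit 0, nat_lit 4])) (.leaf ((nat_lit 624), [nat_lit 5, nat_lit 2, nat_lit 6, nat_lit 0, nat_lit 4, nat_lit 6, nat_lit 3, nat_lit 4])))) (.node (nat_lit 2231) (.leaf ((nat_lit 20), [nat_lit 4, nat_lit 1, nat_lit 6, nat_lit 2, nat_lit 6, nat_lit 0, nat_lit 4, nat_lit 3, nat_lit 5, nat_lit 1, nat_lit 0, nat_lit 1, nat_lit 0])) (.node (nat_lit 2232) (.leaf ((nat_lit 544), [nat_lit 3, nat_lit 6, nat_lit 4, nat_lit 1, nat_lit 6, nat_lit 1, nat_lit 0, nat_lit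 5, nat_lit 2, nat_lit 4])) (.leaf ((nat_lit 723), [nat_lit 0, nat_lit 2, nat_lit 0, nat_lit 6, nat_lit 1, nat_lit 6, nat_lit 2, nat_lit 4, nat_lit 1, nat_lit 3, nat_lit 4, nat_lit 0]))))))
 (.node (nat_lit 2238) (.node (nat_lit 2235) (.node (nat_lit 2234) (.leaf ((nat_lit 225), [nat_lit 2, nat_lit 6, nat_lit 2, nat_lit 0, nat_lit 6, nat_lit 5, nat_lit 0, nat_lit 4, nat_lit 1, nat_lit 4, nat_lit 2, nat_lit 0])) (.leaf ((nat_lit 1303), [nat_lit 0, nat_lit 6, nat_lit 0, nat_lit 1, nat_lit 5, nat_lit 6, nat_lit 5, nat_lit 1, nat_lit 3, nat_lit 4, nat_lit 5, nat_lit 1, nat_lit 3, nat_lit 0]))) (.node (nat_lit 2236) (.leaf ((nat_lit 1060), [nat_lit 1, nat_lit 6, nat_lit 5, nat_lit 2, nat_lit 6, nat_lit 4, nat_lit 0, nat_lit 1, nat_lit 5, nat_lit 4, nat_lit 1, nat_lit 3, nat_lit 1, nat_lit 0])) (.node (nat_lit 2237) (.leaf ((nat_lit 648), [nat_lit 2, nat_lit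 3, nat_lit 6, nat_lit 1, nat_lit 5, nat_lit 6, nat_lit 4, nat_lit 5, nat_lit 0, nat_lit 4, nat_lit 1, nat_lit 0])) (.leaf ((nat_lit 1351), [nat_lit 6, nat_lit 5, nat_lit 4, nat_lit 2, nat_lit 0, nat_lit 6, nat_lit 5, nat_lit 2, nat_lit 0, nat_lit 5, nat_lit 4, nat_lit 0, nat_lit 2])))))
 (.node (nat_lit 2241) (.node (nat_lit 2239) (.leaf ((nat_lit 1283), [nat_lit 2, nat_lit 5, nat_lit 6, nat_lit 5, nat_lit 2, nat_lit 6, nat_lit 1, nat_lit 5, nat_lit 1, nat_lit 0, nat_lit 4, nat_lit 2, nat_lit 3, nat_lit 1])) (.node (nat_lit 2240) (.leaf ((nat_lit 1188), [nat_lit 6, nat_lit 4, nat_lit 1, nat_lit 5, nat_lit 6, nat_lit 0, nat_lit 4, nat_lit 0, nat_lit 5, nat_lit 0, nat_lit 1])) (.leaf ((nat_lit 423), [nat_lit 2, nat_lit 0, nat_lit 6, nat_lit 2, nat_lit 6, nat_lit 1, nat_lit 0, nat_lit 4, nat_lit 3, nat_lit 5, nat_lit 3])))) (.node (nat_lit 2242) (.leaf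 ((nat_lit 626), [nat_lit 6, nat_lit 4, nat_lit 2, nat_lit 3, nat_lit 6, nat_lit 1, nat_lit 5, nat_lit 3, nat_lit 4, nat_lit 2, nat_lit 3, nat_lit 2, nat_lit 0])) (.node (nat_lit 2243) (.leaf ((nat_lit 1311), [nat_lit 1, nat_lit 6, nat_lit 0, nat_lit 2, nat_lit 6, nat_lit 0, nat_lit 5, nat_lit 2, nat_lit 4, nat_lit 1, nat_lit 3, nat_lit 2, nat_lit 0])) (.leaf ((nat_lit 1241), [nat_lit 6, nat_lit 0, nat_lit 2, nat_lit 0, nat_lit 6, nat_lit 4, nat_lit 1, nat_lit 3, nat_lit 2, nat_lit 0, nat_lit 4, nat_lit 2, nat_lit 0, nat_lit 1, nat_lit 0]))))))))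
 (.node (nat_lit 2266) (.node (nat_lit 2255) (.node (nat_lit 2249) (.node (nat_lit 2246) (.node (nat_lit 2245) (.leaf ((nat_lit 1352), [nat_lit 5, nat_lit 1, nat_lit 6, nat_lit 1, nat_lit 0, nat_lit 6, nat_lit 4, nat_lit 2, nat_lit 0, nat_lit 4, nat_lit 2, nat_lit 3, nat_lit 1, nat_lit 0])) (.leaf ((nat_lit 469), [nat_lit 6, nat_lit 3, nat_lit 6, nat_lit 2, nat_lit 6, nat_lit 5, nat_lit 2, nat_lit 3, nat_lit 2, nat_lit 4, nat_lit 0]))) (.node (nat_lit 2247) (.leaf ((nat_lit 491), [nat_lit 4, nat_lit 0, nat_lit 6, nat_lit 2, nat_lit 6, nat_lit 4, nat_lit 0, nat_lit 5, nat_lit 2, nat_lit 0, nat_lit 4])) (.node (nat_lit 2248) (.leaf ((nat_lit 33), [nat_lit 6, nat_lit 0, nat_lit 1, nat_lit 6, nat_lit 2, nat_lit 5, nat_lit 0, nat_lit 4, nat_lit 1, nat_lit 0])) (.leaf ((nat_lit 1132), [nat_lit 6, nat_lit 1, nat_lit 4, nat_lit 6, nat_lit 1, nat_lit 0, nat_lit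 5, nat_lit 4, nat_lit 1, nat_lit 3, nat_lit 2, nat_lit 0])))))
 (.node (nat_lit 2252) (.node (nat_lit 2250) (.leaf ((nat_lit 1353), [nat_lit 3, nat_lit 4, nat_lit 6, nat_lit 0, nat_lit 2, nat_lit 6, nat_lit 0, nat_lit 4, nat_lit 5, nat_lit 0, nat_lit 4, nat_lit 1, nat_lit 3, nat_lit 1])) (.node (nat_lit 2251) (.leaf ((nat_lit 1263), [nat_lit 1, nat_lit 0, nat_lit 6, nat_lit 0, nat_lit 5, nat_lit 2, nat_lit 0, nat_lit 4, nat_lit 2, nat_lit 0, nat_lit 2, nat_lit 0])) (.leaf ((nat_lit 1318), [nat_lit 4, nat_lit 0, nat_lit 6, nat_lit 2, nat_lit 6, nat_lit 2, nat_lit 5, nat_lit 3, nat_lit 4, nat_lit 1, nat_lit 3, nat_lit 1, nat_lit 0])))) (.node (nat_lit 2253) (.leaf ((nat_lit 575), [nat_lit 2, nat_lit 6, nat_lit 5, nat_lit 4, nat_lit 2, nat_lit 0, nat_lit 6, nat_lit 0, nat_lit 2, nat_lit 4, nat_lit 2, nat_lit 3, nat_lit 0])) (.node (nat_lit 2254) (.leaf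 ((nat_lit 1354), [nat_lit 5, nat_lit 4, nat_lit 6, nat_lit 2, nat_lit 6, nat_lit 4, nat_lit 0, nat_lit 4, nat_lit 5, nat_lit 4, nat_lit 2, nat_lit 0, nat_lit 1, nat_lit 0])) (.leaf ((nat_lit 1309), [nat_lit 4, nat_lit 6, nat_lit 2, nat_lit 4, nat_lit 2, nat_lit 6, nat_lit 2, nat_lit 4, nat_lit 5, nat_lit 3, nat_lit 0, nat_lit 4, nat_lit 0, nat_lit 1, nat_lit 0]))))))
 (.node (nat_lit 2260) (.node (nat_lit 2257) (.node (nat_lit 2256) (.leaf ((nat_lit 1355), [nat_lit 4, nat_lit 6, nat_lit 2, nat_lit 6, nat_lit 2, nat_lit 5, nat_lit 4, nat_lit 2, nat_lit 3, nat_lit 1, nat_lit 0])) (.leaf ((nat_lit 394), [nat_lit 4, nat_lit 2, nat_lit 6, nat_lit 5, nat_lit 2, nat_lit 6, nat_lit 4, nat_lit 3, nat_lit 5, nat_lit 1, nat_lit 0, nat_lit 4, nat_lit 1, nat_lit 0, nat_lit 1]))) (.node (nat_lit 2258) (.leaf ((nat_lit 1231), [nat_lit 2, nat_lit 6, nat_lit 4, nat_lit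 3, nat_lit 5, nat_lit 4, nat_lit 1, nat_lit 3, nat_lit 2, nat_lit 0])) (.node (nat_lit 2259) (.leaf ((nat_lit 1356), [nat_lit 2, nat_lit 6, nat_lit 1, nat_lit 4, nat_lit 6, nat_lit 5, nat_lit 1, nat_lit 5, nat_lit 3, nat_lit 4, nat_lit 3, nat_lit 1, nat_lit 0])) (.leaf ((nat_lit 909), [nat_lit 3, nat_lit 0, nat_lit 6, nat_lit 2, nat_lit 6, nat_lit 4, nat_lit 5, nat_lit 2, nat_lit 5, nat_lit 0, nat_lit 1])))))
 (.node (nat_lit 2263) (.node (nat_lit 2261) (.leaf ((nat_lit 1346), [nat_lit 5, nat_lit 3, nat_lit 6, nat_lit 4, nat_lit 0, nat_lit 6, nat_lit 4, nat_lit 0, nat_lit 4, nat_lit 5, nat_lit 4, nat_lit 1, nat_lit 0, nat_lit 1])) (.node (nat_lit 2262) (.leaf ((nat_lit 471), [nat_lit 6, nat_lit 3, nat_lit 5, nat_lit 6, nat_lit 5, nat_lit 2, nat_lit 3, nat_lit 2, nat_lit 4, nat_lit 2, nat_lit 3])) (.leaf ((nat_lit 537), [nat_lit 4, nat_lit 1, nat_lit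 0, nat_lit 6, nat_lit 0, nat_lit 4, nat_lit 1, nat_lit 5, nat_lit 1, nat_lit 0])))) (.node (nat_lit 2264) (.leaf ((nat_lit 966), [nat_lit 4, nat_lit 6, nat_lit 5, nat_lit 2, nat_lit 0, nat_lit 6, nat_lit 5, nat_lit 2, nat_lit 0, nat_lit 5, nat_lit 4, nat_lit 1, nat_lit 0])) (.node (nat_lit 2265) (.leaf ((nat_lit 107), [nat_lit 1, nat_lit 3, nat_lit 6, nat_lit 5, nat_lit 1, nat_lit 6, nat_lit 2, nat_lit 4, nat_lit 0, nat_lit 4, nat_lit 2, nat_lit 3])) (.leaf ((nat_lit 1357), [nat_lit 6, nat_lit 5, nat_lit 6, nat_lit 3, nat_lit 6, nat_lit 5, nat_lit 2, nat_lit 0, nat_lit 5, nat_lit 1, nat_lit 3, nat_lit 1])))))))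
 (.node (nat_lit 2277) (.node (nat_lit 2271) (.node (nat_lit 2268) (.node (nat_lit 2267) (.leaf ((nat_lit 1358), [nat_lit 6, nat_lit 5, nat_lit 4, nat_lit 6, nat_lit 2, nat_lit 6, nat_lit 1, nat_lit 3, nat_lit 5, nat_lit 3, nat_lit 4, nat_lit 1, nat_lit 0])) (.leaf ((nat_lit 924), [nat_lit 2, nat_lit 6, nat_lit 5, nat_lit 2, nat_lit 4, nat_lit 6, nat_lit 5, nat_lit 2, nat_lit 0, nat_lit 2, nat_lit 4, nat_lit 2]))) (.node (nat_lit 2269) (.leaf ((nat_lit 66), [nat_lit 0, nat_lit 4, nat_lit 6, nat_lit 1, nat_lit 3, nat_lit 6, nat_lit 3, nat_lit 5, nat_lit 2, nat_lit 4, nat_lit 0, nat_lit 2])) (.node (nat_lit 2270) (.leaf ((nat_lit 1359), [nat_lit 5, nat_lit 1, nat_lit 6, nat_lit 1, nat_lit 6, nat_lit 3, nat_lit 4, nat_lit 1, nat_lit 3, nat_lit 4, nat_lit 3, nat_lit 2, nat_lit 0])) (.leaf ((nat_lit 1360), [nat_lit 3, nat_lit 6, nat_lit 0, nat_lit 2,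 nat_lit 6, nat_lit 1, nat_lit 5, nat_lit 4, nat_lit 2, nat_lit 0, nat_lit 4, nat_lit 2, nat_lit 3, nat_lit 2])))))
 (.node (nat_lit 2274) (.node (nat_lit 2272) (.leaf ((nat_lit 834), [nat_lit 1, nat_lit 4, nat_lit 6, nat_lit 1, nat_lit 6, nat_lit 1, nat_lit 3, nat_lit 2, nat_lit 0, nat_lit 4, nat_lit 2, nat_lit 3])) (.node (nat_lit 2273) (.leaf ((nat_lit 1361), [nat_lit 1, nat_lit 6, nat_lit 5, nat_lit 0, nat_lit 2, nat_lit 6, nat_lit 0, nat_lit 2, nat_lit 0, nat_lit 5, nat_lit 4, nat_lit 1, nat_lit 3, nat_lit 2])) (.leaf ((nat_lit 1036), [nat_lit 3, nat_lit 2, nat_lit 6, nat_lit 1, nat_lit 4, nat_lit 6, nat_lit 4, nat_lit 3, nat_lit 4, nat_lit 1, nat_lit 4, nat_lit 2, nat_lit 3, nat_lit 2])))) (.node (nat_lit 2275) (.leaf ((nat_lit 755), [nat_lit 2, nat_lit 5, nat_lit 6, nat_lit 1, nat_lit 6, nat_lit 4, nat_lit 5, nat_lit 3, nat_lit 4, nat_lit 2,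 nat_lit 0, nat_lit 1, nat_lit 0])) (.node (nat_lit 2276) (.leaf ((nat_lit 1258), [nat_lit 3, nat_lit 4, nat_lit 6, nat_lit 2, nat_lit 6, nat_lit 5, nat_lit 3, nat_lit 5, nat_lit 4, nat_lit 3, nat_lit 2])) (.leaf ((nat_lit 1362), [nat_lit 1, nat_lit 6, nat_lit 5, nat_lit 3, nat_lit 6, nat_lit 3, nat_lit 0, nat_lit 5, nat_lit 3, nat_lit 2, nat_lit 0]))))))
 (.node (nat_lit 2282) (.node (nat_lit 2279) (.node (nat_lit 2278) (.leaf ((nat_lit 711), [nat_lit 3, nat_lit 6, nat_lit 5, nat_lit 2, nat_lit 6, nat_lit 5, nat_lit 1, nat_lit 0, nat_lit 4, nat_lit 2, nat_lit 0, nat_lit 2, nat_lit 0])) (.leaf ((nat_lit 319), [nat_lit 0, nat_lit 1, nat_lit 6, nat_lit 4, nat_lit 1, nat_lit 3, nat_lit 2, nat_lit 0, nat_lit 4, nat_lit 0]))) (.node (nat_lit 2280) (.leaf ((nat_lit 897), [nat_lit 1, nat_lit 4, nat_lit 3, nat_lit 6, nat_lit 3, nat_lit 4, nat_lit 2, nat_lit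 0, nat_lit 2, nat_lit 4, nat_lit 2, nat_lit 0])) (.node (nat_lit 2281) (.leaf ((nat_lit 555), [nat_lit 5, nat_lit 6, nat_lit 5, nat_lit 6, nat_lit 0, nat_lit 4, nat_lit 5, nat_lit 3])) (.leaf ((nat_lit 1363), [nat_lit 2, nat_lit 4, nat_lit 6, nat_lit 2, nat_lit 6, nat_lit 1, nat_lit 3, nat_lit 5, nat_lit 4, nat_lit 0, nat_lit 2])))))
 (.node (nat_lit 2285) (.node (nat_lit 2283) (.leaf ((nat_lit 1162), [nat_lit 6, nat_lit 5, nat_lit 6, nat_lit 3, nat_lit 0, nat_lit 6, nat_lit 4, nat_lit 2, nat_lit 0, nat_lit 2, nat_lit 4, nat_lit 1, nat_lit 3, nat_lit 0])) (.node (nat_lit 2284) (.leaf ((nat_lit 397), [nat_lit 4, nat_lit 5, nat_lit 6, nat_lit 4, nat_lit 3, nat_lit 6, nat_lit 1, nat_lit 5, nat_lit 2, nat_lit 0, nat_lit 4, nat_lit 1, nat_lit 3, nat_lit 2])) (.leaf ((nat_lit 1275), [nat_lit 2, nat_lit 6, nat_lit 2, nat_lit 0, nat_lit 6, nat_lit 3, nat_lit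 4, nat_lit 0, nat_lit 4, nat_lit 1, nat_lit 3, nat_lit 1])))) (.node (nat_lit 2286) (.leaf ((nat_lit 61), [nat_lit 5, nat_lit 0, nat_lit 6, nat_lit 2, nat_lit 3, nat_lit 6, nat_lit 1, nat_lit 5, nat_lit 0, nat_lit 2, nat_lit 4, nat_lit 3, nat_lit 0])) (.node (nat_lit 2287) (.leaf ((nat_lit 86), [nat_lit 6, nat_lit 5, nat_lit 1, nat_lit 0, nat_lit 5, nat_lit 4, nat_lit 0, nat_lit 2, nat_lit 0])) (.leaf ((nat_lit 1364), [nat_lit 0, nat_lit 4, nat_lit 6, nat_lit 1, nat_lit 3, nat_lit 6, nat_lit 3, nat_lit 0, nat_lit 4, nat_lit 1, nat_lit 4, nat_lit 2, nat_lit 3]))))))))))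
noncomputable def rWd_13 : Tr (ℕ × List ℕ) := (.node (nat_lit 2376) (.node (nat_lit 2332) (.node (nat_lit 2310) (.node (nat_lit 2299) (.node (nat_lit 2293) (.node (nat_lit 2290) (.node (nat_lit 2289) (.leaf ((nat_lit 634), [nat_lit 5, nat_lit 2, nat_lit 6, nat_lit 0, nat_lit 1, nat_lit 6, nat_lit 3, nat_lit 5, nat_lit 1, nat_lit 3, nat_lit 2, nat_lit 0])) (.leaf ((nat_lit 1365), [nat_lit 6, nat_lit 1, nat_lit 6, nat_lit 1, nat_lit 0, nat_lit 6, nat_lit 5, nat_lit 1, nat_lit 4, nat_lit 1, nat_lit 4, nat_lit 3, nat_lit 1]))) (.node (nat_lit 2291) (.leaf ((nat_lit 1305), [nat_lit 5, nat_lit 2, nat_lit 4, nat_lit 6, nat_lit 1, nat_lit 0, nat_lit 6, nat_lit 2, nat_lit 0, nat_lit 1, nat_lit 0, nat_lit 4, nat_lit 0, nat_lit 1])) (.node (nat_lit 2292) (.leaf ((nat_lit 1059), [nat_lit 4, nat_lit 5, nat_lit 6, nat_lit 4, nat_lit 3, nat_lit 6, nat_lit 4, nat_lit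 5, nat_lit 1, nat_lit 3, nat_lit 0, nat_lit 4, nat_lit 0, nat_lit 2])) (.leaf ((nat_lit 1366), [nat_lit 6, nat_lit 4, nat_lit 1, nat_lit 5, nat_lit 6, nat_lit 2, nat_lit 4, nat_lit 2, nat_lit 0, nat_lit 4, nat_lit 0, nat_lit 1])))))
 (.node (nat_lit 2296) (.node (nat_lit 2294) (.leaf ((nat_lit 1310), [nat_lit 5, nat_lit 3, nat_lit 6, nat_lit 2, nat_lit 6, nat_lit 4, nat_lit 3, nat_lit 0, nat_lit 5, nat_lit 2, nat_lit 3])) (.node (nat_lit 2295) (.leaf ((nat_lit 1106), [nat_lit 5, nat_lit 6, nat_lit 4, nat_lit 1, nat_lit 0, nat_lit 6, nat_lit 0, nat_lit 2, nat_lit 0, nat_lit 5, nat_lit 4, nat_lit 3, nat_lit 2])) (.leaf ((nat_lit 750), [nat_lit 1, nat_lit 6, nat_lit 0, nat_lit 4, nat_lit 6, nat_lit 2, nat_lit 5, nat_lit 1, nat_lit 5, nat_lit 4, nat_lit 0, nat_lit 1])))) (.node (nat_lit 2297) (.leaf ((nat_lit 747), [nat_lit 5, nat_lit 2, nat_lit 4, nat_lit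 6, nat_lit 4, nat_lit 1, nat_lit 5, nat_lit 2, nat_lit 0, nat_lit 2, nat_lit 0])) (.node (nat_lit 2298) (.leaf ((nat_lit 139), [nat_lit 4, nat_lit 0, nat_lit 6, nat_lit 5, nat_lit 3, nat_lit 4, nat_lit 1, nat_lit 3, nat_lit 4, nat_lit 1, nat_lit 0, nat_lit 2, nat_lit 0])) (.leaf ((nat_lit 1028), [nat_lit 3, nat_lit 6, nat_lit 5, nat_lit 6, nat_lit 3, nat_lit 4, nat_lit 3, nat_lit 0, nat_lit 5, nat_lit 0]))))))
 (.node (nat_lit 2304) (.node (nat_lit 2301) (.node (nat_lit 2300) (.leaf ((nat_lit 256), [nat_lit 0, nat_lit 1, nat_lit 6, nat_lit 0, nat_lit 4, nat_lit 6, nat_lit 5, nat_lit 1, nat_lit 5, nat_lit 3, nat_lit 4, nat_lit 2, nat_lit 3, nat_lit 2])) (.leaf ((nat_lit 586), [nat_lit 4, nat_lit 6, nat_lit 5, nat_lit 4, nat_lit 6, nat_lit 2, nat_lit 5, nat_lit 3, nat_lit 4, nat_lit 1, nat_lit 3, nat_lit 0]))) (.node (nat_lit 2302) (.leaf ((nat_lit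 35), [nat_lit 5, nat_lit 6, nat_lit 0, nat_lit 4, nat_lit 6, nat_lit 5, nat_lit 0, nat_lit 1, nat_lit 5, nat_lit 4, nat_lit 2, nat_lit 0, nat_lit 1])) (.node (nat_lit 2303) (.leaf ((nat_lit 1158), [nat_lit 2, nat_lit 5, nat_lit 6, nat_lit 5, nat_lit 2, nat_lit 6, nat_lit 1, nat_lit 5, nat_lit 4, nat_lit 1, nat_lit 3, nat_lit 2, nat_lit 0])) (.leaf ((nat_lit 686), [nat_lit 4, nat_lit 2, nat_lit 3, nat_lit 6, nat_lit 3, nat_lit 2, nat_lit 5, nat_lit 1, nat_lit 0, nat_lit 4, nat_lit 1, nat_lit 3, nat_lit 1, nat_lit 0])))))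
 (.node (nat_lit 2307) (.node (nat_lit 2305) (.leaf ((nat_lit 1367), [nat_lit 5, nat_lit 1, nat_lit 0, nat_lit 6, nat_lit 2, nat_lit 6, nat_lit 3, nat_lit 5, nat_lit 2, nat_lit 4, nat_lit 2, nat_lit 3])) (.node (nat_lit 2306) (.leaf ((nat_lit 395), [nat_lit 1, nat_lit 6, nat_lit 4, nat_lit 3, nat_lit 6, nat_lit 3, nat_lit 0, nat_lit 4, nat_lit 1, nat_lit 5, nat_lit 3])) (.leaf ((nat_lit 194), [nat_lit 1, nat_lit 5, nat_lit 6, nat_lit 1, nat_lit 0, nat_lit 6, nat_lit 5, nat_lit 2, nat_lit 5, nat_lit 1, nat_lit 0, nat_lit 4, nat_lit 1])))) (.node (nat_lit 2308) (.leaf ((nat_lit 883), [nat_lit 0, nat_lit 4, nat_lit 6, nat_lit 3, nat_lit 0, nat_lit 6, nat_lit 2, nat_lit 0, nat_lit 5, nat_lit 2, nat_lit 0, nat_lit 4, nat_lit 3, nat_lit 0])) (.node (nat_lit 2309) (.leaf ((nat_lit 545), [nat_lit 4, nat_lit 6, nat_lit 4, nat_lit 1, nat_lit 3, nat_lit 6,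 nat_lit 2, nat_lit 5, nat_lit 3, nat_lit 2])) (.leaf ((nat_lit 1047), [nat_lit 6, nat_lit 1, nat_lit 6, nat_lit 5, nat_lit 1, nat_lit 6, nat_lit 5, nat_lit 1, nat_lit 3, nat_lit 4, nat_lit 2, nat_lit 0, nat_lit 1])))))))
 (.node (nat_lit 2321) (.node (nat_lit 2315) (.node (nat_lit 2312) (.node (nat_lit 2311) (.leaf ((nat_lit 1046), [nat_lit 6, nat_lit 0, nat_lit 1, nat_lit 6, nat_lit 1, nat_lit 6, nat_lit 4, nat_lit 0, nat_lit 4, nat_lit 1, nat_lit 4, nat_lit 1, nat_lit 0, nat_lit 1])) (.leaf ((nat_lit 1284), [nat_lit 5, nat_lit 2, nat_lit 6, nat_lit 1, nat_lit 0, nat_lit 4, nat_lit 3, nat_lit 5, nat_lit 1, nat_lit 3, nat_lit 0]))) (.node (nat_lit 2313) (.leaf ((nat_lit 1192), [nat_lit 2, nat_lit 5, nat_lit 6, nat_lit 2, nat_lit 3, nat_lit 6, nat_lit 5, nat_lit 4, nat_lit 3, nat_lit 5, nat_lit 0, nat_lit 2])) (.node (nat_lit 2314) (.leaf ((nat_lit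 1368), [nat_lit 6, nat_lit 3, nat_lit 6, nat_lit 4, nat_lit 0, nat_lit 6, nat_lit 4, nat_lit 2, nat_lit 4, nat_lit 3, nat_lit 4, nat_lit 0, nat_lit 1])) (.leaf ((nat_lit 1337), [nat_lit 6, nat_lit 2, nat_lit 6, nat_lit 4, nat_lit 0, nat_lit 6, nat_lit 0, nat_lit 4, nat_lit 5, nat_lit 1, nat_lit 4])))))
 (.node (nat_lit 2318) (.node (nat_lit 2316) (.leaf ((nat_lit 434), [nat_lit 6, nat_lit 2, nat_lit 6, nat_lit 4, nat_lit 2, nat_lit 6, nat_lit 5, nat_lit 4, nat_lit 2, nat_lit 0, nat_lit 4, nat_lit 1, nat_lit 0, nat_lit 2])) (.node (nat_lit 2317) (.leaf ((nat_lit 825), [nat_lit 5, nat_lit 6, nat_lit 1, nat_lit 3, nat_lit 6, nat_lit 1, nat_lit 0, nat_lit 5, nat_lit 4, nat_lit 2, nat_lit 0, nat_lit 2])) (.leaf ((nat_lit 859), [nat_lit 3, nat_lit 6, nat_lit 5, nat_lit 3, nat_lit 6, nat_lit 0, nat_lit 4, nat_lit 5, nat_lit 0, nat_lit 4, nat_lit 2, nat_lit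 3, nat_lit 1])))) (.node (nat_lit 2319) (.leaf ((nat_lit 842), [nat_lit 3, nat_lit 1, nat_lit 6, nat_lit 5, nat_lit 1, nat_lit 6, nat_lit 1, nat_lit 3, nat_lit 4, nat_lit 2, nat_lit 4, nat_lit 2, nat_lit 0])) (.node (nat_lit 2320) (.leaf ((nat_lit 871), [nat_lit 4, nat_lit 0, nat_lit 2, nat_lit 6, nat_lit 4, nat_lit 1, nat_lit 3, nat_lit 4, nat_lit 2, nat_lit 3, nat_lit 0])) (.leaf ((nat_lit 857), [nat_lit 2, nat_lit 6, nat_lit 2, nat_lit 6, nat_lit 1, nat_lit 5, nat_lit 3, nat_lit 4, nat_lit 0, nat_lit 1]))))))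
 (.node (nat_lit 2326) (.node (nat_lit 2323) (.node (nat_lit 2322) (.leaf ((nat_lit 1369), [nat_lit 2, nat_lit 6, nat_lit 1, nat_lit 5, nat_lit 6, nat_lit 4, nat_lit 2, nat_lit 3, nat_lit 0, nat_lit 4, nat_lit 1, nat_lit 3, nat_lit 1, nat_lit 0])) (.leaf ((nat_lit 1043), [nat_lit 6, nat_lit 0, nat_lit 4, nat_lit 1, nat_lit 6, nat_lit 1, nat_lit 4, nat_lit 2, nat_lit 4, nat_lit 0]))) (.node (nat_lit 2324) (.leaf ((nat_lit 792), [nat_lit 6, nat_lit 2, nat_lit 3, nat_lit 5, nat_lit 6, nat_lit 0, nat_lit 4, nat_lit 0, nat_lit 5, nat_lit 1, nat_lit 0, nat_lit 2, nat_lit 0])) (.node (nat_lit 2325) (.leaf ((nat_lit 712), [nat_lit 3, nat_lit 4, nat_lit 1, nat_lit 6, nat_lit 5, nat_lit 2, nat_lit 5, nat_lit 3, nat_lit 4, nat_lit 3, nat_lit 0])) (.leaf ((nat_lit 839), [nat_lit 6, nat_lit 4, nat_lit 2, nat_lit 3, nat_lit 6, nat_lit 2, nat_lit 5, nat_lit 2,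 nat_lit 4, nat_lit 0])))))
 (.node (nat_lit 2329) (.node (nat_lit 2327) (.leaf ((nat_lit 346), [nat_lit 1, nat_lit 5, nat_lit 3, nat_lit 6, nat_lit 1, nat_lit 6, nat_lit 4, nat_lit 2, nat_lit 3, nat_lit 0, nat_lit 4, nat_lit 2, nat_lit 0, nat_lit 1])) (.node (nat_lit 2328) (.leaf ((nat_lit 238), [nat_lit 4, nat_lit 5, nat_lit 6, nat_lit 2, nat_lit 3, nat_lit 6, nat_lit 2, nat_lit 0, nat_lit 5, nat_lit 4, nat_lit 2, nat_lit 3, nat_lit 1, nat_lit 0])) (.leaf ((nat_lit 99), [nat_lit 0, nat_lit 1, nat_lit 6, nat_lit 0, nat_lit 2, nat_lit 0, nat_lit 4, nat_lit 2, nat_lit 3, nat_lit 1])))) (.node (nat_lit 2330) (.leaf ((nat_lit 1276), [nat_lit 2, nat_lit 6, nat_lit 0, nat_lit 1, nat_lit 5, nat_lit 6, nat_lit 0, nat_lit 2, nat_lit 0, nat_lit 5, nat_lit 4, nat_lit 1, nat_lit 0, nat_lit 1])) (.node (nat_lit 2331) (.leaf ((nat_lit 1109), [nat_lit 1, nat_lit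 6, nat_lit 4, nat_lit 3, nat_lit 6, nat_lit 4, nat_lit 0, nat_lit 2, nat_lit 4, nat_lit 0, nat_lit 2])) (.leaf ((nat_lit 1229), [nat_lit 5, nat_lit 2, nat_lit 6, nat_lit 1, nat_lit 5, nat_lit 0, nat_lit 4, nat_lit 0, nat_lit 2]))))))))
 (.node (nat_lit 2354) (.node (nat_lit 2343) (.node (nat_lit 2337) (.node (nat_lit 2334) (.node (nat_lit 2333) (.leaf ((nat_lit 1370), [nat_lit 1, nat_lit 0, nat_lit 6, nat_lit 2, nat_lit 6, nat_lit 2, nat_lit 4, nat_lit 2, nat_lit 4, nat_lit 1, nat_lit 0, nat_lit 2, nat_lit 0])) (.leaf ((nat_lit 227), [nat_lit 0, nat_lit 4, nat_lit 6, nat_lit 3, nat_lit 2, nat_lit 6, nat_lit 1, nat_lit 4, nat_lit 3, nat_lit 0, nat_lit 4, nat_lit 1, nat_lit 0, nat_lit 1]))) (.node (nat_lit 2335) (.leaf ((nat_lit 904), [nat_lit 2, nat_lit 4, nat_lit 6, nat_lit 2, nat_lit 6, nat_lit 0, nat_lit 5, nat_lit 2, nat_lit 5, nat_lit 1, nat_lit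 3, nat_lit 2])) (.node (nat_lit 2336) (.leaf ((nat_lit 83), [nat_lit 4, nat_lit 5, nat_lit 4, nat_lit 6, nat_lit 4, nat_lit 0, nat_lit 1, nat_lit 5, nat_lit 4, nat_lit 1, nat_lit 3, nat_lit 0])) (.leaf ((nat_lit 1371), [nat_lit 6, nat_lit 5, nat_lit 6, nat_lit 4, nat_lit 0, nat_lit 6, nat_lit 4, nat_lit 0, nat_lit 5, nat_lit 4, nat_lit 1, nat_lit 0, nat_lit 1, nat_lit 0])))))
 (.node (nat_lit 2340) (.node (nat_lit 2338) (.leaf ((nat_lit 1372), [nat_lit 5, nat_lit 6, nat_lit 4, nat_lit 2, nat_lit 0, nat_lit 6, nat_lit 0, nat_lit 5, nat_lit 4, nat_lit 2, nat_lit 0, nat_lit 1, nat_lit 0])) (.node (nat_lit 2339) (.leaf ((nat_lit 1355), [nat_lit 5, nat_lit 2, nat_lit 6, nat_lit 1, nat_lit 6, nat_lit 1, nat_lit 4, nat_lit 5, nat_lit 0, nat_lit 4, nat_lit 2])) (.leaf ((nat_lit 201), [nat_lit 6, nat_lit 4, nat_lit 1, nat_lit 0, nat_lit 6, nat_lit 4, nat_lit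 3, nat_lit 1, nat_lit 5, nat_lit 4, nat_lit 1, nat_lit 0, nat_lit 2])))) (.node (nat_lit 2341) (.leaf ((nat_lit 688), [nat_lit 1, nat_lit 4, nat_lit 6, nat_lit 2, nat_lit 6, nat_lit 3, nat_lit 0, nat_lit 4, nat_lit 1, nat_lit 5, nat_lit 3, nat_lit 1, nat_lit 0])) (.node (nat_lit 2342) (.leaf ((nat_lit 993), [nat_lit 4, nat_lit 0, nat_lit 6, nat_lit 1, nat_lit 5, nat_lit 6, nat_lit 2, nat_lit 3, nat_lit 0])) (.leaf ((nat_lit 1373), [nat_lit 5, nat_lit 1, nat_lit 0, nat_lit 6, nat_lit 2, nat_lit 6, nat_lit 1, nat_lit 5, nat_lit 3, nat_lit 0, nat_lit 4, nat_lit 1, nat_lit 0, nat_lit 2, nat_lit 0]))))))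
 (.node (nat_lit 2348) (.node (nat_lit 2345) (.node (nat_lit 2344) (.leaf ((nat_lit 890), [nat_lit 3, nat_lit 2, nat_lit 0, nat_lit 6, nat_lit 3, nat_lit 0, nat_lit 4, nat_lit 1, nat_lit 4, nat_lit 1, nat_lit 3, nat_lit 2, nat_lit 0])) (.leaf ((nat_lit 1359), [nat_lit 6, nat_lit 1, nat_lit 3, nat_lit 5, nat_lit 6, nat_lit 0, nat_lit 2, nat_lit 4, nat_lit 2, nat_lit 3, nat_lit 0]))) (.node (nat_lit 2346) (.leaf ((nat_lit 1281), [nat_lit 3, nat_lit 6, nat_lit 5, nat_lit 4, nat_lit 6, nat_lit 5, nat_lit 1, nat_lit 4, nat_lit 5, nat_lit 1])) (.node (nat_lit 2347) (.leaf ((nat_lit 113), [nat_lit 6, nat_lit 2, nat_lit 5, nat_lit 6, nat_lit 2, nat_lit 6, nat_lit 3, nat_lit 2, nat_lit 0, nat_lit 4, nat_lit 3, nat_lit 0])) (.leaf ((nat_lit 1216), [nat_lit 4, nat_lit 6, nat_lit 2, nat_lit 6, nat_lit 4, nat_lit 0, nat_lit 4, nat_lit 2, nat_lit 0])))))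
 (.node (nat_lit 2351) (.node (nat_lit 2349) (.leaf ((nat_lit 1374), [nat_lit 1, nat_lit 6, nat_lit 5, nat_lit 2, nat_lit 4, nat_lit 6, nat_lit 5, nat_lit 4, nat_lit 2, nat_lit 5, nat_lit 2, nat_lit 3])) (.node (nat_lit 2350) (.leaf ((nat_lit 1292), [nat_lit 1, nat_lit 3, nat_lit 6, nat_lit 5, nat_lit 1, nat_lit 6, nat_lit 5, nat_lit 1, nat_lit 3, nat_lit 0, nat_lit 4, nat_lit 2, nat_lit 0, nat_lit 1, nat_lit 0])) (.leaf ((nat_lit 841), [nat_lit 6, nat_lit 5, nat_lit 2, nat_lit 0, nat_lit 6, nat_lit 3, nat_lit 4, nat_lit 3, nat_lit 0, nat_lit 5, nat_lit 1, nat_lit 0, nat_lit 1, nat_lit 0])))) (.node (nat_lit 2352) (.leaf ((nat_lit 1146), [nat_lit 6, nat_lit 5, nat_lit 2, nat_lit 0, nat_lit 6, nat_lit 4, nat_lit 2, nat_lit 0, nat_lit 5, nat_lit 4, nat_lit 2, nat_lit 3, nat_lit 2, nat_lit 0])) (.node (nat_lit 2353) (.leaf ((nat_lit 1375), [nat_lit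 0, nat_lit 4, nat_lit 6, nat_lit 2, nat_lit 6, nat_lit 0, nat_lit 1, nat_lit 4, nat_lit 0, nat_lit 4, nat_lit 0])) (.leaf ((nat_lit 1366), [nat_lit 4, nat_lit 2, nat_lit 6, nat_lit 3, nat_lit 0, nat_lit 6, nat_lit 3, nat_lit 4, nat_lit 1, nat_lit 0, nat_lit 4, nat_lit 1, nat_lit 0, nat_lit 1, nat_lit 0])))))))
 (.node (nat_lit 2365) (.node (nat_lit 2359) (.node (nat_lit 2356) (.node (nat_lit 2355) (.leaf ((nat_lit 714), [nat_lit 1, nat_lit 3, nat_lit 6, nat_lit 4, nat_lit 0, nat_lit 6, nat_lit 4, nat_lit 3, nat_lit 0, nat_lit 5, nat_lit 3])) (.leaf ((nat_lit 1376), [nat_lit 1, nat_lit 6, nat_lit 2, nat_lit 4, nat_lit 6, nat_lit 4, nat_lit 2, nat_lit 5, nat_lit 2, nat_lit 3, nat_lit 2]))) (.node (nat_lit 2357) (.leaf ((nat_lit 186), [nat_lit 5, nat_lit 6, nat_lit 0, nat_lit 4, nat_lit 6, nat_lit 0, nat_lit 1, nat_lit 4, nat_lit 3, nat_lit 5, nat_lit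 2, nat_lit 0, nat_lit 2, nat_lit 0])) (.node (nat_lit 2358) (.leaf ((nat_lit 1377), [nat_lit 2, nat_lit 6, nat_lit 0, nat_lit 1, nat_lit 6, nat_lit 5, nat_lit 2, nat_lit 5, nat_lit 4, nat_lit 1, nat_lit 3, nat_lit 0])) (.leaf ((nat_lit 960), [nat_lit 4, nat_lit 0, nat_lit 6, nat_lit 0, nat_lit 2, nat_lit 6, nat_lit 5, nat_lit 0, nat_lit 4, nat_lit 1, nat_lit 5])))))
 (.node (nat_lit 2362) (.node (nat_lit 2360) (.leaf ((nat_lit 1378), [nat_lit 0, nat_lit 2, nat_lit 6, nat_lit 2, nat_lit 6, nat_lit 4, nat_lit 0, nat_lit 5, nat_lit 4])) (.node (nat_lit 2361) (.leaf ((nat_lit 727), [nat_lit 1, nat_lit 3, nat_lit 6, nat_lit 0, nat_lit 4, nat_lit 6, nat_lit 5, nat_lit 2, nat_lit 5, nat_lit 4, nat_lit 5, nat_lit 3, nat_lit 1, nat_lit 0])) (.leaf ((nat_lit 1140), [nat_lit 6, nat_lit 4, nat_lit 5, nat_lit 6, nat_lit 3, nat_lit 4, nat_lit 0, nat_lit 2, nat_lit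 5, nat_lit 2, nat_lit 3, nat_lit 1, nat_lit 0])))) (.node (nat_lit 2363) (.leaf ((nat_lit 1248), [nat_lit 3, nat_lit 0, nat_lit 6, nat_lit 5, nat_lit 2, nat_lit 6, nat_lit 2, nat_lit 4, nat_lit 1, nat_lit 4, nat_lit 3])) (.node (nat_lit 2364) (.leaf ((nat_lit 1191), [nat_lit 6, nat_lit 2, nat_lit 5, nat_lit 3, nat_lit 6, nat_lit 0, nat_lit 1, nat_lit 4, nat_lit 3, nat_lit 0, nat_lit 4, nat_lit 2, nat_lit 3])) (.leaf ((nat_lit 1379), [nat_lit 6, nat_lit 0, nat_lit 1, nat_lit 5, nat_lit 6, nat_lit 1, nat_lit 5, nat_lit 1, nat_lit 3, nat_lit 2, nat_lit 0]))))))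
 (.node (nat_lit 2370) (.node (nat_lit 2367) (.node (nat_lit 2366) (.leaf ((nat_lit 697), [nat_lit 1, nat_lit 6, nat_lit 3, nat_lit 2, nat_lit 6, nat_lit 3, nat_lit 5, nat_lit 1, nat_lit 0, nat_lit 4, nat_lit 2, nat_lit 3, nat_lit 2])) (.leaf ((nat_lit 1380), [nat_lit 2, nat_lit 6, nat_lit 1, nat_lit 5, nat_lit 6, nat_lit 3, nat_lit 1, nat_lit 5, nat_lit 4, nat_lit 1, nat_lit 0, nat_lit 2, nat_lit 0]))) (.node (nat_lit 2368) (.leaf ((nat_lit 1375), [nat_lit 5, nat_lit 6, nat_lit 2, nat_lit 3, nat_lit 6, nat_lit 5, nat_lit 4, nat_lit 0, nat_lit 5, nat_lit 4, nat_lit 0])) (.node (nat_lit 2369) (.leaf ((nat_lit 1128), [nat_lit 6, nat_lit 4, nat_lit 2, nat_lit 6, nat_lit 4, nat_lit 0, nat_lit 5, nat_lit 2, nat_lit 0, nat_lit 2, nat_lit 0])) (.leaf ((nat_lit 998), [nat_lit 0, nat_lit 4, nat_lit 6, nat_lit 1, nat_lit 3, nat_lit 2, nat_lit 4, nat_lit 1,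 nat_lit 3, nat_lit 0])))))
 (.node (nat_lit 2373) (.node (nat_lit 2371) (.leaf ((nat_lit 84), [nat_lit 5, nat_lit 3, nat_lit 6, nat_lit 2, nat_lit 6, nat_lit 0, nat_lit 2, nat_lit 5, nat_lit 3, nat_lit 4, nat_lit 1, nat_lit 0, nat_lit 2, nat_lit 0])) (.node (nat_lit 2372) (.leaf ((nat_lit 1381), [nat_lit 1, nat_lit 3, nat_lit 6, nat_lit 5, nat_lit 1, nat_lit 6, nat_lit 4, nat_lit 1, nat_lit 4, nat_lit 2, nat_lit 4, nat_lit 2, nat_lit 3])) (.leaf ((nat_lit 1282), [nat_lit 3, nat_lit 5, nat_lit 6, nat_lit 1, nat_lit 5, nat_lit 2, nat_lit 0, nat_lit 4, nat_lit 3, nat_lit 1, nat_lit 0])))) (.node (nat_lit 2374) (.leaf ((nat_lit 81), [nat_lit 2, nat_lit 0, nat_lit 6, nat_lit 5, nat_lit 3, nat_lit 0, nat_lit 5, nat_lit 3, nat_lit 2, nat_lit 0])) (.node (nat_lit 2375) (.leaf ((nat_lit 1157), [nat_lit 3, nat_lit 6, nat_lit 3, nat_lit 5, nat_lit 0, nat_lit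 6, nat_lit 0, nat_lit 2, nat_lit 0, nat_lit 5, nat_lit 4])) (.leaf ((nat_lit 500), [nat_lit 5, nat_lit 3, nat_lit 4, nat_lit 6, nat_lit 2, nat_lit 6, nat_lit 2, nat_lit 4, nat_lit 2, nat_lit 0, nat_lit 4, nat_lit 3, nat_lit 0])))))))))
 (.node (nat_lit 2420) (.node (nat_lit 2398) (.node (nat_lit 2387) (.node (nat_lit 2381) (.node (nat_lit 2378) (.node (nat_lit 2377) (.leaf ((nat_lit 992), [nat_lit 1, nat_lit 6, nat_lit 4, nat_lit 3, nat_lit 6, nat_lit 3, nat_lit 0, nat_lit 4, nat_lit 1, nat_lit 4, nat_lit 1, nat_lit 0, nat_lit 2])) (.leaf ((nat_lit 1382), [nat_lit 0, nat_lit 6, nat_lit 2, nat_lit 4, nat_lit 0, nat_lit 6, nat_lit 5, nat_lit 0, nat_lit 2, nat_lit 4, nat_lit 0, nat_lit 2, nat_lit 0]))) (.node (nat_lit 2379) (.leaf ((nat_lit 778), [nat_lit 5, nat_lit 6, nat_lit 1, nat_lit 5, nat_lit 6, nat_lit 5, nat_lit 1, nat_lit 5, nat_lit 2, nat_lit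 0])) (.node (nat_lit 2380) (.leaf ((nat_lit 772), [nat_lit 3, nat_lit 0, nat_lit 6, nat_lit 5, nat_lit 2, nat_lit 6, nat_lit 1, nat_lit 3, nat_lit 1, nat_lit 0, nat_lit 4, nat_lit 1, nat_lit 3, nat_lit 1, nat_lit 0])) (.leaf ((nat_lit 1313), [nat_lit 1, nat_lit 3, nat_lit 6, nat_lit 3, nat_lit 4, nat_lit 3, nat_lit 0, nat_lit 4, nat_lit 1, nat_lit 3, nat_lit 1])))))
 (.node (nat_lit 2384) (.node (nat_lit 2382) (.leaf ((nat_lit 1383), [nat_lit 0, nat_lit 2, nat_lit 6, nat_lit 4, nat_lit 0, nat_lit 6, nat_lit 5, nat_lit 4, nat_lit 2, nat_lit 5, nat_lit 1, nat_lit 3, nat_lit 2, nat_lit 0])) (.node (nat_lit 2383) (.leaf ((nat_lit 325), [nat_lit 3, nat_lit 0, nat_lit 6, nat_lit 2, nat_lit 6, nat_lit 4, nat_lit 0, nat_lit 4, nat_lit 0, nat_lit 1])) (.leaf ((nat_lit 1384), [nat_lit 1, nat_lit 6, nat_lit 3, nat_lit 2, nat_lit 6, nat_lit 4, nat_lit 3, nat_lit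 4, nat_lit 2, nat_lit 3, nat_lit 2])))) (.node (nat_lit 2385) (.leaf ((nat_lit 532), [nat_lit 5, nat_lit 2, nat_lit 6, nat_lit 0, nat_lit 1, nat_lit 6, nat_lit 1, nat_lit 5, nat_lit 0])) (.node (nat_lit 2386) (.leaf ((nat_lit 145), [nat_lit 1, nat_lit 6, nat_lit 1, nat_lit 4, nat_lit 1, nat_lit 6, nat_lit 0, nat_lit 2, nat_lit 0, nat_lit 4, nat_lit 0, nat_lit 1, nat_lit 0])) (.leaf ((nat_lit 1385), [nat_lit 1, nat_lit 6, nat_lit 4, nat_lit 3, nat_lit 6, nat_lit 1, nat_lit 3, nat_lit 5, nat_lit 3, nat_lit 4, nat_lit 1, nat_lit 3, nat_lit 2]))))))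
 (.node (nat_lit 2392) (.node (nat_lit 2389) (.node (nat_lit 2388) (.leaf ((nat_lit 1290), [nat_lit 5, nat_lit 4, nat_lit 6, nat_lit 0, nat_lit 1, nat_lit 6, nat_lit 1, nat_lit 0, nat_lit 2, nat_lit 4, nat_lit 2, nat_lit 0, nat_lit 1, nat_lit 0])) (.leaf ((nat_lit 354), [nat_lit 4, nat_lit 2, nat_lit 6, nat_lit 2, nat_lit 3, nat_lit 6, nat_lit 5, nat_lit 2, nat_lit 0, nat_lit 5, nat_lit 4, nat_lit 1]))) (.node (nat_lit 2390) (.leaf ((nat_lit 564), [nat_lit 6, nat_lit 3, nat_lit 6, nat_lit 4, nat_lit 0, nat_lit 4, nat_lit 0, nat_lit 2])) (.node (nat_lit 2391) (.leaf ((nat_lit 1156), [nat_lit 3, nat_lit 6, nat_lit 2, nat_lit 0, nat_lit 6, nat_lit 4, nat_lit 3, nat_lit 0, nat_lit 5, nat_lit 1, nat_lit 3])) (.leaf ((nat_lit 1288), [nat_lit 6, nat_lit 2, nat_lit 4, nat_lit 2, nat_lit 0, nat_lit 6, nat_lit 5, nat_lit 1, nat_lit 5, nat_lit 0, nat_lit 4,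 nat_lit 3, nat_lit 0])))))
 (.node (nat_lit 2395) (.node (nat_lit 2393) (.leaf ((nat_lit 485), [nat_lit 5, nat_lit 1, nat_lit 0, nat_lit 5, nat_lit 4, nat_lit 0, nat_lit 2])) (.node (nat_lit 2394) (.leaf ((nat_lit 254), [nat_lit 5, nat_lit 1, nat_lit 6, nat_lit 3, nat_lit 0, nat_lit 6, nat_lit 4, nat_lit 0, nat_lit 5, nat_lit 2, nat_lit 0, nat_lit 4, nat_lit 0])) (.leaf ((nat_lit 749), [nat_lit 5, nat_lit 0, nat_lit 2, nat_lit 6, nat_lit 3, nat_lit 5, nat_lit 1, nat_lit 3, nat_lit 2, nat_lit 0])))) (.node (nat_lit 2396) (.leaf ((nat_lit 1243), [nat_lit 5, nat_lit 0, nat_lit 4, nat_lit 6, nat_lit 2, nat_lit 6, nat_lit 4, nat_lit 3, nat_lit 0, nat_lit 4, nat_lit 2, nat_lit 3, nat_lit 2, nat_lit 0])) (.node (nat_lit 2397) (.leaf ((nat_lit 1201), [nat_lit 5, nat_lit 6, nat_lit 5, nat_lit 2, nat_lit 6, nat_lit 2, nat_lit 0, nat_lit 5, nat_lit 2, nat_lit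 0, nat_lit 4, nat_lit 2, nat_lit 0, nat_lit 1])) (.leaf ((nat_lit 1186), [nat_lit 6, nat_lit 3, nat_lit 6, nat_lit 4, nat_lit 0, nat_lit 6, nat_lit 1, nat_lit 4, nat_lit 5, nat_lit 3, nat_lit 1, nat_lit 0])))))))
 (.node (nat_lit 2409) (.node (nat_lit 2403) (.node (nat_lit 2400) (.node (nat_lit 2399) (.leaf ((nat_lit 351), [nat_lit 0, nat_lit 6, nat_lit 0, nat_lit 1, nat_lit 6, nat_lit 5, nat_lit 1, nat_lit 4, nat_lit 3, nat_lit 5, nat_lit 1, nat_lit 0])) (.leaf ((nat_lit 1206), [nat_lit 3, nat_lit 6, nat_lit 4, nat_lit 1, nat_lit 5, nat_lit 2, nat_lit 5, nat_lit 3, nat_lit 1, nat_lit 0]))) (.node (nat_lit 2401) (.leaf ((nat_lit 281), [nat_lit 2, nat_lit 6, nat_lit 4, nat_lit 0, nat_lit 6, nat_lit 1, nat_lit 3, nat_lit 4, nat_lit 1, nat_lit 0, nat_lit 1])) (.node (nat_lit 2402) (.leaf ((nat_lit 1374), [nat_lit 5, nat_lit 6, nat_lit 3, nat_lit 6,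 nat_lit 3, nat_lit 5, nat_lit 1, nat_lit 0, nat_lit 4, nat_lit 1, nat_lit 0, nat_lit 1])) (.leaf ((nat_lit 1075), [nat_lit 2, nat_lit 6, nat_lit 2, nat_lit 4, nat_lit 6, nat_lit 4, nat_lit 1, nat_lit 4, nat_lit 0, nat_lit 1, nat_lit 0])))))
 (.node (nat_lit 2406) (.node (nat_lit 2404) (.leaf ((nat_lit 422), [nat_lit 6, nat_lit 5, nat_lit 3, nat_lit 6, nat_lit 0, nat_lit 4, nat_lit 0, nat_lit 4, nat_lit 1, nat_lit 0, nat_lit 2])) (.node (nat_lit 2405) (.leaf ((nat_lit 445), [nat_lit 0, nat_lit 6, nat_lit 5, nat_lit 4, nat_lit 6, nat_lit 5, nat_lit 2, nat_lit 0, nat_lit 5, nat_lit 1, nat_lit 3, nat_lit 2])) (.leaf ((nat_lit 286), [nat_lit 2, nat_lit 4, nat_lit 6, nat_lit 4, nat_lit 1, nat_lit 6, nat_lit 5, nat_lit 2, nat_lit 5, nat_lit 1, nat_lit 0, nat_lit 4, nat_lit 1, nat_lit 0, nat_lit 1])))) (.node (nat_lit 2407) (.leaf ((nat_lit 590), [nat_lit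 6, nat_lit 3, nat_lit 5, nat_lit 0, nat_lit 6, nat_lit 1, nat_lit 5, nat_lit 1, nat_lit 4, nat_lit 3, nat_lit 0])) (.node (nat_lit 2408) (.leaf ((nat_lit 579), [nat_lit 0, nat_lit 6, nat_lit 3, nat_lit 5, nat_lit 1, nat_lit 0, nat_lit 4, nat_lit 2, nat_lit 3, nat_lit 2, nat_lit 0])) (.leaf ((nat_lit 1386), [nat_lit 2, nat_lit 6, nat_lit 3, nat_lit 4, nat_lit 6, nat_lit 1, nat_lit 4, nat_lit 5, nat_lit 2, nat_lit 0, nat_lit 1, nat_lit 0]))))))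
 (.node (nat_lit 2414) (.node (nat_lit 2411) (.node (nat_lit 2410) (.leaf ((nat_lit 1387), [nat_lit 1, nat_lit 6, nat_lit 4, nat_lit 1, nat_lit 0, nat_lit 6, nat_lit 1, nat_lit 4, nat_lit 3, nat_lit 2, nat_lit 4, nat_lit 3, nat_lit 2])) (.leaf ((nat_lit 239), [nat_lit 6, nat_lit 2, nat_lit 5, nat_lit 6, nat_lit 2, nat_lit 6, nat_lit 1, nat_lit 5, nat_lit 1, nat_lit 4, nat_lit 3, nat_lit 2]))) (.node (nat_lit 2412) (.leaf ((nat_lit 864), [nat_lit 5, nat_lit 6, nat_lit 5, nat_lit 2, nat_lit 0, nat_lit 6, nat_lit 3, nat_lit 5, nat_lit 4, nat_lit 3, nat_lit 4, nat_lit 1, nat_lit 0, nat_lit 1])) (.node (nat_lit 2413) (.leaf ((nat_lit 888), [nat_lit 5, nat_lit 4, nat_lit 6, nat_lit 4, nat_lit 2, nat_lit 6, nat_lit 1, nat_lit 4, nat_lit 3, nat_lit 5, nat_lit 0])) (.leaf ((nat_lit 1358), [nat_lit 5, nat_lit 4, nat_lit 6, nat_lit 5, nat_lit 2, nat_lit 6,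 nat_lit 4, nat_lit 0, nat_lit 1, nat_lit 5, nat_lit 4, nat_lit 2, nat_lit 3, nat_lit 0])))))
 (.node (nat_lit 2417) (.node (nat_lit 2415) (.leaf ((nat_lit 1003), [nat_lit 5, nat_lit 6, nat_lit 0, nat_lit 5, nat_lit 3, nat_lit 6, nat_lit 4, nat_lit 0, nat_lit 5, nat_lit 2, nat_lit 5, nat_lit 3, nat_lit 2])) (.node (nat_lit 2416) (.leaf ((nat_lit 1388), [nat_lit 1, nat_lit 5, nat_lit 3, nat_lit 6, nat_lit 1, nat_lit 6, nat_lit 2, nat_lit 5, nat_lit 0, nat_lit 4, nat_lit 2, nat_lit 0, nat_lit 1])) (.leaf ((nat_lit 1389), [nat_lit 0, nat_lit 6, nat_lit 2, nat_lit 6, nat_lit 5, nat_lit 4, nat_lit 0, nat_lit 2, nat_lit 4, nat_lit 1, nat_lit 3, nat_lit 2, nat_lit 0])))) (.node (nat_lit 2418) (.leaf ((nat_lit 1325), [nat_lit 3, nat_lit 0, nat_lit 6, nat_lit 2, nat_lit 6, nat_lit 3, nat_lit 5, nat_lit 1, nat_lit 5, nat_lit 2, nat_lit 0, nat_lit 2])) (.node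 (nat_lit 2419) (.leaf ((nat_lit 1317), [nat_lit 2, nat_lit 6, nat_lit 5, nat_lit 1, nat_lit 6, nat_lit 1, nat_lit 4, nat_lit 2, nat_lit 4, nat_lit 3, nat_lit 2])) (.leaf ((nat_lit 1293), [nat_lit 3, nat_lit 5, nat_lit 6, nat_lit 5, nat_lit 2, nat_lit 0, nat_lit 5, nat_lit 4, nat_lit 2, nat_lit 0]))))))))
 (.node (nat_lit 2442) (.node (nat_lit 2431) (.node (nat_lit 2425) (.node (nat_lit 2422) (.node (nat_lit 2421) (.leaf ((nat_lit 214), [nat_lit 1, nat_lit 0, nat_lit 6, nat_lit 2, nat_lit 6, nat_lit 5, nat_lit 1, nat_lit 5, nat_lit 0, nat_lit 4, nat_lit 1, nat_lit 0, nat_lit 2])) (.leaf ((nat_lit 642), [nat_lit 5, nat_lit 2, nat_lit 6, nat_lit 1, nat_lit 0, nat_lit 6, nat_lit 2, nat_lit 4, nat_lit 3, nat_lit 2, nat_lit 4, nat_lit 1, nat_lit 3, nat_lit 1, nat_lit 0]))) (.node (nat_lit 2423) (.leaf ((nat_lit 1273), [nat_lit 1, nat_lit 0, nat_lit 4,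 nat_lit 2, nat_lit 6, nat_lit 5, nat_lit 1, nat_lit 4, nat_lit 1, nat_lit 4, nat_lit 2, nat_lit 3])) (.node (nat_lit 2424) (.leaf ((nat_lit 861), [nat_lit 4, nat_lit 6, nat_lit 1, nat_lit 0, nat_lit 6, nat_lit 3, nat_lit 4, nat_lit 1, nat_lit 0, nat_lit 4, nat_lit 1, nat_lit 0, nat_lit 2])) (.leaf ((nat_lit 80), [nat_lit 3, nat_lit 6, nat_lit 2, nat_lit 4, nat_lit 2, nat_lit 6, nat_lit 1, nat_lit 4, nat_lit 5, nat_lit 3])))))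
 (.node (nat_lit 2428) (.node (nat_lit 2426) (.leaf ((nat_lit 1163), [nat_lit 5, nat_lit 1, nat_lit 5, nat_lit 6, nat_lit 1, nat_lit 4, nat_lit 0, nat_lit 2, nat_lit 4, nat_lit 2, nat_lit 0, nat_lit 1, nat_lit 0])) (.node (nat_lit 2427) (.leaf ((nat_lit 856), [nat_lit 5, nat_lit 0, nat_lit 4, nat_lit 6, nat_lit 2, nat_lit 6, nat_lit 1, nat_lit 5, nat_lit 1, nat_lit 4])) (.leaf ((nat_lit 300), [nat_lit 0, nat_lit 6, nat_lit 4, nat_lit 3, nat_lit 6, nat_lit 1, nat_lit 4, nat_lit 3, nat_lit 2, nat_lit 4, nat_lit 2, nat_lit 0, nat_lit 2, nat_lit 0])))) (.node (nat_lit 2429) (.leaf ((nat_lit 879), [nat_lit 0, nat_lit 6, nat_lit 2, nat_lit 0, nat_lit 6, nat_lit 3, nat_lit 0, nat_lit 5, nat_lit 2, nat_lit 0, nat_lit 2])) (.node (nat_lit 2430) (.leaf ((nat_lit 428), [nat_lit 5, nat_lit 6, nat_lit 1, nat_lit 0, nat_lit 6, nat_lit 3, nat_lit 5, nat_lit 1,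 nat_lit 0, nat_lit 4, nat_lit 2, nat_lit 0, nat_lit 1])) (.leaf ((nat_lit 693), [nat_lit 1, nat_lit 5, nat_lit 6, nat_lit 1, nat_lit 0, nat_lit 6, nat_lit 5, nat_lit 3, nat_lit 2, nat_lit 5, nat_lit 4, nat_lit 1]))))))
 (.node (nat_lit 2436) (.node (nat_lit 2433) (.node (nat_lit 2432) (.leaf ((nat_lit 1328), [nat_lit 6, nat_lit 0, nat_lit 2, nat_lit 6, nat_lit 5, nat_lit 4, nat_lit 5, nat_lit 4, nat_lit 0])) (.leaf ((nat_lit 833), [nat_lit 2, nat_lit 5, nat_lit 1, nat_lit 6, nat_lit 2, nat_lit 6, nat_lit 3, nat_lit 0, nat_lit 4, nat_lit 1, nat_lit 5, nat_lit 1, nat_lit 0]))) (.node (nat_lit 2434) (.leaf ((nat_lit 1362), [nat_lit 6, nat_lit 2, nat_lit 4, nat_lit 2, nat_lit 0, nat_lit 6, nat_lit 2, nat_lit 0, nat_lit 2, nat_lit 0, nat_lit 4, nat_lit 0, nat_lit 1])) (.node (nat_lit 2435) (.leaf ((nat_lit 1369), [nat_lit 6, nat_lit 5, nat_lit 6, nat_lit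 3, nat_lit 0, nat_lit 6, nat_lit 5, nat_lit 0, nat_lit 2, nat_lit 4, nat_lit 3, nat_lit 2])) (.leaf ((nat_lit 539), [nat_lit 5, nat_lit 6, nat_lit 2, nat_lit 4, nat_lit 3, nat_lit 6, nat_lit 5, nat_lit 2, nat_lit 0, nat_lit 5, nat_lit 4, nat_lit 2, nat_lit 3, nat_lit 2])))))
 (.node (nat_lit 2439) (.node (nat_lit 2437) (.leaf ((nat_lit 1390), [nat_lit 2, nat_lit 4, nat_lit 6, nat_lit 2, nat_lit 6, nat_lit 4, nat_lit 2, nat_lit 3])) (.node (nat_lit 2438) (.leaf ((nat_lit 156), [nat_lit 3, nat_lit 6, nat_lit 1, nat_lit 6, nat_lit 4, nat_lit 5, nat_lit 1, nat_lit 5, nat_lit 4, nat_lit 1, nat_lit 3])) (.leaf ((nat_lit 386), [nat_lit 1, nat_lit 0, nat_lit 6, nat_lit 1, nat_lit 6, nat_lit 2, nat_lit 5, nat_lit 3, nat_lit 4, nat_lit 2, nat_lit 0, nat_lit 1, nat_lit 0])))) (.node (nat_lit 2440) (.leaf ((nat_lit 976), [nat_lit 5, nat_lit 3, nat_lit 4, nat_lit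 6, nat_lit 2, nat_lit 6, nat_lit 0, nat_lit 5, nat_lit 3, nat_lit 0, nat_lit 4, nat_lit 2, nat_lit 3, nat_lit 1])) (.node (nat_lit 2441) (.leaf ((nat_lit 1308), [nat_lit 4, nat_lit 6, nat_lit 0, nat_lit 1, nat_lit 6, nat_lit 5, nat_lit 2, nat_lit 4, nat_lit 2, nat_lit 3, nat_lit 0])) (.leaf ((nat_lit 1390), [nat_lit 2, nat_lit 4, nat_lit 3, nat_lit 6, nat_lit 0, nat_lit 4, nat_lit 0, nat_lit 4, nat_lit 2, nat_lit 0, nat_lit 2])))))))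
 (.node (nat_lit 2453) (.node (nat_lit 2447) (.node (nat_lit 2444) (.node (nat_lit 2443) (.leaf ((nat_lit 1164), [nat_lit 1, nat_lit 4, nat_lit 6, nat_lit 1, nat_lit 6, nat_lit 4, nat_lit 5, nat_lit 1, nat_lit 3, nat_lit 0, nat_lit 4, nat_lit 0, nat_lit 2, nat_lit 0])) (.leaf ((nat_lit 43), [nat_lit 3, nat_lit 6, nat_lit 5, nat_lit 2, nat_lit 6, nat_lit 1, nat_lit 0, nat_lit 5, nat_lit 2, nat_lit 4, nat_lit 1, nat_lit 3, nat_lit 0]))) (.node (nat_lit 2445) (.leaf ((nat_lit 559), [nat_lit 3, nat_lit 6, nat_lit 0, nat_lit 2, nat_lit 6, nat_lit 3, nat_lit 4, nat_lit 1, nat_lit 3, nat_lit 4, nat_lit 1, nat_lit 3, nat_lit 2])) (.node (nat_lit 2446) (.leaf ((nat_lit 1356), [nat_lit 0, nat_lit 2, nat_lit 6, nat_lit 5, nat_lit 2, nat_lit 0, nat_lit 6, nat_lit 4, nat_lit 1, nat_lit 4, nat_lit 2, nat_lit 3, nat_lit 1])) (.leaf ((nat_lit 216), [nat_lit 3, nat_lit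 1, nat_lit 5, nat_lit 6, nat_lit 2, nat_lit 6, nat_lit 3, nat_lit 5, nat_lit 4, nat_lit 3, nat_lit 4, nat_lit 2, nat_lit 3, nat_lit 1, nat_lit 0])))))
 (.node (nat_lit 2450) (.node (nat_lit 2448) (.leaf ((nat_lit 918), [nat_lit 4, nat_lit 3, nat_lit 5, nat_lit 6, nat_lit 2, nat_lit 6, nat_lit 3, nat_lit 2, nat_lit 4, nat_lit 2, nat_lit 0, nat_lit 4, nat_lit 1, nat_lit 0, nat_lit 2, nat_lit 0])) (.node (nat_lit 2449) (.leaf ((nat_lit 767), [nat_lit 4, nat_lit 6, nat_lit 4, nat_lit 0, nat_lit 2, nat_lit 6, nat_lit 5, nat_lit 2, nat_lit 4, nat_lit 3, nat_lit 4, nat_lit 2, nat_lit 0, nat_lit 1])) (.leaf ((nat_lit 1170), [nat_lit 3, nat_lit 2, nat_lit 6, nat_lit 4, nat_lit 0, nat_lit 6, nat_lit 2, nat_lit 0, nat_lit 5, nat_lit 4, nat_lit 1, nat_lit 0, nat_lit 1, nat_lit 0])))) (.node (nat_lit 2451) (.leaf ((nat_lit 975), [nat_lit 5, nat_lit 3, nat_lit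 6, nat_lit 4, nat_lit 3, nat_lit 6, nat_lit 0, nat_lit 4, nat_lit 3, nat_lit 5, nat_lit 2, nat_lit 0, nat_lit 2, nat_lit 0])) (.node (nat_lit 2452) (.leaf ((nat_lit 452), [nat_lit 5, nat_lit 2, nat_lit 6, nat_lit 0, nat_lit 4, nat_lit 6, nat_lit 5, nat_lit 4, nat_lit 5, nat_lit 1, nat_lit 0, nat_lit 1])) (.leaf ((nat_lit 627), [nat_lit 4, nat_lit 3, nat_lit 5, nat_lit 6, nat_lit 2, nat_lit 6, nat_lit 5, nat_lit 0, nat_lit 4, nat_lit 1, nat_lit 4, nat_lit 2, nat_lit 0, nat_lit 1]))))))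
 (.node (nat_lit 2458) (.node (nat_lit 2455) (.node (nat_lit 2454) (.leaf ((nat_lit 235), [nat_lit 5, nat_lit 6, nat_lit 3, nat_lit 6, nat_lit 2, nat_lit 5, nat_lit 1, nat_lit 5, nat_lit 4, nat_lit 1, nat_lit 3, nat_lit 1])) (.leaf ((nat_lit 788), [nat_lit 5, nat_lit 2, nat_lit 6, nat_lit 4, nat_lit 0, nat_lit 6, nat_lit 4, nat_lit 2, nat_lit 0, nat_lit 2, nat_lit 0, nat_lit 4, nat_lit 3]))) (.node (nat_lit 2456) (.leaf ((nat_lit 920), [nat_lit 5, nat_lit 6, nat_lit 0, nat_lit 4, nat_lit 6, nat_lit 3, nat_lit 5, nat_lit 1, nat_lit 5, nat_lit 3, nat_lit 2])) (.node (nat_lit 2457) (.leaf ((nat_lit 1143), [nat_lit 4, nat_lit 6, nat_lit 1, nat_lit 0, nat_lit 6, nat_lit 4, nat_lit 0, nat_lit 5, nat_lit 2, nat_lit 5, nat_lit 3, nat_lit 1])) (.leaf ((nat_lit 383), [nat_lit 5, nat_lit 3, nat_lit 4, nat_lit 6, nat_lit 2, nat_lit 6, nat_lit 3, nat_lit 4, nat_lit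 1, nat_lit 4, nat_lit 3, nat_lit 2, nat_lit 0])))))
 (.node (nat_lit 2461) (.node (nat_lit 2459) (.leaf ((nat_lit 1391), [nat_lit 6, nat_lit 4, nat_lit 0, nat_lit 5, nat_lit 3, nat_lit 6, nat_lit 4, nat_lit 3, nat_lit 5, nat_lit 2])) (.node (nat_lit 2460) (.leaf ((nat_lit 1392), [nat_lit 2, nat_lit 6, nat_lit 1, nat_lit 4, nat_lit 3, nat_lit 6, nat_lit 4, nat_lit 3, nat_lit 5, nat_lit 4, nat_lit 2, nat_lit 0, nat_lit 2])) (.leaf ((nat_lit 1364), [nat_lit 2, nat_lit 5, nat_lit 6, nat_lit 1, nat_lit 0, nat_lit 6, nat_lit 4, nat_lit 3, nat_lit 0, nat_lit 4, nat_lit 1, nat_lit 3, nat_lit 2, nat_lit 0])))) (.node (nat_lit 2462) (.leaf ((nat_lit 242), [nat_lit 4, nat_lit 1, nat_lit 6, nat_lit 5, nat_lit 2, nat_lit 6, nat_lit 3, nat_lit 4, nat_lit 1, nat_lit 5, nat_lit 1, nat_lit 0, nat_lit 1])) (.node (nat_lit 2463) (.leaf ((nat_lit 4), [nat_lit 3, nat_lit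 6, nat_lit 0, nat_lit 1, nat_lit 5, nat_lit 6, nat_lit 0, nat_lit 5, nat_lit 2, nat_lit 5, nat_lit 2, nat_lit 3, nat_lit 1])) (.leaf ((nat_lit 885), [nat_lit 3, nat_lit 6, nat_lit 0, nat_lit 4, nat_lit 6, nat_lit 5, nat_lit 4, nat_lit 5, nat_lit 1, nat_lit 5, nat_lit 2, nat_lit 0, nat_lit 2]))))))))))
noncomputable def rWd_14 : Tr (ℕ × List ℕ) := (.node (nat_lit 2552) (.node (nat_lit 2508) (.node (nat_lit 2486) (.node (nat_lit 2475) (.node (nat_lit 2469) (.node (nat_lit 2466) (.node (nat_lit 2465) (.leaf ((nat_lit 1329), [nat_lit 6, nat_lit 5, nat_lit 2, nat_lit 4, nat_lit 6, nat_lit 0, nat_lit 5, nat_lit 2, nat_lit 4, nat_lit 2, nat_lit 0, nat_lit 1, nat_lit 0])) (.leaf ((nat_lit 951), [nat_lit 5, nat_lit 4, nat_lit 3, nat_lit 6, nat_lit 2, nat_lit 6, nat_lit 4, nat_lit 3, nat_lit 5, nat_lit 1, nat_lit 5, nat_lit 2, nat_lit 3]))) (.node (nat_lit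 2467) (.leaf ((nat_lit 1172), [nat_lit 6, nat_lit 5, nat_lit 2, nat_lit 0, nat_lit 2, nat_lit 6, nat_lit 4, nat_lit 1, nat_lit 0, nat_lit 4, nat_lit 0, nat_lit 2, nat_lit 0])) (.node (nat_lit 2468) (.leaf ((nat_lit 1127), [nat_lit 6, nat_lit 0, nat_lit 4, nat_lit 5, nat_lit 6, nat_lit 4, nat_lit 2, nat_lit 4, nat_lit 0, nat_lit 4, nat_lit 3, nat_lit 2])) (.leaf ((nat_lit 1019), [nat_lit 3, nat_lit 4, nat_lit 0, nat_lit 6, nat_lit 2, nat_lit 6, nat_lit 5, nat_lit 1, nat_lit 3, nat_lit 2, nat_lit 4, nat_lit 2, nat_lit 0, nat_lit 2])))))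
 (.node (nat_lit 2472) (.node (nat_lit 2470) (.leaf ((nat_lit 740), [nat_lit 1, nat_lit 6, nat_lit 0, nat_lit 2, nat_lit 6, nat_lit 3, nat_lit 2, nat_lit 4, nat_lit 2, nat_lit 4, nat_lit 1, nat_lit 0, nat_lit 1, nat_lit 0])) (.node (nat_lit 2471) (.leaf ((nat_lit 1393), [nat_lit 3, nat_lit 4, nat_lit 6, nat_lit 2, nat_lit 6, nat_lit 0, nat_lit 4, nat_lit 1, nat_lit 5, nat_lit 1, nat_lit 0, nat_lit 1])) (.leaf ((nat_lit 1068), [nat_lit 5, nat_lit 6, nat_lit 5, nat_lit 1, nat_lit 4, nat_lit 6, nat_lit 1, nat_lit 3, nat_lit 5, nat_lit 4, nat_lit 2, nat_lit 3, nat_lit 2, nat_lit 0])))) (.node (nat_lit 2473) (.leaf ((nat_lit 1312), [nat_lit 6, nat_lit 4, nat_lit 0, nat_lit 5, nat_lit 3, nat_lit 6, nat_lit 5, nat_lit 0, nat_lit 4, nat_lit 5, nat_lit 1, nat_lit 3])) (.node (nat_lit 2474) (.leaf ((nat_lit 367), [nat_lit 5, nat_lit 6, nat_lit 2, nat_lit 4,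 nat_lit 2, nat_lit 6, nat_lit 1, nat_lit 5, nat_lit 0, nat_lit 2, nat_lit 4, nat_lit 1, nat_lit 0, nat_lit 1])) (.leaf ((nat_lit 1086), [nat_lit 3, nat_lit 6, nat_lit 4, nat_lit 1, nat_lit 3, nat_lit 6, nat_lit 2, nat_lit 4, nat_lit 5, nat_lit 0, nat_lit 4, nat_lit 3]))))))
 (.node (nat_lit 2480) (.node (nat_lit 2477) (.node (nat_lit 2476) (.leaf ((nat_lit 1181), [nat_lit 2, nat_lit 4, nat_lit 3, nat_lit 6, nat_lit 1, nat_lit 3, nat_lit 2, nat_lit 4, nat_lit 1, nat_lit 3, nat_lit 0])) (.leaf ((nat_lit 356), [nat_lit 2, nat_lit 6, nat_lit 1, nat_lit 3, nat_lit 6, nat_lit 2, nat_lit 5, nat_lit 3, nat_lit 0, nat_lit 4, nat_lit 0, nat_lit 2, nat_lit 0]))) (.node (nat_lit 2478) (.leaf ((nat_lit 1295), [nat_lit 6, nat_lit 3, nat_lit 6, nat_lit 1, nat_lit 5, nat_lit 3, nat_lit 0, nat_lit 4, nat_lit 2, nat_lit 3, nat_lit 2])) (.node (nat_lit 2479) (.leaf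 ((nat_lit 6), [nat_lit 3, nat_lit 6, nat_lit 4, nat_lit 1, nat_lit 3, nat_lit 6, nat_lit 5, nat_lit 1, nat_lit 4, nat_lit 5, nat_lit 0, nat_lit 4, nat_lit 3, nat_lit 1])) (.leaf ((nat_lit 551), [nat_lit 4, nat_lit 2, nat_lit 6, nat_lit 2, nat_lit 0, nat_lit 6, nat_lit 4, nat_lit 5, nat_lit 1, nat_lit 5, nat_lit 4, nat_lit 2, nat_lit 0, nat_lit 1, nat_lit 0])))))
 (.node (nat_lit 2483) (.node (nat_lit 2481) (.leaf ((nat_lit 368), [nat_lit 2, nat_lit 5, nat_lit 6, nat_lit 4, nat_lit 0, nat_lit 6, nat_lit 5, nat_lit 4, nat_lit 0, nat_lit 2, nat_lit 4, nat_lit 1, nat_lit 3, nat_lit 1])) (.node (nat_lit 2482) (.leaf ((nat_lit 1049), [nat_lit 2, nat_lit 6, nat_lit 5, nat_lit 4, nat_lit 2, nat_lit 0, nat_lit 6, nat_lit 1, nat_lit 0, nat_lit 4, nat_lit 3, nat_lit 5, nat_lit 3, nat_lit 2])) (.leaf ((nat_lit 1314), [nat_lit 2, nat_lit 6, nat_lit 2, nat_lit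 0, nat_lit 6, nat_lit 1, nat_lit 4, nat_lit 0, nat_lit 4, nat_lit 1, nat_lit 3])))) (.node (nat_lit 2484) (.leaf ((nat_lit 1306), [nat_lit 1, nat_lit 4, nat_lit 6, nat_lit 1, nat_lit 6, nat_lit 4, nat_lit 5, nat_lit 4, nat_lit 1, nat_lit 0])) (.node (nat_lit 2485) (.leaf ((nat_lit 1264), [nat_lit 4, nat_lit 5, nat_lit 6, nat_lit 1, nat_lit 6, nat_lit 1, nat_lit 4, nat_lit 5, nat_lit 1, nat_lit 3, nat_lit 4, nat_lit 2, nat_lit 0, nat_lit 2])) (.leaf ((nat_lit 1394), [nat_lit 3, nat_lit 6, nat_lit 2, nat_lit 5, nat_lit 6, nat_lit 5, nat_lit 2, nat_lit 5, nat_lit 2, nat_lit 4, nat_lit 2, nat_lit 3])))))))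
 (.node (nat_lit 2497) (.node (nat_lit 2491) (.node (nat_lit 2488) (.node (nat_lit 2487) (.leaf ((nat_lit 213), [nat_lit 1, nat_lit 6, nat_lit 5, nat_lit 2, nat_lit 4, nat_lit 6, nat_lit 2, nat_lit 0, nat_lit 2, nat_lit 0, nat_lit 4, nat_lit 1, nat_lit 0, nat_lit 2, nat_lit 0])) (.leaf ((nat_lit 1174), [nat_lit 2, nat_lit 5, nat_lit 6, nat_lit 5, nat_lit 2, nat_lit 6, nat_lit 4, nat_lit 3, nat_lit 5, nat_lit 4, nat_lit 2, nat_lit 3, nat_lit 1]))) (.node (nat_lit 2489) (.leaf ((nat_lit 1154), [nat_lit 4, nat_lit 6, nat_lit 5, nat_lit 1, nat_lit 3, nat_lit 6, nat_lit 3, nat_lit 2, nat_lit 4, nat_lit 2, nat_lit 4, nat_lit 2])) (.node (nat_lit 2490) (.leaf ((nat_lit 1352), [nat_lit 6, nat_lit 5, nat_lit 3, nat_lit 6, nat_lit 3, nat_lit 4, nat_lit 5, nat_lit 0, nat_lit 4, nat_lit 2, nat_lit 0, nat_lit 1, nat_lit 0])) (.leaf ((nat_lit 995), [nat_lit 5,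 nat_lit 1, nat_lit 6, nat_lit 2, nat_lit 6, nat_lit 5, nat_lit 3, nat_lit 0, nat_lit 4, nat_lit 1, nat_lit 0, nat_lit 1])))))
 (.node (nat_lit 2494) (.node (nat_lit 2492) (.leaf ((nat_lit 1321), [nat_lit 5, nat_lit 1, nat_lit 4, nat_lit 6, nat_lit 4, nat_lit 0, nat_lit 4, nat_lit 5, nat_lit 4, nat_lit 2, nat_lit 3, nat_lit 1])) (.node (nat_lit 2493) (.leaf ((nat_lit 1387), [nat_lit 5, nat_lit 6, nat_lit 4, nat_lit 1, nat_lit 0, nat_lit 6, nat_lit 0, nat_lit 4, nat_lit 1, nat_lit 4, nat_lit 2, nat_lit 3, nat_lit 0])) (.leaf ((nat_lit 292), [nat_lit 6, nat_lit 2, nat_lit 4, nat_lit 2, nat_lit 0, nat_lit 6, nat_lit 3, nat_lit 5, nat_lit 4, nat_lit 1, nat_lit 0, nat_lit 2, nat_lit 0])))) (.node (nat_lit 2495) (.leaf ((nat_lit 1372), [nat_lit 3, nat_lit 6, nat_lit 4, nat_lit 1, nat_lit 0, nat_lit 6, nat_lit 1, nat_lit 0, nat_lit 4, nat_lit 1, nat_lit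 0, nat_lit 1])) (.node (nat_lit 2496) (.leaf ((nat_lit 877), [nat_lit 5, nat_lit 4, nat_lit 5, nat_lit 6, nat_lit 2, nat_lit 6, nat_lit 5, nat_lit 2, nat_lit 5, nat_lit 3, nat_lit 4, nat_lit 2, nat_lit 3])) (.leaf ((nat_lit 1136), [nat_lit 5, nat_lit 2, nat_lit 4, nat_lit 6, nat_lit 2, nat_lit 5, nat_lit 2, nat_lit 3, nat_lit 1, nat_lit 0]))))))
 (.node (nat_lit 2502) (.node (nat_lit 2499) (.node (nat_lit 2498) (.leaf ((nat_lit 1395), [nat_lit 0, nat_lit 6, nat_lit 1, nat_lit 6, nat_lit 0, nat_lit 2, nat_lit 6, nat_lit 4, nat_lit 0, nat_lit 1, nat_lit 4, nat_lit 1])) (.leaf ((nat_lit 255), [nat_lit 3, nat_lit 5, nat_lit 6, nat_lit 4, nat_lit 0, nat_lit 6, nat_lit 4, nat_lit 1, nat_lit 3, nat_lit 2, nat_lit 0, nat_lit 4, nat_lit 3, nat_lit 0]))) (.node (nat_lit 2500) (.leaf ((nat_lit 1071), [nat_lit 6, nat_lit 3, nat_lit 5, nat_lit 0, nat_lit 6, nat_lit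 5, nat_lit 1, nat_lit 5, nat_lit 0, nat_lit 2, nat_lit 4, nat_lit 1, nat_lit 0, nat_lit 1, nat_lit 0])) (.node (nat_lit 2501) (.leaf ((nat_lit 1280), [nat_lit 5, nat_lit 4, nat_lit 6, nat_lit 1, nat_lit 6, nat_lit 3, nat_lit 4, nat_lit 5, nat_lit 1, nat_lit 3, nat_lit 1])) (.leaf ((nat_lit 807), [nat_lit 3, nat_lit 6, nat_lit 4, nat_lit 3, nat_lit 6, nat_lit 5, nat_lit 0, nat_lit 4, nat_lit 3, nat_lit 4, nat_lit 1, nat_lit 0, nat_lit 1])))))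
 (.node (nat_lit 2505) (.node (nat_lit 2503) (.leaf ((nat_lit 94), [nat_lit 0, nat_lit 6, nat_lit 2, nat_lit 3, nat_lit 6, nat_lit 5, nat_lit 2, nat_lit 3, nat_lit 4, nat_lit 2, nat_lit 3, nat_lit 2, nat_lit 0])) (.node (nat_lit 2504) (.leaf ((nat_lit 961), [nat_lit 4, nat_lit 0, nat_lit 2, nat_lit 6, nat_lit 3, nat_lit 2, nat_lit 0, nat_lit 4, nat_lit 2, nat_lit 0, nat_lit 2, nat_lit 0])) (.leaf ((nat_lit 473), [nat_lit 4, nat_lit 2, nat_lit 0, nat_lit 6, nat_lit 2, nat_lit 6, nat_lit 0, nat_lit 4, nat_lit 5, nat_lit 1, nat_lit 3])))) (.node (nat_lit 2506) (.leaf ((nat_lit 233), [nat_lit 2, nat_lit 6, nat_lit 2, nat_lit 6, nat_lit 5, nat_lit 0, nat_lit 2, nat_lit 0, nat_lit 4, nat_lit 3, nat_lit 0])) (.node (nat_lit 2507) (.leaf ((nat_lit 1383), [nat_lit 2, nat_lit 6, nat_lit 0, nat_lit 1, nat_lit 5, nat_lit 6, nat_lit 0, nat_lit 4, nat_lit 5, nat_lit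 0, nat_lit 4, nat_lit 1, nat_lit 3, nat_lit 1, nat_lit 0])) (.leaf ((nat_lit 1073), [nat_lit 2, nat_lit 6, nat_lit 4, nat_lit 3, nat_lit 6, nat_lit 4, nat_lit 3, nat_lit 5, nat_lit 4, nat_lit 2, nat_lit 3, nat_lit 1, nat_lit 0]))))))))
 (.node (nat_lit 2530) (.node (nat_lit 2519) (.node (nat_lit 2513) (.node (nat_lit 2510) (.node (nat_lit 2509) (.leaf ((nat_lit 50), [nat_lit 6, nat_lit 3, nat_lit 2, nat_lit 6, nat_lit 4, nat_lit 1, nat_lit 3, nat_lit 4, nat_lit 0])) (.leaf ((nat_lit 1015), [nat_lit 6, nat_lit 3, nat_lit 4, nat_lit 6, nat_lit 1, nat_lit 3, nat_lit 2, nat_lit 4, nat_lit 1, nat_lit 3]))) (.node (nat_lit 2511) (.leaf ((nat_lit 1396), [nat_lit 4, nat_lit 1, nat_lit 3, nat_lit 6, nat_lit 5, nat_lit 3, nat_lit 0, nat_lit 5, nat_lit 1, nat_lit 0, nat_lit 2])) (.node (nat_lit 2512) (.leaf ((nat_lit 752), [nat_lit 1, nat_lit 6, nat_lit 5,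 nat_lit 6, nat_lit 3, nat_lit 6, nat_lit 4, nat_lit 0, nat_lit 5, nat_lit 4, nat_lit 0, nat_lit 2, nat_lit 0])) (.leaf ((nat_lit 487), [nat_lit 2, nat_lit 6, nat_lit 2, nat_lit 4, nat_lit 2, nat_lit 6, nat_lit 5, nat_lit 4, nat_lit 5, nat_lit 1, nat_lit 5, nat_lit 3, nat_lit 1])))))
 (.node (nat_lit 2516) (.node (nat_lit 2514) (.leaf ((nat_lit 1286), [nat_lit 6, nat_lit 4, nat_lit 1, nat_lit 6, nat_lit 5, nat_lit 1, nat_lit 5, nat_lit 4, nat_lit 2, nat_lit 0, nat_lit 1, nat_lit 0])) (.node (nat_lit 2515) (.leaf ((nat_lit 1277), [nat_lit 4, nat_lit 2, nat_lit 6, nat_lit 4, nat_lit 2, nat_lit 6, nat_lit 1, nat_lit 4, nat_lit 3, nat_lit 0, nat_lit 4, nat_lit 2, nat_lit 3, nat_lit 2, nat_lit 0])) (.leaf ((nat_lit 603), [nat_lit 3, nat_lit 6, nat_lit 4, nat_lit 1, nat_lit 6, nat_lit 3, nat_lit 2, nat_lit 5, nat_lit 1, nat_lit 0, nat_lit 4, nat_lit 3,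 nat_lit 2])))) (.node (nat_lit 2517) (.leaf ((nat_lit 817), [nat_lit 1, nat_lit 6, nat_lit 5, nat_lit 6, nat_lit 3, nat_lit 6, nat_lit 4, nat_lit 3, nat_lit 2, nat_lit 0, nat_lit 4, nat_lit 0, nat_lit 1, nat_lit 0])) (.node (nat_lit 2518) (.leaf ((nat_lit 1278), [nat_lit 2, nat_lit 4, nat_lit 3, nat_lit 6, nat_lit 2, nat_lit 0, nat_lit 4, nat_lit 1, nat_lit 4, nat_lit 2, nat_lit 3, nat_lit 1, nat_lit 0])) (.leaf ((nat_lit 1074), [nat_lit 6, nat_lit 4, nat_lit 1, nat_lit 6, nat_lit 2, nat_lit 6, nat_lit 3, nat_lit 5, nat_lit 1, nat_lit 0, nat_lit 4, nat_lit 1, nat_lit 3, nat_lit 2, nat_lit 0]))))))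
 (.node (nat_lit 2524) (.node (nat_lit 2521) (.node (nat_lit 2520) (.leaf ((nat_lit 929), [nat_lit 3, nat_lit 4, nat_lit 1, nat_lit 6, nat_lit 3, nat_lit 4, nat_lit 3, nat_lit 0, nat_lit 5, nat_lit 2, nat_lit 3, nat_lit 2])) (.leaf ((nat_lit 142), [nat_lit 2, nat_lit 6, nat_lit 5, nat_lit 2, nat_lit 4, nat_lit 6, nat_lit 0, nat_lit 4, nat_lit 2, nat_lit 0, nat_lit 2]))) (.node (nat_lit 2522) (.leaf ((nat_lit 114), [nat_lit 1, nat_lit 6, nat_lit 4, nat_lit 0, nat_lit 2, nat_lit 6, nat_lit 3, nat_lit 4, nat_lit 0, nat_lit 2, nat_lit 5, nat_lit 2, nat_lit 0])) (.node (nat_lit 2523) (.leaf ((nat_lit 321), [nat_lit 0, nat_lit 2, nat_lit 5, nat_lit 0, nat_lit 6, nat_lit 4, nat_lit 0, nat_lit 1, nat_lit 4, nat_lit 1, nat_lit 3])) (.leaf ((nat_lit 205), [nat_lit 4, nat_lit 2, nat_lit 4, nat_lit 6, nat_lit 1, nat_lit 6, nat_lit 1, nat_lit 5, nat_lit 1, nat_lit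 4, nat_lit 2, nat_lit 3, nat_lit 0])))))
 (.node (nat_lit 2527) (.node (nat_lit 2525) (.leaf ((nat_lit 1121), [nat_lit 3, nat_lit 6, nat_lit 5, nat_lit 3, nat_lit 6, nat_lit 5, nat_lit 1, nat_lit 3, nat_lit 4, nat_lit 3, nat_lit 1])) (.node (nat_lit 2526) (.leaf ((nat_lit 1005), [nat_lit 1, nat_lit 5, nat_lit 6, nat_lit 1, nat_lit 0, nat_lit 6, nat_lit 2, nat_lit 0, nat_lit 5, nat_lit 4, nat_lit 2, nat_lit 3])) (.leaf ((nat_lit 1115), [nat_lit 0, nat_lit 6, nat_lit 0, nat_lit 4, nat_lit 1, nat_lit 6, nat_lit 0, nat_lit 2, nat_lit 4, nat_lit 2, nat_lit 4, nat_lit 1, nat_lit 0])))) (.node (nat_lit 2528) (.leaf ((nat_lit 922), [nat_lit 5, nat_lit 6, nat_lit 1, nat_lit 5, nat_lit 6, nat_lit 2, nat_lit 5, nat_lit 3, nat_lit 4, nat_lit 1, nat_lit 3, nat_lit 2])) (.node (nat_lit 2529) (.leaf ((nat_lit 1330), [nat_lit 4, nat_lit 6, nat_lit 2, nat_lit 4,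 nat_lit 2, nat_lit 6, nat_lit 1, nat_lit 0, nat_lit 4, nat_lit 5, nat_lit 3])) (.leaf ((nat_lit 1210), [nat_lit 0, nat_lit 2, nat_lit 0, nat_lit 6, nat_lit 3, nat_lit 4, nat_lit 3, nat_lit 0, nat_lit 5])))))))
 (.node (nat_lit 2541) (.node (nat_lit 2535) (.node (nat_lit 2532) (.node (nat_lit 2531) (.leaf ((nat_lit 734), [nat_lit 0, nat_lit 6, nat_lit 3, nat_lit 4, nat_lit 2, nat_lit 0, nat_lit 6, nat_lit 5, nat_lit 2, nat_lit 5, nat_lit 0, nat_lit 4, nat_lit 2, nat_lit 3, nat_lit 2])) (.leaf ((nat_lit 1397), [nat_lit 4, nat_lit 1, nat_lit 6, nat_lit 5, nat_lit 2, nat_lit 6, nat_lit 5, nat_lit 1, nat_lit 3, nat_lit 4, nat_lit 2, nat_lit 0, nat_lit 1]))) (.node (nat_lit 2533) (.leaf ((nat_lit 1397), [nat_lit 5, nat_lit 6, nat_lit 5, nat_lit 4, nat_lit 6, nat_lit 5, nat_lit 0, nat_lit 4, nat_lit 0, nat_lit 2])) (.node (nat_lit 2534) (.leaf ((nat_lit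 1007), [nat_lit 4, nat_lit 6, nat_lit 3, nat_lit 0, nat_lit 6, nat_lit 0, nat_lit 5, nat_lit 2, nat_lit 4, nat_lit 1, nat_lit 3, nat_lit 1, nat_lit 0])) (.leaf ((nat_lit 1190), [nat_lit 5, nat_lit 6, nat_lit 2, nat_lit 0, nat_lit 6, nat_lit 3, nat_lit 5, nat_lit 2, nat_lit 0, nat_lit 4, nat_lit 3, nat_lit 1, nat_lit 0])))))
 (.node (nat_lit 2538) (.node (nat_lit 2536) (.leaf ((nat_lit 53), [nat_lit 0, nat_lit 6, nat_lit 1, nat_lit 5, nat_lit 6, nat_lit 2, nat_lit 5, nat_lit 4, nat_lit 0, nat_lit 1, nat_lit 0])) (.node (nat_lit 2537) (.leaf ((nat_lit 1384), [nat_lit 0, nat_lit 4, nat_lit 6, nat_lit 1, nat_lit 6, nat_lit 4, nat_lit 1, nat_lit 3, nat_lit 2, nat_lit 0, nat_lit 4, nat_lit 1, nat_lit 3, nat_lit 0])) (.leaf ((nat_lit 968), [nat_lit 6, nat_lit 4, nat_lit 5, nat_lit 4, nat_lit 6, nat_lit 2, nat_lit 3, nat_lit 4, nat_lit 0, nat_lit 2, nat_lit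 0])))) (.node (nat_lit 2539) (.leaf ((nat_lit 1394), [nat_lit 3, nat_lit 6, nat_lit 5, nat_lit 0, nat_lit 2, nat_lit 6, nat_lit 2, nat_lit 5, nat_lit 3, nat_lit 0, nat_lit 4, nat_lit 0])) (.node (nat_lit 2540) (.leaf ((nat_lit 430), [nat_lit 2, nat_lit 6, nat_lit 4, nat_lit 2, nat_lit 6, nat_lit 5, nat_lit 2, nat_lit 5, nat_lit 1, nat_lit 0, nat_lit 4, nat_lit 0, nat_lit 2])) (.leaf ((nat_lit 1239), [nat_lit 2, nat_lit 5, nat_lit 3, nat_lit 6, nat_lit 4, nat_lit 0, nat_lit 6, nat_lit 4, nat_lit 1, nat_lit 3, nat_lit 2, nat_lit 0, nat_lit 4, nat_lit 1, nat_lit 0]))))))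
 (.node (nat_lit 2546) (.node (nat_lit 2543) (.node (nat_lit 2542) (.leaf ((nat_lit 1341), [nat_lit 1, nat_lit 6, nat_lit 1, nat_lit 0, nat_lit 6, nat_lit 2, nat_lit 3, nat_lit 5, nat_lit 2, nat_lit 4, nat_lit 2, nat_lit 0, nat_lit 2, nat_lit 0])) (.leaf ((nat_lit 1145), [nat_lit 2, nat_lit 6, nat_lit 3, nat_lit 5, nat_lit 6, nat_lit 4, nat_lit 0, nat_lit 5, nat_lit 4, nat_lit 2, nat_lit 3, nat_lit 2]))) (.node (nat_lit 2544) (.leaf ((nat_lit 854), [nat_lit 5, nat_lit 6, nat_lit 5, nat_lit 6, nat_lit 5, nat_lit 2, nat_lit 0, nat_lit 5, nat_lit 4, nat_lit 1, nat_lit 3, nat_lit 1])) (.node (nat_lit 2545) (.leaf ((nat_lit 1332), [nat_lit 4, nat_lit 6, nat_lit 0, nat_lit 2, nat_lit 6, nat_lit 5, nat_lit 2, nat_lit 5, nat_lit 1, nat_lit 0, nat_lit 4, nat_lit 2, nat_lit 0, nat_lit 1])) (.leaf ((nat_lit 1300), [nat_lit 0, nat_lit 4, nat_lit 6, nat_lit 1,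 nat_lit 6, nat_lit 1, nat_lit 0, nat_lit 5, nat_lit 4, nat_lit 3, nat_lit 1, nat_lit 0])))))
 (.node (nat_lit 2549) (.node (nat_lit 2547) (.leaf ((nat_lit 1039), [nat_lit 5, nat_lit 4, nat_lit 6, nat_lit 2, nat_lit 6, nat_lit 0, nat_lit 5, nat_lit 2, nat_lit 0, nat_lit 4, nat_lit 1, nat_lit 0, nat_lit 2])) (.node (nat_lit 2548) (.leaf ((nat_lit 453), [nat_lit 2, nat_lit 6, nat_lit 5, nat_lit 2, nat_lit 6, nat_lit 5, nat_lit 4, nat_lit 5, nat_lit 1, nat_lit 5, nat_lit 3, nat_lit 1, nat_lit 0])) (.leaf ((nat_lit 1271), [nat_lit 5, nat_lit 6, nat_lit 2, nat_lit 4, nat_lit 3, nat_lit 6, nat_lit 5, nat_lit 4, nat_lit 5, nat_lit 1, nat_lit 4, nat_lit 3, nat_lit 1])))) (.node (nat_lit 2550) (.leaf ((nat_lit 663), [nat_lit 6, nat_lit 2, nat_lit 6, nat_lit 1, nat_lit 0, nat_lit 6, nat_lit 2, nat_lit 3, nat_lit 4, nat_lit 1, nat_lit 0])) (.node (nat_lit 2551)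 (.leaf ((nat_lit 1177), [nat_lit 0, nat_lit 6, nat_lit 0, nat_lit 1, nat_lit 6, nat_lit 2, nat_lit 4, nat_lit 5, nat_lit 3, nat_lit 0, nat_lit 4, nat_lit 1, nat_lit 3, nat_lit 1])) (.leaf ((nat_lit 412), [nat_lit 4, nat_lit 5, nat_lit 4, nat_lit 6, nat_lit 0, nat_lit 4, nat_lit 5, nat_lit 2, nat_lit 0, nat_lit 1])))))))))
 (.node (nat_lit 2596) (.node (nat_lit 2574) (.node (nat_lit 2563) (.node (nat_lit 2557) (.node (nat_lit 2554) (.node (nat_lit 2553) (.leaf ((nat_lit 1247), [nat_lit 2, nat_lit 4, nat_lit 2, nat_lit 0, nat_lit 6, nat_lit 4, nat_lit 5, nat_lit 4, nat_lit 2, nat_lit 0, nat_lit 2])) (.leaf ((nat_lit 571), [nat_lit 1, nat_lit 6, nat_lit 0, nat_lit 2, nat_lit 6, nat_lit 4, nat_lit 3, nat_lit 5, nat_lit 0, nat_lit 1, nat_lit 0]))) (.node (nat_lit 2555) (.leaf ((nat_lit 718), [nat_lit 5, nat_lit 4, nat_lit 6, nat_lit 4, nat_lit 2, nat_lit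 6, nat_lit 0, nat_lit 5, nat_lit 3, nat_lit 4, nat_lit 0, nat_lit 2])) (.node (nat_lit 2556) (.leaf ((nat_lit 1322), [nat_lit 2, nat_lit 6, nat_lit 4, nat_lit 3, nat_lit 6, nat_lit 4, nat_lit 2, nat_lit 5, nat_lit 2, nat_lit 3, nat_lit 1])) (.leaf ((nat_lit 1035), [nat_lit 1, nat_lit 6, nat_lit 4, nat_lit 5, nat_lit 1, nat_lit 3, nat_lit 0, nat_lit 4, nat_lit 1, nat_lit 3, nat_lit 2, nat_lit 0])))))
 (.node (nat_lit 2560) (.node (nat_lit 2558) (.leaf ((nat_lit 1111), [nat_lit 6, nat_lit 5, nat_lit 1, nat_lit 3, nat_lit 6, nat_lit 2, nat_lit 4, nat_lit 0, nat_lit 2, nat_lit 4, nat_lit 1, nat_lit 3, nat_lit 1, nat_lit 0])) (.node (nat_lit 2559) (.leaf ((nat_lit 1354), [nat_lit 5, nat_lit 6, nat_lit 4, nat_lit 2, nat_lit 0, nat_lit 6, nat_lit 4, nat_lit 2, nat_lit 0, nat_lit 4, nat_lit 5, nat_lit 3, nat_lit 0])) (.leaf ((nat_lit 737), [nat_lit 0, nat_lit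 1, nat_lit 5, nat_lit 6, nat_lit 2, nat_lit 6, nat_lit 0, nat_lit 4, nat_lit 2, nat_lit 0, nat_lit 4, nat_lit 2, nat_lit 3, nat_lit 1])))) (.node (nat_lit 2561) (.leaf ((nat_lit 1296), [nat_lit 2, nat_lit 6, nat_lit 5, nat_lit 2, nat_lit 0, nat_lit 6, nat_lit 3, nat_lit 0, nat_lit 4, nat_lit 5, nat_lit 1, nat_lit 3, nat_lit 2])) (.node (nat_lit 2562) (.leaf ((nat_lit 326), [nat_lit 3, nat_lit 2, nat_lit 6, nat_lit 4, nat_lit 2, nat_lit 6, nat_lit 3, nat_lit 0, nat_lit 4, nat_lit 5, nat_lit 3, nat_lit 1])) (.leaf ((nat_lit 685), [nat_lit 3, nat_lit 6, nat_lit 2, nat_lit 5, nat_lit 6, nat_lit 1, nat_lit 3, nat_lit 4, nat_lit 2, nat_lit 4, nat_lit 2, nat_lit 0, nat_lit 1]))))))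
 (.node (nat_lit 2568) (.node (nat_lit 2565) (.node (nat_lit 2564) (.leaf ((nat_lit 1105), [nat_lit 6, nat_lit 0, nat_lit 4, nat_lit 1, nat_lit 6, nat_lit 2, nat_lit 5, nat_lit 1, nat_lit 5, nat_lit 4, nat_lit 1, nat_lit 0, nat_lit 2])) (.leaf ((nat_lit 1034), [nat_lit 2, nat_lit 0, nat_lit 4, nat_lit 6, nat_lit 2, nat_lit 6, nat_lit 1, nat_lit 4, nat_lit 0, nat_lit 4, nat_lit 2, nat_lit 3, nat_lit 1, nat_lit 0]))) (.node (nat_lit 2566) (.leaf ((nat_lit 317), [nat_lit 1, nat_lit 4, nat_lit 6, nat_lit 4, nat_lit 2, nat_lit 6, nat_lit 4, nat_lit 5, nat_lit 0, nat_lit 4, nat_lit 1, nat_lit 0, nat_lit 2, nat_lit 0])) (.node (nat_lit 2567) (.leaf ((nat_lit 943), [nat_lit 0, nat_lit 4, nat_lit 2, nat_lit 6, nat_lit 3, nat_lit 2, nat_lit 6, nat_lit 5, nat_lit 2, nat_lit 4, nat_lit 3, nat_lit 2, nat_lit 0])) (.leaf ((nat_lit 1256), [nat_lit 6, nat_lit 4,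 nat_lit 1, nat_lit 0, nat_lit 6, nat_lit 4, nat_lit 1, nat_lit 5, nat_lit 2, nat_lit 5, nat_lit 2, nat_lit 3])))))
 (.node (nat_lit 2571) (.node (nat_lit 2569) (.leaf ((nat_lit 1209), [nat_lit 0, nat_lit 5, nat_lit 1, nat_lit 6, nat_lit 2, nat_lit 6, nat_lit 5, nat_lit 4, nat_lit 3, nat_lit 4, nat_lit 3, nat_lit 0])) (.node (nat_lit 2570) (.leaf ((nat_lit 691), [nat_lit 1, nat_lit 4, nat_lit 6, nat_lit 4, nat_lit 2, nat_lit 6, nat_lit 2, nat_lit 3, nat_lit 4, nat_lit 5, nat_lit 1, nat_lit 3, nat_lit 1, nat_lit 0])) (.leaf ((nat_lit 1101), [nat_lit 3, nat_lit 6, nat_lit 0, nat_lit 5, nat_lit 3, nat_lit 6, nat_lit 4, nat_lit 2, nat_lit 3, nat_lit 0, nat_lit 4, nat_lit 1])))) (.node (nat_lit 2572) (.leaf ((nat_lit 1344), [nat_lit 5, nat_lit 2, nat_lit 4, nat_lit 6, nat_lit 3, nat_lit 0, nat_lit 4, nat_lit 0, nat_lit 4, nat_lit 2, nat_lit 0, nat_lit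 1, nat_lit 0])) (.node (nat_lit 2573) (.leaf ((nat_lit 1198), [nat_lit 2, nat_lit 5, nat_lit 3, nat_lit 6, nat_lit 4, nat_lit 0, nat_lit 6, nat_lit 1, nat_lit 4, nat_lit 2, nat_lit 3, nat_lit 0])) (.leaf ((nat_lit 1044), [nat_lit 5, nat_lit 2, nat_lit 4, nat_lit 6, nat_lit 0, nat_lit 2, nat_lit 4, nat_lit 1, nat_lit 4, nat_lit 1])))))))
 (.node (nat_lit 2585) (.node (nat_lit 2579) (.node (nat_lit 2576) (.node (nat_lit 2575) (.leaf ((nat_lit 1289), [nat_lit 3, nat_lit 6, nat_lit 4, nat_lit 1, nat_lit 0, nat_lit 6, nat_lit 1, nat_lit 0, nat_lit 4, nat_lit 3, nat_lit 0])) (.leaf ((nat_lit 1000), [nat_lit 0, nat_lit 6, nat_lit 2, nat_lit 4, nat_lit 0, nat_lit 6, nat_lit 2, nat_lit 4, nat_lit 0, nat_lit 1, nat_lit 0]))) (.node (nat_lit 2577) (.leaf ((nat_lit 249), [nat_lit 2, nat_lit 6, nat_lit 1, nat_lit 4, nat_lit 6, nat_lit 5, nat_lit 2, nat_lit 0,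 nat_lit 4, nat_lit 2, nat_lit 3, nat_lit 1, nat_lit 0])) (.node (nat_lit 2578) (.leaf ((nat_lit 1088), [nat_lit 5, nat_lit 6, nat_lit 1, nat_lit 4, nat_lit 6, nat_lit 0, nat_lit 2, nat_lit 4, nat_lit 1, nat_lit 3, nat_lit 1, nat_lit 0])) (.leaf ((nat_lit 48), [nat_lit 4, nat_lit 6, nat_lit 4, nat_lit 1, nat_lit 3, nat_lit 6, nat_lit 2, nat_lit 0, nat_lit 5, nat_lit 4])))))
 (.node (nat_lit 2582) (.node (nat_lit 2580) (.leaf ((nat_lit 1373), [nat_lit 3, nat_lit 2, nat_lit 4, nat_lit 6, nat_lit 1, nat_lit 4, nat_lit 5, nat_lit 1, nat_lit 4, nat_lit 3, nat_lit 2, nat_lit 0])) (.node (nat_lit 2581) (.leaf ((nat_lit 875), [nat_lit 5, nat_lit 0, nat_lit 6, nat_lit 2, nat_lit 3, nat_lit 6, nat_lit 3, nat_lit 4, nat_lit 1, nat_lit 4, nat_lit 2, nat_lit 0, nat_lit 2, nat_lit 0])) (.leaf ((nat_lit 1398), [nat_lit 0, nat_lit 1, nat_lit 6, nat_lit 1, nat_lit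 6, nat_lit 2, nat_lit 4, nat_lit 2, nat_lit 4, nat_lit 2, nat_lit 3, nat_lit 1])))) (.node (nat_lit 2583) (.leaf ((nat_lit 971), [nat_lit 5, nat_lit 0, nat_lit 6, nat_lit 1, nat_lit 6, nat_lit 2, nat_lit 4, nat_lit 5, nat_lit 3, nat_lit 0, nat_lit 4, nat_lit 1, nat_lit 3, nat_lit 1, nat_lit 0])) (.node (nat_lit 2584) (.leaf ((nat_lit 108), [nat_lit 4, nat_lit 6, nat_lit 0, nat_lit 2, nat_lit 0])) (.leaf ((nat_lit 378), [nat_lit 3, nat_lit 2, nat_lit 4, nat_lit 6, nat_lit 5, nat_lit 0, nat_lit 4, nat_lit 1, nat_lit 5, nat_lit 2, nat_lit 3, nat_lit 1]))))))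
 (.node (nat_lit 2590) (.node (nat_lit 2587) (.node (nat_lit 2586) (.leaf ((nat_lit 1304), [nat_lit 2, nat_lit 3, nat_lit 6, nat_lit 4, nat_lit 2, nat_lit 0, nat_lit 4, nat_lit 5, nat_lit 0, nat_lit 2, nat_lit 0])) (.leaf ((nat_lit 70), [nat_lit 2, nat_lit 4, nat_lit 1, nat_lit 6, nat_lit 2, nat_lit 3, nat_lit 4, nat_lit 2, nat_lit 3, nat_lit 2]))) (.node (nat_lit 2588) (.leaf ((nat_lit 1334), [nat_lit 4, nat_lit 6, nat_lit 1, nat_lit 3, nat_lit 6, nat_lit 3, nat_lit 0, nat_lit 4, nat_lit 0, nat_lit 4, nat_lit 1, nat_lit 3, nat_lit 1])) (.node (nat_lit 2589) (.leaf ((nat_lit 1110), [nat_lit 0, nat_lit 2, nat_lit 6, nat_lit 2, nat_lit 3, nat_lit 6, nat_lit 1, nat_lit 3, nat_lit 4, nat_lit 5, nat_lit 2, nat_lit 3])) (.leaf ((nat_lit 1052), [nat_lit 6, nat_lit 1, nat_lit 6, nat_lit 4, nat_lit 0, nat_lit 5, nat_lit 2, nat_lit 0, nat_lit 4, nat_lit 0,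 nat_lit 2])))))
 (.node (nat_lit 2593) (.node (nat_lit 2591) (.leaf ((nat_lit 566), [nat_lit 2, nat_lit 6, nat_lit 4, nat_lit 0, nat_lit 6, nat_lit 1, nat_lit 3, nat_lit 5, nat_lit 3, nat_lit 4, nat_lit 0, nat_lit 2, nat_lit 0])) (.node (nat_lit 2592) (.leaf ((nat_lit 1399), [nat_lit 5, nat_lit 6, nat_lit 1, nat_lit 3, nat_lit 6, nat_lit 1, nat_lit 4, nat_lit 3, nat_lit 5, nat_lit 2, nat_lit 3, nat_lit 1, nat_lit 0])) (.leaf ((nat_lit 852), [nat_lit 2, nat_lit 4, nat_lit 1, nat_lit 6, nat_lit 4, nat_lit 5, nat_lit 1, nat_lit 3, nat_lit 4, nat_lit 1, nat_lit 3, nat_lit 1])))) (.node (nat_lit 2594) (.leaf ((nat_lit 1176), [nat_lit 6, nat_lit 2, nat_lit 3, nat_lit 5, nat_lit 6, nat_lit 5, nat_lit 0, nat_lit 2, nat_lit 0, nat_lit 4, nat_lit 2, nat_lit 0, nat_lit 2, nat_lit 0])) (.node (nat_lit 2595) (.leaf ((nat_lit 1141), [nat_lit 4, nat_lit 5, nat_lit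 6, nat_lit 4, nat_lit 5, nat_lit 6, nat_lit 5, nat_lit 1, nat_lit 5, nat_lit 0, nat_lit 2, nat_lit 4, nat_lit 2, nat_lit 0, nat_lit 1])) (.leaf ((nat_lit 1130), [nat_lit 6, nat_lit 0, nat_lit 1, nat_lit 4, nat_lit 2, nat_lit 6, nat_lit 0, nat_lit 1, nat_lit 0, nat_lit 4, nat_lit 2, nat_lit 3]))))))))
 (.node (nat_lit 2618) (.node (nat_lit 2607) (.node (nat_lit 2601) (.node (nat_lit 2598) (.node (nat_lit 2597) (.leaf ((nat_lit 668), [nat_lit 4, nat_lit 6, nat_lit 2, nat_lit 5, nat_lit 2, nat_lit 0, nat_lit 4, nat_lit 2, nat_lit 0])) (.leaf ((nat_lit 1236), [nat_lit 0, nat_lit 6, nat_lit 0, nat_lit 1, nat_lit 6, nat_lit 3, nat_lit 1, nat_lit 0, nat_lit 4, nat_lit 1, nat_lit 0, nat_lit 2, nat_lit 0]))) (.node (nat_lit 2599) (.leaf ((nat_lit 1221), [nat_lit 4, nat_lit 0, nat_lit 6, nat_lit 1, nat_lit 6, nat_lit 4, nat_lit 2, nat_lit 4, nat_lit 0, nat_lit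 4, nat_lit 2, nat_lit 3])) (.node (nat_lit 2600) (.leaf ((nat_lit 1386), [nat_lit 5, nat_lit 6, nat_lit 2, nat_lit 5, nat_lit 6, nat_lit 5, nat_lit 0, nat_lit 2, nat_lit 4])) (.leaf ((nat_lit 680), [nat_lit 0, nat_lit 2, nat_lit 0, nat_lit 6, nat_lit 1, nat_lit 6, nat_lit 5, nat_lit 4, nat_lit 5, nat_lit 1, nat_lit 4, nat_lit 0, nat_lit 1])))))
 (.node (nat_lit 2604) (.node (nat_lit 2602) (.leaf ((nat_lit 1076), [nat_lit 1, nat_lit 6, nat_lit 2, nat_lit 5, nat_lit 6, nat_lit 4, nat_lit 3, nat_lit 4, nat_lit 1, nat_lit 4, nat_lit 0, nat_lit 2])) (.node (nat_lit 2603) (.leaf ((nat_lit 840), [nat_lit 5, nat_lit 6, nat_lit 0, nat_lit 1, nat_lit 6, nat_lit 4, nat_lit 1, nat_lit 0, nat_lit 4, nat_lit 0, nat_lit 1])) (.leaf ((nat_lit 1160), [nat_lit 2, nat_lit 6, nat_lit 3, nat_lit 0, nat_lit 6, nat_lit 4, nat_lit 2, nat_lit 0, nat_lit 2, nat_lit 0, nat_lit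 4, nat_lit 2, nat_lit 0, nat_lit 1])))) (.node (nat_lit 2605) (.leaf ((nat_lit 1378), [nat_lit 6, nat_lit 1, nat_lit 4, nat_lit 1, nat_lit 6, nat_lit 2, nat_lit 0, nat_lit 4, nat_lit 1, nat_lit 0, nat_lit 1, nat_lit 0])) (.node (nat_lit 2606) (.leaf ((nat_lit 1064), [nat_lit 1, nat_lit 4, nat_lit 2, nat_lit 6, nat_lit 1, nat_lit 5, nat_lit 2, nat_lit 0, nat_lit 5, nat_lit 2, nat_lit 0, nat_lit 2])) (.leaf ((nat_lit 1302), [nat_lit 0, nat_lit 6, nat_lit 5, nat_lit 2, nat_lit 6, nat_lit 5, nat_lit 2, nat_lit 0, nat_lit 2, nat_lit 0, nat_lit 4, nat_lit 0, nat_lit 1, nat_lit 0]))))))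
 (.node (nat_lit 2612) (.node (nat_lit 2609) (.node (nat_lit 2608) (.leaf ((nat_lit 563), [nat_lit 1, nat_lit 3, nat_lit 4, nat_lit 6, nat_lit 2, nat_lit 6, nat_lit 4, nat_lit 0, nat_lit 4, nat_lit 1, nat_lit 0, nat_lit 1])) (.leaf ((nat_lit 1261), [nat_lit 0, nat_lit 2, nat_lit 6, nat_lit 1, nat_lit 6, nat_lit 0, nat_lit 4, nat_lit 1, nat_lit 0, nat_lit 4, nat_lit 1, nat_lit 0, nat_lit 2]))) (.node (nat_lit 2610) (.leaf ((nat_lit 1205), [nat_lit 2, nat_lit 4, nat_lit 6, nat_lit 3, nat_lit 5, nat_lit 1, nat_lit 0, nat_lit 4, nat_lit 1, nat_lit 3, nat_lit 1])) (.node (nat_lit 2611) (.leaf ((nat_lit 1026), [nat_lit 6, nat_lit 0, nat_lit 5, nat_lit 6, nat_lit 2, nat_lit 6, nat_lit 2, nat_lit 4, nat_lit 5, nat_lit 4, nat_lit 0, nat_lit 5, nat_lit 0, nat_lit 2, nat_lit 0])) (.leaf ((nat_lit 1389), [nat_lit 6, nat_lit 5, nat_lit 3, nat_lit 6, nat_lit 5,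 nat_lit 3, nat_lit 4, nat_lit 2, nat_lit 0, nat_lit 1, nat_lit 0])))))
 (.node (nat_lit 2615) (.node (nat_lit 2613) (.leaf ((nat_lit 949), [nat_lit 4, nat_lit 6, nat_lit 4, nat_lit 1, nat_lit 3, nat_lit 6, nat_lit 2, nat_lit 5, nat_lit 0, nat_lit 4, nat_lit 1, nat_lit 0, nat_lit 1])) (.node (nat_lit 2614) (.leaf ((nat_lit 1265), [nat_lit 1, nat_lit 3, nat_lit 6, nat_lit 5, nat_lit 1, nat_lit 6, nat_lit 0, nat_lit 1, nat_lit 4, nat_lit 0, nat_lit 4, nat_lit 3, nat_lit 1])) (.leaf ((nat_lit 1214), [nat_lit 6, nat_lit 3, nat_lit 4, nat_lit 6, nat_lit 1, nat_lit 3, nat_lit 4, nat_lit 5, nat_lit 2, nat_lit 0, nat_lit 1, nat_lit 0])))) (.node (nat_lit 2616) (.leaf ((nat_lit 1400), [nat_lit 2, nat_lit 4, nat_lit 6, nat_lit 4, nat_lit 1, nat_lit 6, nat_lit 1, nat_lit 4, nat_lit 0, nat_lit 2, nat_lit 4, nat_lit 3, nat_lit 2, nat_lit 0])) (.node (nat_lit 2617)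 (.leaf ((nat_lit 400), [nat_lit 0, nat_lit 2, nat_lit 6, nat_lit 1, nat_lit 6, nat_lit 3, nat_lit 0, nat_lit 5, nat_lit 3, nat_lit 4, nat_lit 2, nat_lit 3])) (.leaf ((nat_lit 1379), [nat_lit 6, nat_lit 5, nat_lit 4, nat_lit 2, nat_lit 0, nat_lit 6, nat_lit 1, nat_lit 4, nat_lit 5, nat_lit 0, nat_lit 4, nat_lit 1])))))))
 (.node (nat_lit 2629) (.node (nat_lit 2623) (.node (nat_lit 2620) (.node (nat_lit 2619) (.leaf ((nat_lit 382), [nat_lit 3, nat_lit 4, nat_lit 6, nat_lit 2, nat_lit 6, nat_lit 5, nat_lit 0, nat_lit 4, nat_lit 1, nat_lit 4, nat_lit 2, nat_lit 0, nat_lit 2, nat_lit 0])) (.leaf ((nat_lit 408), [nat_lit 5, nat_lit 6, nat_lit 4, nat_lit 1, nat_lit 0, nat_lit 6, nat_lit 3, nat_lit 0, nat_lit 4, nat_lit 1, nat_lit 4, nat_lit 2]))) (.node (nat_lit 2621) (.leaf ((nat_lit 1058), [nat_lit 6, nat_lit 2, nat_lit 3, nat_lit 5, nat_lit 6, nat_lit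 0, nat_lit 1, nat_lit 4, nat_lit 0, nat_lit 4, nat_lit 2, nat_lit 0])) (.node (nat_lit 2622) (.leaf ((nat_lit 1331), [nat_lit 4, nat_lit 0, nat_lit 6, nat_lit 0, nat_lit 2, nat_lit 6, nat_lit 5, nat_lit 2, nat_lit 4, nat_lit 3, nat_lit 4, nat_lit 2, nat_lit 3, nat_lit 0])) (.leaf ((nat_lit 1301), [nat_lit 5, nat_lit 6, nat_lit 2, nat_lit 3, nat_lit 6, nat_lit 4, nat_lit 3, nat_lit 2, nat_lit 0, nat_lit 4, nat_lit 2, nat_lit 0])))))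
 (.node (nat_lit 2626) (.node (nat_lit 2624) (.leaf ((nat_lit 1320), [nat_lit 0, nat_lit 4, nat_lit 6, nat_lit 3, nat_lit 4, nat_lit 3, nat_lit 2, nat_lit 4, nat_lit 1, nat_lit 0, nat_lit 2])) (.node (nat_lit 2625) (.leaf ((nat_lit 1401), [nat_lit 1, nat_lit 5, nat_lit 6, nat_lit 1, nat_lit 5, nat_lit 6, nat_lit 5, nat_lit 4, nat_lit 1, nat_lit 4, nat_lit 2, nat_lit 3, nat_lit 1, nat_lit 0])) (.leaf ((nat_lit 768), [nat_lit 4, nat_lit 3, nat_lit 6, nat_lit 2, nat_lit 0, nat_lit 6, nat_lit 1, nat_lit 4, nat_lit 5, nat_lit 1, nat_lit 4, nat_lit 2, nat_lit 3, nat_lit 2, nat_lit 0])))) (.node (nat_lit 2627) (.leaf ((nat_lit 125), [nat_lit 0, nat_lit 2, nat_lit 0, nat_lit 6, nat_lit 1, nat_lit 6, nat_lit 0, nat_lit 4, nat_lit 5, nat_lit 2, nat_lit 0, nat_lit 1])) (.node (nat_lit 2628) (.leaf ((nat_lit 616), [nat_lit 4, nat_lit 1, nat_lit 6, nat_lit 0,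 nat_lit 2, nat_lit 6, nat_lit 3, nat_lit 4, nat_lit 3, nat_lit 0, nat_lit 5, nat_lit 2, nat_lit 0, nat_lit 2])) (.leaf ((nat_lit 916), [nat_lit 4, nat_lit 6, nat_lit 1, nat_lit 0, nat_lit 6, nat_lit 4, nat_lit 3, nat_lit 5, nat_lit 2, nat_lit 3, nat_lit 0]))))))
 (.node (nat_lit 2634) (.node (nat_lit 2631) (.node (nat_lit 2630) (.leaf ((nat_lit 1391), [nat_lit 1, nat_lit 4, nat_lit 3, nat_lit 6, nat_lit 0, nat_lit 5, nat_lit 2, nat_lit 5, nat_lit 2, nat_lit 0, nat_lit 1, nat_lit 0])) (.leaf ((nat_lit 1014), [nat_lit 3, nat_lit 4, nat_lit 0, nat_lit 6, nat_lit 2, nat_lit 6, nat_lit 1, nat_lit 5, nat_lit 0, nat_lit 4, nat_lit 2, nat_lit 0]))) (.node (nat_lit 2632) (.leaf ((nat_lit 1348), [nat_lit 6, nat_lit 1, nat_lit 6, nat_lit 4, nat_lit 0, nat_lit 6, nat_lit 4, nat_lit 5, nat_lit 3, nat_lit 4, nat_lit 1, nat_lit 0, nat_lit 1, nat_lit 0])) (.node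 (nat_lit 2633) (.leaf ((nat_lit 501), [nat_lit 5, nat_lit 2, nat_lit 6, nat_lit 4, nat_lit 0, nat_lit 6, nat_lit 1, nat_lit 0, nat_lit 1, nat_lit 4, nat_lit 1, nat_lit 3, nat_lit 1, nat_lit 0])) (.leaf ((nat_lit 229), [nat_lit 5, nat_lit 6, nat_lit 3, nat_lit 0, nat_lit 6, nat_lit 5, nat_lit 1, nat_lit 5, nat_lit 3, nat_lit 4, nat_lit 3, nat_lit 2, nat_lit 0])))))
 (.node (nat_lit 2637) (.node (nat_lit 2635) (.leaf ((nat_lit 58), [nat_lit 4, nat_lit 6, nat_lit 4, nat_lit 1, nat_lit 3, nat_lit 6, nat_lit 4, nat_lit 0, nat_lit 4, nat_lit 1, nat_lit 4, nat_lit 0])) (.node (nat_lit 2636) (.leaf ((nat_lit 1371), [nat_lit 2, nat_lit 6, nat_lit 3, nat_lit 0, nat_lit 6, nat_lit 4, nat_lit 2, nat_lit 4, nat_lit 0, nat_lit 4, nat_lit 2, nat_lit 0, nat_lit 1, nat_lit 0])) (.leaf ((nat_lit 1030), [nat_lit 4, nat_lit 5, nat_lit 6, nat_lit 1, nat_lit 0, nat_lit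 6, nat_lit 3, nat_lit 4, nat_lit 0, nat_lit 5, nat_lit 1, nat_lit 3, nat_lit 1, nat_lit 0])))) (.node (nat_lit 2638) (.leaf ((nat_lit 217), [nat_lit 3, nat_lit 6, nat_lit 4, nat_lit 3, nat_lit 6, nat_lit 4, nat_lit 3, nat_lit 2, nat_lit 4, nat_lit 1, nat_lit 3, nat_lit 2])) (.node (nat_lit 2639) (.leaf ((nat_lit 1376), [nat_lit 0, nat_lit 5, nat_lit 1, nat_lit 6, nat_lit 2, nat_lit 6, nat_lit 3, nat_lit 4, nat_lit 1, nat_lit 3, nat_lit 4, nat_lit 3])) (.leaf ((nat_lit 1402), [nat_lit 1, nat_lit 5, nat_lit 6, nat_lit 4, nat_lit 0, nat_lit 6, nat_lit 0, nat_lit 2, nat_lit 4, nat_lit 2, nat_lit 4, nat_lit 3, nat_lit 2]))))))))))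
noncomputable def rWd_15 : Tr (ℕ × List ℕ) := (.node (nat_lit 2728) (.node (nat_lit 2684) (.node (nat_lit 2662) (.node (nat_lit 2651) (.node (nat_lit 2645) (.node (nat_lit 2642) (.node (nat_lit 2641) (.leaf ((nat_lit 855), [nat_lit 4, nat_lit 6, nat_lit 1, nat_lit 6, nat_lit 2, nat_lit 6, nat_lit 5, nat_lit 4, nat_lit 2, nat_lit 5, nat_lit 2, nat_lit 3])) (.leaf ((nat_lit 588), [nat_lit 1, nat_lit 6, nat_lit 4, nat_lit 1, nat_lit 6, nat_lit 1, nat_lit 3, nat_lit 4, nat_lit 2, nat_lit 3, nat_lit 1]))) (.node (nat_lit 2643) (.leaf ((nat_lit 1399), [nat_lit 6, nat_lit 1, nat_lit 0, nat_lit 6, nat_lit 1, nat_lit 0, nat_lit 4, nat_lit 3, nat_lit 5, nat_lit 0])) (.node (nat_lit 2644) (.leaf ((nat_lit 1085), [nat_lit 6, nat_lit 2, nat_lit 3, nat_lit 5, nat_lit 6, nat_lit 5, nat_lit 4, nat_lit 2, nat_lit 3, nat_lit 0])) (.leaf ((nat_lit 1159), [nat_lit 1,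 nat_lit 6, nat_lit 5, nat_lit 0, nat_lit 2, nat_lit 6, nat_lit 1, nat_lit 5, nat_lit 2, nat_lit 4, nat_lit 1, nat_lit 3, nat_lit 2, nat_lit 0])))))
 (.node (nat_lit 2648) (.node (nat_lit 2646) (.leaf ((nat_lit 248), [nat_lit 1, nat_lit 4, nat_lit 6, nat_lit 5, nat_lit 1, nat_lit 0, nat_lit 1, nat_lit 0, nat_lit 4, nat_lit 2, nat_lit 3, nat_lit 1])) (.node (nat_lit 2647) (.leaf ((nat_lit 1349), [nat_lit 0, nat_lit 2, nat_lit 6, nat_lit 5, nat_lit 2, nat_lit 0, nat_lit 6, nat_lit 1, nat_lit 3, nat_lit 2, nat_lit 4, nat_lit 3, nat_lit 0])) (.leaf ((nat_lit 240), [nat_lit 6, nat_lit 4, nat_lit 0, nat_lit 5, nat_lit 3, nat_lit 6, nat_lit 5, nat_lit 0, nat_lit 4, nat_lit 3, nat_lit 4, nat_lit 0, nat_lit 2])))) (.node (nat_lit 2649) (.leaf ((nat_lit 1335), [nat_lit 5, nat_lit 1, nat_lit 6, nat_lit 2, nat_lit 6, nat_lit 1, nat_lit 0, nat_lit 1, nat_lit 4]))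 (.node (nat_lit 2650) (.leaf ((nat_lit 302), [nat_lit 5, nat_lit 2, nat_lit 6, nat_lit 0, nat_lit 4, nat_lit 6, nat_lit 1, nat_lit 0, nat_lit 5, nat_lit 4, nat_lit 3, nat_lit 1])) (.leaf ((nat_lit 1382), [nat_lit 3, nat_lit 2, nat_lit 6, nat_lit 2, nat_lit 4, nat_lit 0, nat_lit 6, nat_lit 5, nat_lit 1, nat_lit 4, nat_lit 3, nat_lit 5, nat_lit 1, nat_lit 3]))))))
 (.node (nat_lit 2656) (.node (nat_lit 2653) (.node (nat_lit 2652) (.leaf ((nat_lit 474), [nat_lit 1, nat_lit 0, nat_lit 6, nat_lit 5, nat_lit 2, nat_lit 6, nat_lit 3, nat_lit 4, nat_lit 1, nat_lit 0, nat_lit 4, nat_lit 0, nat_lit 2])) (.leaf ((nat_lit 554), [nat_lit 6, nat_lit 1, nat_lit 6, nat_lit 2, nat_lit 0, nat_lit 5, nat_lit 2, nat_lit 0, nat_lit 4, nat_lit 2, nat_lit 3, nat_lit 0]))) (.node (nat_lit 2654) (.leaf ((nat_lit 660), [nat_lit 1, nat_lit 6, nat_lit 1, nat_lit 4, nat_lit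 3, nat_lit 6, nat_lit 5, nat_lit 3, nat_lit 5, nat_lit 4, nat_lit 2])) (.node (nat_lit 2655) (.leaf ((nat_lit 1403), [nat_lit 6, nat_lit 3, nat_lit 0, nat_lit 4, nat_lit 6, nat_lit 0, nat_lit 2, nat_lit 0, nat_lit 5, nat_lit 4, nat_lit 2, nat_lit 3])) (.leaf ((nat_lit 938), [nat_lit 2, nat_lit 4, nat_lit 6, nat_lit 1, nat_lit 0, nat_lit 2, nat_lit 0])))))
 (.node (nat_lit 2659) (.node (nat_lit 2657) (.leaf ((nat_lit 1365), [nat_lit 1, nat_lit 4, nat_lit 6, nat_lit 0, nat_lit 2, nat_lit 6, nat_lit 1, nat_lit 0, nat_lit 4, nat_lit 3])) (.node (nat_lit 2658) (.leaf ((nat_lit 1385), [nat_lit 5, nat_lit 1, nat_lit 5, nat_lit 6, nat_lit 5, nat_lit 4, nat_lit 5, nat_lit 0, nat_lit 4, nat_lit 0, nat_lit 2, nat_lit 0])) (.leaf ((nat_lit 1203), [nat_lit 3, nat_lit 2, nat_lit 6, nat_lit 5, nat_lit 2, nat_lit 6, nat_lit 5, nat_lit 1, nat_lit 3, nat_lit 4, nat_lit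 3, nat_lit 0])))) (.node (nat_lit 2660) (.leaf ((nat_lit 1401), [nat_lit 2, nat_lit 5, nat_lit 6, nat_lit 1, nat_lit 0, nat_lit 6, nat_lit 1, nat_lit 3, nat_lit 5, nat_lit 2, nat_lit 4, nat_lit 2, nat_lit 0, nat_lit 1])) (.node (nat_lit 2661) (.leaf ((nat_lit 698), [nat_lit 3, nat_lit 6, nat_lit 0, nat_lit 1, nat_lit 5, nat_lit 6, nat_lit 3, nat_lit 2, nat_lit 5, nat_lit 4, nat_lit 2, nat_lit 3, nat_lit 1])) (.leaf ((nat_lit 597), [nat_lit 2, nat_lit 6, nat_lit 3, nat_lit 4, nat_lit 2, nat_lit 0, nat_lit 2, nat_lit 4, nat_lit 0, nat_lit 1])))))))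
 (.node (nat_lit 2673) (.node (nat_lit 2667) (.node (nat_lit 2664) (.node (nat_lit 2663) (.leaf ((nat_lit 1233), [nat_lit 1, nat_lit 4, nat_lit 6, nat_lit 0, nat_lit 2, nat_lit 6, nat_lit 5, nat_lit 0, nat_lit 4, nat_lit 3, nat_lit 5, nat_lit 1, nat_lit 0, nat_lit 2, nat_lit 0])) (.leaf ((nat_lit 1404), [nat_lit 3, nat_lit 0, nat_lit 4, nat_lit 6, nat_lit 1, nat_lit 3, nat_lit 2, nat_lit 0, nat_lit 4, nat_lit 0, nat_lit 2]))) (.node (nat_lit 2665) (.leaf ((nat_lit 990), [nat_lit 1, nat_lit 4, nat_lit 6, nat_lit 0, nat_lit 2, nat_lit 6, nat_lit 2, nat_lit 4, nat_lit 1, nat_lit 0, nat_lit 4, nat_lit 2])) (.node (nat_lit 2666) (.leaf ((nat_lit 1270), [nat_lit 1, nat_lit 6, nat_lit 2, nat_lit 4, nat_lit 6, nat_lit 0, nat_lit 2, nat_lit 4, nat_lit 1, nat_lit 4, nat_lit 1, nat_lit 3, nat_lit 0])) (.leaf ((nat_lit 1388), [nat_lit 3, nat_lit 6, nat_lit 0,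 nat_lit 1, nat_lit 5, nat_lit 6, nat_lit 2, nat_lit 3, nat_lit 2, nat_lit 4, nat_lit 3, nat_lit 2, nat_lit 0])))))
 (.node (nat_lit 2670) (.node (nat_lit 2668) (.leaf ((nat_lit 399), [nat_lit 3, nat_lit 5, nat_lit 3, nat_lit 6, nat_lit 3, nat_lit 4, nat_lit 2, nat_lit 4, nat_lit 1, nat_lit 3, nat_lit 1])) (.node (nat_lit 2669) (.leaf ((nat_lit 1218), [nat_lit 5, nat_lit 2, nat_lit 4, nat_lit 6, nat_lit 3, nat_lit 4, nat_lit 0, nat_lit 2, nat_lit 5, nat_lit 3, nat_lit 2])) (.leaf ((nat_lit 1053), [nat_lit 0, nat_lit 6, nat_lit 5, nat_lit 4, nat_lit 6, nat_lit 4, nat_lit 3, nat_lit 5, nat_lit 1, nat_lit 5, nat_lit 3, nat_lit 2, nat_lit 0])))) (.node (nat_lit 2671) (.leaf ((nat_lit 1093), [nat_lit 6, nat_lit 0, nat_lit 1, nat_lit 4, nat_lit 2, nat_lit 6, nat_lit 5, nat_lit 1, nat_lit 5, nat_lit 0, nat_lit 4, nat_lit 3, nat_lit 2, nat_lit 0])) (.node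 (nat_lit 2672) (.leaf ((nat_lit 1380), [nat_lit 0, nat_lit 6, nat_lit 1, nat_lit 6, nat_lit 0, nat_lit 2, nat_lit 4, nat_lit 2, nat_lit 4, nat_lit 1, nat_lit 3])) (.leaf ((nat_lit 1350), [nat_lit 5, nat_lit 1, nat_lit 0, nat_lit 6, nat_lit 5, nat_lit 4, nat_lit 2]))))))
 (.node (nat_lit 2678) (.node (nat_lit 2675) (.node (nat_lit 2674) (.leaf ((nat_lit 1099), [nat_lit 5, nat_lit 3, nat_lit 4, nat_lit 6, nat_lit 2, nat_lit 6, nat_lit 2, nat_lit 4, nat_lit 3, nat_lit 5, nat_lit 4, nat_lit 2, nat_lit 0, nat_lit 1, nat_lit 0])) (.leaf ((nat_lit 396), [nat_lit 1, nat_lit 5, nat_lit 6, nat_lit 2, nat_lit 0, nat_lit 6, nat_lit 1, nat_lit 4, nat_lit 1, nat_lit 4, nat_lit 2]))) (.node (nat_lit 2676) (.leaf ((nat_lit 824), [nat_lit 1, nat_lit 6, nat_lit 1, nat_lit 4, nat_lit 1, nat_lit 6, nat_lit 0, nat_lit 1, nat_lit 4, nat_lit 0])) (.node (nat_lit 2677)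 (.leaf ((nat_lit 155), [nat_lit 1, nat_lit 0, nat_lit 6, nat_lit 2, nat_lit 6, nat_lit 5, nat_lit 1, nat_lit 5, nat_lit 0, nat_lit 4, nat_lit 3, nat_lit 2])) (.leaf ((nat_lit 908), [nat_lit 6, nat_lit 2, nat_lit 6, nat_lit 5, nat_lit 4, nat_lit 3, nat_lit 5, nat_lit 0, nat_lit 1, nat_lit 0])))))
 (.node (nat_lit 2681) (.node (nat_lit 2679) (.leaf ((nat_lit 1219), [nat_lit 4, nat_lit 0, nat_lit 6, nat_lit 1, nat_lit 6, nat_lit 4, nat_lit 5, nat_lit 1, nat_lit 5, nat_lit 4, nat_lit 0, nat_lit 1, nat_lit 0])) (.node (nat_lit 2680) (.leaf ((nat_lit 892), [nat_lit 5, nat_lit 3, nat_lit 6, nat_lit 1, nat_lit 0, nat_lit 5, nat_lit 2, nat_lit 4, nat_lit 2, nat_lit 0])) (.leaf ((nat_lit 308), [nat_lit 2, nat_lit 3, nat_lit 6, nat_lit 2, nat_lit 6, nat_lit 1, nat_lit 0, nat_lit 2, nat_lit 4, nat_lit 2, nat_lit 0, nat_lit 2])))) (.node (nat_lit 2682) (.leaf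 ((nat_lit 1405), [nat_lit 2, nat_lit 6, nat_lit 5, nat_lit 2, nat_lit 0, nat_lit 6, nat_lit 1, nat_lit 3, nat_lit 0, nat_lit 4, nat_lit 2, nat_lit 3])) (.node (nat_lit 2683) (.leaf ((nat_lit 372), [nat_lit 6, nat_lit 3, nat_lit 4, nat_lit 1, nat_lit 6, nat_lit 3, nat_lit 5, nat_lit 3, nat_lit 4, nat_lit 3, nat_lit 2, nat_lit 0])) (.leaf ((nat_lit 1091), [nat_lit 2, nat_lit 4, nat_lit 1, nat_lit 6, nat_lit 4, nat_lit 3, nat_lit 2, nat_lit 0, nat_lit 4, nat_lit 3, nat_lit 2]))))))))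
 (.node (nat_lit 2706) (.node (nat_lit 2695) (.node (nat_lit 2689) (.node (nat_lit 2686) (.node (nat_lit 2685) (.leaf ((nat_lit 36), [nat_lit 6, nat_lit 0, nat_lit 5, nat_lit 6, nat_lit 2, nat_lit 6, nat_lit 2, nat_lit 4, nat_lit 5, nat_lit 4, nat_lit 0, nat_lit 5, nat_lit 0, nat_lit 2, nat_lit 0])) (.leaf ((nat_lit 349), [nat_lit 1, nat_lit 3, nat_lit 0, nat_lit 6, nat_lit 5, nat_lit 2, nat_lit 0, nat_lit 2, nat_lit 0, nat_lit 4, nat_lit 1, nat_lit 0, nat_lit 2, nat_lit 0]))) (.node (nat_lit 2687) (.leaf ((nat_lit 1406), [nat_lit 1, nat_lit 6, nat_lit 1, nat_lit 4, nat_lit 1, nat_lit 6, nat_lit 1, nat_lit 5, nat_lit 3, nat_lit 4, nat_lit 1, nat_lit 0, nat_lit 2])) (.node (nat_lit 2688) (.leaf ((nat_lit 1262), [nat_lit 0, nat_lit 4, nat_lit 6, nat_lit 3, nat_lit 2, nat_lit 6, nat_lit 5, nat_lit 0, nat_lit 4, nat_lit 1, nat_lit 5, nat_lit 2, nat_lit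 3, nat_lit 1, nat_lit 0])) (.leaf ((nat_lit 1400), [nat_lit 5, nat_lit 6, nat_lit 2, nat_lit 4, nat_lit 3, nat_lit 6, nat_lit 0, nat_lit 4, nat_lit 3, nat_lit 0, nat_lit 4, nat_lit 2, nat_lit 3, nat_lit 2])))))
 (.node (nat_lit 2692) (.node (nat_lit 2690) (.leaf ((nat_lit 1149), [nat_lit 4, nat_lit 5, nat_lit 0, nat_lit 6, nat_lit 2, nat_lit 6, nat_lit 0, nat_lit 4, nat_lit 3, nat_lit 4, nat_lit 1, nat_lit 0, nat_lit 2])) (.node (nat_lit 2691) (.leaf ((nat_lit 1398), [nat_lit 6, nat_lit 5, nat_lit 2, nat_lit 6, nat_lit 5, nat_lit 1, nat_lit 3, nat_lit 4, nat_lit 2, nat_lit 0, nat_lit 2, nat_lit 0])) (.leaf ((nat_lit 707), [nat_lit 1, nat_lit 0, nat_lit 6, nat_lit 2, nat_lit 6, nat_lit 2, nat_lit 5, nat_lit 3, nat_lit 0, nat_lit 4, nat_lit 1, nat_lit 0, nat_lit 1])))) (.node (nat_lit 2693) (.leaf ((nat_lit 310), [nat_lit 1, nat_lit 3, nat_lit 0, nat_lit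 6, nat_lit 4, nat_lit 1, nat_lit 5, nat_lit 2, nat_lit 3, nat_lit 2, nat_lit 0])) (.node (nat_lit 2694) (.leaf ((nat_lit 1342), [nat_lit 2, nat_lit 5, nat_lit 2, nat_lit 6, nat_lit 2, nat_lit 4, nat_lit 5, nat_lit 2, nat_lit 5, nat_lit 3, nat_lit 2, nat_lit 0])) (.leaf ((nat_lit 62), [nat_lit 6, nat_lit 1, nat_lit 6, nat_lit 0, nat_lit 2, nat_lit 6, nat_lit 3, nat_lit 5, nat_lit 3, nat_lit 4, nat_lit 2, nat_lit 3, nat_lit 1, nat_lit 0]))))))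
 (.node (nat_lit 2700) (.node (nat_lit 2697) (.node (nat_lit 2696) (.leaf ((nat_lit 814), [nat_lit 6, nat_lit 4, nat_lit 2, nat_lit 0, nat_lit 6, nat_lit 5, nat_lit 2, nat_lit 5, nat_lit 4, nat_lit 2, nat_lit 0])) (.leaf ((nat_lit 1377), [nat_lit 2, nat_lit 3, nat_lit 6, nat_lit 1, nat_lit 5, nat_lit 6, nat_lit 0, nat_lit 5, nat_lit 2, nat_lit 0, nat_lit 4, nat_lit 0, nat_lit 1]))) (.node (nat_lit 2698) (.leaf ((nat_lit 994), [nat_lit 6, nat_lit 5, nat_lit 4, nat_lit 6, nat_lit 5, nat_lit 4, nat_lit 0, nat_lit 2, nat_lit 4, nat_lit 2, nat_lit 3, nat_lit 1, nat_lit 0])) (.node (nat_lit 2699) (.leaf ((nat_lit 945), [nat_lit 5, nat_lit 2, nat_lit 6, nat_lit 1, nat_lit 5, nat_lit 3, nat_lit 2])) (.leaf ((nat_lit 1079), [nat_lit 2, nat_lit 5, nat_lit 6, nat_lit 4, nat_lit 0, nat_lit 6, nat_lit 4, nat_lit 5, nat_lit 4, nat_lit 5, nat_lit 1, nat_lit 0,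 nat_lit 1])))))
 (.node (nat_lit 2703) (.node (nat_lit 2701) (.leaf ((nat_lit 1381), [nat_lit 3, nat_lit 6, nat_lit 2, nat_lit 5, nat_lit 6, nat_lit 2, nat_lit 5, nat_lit 0, nat_lit 4, nat_lit 1, nat_lit 3, nat_lit 1, nat_lit 0])) (.node (nat_lit 2702) (.leaf ((nat_lit 662), [nat_lit 5, nat_lit 4, nat_lit 6, nat_lit 4, nat_lit 2, nat_lit 6, nat_lit 4, nat_lit 5, nat_lit 0, nat_lit 4, nat_lit 2])) (.leaf ((nat_lit 1407), [nat_lit 4, nat_lit 3, nat_lit 2, nat_lit 4, nat_lit 1, nat_lit 0])))) (.node (nat_lit 2704) (.leaf ((nat_lit 1213), [nat_lit 1, nat_lit 3, nat_lit 0, nat_lit 6, nat_lit 5, nat_lit 4, nat_lit 5, nat_lit 1, nat_lit 5, nat_lit 0, nat_lit 1, nat_lit 0])) (.node (nat_lit 2705) (.leaf ((nat_lit 1113), [nat_lit 4, nat_lit 6, nat_lit 3, nat_lit 0, nat_lit 6, nat_lit 5, nat_lit 0, nat_lit 5, nat_lit 1, nat_lit 3, nat_lit 0])) (.leaf ((nat_lit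 1360), [nat_lit 6, nat_lit 3, nat_lit 6, nat_lit 4, nat_lit 0, nat_lit 5, nat_lit 2, nat_lit 0, nat_lit 4])))))))
 (.node (nat_lit 2717) (.node (nat_lit 2711) (.node (nat_lit 2708) (.node (nat_lit 2707) (.leaf ((nat_lit 981), [nat_lit 4, nat_lit 6, nat_lit 2, nat_lit 3, nat_lit 6, nat_lit 0, nat_lit 4, nat_lit 5, nat_lit 4, nat_lit 1, nat_lit 0, nat_lit 2, nat_lit 0])) (.leaf ((nat_lit 85), [nat_lit 4, nat_lit 5, nat_lit 6, nat_lit 1, nat_lit 0, nat_lit 6, nat_lit 3, nat_lit 0, nat_lit 4, nat_lit 2, nat_lit 3, nat_lit 1, nat_lit 0]))) (.node (nat_lit 2709) (.leaf ((nat_lit 1368), [nat_lit 0, nat_lit 1, nat_lit 4, nat_lit 6, nat_lit 1, nat_lit 0, nat_lit 5, nat_lit 4, nat_lit 0])) (.node (nat_lit 2710) (.leaf ((nat_lit 1367), [nat_lit 6, nat_lit 4, nat_lit 5, nat_lit 4, nat_lit 6, nat_lit 2, nat_lit 4, nat_lit 1, nat_lit 0, nat_lit 4, nat_lit 1, nat_lit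 3, nat_lit 0])) (.leaf ((nat_lit 1257), [nat_lit 2, nat_lit 6, nat_lit 3, nat_lit 0, nat_lit 4, nat_lit 6, nat_lit 4, nat_lit 2, nat_lit 0, nat_lit 2])))))
 (.node (nat_lit 2714) (.node (nat_lit 2712) (.leaf ((nat_lit 175), [nat_lit 0, nat_lit 1, nat_lit 5, nat_lit 6, nat_lit 2, nat_lit 6, nat_lit 4, nat_lit 2, nat_lit 4, nat_lit 3, nat_lit 4, nat_lit 1, nat_lit 3, nat_lit 1])) (.node (nat_lit 2713) (.leaf ((nat_lit 666), [nat_lit 2, nat_lit 6, nat_lit 4, nat_lit 1, nat_lit 6, nat_lit 2, nat_lit 0, nat_lit 5, nat_lit 0, nat_lit 2])) (.leaf ((nat_lit 1211), [nat_lit 6, nat_lit 4, nat_lit 1, nat_lit 0, nat_lit 6, nat_lit 2, nat_lit 5, nat_lit 0, nat_lit 2, nat_lit 4, nat_lit 3, nat_lit 1])))) (.node (nat_lit 2715) (.leaf ((nat_lit 1353), [nat_lit 2, nat_lit 5, nat_lit 3, nat_lit 6, nat_lit 3, nat_lit 0, nat_lit 4, nat_lit 5, nat_lit 0, nat_lit 2]))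 (.node (nat_lit 2716) (.leaf ((nat_lit 1165), [nat_lit 4, nat_lit 5, nat_lit 6, nat_lit 4, nat_lit 1, nat_lit 0, nat_lit 6, nat_lit 5, nat_lit 2, nat_lit 5, nat_lit 1, nat_lit 0, nat_lit 4, nat_lit 3, nat_lit 0])) (.leaf ((nat_lit 609), [nat_lit 0, nat_lit 5, nat_lit 3, nat_lit 6, nat_lit 0, nat_lit 2, nat_lit 4, nat_lit 2, nat_lit 4, nat_lit 2, nat_lit 0, nat_lit 2, nat_lit 0]))))))
 (.node (nat_lit 2722) (.node (nat_lit 2719) (.node (nat_lit 2718) (.leaf ((nat_lit 294), [nat_lit 4, nat_lit 1, nat_lit 0, nat_lit 6, nat_lit 5, nat_lit 0, nat_lit 4, nat_lit 0])) (.leaf ((nat_lit 1153), [nat_lit 5, nat_lit 2, nat_lit 6, nat_lit 1, nat_lit 0, nat_lit 6, nat_lit 2, nat_lit 4, nat_lit 2, nat_lit 0, nat_lit 4, nat_lit 1, nat_lit 0]))) (.node (nat_lit 2720) (.leaf ((nat_lit 244), [nat_lit 5, nat_lit 6, nat_lit 2, nat_lit 0, nat_lit 6, nat_lit 5, nat_lit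 4, nat_lit 1, nat_lit 0, nat_lit 4, nat_lit 1, nat_lit 0, nat_lit 2, nat_lit 0])) (.node (nat_lit 2721) (.leaf ((nat_lit 1166), [nat_lit 4, nat_lit 6, nat_lit 3, nat_lit 2, nat_lit 6, nat_lit 5, nat_lit 1, nat_lit 3, nat_lit 2, nat_lit 4, nat_lit 1, nat_lit 0, nat_lit 2, nat_lit 0])) (.leaf ((nat_lit 1370), [nat_lit 1, nat_lit 3, nat_lit 6, nat_lit 5, nat_lit 4, nat_lit 1, nat_lit 4, nat_lit 3])))))
 (.node (nat_lit 2725) (.node (nat_lit 2723) (.leaf ((nat_lit 1250), [nat_lit 5, nat_lit 6, nat_lit 1, nat_lit 3, nat_lit 6, nat_lit 5, nat_lit 0, nat_lit 4, nat_lit 1, nat_lit 5, nat_lit 2, nat_lit 3, nat_lit 1, nat_lit 0])) (.node (nat_lit 2724) (.leaf ((nat_lit 638), [nat_lit 5, nat_lit 6, nat_lit 2, nat_lit 0, nat_lit 2, nat_lit 6, nat_lit 3, nat_lit 0, nat_lit 4, nat_lit 5, nat_lit 1, nat_lit 3])) (.leaf ((nat_lit 165), [nat_lit 3, nat_lit 6, nat_lit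 5, nat_lit 3, nat_lit 6, nat_lit 0, nat_lit 1, nat_lit 5, nat_lit 3, nat_lit 0, nat_lit 4, nat_lit 1, nat_lit 3, nat_lit 2, nat_lit 0])))) (.node (nat_lit 2726) (.leaf ((nat_lit 1266), [nat_lit 6, nat_lit 1, nat_lit 6, nat_lit 0, nat_lit 2, nat_lit 6, nat_lit 3, nat_lit 0, nat_lit 5, nat_lit 0, nat_lit 1])) (.node (nat_lit 2727) (.leaf ((nat_lit 1347), [nat_lit 3, nat_lit 6, nat_lit 3, nat_lit 5, nat_lit 0, nat_lit 6, nat_lit 1, nat_lit 0, nat_lit 4, nat_lit 0, nat_lit 4, nat_lit 2, nat_lit 0, nat_lit 2])) (.leaf ((nat_lit 1324), [nat_lit 1, nat_lit 5, nat_lit 6, nat_lit 4, nat_lit 2, nat_lit 0, nat_lit 6, nat_lit 2, nat_lit 0, nat_lit 2, nat_lit 4, nat_lit 2, nat_lit 0])))))))))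
 (.node (nat_lit 2772) (.node (nat_lit 2750) (.node (nat_lit 2739) (.node (nat_lit 2733) (.node (nat_lit 2730) (.node (nat_lit 2729) (.leaf ((nat_lit 222), [nat_lit 6, nat_lit 2, nat_lit 6, nat_lit 3, nat_lit 2, nat_lit 6, nat_lit 5, nat_lit 1, nat_lit 5, nat_lit 2, nat_lit 3])) (.leaf ((nat_lit 851), [nat_lit 4, nat_lit 6, nat_lit 1, nat_lit 6, nat_lit 4, nat_lit 5, nat_lit 1, nat_lit 5]))) (.node (nat_lit 2731) (.leaf ((nat_lit 327), [nat_lit 6, nat_lit 4, nat_lit 0, nat_lit 2, nat_lit 6, nat_lit 4, nat_lit 5, nat_lit 4, nat_lit 5, nat_lit 0, nat_lit 1, nat_lit 0])) (.node (nat_lit 2732) (.leaf ((nat_lit 700), [nat_lit 5, nat_lit 3, nat_lit 6, nat_lit 4, nat_lit 3, nat_lit 6, nat_lit 4, nat_lit 5, nat_lit 1, nat_lit 3, nat_lit 0, nat_lit 4, nat_lit 2, nat_lit 3, nat_lit 2, nat_lit 0])) (.leaf ((nat_lit 24), [nat_lit 6, nat_lit 2, nat_lit 6, nat_lit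 1, nat_lit 3, nat_lit 6, nat_lit 3, nat_lit 4, nat_lit 2, nat_lit 0, nat_lit 2, nat_lit 4, nat_lit 3, nat_lit 1])))))
 (.node (nat_lit 2736) (.node (nat_lit 2734) (.leaf ((nat_lit 843), [nat_lit 0, nat_lit 6, nat_lit 3, nat_lit 5, nat_lit 6, nat_lit 3, nat_lit 2, nat_lit 0, nat_lit 4, nat_lit 1, nat_lit 0, nat_lit 1, nat_lit 0])) (.node (nat_lit 2735) (.leaf ((nat_lit 1299), [nat_lit 3, nat_lit 6, nat_lit 2, nat_lit 5, nat_lit 6, nat_lit 2, nat_lit 0, nat_lit 2, nat_lit 4, nat_lit 2, nat_lit 4, nat_lit 1, nat_lit 3, nat_lit 1])) (.leaf ((nat_lit 1297), [nat_lit 6, nat_lit 0, nat_lit 1, nat_lit 4, nat_lit 2, nat_lit 6, nat_lit 4, nat_lit 1, nat_lit 3, nat_lit 4, nat_lit 1, nat_lit 0, nat_lit 2])))) (.node (nat_lit 2737) (.leaf ((nat_lit 22), [nat_lit 2, nat_lit 5, nat_lit 3, nat_lit 6, nat_lit 3, nat_lit 2, nat_lit 0, nat_lit 4, nat_lit 0, nat_lit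 1])) (.node (nat_lit 2738) (.leaf ((nat_lit 1227), [nat_lit 3, nat_lit 5, nat_lit 6, nat_lit 2, nat_lit 6, nat_lit 1, nat_lit 4, nat_lit 1, nat_lit 0, nat_lit 4, nat_lit 3])) (.leaf ((nat_lit 1405), [nat_lit 4, nat_lit 6, nat_lit 0, nat_lit 1, nat_lit 6, nat_lit 2, nat_lit 0, nat_lit 2, nat_lit 0, nat_lit 4, nat_lit 0, nat_lit 2]))))))
 (.node (nat_lit 2744) (.node (nat_lit 2741) (.node (nat_lit 2740) (.leaf ((nat_lit 1152), [nat_lit 1, nat_lit 5, nat_lit 6, nat_lit 4, nat_lit 0, nat_lit 5, nat_lit 3, nat_lit 2])) (.leaf ((nat_lit 560), [nat_lit 4, nat_lit 6, nat_lit 1, nat_lit 0, nat_lit 6, nat_lit 5, nat_lit 1, nat_lit 4, nat_lit 1, nat_lit 0, nat_lit 4, nat_lit 3]))) (.node (nat_lit 2742) (.leaf ((nat_lit 930), [nat_lit 4, nat_lit 5, nat_lit 4, nat_lit 6, nat_lit 0, nat_lit 1, nat_lit 4, nat_lit 3, nat_lit 0, nat_lit 4, nat_lit 0, nat_lit 2, nat_lit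 0])) (.node (nat_lit 2743) (.leaf ((nat_lit 1395), [nat_lit 5, nat_lit 4, nat_lit 5, nat_lit 6, nat_lit 4, nat_lit 0, nat_lit 6, nat_lit 3, nat_lit 2, nat_lit 5, nat_lit 4, nat_lit 1, nat_lit 3, nat_lit 1, nat_lit 0])) (.leaf ((nat_lit 1396), [nat_lit 5, nat_lit 0, nat_lit 2, nat_lit 6, nat_lit 4, nat_lit 0, nat_lit 1, nat_lit 4, nat_lit 0, nat_lit 1, nat_lit 0])))))
 (.node (nat_lit 2747) (.node (nat_lit 2745) (.leaf ((nat_lit 1402), [nat_lit 6, nat_lit 3, nat_lit 4, nat_lit 1, nat_lit 6, nat_lit 3, nat_lit 4, nat_lit 1, nat_lit 5, nat_lit 2, nat_lit 3])) (.node (nat_lit 2746) (.leaf ((nat_lit 647), [nat_lit 4, nat_lit 6, nat_lit 1, nat_lit 6, nat_lit 4, nat_lit 0, nat_lit 5, nat_lit 3, nat_lit 2, nat_lit 0])) (.leaf ((nat_lit 967), [nat_lit 6, nat_lit 5, nat_lit 4, nat_lit 6, nat_lit 5, nat_lit 1, nat_lit 5, nat_lit 0, nat_lit 4, nat_lit 2, nat_lit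 3, nat_lit 1])))) (.node (nat_lit 2748) (.leaf ((nat_lit 304), [nat_lit 0, nat_lit 2, nat_lit 6, nat_lit 2, nat_lit 6, nat_lit 5, nat_lit 0, nat_lit 5, nat_lit 2, nat_lit 0, nat_lit 2, nat_lit 0])) (.node (nat_lit 2749) (.leaf ((nat_lit 952), [nat_lit 3, nat_lit 6, nat_lit 4, nat_lit 1, nat_lit 3, nat_lit 6, nat_lit 3, nat_lit 5, nat_lit 1, nat_lit 5, nat_lit 1])) (.leaf ((nat_lit 332), [nat_lit 2, nat_lit 5, nat_lit 6, nat_lit 3, nat_lit 4, nat_lit 0, nat_lit 4, nat_lit 1, nat_lit 3, nat_lit 2])))))))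
 (.node (nat_lit 2761) (.node (nat_lit 2755) (.node (nat_lit 2752) (.node (nat_lit 2751) (.leaf ((nat_lit 973), [nat_lit 3, nat_lit 6, nat_lit 1, nat_lit 6, nat_lit 4, nat_lit 1, nat_lit 3, nat_lit 0, nat_lit 4, nat_lit 1, nat_lit 0, nat_lit 1, nat_lit 0])) (.leaf ((nat_lit 1194), [nat_lit 1, nat_lit 3, nat_lit 6, nat_lit 5, nat_lit 1, nat_lit 0, nat_lit 1, nat_lit 0, nat_lit 4, nat_lit 1, nat_lit 3, nat_lit 0]))) (.node (nat_lit 2753) (.leaf ((nat_lit 955), [nat_lit 2, nat_lit 6, nat_lit 0, nat_lit 2, nat_lit 0, nat_lit 6, nat_lit 3, nat_lit 5, nat_lit 1, nat_lit 0, nat_lit 4, nat_lit 1, nat_lit 3, nat_lit 2, nat_lit 0])) (.node (nat_lit 2754) (.leaf ((nat_lit 498), [nat_lit 0, nat_lit 4, nat_lit 2, nat_lit 6, nat_lit 5, nat_lit 4, nat_lit 5, nat_lit 0, nat_lit 4, nat_lit 0, nat_lit 1, nat_lit 0])) (.leaf ((nat_lit 1255), [nat_lit 6, nat_lit 0,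 nat_lit 4, nat_lit 5, nat_lit 6, nat_lit 2, nat_lit 0, nat_lit 5, nat_lit 1, nat_lit 0, nat_lit 1])))))
 (.node (nat_lit 2758) (.node (nat_lit 2756) (.leaf ((nat_lit 1032), [nat_lit 2, nat_lit 6, nat_lit 3, nat_lit 0, nat_lit 4, nat_lit 6, nat_lit 2, nat_lit 4, nat_lit 0, nat_lit 1])) (.node (nat_lit 2757) (.leaf ((nat_lit 932), [nat_lit 5, nat_lit 6, nat_lit 2, nat_lit 6, nat_lit 4, nat_lit 0, nat_lit 5, nat_lit 2, nat_lit 5])) (.leaf ((nat_lit 1393), [nat_lit 3, nat_lit 2, nat_lit 6, nat_lit 5, nat_lit 2, nat_lit 6, nat_lit 5, nat_lit 2, nat_lit 0, nat_lit 5, nat_lit 1, nat_lit 3, nat_lit 2])))) (.node (nat_lit 2759) (.leaf ((nat_lit 1072), [nat_lit 3, nat_lit 6, nat_lit 2, nat_lit 4, nat_lit 2, nat_lit 6, nat_lit 3, nat_lit 2, nat_lit 4, nat_lit 2, nat_lit 4, nat_lit 2, nat_lit 3, nat_lit 1, nat_lit 0])) (.node (nat_lit 2760) (.leaf ((nat_lit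 320), [nat_lit 3, nat_lit 6, nat_lit 2, nat_lit 4, nat_lit 5, nat_lit 2, nat_lit 0, nat_lit 2])) (.leaf ((nat_lit 848), [nat_lit 2, nat_lit 6, nat_lit 2, nat_lit 0, nat_lit 6, nat_lit 1, nat_lit 0, nat_lit 4, nat_lit 1, nat_lit 0, nat_lit 1, nat_lit 0]))))))
 (.node (nat_lit 2766) (.node (nat_lit 2763) (.node (nat_lit 2762) (.leaf ((nat_lit 629), [nat_lit 2, nat_lit 6, nat_lit 1, nat_lit 0, nat_lit 6, nat_lit 1, nat_lit 5, nat_lit 1, nat_lit 0, nat_lit 4, nat_lit 2])) (.leaf ((nat_lit 1363), [nat_lit 0, nat_lit 4, nat_lit 6, nat_lit 4, nat_lit 5, nat_lit 2, nat_lit 5, nat_lit 2, nat_lit 0, nat_lit 1]))) (.node (nat_lit 2764) (.leaf ((nat_lit 1406), [nat_lit 2, nat_lit 4, nat_lit 0, nat_lit 6, nat_lit 2, nat_lit 0, nat_lit 4, nat_lit 3, nat_lit 5, nat_lit 2, nat_lit 0])) (.node (nat_lit 2765) (.leaf ((nat_lit 523), [nat_lit 4, nat_lit 6, nat_lit 1,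 nat_lit 3, nat_lit 6, nat_lit 4, nat_lit 3, nat_lit 2, nat_lit 0, nat_lit 4, nat_lit 2, nat_lit 0, nat_lit 2])) (.leaf ((nat_lit 1065), [nat_lit 2, nat_lit 6, nat_lit 2, nat_lit 4, nat_lit 0, nat_lit 6, nat_lit 1, nat_lit 3, nat_lit 1, nat_lit 0, nat_lit 4, nat_lit 2, nat_lit 3, nat_lit 0])))))
 (.node (nat_lit 2769) (.node (nat_lit 2767) (.leaf ((nat_lit 268), [nat_lit 0, nat_lit 6, nat_lit 1, nat_lit 0, nat_lit 6, nat_lit 4, nat_lit 3, nat_lit 4, nat_lit 1, nat_lit 4])) (.node (nat_lit 2768) (.leaf ((nat_lit 1338), [nat_lit 2, nat_lit 6, nat_lit 4, nat_lit 0, nat_lit 6, nat_lit 1, nat_lit 4, nat_lit 2, nat_lit 3, nat_lit 4, nat_lit 1, nat_lit 3, nat_lit 1])) (.leaf ((nat_lit 598), [nat_lit 1, nat_lit 5, nat_lit 6, nat_lit 1, nat_lit 5, nat_lit 6, nat_lit 3, nat_lit 0, nat_lit 4, nat_lit 3, nat_lit 1, nat_lit 0])))) (.node (nat_lit 2770) (.leaf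 ((nat_lit 1178), [nat_lit 1, nat_lit 0, nat_lit 6, nat_lit 5, nat_lit 3, nat_lit 2, nat_lit 0])) (.node (nat_lit 2771) (.leaf ((nat_lit 497), [nat_lit 5, nat_lit 6, nat_lit 4, nat_lit 3, nat_lit 6, nat_lit 4, nat_lit 3, nat_lit 4, nat_lit 1, nat_lit 4, nat_lit 3])) (.leaf ((nat_lit 476), [nat_lit 5, nat_lit 1, nat_lit 6, nat_lit 3, nat_lit 0, nat_lit 6, nat_lit 4, nat_lit 3, nat_lit 5, nat_lit 4, nat_lit 2, nat_lit 3, nat_lit 0]))))))))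
 (.node (nat_lit 2794) (.node (nat_lit 2783) (.node (nat_lit 2777) (.node (nat_lit 2774) (.node (nat_lit 2773) (.leaf ((nat_lit 260), [nat_lit 6, nat_lit 5, nat_lit 4, nat_lit 2, nat_lit 0, nat_lit 6, nat_lit 3, nat_lit 5, nat_lit 2, nat_lit 0, nat_lit 4, nat_lit 3, nat_lit 0])) (.leaf ((nat_lit 1407), [nat_lit 5, nat_lit 1, nat_lit 6, nat_lit 4, nat_lit 1, nat_lit 6, nat_lit 0, nat_lit 4, nat_lit 3, nat_lit 4, nat_lit 1]))) (.node (nat_lit 2775) (.leaf ((nat_lit 1357), [nat_lit 4, nat_lit 5, nat_lit 4, nat_lit 6, nat_lit 0, nat_lit 2, nat_lit 4, nat_lit 5, nat_lit 2, nat_lit 3, nat_lit 1])) (.node (nat_lit 2776) (.leaf ((nat_lit 1361), [nat_lit 3, nat_lit 2, nat_lit 6, nat_lit 5, nat_lit 0, nat_lit 1, nat_lit 5, nat_lit 4, nat_lit 0, nat_lit 1, nat_lit 0])) (.leaf ((nat_lit 1087), [nat_lit 4, nat_lit 6, nat_lit 4, nat_lit 2, nat_lit 0, nat_lit 6,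 nat_lit 3, nat_lit 5, nat_lit 4, nat_lit 3, nat_lit 1, nat_lit 0])))))
 (.node (nat_lit 2780) (.node (nat_lit 2778) (.leaf ((nat_lit 1078), [nat_lit 1, nat_lit 3, nat_lit 6, nat_lit 4, nat_lit 1, nat_lit 5, nat_lit 3, nat_lit 1, nat_lit 0])) (.node (nat_lit 2779) (.leaf ((nat_lit 739), [nat_lit 0, nat_lit 2, nat_lit 6, nat_lit 1, nat_lit 6, nat_lit 3, nat_lit 0, nat_lit 4, nat_lit 0, nat_lit 4, nat_lit 2, nat_lit 3, nat_lit 1])) (.leaf ((nat_lit 1403), [nat_lit 0, nat_lit 2, nat_lit 0, nat_lit 6, nat_lit 1, nat_lit 6, nat_lit 3, nat_lit 4, nat_lit 5, nat_lit 0, nat_lit 4, nat_lit 0, nat_lit 1, nat_lit 0])))) (.node (nat_lit 2781) (.leaf ((nat_lit 202), [nat_lit 5, nat_lit 0, nat_lit 2, nat_lit 6, nat_lit 1, nat_lit 4, nat_lit 3, nat_lit 2, nat_lit 4, nat_lit 0, nat_lit 1])) (.node (nat_lit 2782) (.leaf ((nat_lit 1234), [nat_lit 3, nat_lit 5, nat_lit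 6, nat_lit 4, nat_lit 0, nat_lit 6, nat_lit 2, nat_lit 0, nat_lit 4, nat_lit 1, nat_lit 4, nat_lit 1, nat_lit 3])) (.leaf ((nat_lit 1404), [nat_lit 2, nat_lit 3, nat_lit 5, nat_lit 6, nat_lit 5, nat_lit 2, nat_lit 5, nat_lit 2, nat_lit 4, nat_lit 0]))))))
 (.node (nat_lit 2788) (.node (nat_lit 2785) (.node (nat_lit 2784) (.leaf ((nat_lit 633), [nat_lit 3, nat_lit 2, nat_lit 6, nat_lit 2, nat_lit 6, nat_lit 2, nat_lit 5, nat_lit 4, nat_lit 3, nat_lit 1, nat_lit 0])) (.leaf ((nat_lit 429), [nat_lit 6, nat_lit 2, nat_lit 4, nat_lit 6, nat_lit 0, nat_lit 2, nat_lit 5, nat_lit 3, nat_lit 4, nat_lit 1, nat_lit 0, nat_lit 2]))) (.node (nat_lit 2786) (.leaf ((nat_lit 1161), [nat_lit 1, nat_lit 6, nat_lit 0, nat_lit 2, nat_lit 6, nat_lit 4, nat_lit 1, nat_lit 4, nat_lit 1, nat_lit 3, nat_lit 2, nat_lit 0])) (.node (nat_lit 2787) (.leaf ((nat_lit 411), [nat_lit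 3, nat_lit 6, nat_lit 1, nat_lit 4, nat_lit 6, nat_lit 3, nat_lit 4, nat_lit 2, nat_lit 4, nat_lit 1, nat_lit 0, nat_lit 1, nat_lit 0])) (.leaf ((nat_lit 507), [nat_lit 4, nat_lit 6, nat_lit 5, nat_lit 1, nat_lit 6, nat_lit 2, nat_lit 5, nat_lit 1, nat_lit 0, nat_lit 4, nat_lit 3, nat_lit 0])))))
 (.node (nat_lit 2791) (.node (nat_lit 2789) (.leaf ((nat_lit 1327), [nat_lit 5, nat_lit 2, nat_lit 6, nat_lit 2, nat_lit 6, nat_lit 2, nat_lit 4, nat_lit 0, nat_lit 4, nat_lit 2, nat_lit 3, nat_lit 2, nat_lit 0])) (.node (nat_lit 2790) (.leaf ((nat_lit 1033), [nat_lit 4, nat_lit 6, nat_lit 2, nat_lit 4, nat_lit 0, nat_lit 6, nat_lit 5, nat_lit 4, nat_lit 0, nat_lit 5, nat_lit 1, nat_lit 3, nat_lit 0])) (.leaf ((nat_lit 404), [nat_lit 3, nat_lit 0, nat_lit 6, nat_lit 4, nat_lit 3, nat_lit 2, nat_lit 4, nat_lit 1, nat_lit 0, nat_lit 2])))) (.node (nat_lit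 2792) (.leaf ((nat_lit 703), [nat_lit 6, nat_lit 2, nat_lit 4, nat_lit 6, nat_lit 5, nat_lit 0, nat_lit 2, nat_lit 4, nat_lit 1, nat_lit 0, nat_lit 2])) (.node (nat_lit 2793) (.leaf ((nat_lit 1083), [nat_lit 2, nat_lit 6, nat_lit 5, nat_lit 3, nat_lit 6, nat_lit 2, nat_lit 5, nat_lit 1, nat_lit 0])) (.leaf ((nat_lit 950), [nat_lit 6, nat_lit 1, nat_lit 4, nat_lit 1, nat_lit 6, nat_lit 3, nat_lit 4, nat_lit 3, nat_lit 0, nat_lit 5, nat_lit 3, nat_lit 1])))))))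
 (.node (nat_lit 2805) (.node (nat_lit 2799) (.node (nat_lit 2796) (.node (nat_lit 2795) (.leaf ((nat_lit 901), [nat_lit 3, nat_lit 4, nat_lit 2, nat_lit 0, nat_lit 6, nat_lit 3, nat_lit 1, nat_lit 0, nat_lit 4, nat_lit 1])) (.leaf ((nat_lit 467), [nat_lit 0, nat_lit 4, nat_lit 6, nat_lit 2, nat_lit 6, nat_lit 5, nat_lit 4, nat_lit 0, nat_lit 5, nat_lit 4, nat_lit 3, nat_lit 1]))) (.node (nat_lit 2797) (.leaf ((nat_lit 1339), [nat_lit 5, nat_lit 1, nat_lit 6, nat_lit 2, nat_lit 6, nat_lit 3, nat_lit 4, nat_lit 5, nat_lit 0, nat_lit 4, nat_lit 3, nat_lit 1, nat_lit 0])) (.node (nat_lit 2798) (.leaf ((nat_lit 1144), [nat_lit 3, nat_lit 5, nat_lit 6, nat_lit 2, nat_lit 0, nat_lit 6, nat_lit 5, nat_lit 2, nat_lit 0, nat_lit 5, nat_lit 1, nat_lit 3, nat_lit 1])) (.leaf ((nat_lit 1351), [nat_lit 0, nat_lit 1, nat_lit 5, nat_lit 6, nat_lit 2, nat_lit 6,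 nat_lit 5, nat_lit 2, nat_lit 0, nat_lit 4, nat_lit 0, nat_lit 2])))))
 (.node (nat_lit 2802) (.node (nat_lit 2800) (.leaf ((nat_lit 715), [nat_lit 1, nat_lit 6, nat_lit 3, nat_lit 5, nat_lit 6, nat_lit 4, nat_lit 5, nat_lit 1, nat_lit 3, nat_lit 0, nat_lit 4, nat_lit 3, nat_lit 2])) (.node (nat_lit 2801) (.leaf ((nat_lit 1392), [nat_lit 0, nat_lit 1, nat_lit 6, nat_lit 0, nat_lit 4, nat_lit 3, nat_lit 0, nat_lit 4, nat_lit 1, nat_lit 0, nat_lit 1])) (.leaf ((nat_lit 1117), [nat_lit 6, nat_lit 1, nat_lit 4, nat_lit 6, nat_lit 3, nat_lit 5, nat_lit 3, nat_lit 4, nat_lit 2, nat_lit 0, nat_lit 2, nat_lit 0])))) (.node (nat_lit 2803) (.leaf ((nat_lit 1135), [nat_lit 1, nat_lit 4, nat_lit 6, nat_lit 4, nat_lit 2, nat_lit 6, nat_lit 0, nat_lit 2, nat_lit 0, nat_lit 5, nat_lit 4, nat_lit 1, nat_lit 3, nat_lit 1, nat_lit 0])) (.node (nat_lit 2804) (.leaf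 ((nat_lit 777), [nat_lit 1, nat_lit 4, nat_lit 3, nat_lit 6, nat_lit 1, nat_lit 4, nat_lit 0, nat_lit 2, nat_lit 4, nat_lit 2, nat_lit 0, nat_lit 1, nat_lit 0])) (.leaf ((nat_lit 1343), [nat_lit 3, nat_lit 2, nat_lit 6, nat_lit 4, nat_lit 2, nat_lit 6, nat_lit 0, nat_lit 5, nat_lit 2, nat_lit 0, nat_lit 4, nat_lit 1, nat_lit 3, nat_lit 1]))))))
 (.node (nat_lit 2810) (.node (nat_lit 2807) (.node (nat_lit 2806) (.leaf ((nat_lit 980), [nat_lit 6, nat_lit 4, nat_lit 1, nat_lit 0, nat_lit 6, nat_lit 5, nat_lit 1, nat_lit 3, nat_lit 4, nat_lit 5, nat_lit 2, nat_lit 3, nat_lit 1])) (.leaf ((nat_lit 850), [nat_lit 2, nat_lit 6, nat_lit 2, nat_lit 3, nat_lit 6, nat_lit 1, nat_lit 5, nat_lit 2, nat_lit 5, nat_lit 2, nat_lit 0, nat_lit 2]))) (.node (nat_lit 2808) (.leaf ((nat_lit 1333), [nat_lit 6, nat_lit 2, nat_lit 6, nat_lit 1, nat_lit 3, nat_lit 6, nat_lit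 5, nat_lit 3, nat_lit 5, nat_lit 4, nat_lit 2, nat_lit 3, nat_lit 2, nat_lit 0])) (.node (nat_lit 2809) (.leaf ((nat_lit 903), [nat_lit 3, nat_lit 6, nat_lit 4, nat_lit 1, nat_lit 3, nat_lit 6, nat_lit 2, nat_lit 4, nat_lit 5, nat_lit 4])) (.leaf ((nat_lit 533), [nat_lit 0, nat_lit 6, nat_lit 1, nat_lit 6, nat_lit 0, nat_lit 2, nat_lit 6, nat_lit 5, nat_lit 4, nat_lit 3, nat_lit 5])))))
 (.node (nat_lit 2813) (.node (nat_lit 2811) (.leaf ((nat_lit 1323), [nat_lit 2, nat_lit 4, nat_lit 2, nat_lit 0, nat_lit 6, nat_lit 4, nat_lit 5, nat_lit 0, nat_lit 4])) (.node (nat_lit 2812) (.leaf ((nat_lit 1269), [nat_lit 6, nat_lit 4, nat_lit 1, nat_lit 6, nat_lit 0, nat_lit 5, nat_lit 3, nat_lit 4, nat_lit 1, nat_lit 3, nat_lit 2, nat_lit 0])) (.leaf ((nat_lit 1006), [nat_lit 1, nat_lit 6, nat_lit 5, nat_lit 6, nat_lit 3, nat_lit 6, nat_lit 1, nat_lit 3, nat_lit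 5, nat_lit 3, nat_lit 4, nat_lit 2])))) (.node (nat_lit 2814) (.leaf ((nat_lit 1040), [nat_lit 0, nat_lit 5, nat_lit 2, nat_lit 6, nat_lit 2, nat_lit 6, nat_lit 5, nat_lit 1, nat_lit 0, nat_lit 4, nat_lit 3, nat_lit 1])) (.node (nat_lit 2815) (.leaf ((nat_lit 204), [nat_lit 6, nat_lit 3, nat_lit 6, nat_lit 2, nat_lit 6, nat_lit 4, nat_lit 0, nat_lit 5, nat_lit 4, nat_lit 2, nat_lit 0])) (.leaf ((nat_lit 309), [nat_lit 4, nat_lit 5, nat_lit 4, nat_lit 6, nat_lit 1, nat_lit 4, nat_lit 0, nat_lit 2, nat_lit 4, nat_lit 0, nat_lit 1]))))))))))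
noncomputable def rWd : Tr (ℕ × List ℕ) := (.node (nat_lit 1408) (.node (nat_lit 704) (.node (nat_lit 352) (.node (nat_lit 176) rWd_0 rWd_1) (.node (nat_lit 528) rWd_2 rWd_3)) (.node (nat_lit 1056) (.node (nat_lit 880) rWd_4 rWd_5) (.node (nat_lit 1232) rWd_6 rWd_7))) (.node (nat_lit 2112) (.node (nat_lit 1760) (.node (nat_lit 1584) rWd_8 rWd_9) (.node (nat_lit 1936) rWd_10 rWd_11)) (.node (nat_lit 2464) (.node (nat_lit 2288) rWd_12 rWd_13) (.node (nat_lit 2640) rWd_14 rWd_15))))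
theorem rq_0 : allR 0 443 (dbl2Chk (nat_lit 10) (nat_lit 1023) (U62.L.map Lev.b) xS h3T v2T rDd 2 1408 2 rPA rWd) = true := by decide +kernel
theorem rq_1 : allR 443 441 (dbl2Chk (nat_lit 10) (nat_lit 1023) (U62.L.map Lev.b) xS h3T v2T rDd 2 1408 2 rPA rWd) = true := by decide +kernel
theorem rq_2 : allR 884 441 (dbl2Chk (nat_lit 10) (nat_lit 1023) (U62.L.map Lev.b) xS h3T v2T rDd 2 1408 2 rPA rWd) = true := by decide +kernel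
theorem rq_3 : allR 1325 83 (dbl2Chk (nat_lit 10) (nat_lit 1023) (U62.L.map Lev.b) xS h3T v2T rDd 2 1408 2 rPA rWd) = true := by decide +kernel
theorem rq : allR 0 1408 (dbl2Chk (nat_lit 10) (nat_lit 1023) (U62.L.map Lev.b) xS h3T v2T rDd 2 1408 2 rPA rWd) = true := (allR_add (allR_add (allR_add rq_0 rq_1) rq_2) rq_3)
theorem rD {G : Type*} [Group G] [Finite G] {X : Type*} [MulAction G X] {pt : ℕ → X} (C : Ch G 693 (nat_lit 10) (nat_lit 1023) pt U62.T U62.L) : Lets G 693 (nat_lit 10) (nat_lit 1023) pt rDd := lets_words C.lets rdE rdw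
theorem rd {G : Type*} [Group G] [Finite G] {X : Type*} [MulAction G X] {pt : ℕ → X} (C : Ch G 693 (nat_lit 10) (nat_lit 1023) pt U62.T U62.L) {U V : Subgroup G} (hU : Lets U 693 (nat_lit 10) (nat_lit 1023) pt h3T) (hV : Lets V 693 (nat_lit 10) (nat_lit 1023) pt v2T) (g : G) :
    ∃ i < 2, ∃ u ∈ U, ∃ x ∈ V, g = u * (rD C).e i * x :=
  C.dbl3 (xl C) xslp (by decide +kernel) hU hV (rD C) rq (by decide +kernel) g
noncomputable def rNE : Tr (List ℕ × List ℕ × List ℕ) := (.node (nat_lit 1) (.leaf ([], [nat_lit 0], [nat_lit 7, nat_lit 99, nat_lit 1])) (.leaf ([nat_lit 0, nat_lit 9, nat_lit 6, nat_lit 0, nat_lit 9, nat_lit 0, nat_lit 5, nat_lit 1, nat_lit 8, nat_lit 7, nat_lit 3, nat_lit 7, nat_lit 5, nat_lit 3, nat_lit 5, nat_lit 1], [nat_lit 0], [nat_lit 5, nat_lit 99, nat_lit 0])))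
theorem rn : allB 2 (ncjChk (nat_lit 10) (nat_lit 1023) (U62.L.map Lev.b) U62.T h2T h3T rDd 11 rNE) = true := by decide +kernel
theorem ncr {G : Type*} [Group G] [Finite G] {X : Type*} [MulAction G X] {pt : ℕ → X} (C : Ch G 693 (nat_lit 10) (nat_lit 1023) pt U62.T U62.L) {A B : Subgroup G} (hA : Ch A 693 (nat_lit 10) (nat_lit 1023) pt h2T h2L) (hB : Ch B 693 (nat_lit 10) (nat_lit 1023) pt h3T h3L) :
    ¬ ∃ g : G, A.map (MulAut.conj g).toMonoidHom = B :=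
  let ⟨V, h, h'⟩ := exV2 C
  C.nconj hA.lets hB.lets (rD C) (rd C hB.lets h) (h' _ (hA.le_norm C.base (v2l C) v2n)) (by norm_num) (by rw [hA.card]; decide +kernel) rn

end H8.U6
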