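import Cfsg.Agent.H8.U6b

/-! H8.U6d: cosets in U6(2) (generated certificate) -/

set_option autoImplicit false
set_option maxRecDepth 200000

set_option linter.all false
open Subgroup 

namespace H8.U6

noncomputable def bDd : Tr ℕ := (.node (nat_lit 3) (.node (nat_lit 1) (.leaf (nat_lit 0x2b4aceb2ac6b0abeaeab6acaaeaaaa6a8a9ea6a96a4a8ea2a86a0a7e9ea769ca6e9aa6698a5e96a5694a4e92a4690a3e8ea368ca2e8aa2688a1e86a1684a0e82a06809fe7e9f67c9ee7a9e6789de769d6749ce729c6709be6e9b66c9ae6a9a66899e669966498e629866097e5e9765c96e5a9665895e569565494e529465093e4e9364c92e4a9264891e469164490e42906408fe3e8f63c8ee3a8e6388de368d6348ce328c6308be2e8b62c8ae2a8a62889e268962488e228862087e1e8761c86e1a8661885e168561484e128461083e0e8360c82e0a8260881e068160480e02806007fdfe7f5fc7edfa7e5f87ddf67d5f47cdf27c5f07bdee7b5ec7adea7a5e879de6795e478de2785e077dde775dc76dda765d875dd6755d474dd2745d073dce735cc72dca725c871dc6715c470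dc2705c06fdbe6f5bc6edba6e5b86ddb66d5b46cdb26c5b06bdae6b5ac6adaa6a5a869da6695a468da2685a067d9e6759c66d9a6659865d966559464d926459063d8e6358c62d8a6258861d866158460d82605805fd7e5f57c5ed7a5e5785dd765d5745cd725c5705bd6e5b56c5ad6a5a56859d665956458d625856057d5e5755c56d5a5655855d565555454d525455053d4e5354c52d4a5254851d465154450d42505404fd3e4f53c4ed3a4e5384dd364d5344cd324c5304bd2e4b52c4ad2a4a52849d264952448d224852047d1e4751c46d1a4651845d164551444d124451043d0e4350c42d0a4250841d064150440d02405003fcfe3f4fc3ecfa3e4f83dcf63d4f43ccf23c4f03bcee3b4ec3acea3a4e839ce6394e438ce2384e037cde374dc36cda364d835cd6354d434cd2344d033cce334cc32cca324c831cc6314c430cc2304c02fcbe2f4bc2ecba2e4b82dcb62d4b42ccb22c4b02bcae2b4ac2acaa2a4a829ca6294a428ca2284a027c9e2749c26c9a2649825c962549424c922449023c8e2348c22c8a2248821c862148420c82204801fc7e1f47c1ec7a1e4781dc761d4741cc721c4701bc6e1b46c1ac6a1a46819c661946418c621846017c5e1745c16c5a1645815c561545414c521445013c4e1344c12c4a1244811c461144410c42104400fc3e0f43c0ec3a0e4380dc360d4340cc320c4300bc2e0b42c0ac2a0a42809c260942408c220842007c1e0741c06c1a0641805c160541404c120441003c0e0340c02c0a0240801c060140400c0200400))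 (.node (nat_lit 2) (.leaf (nat_lit 0x199960da18c15278c77a67a3c2526125a5c4db79cf19e4fe4b15d061971922c668dc98e8f570891889c744327a1b60b4785052e751d250112ac93341d8f3224d2a5b17744670c8b71e2b4d83a10c4c539bb88961aba36008551fa4169cbf44e9a4fe31aaa6f80a87440d18fc9452d1fa99067193477a106c0160ec4e7f4806f07d004569b5ff394e79097a82105a6d70ad1082306c084f26364c6228034a5b7d0f6484918d4930e474ac0cc0009b455b3801a63a21a6aab32f0a8a5c6d5a0f393a2f7212253414838450284da11f5a18b5024951d52059ea89122729c59014886a23a3a6994697755df8391f070a828c15633c131bc968dc5ba867daa56c8858b3ea8c2b65e0fe250906a4e0cd14d6a86d2f83103660ba95a885f4fb1a49206a120d2750c0330d9d68554585d48741826723894d9e2e01d1948e784c56d5eb8a958400d77927807d5e2402019dee899c078db7549014b60903e7c13e7f7daab2600d1c5644714a6fdef60482170075ee9645e6b309fe35972844ed43e677657609cf787d91180a2430a60aa7290cb09828e2b0b2632a41c9851cc9a041194ee3b6b5f91454f915bd21c032145f8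12683023d3b1a28d1ca680b97ca83a89235a57e8b8ce1510b109044c96d0946823e4b598f949cb42ac7f16086a48bd992166a4eb4a53a46d3e72d7882e930f61d6d1e22cdc17b47728011a8d89495534c4d34f1c48a61e545be6b2054a83e2dc1742aac9f9db2bdaf0b0702651815cef920840a1747626930e3e690060c4384453d84e39755433f4e251cde95173569024c0a30707c51008310e065a559d0c97b155a28fc124dd11c9f93d6007a767955f97e8b64dcd7dda18ccc10329d58e71a805d1e59f6029573a6a7f026891df12a4a6e5b27820a5ad0e5bab1918f5641da970a502d3914a4065201351141418a924f86385a1ae982a8bb8f17c3a83c7c60f0494c492065fcd04d5c94de515261c4760d6b9dc1d8d9121ba204449b12b38e9499916a7250696322f8236e22055290a0623588613540e1eca442595436af25c291b8ca91d92a9df39748a71662104f45422d6ad283fead47987088ae2342b19a6e3617981ce610165a95260b8830bc5e3ba1868d759969160e8580d9d37e2831a70a7a8d56661274b606d6f386571e8a10669f9cdea9ed9ba243501037519fb73dcc7ea1456e5975e192c5d36194212de69dccb)) (.leaf (nat_lit 0x14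77ba101ee622c6aa3b02c3350d4c8f8a7aa721e4c529e254c3665148584b04fa58082b3a4a1140872444af7e91d1a4864ee7a9029b050e003697348b298e3e85c3d4c4848766c11a29448fc5ea84abc193401d9f256162785a14947a209288231079a26a319cbba38254d5714193d13e723247da88003d92432a738309f53cb8460758244e50cc09fa319a80c3aa324dc3c99c63430de6ce96a94592deb1ab8fd9993f1146c9fcc14a12d862538906b2a4d173aa948d82a82910b5074d903848df70a698c08c509138aa5c8561b0d14e8851f17405a75b63ad7320c2739e8a2ea5b454be285950c8c85008f2d6378d2134d0db03daf09133424355321c6264331d21170cc235b13cc9630ccf06e828964f68498996592b84a4be2bac8e407cd596a873c2a63e85e49a7b936712213c9ba2255a6f4381338a9a8662d1051983a41494530de7d6211a3b82b361390ed018f1862286442a688b8e6025161da28a2eab0844d516089c14d270d305693a02161b4932b254898fe112149215754411a7e1f9d1224c25f47294a910b0c08131a495f12989e552ac6e068ceac2452f675834f7098774426091e98a400e4106529d2c8f4b494474779875942f6ec086e5e45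8d8f2a87062d6c7f04956c6668d7764ddd50429745da65c6f69c527c1c56add33c8335b8da71ddc67e641e04066d75658a2766005f89225df169636a64177f48e5b5b07000b265a25754b9d8a46b823731995d8a026d5a7d0b68cc902fde82958a061b45918d795aa7d95f225855c9cb7580aa3d05675be6fdbd159ec645ea6482ea19a05a55e6a5f8089c975d7b77c3990a0680a4e1846067954811d5059ca01c0171a1e12d6a76d587d468189838ec71351d06915c150957a6811fe39631b86e804ab04276198749c46b57f1ea0127917555812f1f38b07382e8d38cd97992a6f0e515e57a0cfb869c335da63fc479ae3f2cd845e62316a773164b200033c4ef73d6b0c58078dd43d1f22145b599205d2615c1085643f040d6371e15e18e2a1b7070487ed2b79ce8a20287bc518165d4516f7b47c8bc06ab56710d62400ad948941aa5e7fc9d6b0e95120a130509199a155f9540f5a84027203a78138a54dda312e22e3a0f9fe81e6d43ca62457d2e4e1a70126c9f74eaa83e5b50e244549279e45f671a832e0f51a500a9c13b4c28d4a380d6046deb2687ea15908e1cd07ab4)))) (.node (nat_lit 4) (.leaf (nat_lit 0x211f4397eccba35db6262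94167355e7289ddf31e8f449b49910417d451212daad7b19c69195794acd9ac92e90d1981df264ddc12a2b7754b840f27d2805a9181e83706ce9220b349a187140213094790e260a47aaab17362f5ad378f0d4576585044543458a280d2920499cfb2a9a5a9cb69edd333e1b9f5a8a84ad284ef04c310787c5a115a19928ca946da334fa5551d5a8fcd64e80a1b4753f83d5504f84d8525cd7aba1a7212098801ad1e62652596d867a8df4e5ee57201a48109d5d62e27f1789258e0f53944582522ca34a5d8c46e83599f1834f8030a927914a16234069664420238309448f681af4f23e1b07405946566572de0554e1d4c8cea80ac6aa7a74971155ce049e114807ab645849c747cbf13495000e04c1e55e1c349e5c376af8ea8c4e2595095b8c16c390118a05932916a0438070473cdf58394c94cb462a02330fc3e40e69aa82a13334622234410bca567e9d3b66c401318dccd396355c07705c7055824a7c031449a472117011e60cbe93929855bf6b8c4684812e4890b4153a1f3665172981d3a842094867100424e4c986485d12a7056d65db33b94010db99a90e16a383168809c821c50c6f6683f6a6399e936e637897e2f522305ca01976140900cc1aa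718e3fe093ddf6659b86b5cf5be772bda4a8c8c0ec5666c6f7f4293c10b1751154136905b16ea6e424851cc2a52a26765655b99e76a71891076ee6f0ac83101f91fd9c2802c21225761889b5086f1b07b59d3024b5f6492624a188631907e22c3a9d9d18aaa52b9a35915e7f1c94917c4b1e8368bc91180199eb1a1f8820f60644b0d5dea6d8d7fdd76b20b53e986d684172904d6402725a2d62e99a3b28d614427c0d9ef3d00987d0235620654e1aa4c39784e8645325805ac0231b87b8c572a4e4f4f55580da759c3c534ba181a258a5450d5f85a5d372b35fc5437a5f7b0f503c349418f801739d1d56acfa7c20c62d03a662146a8216e422769a3c60a524785a4721e40b2c09f2293f741b28b69161d1d85d23981e7184c278d8126e70730b115c910fe1e9f8d3a793441984934bb919cb0212836175060ec8d8447dd989ad0f6de7881aa43ac2e6682621ca27f8800f8286fa69428c6a25fa544d239c760886b562565213b8f68e38e39548ab6a6a27522c9e5943421c11a8b05295641e01243207e873211329cc9995c2ab12f851771a9215e9c6)) (.node (nat_lit 5) (.leaf (nat_lit 0x6f0fc6c46a10704ad71237a7ce99dc8005c93a8d347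61ea518b12dd9d7c02c14c56985d331a8040cef97a486bdfd1e8a134eb4422356fa7d23c82251f188e91306a4769d66cd471ec2b0b8d669d1c951823160a9d23400ca21b67836d556451baa9377d9c5438301e1bd3451e41e935f85a25c44928b56b5693b5ee379cb65c52040453ba62941006621387d4492c0f16043658f184a66925ab6aa323b1e328c36ab9ba80201ab549739660a8879fde9695d2948c46884209caca14dc83d92360e2204407b0a95a136859d96303124815881095fdbf30932431725b9458b1e54eddfaa12ba60ca094f422de03ce84744c94b22b49da9292411d9c9900ae82eab44d12560dd2157100195412673401e2f03807c699cd5b7ed898e9c6635c2820136c0397e29b4be8d8a1425e9db4e05b4187da31218a5773d9de964cb75c998642154e30544e40116c12c190d52e31e5668d24a42873e57b02e9a135163658a3815e9e4a88f67213d200eaa277578332957d5e88aa8b1055d08a6b911856d01a87065070496e23f6d55f5906e90c0e120662e8b4a58fc268e317c4a050f8971229947f64c681185c95607532af7f14f29eb254a0223a6f270b2919a11845e048fb6d99971cd77be5d3a9650249b1753e2e64d5016185c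f0679021540d15163980e83fd9f6b8635396d021cd540a6ace045d901a0c751442693dd098ea7a29269c5ca2c0020f47161e0d451845d55aa21437908a08c838453aa991552a97225832ec2033a682f5bb8c6054618b0eca0015fa3867b39e9e8f931a84c3058882452a885f466cb35bdcc61a57138281de25690d29325b3e89d9b55606ea99fa1b3950aac04ca722d262242e29d869390f11f7002f8e0f55f6587540a5713d1c9298f11063e098622f301b9190900d29243e222f9e29b148351359692d1e4f79f236772757518e89c078eca5721c37de0e2fe3923573785411ad338b9b79a96b914181883365032436763ad4b3f990141b26824e7c99ca3d3f5f00c9456239a8e91d7959e53182153f59a1f94d7e6b15520680c062789f990477f930a81a679e8121a944a1f34665f36a862ac2948e266c6a545cc82a9eb1cd604467a2566e474d56061d42c1d0b47c600678ce42620af5667037c700043e6b011830b6a25e6a65ed5a89623084414594f0f25d282494cd6a0571d0248506a73d57879ff6f2ac0de6933d70)) (.leaf (nat_lit 0x273845073d9827e47d140205c6584f537931ce114051f20979932118eca12663821b2e25c6f1b35e5538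f961035ac15d42a7a29885f785cd024c120ce5e455b837dd9888b417a90aad468b92e896015f1b043aa48b48148a8555c0223c4b91d5a390772ba0d691f01c2422cc2872cc89ace9839952304824a80744a600d3a92e523354c45d6f6d0091bc386127935c3a2181b89cf47f54558e354a82a868a0719af4bcb68502e0989f36866695782e52ca2816168655d42337238982346468d2f5c562851aa129171aa3feb0624aba69e31d879022956611d23525a640b1ac5b8d9a931a50a2d8b7102f5fd96a50a82959ea629c2b1937a55b0118d946881640a1b8cb405a7151ab60d10ac8102f25a19cb5a85115894370a786c97a21c3c1a9ed70dfe7ce72848251f84f408ca720735d17073e7f47d315824a840ea785d479c4798c3686220aa94e8a918989589193438dec8328748dcc66d991e07f1302788dca3f671855f168c175b1d8375a195d7b6c413254a461da26e6a5434c70685f8be26618f97be3f548fe0c82b8725d5cd1a3be6d210cf9eca14ae3b3c22c07a8e8ce65426613de2b03de4820e6471d7a0e4e4e155575d223a6a3edc928c291356d9052d182ac6213382dea7353592090128012be45a18182006143e7085a003ea5fa3c62520649558576a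ad450351c4943394b7da6e331005b9b58f0d8428530c00c0e55493e8c6ed1b8a219270e229e827559439e0a1249111126a4e4d540d96fc680b530421ae9d51ea5d9c788a9a58061ec754ee7ea6eaf311a81a45d1b180a9cb70b2677b8bb41990acd03325817eaa24f94f1ca31162036390ca76a969a3220e1e091be7d1518de6471e1f27a765c9649a0f3074520ed0b4fe04288152e94d5de54500e59255e55920a047a01c8b3b60783c414594194dad77c980dc423b88a9f0eb5715f4860674259a7c115a9db15a13355f56f57d7f0f225c1c220bf41277274f1511a0a80d615440649dcad19f9ea39215e059422a24c263d3c1d2052b5d3674aa91197226a65f9fb630be414c5ac5de34e3d1b52710e434e5e8758e89f5e5268f536e745d9690fc1f26dc18e8c3084997e1669bdc0809196ea5b7761d3840e0c4969a528350f87fe2459e3051c820643dab8b2304b16dd130f834050d25265618d1237a405adb67c8d1528fc9b168302a3138b0002914919a7ad36a4959)))))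
noncomputable def bdE : Tr (List ℕ) := (.node (nat_lit 3) (.node (nat_lit 1) (.leaf []) (.node (nat_lit 2) (.leaf [nat_lit 1, nat_lit 9, nat_lit 6, nat_lit 0, nat_lit 9, nat_lit 6, nat_lit 1, nat_lit 8, nat_lit 6, nat_lit 4, nat_lit 8, nat_lit 1, nat_lit 3, nat_lit 7, nat_lit 4, nat_lit 7, nat_lit 5, nat_lit 4, nat_lit 5, nat_lit 2, nat_lit 0]) (.leaf [nat_lit 3, nat_lit 9, nat_lit 1, nat_lit 8, nat_lit 5, nat_lit 8, nat_lit 0, nat_lit 8, nat_lit 1, nat_lit 7, nat_lit 6, nat_lit 4, nat_lit 7, nat_lit 6, nat_lit 6, nat_lit 1]))) (.node (nat_lit 4) (.leaf [nat_lit 0, nat_lit 9, nat_lit 4, nat_lit 7, nat_lit 9, nat_lit 2, nat_lit 4, nat_lit 7, nat_lit 8, nat_lit 3, nat_lit 8, nat_lit 3, nat_lit 0, nat_lit 7, nat_lit 3, nat_lit 6, nat_lit 3, nat_lit 2, nat_lit 0]) (.node (nat_lit 5) (.leaf [nat_lit 9, nat_lit 1, nat_lit 7, nat_lit 0, nat_lit 9, nat_lit 8, nat_lit 0, nat_lit 4, nat_lit 8,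 nat_lit 1, nat_lit 8, nat_lit 0, nat_lit 7, nat_lit 6, nat_lit 6, nat_lit 1]) (.leaf [nat_lit 9, nat_lit 7, nat_lit 6, nat_lit 2, nat_lit 9, nat_lit 7, nat_lit 4, nat_lit 1, nat_lit 8, nat_lit 1, nat_lit 8, nat_lit 7, nat_lit 1, nat_lit 3, nat_lit 7, nat_lit 1, nat_lit 6, nat_lit 1]))))
theorem bdw_0 : bDd.all2 (fun c w => isProd 693 (nat_lit 10) (nat_lit 1023) U62.T c w) bdE = true := by decide +kernel
theorem bdw : bDd.all2 (fun c w => isProd 693 (nat_lit 10) (nat_lit 1023) U62.T c w) bdE = true := bdw_0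
noncomputable def bPA_0 : Tr (ℕ × List ℕ) := (.node (nat_lit 88) (.node (nat_lit 44) (.node (nat_lit 22) (.node (nat_lit 11) (.node (nat_lit 5) (.node (nat_lit 2) (.node (nat_lit 1) (.leaf ((nat_lit 0), [])) (.leaf ((nat_lit 1), []))) (.node (nat_lit 3) (.leaf ((nat_lit 2), [])) (.node (nat_lit 4) (.leaf ((nat_lit 2), [nat_lit 5, nat_lit 2, nat_lit 1, nat_lit 4, nat_lit 0])) (.leaf ((nat_lit 3), [])))))
 (.node (nat_lit 8) (.node (nat_lit 6) (.leaf ((nat_lit 1), [nat_lit 4, nat_lit 1, nat_lit 5, nat_lit 0, nat_lit 2])) (.node (nat_lit 7) (.leaf ((nat_lit 1), [nat_lit 0, nat_lit 5, nat_lit 0, nat_lit 2])) (.leaf ((nat_lit 2), [nat_lit 4, nat_lit 1, nat_lit 3, nat_lit 0])))) (.node (nat_lit 9) (.leaf ((nat_lit 2), [nat_lit 1, nat_lit 0, nat_lit 5, nat_lit 0, nat_lit 4, nat_lit 0])) (.node (nat_lit 10) (.leaf ((nat_lit 1), [nat_lit 3, nat_lit 0, nat_lit 4, nat_lit 5, nat_lit 0])) (.leaf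 ((nat_lit 2), [nat_lit 3, nat_lit 5, nat_lit 4, nat_lit 3, nat_lit 1, nat_lit 3, nat_lit 0]))))))
 (.node (nat_lit 16) (.node (nat_lit 13) (.node (nat_lit 12) (.leaf ((nat_lit 1), [nat_lit 5, nat_lit 3, nat_lit 5, nat_lit 1])) (.leaf ((nat_lit 1), [nat_lit 3, nat_lit 5, nat_lit 0, nat_lit 2]))) (.node (nat_lit 14) (.leaf ((nat_lit 2), [nat_lit 2, nat_lit 5, nat_lit 4, nat_lit 3])) (.node (nat_lit 15) (.leaf ((nat_lit 2), [nat_lit 5])) (.leaf ((nat_lit 1), [nat_lit 5, nat_lit 4, nat_lit 5, nat_lit 2, nat_lit 0])))))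
 (.node (nat_lit 19) (.node (nat_lit 17) (.leaf ((nat_lit 2), [nat_lit 5, nat_lit 0, nat_lit 3, nat_lit 5, nat_lit 0])) (.node (nat_lit 18) (.leaf ((nat_lit 2), [nat_lit 1, nat_lit 5, nat_lit 3])) (.leaf ((nat_lit 2), [nat_lit 1, nat_lit 4, nat_lit 5, nat_lit 2, nat_lit 5, nat_lit 0])))) (.node (nat_lit 20) (.leaf ((nat_lit 2), [nat_lit 4, nat_lit 2, nat_lit 5, nat_lit 2, nat_lit 5, nat_lit 0])) (.node (nat_lit 21) (.leaf ((nat_lit 1), [nat_lit 0, nat_lit 3, nat_lit 5, nat_lit 4])) (.leaf ((nat_lit 2), [nat_lit 2, nat_lit 5, nat_lit 0, nat_lit 4, nat_lit 5, nat_lit 0])))))))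
 (.node (nat_lit 33) (.node (nat_lit 27) (.node (nat_lit 24) (.node (nat_lit 23) (.leaf ((nat_lit 2), [nat_lit 0, nat_lit 2])) (.leaf ((nat_lit 2), [nat_lit 2, nat_lit 5, nat_lit 1, nat_lit 4, nat_lit 0, nat_lit 5]))) (.node (nat_lit 25) (.leaf ((nat_lit 4), [])) (.node (nat_lit 26) (.leaf ((nat_lit 1), [nat_lit 2, nat_lit 1, nat_lit 5, nat_lit 1, nat_lit 0])) (.leaf ((nat_lit 2), [nat_lit 2, nat_lit 1, nat_lit 3, nat_lit 1, nat_lit 5, nat_lit 0])))))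
 (.node (nat_lit 30) (.node (nat_lit 28) (.leaf ((nat_lit 2), [nat_lit 5, nat_lit 4, nat_lit 2, nat_lit 0, nat_lit 3, nat_lit 0])) (.node (nat_lit 29) (.leaf ((nat_lit 1), [nat_lit 0, nat_lit 5, nat_lit 4, nat_lit 2])) (.leaf ((nat_lit 1), [nat_lit 3, nat_lit 1, nat_lit 5, nat_lit 4, nat_lit 2, nat_lit 0])))) (.node (nat_lit 31) (.leaf ((nat_lit 2), [nat_lit 4, nat_lit 0])) (.node (nat_lit 32) (.leaf ((nat_lit 3), [nat_lit 0, nat_lit 4, nat_lit 5])) (.leaf ((nat_lit 1), [nat_lit 2, nat_lit 0, nat_lit 2, nat_lit 5]))))))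
 (.node (nat_lit 38) (.node (nat_lit 35) (.node (nat_lit 34) (.leaf ((nat_lit 2), [nat_lit 1, nat_lit 5, nat_lit 0, nat_lit 4, nat_lit 0])) (.leaf ((nat_lit 2), [nat_lit 3, nat_lit 1, nat_lit 3]))) (.node (nat_lit 36) (.leaf ((nat_lit 1), [nat_lit 4, nat_lit 5, nat_lit 4, nat_lit 3])) (.node (nat_lit 37) (.leaf ((nat_lit 2), [nat_lit 1, nat_lit 0, nat_lit 4, nat_lit 5, nat_lit 0])) (.leaf ((nat_lit 2), [nat_lit 4, nat_lit 0, nat_lit 5, nat_lit 0])))))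
 (.node (nat_lit 41) (.node (nat_lit 39) (.leaf ((nat_lit 2), [nat_lit 1, nat_lit 3])) (.node (nat_lit 40) (.leaf ((nat_lit 5), [])) (.leaf ((nat_lit 4), [nat_lit 0, nat_lit 5, nat_lit 3, nat_lit 5, nat_lit 0])))) (.node (nat_lit 42) (.leaf ((nat_lit 1), [nat_lit 3, nat_lit 1, nat_lit 5, nat_lit 1, nat_lit 0])) (.node (nat_lit 43) (.leaf ((nat_lit 1), [nat_lit 0, nat_lit 2, nat_lit 0, nat_lit 5, nat_lit 3])) (.leaf ((nat_lit 2), [nat_lit 2, nat_lit 0, nat_lit 2, nat_lit 5, nat_lit 3]))))))))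
 (.node (nat_lit 66) (.node (nat_lit 55) (.node (nat_lit 49) (.node (nat_lit 46) (.node (nat_lit 45) (.leaf ((nat_lit 1), [nat_lit 1, nat_lit 2, nat_lit 5, nat_lit 0, nat_lit 2])) (.leaf ((nat_lit 2), [nat_lit 2, nat_lit 0, nat_lit 4]))) (.node (nat_lit 47) (.leaf ((nat_lit 2), [nat_lit 4, nat_lit 5, nat_lit 0, nat_lit 4, nat_lit 5])) (.node (nat_lit 48) (.leaf ((nat_lit 2), [nat_lit 2, nat_lit 0, nat_lit 4, nat_lit 5, nat_lit 2, nat_lit 0])) (.leaf ((nat_lit 1), [nat_lit 0, nat_lit 5, nat_lit 0, nat_lit 5, nat_lit 0])))))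
 (.node (nat_lit 52) (.node (nat_lit 50) (.leaf ((nat_lit 4), [nat_lit 0, nat_lit 3, nat_lit 5, nat_lit 3, nat_lit 0])) (.node (nat_lit 51) (.leaf ((nat_lit 1), [nat_lit 2, nat_lit 0, nat_lit 5, nat_lit 3])) (.leaf ((nat_lit 1), [nat_lit 4])))) (.node (nat_lit 53) (.leaf ((nat_lit 2), [nat_lit 2, nat_lit 0, nat_lit 5, nat_lit 4, nat_lit 0])) (.node (nat_lit 54) (.leaf ((nat_lit 2), [nat_lit 0, nat_lit 2, nat_lit 5, nat_lit 3])) (.leaf ((nat_lit 1), [nat_lit 4, nat_lit 3, nat_lit 5, nat_lit 0]))))))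
 (.node (nat_lit 60) (.node (nat_lit 57) (.node (nat_lit 56) (.leaf ((nat_lit 1), [nat_lit 4, nat_lit 1, nat_lit 4, nat_lit 5, nat_lit 1])) (.leaf ((nat_lit 2), [nat_lit 2, nat_lit 5, nat_lit 1, nat_lit 3]))) (.node (nat_lit 58) (.leaf ((nat_lit 4), [nat_lit 2, nat_lit 5, nat_lit 0])) (.node (nat_lit 59) (.leaf ((nat_lit 3), [nat_lit 4, nat_lit 3, nat_lit 5, nat_lit 4])) (.leaf ((nat_lit 2), [nat_lit 3, nat_lit 5, nat_lit 3, nat_lit 0])))))
 (.node (nat_lit 63) (.node (nat_lit 61) (.leaf ((nat_lit 5), [nat_lit 4, nat_lit 1, nat_lit 5])) (.node (nat_lit 62) (.leaf ((nat_lit 1), [nat_lit 2, nat_lit 5, nat_lit 0, nat_lit 3, nat_lit 1])) (.leaf ((nat_lit 4), [nat_lit 5, nat_lit 4, nat_lit 2])))) (.node (nat_lit 64) (.leaf ((nat_lit 5), [nat_lit 2, nat_lit 0, nat_lit 2])) (.node (nat_lit 65) (.leaf ((nat_lit 2), [nat_lit 4, nat_lit 0, nat_lit 2, nat_lit 0])) (.leaf ((nat_lit 2), [nat_lit 2,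 nat_lit 5, nat_lit 4, nat_lit 1, nat_lit 5])))))))
 (.node (nat_lit 77) (.node (nat_lit 71) (.node (nat_lit 68) (.node (nat_lit 67) (.leaf ((nat_lit 2), [nat_lit 1, nat_lit 5, nat_lit 4, nat_lit 2, nat_lit 0])) (.leaf ((nat_lit 2), [nat_lit 2, nat_lit 5, nat_lit 1, nat_lit 3, nat_lit 0]))) (.node (nat_lit 69) (.leaf ((nat_lit 2), [nat_lit 4, nat_lit 3, nat_lit 1, nat_lit 2, nat_lit 0])) (.node (nat_lit 70) (.leaf ((nat_lit 2), [nat_lit 0, nat_lit 5, nat_lit 3, nat_lit 1, nat_lit 2])) (.leaf ((nat_lit 4), [nat_lit 0, nat_lit 4, nat_lit 5, nat_lit 0])))))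
 (.node (nat_lit 74) (.node (nat_lit 72) (.leaf ((nat_lit 2), [nat_lit 1, nat_lit 3, nat_lit 1, nat_lit 5, nat_lit 0])) (.node (nat_lit 73) (.leaf ((nat_lit 2), [nat_lit 2, nat_lit 1, nat_lit 2, nat_lit 5, nat_lit 4, nat_lit 3])) (.leaf ((nat_lit 1), [nat_lit 3, nat_lit 0, nat_lit 4])))) (.node (nat_lit 75) (.leaf ((nat_lit 2), [nat_lit 3, nat_lit 1, nat_lit 5, nat_lit 3])) (.node (nat_lit 76) (.leaf ((nat_lit 2), [nat_lit 4, nat_lit 3, nat_lit 0, nat_lit 2, nat_lit 0])) (.leaf ((nat_lit 2), [nat_lit 5, nat_lit 0, nat_lit 4, nat_lit 5, nat_lit 2, nat_lit 0]))))))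
 (.node (nat_lit 82) (.node (nat_lit 79) (.node (nat_lit 78) (.leaf ((nat_lit 2), [nat_lit 3, nat_lit 1, nat_lit 4, nat_lit 0, nat_lit 5])) (.leaf ((nat_lit 5), [nat_lit 1, nat_lit 5]))) (.node (nat_lit 80) (.leaf ((nat_lit 3), [nat_lit 5, nat_lit 3])) (.node (nat_lit 81) (.leaf ((nat_lit 1), [nat_lit 1])) (.leaf ((nat_lit 3), [nat_lit 2, nat_lit 5, nat_lit 0])))))
 (.node (nat_lit 85) (.node (nat_lit 83) (.leaf ((nat_lit 1), [nat_lit 4, nat_lit 2, nat_lit 0, nat_lit 5, nat_lit 0])) (.node (nat_lit 84) (.leaf ((nat_lit 1), [nat_lit 4, nat_lit 0, nat_lit 4, nat_lit 0])) (.leaf ((nat_lit 2), [nat_lit 3, nat_lit 5, nat_lit 0, nat_lit 4])))) (.node (nat_lit 86) (.leaf ((nat_lit 2), [nat_lit 5, nat_lit 2, nat_lit 1, nat_lit 0, nat_lit 2])) (.node (nat_lit 87) (.leaf ((nat_lit 2), [nat_lit 0, nat_lit 5, nat_lit 1, nat_lit 2, nat_lit 0])) (.leaf ((nat_lit 2), [nat_lit 0, nat_lit 5, nat_lit 3,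 nat_lit 0, nat_lit 2])))))))))
 (.node (nat_lit 132) (.node (nat_lit 110) (.node (nat_lit 99) (.node (nat_lit 93) (.node (nat_lit 90) (.node (nat_lit 89) (.leaf ((nat_lit 1), [nat_lit 3, nat_lit 5, nat_lit 3, nat_lit 1, nat_lit 0])) (.leaf ((nat_lit 2), [nat_lit 3, nat_lit 5, nat_lit 1, nat_lit 3, nat_lit 0]))) (.node (nat_lit 91) (.leaf ((nat_lit 1), [nat_lit 4, nat_lit 5, nat_lit 0, nat_lit 5, nat_lit 3, nat_lit 0])) (.node (nat_lit 92) (.leaf ((nat_lit 1), [nat_lit 1, nat_lit 3, nat_lit 5])) (.leaf ((nat_lit 2), [nat_lit 3, nat_lit 5, nat_lit 3, nat_lit 1, nat_lit 5])))))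
 (.node (nat_lit 96) (.node (nat_lit 94) (.leaf ((nat_lit 1), [nat_lit 5, nat_lit 2, nat_lit 0, nat_lit 5])) (.node (nat_lit 95) (.leaf ((nat_lit 2), [nat_lit 1, nat_lit 4, nat_lit 5, nat_lit 0, nat_lit 5, nat_lit 0])) (.leaf ((nat_lit 2), [nat_lit 5, nat_lit 1, nat_lit 2, nat_lit 0])))) (.node (nat_lit 97) (.leaf ((nat_lit 1), [nat_lit 5, nat_lit 1, nat_lit 0, nat_lit 5, nat_lit 4])) (.node (nat_lit 98) (.leaf ((nat_lit 2), [nat_lit 5, nat_lit 4, nat_lit 1, nat_lit 3, nat_lit 5, nat_lit 0])) (.leaf ((nat_lit 2), [nat_lit 3, nat_lit 0, nat_lit 2]))))))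
 (.node (nat_lit 104) (.node (nat_lit 101) (.node (nat_lit 100) (.leaf ((nat_lit 1), [nat_lit 4, nat_lit 5, nat_lit 3, nat_lit 0])) (.leaf ((nat_lit 2), [nat_lit 4, nat_lit 0, nat_lit 5, nat_lit 3, nat_lit 1, nat_lit 2]))) (.node (nat_lit 102) (.leaf ((nat_lit 2), [nat_lit 2, nat_lit 1, nat_lit 0, nat_lit 5, nat_lit 3, nat_lit 0])) (.node (nat_lit 103) (.leaf ((nat_lit 2), [nat_lit 4, nat_lit 0, nat_lit 4])) (.leaf ((nat_lit 1), [nat_lit 5, nat_lit 2, nat_lit 5, nat_lit 0])))))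
 (.node (nat_lit 107) (.node (nat_lit 105) (.leaf ((nat_lit 2), [nat_lit 5, nat_lit 4, nat_lit 0, nat_lit 2])) (.node (nat_lit 106) (.leaf ((nat_lit 2), [nat_lit 4, nat_lit 1, nat_lit 5, nat_lit 4, nat_lit 0])) (.leaf ((nat_lit 2), [nat_lit 3, nat_lit 1, nat_lit 4, nat_lit 5, nat_lit 4])))) (.node (nat_lit 108) (.leaf ((nat_lit 4), [nat_lit 4, nat_lit 3])) (.node (nat_lit 109) (.leaf ((nat_lit 2), [nat_lit 5, nat_lit 4, nat_lit 1, nat_lit 4, nat_lit 0])) (.leaf ((nat_lit 1), [nat_lit 2, nat_lit 1, nat_lit 5, nat_lit 3, nat_lit 0])))))))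
 (.node (nat_lit 121) (.node (nat_lit 115) (.node (nat_lit 112) (.node (nat_lit 111) (.leaf ((nat_lit 2), [nat_lit 2, nat_lit 1, nat_lit 5, nat_lit 0, nat_lit 4, nat_lit 0])) (.leaf ((nat_lit 2), [nat_lit 1, nat_lit 4, nat_lit 1, nat_lit 5, nat_lit 3]))) (.node (nat_lit 113) (.leaf ((nat_lit 3), [nat_lit 1, nat_lit 4, nat_lit 5, nat_lit 0])) (.node (nat_lit 114) (.leaf ((nat_lit 2), [nat_lit 4, nat_lit 5, nat_lit 0, nat_lit 2])) (.leaf ((nat_lit 2), [nat_lit 5, nat_lit 0, nat_lit 5, nat_lit 1, nat_lit 3, nat_lit 0])))))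
 (.node (nat_lit 118) (.node (nat_lit 116) (.leaf ((nat_lit 1), [nat_lit 5, nat_lit 3, nat_lit 5, nat_lit 1, nat_lit 0])) (.node (nat_lit 117) (.leaf ((nat_lit 1), [nat_lit 1, nat_lit 5, nat_lit 0])) (.leaf ((nat_lit 1), [nat_lit 1, nat_lit 5, nat_lit 4, nat_lit 3, nat_lit 5])))) (.node (nat_lit 119) (.leaf ((nat_lit 1), [nat_lit 5, nat_lit 0, nat_lit 5, nat_lit 2, nat_lit 0])) (.node (nat_lit 120) (.leaf ((nat_lit 2), [nat_lit 1, nat_lit 4, nat_lit 0, nat_lit 5, nat_lit 3])) (.leaf ((nat_lit 1), [nat_lit 1, nat_lit 5, nat_lit 2, nat_lit 1]))))))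
 (.node (nat_lit 126) (.node (nat_lit 123) (.node (nat_lit 122) (.leaf ((nat_lit 2), [nat_lit 3, nat_lit 5, nat_lit 1, nat_lit 0, nat_lit 5, nat_lit 2])) (.leaf ((nat_lit 2), [nat_lit 3, nat_lit 1, nat_lit 5, nat_lit 4]))) (.node (nat_lit 124) (.leaf ((nat_lit 4), [nat_lit 1, nat_lit 4, nat_lit 2])) (.node (nat_lit 125) (.leaf ((nat_lit 2), [nat_lit 1, nat_lit 5, nat_lit 1, nat_lit 0, nat_lit 2])) (.leaf ((nat_lit 2), [nat_lit 0, nat_lit 5, nat_lit 0, nat_lit 5])))))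
 (.node (nat_lit 129) (.node (nat_lit 127) (.leaf ((nat_lit 2), [nat_lit 5, nat_lit 0, nat_lit 4, nat_lit 2])) (.node (nat_lit 128) (.leaf ((nat_lit 2), [nat_lit 5, nat_lit 0, nat_lit 3, nat_lit 5])) (.leaf ((nat_lit 2), [nat_lit 5, nat_lit 4, nat_lit 3, nat_lit 5, nat_lit 1, nat_lit 2, nat_lit 0])))) (.node (nat_lit 130) (.leaf ((nat_lit 2), [nat_lit 4, nat_lit 5, nat_lit 0, nat_lit 5, nat_lit 2])) (.node (nat_lit 131) (.leaf ((nat_lit 1), [nat_lit 0, nat_lit 5, nat_lit 4, nat_lit 0, nat_lit 4])) (.leaf ((nat_lit 1), [nat_lit 5, nat_lit 1]))))))))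
 (.node (nat_lit 154) (.node (nat_lit 143) (.node (nat_lit 137) (.node (nat_lit 134) (.node (nat_lit 133) (.leaf ((nat_lit 2), [nat_lit 4, nat_lit 5, nat_lit 4, nat_lit 1, nat_lit 5])) (.leaf ((nat_lit 2), [nat_lit 2, nat_lit 0, nat_lit 3]))) (.node (nat_lit 135) (.leaf ((nat_lit 2), [nat_lit 5, nat_lit 3, nat_lit 1, nat_lit 3, nat_lit 0])) (.node (nat_lit 136) (.leaf ((nat_lit 2), [nat_lit 2, nat_lit 1, nat_lit 5, nat_lit 4, nat_lit 3])) (.leaf ((nat_lit 2), [nat_lit 2, nat_lit 5, nat_lit 1, nat_lit 4, nat_lit 2, nat_lit 0])))))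
 (.node (nat_lit 140) (.node (nat_lit 138) (.leaf ((nat_lit 2), [nat_lit 2, nat_lit 5, nat_lit 1, nat_lit 3, nat_lit 5, nat_lit 2, nat_lit 0])) (.node (nat_lit 139) (.leaf ((nat_lit 2), [nat_lit 4, nat_lit 3, nat_lit 5, nat_lit 0, nat_lit 4, nat_lit 0])) (.leaf ((nat_lit 2), [nat_lit 5, nat_lit 1, nat_lit 4, nat_lit 3, nat_lit 0])))) (.node (nat_lit 141) (.leaf ((nat_lit 2), [nat_lit 2, nat_lit 5, nat_lit 3, nat_lit 0, nat_lit 2])) (.node (nat_lit 142) (.leaf ((nat_lit 2), [nat_lit 1, nat_lit 5, nat_lit 1, nat_lit 3, nat_lit 1, nat_lit 2])) (.leaf ((nat_lit 2), [nat_lit 4, nat_lit 3, nat_lit 0, nat_lit 4, nat_lit 0]))))))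
 (.node (nat_lit 148) (.node (nat_lit 145) (.node (nat_lit 144) (.leaf ((nat_lit 2), [nat_lit 2, nat_lit 1, nat_lit 5, nat_lit 0])) (.leaf ((nat_lit 1), [nat_lit 2, nat_lit 0, nat_lit 2, nat_lit 5, nat_lit 0]))) (.node (nat_lit 146) (.leaf ((nat_lit 1), [nat_lit 3, nat_lit 5, nat_lit 4, nat_lit 2, nat_lit 0])) (.node (nat_lit 147) (.leaf ((nat_lit 2), [nat_lit 4, nat_lit 5, nat_lit 0, nat_lit 5, nat_lit 0])) (.leaf ((nat_lit 4), [nat_lit 2, nat_lit 5, nat_lit 1, nat_lit 2])))))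
 (.node (nat_lit 151) (.node (nat_lit 149) (.leaf ((nat_lit 2), [nat_lit 5, nat_lit 3, nat_lit 5, nat_lit 3, nat_lit 1, nat_lit 2, nat_lit 0])) (.node (nat_lit 150) (.leaf ((nat_lit 2), [nat_lit 1, nat_lit 3, nat_lit 0, nat_lit 3, nat_lit 0])) (.leaf ((nat_lit 1), [nat_lit 1, nat_lit 0, nat_lit 4, nat_lit 5])))) (.node (nat_lit 152) (.leaf ((nat_lit 1), [nat_lit 2, nat_lit 5, nat_lit 2, nat_lit 5])) (.node (nat_lit 153) (.leaf ((nat_lit 2), [nat_lit 1, nat_lit 0, nat_lit 3, nat_lit 1, nat_lit 5, nat_lit 3])) (.leaf ((nat_lit 2), [nat_lit 5, nat_lit 1, nat_lit 4, nat_lit 2, nat_lit 0])))))))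
 (.node (nat_lit 165) (.node (nat_lit 159) (.node (nat_lit 156) (.node (nat_lit 155) (.leaf ((nat_lit 1), [nat_lit 1, nat_lit 4, nat_lit 2, nat_lit 5, nat_lit 1])) (.leaf ((nat_lit 2), [nat_lit 4, nat_lit 3, nat_lit 5, nat_lit 1, nat_lit 3]))) (.node (nat_lit 157) (.leaf ((nat_lit 2), [nat_lit 1, nat_lit 5, nat_lit 1, nat_lit 2, nat_lit 0, nat_lit 2])) (.node (nat_lit 158) (.leaf ((nat_lit 2), [nat_lit 1, nat_lit 4, nat_lit 0, nat_lit 5])) (.leaf ((nat_lit 2), [nat_lit 5, nat_lit 3, nat_lit 5, nat_lit 1, nat_lit 3])))))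
 (.node (nat_lit 162) (.node (nat_lit 160) (.leaf ((nat_lit 4), [nat_lit 3, nat_lit 5, nat_lit 2])) (.node (nat_lit 161) (.leaf ((nat_lit 1), [nat_lit 3, nat_lit 0, nat_lit 5, nat_lit 4, nat_lit 1])) (.leaf ((nat_lit 2), [nat_lit 1, nat_lit 4, nat_lit 2, nat_lit 0])))) (.node (nat_lit 163) (.leaf ((nat_lit 1), [nat_lit 5, nat_lit 4, nat_lit 3])) (.node (nat_lit 164) (.leaf ((nat_lit 1), [nat_lit 4, nat_lit 1, nat_lit 5, nat_lit 4, nat_lit 1])) (.leaf ((nat_lit 2), [nat_lit 1, nat_lit 5, nat_lit 0, nat_lit 5, nat_lit 3]))))))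
 (.node (nat_lit 170) (.node (nat_lit 167) (.node (nat_lit 166) (.leaf ((nat_lit 4), [nat_lit 3, nat_lit 5, nat_lit 0])) (.leaf ((nat_lit 2), [nat_lit 4, nat_lit 1, nat_lit 5]))) (.node (nat_lit 168) (.leaf ((nat_lit 1), [nat_lit 5, nat_lit 0, nat_lit 5, nat_lit 0])) (.node (nat_lit 169) (.leaf ((nat_lit 2), [nat_lit 3, nat_lit 0, nat_lit 4, nat_lit 1, nat_lit 3])) (.leaf ((nat_lit 1), [nat_lit 5, nat_lit 1, nat_lit 4, nat_lit 5, nat_lit 1])))))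
 (.node (nat_lit 173) (.node (nat_lit 171) (.leaf ((nat_lit 2), [nat_lit 1, nat_lit 5, nat_lit 4, nat_lit 0, nat_lit 5])) (.node (nat_lit 172) (.leaf ((nat_lit 2), [nat_lit 0, nat_lit 5, nat_lit 3])) (.leaf ((nat_lit 2), [nat_lit 3, nat_lit 5, nat_lit 0, nat_lit 5, nat_lit 0])))) (.node (nat_lit 174) (.leaf ((nat_lit 4), [nat_lit 0, nat_lit 5, nat_lit 4, nat_lit 0])) (.node (nat_lit 175) (.leaf ((nat_lit 2), [nat_lit 1, nat_lit 3, nat_lit 5, nat_lit 1, nat_lit 3])) (.leaf ((nat_lit 2), [nat_lit 0, nat_lit 5, nat_lit 3, nat_lit 1, nat_lit 2, nat_lit 0]))))))))))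
noncomputable def bPA_1 : Tr (ℕ × List ℕ) := (.node (nat_lit 264) (.node (nat_lit 220) (.node (nat_lit 198) (.node (nat_lit 187) (.node (nat_lit 181) (.node (nat_lit 178) (.node (nat_lit 177) (.leaf ((nat_lit 2), [nat_lit 0, nat_lit 3, nat_lit 5, nat_lit 4, nat_lit 5, nat_lit 0])) (.leaf ((nat_lit 2), [nat_lit 2, nat_lit 1, nat_lit 3, nat_lit 5, nat_lit 3, nat_lit 0]))) (.node (nat_lit 179) (.leaf ((nat_lit 2), [nat_lit 2, nat_lit 5, nat_lit 2, nat_lit 0])) (.node (nat_lit 180) (.leaf ((nat_lit 2), [nat_lit 4, nat_lit 2, nat_lit 1, nat_lit 3])) (.leaf ((nat_lit 3), [nat_lit 0, nat_lit 4, nat_lit 5, nat_lit 0])))))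
 (.node (nat_lit 184) (.node (nat_lit 182) (.leaf ((nat_lit 1), [nat_lit 1, nat_lit 2, nat_lit 1, nat_lit 5])) (.node (nat_lit 183) (.leaf ((nat_lit 2), [nat_lit 5, nat_lit 1, nat_lit 3, nat_lit 1, nat_lit 5])) (.leaf ((nat_lit 2), [nat_lit 5, nat_lit 4, nat_lit 5, nat_lit 0, nat_lit 4])))) (.node (nat_lit 185) (.leaf ((nat_lit 1), [nat_lit 5, nat_lit 4, nat_lit 5])) (.node (nat_lit 186) (.leaf ((nat_lit 2), [nat_lit 4, nat_lit 5, nat_lit 2, nat_lit 5, nat_lit 0])) (.leaf ((nat_lit 2), [nat_lit 5, nat_lit 4, nat_lit 2, nat_lit 0]))))))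
 (.node (nat_lit 192) (.node (nat_lit 189) (.node (nat_lit 188) (.leaf ((nat_lit 2), [nat_lit 1, nat_lit 3, nat_lit 1, nat_lit 5, nat_lit 3])) (.leaf ((nat_lit 2), [nat_lit 5, nat_lit 2, nat_lit 5, nat_lit 1, nat_lit 2]))) (.node (nat_lit 190) (.leaf ((nat_lit 2), [nat_lit 5, nat_lit 2, nat_lit 1, nat_lit 5, nat_lit 3])) (.node (nat_lit 191) (.leaf ((nat_lit 2), [nat_lit 3, nat_lit 1, nat_lit 2, nat_lit 1, nat_lit 2])) (.leaf ((nat_lit 2), [nat_lit 1, nat_lit 5, nat_lit 2, nat_lit 0, nat_lit 2])))))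
 (.node (nat_lit 195) (.node (nat_lit 193) (.leaf ((nat_lit 1), [nat_lit 4, nat_lit 1, nat_lit 5])) (.node (nat_lit 194) (.leaf ((nat_lit 2), [nat_lit 1, nat_lit 5, nat_lit 4, nat_lit 1, nat_lit 5])) (.leaf ((nat_lit 1), [nat_lit 1, nat_lit 5, nat_lit 0, nat_lit 4, nat_lit 0])))) (.node (nat_lit 196) (.leaf ((nat_lit 2), [nat_lit 1, nat_lit 0, nat_lit 5])) (.node (nat_lit 197) (.leaf ((nat_lit 4), [nat_lit 0, nat_lit 2])) (.leaf ((nat_lit 2), [nat_lit 4, nat_lit 2, nat_lit 5, nat_lit 3, nat_lit 0])))))))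
 (.node (nat_lit 209) (.node (nat_lit 203) (.node (nat_lit 200) (.node (nat_lit 199) (.leaf ((nat_lit 2), [nat_lit 4, nat_lit 3, nat_lit 1, nat_lit 2])) (.leaf ((nat_lit 1), [nat_lit 4, nat_lit 1, nat_lit 5, nat_lit 0, nat_lit 5, nat_lit 0]))) (.node (nat_lit 201) (.leaf ((nat_lit 2), [nat_lit 2, nat_lit 1, nat_lit 0, nat_lit 4, nat_lit 2])) (.node (nat_lit 202) (.leaf ((nat_lit 2), [nat_lit 0, nat_lit 5])) (.leaf ((nat_lit 4), [nat_lit 3, nat_lit 5, nat_lit 0, nat_lit 2])))))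
 (.node (nat_lit 206) (.node (nat_lit 204) (.leaf ((nat_lit 4), [nat_lit 3, nat_lit 0, nat_lit 5, nat_lit 2])) (.node (nat_lit 205) (.leaf ((nat_lit 1), [nat_lit 1, nat_lit 4, nat_lit 5, nat_lit 1])) (.leaf ((nat_lit 2), [nat_lit 0, nat_lit 4, nat_lit 1, nat_lit 5, nat_lit 3])))) (.node (nat_lit 207) (.leaf ((nat_lit 1), [nat_lit 2, nat_lit 5, nat_lit 3, nat_lit 1, nat_lit 0])) (.node (nat_lit 208) (.leaf ((nat_lit 2), [nat_lit 4, nat_lit 2, nat_lit 5, nat_lit 4, nat_lit 0])) (.leaf ((nat_lit 2), [nat_lit 5, nat_lit 2, nat_lit 1, nat_lit 3, nat_lit 5, nat_lit 0]))))))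
 (.node (nat_lit 214) (.node (nat_lit 211) (.node (nat_lit 210) (.leaf ((nat_lit 2), [nat_lit 2, nat_lit 1, nat_lit 4, nat_lit 5, nat_lit 3, nat_lit 0])) (.leaf ((nat_lit 4), [nat_lit 4, nat_lit 3, nat_lit 5, nat_lit 3]))) (.node (nat_lit 212) (.leaf ((nat_lit 2), [nat_lit 1, nat_lit 4, nat_lit 5, nat_lit 3, nat_lit 5])) (.node (nat_lit 213) (.leaf ((nat_lit 3), [nat_lit 4])) (.leaf ((nat_lit 2), [nat_lit 4, nat_lit 1, nat_lit 5, nat_lit 3])))))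
 (.node (nat_lit 217) (.node (nat_lit 215) (.leaf ((nat_lit 1), [nat_lit 0, nat_lit 5, nat_lit 2, nat_lit 0])) (.node (nat_lit 216) (.leaf ((nat_lit 5), [nat_lit 1, nat_lit 2])) (.leaf ((nat_lit 2), [nat_lit 0, nat_lit 4, nat_lit 1, nat_lit 3])))) (.node (nat_lit 218) (.leaf ((nat_lit 2), [nat_lit 5, nat_lit 4, nat_lit 0, nat_lit 2, nat_lit 0])) (.node (nat_lit 219) (.leaf ((nat_lit 2), [nat_lit 3, nat_lit 0])) (.leaf ((nat_lit 2), [nat_lit 1, nat_lit 2, nat_lit 5, nat_lit 4, nat_lit 0]))))))))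
 (.node (nat_lit 242) (.node (nat_lit 231) (.node (nat_lit 225) (.node (nat_lit 222) (.node (nat_lit 221) (.leaf ((nat_lit 2), [nat_lit 5, nat_lit 4, nat_lit 3, nat_lit 0, nat_lit 4])) (.leaf ((nat_lit 2), [nat_lit 2, nat_lit 5]))) (.node (nat_lit 223) (.leaf ((nat_lit 2), [nat_lit 2, nat_lit 5, nat_lit 4, nat_lit 3, nat_lit 0])) (.node (nat_lit 224) (.leaf ((nat_lit 2), [nat_lit 4, nat_lit 5, nat_lit 2, nat_lit 1, nat_lit 5])) (.leaf ((nat_lit 2), [nat_lit 4, nat_lit 3, nat_lit 0])))))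
 (.node (nat_lit 228) (.node (nat_lit 226) (.leaf ((nat_lit 2), [nat_lit 4, nat_lit 5, nat_lit 3, nat_lit 0])) (.node (nat_lit 227) (.leaf ((nat_lit 1), [nat_lit 5, nat_lit 4, nat_lit 3, nat_lit 5, nat_lit 1])) (.leaf ((nat_lit 3), [nat_lit 0, nat_lit 2, nat_lit 5])))) (.node (nat_lit 229) (.leaf ((nat_lit 2), [nat_lit 0, nat_lit 5, nat_lit 2, nat_lit 1, nat_lit 4, nat_lit 0])) (.node (nat_lit 230) (.leaf ((nat_lit 1), [nat_lit 3, nat_lit 1, nat_lit 5, nat_lit 0])) (.leaf ((nat_lit 1), [nat_lit 2, nat_lit 5, nat_lit 2, nat_lit 5, nat_lit 1]))))))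
 (.node (nat_lit 236) (.node (nat_lit 233) (.node (nat_lit 232) (.leaf ((nat_lit 2), [nat_lit 4, nat_lit 2, nat_lit 1, nat_lit 5, nat_lit 0])) (.leaf ((nat_lit 1), [nat_lit 3, nat_lit 0, nat_lit 5, nat_lit 0]))) (.node (nat_lit 234) (.leaf ((nat_lit 2), [nat_lit 1, nat_lit 4, nat_lit 2])) (.node (nat_lit 235) (.leaf ((nat_lit 2), [nat_lit 5, nat_lit 4, nat_lit 5, nat_lit 0])) (.leaf ((nat_lit 5), [nat_lit 5, nat_lit 1, nat_lit 2])))))
 (.node (nat_lit 239) (.node (nat_lit 237) (.leaf ((nat_lit 2), [nat_lit 5, nat_lit 4, nat_lit 5, nat_lit 0, nat_lit 5, nat_lit 3])) (.node (nat_lit 238) (.leaf ((nat_lit 2), [nat_lit 5, nat_lit 4, nat_lit 3, nat_lit 1, nat_lit 3, nat_lit 0])) (.leaf ((nat_lit 1), [nat_lit 5, nat_lit 4, nat_lit 2, nat_lit 0])))) (.node (nat_lit 240) (.leaf ((nat_lit 2), [nat_lit 5, nat_lit 2, nat_lit 5, nat_lit 4])) (.node (nat_lit 241) (.leaf ((nat_lit 4), [nat_lit 3, nat_lit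 5, nat_lit 4, nat_lit 2])) (.leaf ((nat_lit 2), [nat_lit 5, nat_lit 1, nat_lit 4, nat_lit 2])))))))
 (.node (nat_lit 253) (.node (nat_lit 247) (.node (nat_lit 244) (.node (nat_lit 243) (.leaf ((nat_lit 2), [nat_lit 3, nat_lit 1, nat_lit 2, nat_lit 5, nat_lit 3])) (.leaf ((nat_lit 2), [nat_lit 2, nat_lit 1, nat_lit 5, nat_lit 4]))) (.node (nat_lit 245) (.leaf ((nat_lit 2), [nat_lit 1, nat_lit 5, nat_lit 0, nat_lit 3, nat_lit 0])) (.node (nat_lit 246) (.leaf ((nat_lit 1), [nat_lit 5, nat_lit 0, nat_lit 4, nat_lit 2, nat_lit 0])) (.leaf ((nat_lit 2), [nat_lit 3, nat_lit 5, nat_lit 2, nat_lit 5, nat_lit 4, nat_lit 0])))))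
 (.node (nat_lit 250) (.node (nat_lit 248) (.leaf ((nat_lit 2), [nat_lit 0, nat_lit 5, nat_lit 4])) (.node (nat_lit 249) (.leaf ((nat_lit 2), [nat_lit 4, nat_lit 5, nat_lit 4, nat_lit 1, nat_lit 3])) (.leaf ((nat_lit 1), [nat_lit 0, nat_lit 4, nat_lit 5, nat_lit 0])))) (.node (nat_lit 251) (.leaf ((nat_lit 2), [nat_lit 4, nat_lit 2, nat_lit 0, nat_lit 3, nat_lit 0])) (.node (nat_lit 252) (.leaf ((nat_lit 2), [nat_lit 1, nat_lit 4, nat_lit 3, nat_lit 0])) (.leaf ((nat_lit 1), [nat_lit 2, nat_lit 0, nat_lit 2, nat_lit 1, nat_lit 5]))))))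
 (.node (nat_lit 258) (.node (nat_lit 255) (.node (nat_lit 254) (.leaf ((nat_lit 2), [nat_lit 3, nat_lit 5, nat_lit 2, nat_lit 5, nat_lit 1, nat_lit 3])) (.leaf ((nat_lit 3), [nat_lit 0, nat_lit 5, nat_lit 2]))) (.node (nat_lit 256) (.leaf ((nat_lit 2), [nat_lit 1, nat_lit 4, nat_lit 0, nat_lit 5, nat_lit 2])) (.node (nat_lit 257) (.leaf ((nat_lit 1), [nat_lit 4, nat_lit 0, nat_lit 5])) (.leaf ((nat_lit 2), [nat_lit 2, nat_lit 5, nat_lit 4])))))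
 (.node (nat_lit 261) (.node (nat_lit 259) (.leaf ((nat_lit 1), [nat_lit 4, nat_lit 2, nat_lit 5, nat_lit 1])) (.node (nat_lit 260) (.leaf ((nat_lit 1), [nat_lit 3, nat_lit 0, nat_lit 5, nat_lit 3, nat_lit 1, nat_lit 0])) (.leaf ((nat_lit 2), [nat_lit 3, nat_lit 0, nat_lit 5, nat_lit 4])))) (.node (nat_lit 262) (.leaf ((nat_lit 1), [nat_lit 2, nat_lit 0, nat_lit 4, nat_lit 5])) (.node (nat_lit 263) (.leaf ((nat_lit 2), [nat_lit 0, nat_lit 5, nat_lit 1, nat_lit 3])) (.leaf ((nat_lit 2), [nat_lit 1, nat_lit 3, nat_lit 1, nat_lit 2])))))))))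
 (.node (nat_lit 308) (.node (nat_lit 286) (.node (nat_lit 275) (.node (nat_lit 269) (.node (nat_lit 266) (.node (nat_lit 265) (.leaf ((nat_lit 2), [nat_lit 4, nat_lit 1, nat_lit 4, nat_lit 3, nat_lit 0])) (.leaf ((nat_lit 1), [nat_lit 5, nat_lit 0, nat_lit 3, nat_lit 1]))) (.node (nat_lit 267) (.leaf ((nat_lit 1), [nat_lit 3, nat_lit 1, nat_lit 4, nat_lit 5, nat_lit 1])) (.node (nat_lit 268) (.leaf ((nat_lit 4), [nat_lit 1, nat_lit 5, nat_lit 4, nat_lit 2])) (.leaf ((nat_lit 2), [nat_lit 5, nat_lit 0])))))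
 (.node (nat_lit 272) (.node (nat_lit 270) (.leaf ((nat_lit 2), [nat_lit 1, nat_lit 0, nat_lit 5, nat_lit 4, nat_lit 0])) (.node (nat_lit 271) (.leaf ((nat_lit 1), [nat_lit 5, nat_lit 2, nat_lit 5, nat_lit 1])) (.leaf ((nat_lit 2), [nat_lit 0, nat_lit 5, nat_lit 0, nat_lit 4])))) (.node (nat_lit 273) (.leaf ((nat_lit 4), [nat_lit 3, nat_lit 5, nat_lit 3, nat_lit 5, nat_lit 0])) (.node (nat_lit 274) (.leaf ((nat_lit 2), [nat_lit 4, nat_lit 0, nat_lit 2, nat_lit 5, nat_lit 3])) (.leaf ((nat_lit 1), [nat_lit 1, nat_lit 5, nat_lit 4]))))))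
 (.node (nat_lit 280) (.node (nat_lit 277) (.node (nat_lit 276) (.leaf ((nat_lit 1), [nat_lit 3, nat_lit 5, nat_lit 2, nat_lit 1, nat_lit 0])) (.leaf ((nat_lit 1), [nat_lit 1, nat_lit 0, nat_lit 5, nat_lit 1]))) (.node (nat_lit 278) (.leaf ((nat_lit 1), [nat_lit 0, nat_lit 2, nat_lit 0])) (.node (nat_lit 279) (.leaf ((nat_lit 1), [nat_lit 0, nat_lit 2, nat_lit 0, nat_lit 5])) (.leaf ((nat_lit 5), [nat_lit 3, nat_lit 5, nat_lit 0, nat_lit 2])))))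
 (.node (nat_lit 283) (.node (nat_lit 281) (.leaf ((nat_lit 2), [nat_lit 0, nat_lit 2, nat_lit 1, nat_lit 5, nat_lit 0])) (.node (nat_lit 282) (.leaf ((nat_lit 1), [nat_lit 3, nat_lit 0, nat_lit 5])) (.leaf ((nat_lit 2), [nat_lit 4, nat_lit 5, nat_lit 4, nat_lit 0])))) (.node (nat_lit 284) (.leaf ((nat_lit 2), [nat_lit 2, nat_lit 1, nat_lit 4, nat_lit 5, nat_lit 0])) (.node (nat_lit 285) (.leaf ((nat_lit 1), [nat_lit 3, nat_lit 1, nat_lit 3, nat_lit 5, nat_lit 3])) (.leaf ((nat_lit 2), [nat_lit 1, nat_lit 4, nat_lit 5, nat_lit 0])))))))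
 (.node (nat_lit 297) (.node (nat_lit 291) (.node (nat_lit 288) (.node (nat_lit 287) (.leaf ((nat_lit 2), [nat_lit 5, nat_lit 4, nat_lit 0, nat_lit 4, nat_lit 0])) (.leaf ((nat_lit 2), [nat_lit 3, nat_lit 5, nat_lit 1, nat_lit 4, nat_lit 2]))) (.node (nat_lit 289) (.leaf ((nat_lit 1), [nat_lit 2, nat_lit 5, nat_lit 0, nat_lit 2])) (.node (nat_lit 290) (.leaf ((nat_lit 5), [nat_lit 0, nat_lit 5, nat_lit 2])) (.leaf ((nat_lit 2), [nat_lit 5, nat_lit 4, nat_lit 1, nat_lit 3])))))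
 (.node (nat_lit 294) (.node (nat_lit 292) (.leaf ((nat_lit 2), [nat_lit 5, nat_lit 4, nat_lit 1, nat_lit 3, nat_lit 0])) (.node (nat_lit 293) (.leaf ((nat_lit 1), [nat_lit 3, nat_lit 1, nat_lit 3])) (.leaf ((nat_lit 2), [nat_lit 3, nat_lit 5, nat_lit 3, nat_lit 0, nat_lit 2, nat_lit 0])))) (.node (nat_lit 295) (.leaf ((nat_lit 2), [nat_lit 3, nat_lit 1, nat_lit 0, nat_lit 3, nat_lit 0])) (.node (nat_lit 296) (.leaf ((nat_lit 1), [nat_lit 5, nat_lit 2, nat_lit 0, nat_lit 5, nat_lit 1])) (.leaf ((nat_lit 1), [nat_lit 1, nat_lit 4, nat_lit 5]))))))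
 (.node (nat_lit 302) (.node (nat_lit 299) (.node (nat_lit 298) (.leaf ((nat_lit 1), [nat_lit 0, nat_lit 2, nat_lit 5, nat_lit 0])) (.leaf ((nat_lit 4), [nat_lit 4, nat_lit 5, nat_lit 4, nat_lit 0]))) (.node (nat_lit 300) (.leaf ((nat_lit 5), [nat_lit 3])) (.node (nat_lit 301) (.leaf ((nat_lit 2), [nat_lit 0, nat_lit 4, nat_lit 2, nat_lit 0])) (.leaf ((nat_lit 2), [nat_lit 2, nat_lit 0, nat_lit 5, nat_lit 1, nat_lit 4, nat_lit 0])))))
 (.node (nat_lit 305) (.node (nat_lit 303) (.leaf ((nat_lit 2), [nat_lit 2, nat_lit 1, nat_lit 0, nat_lit 5, nat_lit 3])) (.node (nat_lit 304) (.leaf ((nat_lit 1), [nat_lit 5, nat_lit 4, nat_lit 0, nat_lit 5, nat_lit 4, nat_lit 1])) (.leaf ((nat_lit 1), [nat_lit 4, nat_lit 1, nat_lit 5, nat_lit 0])))) (.node (nat_lit 306) (.leaf ((nat_lit 2), [nat_lit 0, nat_lit 4, nat_lit 5, nat_lit 0])) (.node (nat_lit 307) (.leaf ((nat_lit 1), [nat_lit 4, nat_lit 2, nat_lit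 5, nat_lit 3])) (.leaf ((nat_lit 4), [nat_lit 0, nat_lit 5, nat_lit 4, nat_lit 2]))))))))
 (.node (nat_lit 330) (.node (nat_lit 319) (.node (nat_lit 313) (.node (nat_lit 310) (.node (nat_lit 309) (.leaf ((nat_lit 2), [nat_lit 2, nat_lit 5, nat_lit 4, nat_lit 5, nat_lit 0])) (.leaf ((nat_lit 1), [nat_lit 3, nat_lit 5, nat_lit 2, nat_lit 5]))) (.node (nat_lit 311) (.leaf ((nat_lit 2), [nat_lit 2, nat_lit 5, nat_lit 1, nat_lit 3, nat_lit 1, nat_lit 2])) (.node (nat_lit 312) (.leaf ((nat_lit 2), [nat_lit 1, nat_lit 4, nat_lit 5, nat_lit 4, nat_lit 0])) (.leaf ((nat_lit 1), [nat_lit 1, nat_lit 3, nat_lit 5, nat_lit 3])))))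
 (.node (nat_lit 316) (.node (nat_lit 314) (.leaf ((nat_lit 1), [nat_lit 2, nat_lit 1, nat_lit 3])) (.node (nat_lit 315) (.leaf ((nat_lit 2), [nat_lit 1, nat_lit 2, nat_lit 1, nat_lit 4, nat_lit 5, nat_lit 3, nat_lit 0])) (.leaf ((nat_lit 1), [nat_lit 1, nat_lit 3, nat_lit 5, nat_lit 4])))) (.node (nat_lit 317) (.leaf ((nat_lit 1), [nat_lit 5, nat_lit 4, nat_lit 1])) (.node (nat_lit 318) (.leaf ((nat_lit 1), [nat_lit 1, nat_lit 4, nat_lit 2, nat_lit 5])) (.leaf ((nat_lit 2), [nat_lit 1, nat_lit 5, nat_lit 4, nat_lit 1, nat_lit 2]))))))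
 (.node (nat_lit 324) (.node (nat_lit 321) (.node (nat_lit 320) (.leaf ((nat_lit 2), [nat_lit 4, nat_lit 3, nat_lit 0, nat_lit 5, nat_lit 3])) (.leaf ((nat_lit 2), [nat_lit 4, nat_lit 2, nat_lit 5]))) (.node (nat_lit 322) (.leaf ((nat_lit 1), [nat_lit 5, nat_lit 4, nat_lit 2])) (.node (nat_lit 323) (.leaf ((nat_lit 2), [nat_lit 1, nat_lit 4, nat_lit 5, nat_lit 4, nat_lit 1, nat_lit 3, nat_lit 0])) (.leaf ((nat_lit 3), [nat_lit 2, nat_lit 5, nat_lit 3])))))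
 (.node (nat_lit 327) (.node (nat_lit 325) (.leaf ((nat_lit 1), [nat_lit 5, nat_lit 3, nat_lit 5, nat_lit 0])) (.node (nat_lit 326) (.leaf ((nat_lit 2), [nat_lit 0, nat_lit 5, nat_lit 4, nat_lit 0, nat_lit 3])) (.leaf ((nat_lit 1), [nat_lit 2, nat_lit 1, nat_lit 5, nat_lit 2, nat_lit 1])))) (.node (nat_lit 328) (.leaf ((nat_lit 2), [nat_lit 1, nat_lit 0, nat_lit 4, nat_lit 0])) (.node (nat_lit 329) (.leaf ((nat_lit 2), [nat_lit 5, nat_lit 3, nat_lit 1, nat_lit 2, nat_lit 5])) (.leaf ((nat_lit 1), [nat_lit 0, nat_lit 2, nat_lit 5])))))))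
 (.node (nat_lit 341) (.node (nat_lit 335) (.node (nat_lit 332) (.node (nat_lit 331) (.leaf ((nat_lit 2), [nat_lit 1, nat_lit 2, nat_lit 5, nat_lit 4, nat_lit 3])) (.leaf ((nat_lit 2), [nat_lit 2, nat_lit 0, nat_lit 5, nat_lit 1, nat_lit 4, nat_lit 2]))) (.node (nat_lit 333) (.leaf ((nat_lit 2), [nat_lit 0, nat_lit 5, nat_lit 4, nat_lit 0])) (.node (nat_lit 334) (.leaf ((nat_lit 2), [nat_lit 5, nat_lit 0, nat_lit 5, nat_lit 0])) (.leaf ((nat_lit 1), [nat_lit 4, nat_lit 3, nat_lit 0, nat_lit 5, nat_lit 0])))))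
 (.node (nat_lit 338) (.node (nat_lit 336) (.leaf ((nat_lit 1), [nat_lit 5, nat_lit 2, nat_lit 5, nat_lit 4, nat_lit 1])) (.node (nat_lit 337) (.leaf ((nat_lit 1), [nat_lit 1, nat_lit 5, nat_lit 3, nat_lit 0])) (.leaf ((nat_lit 2), [nat_lit 3, nat_lit 1, nat_lit 0, nat_lit 5, nat_lit 3, nat_lit 0])))) (.node (nat_lit 339) (.leaf ((nat_lit 3), [nat_lit 0, nat_lit 5, nat_lit 2, nat_lit 5])) (.node (nat_lit 340) (.leaf ((nat_lit 2), [nat_lit 5, nat_lit 0, nat_lit 2, nat_lit 1, nat_lit 3])) (.leaf ((nat_lit 2), [nat_lit 3]))))))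
 (.node (nat_lit 346) (.node (nat_lit 343) (.node (nat_lit 342) (.leaf ((nat_lit 2), [nat_lit 4, nat_lit 5, nat_lit 0, nat_lit 3, nat_lit 0])) (.leaf ((nat_lit 2), [nat_lit 2, nat_lit 0, nat_lit 3, nat_lit 1, nat_lit 5, nat_lit 0]))) (.node (nat_lit 344) (.leaf ((nat_lit 2), [nat_lit 5, nat_lit 3, nat_lit 1, nat_lit 5, nat_lit 4, nat_lit 2])) (.node (nat_lit 345) (.leaf ((nat_lit 2), [nat_lit 3, nat_lit 5, nat_lit 4, nat_lit 1, nat_lit 3])) (.leaf ((nat_lit 2), [nat_lit 1, nat_lit 2, nat_lit 5, nat_lit 4])))))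
 (.node (nat_lit 349) (.node (nat_lit 347) (.leaf ((nat_lit 1), [nat_lit 2, nat_lit 5, nat_lit 1, nat_lit 3])) (.node (nat_lit 348) (.leaf ((nat_lit 2), [nat_lit 1, nat_lit 5, nat_lit 1, nat_lit 2])) (.leaf ((nat_lit 2), [nat_lit 3, nat_lit 5, nat_lit 3, nat_lit 1, nat_lit 2, nat_lit 0])))) (.node (nat_lit 350) (.leaf ((nat_lit 2), [nat_lit 3, nat_lit 5, nat_lit 2, nat_lit 5, nat_lit 0])) (.node (nat_lit 351) (.leaf ((nat_lit 2), [nat_lit 0, nat_lit 5, nat_lit 4, nat_lit 1, nat_lit 4, nat_lit 0])) (.leaf ((nat_lit 3), [nat_lit 2, nat_lit 5, nat_lit 2, nat_lit 5]))))))))))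
noncomputable def bPA_2 : Tr (ℕ × List ℕ) := (.node (nat_lit 440) (.node (nat_lit 396) (.node (nat_lit 374) (.node (nat_lit 363) (.node (nat_lit 357) (.node (nat_lit 354) (.node (nat_lit 353) (.leaf ((nat_lit 2), [nat_lit 2, nat_lit 1, nat_lit 0, nat_lit 3])) (.leaf ((nat_lit 2), [nat_lit 1, nat_lit 3, nat_lit 1, nat_lit 0, nat_lit 5, nat_lit 3]))) (.node (nat_lit 355) (.leaf ((nat_lit 2), [nat_lit 2, nat_lit 5, nat_lit 4, nat_lit 5, nat_lit 1, nat_lit 3])) (.node (nat_lit 356) (.leaf ((nat_lit 3), [nat_lit 3, nat_lit 0, nat_lit 5, nat_lit 4])) (.leaf ((nat_lit 1), [nat_lit 0, nat_lit 5, nat_lit 1, nat_lit 3])))))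
 (.node (nat_lit 360) (.node (nat_lit 358) (.leaf ((nat_lit 1), [nat_lit 5, nat_lit 2, nat_lit 1, nat_lit 0])) (.node (nat_lit 359) (.leaf ((nat_lit 2), [nat_lit 5, nat_lit 1, nat_lit 0, nat_lit 2])) (.leaf ((nat_lit 2), [nat_lit 5, nat_lit 2, nat_lit 1, nat_lit 5, nat_lit 3, nat_lit 0])))) (.node (nat_lit 361) (.leaf ((nat_lit 4), [nat_lit 3, nat_lit 5, nat_lit 3])) (.node (nat_lit 362) (.leaf ((nat_lit 2), [nat_lit 3, nat_lit 0, nat_lit 4])) (.leaf ((nat_lit 2), [nat_lit 5, nat_lit 3, nat_lit 5, nat_lit 0, nat_lit 4, nat_lit 5]))))))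
 (.node (nat_lit 368) (.node (nat_lit 365) (.node (nat_lit 364) (.leaf ((nat_lit 2), [nat_lit 0, nat_lit 4, nat_lit 2])) (.leaf ((nat_lit 2), [nat_lit 3, nat_lit 5, nat_lit 4]))) (.node (nat_lit 366) (.leaf ((nat_lit 2), [nat_lit 4, nat_lit 2, nat_lit 0, nat_lit 2, nat_lit 5, nat_lit 3])) (.node (nat_lit 367) (.leaf ((nat_lit 2), [nat_lit 4, nat_lit 5, nat_lit 4, nat_lit 5, nat_lit 0])) (.leaf ((nat_lit 2), [nat_lit 4, nat_lit 3, nat_lit 1, nat_lit 5, nat_lit 4, nat_lit 3])))))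
 (.node (nat_lit 371) (.node (nat_lit 369) (.leaf ((nat_lit 2), [nat_lit 4])) (.node (nat_lit 370) (.leaf ((nat_lit 4), [nat_lit 5, nat_lit 3, nat_lit 0])) (.leaf ((nat_lit 5), [nat_lit 5, nat_lit 2])))) (.node (nat_lit 372) (.leaf ((nat_lit 1), [nat_lit 3])) (.node (nat_lit 373) (.leaf ((nat_lit 2), [nat_lit 2, nat_lit 0, nat_lit 5, nat_lit 0, nat_lit 4])) (.leaf ((nat_lit 2), [nat_lit 4, nat_lit 5, nat_lit 0, nat_lit 5, nat_lit 3])))))))
 (.node (nat_lit 385) (.node (nat_lit 379) (.node (nat_lit 376) (.node (nat_lit 375) (.leaf ((nat_lit 2), [nat_lit 1, nat_lit 5, nat_lit 2, nat_lit 1, nat_lit 5, nat_lit 0])) (.leaf ((nat_lit 2), [nat_lit 5, nat_lit 4, nat_lit 0, nat_lit 3, nat_lit 0]))) (.node (nat_lit 377) (.leaf ((nat_lit 5), [nat_lit 2, nat_lit 5])) (.node (nat_lit 378) (.leaf ((nat_lit 4), [nat_lit 3])) (.leaf ((nat_lit 2), [nat_lit 5, nat_lit 2, nat_lit 0, nat_lit 4, nat_lit 5,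 nat_lit 0])))))
 (.node (nat_lit 382) (.node (nat_lit 380) (.leaf ((nat_lit 1), [nat_lit 0])) (.node (nat_lit 381) (.leaf ((nat_lit 2), [nat_lit 5, nat_lit 0, nat_lit 5, nat_lit 0, nat_lit 4])) (.leaf ((nat_lit 2), [nat_lit 2, nat_lit 5, nat_lit 0])))) (.node (nat_lit 383) (.leaf ((nat_lit 4), [nat_lit 4, nat_lit 0])) (.node (nat_lit 384) (.leaf ((nat_lit 2), [nat_lit 4, nat_lit 2, nat_lit 5, nat_lit 0, nat_lit 5])) (.leaf ((nat_lit 2), [nat_lit 0, nat_lit 5, nat_lit 3, nat_lit 1, nat_lit 0, nat_lit 2]))))))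
 (.node (nat_lit 390) (.node (nat_lit 387) (.node (nat_lit 386) (.leaf ((nat_lit 2), [nat_lit 5, nat_lit 1, nat_lit 0, nat_lit 4, nat_lit 2])) (.leaf ((nat_lit 2), [nat_lit 3, nat_lit 5, nat_lit 4, nat_lit 0]))) (.node (nat_lit 388) (.leaf ((nat_lit 2), [nat_lit 4, nat_lit 0, nat_lit 5, nat_lit 4, nat_lit 3])) (.node (nat_lit 389) (.leaf ((nat_lit 2), [nat_lit 2, nat_lit 5, nat_lit 1, nat_lit 0, nat_lit 5])) (.leaf ((nat_lit 2), [nat_lit 5, nat_lit 4, nat_lit 5, nat_lit 2, nat_lit 5, nat_lit 0])))))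
 (.node (nat_lit 393) (.node (nat_lit 391) (.leaf ((nat_lit 2), [nat_lit 5, nat_lit 2, nat_lit 5, nat_lit 1, nat_lit 2, nat_lit 0])) (.node (nat_lit 392) (.leaf ((nat_lit 2), [nat_lit 4, nat_lit 2, nat_lit 1, nat_lit 5])) (.leaf ((nat_lit 2), [nat_lit 0, nat_lit 4, nat_lit 3, nat_lit 5, nat_lit 2, nat_lit 0])))) (.node (nat_lit 394) (.leaf ((nat_lit 4), [nat_lit 3, nat_lit 5, nat_lit 3, nat_lit 0])) (.node (nat_lit 395) (.leaf ((nat_lit 4), [nat_lit 2, nat_lit 5, nat_lit 0, nat_lit 5, nat_lit 0])) (.leaf ((nat_lit 2), [nat_lit 1, nat_lit 5, nat_lit 1, nat_lit 4, nat_lit 2]))))))))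
 (.node (nat_lit 418) (.node (nat_lit 407) (.node (nat_lit 401) (.node (nat_lit 398) (.node (nat_lit 397) (.leaf ((nat_lit 2), [nat_lit 2, nat_lit 1, nat_lit 5])) (.leaf ((nat_lit 3), [nat_lit 3, nat_lit 0, nat_lit 5, nat_lit 2]))) (.node (nat_lit 399) (.leaf ((nat_lit 2), [nat_lit 5, nat_lit 1, nat_lit 3])) (.node (nat_lit 400) (.leaf ((nat_lit 2), [nat_lit 2, nat_lit 1, nat_lit 3, nat_lit 5, nat_lit 2, nat_lit 0])) (.leaf ((nat_lit 2), [nat_lit 5, nat_lit 3, nat_lit 5, nat_lit 0])))))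
 (.node (nat_lit 404) (.node (nat_lit 402) (.leaf ((nat_lit 2), [nat_lit 2, nat_lit 1, nat_lit 2, nat_lit 0])) (.node (nat_lit 403) (.leaf ((nat_lit 1), [nat_lit 5, nat_lit 3, nat_lit 5, nat_lit 4])) (.leaf ((nat_lit 1), [nat_lit 1, nat_lit 5, nat_lit 0, nat_lit 4])))) (.node (nat_lit 405) (.leaf ((nat_lit 1), [nat_lit 4, nat_lit 5, nat_lit 0])) (.node (nat_lit 406) (.leaf ((nat_lit 2), [nat_lit 0, nat_lit 4, nat_lit 3])) (.leaf ((nat_lit 2), [nat_lit 5, nat_lit 3, nat_lit 1, nat_lit 5, nat_lit 4]))))))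
 (.node (nat_lit 412) (.node (nat_lit 409) (.node (nat_lit 408) (.leaf ((nat_lit 1), [nat_lit 3, nat_lit 5, nat_lit 0, nat_lit 3, nat_lit 1])) (.leaf ((nat_lit 1), [nat_lit 3, nat_lit 5, nat_lit 4, nat_lit 2, nat_lit 5]))) (.node (nat_lit 410) (.leaf ((nat_lit 2), [nat_lit 4, nat_lit 3, nat_lit 5, nat_lit 3])) (.node (nat_lit 411) (.leaf ((nat_lit 2), [nat_lit 0, nat_lit 3, nat_lit 1, nat_lit 5])) (.leaf ((nat_lit 2), [nat_lit 3, nat_lit 1, nat_lit 3, nat_lit 0])))))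
 (.node (nat_lit 415) (.node (nat_lit 413) (.leaf ((nat_lit 2), [nat_lit 5, nat_lit 3, nat_lit 1, nat_lit 4, nat_lit 0, nat_lit 2])) (.node (nat_lit 414) (.leaf ((nat_lit 1), [nat_lit 1, nat_lit 5, nat_lit 0, nat_lit 4, nat_lit 2, nat_lit 0])) (.leaf ((nat_lit 2), [nat_lit 4, nat_lit 2, nat_lit 5, nat_lit 1, nat_lit 4, nat_lit 0])))) (.node (nat_lit 416) (.leaf ((nat_lit 1), [nat_lit 3, nat_lit 0, nat_lit 2, nat_lit 5, nat_lit 0])) (.node (nat_lit 417) (.leaf ((nat_lit 2), [nat_lit 3, nat_lit 1, nat_lit 4, nat_lit 0])) (.leaf ((nat_lit 4), [nat_lit 1, nat_lit 2])))))))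
 (.node (nat_lit 429) (.node (nat_lit 423) (.node (nat_lit 420) (.node (nat_lit 419) (.leaf ((nat_lit 2), [nat_lit 1, nat_lit 5, nat_lit 2])) (.leaf ((nat_lit 1), [nat_lit 3, nat_lit 0, nat_lit 4, nat_lit 2]))) (.node (nat_lit 421) (.leaf ((nat_lit 2), [nat_lit 2])) (.node (nat_lit 422) (.leaf ((nat_lit 1), [nat_lit 3, nat_lit 5, nat_lit 4, nat_lit 3])) (.leaf ((nat_lit 1), [nat_lit 1, nat_lit 5, nat_lit 2, nat_lit 0])))))
 (.node (nat_lit 426) (.node (nat_lit 424) (.leaf ((nat_lit 2), [nat_lit 0, nat_lit 2, nat_lit 5, nat_lit 1, nat_lit 2, nat_lit 0])) (.node (nat_lit 425) (.leaf ((nat_lit 2), [nat_lit 3, nat_lit 5, nat_lit 2])) (.leaf ((nat_lit 3), [nat_lit 4, nat_lit 2, nat_lit 5, nat_lit 2])))) (.node (nat_lit 427) (.leaf ((nat_lit 2), [nat_lit 0, nat_lit 2, nat_lit 1, nat_lit 5])) (.node (nat_lit 428) (.leaf ((nat_lit 1), [nat_lit 2, nat_lit 5, nat_lit 0, nat_lit 2, nat_lit 0]))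 (.leaf ((nat_lit 2), [nat_lit 0, nat_lit 3, nat_lit 5]))))))
 (.node (nat_lit 434) (.node (nat_lit 431) (.node (nat_lit 430) (.leaf ((nat_lit 1), [nat_lit 1, nat_lit 4, nat_lit 5, nat_lit 4, nat_lit 5])) (.leaf ((nat_lit 4), [nat_lit 0, nat_lit 5, nat_lit 0]))) (.node (nat_lit 432) (.leaf ((nat_lit 1), [nat_lit 3, nat_lit 5, nat_lit 4, nat_lit 1])) (.node (nat_lit 433) (.leaf ((nat_lit 1), [nat_lit 0, nat_lit 5, nat_lit 4])) (.leaf ((nat_lit 2), [nat_lit 1, nat_lit 0, nat_lit 4, nat_lit 2])))))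
 (.node (nat_lit 437) (.node (nat_lit 435) (.leaf ((nat_lit 1), [nat_lit 1, nat_lit 4, nat_lit 0, nat_lit 5, nat_lit 1])) (.node (nat_lit 436) (.leaf ((nat_lit 1), [nat_lit 2, nat_lit 1, nat_lit 5, nat_lit 0])) (.leaf ((nat_lit 1), [nat_lit 4, nat_lit 5, nat_lit 2, nat_lit 5])))) (.node (nat_lit 438) (.leaf ((nat_lit 2), [nat_lit 0, nat_lit 5, nat_lit 0, nat_lit 4, nat_lit 0])) (.node (nat_lit 439) (.leaf ((nat_lit 2), [nat_lit 0, nat_lit 5, nat_lit 4, nat_lit 1, nat_lit 2])) (.leaf ((nat_lit 4), [nat_lit 3, nat_lit 5, nat_lit 1, nat_lit 2])))))))))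
 (.node (nat_lit 484) (.node (nat_lit 462) (.node (nat_lit 451) (.node (nat_lit 445) (.node (nat_lit 442) (.node (nat_lit 441) (.leaf ((nat_lit 2), [nat_lit 4, nat_lit 0, nat_lit 5, nat_lit 1, nat_lit 3])) (.leaf ((nat_lit 2), [nat_lit 4, nat_lit 0, nat_lit 5, nat_lit 2]))) (.node (nat_lit 443) (.leaf ((nat_lit 4), [nat_lit 4, nat_lit 2, nat_lit 5, nat_lit 0])) (.node (nat_lit 444) (.leaf ((nat_lit 2), [nat_lit 5, nat_lit 1, nat_lit 2, nat_lit 0, nat_lit 2])) (.leaf ((nat_lit 2), [nat_lit 1, nat_lit 0, nat_lit 3, nat_lit 5, nat_lit 0])))))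
 (.node (nat_lit 448) (.node (nat_lit 446) (.leaf ((nat_lit 4), [nat_lit 2, nat_lit 5, nat_lit 2, nat_lit 0])) (.node (nat_lit 447) (.leaf ((nat_lit 1), [nat_lit 3, nat_lit 0])) (.leaf ((nat_lit 4), [nat_lit 5, nat_lit 0])))) (.node (nat_lit 449) (.leaf ((nat_lit 1), [nat_lit 4, nat_lit 2, nat_lit 5])) (.node (nat_lit 450) (.leaf ((nat_lit 2), [nat_lit 1, nat_lit 5, nat_lit 0, nat_lit 3, nat_lit 5])) (.leaf ((nat_lit 4), [nat_lit 0, nat_lit 5, nat_lit 2]))))))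
 (.node (nat_lit 456) (.node (nat_lit 453) (.node (nat_lit 452) (.leaf ((nat_lit 2), [nat_lit 5, nat_lit 2, nat_lit 5, nat_lit 4, nat_lit 0])) (.leaf ((nat_lit 2), [nat_lit 4, nat_lit 1, nat_lit 5, nat_lit 4]))) (.node (nat_lit 454) (.leaf ((nat_lit 2), [nat_lit 3, nat_lit 1, nat_lit 5, nat_lit 0, nat_lit 4])) (.node (nat_lit 455) (.leaf ((nat_lit 1), [nat_lit 2, nat_lit 1, nat_lit 0, nat_lit 5])) (.leaf ((nat_lit 2), [nat_lit 0, nat_lit 5, nat_lit 4, nat_lit 0, nat_lit 3, nat_lit 0])))))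
 (.node (nat_lit 459) (.node (nat_lit 457) (.leaf ((nat_lit 2), [nat_lit 1, nat_lit 4, nat_lit 2, nat_lit 1, nat_lit 5, nat_lit 3])) (.node (nat_lit 458) (.leaf ((nat_lit 3), [nat_lit 5, nat_lit 2, nat_lit 5, nat_lit 3])) (.leaf ((nat_lit 1), [nat_lit 1, nat_lit 0, nat_lit 5])))) (.node (nat_lit 460) (.leaf ((nat_lit 2), [nat_lit 5, nat_lit 4, nat_lit 2, nat_lit 5])) (.node (nat_lit 461) (.leaf ((nat_lit 2), [nat_lit 5, nat_lit 2, nat_lit 5, nat_lit 3, nat_lit 5])) (.leaf ((nat_lit 2), [nat_lit 5, nat_lit 4, nat_lit 0, nat_lit 4, nat_lit 5, nat_lit 0])))))))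
 (.node (nat_lit 473) (.node (nat_lit 467) (.node (nat_lit 464) (.node (nat_lit 463) (.leaf ((nat_lit 2), [nat_lit 1, nat_lit 4, nat_lit 5, nat_lit 2])) (.leaf ((nat_lit 3), [nat_lit 1, nat_lit 2, nat_lit 5]))) (.node (nat_lit 465) (.leaf ((nat_lit 1), [nat_lit 4, nat_lit 0, nat_lit 2, nat_lit 5, nat_lit 0])) (.node (nat_lit 466) (.leaf ((nat_lit 3), [nat_lit 1, nat_lit 5, nat_lit 0])) (.leaf ((nat_lit 4), [nat_lit 4, nat_lit 5, nat_lit 3])))))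
 (.node (nat_lit 470) (.node (nat_lit 468) (.leaf ((nat_lit 2), [nat_lit 4, nat_lit 3, nat_lit 5])) (.node (nat_lit 469) (.leaf ((nat_lit 2), [nat_lit 5, nat_lit 4, nat_lit 5, nat_lit 3, nat_lit 5])) (.leaf ((nat_lit 1), [nat_lit 5, nat_lit 2, nat_lit 1])))) (.node (nat_lit 471) (.leaf ((nat_lit 1), [nat_lit 4, nat_lit 1, nat_lit 0, nat_lit 5, nat_lit 0])) (.node (nat_lit 472) (.leaf ((nat_lit 2), [nat_lit 5, nat_lit 2, nat_lit 1, nat_lit 0, nat_lit 5, nat_lit 3, nat_lit 0])) (.leaf ((nat_lit 4), [nat_lit 1, nat_lit 3, nat_lit 5, nat_lit 0]))))))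
 (.node (nat_lit 478) (.node (nat_lit 475) (.node (nat_lit 474) (.leaf ((nat_lit 2), [nat_lit 2, nat_lit 5, nat_lit 2, nat_lit 1, nat_lit 4, nat_lit 0])) (.leaf ((nat_lit 1), [nat_lit 1, nat_lit 2, nat_lit 5, nat_lit 2, nat_lit 1]))) (.node (nat_lit 476) (.leaf ((nat_lit 2), [nat_lit 0, nat_lit 4, nat_lit 5, nat_lit 4, nat_lit 0])) (.node (nat_lit 477) (.leaf ((nat_lit 2), [nat_lit 5, nat_lit 2, nat_lit 0, nat_lit 2])) (.leaf ((nat_lit 2), [nat_lit 1, nat_lit 0, nat_lit 3, nat_lit 0])))))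
 (.node (nat_lit 481) (.node (nat_lit 479) (.leaf ((nat_lit 2), [nat_lit 4, nat_lit 5, nat_lit 2, nat_lit 5, nat_lit 4, nat_lit 0])) (.node (nat_lit 480) (.leaf ((nat_lit 2), [nat_lit 5, nat_lit 1, nat_lit 3, nat_lit 0])) (.leaf ((nat_lit 2), [nat_lit 0, nat_lit 3, nat_lit 5, nat_lit 4, nat_lit 3])))) (.node (nat_lit 482) (.leaf ((nat_lit 1), [nat_lit 0, nat_lit 3, nat_lit 1, nat_lit 5, nat_lit 0])) (.node (nat_lit 483) (.leaf ((nat_lit 3), [nat_lit 4, nat_lit 5, nat_lit 2])) (.leaf ((nat_lit 2), [nat_lit 2, nat_lit 5, nat_lit 2, nat_lit 5, nat_lit 0]))))))))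
 (.node (nat_lit 506) (.node (nat_lit 495) (.node (nat_lit 489) (.node (nat_lit 486) (.node (nat_lit 485) (.leaf ((nat_lit 1), [nat_lit 4, nat_lit 3, nat_lit 5, nat_lit 3])) (.leaf ((nat_lit 2), [nat_lit 5, nat_lit 2, nat_lit 1, nat_lit 0, nat_lit 5, nat_lit 0]))) (.node (nat_lit 487) (.leaf ((nat_lit 1), [nat_lit 4, nat_lit 0, nat_lit 5, nat_lit 1])) (.node (nat_lit 488) (.leaf ((nat_lit 1), [nat_lit 3, nat_lit 5, nat_lit 2, nat_lit 5, nat_lit 2, nat_lit 1])) (.leaf ((nat_lit 1), [nat_lit 5, nat_lit 1, nat_lit 4, nat_lit 5, nat_lit 1, nat_lit 0])))))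
 (.node (nat_lit 492) (.node (nat_lit 490) (.leaf ((nat_lit 1), [nat_lit 4, nat_lit 0, nat_lit 4])) (.node (nat_lit 491) (.leaf ((nat_lit 5), [nat_lit 0, nat_lit 4, nat_lit 5, nat_lit 2])) (.leaf ((nat_lit 2), [nat_lit 5, nat_lit 1, nat_lit 0, nat_lit 5])))) (.node (nat_lit 493) (.leaf ((nat_lit 2), [nat_lit 0, nat_lit 4, nat_lit 0])) (.node (nat_lit 494) (.leaf ((nat_lit 2), [nat_lit 4, nat_lit 0, nat_lit 5, nat_lit 3])) (.leaf ((nat_lit 2), [nat_lit 3, nat_lit 5]))))))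
 (.node (nat_lit 500) (.node (nat_lit 497) (.node (nat_lit 496) (.leaf ((nat_lit 2), [nat_lit 1, nat_lit 4, nat_lit 5, nat_lit 3, nat_lit 5, nat_lit 2])) (.leaf ((nat_lit 2), [nat_lit 5, nat_lit 3, nat_lit 1, nat_lit 0, nat_lit 2]))) (.node (nat_lit 498) (.leaf ((nat_lit 1), [nat_lit 1, nat_lit 0, nat_lit 5, nat_lit 0])) (.node (nat_lit 499) (.leaf ((nat_lit 4), [nat_lit 4, nat_lit 5, nat_lit 2])) (.leaf ((nat_lit 4), [nat_lit 5, nat_lit 4, nat_lit 3])))))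
 (.node (nat_lit 503) (.node (nat_lit 501) (.leaf ((nat_lit 1), [nat_lit 4, nat_lit 3, nat_lit 5, nat_lit 3, nat_lit 0])) (.node (nat_lit 502) (.leaf ((nat_lit 2), [nat_lit 2, nat_lit 1, nat_lit 3, nat_lit 5, nat_lit 0])) (.leaf ((nat_lit 3), [nat_lit 2, nat_lit 5, nat_lit 0, nat_lit 5, nat_lit 0])))) (.node (nat_lit 504) (.leaf ((nat_lit 1), [nat_lit 4, nat_lit 2, nat_lit 1, nat_lit 0, nat_lit 5])) (.node (nat_lit 505) (.leaf ((nat_lit 2), [nat_lit 0, nat_lit 5, nat_lit 1, nat_lit 4, nat_lit 2])) (.leaf ((nat_lit 1), [nat_lit 0, nat_lit 3, nat_lit 0, nat_lit 4])))))))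
 (.node (nat_lit 517) (.node (nat_lit 511) (.node (nat_lit 508) (.node (nat_lit 507) (.leaf ((nat_lit 2), [nat_lit 5, nat_lit 2, nat_lit 5, nat_lit 4, nat_lit 3])) (.leaf ((nat_lit 2), [nat_lit 2, nat_lit 5, nat_lit 3]))) (.node (nat_lit 509) (.leaf ((nat_lit 2), [nat_lit 2, nat_lit 1, nat_lit 2])) (.node (nat_lit 510) (.leaf ((nat_lit 2), [nat_lit 4, nat_lit 2, nat_lit 5, nat_lit 3])) (.leaf ((nat_lit 1), [nat_lit 0, nat_lit 2, nat_lit 5, nat_lit 3, nat_lit 0])))))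
 (.node (nat_lit 514) (.node (nat_lit 512) (.leaf ((nat_lit 2), [nat_lit 5, nat_lit 2, nat_lit 1, nat_lit 5, nat_lit 4])) (.node (nat_lit 513) (.leaf ((nat_lit 1), [nat_lit 4, nat_lit 1, nat_lit 5, nat_lit 1])) (.leaf ((nat_lit 2), [nat_lit 1, nat_lit 2, nat_lit 5, nat_lit 0, nat_lit 4])))) (.node (nat_lit 515) (.leaf ((nat_lit 1), [nat_lit 2, nat_lit 5, nat_lit 0])) (.node (nat_lit 516) (.leaf ((nat_lit 2), [nat_lit 5, nat_lit 1, nat_lit 3, nat_lit 5, nat_lit 2, nat_lit 0])) (.leaf ((nat_lit 2), [nat_lit 2, nat_lit 5, nat_lit 4, nat_lit 2]))))))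
 (.node (nat_lit 522) (.node (nat_lit 519) (.node (nat_lit 518) (.leaf ((nat_lit 2), [nat_lit 1, nat_lit 2, nat_lit 0, nat_lit 2])) (.leaf ((nat_lit 2), [nat_lit 0, nat_lit 4, nat_lit 1, nat_lit 5, nat_lit 4]))) (.node (nat_lit 520) (.leaf ((nat_lit 3), [nat_lit 0, nat_lit 5, nat_lit 4])) (.node (nat_lit 521) (.leaf ((nat_lit 1), [nat_lit 3, nat_lit 0, nat_lit 5, nat_lit 4, nat_lit 2])) (.leaf ((nat_lit 4), [nat_lit 1, nat_lit 0, nat_lit 2])))))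
 (.node (nat_lit 525) (.node (nat_lit 523) (.leaf ((nat_lit 2), [nat_lit 2, nat_lit 1, nat_lit 5, nat_lit 3, nat_lit 0])) (.node (nat_lit 524) (.leaf ((nat_lit 1), [nat_lit 4, nat_lit 3, nat_lit 1, nat_lit 0])) (.leaf ((nat_lit 2), [nat_lit 4, nat_lit 2, nat_lit 5, nat_lit 1, nat_lit 3])))) (.node (nat_lit 526) (.leaf ((nat_lit 2), [nat_lit 1, nat_lit 5, nat_lit 1, nat_lit 3, nat_lit 0])) (.node (nat_lit 527) (.leaf ((nat_lit 1), [nat_lit 3, nat_lit 5, nat_lit 4, nat_lit 5])) (.leaf ((nat_lit 2), [nat_lit 5, nat_lit 3, nat_lit 0, nat_lit 5, nat_lit 4]))))))))))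
noncomputable def bPA_3 : Tr (ℕ × List ℕ) := (.node (nat_lit 616) (.node (nat_lit 572) (.node (nat_lit 550) (.node (nat_lit 539) (.node (nat_lit 533) (.node (nat_lit 530) (.node (nat_lit 529) (.leaf ((nat_lit 2), [nat_lit 5, nat_lit 3, nat_lit 1, nat_lit 4, nat_lit 0])) (.leaf ((nat_lit 1), [nat_lit 1, nat_lit 0, nat_lit 3, nat_lit 1, nat_lit 5, nat_lit 0]))) (.node (nat_lit 531) (.leaf ((nat_lit 1), [nat_lit 5, nat_lit 3, nat_lit 5, nat_lit 2, nat_lit 0])) (.node (nat_lit 532) (.leaf ((nat_lit 2), [nat_lit 1, nat_lit 4, nat_lit 1, nat_lit 4, nat_lit 0])) (.leaf ((nat_lit 3), [nat_lit 3, nat_lit 0, nat_lit 5, nat_lit 3])))))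
 (.node (nat_lit 536) (.node (nat_lit 534) (.leaf ((nat_lit 2), [nat_lit 4, nat_lit 0, nat_lit 4, nat_lit 5, nat_lit 3, nat_lit 0])) (.node (nat_lit 535) (.leaf ((nat_lit 1), [nat_lit 2, nat_lit 1, nat_lit 5, nat_lit 4, nat_lit 5])) (.leaf ((nat_lit 2), [nat_lit 3, nat_lit 1, nat_lit 4, nat_lit 0, nat_lit 2])))) (.node (nat_lit 537) (.leaf ((nat_lit 2), [nat_lit 1, nat_lit 2, nat_lit 1, nat_lit 5])) (.node (nat_lit 538) (.leaf ((nat_lit 1), [nat_lit 5, nat_lit 2, nat_lit 5, nat_lit 2, nat_lit 0])) (.leaf ((nat_lit 3), [nat_lit 5, nat_lit 4]))))))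
 (.node (nat_lit 544) (.node (nat_lit 541) (.node (nat_lit 540) (.leaf ((nat_lit 2), [nat_lit 0, nat_lit 5, nat_lit 4, nat_lit 1, nat_lit 5])) (.leaf ((nat_lit 4), [nat_lit 4, nat_lit 5, nat_lit 2, nat_lit 0]))) (.node (nat_lit 542) (.leaf ((nat_lit 1), [nat_lit 4, nat_lit 3, nat_lit 0])) (.node (nat_lit 543) (.leaf ((nat_lit 2), [nat_lit 3, nat_lit 1, nat_lit 0, nat_lit 5, nat_lit 0])) (.leaf ((nat_lit 1), [nat_lit 1, nat_lit 3, nat_lit 1, nat_lit 5, nat_lit 0])))))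
 (.node (nat_lit 547) (.node (nat_lit 545) (.leaf ((nat_lit 2), [nat_lit 4, nat_lit 2, nat_lit 0, nat_lit 4, nat_lit 5, nat_lit 0])) (.node (nat_lit 546) (.leaf ((nat_lit 1), [nat_lit 0, nat_lit 4, nat_lit 2, nat_lit 0])) (.leaf ((nat_lit 1), [nat_lit 0, nat_lit 5, nat_lit 2, nat_lit 5])))) (.node (nat_lit 548) (.leaf ((nat_lit 2), [nat_lit 4, nat_lit 3, nat_lit 1, nat_lit 5, nat_lit 3, nat_lit 0])) (.node (nat_lit 549) (.leaf ((nat_lit 2), [nat_lit 5, nat_lit 3, nat_lit 5, nat_lit 3, nat_lit 5])) (.leaf ((nat_lit 4), [nat_lit 4, nat_lit 2, nat_lit 5, nat_lit 2])))))))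
 (.node (nat_lit 561) (.node (nat_lit 555) (.node (nat_lit 552) (.node (nat_lit 551) (.leaf ((nat_lit 2), [nat_lit 5, nat_lit 3, nat_lit 1, nat_lit 3])) (.leaf ((nat_lit 1), [nat_lit 5, nat_lit 3, nat_lit 5, nat_lit 0, nat_lit 2]))) (.node (nat_lit 553) (.leaf ((nat_lit 5), [nat_lit 2])) (.node (nat_lit 554) (.leaf ((nat_lit 1), [nat_lit 0, nat_lit 2])) (.leaf ((nat_lit 1), [nat_lit 4, nat_lit 5, nat_lit 4])))))
 (.node (nat_lit 558) (.node (nat_lit 556) (.leaf ((nat_lit 1), [nat_lit 2, nat_lit 1, nat_lit 3, nat_lit 1])) (.node (nat_lit 557) (.leaf ((nat_lit 1), [nat_lit 5, nat_lit 0, nat_lit 2])) (.leaf ((nat_lit 1), [nat_lit 3, nat_lit 5, nat_lit 2, nat_lit 0])))) (.node (nat_lit 559) (.leaf ((nat_lit 1), [nat_lit 3, nat_lit 0, nat_lit 2, nat_lit 5])) (.node (nat_lit 560) (.leaf ((nat_lit 2), [nat_lit 0, nat_lit 3, nat_lit 0, nat_lit 5, nat_lit 3])) (.leaf ((nat_lit 2), [nat_lit 3,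 nat_lit 5, nat_lit 4, nat_lit 0, nat_lit 4]))))))
 (.node (nat_lit 566) (.node (nat_lit 563) (.node (nat_lit 562) (.leaf ((nat_lit 1), [nat_lit 0, nat_lit 5, nat_lit 4, nat_lit 3, nat_lit 0])) (.leaf ((nat_lit 1), [nat_lit 1, nat_lit 5, nat_lit 4, nat_lit 1, nat_lit 0]))) (.node (nat_lit 564) (.leaf ((nat_lit 2), [nat_lit 0, nat_lit 4, nat_lit 5, nat_lit 3])) (.node (nat_lit 565) (.leaf ((nat_lit 2), [nat_lit 0, nat_lit 5, nat_lit 1, nat_lit 3, nat_lit 0])) (.leaf ((nat_lit 1), [nat_lit 2, nat_lit 5, nat_lit 4, nat_lit 1])))))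
 (.node (nat_lit 569) (.node (nat_lit 567) (.leaf ((nat_lit 2), [nat_lit 4, nat_lit 1, nat_lit 4, nat_lit 5, nat_lit 4])) (.node (nat_lit 568) (.leaf ((nat_lit 2), [nat_lit 1, nat_lit 4, nat_lit 5, nat_lit 0, nat_lit 4, nat_lit 3])) (.leaf ((nat_lit 2), [nat_lit 1, nat_lit 0, nat_lit 5, nat_lit 2])))) (.node (nat_lit 570) (.leaf ((nat_lit 2), [nat_lit 3, nat_lit 1, nat_lit 5, nat_lit 3, nat_lit 5])) (.node (nat_lit 571) (.leaf ((nat_lit 1), [nat_lit 2, nat_lit 5, nat_lit 0, nat_lit 4])) (.leaf ((nat_lit 1), [nat_lit 0, nat_lit 5, nat_lit 4, nat_lit 2, nat_lit 0]))))))))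
 (.node (nat_lit 594) (.node (nat_lit 583) (.node (nat_lit 577) (.node (nat_lit 574) (.node (nat_lit 573) (.leaf ((nat_lit 4), [nat_lit 3, nat_lit 0])) (.leaf ((nat_lit 2), [nat_lit 5, nat_lit 1, nat_lit 0, nat_lit 5, nat_lit 0]))) (.node (nat_lit 575) (.leaf ((nat_lit 2), [nat_lit 4, nat_lit 5, nat_lit 2, nat_lit 1, nat_lit 5, nat_lit 3, nat_lit 0])) (.node (nat_lit 576) (.leaf ((nat_lit 1), [nat_lit 5, nat_lit 2, nat_lit 5, nat_lit 4, nat_lit 3])) (.leaf ((nat_lit 2), [nat_lit 0, nat_lit 4, nat_lit 0, nat_lit 2])))))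
 (.node (nat_lit 580) (.node (nat_lit 578) (.leaf ((nat_lit 1), [nat_lit 1, nat_lit 5, nat_lit 0, nat_lit 5, nat_lit 4])) (.node (nat_lit 579) (.leaf ((nat_lit 2), [nat_lit 5, nat_lit 4, nat_lit 5, nat_lit 1, nat_lit 3])) (.leaf ((nat_lit 1), [nat_lit 0, nat_lit 4, nat_lit 5, nat_lit 1, nat_lit 3])))) (.node (nat_lit 581) (.leaf ((nat_lit 2), [nat_lit 2, nat_lit 1, nat_lit 5, nat_lit 1, nat_lit 4, nat_lit 2])) (.node (nat_lit 582) (.leaf ((nat_lit 2), [nat_lit 3, nat_lit 5, nat_lit 4, nat_lit 3, nat_lit 0])) (.leaf ((nat_lit 2), [nat_lit 0, nat_lit 5, nat_lit 3, nat_lit 5]))))))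
 (.node (nat_lit 588) (.node (nat_lit 585) (.node (nat_lit 584) (.leaf ((nat_lit 2), [nat_lit 4, nat_lit 2, nat_lit 0, nat_lit 3])) (.leaf ((nat_lit 2), [nat_lit 5, nat_lit 4, nat_lit 1, nat_lit 5, nat_lit 0]))) (.node (nat_lit 586) (.leaf ((nat_lit 1), [nat_lit 5, nat_lit 2, nat_lit 5, nat_lit 4])) (.node (nat_lit 587) (.leaf ((nat_lit 4), [nat_lit 2, nat_lit 0, nat_lit 5, nat_lit 0])) (.leaf ((nat_lit 2), [nat_lit 1, nat_lit 4, nat_lit 0, nat_lit 5, nat_lit 4])))))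
 (.node (nat_lit 591) (.node (nat_lit 589) (.leaf ((nat_lit 3), [nat_lit 2, nat_lit 5, nat_lit 2])) (.node (nat_lit 590) (.leaf ((nat_lit 2), [nat_lit 3, nat_lit 1, nat_lit 5])) (.leaf ((nat_lit 2), [nat_lit 4, nat_lit 0, nat_lit 5, nat_lit 3, nat_lit 5])))) (.node (nat_lit 592) (.leaf ((nat_lit 2), [nat_lit 0, nat_lit 5, nat_lit 4, nat_lit 0, nat_lit 5, nat_lit 2])) (.node (nat_lit 593) (.leaf ((nat_lit 4), [nat_lit 3, nat_lit 5, nat_lit 4, nat_lit 0])) (.leaf ((nat_lit 2), [nat_lit 3, nat_lit 1, nat_lit 0, nat_lit 3])))))))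
 (.node (nat_lit 605) (.node (nat_lit 599) (.node (nat_lit 596) (.node (nat_lit 595) (.leaf ((nat_lit 1), [nat_lit 3, nat_lit 5, nat_lit 0, nat_lit 4])) (.leaf ((nat_lit 2), [nat_lit 4, nat_lit 2, nat_lit 1, nat_lit 4, nat_lit 0]))) (.node (nat_lit 597) (.leaf ((nat_lit 2), [nat_lit 0, nat_lit 5, nat_lit 2])) (.node (nat_lit 598) (.leaf ((nat_lit 1), [nat_lit 0, nat_lit 5, nat_lit 3, nat_lit 0])) (.leaf ((nat_lit 1), [nat_lit 2, nat_lit 0])))))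
 (.node (nat_lit 602) (.node (nat_lit 600) (.leaf ((nat_lit 1), [nat_lit 2, nat_lit 5, nat_lit 2, nat_lit 0])) (.node (nat_lit 601) (.leaf ((nat_lit 2), [nat_lit 5, nat_lit 0, nat_lit 4])) (.leaf ((nat_lit 2), [nat_lit 3, nat_lit 0, nat_lit 4, nat_lit 2])))) (.node (nat_lit 603) (.leaf ((nat_lit 2), [nat_lit 5, nat_lit 3, nat_lit 1, nat_lit 5, nat_lit 0])) (.node (nat_lit 604) (.leaf ((nat_lit 2), [nat_lit 5, nat_lit 2, nat_lit 1, nat_lit 2, nat_lit 0])) (.leaf ((nat_lit 2), [nat_lit 3, nat_lit 5, nat_lit 0]))))))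
 (.node (nat_lit 610) (.node (nat_lit 607) (.node (nat_lit 606) (.leaf ((nat_lit 2), [nat_lit 2, nat_lit 0, nat_lit 5, nat_lit 0, nat_lit 2])) (.leaf ((nat_lit 2), [nat_lit 4, nat_lit 3, nat_lit 1, nat_lit 5, nat_lit 4]))) (.node (nat_lit 608) (.leaf ((nat_lit 2), [nat_lit 3, nat_lit 5, nat_lit 1, nat_lit 2, nat_lit 1, nat_lit 2])) (.node (nat_lit 609) (.leaf ((nat_lit 2), [nat_lit 5, nat_lit 4, nat_lit 3, nat_lit 1, nat_lit 2, nat_lit 0])) (.leaf ((nat_lit 2), [nat_lit 4, nat_lit 0, nat_lit 4, nat_lit 2, nat_lit 5, nat_lit 3])))))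
 (.node (nat_lit 613) (.node (nat_lit 611) (.leaf ((nat_lit 2), [nat_lit 4, nat_lit 1, nat_lit 3, nat_lit 5, nat_lit 0])) (.node (nat_lit 612) (.leaf ((nat_lit 1), [nat_lit 0, nat_lit 5])) (.leaf ((nat_lit 2), [nat_lit 0, nat_lit 4, nat_lit 2, nat_lit 5, nat_lit 3, nat_lit 0])))) (.node (nat_lit 614) (.leaf ((nat_lit 2), [nat_lit 2, nat_lit 1, nat_lit 5, nat_lit 3])) (.node (nat_lit 615) (.leaf ((nat_lit 2), [nat_lit 5, nat_lit 2, nat_lit 1, nat_lit 2])) (.leaf ((nat_lit 2), [nat_lit 1, nat_lit 3, nat_lit 5, nat_lit 3, nat_lit 0])))))))))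
 (.node (nat_lit 660) (.node (nat_lit 638) (.node (nat_lit 627) (.node (nat_lit 621) (.node (nat_lit 618) (.node (nat_lit 617) (.leaf ((nat_lit 2), [nat_lit 1, nat_lit 5, nat_lit 3, nat_lit 0])) (.leaf ((nat_lit 2), [nat_lit 1, nat_lit 0, nat_lit 3]))) (.node (nat_lit 619) (.leaf ((nat_lit 2), [nat_lit 5, nat_lit 4, nat_lit 5, nat_lit 4, nat_lit 0])) (.node (nat_lit 620) (.leaf ((nat_lit 2), [nat_lit 1, nat_lit 2, nat_lit 5, nat_lit 3, nat_lit 0])) (.leaf ((nat_lit 1), [nat_lit 1, nat_lit 4, nat_lit 1, nat_lit 0])))))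
 (.node (nat_lit 624) (.node (nat_lit 622) (.leaf ((nat_lit 2), [nat_lit 4, nat_lit 5, nat_lit 0, nat_lit 4, nat_lit 0])) (.node (nat_lit 623) (.leaf ((nat_lit 2), [nat_lit 4, nat_lit 1, nat_lit 5, nat_lit 4, nat_lit 3])) (.leaf ((nat_lit 2), [nat_lit 0, nat_lit 4, nat_lit 3, nat_lit 5, nat_lit 0])))) (.node (nat_lit 625) (.leaf ((nat_lit 4), [nat_lit 4, nat_lit 5, nat_lit 1, nat_lit 2])) (.node (nat_lit 626) (.leaf ((nat_lit 2), [nat_lit 1, nat_lit 3, nat_lit 5, nat_lit 0, nat_lit 4, nat_lit 0])) (.leaf ((nat_lit 1), [nat_lit 5, nat_lit 4, nat_lit 1, nat_lit 0]))))))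
 (.node (nat_lit 632) (.node (nat_lit 629) (.node (nat_lit 628) (.leaf ((nat_lit 1), [nat_lit 3, nat_lit 0, nat_lit 4, nat_lit 0])) (.leaf ((nat_lit 3), [nat_lit 1, nat_lit 5, nat_lit 3]))) (.node (nat_lit 630) (.leaf ((nat_lit 2), [nat_lit 4, nat_lit 3, nat_lit 1, nat_lit 5])) (.node (nat_lit 631) (.leaf ((nat_lit 1), [nat_lit 4, nat_lit 5, nat_lit 4, nat_lit 5])) (.leaf ((nat_lit 2), [nat_lit 4, nat_lit 2])))))
 (.node (nat_lit 635) (.node (nat_lit 633) (.leaf ((nat_lit 2), [nat_lit 3, nat_lit 0, nat_lit 4, nat_lit 5, nat_lit 4, nat_lit 0])) (.node (nat_lit 634) (.leaf ((nat_lit 2), [nat_lit 3, nat_lit 5, nat_lit 2, nat_lit 1, nat_lit 5, nat_lit 0])) (.leaf ((nat_lit 3), [nat_lit 4, nat_lit 5, nat_lit 0])))) (.node (nat_lit 636) (.leaf ((nat_lit 1), [nat_lit 4, nat_lit 2, nat_lit 5, nat_lit 4, nat_lit 3])) (.node (nat_lit 637) (.leaf ((nat_lit 2), [nat_lit 3, nat_lit 0, nat_lit 3, nat_lit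 1, nat_lit 5, nat_lit 3])) (.leaf ((nat_lit 1), [nat_lit 3, nat_lit 5, nat_lit 3, nat_lit 0])))))))
 (.node (nat_lit 649) (.node (nat_lit 643) (.node (nat_lit 640) (.node (nat_lit 639) (.leaf ((nat_lit 2), [nat_lit 5, nat_lit 4, nat_lit 3, nat_lit 0, nat_lit 2])) (.leaf ((nat_lit 5), [nat_lit 4, nat_lit 2, nat_lit 5]))) (.node (nat_lit 641) (.leaf ((nat_lit 2), [nat_lit 5, nat_lit 3, nat_lit 5, nat_lit 4, nat_lit 3, nat_lit 0])) (.node (nat_lit 642) (.leaf ((nat_lit 1), [nat_lit 0, nat_lit 5, nat_lit 0, nat_lit 3, nat_lit 1])) (.leaf ((nat_lit 1), [nat_lit 4, nat_lit 0, nat_lit 5, nat_lit 2, nat_lit 1])))))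
 (.node (nat_lit 646) (.node (nat_lit 644) (.leaf ((nat_lit 1), [nat_lit 1, nat_lit 4, nat_lit 5, nat_lit 3, nat_lit 0])) (.node (nat_lit 645) (.leaf ((nat_lit 2), [nat_lit 0, nat_lit 4, nat_lit 5, nat_lit 1, nat_lit 2, nat_lit 0])) (.leaf ((nat_lit 2), [nat_lit 3, nat_lit 5, nat_lit 2, nat_lit 0])))) (.node (nat_lit 647) (.leaf ((nat_lit 2), [nat_lit 2, nat_lit 1, nat_lit 4, nat_lit 5, nat_lit 2])) (.node (nat_lit 648) (.leaf ((nat_lit 1), [nat_lit 0, nat_lit 5, nat_lit 0, nat_lit 2, nat_lit 0])) (.leaf ((nat_lit 2), [nat_lit 2, nat_lit 5, nat_lit 1, nat_lit 4, nat_lit 3, nat_lit 0]))))))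
 (.node (nat_lit 654) (.node (nat_lit 651) (.node (nat_lit 650) (.leaf ((nat_lit 4), [nat_lit 5, nat_lit 0, nat_lit 2, nat_lit 0])) (.leaf ((nat_lit 2), [nat_lit 0, nat_lit 5, nat_lit 2, nat_lit 1, nat_lit 0, nat_lit 2]))) (.node (nat_lit 652) (.leaf ((nat_lit 2), [nat_lit 2, nat_lit 5, nat_lit 1, nat_lit 2, nat_lit 0])) (.node (nat_lit 653) (.leaf ((nat_lit 4), [nat_lit 5, nat_lit 3, nat_lit 5, nat_lit 0])) (.leaf ((nat_lit 1), [nat_lit 5, nat_lit 2, nat_lit 0, nat_lit 4, nat_lit 5])))))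
 (.node (nat_lit 657) (.node (nat_lit 655) (.leaf ((nat_lit 1), [nat_lit 0, nat_lit 5, nat_lit 1, nat_lit 0])) (.node (nat_lit 656) (.leaf ((nat_lit 5), [nat_lit 0, nat_lit 4, nat_lit 2, nat_lit 5])) (.leaf ((nat_lit 2), [nat_lit 4, nat_lit 1, nat_lit 4, nat_lit 0, nat_lit 5, nat_lit 2])))) (.node (nat_lit 658) (.leaf ((nat_lit 2), [nat_lit 4, nat_lit 0, nat_lit 3, nat_lit 5, nat_lit 0])) (.node (nat_lit 659) (.leaf ((nat_lit 1), [nat_lit 5, nat_lit 0, nat_lit 4, nat_lit 5, nat_lit 0])) (.leaf ((nat_lit 1), [nat_lit 1, nat_lit 0, nat_lit 5, nat_lit 4]))))))))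
 (.node (nat_lit 682) (.node (nat_lit 671) (.node (nat_lit 665) (.node (nat_lit 662) (.node (nat_lit 661) (.leaf ((nat_lit 4), [nat_lit 3, nat_lit 5, nat_lit 2, nat_lit 0])) (.leaf ((nat_lit 4), [nat_lit 2, nat_lit 5, nat_lit 4, nat_lit 0]))) (.node (nat_lit 663) (.leaf ((nat_lit 1), [nat_lit 1, nat_lit 5, nat_lit 1, nat_lit 3])) (.node (nat_lit 664) (.leaf ((nat_lit 2), [nat_lit 3, nat_lit 5, nat_lit 4, nat_lit 5, nat_lit 4, nat_lit 0])) (.leaf ((nat_lit 2), [nat_lit 5, nat_lit 1, nat_lit 3, nat_lit 0, nat_lit 3, nat_lit 0])))))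
 (.node (nat_lit 668) (.node (nat_lit 666) (.leaf ((nat_lit 2), [nat_lit 5, nat_lit 3, nat_lit 0, nat_lit 4, nat_lit 5, nat_lit 3])) (.node (nat_lit 667) (.leaf ((nat_lit 2), [nat_lit 4, nat_lit 2, nat_lit 1, nat_lit 5, nat_lit 2])) (.leaf ((nat_lit 2), [nat_lit 2, nat_lit 5, nat_lit 4, nat_lit 0])))) (.node (nat_lit 669) (.leaf ((nat_lit 1), [nat_lit 4, nat_lit 5, nat_lit 4, nat_lit 1])) (.node (nat_lit 670) (.leaf ((nat_lit 1), [nat_lit 4, nat_lit 3, nat_lit 5, nat_lit 1])) (.leaf ((nat_lit 1), [nat_lit 3, nat_lit 5, nat_lit 0, nat_lit 2, nat_lit 0]))))))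
 (.node (nat_lit 676) (.node (nat_lit 673) (.node (nat_lit 672) (.leaf ((nat_lit 3), [nat_lit 1, nat_lit 5, nat_lit 4])) (.leaf ((nat_lit 5), [nat_lit 5]))) (.node (nat_lit 674) (.leaf ((nat_lit 1), [nat_lit 1, nat_lit 0, nat_lit 5, nat_lit 3, nat_lit 0])) (.node (nat_lit 675) (.leaf ((nat_lit 2), [nat_lit 1, nat_lit 0, nat_lit 5, nat_lit 3])) (.leaf ((nat_lit 2), [nat_lit 3, nat_lit 0, nat_lit 4, nat_lit 5, nat_lit 4, nat_lit 3])))))
 (.node (nat_lit 679) (.node (nat_lit 677) (.leaf ((nat_lit 1), [nat_lit 4, nat_lit 2, nat_lit 1, nat_lit 0])) (.node (nat_lit 678) (.leaf ((nat_lit 2), [nat_lit 4, nat_lit 3, nat_lit 5, nat_lit 1, nat_lit 2])) (.leaf ((nat_lit 2), [nat_lit 0, nat_lit 4, nat_lit 2, nat_lit 5, nat_lit 3])))) (.node (nat_lit 680) (.leaf ((nat_lit 1), [nat_lit 5, nat_lit 1, nat_lit 2, nat_lit 0, nat_lit 2, nat_lit 0])) (.node (nat_lit 681) (.leaf ((nat_lit 1), [nat_lit 5, nat_lit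 0, nat_lit 4])) (.leaf ((nat_lit 2), [nat_lit 4, nat_lit 5, nat_lit 0, nat_lit 5, nat_lit 3, nat_lit 0])))))))
 (.node (nat_lit 693) (.node (nat_lit 687) (.node (nat_lit 684) (.node (nat_lit 683) (.leaf ((nat_lit 1), [nat_lit 2, nat_lit 1, nat_lit 3, nat_lit 5])) (.leaf ((nat_lit 5), [nat_lit 0, nat_lit 4, nat_lit 5]))) (.node (nat_lit 685) (.leaf ((nat_lit 1), [nat_lit 3, nat_lit 0, nat_lit 4, nat_lit 5])) (.node (nat_lit 686) (.leaf ((nat_lit 1), [nat_lit 5, nat_lit 3])) (.leaf ((nat_lit 2), [nat_lit 3, nat_lit 5, nat_lit 3, nat_lit 1, nat_lit 5, nat_lit 2])))))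
 (.node (nat_lit 690) (.node (nat_lit 688) (.leaf ((nat_lit 2), [nat_lit 5, nat_lit 1, nat_lit 0, nat_lit 5, nat_lit 0, nat_lit 2])) (.node (nat_lit 689) (.leaf ((nat_lit 2), [nat_lit 1, nat_lit 5, nat_lit 4, nat_lit 0])) (.leaf ((nat_lit 1), [nat_lit 4, nat_lit 1, nat_lit 0])))) (.node (nat_lit 691) (.leaf ((nat_lit 1), [nat_lit 2, nat_lit 0, nat_lit 5, nat_lit 4])) (.node (nat_lit 692) (.leaf ((nat_lit 2), [nat_lit 1, nat_lit 3, nat_lit 5, nat_lit 2, nat_lit 0])) (.leaf ((nat_lit 2), [nat_lit 2, nat_lit 5, nat_lit 3, nat_lit 0]))))))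
 (.node (nat_lit 698) (.node (nat_lit 695) (.node (nat_lit 694) (.leaf ((nat_lit 1), [nat_lit 4, nat_lit 5, nat_lit 1])) (.leaf ((nat_lit 2), [nat_lit 2, nat_lit 1, nat_lit 4, nat_lit 0]))) (.node (nat_lit 696) (.leaf ((nat_lit 1), [nat_lit 3, nat_lit 5, nat_lit 0, nat_lit 5, nat_lit 0])) (.node (nat_lit 697) (.leaf ((nat_lit 1), [nat_lit 1, nat_lit 5, nat_lit 4, nat_lit 3, nat_lit 0])) (.leaf ((nat_lit 2), [nat_lit 4, nat_lit 0, nat_lit 4, nat_lit 3])))))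
 (.node (nat_lit 701) (.node (nat_lit 699) (.leaf ((nat_lit 2), [nat_lit 2, nat_lit 5, nat_lit 4, nat_lit 0, nat_lit 3])) (.node (nat_lit 700) (.leaf ((nat_lit 2), [nat_lit 2, nat_lit 5, nat_lit 3, nat_lit 1, nat_lit 2])) (.leaf ((nat_lit 4), [nat_lit 0])))) (.node (nat_lit 702) (.leaf ((nat_lit 2), [nat_lit 4, nat_lit 1, nat_lit 2, nat_lit 1, nat_lit 2])) (.node (nat_lit 703) (.leaf ((nat_lit 2), [nat_lit 5, nat_lit 4, nat_lit 2, nat_lit 5, nat_lit 3])) (.leaf ((nat_lit 2), [nat_lit 1, nat_lit 4, nat_lit 2, nat_lit 5, nat_lit 3, nat_lit 0]))))))))))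
noncomputable def bPA_4 : Tr (ℕ × List ℕ) := (.node (nat_lit 792) (.node (nat_lit 748) (.node (nat_lit 726) (.node (nat_lit 715) (.node (nat_lit 709) (.node (nat_lit 706) (.node (nat_lit 705) (.leaf ((nat_lit 1), [nat_lit 2, nat_lit 0, nat_lit 4])) (.leaf ((nat_lit 2), [nat_lit 3, nat_lit 5, nat_lit 3, nat_lit 1, nat_lit 2]))) (.node (nat_lit 707) (.leaf ((nat_lit 3), [nat_lit 2])) (.node (nat_lit 708) (.leaf ((nat_lit 2), [nat_lit 5, nat_lit 0, nat_lit 3, nat_lit 1, nat_lit 2])) (.leaf ((nat_lit 1), [nat_lit 0, nat_lit 4, nat_lit 0, nat_lit 5])))))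
 (.node (nat_lit 712) (.node (nat_lit 710) (.leaf ((nat_lit 4), [nat_lit 4, nat_lit 3, nat_lit 5, nat_lit 0])) (.node (nat_lit 711) (.leaf ((nat_lit 2), [nat_lit 0, nat_lit 3, nat_lit 1, nat_lit 5, nat_lit 3])) (.leaf ((nat_lit 2), [nat_lit 4, nat_lit 0, nat_lit 4, nat_lit 2, nat_lit 0])))) (.node (nat_lit 713) (.leaf ((nat_lit 2), [nat_lit 5, nat_lit 4, nat_lit 0, nat_lit 5, nat_lit 3])) (.node (nat_lit 714) (.leaf ((nat_lit 2), [nat_lit 3, nat_lit 1, nat_lit 5, nat_lit 4, nat_lit 3])) (.leaf ((nat_lit 1), [nat_lit 2, nat_lit 5, nat_lit 4, nat_lit 3]))))))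
 (.node (nat_lit 720) (.node (nat_lit 717) (.node (nat_lit 716) (.leaf ((nat_lit 1), [nat_lit 1, nat_lit 5, nat_lit 2, nat_lit 1, nat_lit 0])) (.leaf ((nat_lit 2), [nat_lit 5, nat_lit 3, nat_lit 5, nat_lit 0, nat_lit 5, nat_lit 0]))) (.node (nat_lit 718) (.leaf ((nat_lit 3), [nat_lit 2, nat_lit 0, nat_lit 5, nat_lit 2])) (.node (nat_lit 719) (.leaf ((nat_lit 3), [nat_lit 0, nat_lit 2, nat_lit 5, nat_lit 0])) (.leaf ((nat_lit 5), [nat_lit 4, nat_lit 0, nat_lit 2])))))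
 (.node (nat_lit 723) (.node (nat_lit 721) (.leaf ((nat_lit 2), [nat_lit 5, nat_lit 4, nat_lit 3])) (.node (nat_lit 722) (.leaf ((nat_lit 3), [nat_lit 5, nat_lit 3, nat_lit 5, nat_lit 0])) (.leaf ((nat_lit 1), [nat_lit 5, nat_lit 1, nat_lit 4, nat_lit 5])))) (.node (nat_lit 724) (.leaf ((nat_lit 2), [nat_lit 3, nat_lit 5, nat_lit 4, nat_lit 2])) (.node (nat_lit 725) (.leaf ((nat_lit 1), [nat_lit 4, nat_lit 5, nat_lit 3])) (.leaf ((nat_lit 5), [nat_lit 3, nat_lit 5, nat_lit 2])))))))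
 (.node (nat_lit 737) (.node (nat_lit 731) (.node (nat_lit 728) (.node (nat_lit 727) (.leaf ((nat_lit 1), [nat_lit 5, nat_lit 3, nat_lit 0])) (.leaf ((nat_lit 2), [nat_lit 4, nat_lit 5, nat_lit 4, nat_lit 0, nat_lit 5, nat_lit 3]))) (.node (nat_lit 729) (.leaf ((nat_lit 2), [nat_lit 4, nat_lit 5, nat_lit 4, nat_lit 0, nat_lit 5, nat_lit 2])) (.node (nat_lit 730) (.leaf ((nat_lit 2), [nat_lit 1, nat_lit 5, nat_lit 4, nat_lit 1, nat_lit 3, nat_lit 0])) (.leaf ((nat_lit 2), [nat_lit 5, nat_lit 2, nat_lit 0, nat_lit 4, nat_lit 2])))))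
 (.node (nat_lit 734) (.node (nat_lit 732) (.leaf ((nat_lit 2), [nat_lit 5, nat_lit 0, nat_lit 5, nat_lit 3, nat_lit 0])) (.node (nat_lit 733) (.leaf ((nat_lit 2), [nat_lit 3, nat_lit 1, nat_lit 0, nat_lit 5, nat_lit 4, nat_lit 0])) (.leaf ((nat_lit 3), [nat_lit 0, nat_lit 5, nat_lit 0])))) (.node (nat_lit 735) (.leaf ((nat_lit 1), [nat_lit 4, nat_lit 0])) (.node (nat_lit 736) (.leaf ((nat_lit 1), [nat_lit 4, nat_lit 1])) (.leaf ((nat_lit 1), [nat_lit 2, nat_lit 1, nat_lit 5]))))))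
 (.node (nat_lit 742) (.node (nat_lit 739) (.node (nat_lit 738) (.leaf ((nat_lit 2), [nat_lit 4, nat_lit 1, nat_lit 5, nat_lit 3, nat_lit 0])) (.leaf ((nat_lit 2), [nat_lit 0, nat_lit 5, nat_lit 3, nat_lit 5, nat_lit 0]))) (.node (nat_lit 740) (.leaf ((nat_lit 2), [nat_lit 4, nat_lit 5, nat_lit 2, nat_lit 5, nat_lit 3])) (.node (nat_lit 741) (.leaf ((nat_lit 2), [nat_lit 0, nat_lit 5, nat_lit 0, nat_lit 5, nat_lit 3])) (.leaf ((nat_lit 1), [nat_lit 4, nat_lit 2])))))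
 (.node (nat_lit 745) (.node (nat_lit 743) (.leaf ((nat_lit 2), [nat_lit 3, nat_lit 1, nat_lit 0, nat_lit 5, nat_lit 2])) (.node (nat_lit 744) (.leaf ((nat_lit 2), [nat_lit 3, nat_lit 1, nat_lit 5, nat_lit 1, nat_lit 3, nat_lit 0])) (.leaf ((nat_lit 2), [nat_lit 4, nat_lit 5, nat_lit 2, nat_lit 0, nat_lit 2])))) (.node (nat_lit 746) (.leaf ((nat_lit 2), [nat_lit 0, nat_lit 2, nat_lit 5, nat_lit 2, nat_lit 1, nat_lit 2])) (.node (nat_lit 747) (.leaf ((nat_lit 2), [nat_lit 4, nat_lit 5, nat_lit 1, nat_lit 2])) (.leaf ((nat_lit 2), [nat_lit 4, nat_lit 2, nat_lit 0, nat_lit 2, nat_lit 0]))))))))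
 (.node (nat_lit 770) (.node (nat_lit 759) (.node (nat_lit 753) (.node (nat_lit 750) (.node (nat_lit 749) (.leaf ((nat_lit 4), [nat_lit 2, nat_lit 5, nat_lit 2])) (.leaf ((nat_lit 5), [nat_lit 5, nat_lit 0, nat_lit 2]))) (.node (nat_lit 751) (.leaf ((nat_lit 2), [nat_lit 3, nat_lit 0, nat_lit 5, nat_lit 3])) (.node (nat_lit 752) (.leaf ((nat_lit 1), [nat_lit 1, nat_lit 5, nat_lit 4, nat_lit 2, nat_lit 0])) (.leaf ((nat_lit 1), [nat_lit 4, nat_lit 5, nat_lit 4, nat_lit 2])))))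
 (.node (nat_lit 756) (.node (nat_lit 754) (.leaf ((nat_lit 2), [nat_lit 5, nat_lit 2, nat_lit 1, nat_lit 5, nat_lit 0])) (.node (nat_lit 755) (.leaf ((nat_lit 2), [nat_lit 1, nat_lit 5])) (.leaf ((nat_lit 1), [nat_lit 2, nat_lit 5, nat_lit 0, nat_lit 5])))) (.node (nat_lit 757) (.leaf ((nat_lit 2), [nat_lit 4, nat_lit 3, nat_lit 0, nat_lit 4])) (.node (nat_lit 758) (.leaf ((nat_lit 2), [nat_lit 5, nat_lit 1, nat_lit 0, nat_lit 5, nat_lit 2])) (.leaf ((nat_lit 1), [nat_lit 4, nat_lit 0, nat_lit 5, nat_lit 4]))))))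
 (.node (nat_lit 764) (.node (nat_lit 761) (.node (nat_lit 760) (.leaf ((nat_lit 1), [nat_lit 5, nat_lit 3, nat_lit 5, nat_lit 3])) (.leaf ((nat_lit 1), [nat_lit 2, nat_lit 1]))) (.node (nat_lit 762) (.leaf ((nat_lit 1), [nat_lit 2, nat_lit 0, nat_lit 5, nat_lit 0])) (.node (nat_lit 763) (.leaf ((nat_lit 3), [nat_lit 1, nat_lit 3, nat_lit 5])) (.leaf ((nat_lit 2), [nat_lit 4, nat_lit 2, nat_lit 5, nat_lit 3, nat_lit 5])))))
 (.node (nat_lit 767) (.node (nat_lit 765) (.leaf ((nat_lit 2), [nat_lit 4, nat_lit 5, nat_lit 0, nat_lit 5, nat_lit 4])) (.node (nat_lit 766) (.leaf ((nat_lit 1), [nat_lit 1, nat_lit 5, nat_lit 4, nat_lit 1])) (.leaf ((nat_lit 2), [nat_lit 4, nat_lit 3, nat_lit 5, nat_lit 3, nat_lit 0])))) (.node (nat_lit 768) (.leaf ((nat_lit 1), [nat_lit 4, nat_lit 5, nat_lit 0, nat_lit 4, nat_lit 2])) (.node (nat_lit 769) (.leaf ((nat_lit 3), [nat_lit 4, nat_lit 3, nat_lit 5]))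 (.leaf ((nat_lit 1), [nat_lit 1, nat_lit 3, nat_lit 1, nat_lit 5, nat_lit 4, nat_lit 1])))))))
 (.node (nat_lit 781) (.node (nat_lit 775) (.node (nat_lit 772) (.node (nat_lit 771) (.leaf ((nat_lit 2), [nat_lit 1, nat_lit 4, nat_lit 3, nat_lit 5, nat_lit 4])) (.leaf ((nat_lit 1), [nat_lit 1, nat_lit 2, nat_lit 5, nat_lit 4, nat_lit 1]))) (.node (nat_lit 773) (.leaf ((nat_lit 2), [nat_lit 2, nat_lit 1, nat_lit 2, nat_lit 5])) (.node (nat_lit 774) (.leaf ((nat_lit 2), [nat_lit 0, nat_lit 2, nat_lit 1, nat_lit 5, nat_lit 4])) (.leaf ((nat_lit 3), [nat_lit 3, nat_lit 1, nat_lit 5])))))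
 (.node (nat_lit 778) (.node (nat_lit 776) (.leaf ((nat_lit 3), [nat_lit 4, nat_lit 0, nat_lit 5, nat_lit 2])) (.node (nat_lit 777) (.leaf ((nat_lit 2), [nat_lit 2, nat_lit 5, nat_lit 2, nat_lit 1, nat_lit 2])) (.leaf ((nat_lit 2), [nat_lit 0, nat_lit 5, nat_lit 2, nat_lit 5, nat_lit 0])))) (.node (nat_lit 779) (.leaf ((nat_lit 2), [nat_lit 1, nat_lit 5, nat_lit 3, nat_lit 0, nat_lit 2])) (.node (nat_lit 780) (.leaf ((nat_lit 1), [nat_lit 1, nat_lit 2, nat_lit 0, nat_lit 2, nat_lit 0])) (.leaf ((nat_lit 1), [nat_lit 5, nat_lit 0, nat_lit 4, nat_lit 0]))))))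
 (.node (nat_lit 786) (.node (nat_lit 783) (.node (nat_lit 782) (.leaf ((nat_lit 2), [nat_lit 0, nat_lit 3, nat_lit 1, nat_lit 5, nat_lit 0])) (.leaf ((nat_lit 2), [nat_lit 5, nat_lit 2, nat_lit 5, nat_lit 4, nat_lit 0, nat_lit 2, nat_lit 0]))) (.node (nat_lit 784) (.leaf ((nat_lit 1), [nat_lit 2, nat_lit 5, nat_lit 4, nat_lit 5])) (.node (nat_lit 785) (.leaf ((nat_lit 1), [nat_lit 0, nat_lit 5, nat_lit 3, nat_lit 1, nat_lit 0])) (.leaf ((nat_lit 2), [nat_lit 5, nat_lit 3, nat_lit 5])))))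
 (.node (nat_lit 789) (.node (nat_lit 787) (.leaf ((nat_lit 2), [nat_lit 0, nat_lit 5, nat_lit 0])) (.node (nat_lit 788) (.leaf ((nat_lit 3), [nat_lit 3, nat_lit 5, nat_lit 4])) (.leaf ((nat_lit 2), [nat_lit 2, nat_lit 5, nat_lit 3, nat_lit 5])))) (.node (nat_lit 790) (.leaf ((nat_lit 2), [nat_lit 3, nat_lit 1, nat_lit 4, nat_lit 2])) (.node (nat_lit 791) (.leaf ((nat_lit 4), [nat_lit 2, nat_lit 5, nat_lit 3])) (.leaf ((nat_lit 1), [nat_lit 3, nat_lit 5, nat_lit 1, nat_lit 3])))))))))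
 (.node (nat_lit 836) (.node (nat_lit 814) (.node (nat_lit 803) (.node (nat_lit 797) (.node (nat_lit 794) (.node (nat_lit 793) (.leaf ((nat_lit 4), [nat_lit 2, nat_lit 0])) (.leaf ((nat_lit 2), [nat_lit 4, nat_lit 0, nat_lit 4, nat_lit 0]))) (.node (nat_lit 795) (.leaf ((nat_lit 1), [nat_lit 1, nat_lit 4, nat_lit 1])) (.node (nat_lit 796) (.leaf ((nat_lit 3), [nat_lit 5, nat_lit 0])) (.leaf ((nat_lit 1), [nat_lit 2, nat_lit 5, nat_lit 3])))))
 (.node (nat_lit 800) (.node (nat_lit 798) (.leaf ((nat_lit 5), [nat_lit 4, nat_lit 3, nat_lit 5])) (.node (nat_lit 799) (.leaf ((nat_lit 2), [nat_lit 1, nat_lit 4, nat_lit 5, nat_lit 3, nat_lit 0])) (.leaf ((nat_lit 3), [nat_lit 4, nat_lit 1, nat_lit 5, nat_lit 3])))) (.node (nat_lit 801) (.leaf ((nat_lit 1), [nat_lit 2, nat_lit 5, nat_lit 4, nat_lit 2, nat_lit 0])) (.node (nat_lit 802) (.leaf ((nat_lit 2), [nat_lit 0, nat_lit 2, nat_lit 5, nat_lit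 4, nat_lit 3])) (.leaf ((nat_lit 2), [nat_lit 3, nat_lit 5, nat_lit 2, nat_lit 1, nat_lit 3]))))))
 (.node (nat_lit 808) (.node (nat_lit 805) (.node (nat_lit 804) (.leaf ((nat_lit 2), [nat_lit 2, nat_lit 0, nat_lit 4, nat_lit 0, nat_lit 3])) (.leaf ((nat_lit 1), [nat_lit 2, nat_lit 5, nat_lit 4]))) (.node (nat_lit 806) (.leaf ((nat_lit 2), [nat_lit 4, nat_lit 0, nat_lit 3])) (.node (nat_lit 807) (.leaf ((nat_lit 2), [nat_lit 4, nat_lit 3, nat_lit 1, nat_lit 5, nat_lit 0])) (.leaf ((nat_lit 1), [nat_lit 5, nat_lit 2, nat_lit 5, nat_lit 1, nat_lit 0])))))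
 (.node (nat_lit 811) (.node (nat_lit 809) (.leaf ((nat_lit 1), [nat_lit 4, nat_lit 5, nat_lit 1, nat_lit 0])) (.node (nat_lit 810) (.leaf ((nat_lit 2), [nat_lit 1, nat_lit 2, nat_lit 1, nat_lit 3])) (.leaf ((nat_lit 2), [nat_lit 5, nat_lit 4, nat_lit 0, nat_lit 5, nat_lit 4])))) (.node (nat_lit 812) (.leaf ((nat_lit 4), [nat_lit 5, nat_lit 1, nat_lit 2])) (.node (nat_lit 813) (.leaf ((nat_lit 2), [nat_lit 2, nat_lit 5, nat_lit 4, nat_lit 0, nat_lit 2])) (.leaf ((nat_lit 2), [nat_lit 2, nat_lit 5, nat_lit 4, nat_lit 1, nat_lit 3])))))))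
 (.node (nat_lit 825) (.node (nat_lit 819) (.node (nat_lit 816) (.node (nat_lit 815) (.leaf ((nat_lit 2), [nat_lit 2, nat_lit 1, nat_lit 5, nat_lit 4, nat_lit 0])) (.leaf ((nat_lit 2), [nat_lit 3, nat_lit 0, nat_lit 3, nat_lit 5]))) (.node (nat_lit 817) (.leaf ((nat_lit 2), [nat_lit 5, nat_lit 4, nat_lit 0, nat_lit 4])) (.node (nat_lit 818) (.leaf ((nat_lit 1), [nat_lit 5, nat_lit 0])) (.leaf ((nat_lit 2), [nat_lit 5, nat_lit 3, nat_lit 0])))))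
 (.node (nat_lit 822) (.node (nat_lit 820) (.leaf ((nat_lit 2), [nat_lit 2, nat_lit 5, nat_lit 0, nat_lit 4])) (.node (nat_lit 821) (.leaf ((nat_lit 1), [nat_lit 1, nat_lit 5, nat_lit 0, nat_lit 2])) (.leaf ((nat_lit 3), [nat_lit 4, nat_lit 5, nat_lit 3])))) (.node (nat_lit 823) (.leaf ((nat_lit 3), [nat_lit 5, nat_lit 3, nat_lit 0])) (.node (nat_lit 824) (.leaf ((nat_lit 3), [nat_lit 4, nat_lit 1, nat_lit 5, nat_lit 0])) (.leaf ((nat_lit 1), [nat_lit 5, nat_lit 0, nat_lit 5, nat_lit 4]))))))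
 (.node (nat_lit 830) (.node (nat_lit 827) (.node (nat_lit 826) (.leaf ((nat_lit 2), [nat_lit 3, nat_lit 1, nat_lit 5, nat_lit 4, nat_lit 2])) (.leaf ((nat_lit 1), [nat_lit 3, nat_lit 1, nat_lit 5, nat_lit 1]))) (.node (nat_lit 828) (.leaf ((nat_lit 2), [nat_lit 2, nat_lit 5, nat_lit 1, nat_lit 2])) (.node (nat_lit 829) (.leaf ((nat_lit 2), [nat_lit 5, nat_lit 3, nat_lit 0, nat_lit 2])) (.leaf ((nat_lit 1), [nat_lit 3, nat_lit 5, nat_lit 0, nat_lit 5, nat_lit 1])))))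
 (.node (nat_lit 833) (.node (nat_lit 831) (.leaf ((nat_lit 1), [nat_lit 4, nat_lit 5, nat_lit 1, nat_lit 3, nat_lit 1])) (.node (nat_lit 832) (.leaf ((nat_lit 1), [nat_lit 2, nat_lit 1, nat_lit 5, nat_lit 0, nat_lit 2])) (.leaf ((nat_lit 1), [nat_lit 3, nat_lit 5, nat_lit 0])))) (.node (nat_lit 834) (.leaf ((nat_lit 2), [nat_lit 1, nat_lit 5, nat_lit 4, nat_lit 0, nat_lit 3])) (.node (nat_lit 835) (.leaf ((nat_lit 1), [nat_lit 2, nat_lit 5, nat_lit 0, nat_lit 5, nat_lit 1])) (.leaf ((nat_lit 2), [nat_lit 5, nat_lit 4, nat_lit 2]))))))))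
 (.node (nat_lit 858) (.node (nat_lit 847) (.node (nat_lit 841) (.node (nat_lit 838) (.node (nat_lit 837) (.leaf ((nat_lit 2), [nat_lit 1, nat_lit 0, nat_lit 5, nat_lit 0])) (.leaf ((nat_lit 1), [nat_lit 4, nat_lit 5, nat_lit 0, nat_lit 4]))) (.node (nat_lit 839) (.leaf ((nat_lit 2), [nat_lit 5, nat_lit 0, nat_lit 2, nat_lit 1, nat_lit 5])) (.node (nat_lit 840) (.leaf ((nat_lit 2), [nat_lit 3, nat_lit 1, nat_lit 0, nat_lit 3, nat_lit 5, nat_lit 0])) (.leaf ((nat_lit 2), [nat_lit 4, nat_lit 1, nat_lit 5, nat_lit 0])))))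
 (.node (nat_lit 844) (.node (nat_lit 842) (.leaf ((nat_lit 2), [nat_lit 4, nat_lit 1, nat_lit 5, nat_lit 2])) (.node (nat_lit 843) (.leaf ((nat_lit 2), [nat_lit 4, nat_lit 3, nat_lit 5, nat_lit 4, nat_lit 3])) (.leaf ((nat_lit 2), [nat_lit 5, nat_lit 1, nat_lit 2, nat_lit 5, nat_lit 3])))) (.node (nat_lit 845) (.leaf ((nat_lit 2), [nat_lit 1, nat_lit 3, nat_lit 1, nat_lit 5])) (.node (nat_lit 846) (.leaf ((nat_lit 1), [nat_lit 4, nat_lit 0, nat_lit 5, nat_lit 0, nat_lit 5, nat_lit 0])) (.leaf ((nat_lit 2), [nat_lit 4, nat_lit 1, nat_lit 4, nat_lit 0, nat_lit 2]))))))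
 (.node (nat_lit 852) (.node (nat_lit 849) (.node (nat_lit 848) (.leaf ((nat_lit 2), [nat_lit 5, nat_lit 1, nat_lit 2, nat_lit 1, nat_lit 2])) (.leaf ((nat_lit 2), [nat_lit 5, nat_lit 0, nat_lit 5, nat_lit 3]))) (.node (nat_lit 850) (.leaf ((nat_lit 2), [nat_lit 3, nat_lit 1, nat_lit 2, nat_lit 5, nat_lit 3, nat_lit 0])) (.node (nat_lit 851) (.leaf ((nat_lit 2), [nat_lit 4, nat_lit 0, nat_lit 4, nat_lit 5, nat_lit 0])) (.leaf ((nat_lit 2), [nat_lit 1, nat_lit 4, nat_lit 5, nat_lit 1, nat_lit 3])))))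
 (.node (nat_lit 855) (.node (nat_lit 853) (.leaf ((nat_lit 2), [nat_lit 0, nat_lit 4, nat_lit 1, nat_lit 5, nat_lit 3, nat_lit 0])) (.node (nat_lit 854) (.leaf ((nat_lit 2), [nat_lit 2, nat_lit 0, nat_lit 5, nat_lit 0, nat_lit 5])) (.leaf ((nat_lit 2), [nat_lit 3, nat_lit 1, nat_lit 3, nat_lit 5, nat_lit 3, nat_lit 0])))) (.node (nat_lit 856) (.leaf ((nat_lit 1), [nat_lit 0, nat_lit 5, nat_lit 1, nat_lit 3, nat_lit 1])) (.node (nat_lit 857) (.leaf ((nat_lit 2), [nat_lit 3, nat_lit 5, nat_lit 1, nat_lit 2, nat_lit 0])) (.leaf ((nat_lit 1), [nat_lit 5, nat_lit 1, nat_lit 3, nat_lit 5, nat_lit 3])))))))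
 (.node (nat_lit 869) (.node (nat_lit 863) (.node (nat_lit 860) (.node (nat_lit 859) (.leaf ((nat_lit 1), [nat_lit 1, nat_lit 5, nat_lit 1, nat_lit 0])) (.leaf ((nat_lit 2), [nat_lit 4, nat_lit 1, nat_lit 2, nat_lit 5, nat_lit 3, nat_lit 0]))) (.node (nat_lit 861) (.leaf ((nat_lit 1), [nat_lit 3, nat_lit 0, nat_lit 5, nat_lit 4])) (.node (nat_lit 862) (.leaf ((nat_lit 4), [nat_lit 5, nat_lit 3, nat_lit 5, nat_lit 2])) (.leaf ((nat_lit 1), [nat_lit 4, nat_lit 3, nat_lit 5])))))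
 (.node (nat_lit 866) (.node (nat_lit 864) (.leaf ((nat_lit 1), [nat_lit 2, nat_lit 5, nat_lit 0, nat_lit 5, nat_lit 0])) (.node (nat_lit 865) (.leaf ((nat_lit 2), [nat_lit 2, nat_lit 5, nat_lit 4, nat_lit 0, nat_lit 5, nat_lit 3])) (.leaf ((nat_lit 2), [nat_lit 4, nat_lit 5, nat_lit 3, nat_lit 0, nat_lit 2])))) (.node (nat_lit 867) (.leaf ((nat_lit 3), [nat_lit 3, nat_lit 0])) (.node (nat_lit 868) (.leaf ((nat_lit 2), [nat_lit 3, nat_lit 1, nat_lit 5, nat_lit 4, nat_lit 0])) (.leaf ((nat_lit 1), [nat_lit 2, nat_lit 5, nat_lit 1]))))))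
 (.node (nat_lit 874) (.node (nat_lit 871) (.node (nat_lit 870) (.leaf ((nat_lit 2), [nat_lit 5, nat_lit 3, nat_lit 5, nat_lit 3])) (.leaf ((nat_lit 2), [nat_lit 2, nat_lit 5, nat_lit 3, nat_lit 1, nat_lit 3]))) (.node (nat_lit 872) (.leaf ((nat_lit 1), [nat_lit 1, nat_lit 2, nat_lit 1, nat_lit 3])) (.node (nat_lit 873) (.leaf ((nat_lit 1), [nat_lit 0, nat_lit 4])) (.leaf ((nat_lit 2), [nat_lit 2, nat_lit 0, nat_lit 3, nat_lit 1, nat_lit 2])))))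
 (.node (nat_lit 877) (.node (nat_lit 875) (.leaf ((nat_lit 2), [nat_lit 2, nat_lit 5, nat_lit 2, nat_lit 1, nat_lit 3])) (.node (nat_lit 876) (.leaf ((nat_lit 2), [nat_lit 4, nat_lit 1, nat_lit 0, nat_lit 5, nat_lit 0])) (.leaf ((nat_lit 1), [nat_lit 1, nat_lit 3, nat_lit 5, nat_lit 1, nat_lit 0])))) (.node (nat_lit 878) (.leaf ((nat_lit 1), [nat_lit 0, nat_lit 5, nat_lit 0, nat_lit 5])) (.node (nat_lit 879) (.leaf ((nat_lit 2), [nat_lit 4, nat_lit 0, nat_lit 5])) (.leaf ((nat_lit 2), [nat_lit 2, nat_lit 0, nat_lit 4, nat_lit 0]))))))))))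
noncomputable def bPA_5 : Tr (ℕ × List ℕ) := (.node (nat_lit 968) (.node (nat_lit 924) (.node (nat_lit 902) (.node (nat_lit 891) (.node (nat_lit 885) (.node (nat_lit 882) (.node (nat_lit 881) (.leaf ((nat_lit 1), [nat_lit 3, nat_lit 5, nat_lit 3])) (.leaf ((nat_lit 1), [nat_lit 0, nat_lit 3, nat_lit 1, nat_lit 0]))) (.node (nat_lit 883) (.leaf ((nat_lit 3), [nat_lit 3, nat_lit 5, nat_lit 0])) (.node (nat_lit 884) (.leaf ((nat_lit 2), [nat_lit 1, nat_lit 0, nat_lit 5, nat_lit 0, nat_lit 2])) (.leaf ((nat_lit 2), [nat_lit 5, nat_lit 3, nat_lit 1, nat_lit 4, nat_lit 5, nat_lit 2])))))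
 (.node (nat_lit 888) (.node (nat_lit 886) (.leaf ((nat_lit 4), [nat_lit 4, nat_lit 0, nat_lit 5, nat_lit 0])) (.node (nat_lit 887) (.leaf ((nat_lit 4), [nat_lit 0, nat_lit 5, nat_lit 2, nat_lit 0])) (.leaf ((nat_lit 1), [nat_lit 1, nat_lit 4, nat_lit 3])))) (.node (nat_lit 889) (.leaf ((nat_lit 2), [nat_lit 4, nat_lit 2, nat_lit 5, nat_lit 4, nat_lit 3])) (.node (nat_lit 890) (.leaf ((nat_lit 1), [nat_lit 1, nat_lit 2, nat_lit 0, nat_lit 5, nat_lit 3])) (.leaf ((nat_lit 2), [nat_lit 5, nat_lit 4]))))))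
 (.node (nat_lit 896) (.node (nat_lit 893) (.node (nat_lit 892) (.leaf ((nat_lit 3), [nat_lit 5, nat_lit 0, nat_lit 4, nat_lit 5])) (.leaf ((nat_lit 1), [nat_lit 4, nat_lit 0, nat_lit 5, nat_lit 3]))) (.node (nat_lit 894) (.leaf ((nat_lit 2), [nat_lit 2, nat_lit 0, nat_lit 4, nat_lit 5, nat_lit 3])) (.node (nat_lit 895) (.leaf ((nat_lit 1), [nat_lit 3, nat_lit 1, nat_lit 5, nat_lit 4, nat_lit 1])) (.leaf ((nat_lit 1), [nat_lit 4, nat_lit 2, nat_lit 1])))))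
 (.node (nat_lit 899) (.node (nat_lit 897) (.leaf ((nat_lit 1), [nat_lit 0, nat_lit 5, nat_lit 2, nat_lit 1])) (.node (nat_lit 898) (.leaf ((nat_lit 2), [nat_lit 0, nat_lit 4, nat_lit 5, nat_lit 0, nat_lit 3, nat_lit 0])) (.leaf ((nat_lit 2), [nat_lit 3, nat_lit 1, nat_lit 4, nat_lit 5, nat_lit 2])))) (.node (nat_lit 900) (.leaf ((nat_lit 2), [nat_lit 4, nat_lit 5, nat_lit 4, nat_lit 3, nat_lit 0])) (.node (nat_lit 901) (.leaf ((nat_lit 3), [nat_lit 5, nat_lit 2, nat_lit 5, nat_lit 4])) (.leaf ((nat_lit 2), [nat_lit 0, nat_lit 5, nat_lit 3, nat_lit 1, nat_lit 5, nat_lit 2])))))))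
 (.node (nat_lit 913) (.node (nat_lit 907) (.node (nat_lit 904) (.node (nat_lit 903) (.leaf ((nat_lit 1), [nat_lit 3, nat_lit 1, nat_lit 3, nat_lit 1])) (.leaf ((nat_lit 1), [nat_lit 0, nat_lit 2, nat_lit 1, nat_lit 5, nat_lit 0]))) (.node (nat_lit 905) (.leaf ((nat_lit 2), [nat_lit 4, nat_lit 5, nat_lit 3, nat_lit 5, nat_lit 2])) (.node (nat_lit 906) (.leaf ((nat_lit 2), [nat_lit 5, nat_lit 3, nat_lit 1, nat_lit 5, nat_lit 4, nat_lit 0])) (.leaf ((nat_lit 1), [nat_lit 0, nat_lit 4, nat_lit 3])))))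
 (.node (nat_lit 910) (.node (nat_lit 908) (.leaf ((nat_lit 2), [nat_lit 0, nat_lit 4, nat_lit 0, nat_lit 5, nat_lit 0])) (.node (nat_lit 909) (.leaf ((nat_lit 2), [nat_lit 1, nat_lit 4, nat_lit 5, nat_lit 3])) (.leaf ((nat_lit 2), [nat_lit 3, nat_lit 5, nat_lit 1, nat_lit 3])))) (.node (nat_lit 911) (.leaf ((nat_lit 4), [nat_lit 3, nat_lit 0, nat_lit 5, nat_lit 2, nat_lit 0])) (.node (nat_lit 912) (.leaf ((nat_lit 2), [nat_lit 4, nat_lit 2, nat_lit 1, nat_lit 2, nat_lit 0])) (.leaf ((nat_lit 1), [nat_lit 4, nat_lit 0, nat_lit 5, nat_lit 0]))))))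
 (.node (nat_lit 918) (.node (nat_lit 915) (.node (nat_lit 914) (.leaf ((nat_lit 2), [nat_lit 4, nat_lit 5, nat_lit 0, nat_lit 4, nat_lit 2])) (.leaf ((nat_lit 2), [nat_lit 3, nat_lit 0, nat_lit 5, nat_lit 0, nat_lit 2]))) (.node (nat_lit 916) (.leaf ((nat_lit 2), [nat_lit 4, nat_lit 5, nat_lit 0, nat_lit 5])) (.node (nat_lit 917) (.leaf ((nat_lit 2), [nat_lit 2, nat_lit 1, nat_lit 0, nat_lit 3, nat_lit 0])) (.leaf ((nat_lit 3), [nat_lit 3, nat_lit 0, nat_lit 5, nat_lit 0])))))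
 (.node (nat_lit 921) (.node (nat_lit 919) (.leaf ((nat_lit 4), [nat_lit 2])) (.node (nat_lit 920) (.leaf ((nat_lit 1), [nat_lit 3, nat_lit 1])) (.leaf ((nat_lit 1), [nat_lit 3, nat_lit 0, nat_lit 2, nat_lit 0, nat_lit 5])))) (.node (nat_lit 922) (.leaf ((nat_lit 2), [nat_lit 5, nat_lit 0, nat_lit 4, nat_lit 3])) (.node (nat_lit 923) (.leaf ((nat_lit 3), [nat_lit 2, nat_lit 5, nat_lit 3, nat_lit 0])) (.leaf ((nat_lit 2), [nat_lit 4, nat_lit 3, nat_lit 5, nat_lit 0]))))))))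
 (.node (nat_lit 946) (.node (nat_lit 935) (.node (nat_lit 929) (.node (nat_lit 926) (.node (nat_lit 925) (.leaf ((nat_lit 2), [nat_lit 4, nat_lit 5, nat_lit 3, nat_lit 0, nat_lit 3, nat_lit 0])) (.leaf ((nat_lit 2), [nat_lit 5, nat_lit 0, nat_lit 3, nat_lit 1, nat_lit 5]))) (.node (nat_lit 927) (.leaf ((nat_lit 2), [nat_lit 1, nat_lit 3, nat_lit 1, nat_lit 3, nat_lit 0])) (.node (nat_lit 928) (.leaf ((nat_lit 4), [nat_lit 4, nat_lit 5, nat_lit 0])) (.leaf ((nat_lit 2), [nat_lit 4, nat_lit 3, nat_lit 5, nat_lit 4, nat_lit 0])))))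
 (.node (nat_lit 932) (.node (nat_lit 930) (.leaf ((nat_lit 2), [nat_lit 2, nat_lit 0, nat_lit 3, nat_lit 0])) (.node (nat_lit 931) (.leaf ((nat_lit 1), [nat_lit 2, nat_lit 0, nat_lit 2, nat_lit 0])) (.leaf ((nat_lit 2), [nat_lit 1, nat_lit 4, nat_lit 3, nat_lit 5, nat_lit 3, nat_lit 0])))) (.node (nat_lit 933) (.leaf ((nat_lit 2), [nat_lit 0, nat_lit 4])) (.node (nat_lit 934) (.leaf ((nat_lit 1), [nat_lit 1, nat_lit 2, nat_lit 5, nat_lit 4])) (.leaf ((nat_lit 2), [nat_lit 4, nat_lit 5, nat_lit 2]))))))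
 (.node (nat_lit 940) (.node (nat_lit 937) (.node (nat_lit 936) (.leaf ((nat_lit 1), [nat_lit 3, nat_lit 1, nat_lit 5, nat_lit 3, nat_lit 0])) (.leaf ((nat_lit 1), [nat_lit 0, nat_lit 5, nat_lit 4, nat_lit 1]))) (.node (nat_lit 938) (.leaf ((nat_lit 1), [nat_lit 5, nat_lit 3, nat_lit 5, nat_lit 4, nat_lit 1])) (.node (nat_lit 939) (.leaf ((nat_lit 2), [nat_lit 3, nat_lit 5, nat_lit 4, nat_lit 3])) (.leaf ((nat_lit 2), [nat_lit 4, nat_lit 5, nat_lit 2, nat_lit 0, nat_lit 4, nat_lit 2])))))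
 (.node (nat_lit 943) (.node (nat_lit 941) (.leaf ((nat_lit 2), [nat_lit 5, nat_lit 4, nat_lit 3, nat_lit 0])) (.node (nat_lit 942) (.leaf ((nat_lit 5), [nat_lit 3, nat_lit 5])) (.leaf ((nat_lit 1), [nat_lit 4, nat_lit 3, nat_lit 5, nat_lit 4, nat_lit 1])))) (.node (nat_lit 944) (.leaf ((nat_lit 2), [nat_lit 4, nat_lit 1, nat_lit 2])) (.node (nat_lit 945) (.leaf ((nat_lit 1), [nat_lit 4, nat_lit 3, nat_lit 5, nat_lit 0, nat_lit 4])) (.leaf ((nat_lit 2), [nat_lit 2, nat_lit 0, nat_lit 2])))))))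
 (.node (nat_lit 957) (.node (nat_lit 951) (.node (nat_lit 948) (.node (nat_lit 947) (.leaf ((nat_lit 2), [nat_lit 5, nat_lit 0, nat_lit 2, nat_lit 0])) (.leaf ((nat_lit 3), [nat_lit 5]))) (.node (nat_lit 949) (.leaf ((nat_lit 3), [nat_lit 4, nat_lit 0, nat_lit 5, nat_lit 3])) (.node (nat_lit 950) (.leaf ((nat_lit 2), [nat_lit 0, nat_lit 2, nat_lit 0])) (.leaf ((nat_lit 1), [nat_lit 4, nat_lit 1, nat_lit 0, nat_lit 5])))))
 (.node (nat_lit 954) (.node (nat_lit 952) (.leaf ((nat_lit 1), [nat_lit 5, nat_lit 0, nat_lit 5, nat_lit 3, nat_lit 0])) (.node (nat_lit 953) (.leaf ((nat_lit 1), [nat_lit 5, nat_lit 3, nat_lit 5, nat_lit 4, nat_lit 3])) (.leaf ((nat_lit 1), [nat_lit 4, nat_lit 2, nat_lit 5, nat_lit 1, nat_lit 3])))) (.node (nat_lit 955) (.leaf ((nat_lit 4), [nat_lit 5, nat_lit 4, nat_lit 0])) (.node (nat_lit 956) (.leaf ((nat_lit 4), [nat_lit 0, nat_lit 5, nat_lit 4, nat_lit 3]))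 (.leaf ((nat_lit 1), [nat_lit 1, nat_lit 5, nat_lit 4, nat_lit 5]))))))
 (.node (nat_lit 962) (.node (nat_lit 959) (.node (nat_lit 958) (.leaf ((nat_lit 1), [nat_lit 5, nat_lit 1, nat_lit 3, nat_lit 1])) (.leaf ((nat_lit 2), [nat_lit 2, nat_lit 0, nat_lit 5, nat_lit 3]))) (.node (nat_lit 960) (.leaf ((nat_lit 2), [nat_lit 2, nat_lit 5, nat_lit 1, nat_lit 4, nat_lit 0])) (.node (nat_lit 961) (.leaf ((nat_lit 2), [nat_lit 5, nat_lit 0, nat_lit 4, nat_lit 5, nat_lit 3, nat_lit 0])) (.leaf ((nat_lit 1), [nat_lit 4, nat_lit 3, nat_lit 5, nat_lit 4])))))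
 (.node (nat_lit 965) (.node (nat_lit 963) (.leaf ((nat_lit 2), [nat_lit 4, nat_lit 2, nat_lit 5, nat_lit 0])) (.node (nat_lit 964) (.leaf ((nat_lit 2), [nat_lit 3, nat_lit 5, nat_lit 1, nat_lit 4, nat_lit 2, nat_lit 0])) (.leaf ((nat_lit 1), [nat_lit 0, nat_lit 4, nat_lit 2, nat_lit 5, nat_lit 3])))) (.node (nat_lit 966) (.leaf ((nat_lit 2), [nat_lit 1, nat_lit 3, nat_lit 0, nat_lit 4, nat_lit 0])) (.node (nat_lit 967) (.leaf ((nat_lit 2), [nat_lit 2, nat_lit 1, nat_lit 5, nat_lit 2])) (.leaf ((nat_lit 1), [nat_lit 0, nat_lit 4, nat_lit 5])))))))))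
 (.node (nat_lit 1012) (.node (nat_lit 990) (.node (nat_lit 979) (.node (nat_lit 973) (.node (nat_lit 970) (.node (nat_lit 969) (.leaf ((nat_lit 2), [nat_lit 2, nat_lit 1, nat_lit 0, nat_lit 5, nat_lit 0])) (.leaf ((nat_lit 1), [nat_lit 0, nat_lit 5, nat_lit 2, nat_lit 0, nat_lit 5]))) (.node (nat_lit 971) (.leaf ((nat_lit 2), [nat_lit 5, nat_lit 3, nat_lit 5, nat_lit 0, nat_lit 4])) (.node (nat_lit 972) (.leaf ((nat_lit 1), [nat_lit 3, nat_lit 5, nat_lit 1, nat_lit 0])) (.leaf ((nat_lit 2), [nat_lit 0, nat_lit 2, nat_lit 1, nat_lit 5, nat_lit 4, nat_lit 0])))))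
 (.node (nat_lit 976) (.node (nat_lit 974) (.leaf ((nat_lit 2), [nat_lit 0, nat_lit 4, nat_lit 5])) (.node (nat_lit 975) (.leaf ((nat_lit 2), [nat_lit 3, nat_lit 1, nat_lit 3, nat_lit 5, nat_lit 0])) (.leaf ((nat_lit 2), [nat_lit 5, nat_lit 3, nat_lit 1, nat_lit 0, nat_lit 3])))) (.node (nat_lit 977) (.leaf ((nat_lit 2), [nat_lit 1, nat_lit 3, nat_lit 0, nat_lit 5, nat_lit 4])) (.node (nat_lit 978) (.leaf ((nat_lit 2), [nat_lit 1, nat_lit 0, nat_lit 2])) (.leaf ((nat_lit 2), [nat_lit 0, nat_lit 5, nat_lit 0, nat_lit 2, nat_lit 0]))))))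
 (.node (nat_lit 984) (.node (nat_lit 981) (.node (nat_lit 980) (.leaf ((nat_lit 2), [nat_lit 4, nat_lit 5, nat_lit 2, nat_lit 1, nat_lit 5, nat_lit 0])) (.leaf ((nat_lit 1), [nat_lit 1, nat_lit 0, nat_lit 2, nat_lit 1, nat_lit 5, nat_lit 0]))) (.node (nat_lit 982) (.leaf ((nat_lit 1), [nat_lit 5, nat_lit 4, nat_lit 2, nat_lit 0, nat_lit 5])) (.node (nat_lit 983) (.leaf ((nat_lit 1), [nat_lit 2, nat_lit 0, nat_lit 5, nat_lit 2, nat_lit 5])) (.leaf ((nat_lit 3), [nat_lit 3, nat_lit 1, nat_lit 5, nat_lit 0])))))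
 (.node (nat_lit 987) (.node (nat_lit 985) (.leaf ((nat_lit 2), [nat_lit 1, nat_lit 4, nat_lit 5, nat_lit 4])) (.node (nat_lit 986) (.leaf ((nat_lit 1), [nat_lit 5, nat_lit 4, nat_lit 1, nat_lit 5])) (.leaf ((nat_lit 2), [nat_lit 2, nat_lit 1, nat_lit 5, nat_lit 0, nat_lit 2])))) (.node (nat_lit 988) (.leaf ((nat_lit 2), [nat_lit 5, nat_lit 1, nat_lit 0, nat_lit 5, nat_lit 3])) (.node (nat_lit 989) (.leaf ((nat_lit 1), [nat_lit 2, nat_lit 5, nat_lit 4, nat_lit 2])) (.leaf ((nat_lit 2), [nat_lit 3, nat_lit 1, nat_lit 4, nat_lit 5, nat_lit 3, nat_lit 0])))))))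
 (.node (nat_lit 1001) (.node (nat_lit 995) (.node (nat_lit 992) (.node (nat_lit 991) (.leaf ((nat_lit 2), [nat_lit 4, nat_lit 3])) (.leaf ((nat_lit 1), [nat_lit 4, nat_lit 0, nat_lit 4, nat_lit 5]))) (.node (nat_lit 993) (.leaf ((nat_lit 1), [nat_lit 1, nat_lit 4, nat_lit 5, nat_lit 1, nat_lit 0])) (.node (nat_lit 994) (.leaf ((nat_lit 2), [nat_lit 4, nat_lit 5, nat_lit 2, nat_lit 0])) (.leaf ((nat_lit 2), [nat_lit 5, nat_lit 2, nat_lit 5, nat_lit 3])))))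
 (.node (nat_lit 998) (.node (nat_lit 996) (.leaf ((nat_lit 2), [nat_lit 5, nat_lit 3])) (.node (nat_lit 997) (.leaf ((nat_lit 2), [nat_lit 3, nat_lit 5, nat_lit 4, nat_lit 0, nat_lit 5, nat_lit 4])) (.leaf ((nat_lit 2), [nat_lit 4, nat_lit 5, nat_lit 1, nat_lit 2, nat_lit 0])))) (.node (nat_lit 999) (.leaf ((nat_lit 2), [nat_lit 4, nat_lit 5, nat_lit 3, nat_lit 5, nat_lit 0])) (.node (nat_lit 1000) (.leaf ((nat_lit 2), [nat_lit 1, nat_lit 5, nat_lit 4, nat_lit 0, nat_lit 2, nat_lit 0])) (.leaf ((nat_lit 2), [nat_lit 5, nat_lit 2, nat_lit 0]))))))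
 (.node (nat_lit 1006) (.node (nat_lit 1003) (.node (nat_lit 1002) (.leaf ((nat_lit 2), [nat_lit 5, nat_lit 3, nat_lit 5, nat_lit 1, nat_lit 2, nat_lit 1, nat_lit 2])) (.leaf ((nat_lit 2), [nat_lit 2, nat_lit 5, nat_lit 1, nat_lit 0, nat_lit 4, nat_lit 2]))) (.node (nat_lit 1004) (.leaf ((nat_lit 4), [nat_lit 4, nat_lit 5, nat_lit 3, nat_lit 5, nat_lit 0])) (.node (nat_lit 1005) (.leaf ((nat_lit 1), [nat_lit 3, nat_lit 1, nat_lit 3, nat_lit 5])) (.leaf ((nat_lit 2), [nat_lit 5, nat_lit 2])))))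
 (.node (nat_lit 1009) (.node (nat_lit 1007) (.leaf ((nat_lit 1), [nat_lit 4, nat_lit 2, nat_lit 5, nat_lit 2, nat_lit 0])) (.node (nat_lit 1008) (.leaf ((nat_lit 2), [nat_lit 5, nat_lit 2, nat_lit 1, nat_lit 5])) (.leaf ((nat_lit 1), [nat_lit 5, nat_lit 2, nat_lit 5, nat_lit 2, nat_lit 1])))) (.node (nat_lit 1010) (.leaf ((nat_lit 2), [nat_lit 1, nat_lit 5, nat_lit 3, nat_lit 5])) (.node (nat_lit 1011) (.leaf ((nat_lit 1), [nat_lit 4, nat_lit 1, nat_lit 4, nat_lit 5])) (.leaf ((nat_lit 2), [nat_lit 2, nat_lit 0, nat_lit 5, nat_lit 4]))))))))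
 (.node (nat_lit 1034) (.node (nat_lit 1023) (.node (nat_lit 1017) (.node (nat_lit 1014) (.node (nat_lit 1013) (.leaf ((nat_lit 2), [nat_lit 0])) (.leaf ((nat_lit 4), [nat_lit 2, nat_lit 5, nat_lit 3, nat_lit 0]))) (.node (nat_lit 1015) (.leaf ((nat_lit 2), [nat_lit 5, nat_lit 0, nat_lit 4, nat_lit 2, nat_lit 0])) (.node (nat_lit 1016) (.leaf ((nat_lit 2), [nat_lit 5, nat_lit 0, nat_lit 4, nat_lit 0])) (.leaf ((nat_lit 1), [nat_lit 5, nat_lit 1, nat_lit 4, nat_lit 2, nat_lit 5])))))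
 (.node (nat_lit 1020) (.node (nat_lit 1018) (.leaf ((nat_lit 2), [nat_lit 5, nat_lit 3, nat_lit 1, nat_lit 2])) (.node (nat_lit 1019) (.leaf ((nat_lit 2), [nat_lit 5, nat_lit 2, nat_lit 5, nat_lit 0])) (.leaf ((nat_lit 2), [nat_lit 4, nat_lit 0, nat_lit 5, nat_lit 0, nat_lit 4])))) (.node (nat_lit 1021) (.leaf ((nat_lit 2), [nat_lit 5, nat_lit 1, nat_lit 3, nat_lit 0, nat_lit 4])) (.node (nat_lit 1022) (.leaf ((nat_lit 2), [nat_lit 4, nat_lit 0, nat_lit 5, nat_lit 0, nat_lit 2])) (.leaf ((nat_lit 2), [nat_lit 4, nat_lit 2, nat_lit 0, nat_lit 4]))))))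
 (.node (nat_lit 1028) (.node (nat_lit 1025) (.node (nat_lit 1024) (.leaf ((nat_lit 2), [nat_lit 2, nat_lit 1, nat_lit 4, nat_lit 3, nat_lit 0])) (.leaf ((nat_lit 2), [nat_lit 2, nat_lit 1, nat_lit 5, nat_lit 0, nat_lit 4]))) (.node (nat_lit 1026) (.leaf ((nat_lit 1), [nat_lit 5, nat_lit 0, nat_lit 2, nat_lit 0])) (.node (nat_lit 1027) (.leaf ((nat_lit 2), [nat_lit 3, nat_lit 5, nat_lit 1, nat_lit 2])) (.leaf ((nat_lit 2), [nat_lit 2, nat_lit 0, nat_lit 5, nat_lit 3, nat_lit 5])))))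
 (.node (nat_lit 1031) (.node (nat_lit 1029) (.leaf ((nat_lit 2), [nat_lit 4, nat_lit 5, nat_lit 1, nat_lit 4, nat_lit 2, nat_lit 0])) (.node (nat_lit 1030) (.leaf ((nat_lit 2), [nat_lit 1, nat_lit 3, nat_lit 5, nat_lit 4, nat_lit 1, nat_lit 2])) (.leaf ((nat_lit 2), [nat_lit 4, nat_lit 5, nat_lit 0])))) (.node (nat_lit 1032) (.leaf ((nat_lit 2), [nat_lit 5, nat_lit 3, nat_lit 0, nat_lit 3, nat_lit 0])) (.node (nat_lit 1033) (.leaf ((nat_lit 2), [nat_lit 1, nat_lit 2, nat_lit 0])) (.leaf ((nat_lit 2), [nat_lit 4, nat_lit 1, nat_lit 5, nat_lit 1, nat_lit 3, nat_lit 0])))))))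
 (.node (nat_lit 1045) (.node (nat_lit 1039) (.node (nat_lit 1036) (.node (nat_lit 1035) (.leaf ((nat_lit 2), [nat_lit 4, nat_lit 5, nat_lit 3, nat_lit 5, nat_lit 3])) (.leaf ((nat_lit 3), [nat_lit 2, nat_lit 5]))) (.node (nat_lit 1037) (.leaf ((nat_lit 2), [nat_lit 4, nat_lit 2, nat_lit 5, nat_lit 2, nat_lit 0])) (.node (nat_lit 1038) (.leaf ((nat_lit 1), [nat_lit 0, nat_lit 5, nat_lit 3])) (.leaf ((nat_lit 2), [nat_lit 5, nat_lit 4, nat_lit 0, nat_lit 5, nat_lit 2])))))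
 (.node (nat_lit 1042) (.node (nat_lit 1040) (.leaf ((nat_lit 2), [nat_lit 5, nat_lit 4, nat_lit 3, nat_lit 5, nat_lit 2, nat_lit 0])) (.node (nat_lit 1041) (.leaf ((nat_lit 5), [nat_lit 5, nat_lit 1, nat_lit 3])) (.leaf ((nat_lit 1), [nat_lit 4, nat_lit 5])))) (.node (nat_lit 1043) (.leaf ((nat_lit 2), [nat_lit 1, nat_lit 4, nat_lit 0, nat_lit 2])) (.node (nat_lit 1044) (.leaf ((nat_lit 2), [nat_lit 5, nat_lit 1, nat_lit 3, nat_lit 1, nat_lit 2])) (.leaf ((nat_lit 1), [nat_lit 1, nat_lit 3, nat_lit 1]))))))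
 (.node (nat_lit 1050) (.node (nat_lit 1047) (.node (nat_lit 1046) (.leaf ((nat_lit 1), [nat_lit 2, nat_lit 0, nat_lit 5, nat_lit 2, nat_lit 1, nat_lit 0])) (.leaf ((nat_lit 2), [nat_lit 3, nat_lit 1, nat_lit 0, nat_lit 5, nat_lit 4]))) (.node (nat_lit 1048) (.leaf ((nat_lit 4), [nat_lit 5, nat_lit 2, nat_lit 0])) (.node (nat_lit 1049) (.leaf ((nat_lit 1), [nat_lit 0, nat_lit 4, nat_lit 2])) (.leaf ((nat_lit 1), [nat_lit 0, nat_lit 2, nat_lit 5, nat_lit 4])))))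
 (.node (nat_lit 1053) (.node (nat_lit 1051) (.leaf ((nat_lit 2), [nat_lit 2, nat_lit 1, nat_lit 4, nat_lit 0, nat_lit 5])) (.node (nat_lit 1052) (.leaf ((nat_lit 2), [nat_lit 1, nat_lit 5, nat_lit 3, nat_lit 1, nat_lit 5, nat_lit 2])) (.leaf ((nat_lit 2), [nat_lit 4, nat_lit 5, nat_lit 4, nat_lit 0, nat_lit 3, nat_lit 0])))) (.node (nat_lit 1054) (.leaf ((nat_lit 2), [nat_lit 5, nat_lit 2, nat_lit 0, nat_lit 3])) (.node (nat_lit 1055) (.leaf ((nat_lit 1), [nat_lit 5, nat_lit 0, nat_lit 5, nat_lit 1])) (.leaf ((nat_lit 1), [nat_lit 4, nat_lit 3, nat_lit 1, nat_lit 5, nat_lit 1]))))))))))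
noncomputable def bPA_6 : Tr (ℕ × List ℕ) := (.node (nat_lit 1144) (.node (nat_lit 1100) (.node (nat_lit 1078) (.node (nat_lit 1067) (.node (nat_lit 1061) (.node (nat_lit 1058) (.node (nat_lit 1057) (.leaf ((nat_lit 1), [nat_lit 1, nat_lit 5])) (.leaf ((nat_lit 2), [nat_lit 3, nat_lit 1, nat_lit 0, nat_lit 5]))) (.node (nat_lit 1059) (.leaf ((nat_lit 2), [nat_lit 1, nat_lit 2, nat_lit 1, nat_lit 5, nat_lit 3])) (.node (nat_lit 1060) (.leaf ((nat_lit 3), [nat_lit 3, nat_lit 5, nat_lit 2, nat_lit 5])) (.leaf ((nat_lit 2), [nat_lit 5, nat_lit 4, nat_lit 0, nat_lit 5])))))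
 (.node (nat_lit 1064) (.node (nat_lit 1062) (.leaf ((nat_lit 4), [nat_lit 1, nat_lit 5, nat_lit 2, nat_lit 0])) (.node (nat_lit 1063) (.leaf ((nat_lit 2), [nat_lit 4, nat_lit 1, nat_lit 2, nat_lit 0])) (.leaf ((nat_lit 2), [nat_lit 5, nat_lit 2, nat_lit 1, nat_lit 5, nat_lit 2])))) (.node (nat_lit 1065) (.leaf ((nat_lit 3), [nat_lit 2, nat_lit 1, nat_lit 5])) (.node (nat_lit 1066) (.leaf ((nat_lit 4), [nat_lit 5, nat_lit 2])) (.leaf ((nat_lit 2), [nat_lit 2, nat_lit 0, nat_lit 2, nat_lit 0]))))))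
 (.node (nat_lit 1072) (.node (nat_lit 1069) (.node (nat_lit 1068) (.leaf ((nat_lit 2), [nat_lit 4, nat_lit 3, nat_lit 5, nat_lit 2])) (.leaf ((nat_lit 1), [nat_lit 3, nat_lit 0, nat_lit 5, nat_lit 0, nat_lit 5]))) (.node (nat_lit 1070) (.leaf ((nat_lit 2), [nat_lit 5, nat_lit 4, nat_lit 0, nat_lit 4, nat_lit 2])) (.node (nat_lit 1071) (.leaf ((nat_lit 1), [nat_lit 5, nat_lit 4, nat_lit 5, nat_lit 1, nat_lit 3])) (.leaf ((nat_lit 2), [nat_lit 5, nat_lit 3, nat_lit 0, nat_lit 2, nat_lit 0])))))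
 (.node (nat_lit 1075) (.node (nat_lit 1073) (.leaf ((nat_lit 1), [nat_lit 4, nat_lit 2, nat_lit 0])) (.node (nat_lit 1074) (.leaf ((nat_lit 2), [nat_lit 1, nat_lit 4, nat_lit 0])) (.leaf ((nat_lit 1), [nat_lit 5, nat_lit 2, nat_lit 5])))) (.node (nat_lit 1076) (.leaf ((nat_lit 1), [nat_lit 5, nat_lit 3, nat_lit 0, nat_lit 2, nat_lit 0])) (.node (nat_lit 1077) (.leaf ((nat_lit 2), [nat_lit 3, nat_lit 0, nat_lit 2, nat_lit 0])) (.leaf ((nat_lit 2), [nat_lit 5, nat_lit 1, nat_lit 4, nat_lit 0, nat_lit 5, nat_lit 2])))))))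
 (.node (nat_lit 1089) (.node (nat_lit 1083) (.node (nat_lit 1080) (.node (nat_lit 1079) (.leaf ((nat_lit 2), [nat_lit 3, nat_lit 1, nat_lit 0, nat_lit 2])) (.leaf ((nat_lit 2), [nat_lit 5, nat_lit 1, nat_lit 0, nat_lit 5, nat_lit 3, nat_lit 0]))) (.node (nat_lit 1081) (.leaf ((nat_lit 2), [nat_lit 3, nat_lit 0, nat_lit 3, nat_lit 1, nat_lit 2])) (.node (nat_lit 1082) (.leaf ((nat_lit 2), [nat_lit 3, nat_lit 0, nat_lit 4, nat_lit 5])) (.leaf ((nat_lit 2), [nat_lit 5, nat_lit 4, nat_lit 3, nat_lit 1, nat_lit 2])))))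
 (.node (nat_lit 1086) (.node (nat_lit 1084) (.leaf ((nat_lit 2), [nat_lit 4, nat_lit 3, nat_lit 5, nat_lit 2, nat_lit 5, nat_lit 0])) (.node (nat_lit 1085) (.leaf ((nat_lit 1), [nat_lit 5, nat_lit 1, nat_lit 3])) (.leaf ((nat_lit 2), [nat_lit 1, nat_lit 0, nat_lit 3, nat_lit 0, nat_lit 5, nat_lit 3])))) (.node (nat_lit 1087) (.leaf ((nat_lit 1), [nat_lit 4, nat_lit 5, nat_lit 2, nat_lit 0])) (.node (nat_lit 1088) (.leaf ((nat_lit 2), [nat_lit 4, nat_lit 3, nat_lit 1, nat_lit 3, nat_lit 0])) (.leaf ((nat_lit 4), [nat_lit 5, nat_lit 3]))))))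
 (.node (nat_lit 1094) (.node (nat_lit 1091) (.node (nat_lit 1090) (.leaf ((nat_lit 1), [nat_lit 1, nat_lit 2, nat_lit 5, nat_lit 0])) (.leaf ((nat_lit 2), [nat_lit 4, nat_lit 5, nat_lit 0, nat_lit 4]))) (.node (nat_lit 1092) (.leaf ((nat_lit 2), [nat_lit 2, nat_lit 5, nat_lit 0, nat_lit 4, nat_lit 5])) (.node (nat_lit 1093) (.leaf ((nat_lit 2), [nat_lit 4, nat_lit 0, nat_lit 4, nat_lit 2])) (.leaf ((nat_lit 3), [nat_lit 3, nat_lit 5, nat_lit 3])))))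
 (.node (nat_lit 1097) (.node (nat_lit 1095) (.leaf ((nat_lit 2), [nat_lit 3, nat_lit 5, nat_lit 0, nat_lit 5, nat_lit 3, nat_lit 0])) (.node (nat_lit 1096) (.leaf ((nat_lit 2), [nat_lit 5, nat_lit 1, nat_lit 4, nat_lit 0])) (.leaf ((nat_lit 4), [nat_lit 0, nat_lit 2, nat_lit 5, nat_lit 2, nat_lit 0])))) (.node (nat_lit 1098) (.leaf ((nat_lit 2), [nat_lit 1, nat_lit 2, nat_lit 5, nat_lit 1, nat_lit 2, nat_lit 0])) (.node (nat_lit 1099) (.leaf ((nat_lit 1), [nat_lit 4, nat_lit 2, nat_lit 5, nat_lit 0])) (.leaf ((nat_lit 2), [nat_lit 3, nat_lit 5, nat_lit 2, nat_lit 1, nat_lit 2]))))))))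
 (.node (nat_lit 1122) (.node (nat_lit 1111) (.node (nat_lit 1105) (.node (nat_lit 1102) (.node (nat_lit 1101) (.leaf ((nat_lit 2), [nat_lit 4, nat_lit 2, nat_lit 0, nat_lit 4, nat_lit 2])) (.leaf ((nat_lit 2), [nat_lit 0, nat_lit 4, nat_lit 5, nat_lit 4, nat_lit 3]))) (.node (nat_lit 1103) (.leaf ((nat_lit 4), [nat_lit 4])) (.node (nat_lit 1104) (.leaf ((nat_lit 2), [nat_lit 4, nat_lit 2, nat_lit 0])) (.leaf ((nat_lit 5), [nat_lit 2, nat_lit 5, nat_lit 2])))))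
 (.node (nat_lit 1108) (.node (nat_lit 1106) (.leaf ((nat_lit 2), [nat_lit 1, nat_lit 2])) (.node (nat_lit 1107) (.leaf ((nat_lit 5), [nat_lit 1, nat_lit 3])) (.leaf ((nat_lit 2), [nat_lit 3, nat_lit 5, nat_lit 0, nat_lit 4, nat_lit 0])))) (.node (nat_lit 1109) (.leaf ((nat_lit 2), [nat_lit 0, nat_lit 2, nat_lit 5, nat_lit 4, nat_lit 0])) (.node (nat_lit 1110) (.leaf ((nat_lit 2), [nat_lit 1, nat_lit 4, nat_lit 5, nat_lit 1, nat_lit 2])) (.leaf ((nat_lit 2), [nat_lit 5, nat_lit 2, nat_lit 1, nat_lit 4, nat_lit 5, nat_lit 0]))))))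
 (.node (nat_lit 1116) (.node (nat_lit 1113) (.node (nat_lit 1112) (.leaf ((nat_lit 3), [nat_lit 5, nat_lit 2, nat_lit 5])) (.leaf ((nat_lit 2), [nat_lit 0, nat_lit 5, nat_lit 4, nat_lit 2, nat_lit 5]))) (.node (nat_lit 1114) (.leaf ((nat_lit 2), [nat_lit 1, nat_lit 5, nat_lit 1, nat_lit 4, nat_lit 2, nat_lit 0])) (.node (nat_lit 1115) (.leaf ((nat_lit 2), [nat_lit 4, nat_lit 3, nat_lit 5, nat_lit 2, nat_lit 0])) (.leaf ((nat_lit 2), [nat_lit 3, nat_lit 5, nat_lit 3])))))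
 (.node (nat_lit 1119) (.node (nat_lit 1117) (.leaf ((nat_lit 2), [nat_lit 4, nat_lit 3, nat_lit 1, nat_lit 3])) (.node (nat_lit 1118) (.leaf ((nat_lit 1), [nat_lit 4, nat_lit 3, nat_lit 0, nat_lit 5])) (.leaf ((nat_lit 1), [nat_lit 0, nat_lit 2, nat_lit 5, nat_lit 1, nat_lit 0])))) (.node (nat_lit 1120) (.leaf ((nat_lit 2), [nat_lit 1, nat_lit 0, nat_lit 2, nat_lit 5, nat_lit 3])) (.node (nat_lit 1121) (.leaf ((nat_lit 2), [nat_lit 0, nat_lit 5, nat_lit 2, nat_lit 0, nat_lit 2])) (.leaf ((nat_lit 2), [nat_lit 5, nat_lit 3, nat_lit 1, nat_lit 4, nat_lit 2])))))))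
 (.node (nat_lit 1133) (.node (nat_lit 1127) (.node (nat_lit 1124) (.node (nat_lit 1123) (.leaf ((nat_lit 2), [nat_lit 3, nat_lit 0, nat_lit 4, nat_lit 5, nat_lit 3])) (.leaf ((nat_lit 2), [nat_lit 2, nat_lit 1, nat_lit 3]))) (.node (nat_lit 1125) (.leaf ((nat_lit 3), [nat_lit 3, nat_lit 5, nat_lit 3, nat_lit 5, nat_lit 0])) (.node (nat_lit 1126) (.leaf ((nat_lit 2), [nat_lit 4, nat_lit 5, nat_lit 3, nat_lit 5])) (.leaf ((nat_lit 1), [nat_lit 5, nat_lit 3, nat_lit 1, nat_lit 5, nat_lit 1, nat_lit 0])))))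
 (.node (nat_lit 1130) (.node (nat_lit 1128) (.leaf ((nat_lit 3), [nat_lit 5, nat_lit 3, nat_lit 5, nat_lit 2])) (.node (nat_lit 1129) (.leaf ((nat_lit 1), [nat_lit 5, nat_lit 4])) (.leaf ((nat_lit 2), [nat_lit 2, nat_lit 1, nat_lit 0, nat_lit 2])))) (.node (nat_lit 1131) (.leaf ((nat_lit 2), [nat_lit 5, nat_lit 2, nat_lit 1, nat_lit 3])) (.node (nat_lit 1132) (.leaf ((nat_lit 1), [nat_lit 0, nat_lit 5, nat_lit 0, nat_lit 4, nat_lit 2])) (.leaf ((nat_lit 1), [nat_lit 4, nat_lit 5, nat_lit 0, nat_lit 5, nat_lit 1]))))))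
 (.node (nat_lit 1138) (.node (nat_lit 1135) (.node (nat_lit 1134) (.leaf ((nat_lit 2), [nat_lit 3, nat_lit 1, nat_lit 0, nat_lit 5, nat_lit 3])) (.leaf ((nat_lit 2), [nat_lit 1, nat_lit 4, nat_lit 5, nat_lit 0, nat_lit 3, nat_lit 0]))) (.node (nat_lit 1136) (.leaf ((nat_lit 5), [nat_lit 4, nat_lit 5, nat_lit 2])) (.node (nat_lit 1137) (.leaf ((nat_lit 3), [nat_lit 5, nat_lit 4, nat_lit 1, nat_lit 5])) (.leaf ((nat_lit 2), [nat_lit 4, nat_lit 5, nat_lit 4, nat_lit 1, nat_lit 4, nat_lit 0])))))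
 (.node (nat_lit 1141) (.node (nat_lit 1139) (.leaf ((nat_lit 2), [nat_lit 1, nat_lit 2, nat_lit 5])) (.node (nat_lit 1140) (.leaf ((nat_lit 2), [nat_lit 5, nat_lit 3, nat_lit 1, nat_lit 5, nat_lit 2])) (.leaf ((nat_lit 2), [nat_lit 4, nat_lit 5, nat_lit 4, nat_lit 0, nat_lit 4])))) (.node (nat_lit 1142) (.leaf ((nat_lit 1), [nat_lit 5, nat_lit 4, nat_lit 0, nat_lit 4])) (.node (nat_lit 1143) (.leaf ((nat_lit 2), [nat_lit 1, nat_lit 3, nat_lit 1, nat_lit 2, nat_lit 5, nat_lit 3])) (.leaf ((nat_lit 2), [nat_lit 4, nat_lit 1, nat_lit 4, nat_lit 0])))))))))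
 (.node (nat_lit 1188) (.node (nat_lit 1166) (.node (nat_lit 1155) (.node (nat_lit 1149) (.node (nat_lit 1146) (.node (nat_lit 1145) (.leaf ((nat_lit 1), [nat_lit 2, nat_lit 5, nat_lit 2, nat_lit 1, nat_lit 0])) (.leaf ((nat_lit 2), [nat_lit 5, nat_lit 1, nat_lit 4, nat_lit 0, nat_lit 5]))) (.node (nat_lit 1147) (.leaf ((nat_lit 4), [nat_lit 5, nat_lit 0, nat_lit 5, nat_lit 0])) (.node (nat_lit 1148) (.leaf ((nat_lit 1), [nat_lit 3, nat_lit 0, nat_lit 5, nat_lit 3])) (.leaf ((nat_lit 1), [nat_lit 3, nat_lit 5, nat_lit 1])))))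
 (.node (nat_lit 1152) (.node (nat_lit 1150) (.leaf ((nat_lit 2), [nat_lit 3, nat_lit 5, nat_lit 0, nat_lit 4, nat_lit 5])) (.node (nat_lit 1151) (.leaf ((nat_lit 2), [nat_lit 1, nat_lit 5, nat_lit 0, nat_lit 4])) (.leaf ((nat_lit 2), [nat_lit 1, nat_lit 2, nat_lit 5, nat_lit 3])))) (.node (nat_lit 1153) (.leaf ((nat_lit 3), [nat_lit 3, nat_lit 5, nat_lit 2])) (.node (nat_lit 1154) (.leaf ((nat_lit 1), [nat_lit 5, nat_lit 4, nat_lit 3, nat_lit 5])) (.leaf ((nat_lit 2), [nat_lit 4, nat_lit 1, nat_lit 4, nat_lit 5, nat_lit 2]))))))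
 (.node (nat_lit 1160) (.node (nat_lit 1157) (.node (nat_lit 1156) (.leaf ((nat_lit 1), [nat_lit 4, nat_lit 5, nat_lit 3, nat_lit 5, nat_lit 0])) (.leaf ((nat_lit 1), [nat_lit 4, nat_lit 5, nat_lit 0, nat_lit 4, nat_lit 2, nat_lit 0]))) (.node (nat_lit 1158) (.leaf ((nat_lit 4), [nat_lit 5, nat_lit 0, nat_lit 2])) (.node (nat_lit 1159) (.leaf ((nat_lit 2), [nat_lit 3, nat_lit 5, nat_lit 0, nat_lit 3, nat_lit 0])) (.leaf ((nat_lit 1), [nat_lit 5, nat_lit 2, nat_lit 0])))))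
 (.node (nat_lit 1163) (.node (nat_lit 1161) (.leaf ((nat_lit 1), [nat_lit 2])) (.node (nat_lit 1162) (.leaf ((nat_lit 2), [nat_lit 4, nat_lit 1, nat_lit 3])) (.leaf ((nat_lit 2), [nat_lit 0, nat_lit 4, nat_lit 0, nat_lit 3])))) (.node (nat_lit 1164) (.leaf ((nat_lit 2), [nat_lit 5, nat_lit 4, nat_lit 5, nat_lit 1, nat_lit 2])) (.node (nat_lit 1165) (.leaf ((nat_lit 2), [nat_lit 0, nat_lit 4, nat_lit 5, nat_lit 0, nat_lit 4, nat_lit 0])) (.leaf ((nat_lit 1), [nat_lit 1, nat_lit 3, nat_lit 5, nat_lit 4, nat_lit 1])))))))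
 (.node (nat_lit 1177) (.node (nat_lit 1171) (.node (nat_lit 1168) (.node (nat_lit 1167) (.leaf ((nat_lit 1), [nat_lit 1, nat_lit 2, nat_lit 1, nat_lit 5, nat_lit 0])) (.leaf ((nat_lit 1), [nat_lit 1, nat_lit 5, nat_lit 0, nat_lit 2, nat_lit 0]))) (.node (nat_lit 1169) (.leaf ((nat_lit 3), [nat_lit 5, nat_lit 3, nat_lit 5])) (.node (nat_lit 1170) (.leaf ((nat_lit 2), [nat_lit 3, nat_lit 5, nat_lit 4, nat_lit 1, nat_lit 3, nat_lit 0])) (.leaf ((nat_lit 3), [nat_lit 2, nat_lit 1, nat_lit 5, nat_lit 0])))))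
 (.node (nat_lit 1174) (.node (nat_lit 1172) (.leaf ((nat_lit 1), [nat_lit 0, nat_lit 5, nat_lit 2, nat_lit 1, nat_lit 0])) (.node (nat_lit 1173) (.leaf ((nat_lit 2), [nat_lit 4, nat_lit 5, nat_lit 0, nat_lit 4, nat_lit 3])) (.leaf ((nat_lit 1), [nat_lit 3, nat_lit 1, nat_lit 5, nat_lit 0, nat_lit 2])))) (.node (nat_lit 1175) (.leaf ((nat_lit 2), [nat_lit 1, nat_lit 5, nat_lit 4, nat_lit 2])) (.node (nat_lit 1176) (.leaf ((nat_lit 1), [nat_lit 2, nat_lit 5, nat_lit 3, nat_lit 0])) (.leaf ((nat_lit 2), [nat_lit 4, nat_lit 5, nat_lit 4]))))))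
 (.node (nat_lit 1182) (.node (nat_lit 1179) (.node (nat_lit 1178) (.leaf ((nat_lit 3), [nat_lit 4, nat_lit 2, nat_lit 5])) (.leaf ((nat_lit 2), [nat_lit 1, nat_lit 3, nat_lit 0, nat_lit 4]))) (.node (nat_lit 1180) (.leaf ((nat_lit 3), [nat_lit 2, nat_lit 5, nat_lit 4])) (.node (nat_lit 1181) (.leaf ((nat_lit 1), [nat_lit 0, nat_lit 5, nat_lit 4, nat_lit 5])) (.leaf ((nat_lit 1), [nat_lit 0, nat_lit 4, nat_lit 0])))))
 (.node (nat_lit 1185) (.node (nat_lit 1183) (.leaf ((nat_lit 2), [nat_lit 0, nat_lit 4, nat_lit 3, nat_lit 5, nat_lit 2])) (.node (nat_lit 1184) (.leaf ((nat_lit 4), [nat_lit 5, nat_lit 2, nat_lit 5, nat_lit 3])) (.leaf ((nat_lit 1), [nat_lit 5, nat_lit 3, nat_lit 1, nat_lit 3, nat_lit 1])))) (.node (nat_lit 1186) (.leaf ((nat_lit 2), [nat_lit 1, nat_lit 5, nat_lit 4])) (.node (nat_lit 1187) (.leaf ((nat_lit 1), [nat_lit 0, nat_lit 5, nat_lit 2, nat_lit 5, nat_lit 0]))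 (.leaf ((nat_lit 2), [nat_lit 3, nat_lit 1, nat_lit 5, nat_lit 3, nat_lit 0]))))))))
 (.node (nat_lit 1210) (.node (nat_lit 1199) (.node (nat_lit 1193) (.node (nat_lit 1190) (.node (nat_lit 1189) (.leaf ((nat_lit 2), [nat_lit 5, nat_lit 3, nat_lit 1, nat_lit 2, nat_lit 0])) (.leaf ((nat_lit 1), [nat_lit 1, nat_lit 2, nat_lit 1, nat_lit 0]))) (.node (nat_lit 1191) (.leaf ((nat_lit 2), [nat_lit 5, nat_lit 2, nat_lit 0, nat_lit 5, nat_lit 3])) (.node (nat_lit 1192) (.leaf ((nat_lit 2), [nat_lit 5, nat_lit 1, nat_lit 2])) (.leaf ((nat_lit 2), [nat_lit 2, nat_lit 5, nat_lit 4, nat_lit 1, nat_lit 2])))))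
 (.node (nat_lit 1196) (.node (nat_lit 1194) (.leaf ((nat_lit 2), [nat_lit 2, nat_lit 1, nat_lit 2, nat_lit 1, nat_lit 3])) (.node (nat_lit 1195) (.leaf ((nat_lit 2), [nat_lit 4, nat_lit 5])) (.leaf ((nat_lit 2), [nat_lit 5, nat_lit 1, nat_lit 4, nat_lit 5, nat_lit 3])))) (.node (nat_lit 1197) (.leaf ((nat_lit 3), [nat_lit 5, nat_lit 2])) (.node (nat_lit 1198) (.leaf ((nat_lit 2), [nat_lit 1, nat_lit 5, nat_lit 0])) (.leaf ((nat_lit 3), [nat_lit 4, nat_lit 1, nat_lit 5]))))))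
 (.node (nat_lit 1204) (.node (nat_lit 1201) (.node (nat_lit 1200) (.leaf ((nat_lit 1), [nat_lit 5, nat_lit 0, nat_lit 5])) (.leaf ((nat_lit 2), [nat_lit 1, nat_lit 2, nat_lit 5, nat_lit 0, nat_lit 5]))) (.node (nat_lit 1202) (.leaf ((nat_lit 1), [nat_lit 3, nat_lit 0, nat_lit 2, nat_lit 0])) (.node (nat_lit 1203) (.leaf ((nat_lit 1), [nat_lit 2, nat_lit 0, nat_lit 5, nat_lit 1])) (.leaf ((nat_lit 2), [nat_lit 4, nat_lit 1, nat_lit 0, nat_lit 4, nat_lit 0])))))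
 (.node (nat_lit 1207) (.node (nat_lit 1205) (.leaf ((nat_lit 2), [nat_lit 3, nat_lit 5, nat_lit 3, nat_lit 5])) (.node (nat_lit 1206) (.leaf ((nat_lit 2), [nat_lit 5, nat_lit 0, nat_lit 2])) (.leaf ((nat_lit 1), [nat_lit 2, nat_lit 0, nat_lit 5])))) (.node (nat_lit 1208) (.leaf ((nat_lit 2), [nat_lit 3, nat_lit 5, nat_lit 4, nat_lit 0, nat_lit 3])) (.node (nat_lit 1209) (.leaf ((nat_lit 2), [nat_lit 0, nat_lit 5, nat_lit 3, nat_lit 1, nat_lit 3])) (.leaf ((nat_lit 2), [nat_lit 4, nat_lit 3, nat_lit 0, nat_lit 2])))))))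
 (.node (nat_lit 1221) (.node (nat_lit 1215) (.node (nat_lit 1212) (.node (nat_lit 1211) (.leaf ((nat_lit 2), [nat_lit 0, nat_lit 5, nat_lit 1, nat_lit 0, nat_lit 4, nat_lit 0])) (.leaf ((nat_lit 2), [nat_lit 1, nat_lit 3, nat_lit 5, nat_lit 1, nat_lit 2, nat_lit 0]))) (.node (nat_lit 1213) (.leaf ((nat_lit 2), [nat_lit 4, nat_lit 0, nat_lit 5, nat_lit 3, nat_lit 0])) (.node (nat_lit 1214) (.leaf ((nat_lit 1), [nat_lit 4, nat_lit 0, nat_lit 5, nat_lit 4, nat_lit 1])) (.leaf ((nat_lit 1), [nat_lit 2, nat_lit 5, nat_lit 0, nat_lit 4, nat_lit 2, nat_lit 0])))))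
 (.node (nat_lit 1218) (.node (nat_lit 1216) (.leaf ((nat_lit 2), [nat_lit 2, nat_lit 5, nat_lit 1, nat_lit 0, nat_lit 5, nat_lit 2])) (.node (nat_lit 1217) (.leaf ((nat_lit 1), [nat_lit 5, nat_lit 4, nat_lit 2, nat_lit 5])) (.leaf ((nat_lit 2), [nat_lit 4, nat_lit 5, nat_lit 2, nat_lit 5, nat_lit 0, nat_lit 4])))) (.node (nat_lit 1219) (.leaf ((nat_lit 2), [nat_lit 0, nat_lit 5, nat_lit 4, nat_lit 1, nat_lit 3, nat_lit 0])) (.node (nat_lit 1220) (.leaf ((nat_lit 2), [nat_lit 2, nat_lit 0, nat_lit 4, nat_lit 2])) (.leaf ((nat_lit 1), [nat_lit 5, nat_lit 3, nat_lit 5, nat_lit 3, nat_lit 0]))))))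
 (.node (nat_lit 1226) (.node (nat_lit 1223) (.node (nat_lit 1222) (.leaf ((nat_lit 2), [nat_lit 3, nat_lit 0, nat_lit 4, nat_lit 0])) (.leaf ((nat_lit 1), [nat_lit 3, nat_lit 1, nat_lit 5]))) (.node (nat_lit 1224) (.leaf ((nat_lit 2), [nat_lit 1, nat_lit 3, nat_lit 0, nat_lit 5, nat_lit 3])) (.node (nat_lit 1225) (.leaf ((nat_lit 2), [nat_lit 2, nat_lit 0, nat_lit 5, nat_lit 1, nat_lit 3])) (.leaf ((nat_lit 2), [nat_lit 4, nat_lit 5, nat_lit 1, nat_lit 4, nat_lit 0])))))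
 (.node (nat_lit 1229) (.node (nat_lit 1227) (.leaf ((nat_lit 1), [nat_lit 4, nat_lit 3])) (.node (nat_lit 1228) (.leaf ((nat_lit 2), [nat_lit 2, nat_lit 1, nat_lit 4, nat_lit 5, nat_lit 4])) (.leaf ((nat_lit 1), [nat_lit 2, nat_lit 1, nat_lit 5, nat_lit 4])))) (.node (nat_lit 1230) (.leaf ((nat_lit 2), [nat_lit 2, nat_lit 0, nat_lit 4, nat_lit 5, nat_lit 0])) (.node (nat_lit 1231) (.leaf ((nat_lit 2), [nat_lit 0, nat_lit 4, nat_lit 5, nat_lit 2, nat_lit 0])) (.leaf ((nat_lit 2), [nat_lit 4, nat_lit 5, nat_lit 0, nat_lit 4, nat_lit 5, nat_lit 0]))))))))))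
noncomputable def bPA_7 : Tr (ℕ × List ℕ) := (.node (nat_lit 1320) (.node (nat_lit 1276) (.node (nat_lit 1254) (.node (nat_lit 1243) (.node (nat_lit 1237) (.node (nat_lit 1234) (.node (nat_lit 1233) (.leaf ((nat_lit 2), [nat_lit 5, nat_lit 3, nat_lit 1, nat_lit 5, nat_lit 3])) (.leaf ((nat_lit 2), [nat_lit 0, nat_lit 4, nat_lit 2, nat_lit 5]))) (.node (nat_lit 1235) (.leaf ((nat_lit 2), [nat_lit 4, nat_lit 2, nat_lit 0, nat_lit 4, nat_lit 0])) (.node (nat_lit 1236) (.leaf ((nat_lit 2), [nat_lit 5, nat_lit 0, nat_lit 3, nat_lit 1, nat_lit 5, nat_lit 0])) (.leaf ((nat_lit 2), [nat_lit 0, nat_lit 3])))))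
 (.node (nat_lit 1240) (.node (nat_lit 1238) (.leaf ((nat_lit 2), [nat_lit 1, nat_lit 4, nat_lit 5, nat_lit 0, nat_lit 4])) (.node (nat_lit 1239) (.leaf ((nat_lit 5), [nat_lit 1, nat_lit 5, nat_lit 2])) (.leaf ((nat_lit 2), [nat_lit 5, nat_lit 1, nat_lit 4, nat_lit 5, nat_lit 1, nat_lit 2])))) (.node (nat_lit 1241) (.leaf ((nat_lit 1), [nat_lit 5, nat_lit 3, nat_lit 1, nat_lit 0])) (.node (nat_lit 1242) (.leaf ((nat_lit 2), [nat_lit 1, nat_lit 4, nat_lit 3, nat_lit 5, nat_lit 0])) (.leaf ((nat_lit 2), [nat_lit 5, nat_lit 2, nat_lit 1, nat_lit 0, nat_lit 3]))))))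
 (.node (nat_lit 1248) (.node (nat_lit 1245) (.node (nat_lit 1244) (.leaf ((nat_lit 2), [nat_lit 0, nat_lit 5, nat_lit 1, nat_lit 4, nat_lit 0])) (.leaf ((nat_lit 2), [nat_lit 5, nat_lit 0, nat_lit 5, nat_lit 4]))) (.node (nat_lit 1246) (.leaf ((nat_lit 2), [nat_lit 4, nat_lit 0, nat_lit 5, nat_lit 4])) (.node (nat_lit 1247) (.leaf ((nat_lit 2), [nat_lit 4, nat_lit 0, nat_lit 5, nat_lit 4, nat_lit 1, nat_lit 2])) (.leaf ((nat_lit 2), [nat_lit 2, nat_lit 0, nat_lit 4, nat_lit 5, nat_lit 3, nat_lit 0])))))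
 (.node (nat_lit 1251) (.node (nat_lit 1249) (.leaf ((nat_lit 1), [nat_lit 5, nat_lit 4, nat_lit 3, nat_lit 0])) (.node (nat_lit 1250) (.leaf ((nat_lit 2), [nat_lit 5, nat_lit 4, nat_lit 0, nat_lit 3])) (.leaf ((nat_lit 2), [nat_lit 0, nat_lit 5, nat_lit 0, nat_lit 2])))) (.node (nat_lit 1252) (.leaf ((nat_lit 2), [nat_lit 1, nat_lit 3, nat_lit 0])) (.node (nat_lit 1253) (.leaf ((nat_lit 3), [nat_lit 4, nat_lit 0, nat_lit 5, nat_lit 0])) (.leaf ((nat_lit 2), [nat_lit 5, nat_lit 2, nat_lit 5, nat_lit 3, nat_lit 0])))))))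
 (.node (nat_lit 1265) (.node (nat_lit 1259) (.node (nat_lit 1256) (.node (nat_lit 1255) (.leaf ((nat_lit 1), [nat_lit 5, nat_lit 2, nat_lit 1, nat_lit 3])) (.leaf ((nat_lit 1), [nat_lit 4, nat_lit 2, nat_lit 0, nat_lit 5]))) (.node (nat_lit 1257) (.leaf ((nat_lit 2), [nat_lit 5, nat_lit 3, nat_lit 1, nat_lit 3, nat_lit 5, nat_lit 0])) (.node (nat_lit 1258) (.leaf ((nat_lit 2), [nat_lit 5, nat_lit 4, nat_lit 1, nat_lit 2])) (.leaf ((nat_lit 2), [nat_lit 1, nat_lit 2, nat_lit 1, nat_lit 2])))))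
 (.node (nat_lit 1262) (.node (nat_lit 1260) (.leaf ((nat_lit 2), [nat_lit 0, nat_lit 3, nat_lit 5, nat_lit 4])) (.node (nat_lit 1261) (.leaf ((nat_lit 2), [nat_lit 0, nat_lit 2, nat_lit 1, nat_lit 3])) (.leaf ((nat_lit 2), [nat_lit 5, nat_lit 2, nat_lit 5, nat_lit 0, nat_lit 4])))) (.node (nat_lit 1263) (.leaf ((nat_lit 2), [nat_lit 3, nat_lit 5, nat_lit 4, nat_lit 1, nat_lit 2])) (.node (nat_lit 1264) (.leaf ((nat_lit 2), [nat_lit 3, nat_lit 5, nat_lit 4, nat_lit 5, nat_lit 0])) (.leaf ((nat_lit 2), [nat_lit 5, nat_lit 1, nat_lit 0, nat_lit 4, nat_lit 0]))))))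
 (.node (nat_lit 1270) (.node (nat_lit 1267) (.node (nat_lit 1266) (.leaf ((nat_lit 2), [nat_lit 5, nat_lit 0, nat_lit 5])) (.leaf ((nat_lit 2), [nat_lit 5, nat_lit 4, nat_lit 1, nat_lit 5, nat_lit 4, nat_lit 0]))) (.node (nat_lit 1268) (.leaf ((nat_lit 2), [nat_lit 0, nat_lit 3, nat_lit 0])) (.node (nat_lit 1269) (.leaf ((nat_lit 2), [nat_lit 4, nat_lit 3, nat_lit 5, nat_lit 3, nat_lit 5])) (.leaf ((nat_lit 2), [nat_lit 4, nat_lit 2, nat_lit 5, nat_lit 4])))))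
 (.node (nat_lit 1273) (.node (nat_lit 1271) (.leaf ((nat_lit 3), [nat_lit 5, nat_lit 2, nat_lit 1, nat_lit 5, nat_lit 0])) (.node (nat_lit 1272) (.leaf ((nat_lit 2), [nat_lit 1, nat_lit 0, nat_lit 5, nat_lit 3, nat_lit 0])) (.leaf ((nat_lit 2), [nat_lit 5, nat_lit 0, nat_lit 4, nat_lit 5])))) (.node (nat_lit 1274) (.leaf ((nat_lit 2), [nat_lit 3, nat_lit 1, nat_lit 4, nat_lit 5, nat_lit 0])) (.node (nat_lit 1275) (.leaf ((nat_lit 2), [nat_lit 2, nat_lit 0, nat_lit 2, nat_lit 5, nat_lit 4, nat_lit 3])) (.leaf ((nat_lit 2), [nat_lit 5, nat_lit 2, nat_lit 5, nat_lit 1, nat_lit 3]))))))))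
 (.node (nat_lit 1298) (.node (nat_lit 1287) (.node (nat_lit 1281) (.node (nat_lit 1278) (.node (nat_lit 1277) (.leaf ((nat_lit 2), [nat_lit 4, nat_lit 2, nat_lit 1, nat_lit 5, nat_lit 3])) (.leaf ((nat_lit 2), [nat_lit 3, nat_lit 1, nat_lit 2, nat_lit 0]))) (.node (nat_lit 1279) (.leaf ((nat_lit 1), [nat_lit 1, nat_lit 5, nat_lit 0, nat_lit 5, nat_lit 0])) (.node (nat_lit 1280) (.leaf ((nat_lit 4), [nat_lit 4, nat_lit 2])) (.leaf ((nat_lit 2), [nat_lit 5, nat_lit 2, nat_lit 5, nat_lit 4, nat_lit 2])))))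
 (.node (nat_lit 1284) (.node (nat_lit 1282) (.leaf ((nat_lit 2), [nat_lit 4, nat_lit 0, nat_lit 2])) (.node (nat_lit 1283) (.leaf ((nat_lit 2), [nat_lit 0, nat_lit 2, nat_lit 1, nat_lit 0, nat_lit 2])) (.leaf ((nat_lit 4), [nat_lit 0, nat_lit 2, nat_lit 0])))) (.node (nat_lit 1285) (.leaf ((nat_lit 1), [nat_lit 3, nat_lit 5, nat_lit 4])) (.node (nat_lit 1286) (.leaf ((nat_lit 2), [nat_lit 4, nat_lit 5, nat_lit 3])) (.leaf ((nat_lit 1), [nat_lit 1, nat_lit 3, nat_lit 5, nat_lit 3, nat_lit 1, nat_lit 0]))))))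
 (.node (nat_lit 1292) (.node (nat_lit 1289) (.node (nat_lit 1288) (.leaf ((nat_lit 3), [nat_lit 4, nat_lit 5])) (.leaf ((nat_lit 1), [nat_lit 2, nat_lit 5, nat_lit 1, nat_lit 0]))) (.node (nat_lit 1290) (.leaf ((nat_lit 2), [nat_lit 1, nat_lit 2, nat_lit 0, nat_lit 5, nat_lit 0, nat_lit 4])) (.node (nat_lit 1291) (.leaf ((nat_lit 1), [nat_lit 4, nat_lit 1, nat_lit 2, nat_lit 1, nat_lit 5])) (.leaf ((nat_lit 2), [nat_lit 2, nat_lit 5, nat_lit 4, nat_lit 0, nat_lit 5, nat_lit 2])))))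
 (.node (nat_lit 1295) (.node (nat_lit 1293) (.leaf ((nat_lit 1), [nat_lit 5, nat_lit 3, nat_lit 0, nat_lit 2, nat_lit 5, nat_lit 0])) (.node (nat_lit 1294) (.leaf ((nat_lit 2), [nat_lit 1, nat_lit 5, nat_lit 3, nat_lit 1, nat_lit 0, nat_lit 2])) (.leaf ((nat_lit 2), [nat_lit 2, nat_lit 5, nat_lit 1, nat_lit 4, nat_lit 2])))) (.node (nat_lit 1296) (.leaf ((nat_lit 2), [nat_lit 0, nat_lit 2, nat_lit 5, nat_lit 0, nat_lit 4])) (.node (nat_lit 1297) (.leaf ((nat_lit 1), [nat_lit 2, nat_lit 1, nat_lit 0])) (.leaf ((nat_lit 2), [nat_lit 0, nat_lit 3, nat_lit 0, nat_lit 5, nat_lit 4])))))))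
 (.node (nat_lit 1309) (.node (nat_lit 1303) (.node (nat_lit 1300) (.node (nat_lit 1299) (.leaf ((nat_lit 2), [nat_lit 0, nat_lit 2, nat_lit 0, nat_lit 5, nat_lit 4, nat_lit 0])) (.leaf ((nat_lit 1), [nat_lit 4, nat_lit 2, nat_lit 5, nat_lit 0, nat_lit 4]))) (.node (nat_lit 1301) (.leaf ((nat_lit 2), [nat_lit 2, nat_lit 0])) (.node (nat_lit 1302) (.leaf ((nat_lit 4), [nat_lit 3, nat_lit 0, nat_lit 5, nat_lit 0])) (.leaf ((nat_lit 2), [nat_lit 4, nat_lit 5, nat_lit 1, nat_lit 3, nat_lit 0])))))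
 (.node (nat_lit 1306) (.node (nat_lit 1304) (.leaf ((nat_lit 2), [nat_lit 3, nat_lit 1, nat_lit 2, nat_lit 5])) (.node (nat_lit 1305) (.leaf ((nat_lit 1), [nat_lit 1, nat_lit 2, nat_lit 1, nat_lit 0, nat_lit 5])) (.leaf ((nat_lit 4), [nat_lit 1, nat_lit 4, nat_lit 5, nat_lit 0])))) (.node (nat_lit 1307) (.leaf ((nat_lit 1), [nat_lit 1, nat_lit 3])) (.node (nat_lit 1308) (.leaf ((nat_lit 2), [nat_lit 4, nat_lit 0, nat_lit 3, nat_lit 0])) (.leaf ((nat_lit 2), [nat_lit 5, nat_lit 0, nat_lit 5, nat_lit 2]))))))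
 (.node (nat_lit 1314) (.node (nat_lit 1311) (.node (nat_lit 1310) (.leaf ((nat_lit 1), [nat_lit 5, nat_lit 1, nat_lit 4, nat_lit 0, nat_lit 5, nat_lit 1])) (.leaf ((nat_lit 2), [nat_lit 4, nat_lit 2, nat_lit 0, nat_lit 5, nat_lit 3]))) (.node (nat_lit 1312) (.leaf ((nat_lit 2), [nat_lit 4, nat_lit 0, nat_lit 2, nat_lit 1, nat_lit 3])) (.node (nat_lit 1313) (.leaf ((nat_lit 3), [nat_lit 0])) (.leaf ((nat_lit 1), [nat_lit 4, nat_lit 5, nat_lit 4, nat_lit 3, nat_lit 0])))))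
 (.node (nat_lit 1317) (.node (nat_lit 1315) (.leaf ((nat_lit 2), [nat_lit 0, nat_lit 3, nat_lit 5, nat_lit 0, nat_lit 5, nat_lit 0])) (.node (nat_lit 1316) (.leaf ((nat_lit 1), [nat_lit 0, nat_lit 4, nat_lit 0, nat_lit 5, nat_lit 1])) (.leaf ((nat_lit 2), [nat_lit 3, nat_lit 5, nat_lit 0, nat_lit 4, nat_lit 2, nat_lit 0])))) (.node (nat_lit 1318) (.leaf ((nat_lit 4), [nat_lit 1, nat_lit 4, nat_lit 5, nat_lit 3])) (.node (nat_lit 1319) (.leaf ((nat_lit 1), [nat_lit 3, nat_lit 1, nat_lit 0])) (.leaf ((nat_lit 2), [nat_lit 5, nat_lit 3, nat_lit 1, nat_lit 5])))))))))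
 (.node (nat_lit 1364) (.node (nat_lit 1342) (.node (nat_lit 1331) (.node (nat_lit 1325) (.node (nat_lit 1322) (.node (nat_lit 1321) (.leaf ((nat_lit 2), [nat_lit 1, nat_lit 0, nat_lit 5, nat_lit 3, nat_lit 5])) (.leaf ((nat_lit 3), [nat_lit 4, nat_lit 5, nat_lit 4]))) (.node (nat_lit 1323) (.leaf ((nat_lit 1), [nat_lit 1, nat_lit 0])) (.node (nat_lit 1324) (.leaf ((nat_lit 2), [nat_lit 1, nat_lit 4, nat_lit 3, nat_lit 5, nat_lit 2])) (.leaf ((nat_lit 1), [nat_lit 0, nat_lit 5, nat_lit 1])))))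
 (.node (nat_lit 1328) (.node (nat_lit 1326) (.leaf ((nat_lit 1), [nat_lit 1, nat_lit 5, nat_lit 1])) (.node (nat_lit 1327) (.leaf ((nat_lit 3), [nat_lit 4, nat_lit 2, nat_lit 5, nat_lit 3])) (.leaf ((nat_lit 5), [nat_lit 0, nat_lit 2])))) (.node (nat_lit 1329) (.leaf ((nat_lit 1), [nat_lit 0, nat_lit 5, nat_lit 3, nat_lit 5, nat_lit 1, nat_lit 0])) (.node (nat_lit 1330) (.leaf ((nat_lit 2), [nat_lit 4, nat_lit 5, nat_lit 4, nat_lit 1, nat_lit 3, nat_lit 0])) (.leaf ((nat_lit 3), [nat_lit 4, nat_lit 3, nat_lit 5, nat_lit 0]))))))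
 (.node (nat_lit 1336) (.node (nat_lit 1333) (.node (nat_lit 1332) (.leaf ((nat_lit 1), [nat_lit 4, nat_lit 5, nat_lit 1, nat_lit 3])) (.leaf ((nat_lit 1), [nat_lit 5, nat_lit 4, nat_lit 2, nat_lit 5, nat_lit 0]))) (.node (nat_lit 1334) (.leaf ((nat_lit 1), [nat_lit 0, nat_lit 2, nat_lit 1, nat_lit 5])) (.node (nat_lit 1335) (.leaf ((nat_lit 2), [nat_lit 3, nat_lit 5, nat_lit 4, nat_lit 2, nat_lit 5])) (.leaf ((nat_lit 4), [nat_lit 2, nat_lit 5, nat_lit 4, nat_lit 3])))))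
 (.node (nat_lit 1339) (.node (nat_lit 1337) (.leaf ((nat_lit 1), [nat_lit 3, nat_lit 5, nat_lit 3, nat_lit 5, nat_lit 4])) (.node (nat_lit 1338) (.leaf ((nat_lit 2), [nat_lit 5, nat_lit 3, nat_lit 1, nat_lit 0, nat_lit 5, nat_lit 3])) (.leaf ((nat_lit 2), [nat_lit 3, nat_lit 5, nat_lit 0, nat_lit 5])))) (.node (nat_lit 1340) (.leaf ((nat_lit 1), [nat_lit 2, nat_lit 5])) (.node (nat_lit 1341) (.leaf ((nat_lit 2), [nat_lit 4, nat_lit 2, nat_lit 5, nat_lit 1, nat_lit 3, nat_lit 0])) (.leaf ((nat_lit 2), [nat_lit 2, nat_lit 5, nat_lit 4, nat_lit 0, nat_lit 2, nat_lit 0])))))))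
 (.node (nat_lit 1353) (.node (nat_lit 1347) (.node (nat_lit 1344) (.node (nat_lit 1343) (.leaf ((nat_lit 2), [nat_lit 1, nat_lit 5, nat_lit 4, nat_lit 3])) (.leaf ((nat_lit 2), [nat_lit 2, nat_lit 5, nat_lit 0, nat_lit 5]))) (.node (nat_lit 1345) (.leaf ((nat_lit 2), [nat_lit 3, nat_lit 0, nat_lit 5, nat_lit 0, nat_lit 4, nat_lit 0])) (.node (nat_lit 1346) (.leaf ((nat_lit 2), [nat_lit 3, nat_lit 1, nat_lit 5, nat_lit 2])) (.leaf ((nat_lit 1), [nat_lit 5, nat_lit 0, nat_lit 4, nat_lit 2])))))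
 (.node (nat_lit 1350) (.node (nat_lit 1348) (.leaf ((nat_lit 1), [nat_lit 4, nat_lit 5, nat_lit 3, nat_lit 1, nat_lit 0])) (.node (nat_lit 1349) (.leaf ((nat_lit 2), [nat_lit 4, nat_lit 3, nat_lit 5, nat_lit 1, nat_lit 2, nat_lit 0])) (.leaf ((nat_lit 1), [nat_lit 0, nat_lit 3, nat_lit 1])))) (.node (nat_lit 1351) (.leaf ((nat_lit 2), [nat_lit 5, nat_lit 2, nat_lit 0, nat_lit 3, nat_lit 0])) (.node (nat_lit 1352) (.leaf ((nat_lit 2), [nat_lit 4, nat_lit 3, nat_lit 5, nat_lit 4])) (.leaf ((nat_lit 1), [nat_lit 2, nat_lit 5, nat_lit 3, nat_lit 5, nat_lit 0]))))))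
 (.node (nat_lit 1358) (.node (nat_lit 1355) (.node (nat_lit 1354) (.leaf ((nat_lit 2), [nat_lit 5, nat_lit 3, nat_lit 1, nat_lit 4, nat_lit 5, nat_lit 4])) (.leaf ((nat_lit 1), [nat_lit 5, nat_lit 1, nat_lit 0]))) (.node (nat_lit 1356) (.leaf ((nat_lit 1), [nat_lit 5, nat_lit 4, nat_lit 1, nat_lit 5, nat_lit 1])) (.node (nat_lit 1357) (.leaf ((nat_lit 2), [nat_lit 4, nat_lit 5, nat_lit 1, nat_lit 4, nat_lit 2])) (.leaf ((nat_lit 2), [nat_lit 1, nat_lit 3, nat_lit 5, nat_lit 0])))))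
 (.node (nat_lit 1361) (.node (nat_lit 1359) (.leaf ((nat_lit 2), [nat_lit 0, nat_lit 5, nat_lit 4, nat_lit 3, nat_lit 1, nat_lit 2])) (.node (nat_lit 1360) (.leaf ((nat_lit 2), [nat_lit 1, nat_lit 5, nat_lit 0, nat_lit 4, nat_lit 3])) (.leaf ((nat_lit 2), [nat_lit 2, nat_lit 1, nat_lit 3, nat_lit 1, nat_lit 2])))) (.node (nat_lit 1362) (.leaf ((nat_lit 1), [nat_lit 3, nat_lit 5])) (.node (nat_lit 1363) (.leaf ((nat_lit 3), [nat_lit 3, nat_lit 5])) (.leaf ((nat_lit 2), [nat_lit 3, nat_lit 1, nat_lit 5, nat_lit 0, nat_lit 3, nat_lit 0]))))))))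
 (.node (nat_lit 1386) (.node (nat_lit 1375) (.node (nat_lit 1369) (.node (nat_lit 1366) (.node (nat_lit 1365) (.leaf ((nat_lit 3), [nat_lit 1, nat_lit 5])) (.leaf ((nat_lit 2), [nat_lit 3, nat_lit 0, nat_lit 3, nat_lit 0]))) (.node (nat_lit 1367) (.leaf ((nat_lit 1), [nat_lit 0, nat_lit 2, nat_lit 0, nat_lit 5, nat_lit 0])) (.node (nat_lit 1368) (.leaf ((nat_lit 1), [nat_lit 1, nat_lit 4, nat_lit 0, nat_lit 5, nat_lit 2, nat_lit 1])) (.leaf ((nat_lit 2), [nat_lit 4, nat_lit 5, nat_lit 4, nat_lit 2])))))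
 (.node (nat_lit 1372) (.node (nat_lit 1370) (.leaf ((nat_lit 4), [nat_lit 4, nat_lit 5, nat_lit 3, nat_lit 0])) (.node (nat_lit 1371) (.leaf ((nat_lit 1), [nat_lit 3, nat_lit 5, nat_lit 2, nat_lit 1, nat_lit 3])) (.leaf ((nat_lit 2), [nat_lit 5, nat_lit 4, nat_lit 2, nat_lit 0, nat_lit 3])))) (.node (nat_lit 1373) (.leaf ((nat_lit 1), [nat_lit 1, nat_lit 2, nat_lit 5, nat_lit 0, nat_lit 5, nat_lit 1])) (.node (nat_lit 1374) (.leaf ((nat_lit 2), [nat_lit 5, nat_lit 1, nat_lit 3, nat_lit 1, nat_lit 3, nat_lit 0])) (.leaf ((nat_lit 2), [nat_lit 0, nat_lit 4, nat_lit 2, nat_lit 5, nat_lit 2, nat_lit 0]))))))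
 (.node (nat_lit 1380) (.node (nat_lit 1377) (.node (nat_lit 1376) (.leaf ((nat_lit 1), [nat_lit 1, nat_lit 0, nat_lit 3, nat_lit 5, nat_lit 4])) (.leaf ((nat_lit 2), [nat_lit 0, nat_lit 5, nat_lit 4, nat_lit 3]))) (.node (nat_lit 1378) (.leaf ((nat_lit 3), [nat_lit 2, nat_lit 0, nat_lit 5, nat_lit 3])) (.node (nat_lit 1379) (.leaf ((nat_lit 1), [nat_lit 2, nat_lit 5, nat_lit 2, nat_lit 1])) (.leaf ((nat_lit 2), [nat_lit 0, nat_lit 5, nat_lit 3, nat_lit 0])))))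
 (.node (nat_lit 1383) (.node (nat_lit 1381) (.leaf ((nat_lit 2), [nat_lit 0, nat_lit 3, nat_lit 5, nat_lit 0])) (.node (nat_lit 1382) (.leaf ((nat_lit 2), [nat_lit 5, nat_lit 4, nat_lit 0])) (.leaf ((nat_lit 2), [nat_lit 0, nat_lit 3, nat_lit 1, nat_lit 2])))) (.node (nat_lit 1384) (.leaf ((nat_lit 2), [nat_lit 1, nat_lit 0, nat_lit 5, nat_lit 4])) (.node (nat_lit 1385) (.leaf ((nat_lit 2), [nat_lit 5, nat_lit 3, nat_lit 5, nat_lit 2])) (.leaf ((nat_lit 2), [nat_lit 4, nat_lit 5, nat_lit 1, nat_lit 3])))))))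
 (.node (nat_lit 1397) (.node (nat_lit 1391) (.node (nat_lit 1388) (.node (nat_lit 1387) (.leaf ((nat_lit 3), [nat_lit 4, nat_lit 5, nat_lit 2, nat_lit 5])) (.leaf ((nat_lit 2), [nat_lit 5, nat_lit 4, nat_lit 1, nat_lit 5]))) (.node (nat_lit 1389) (.leaf ((nat_lit 5), [nat_lit 1, nat_lit 0, nat_lit 2])) (.node (nat_lit 1390) (.leaf ((nat_lit 3), [nat_lit 3])) (.leaf ((nat_lit 2), [nat_lit 3, nat_lit 5, nat_lit 1, nat_lit 2, nat_lit 0, nat_lit 2])))))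
 (.node (nat_lit 1394) (.node (nat_lit 1392) (.leaf ((nat_lit 1), [nat_lit 3, nat_lit 5, nat_lit 2, nat_lit 5, nat_lit 1])) (.node (nat_lit 1393) (.leaf ((nat_lit 2), [nat_lit 5, nat_lit 0, nat_lit 4, nat_lit 5, nat_lit 0])) (.leaf ((nat_lit 1), [nat_lit 0, nat_lit 5, nat_lit 0])))) (.node (nat_lit 1395) (.leaf ((nat_lit 3), [nat_lit 0, nat_lit 5, nat_lit 3])) (.node (nat_lit 1396) (.leaf ((nat_lit 1), [nat_lit 5])) (.leaf ((nat_lit 3), [nat_lit 5, nat_lit 0, nat_lit 5, nat_lit 0]))))))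
 (.node (nat_lit 1402) (.node (nat_lit 1399) (.node (nat_lit 1398) (.leaf ((nat_lit 2), [nat_lit 4, nat_lit 3, nat_lit 1, nat_lit 5, nat_lit 2])) (.leaf ((nat_lit 2), [nat_lit 4, nat_lit 5, nat_lit 4, nat_lit 3]))) (.node (nat_lit 1400) (.leaf ((nat_lit 2), [nat_lit 4, nat_lit 1, nat_lit 4, nat_lit 5, nat_lit 4, nat_lit 0])) (.node (nat_lit 1401) (.leaf ((nat_lit 5), [nat_lit 4, nat_lit 5])) (.leaf ((nat_lit 2), [nat_lit 2, nat_lit 5, nat_lit 2, nat_lit 5, nat_lit 4, nat_lit 0])))))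
 (.node (nat_lit 1405) (.node (nat_lit 1403) (.leaf ((nat_lit 2), [nat_lit 3, nat_lit 1, nat_lit 2])) (.node (nat_lit 1404) (.leaf ((nat_lit 2), [nat_lit 5, nat_lit 0, nat_lit 3, nat_lit 0])) (.leaf ((nat_lit 2), [nat_lit 3, nat_lit 5, nat_lit 1, nat_lit 4, nat_lit 3, nat_lit 0])))) (.node (nat_lit 1406) (.leaf ((nat_lit 2), [nat_lit 3, nat_lit 1, nat_lit 5, nat_lit 0])) (.node (nat_lit 1407) (.leaf ((nat_lit 2), [nat_lit 1, nat_lit 5, nat_lit 0, nat_lit 2])) (.leaf ((nat_lit 2), [nat_lit 0, nat_lit 4, nat_lit 5, nat_lit 3, nat_lit 0]))))))))))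
noncomputable def bPA : Tr (ℕ × List ℕ) := (.node (nat_lit 704) (.node (nat_lit 352) (.node (nat_lit 176) bPA_0 bPA_1) (.node (nat_lit 528) bPA_2 bPA_3)) (.node (nat_lit 1056) (.node (nat_lit 880) bPA_4 bPA_5) (.node (nat_lit 1232) bPA_6 bPA_7)))
noncomputable def bWd_0 : Tr (ℕ × List ℕ) := (.node (nat_lit 88) (.node (nat_lit 44) (.node (nat_lit 22) (.node (nat_lit 11) (.node (nat_lit 5) (.node (nat_lit 2) (.node (nat_lit 1) (.leaf ((nat_lit 1), [])) (.leaf ((nat_lit 2), []))) (.node (nat_lit 3) (.leaf ((nat_lit 3), [nat_lit 1, nat_lit 3, nat_lit 0, nat_lit 5, nat_lit 3, nat_lit 4, nat_lit 3, nat_lit 1, nat_lit 4, nat_lit 3, nat_lit 2, nat_lit 2, nat_lit 0])) (.node (nat_lit 4) (.leaf ((nat_lit 4), [])) (.leaf ((nat_lit 5), [nat_lit 1, nat_lit 5, nat_lit 0, nat_lit 5, nat_lit 3, nat_lit 0, nat_lit 3, nat_lit 2, nat_lit 4, nat_lit 0, nat_lit 2, nat_lit 2, nat_lit 0, nat_lit 2, nat_lit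 2])))))
 (.node (nat_lit 8) (.node (nat_lit 6) (.leaf ((nat_lit 6), [nat_lit 2, nat_lit 5, nat_lit 0, nat_lit 5, nat_lit 3, nat_lit 4, nat_lit 2, nat_lit 0, nat_lit 2, nat_lit 3, nat_lit 0, nat_lit 1, nat_lit 0, nat_lit 2, nat_lit 2, nat_lit 0, nat_lit 2])) (.node (nat_lit 7) (.leaf ((nat_lit 7), [nat_lit 3, nat_lit 0, nat_lit 5, nat_lit 2, nat_lit 4, nat_lit 3, nat_lit 1, nat_lit 0, nat_lit 1, nat_lit 0, nat_lit 2, nat_lit 0])) (.leaf ((nat_lit 8), [nat_lit 0, nat_lit 5, nat_lit 2, nat_lit 3, nat_lit 5, nat_lit 4, nat_lit 0, nat_lit 1, nat_lit 4, nat_lit 3])))) (.node (nat_lit 9) (.leaf ((nat_lit 9), [nat_lit 2, nat_lit 3, nat_lit 5, nat_lit 0, nat_lit 4, nat_lit 2, nat_lit 3, nat_lit 4, nat_lit 0, nat_lit 1, nat_lit 0, nat_lit 2, nat_lit 2, nat_lit 0, nat_lit 1, nat_lit 0])) (.node (nat_lit 10) (.leaf ((nat_lit 10), [nat_lit 2, nat_lit 5, nat_lit 0, nat_lit 1, nat_lit 5, nat_lit 2,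 nat_lit 0, nat_lit 4, nat_lit 1, nat_lit 3, nat_lit 2, nat_lit 0, nat_lit 2, nat_lit 0, nat_lit 1])) (.leaf ((nat_lit 11), [nat_lit 3, nat_lit 2, nat_lit 5, nat_lit 0, nat_lit 5, nat_lit 4, nat_lit 2, nat_lit 0, nat_lit 4, nat_lit 0, nat_lit 1, nat_lit 0, nat_lit 2, nat_lit 0, nat_lit 2, nat_lit 2]))))))
 (.node (nat_lit 16) (.node (nat_lit 13) (.node (nat_lit 12) (.leaf ((nat_lit 12), [nat_lit 2, nat_lit 4, nat_lit 5, nat_lit 2, nat_lit 0, nat_lit 5, nat_lit 4, nat_lit 3, nat_lit 0, nat_lit 2, nat_lit 2, nat_lit 3, nat_lit 0, nat_lit 2, nat_lit 0, nat_lit 2, nat_lit 2, nat_lit 0, nat_lit 2])) (.leaf ((nat_lit 13), [nat_lit 1, nat_lit 0, nat_lit 5, nat_lit 3, nat_lit 5, nat_lit 1, nat_lit 0, nat_lit 4, nat_lit 1, nat_lit 4, nat_lit 2, nat_lit 0, nat_lit 1, nat_lit 0, nat_lit 2, nat_lit 0, nat_lit 2, nat_lit 0]))) (.node (nat_lit 14) (.leaf ((nat_lit 14), [nat_lit 2, nat_lit 0, nat_lit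 1, nat_lit 5, nat_lit 1, nat_lit 4, nat_lit 1, nat_lit 4, nat_lit 3, nat_lit 2, nat_lit 0, nat_lit 1, nat_lit 0, nat_lit 2, nat_lit 0, nat_lit 2])) (.node (nat_lit 15) (.leaf ((nat_lit 15), [nat_lit 3, nat_lit 5, nat_lit 2, nat_lit 5, nat_lit 3, nat_lit 1, nat_lit 3, nat_lit 1, nat_lit 4, nat_lit 1, nat_lit 0, nat_lit 2, nat_lit 2, nat_lit 0, nat_lit 1])) (.leaf ((nat_lit 16), [nat_lit 0, nat_lit 5, nat_lit 3, nat_lit 5, nat_lit 2, nat_lit 2, nat_lit 0, nat_lit 4, nat_lit 2, nat_lit 0, nat_lit 1, nat_lit 0, nat_lit 2, nat_lit 0, nat_lit 2, nat_lit 0])))))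
 (.node (nat_lit 19) (.node (nat_lit 17) (.leaf ((nat_lit 17), [nat_lit 2, nat_lit 5, nat_lit 0, nat_lit 4, nat_lit 2, nat_lit 0, nat_lit 4, nat_lit 0, nat_lit 2, nat_lit 0, nat_lit 1, nat_lit 0, nat_lit 1])) (.node (nat_lit 18) (.leaf ((nat_lit 18), [nat_lit 3, nat_lit 2, nat_lit 0, nat_lit 5, nat_lit 2, nat_lit 0, nat_lit 3, nat_lit 2, nat_lit 0, nat_lit 2, nat_lit 2])) (.leaf ((nat_lit 19), [nat_lit 5, nat_lit 3, nat_lit 2, nat_lit 5, nat_lit 2, nat_lit 4, nat_lit 3, nat_lit 2, nat_lit 3, nat_lit 1, nat_lit 0, nat_lit 2, nat_lit 2, nat_lit 0, nat_lit 2, nat_lit 2])))) (.node (nat_lit 20) (.leaf ((nat_lit 20), [nat_lit 1, nat_lit 3, nat_lit 0, nat_lit 5, nat_lit 3, nat_lit 2, nat_lit 4, nat_lit 2, nat_lit 3, nat_lit 4, nat_lit 0, nat_lit 1])) (.node (nat_lit 21) (.leaf ((nat_lit 21), [nat_lit 4, nat_lit 2, nat_lit 5, nat_lit 3, nat_lit 1, nat_lit 4, nat_lit 0, nat_lit 4, nat_lit 0,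 nat_lit 2, nat_lit 0, nat_lit 1, nat_lit 0, nat_lit 1, nat_lit 0])) (.leaf ((nat_lit 22), [nat_lit 4, nat_lit 5, nat_lit 1, nat_lit 5, nat_lit 4, nat_lit 3, nat_lit 2, nat_lit 3, nat_lit 0, nat_lit 2, nat_lit 0, nat_lit 2])))))))
 (.node (nat_lit 33) (.node (nat_lit 27) (.node (nat_lit 24) (.node (nat_lit 23) (.leaf ((nat_lit 23), [nat_lit 4, nat_lit 3, nat_lit 5, nat_lit 0, nat_lit 5, nat_lit 2, nat_lit 4, nat_lit 0, nat_lit 1, nat_lit 4, nat_lit 2, nat_lit 0, nat_lit 1, nat_lit 0, nat_lit 2])) (.leaf ((nat_lit 24), [nat_lit 0, nat_lit 2, nat_lit 5, nat_lit 2, nat_lit 3, nat_lit 2, nat_lit 4, nat_lit 0, nat_lit 1, nat_lit 0, nat_lit 2, nat_lit 2, nat_lit 0, nat_lit 1, nat_lit 0]))) (.node (nat_lit 25) (.leaf ((nat_lit 25), [nat_lit 0, nat_lit 5, nat_lit 3, nat_lit 5, nat_lit 1, nat_lit 4, nat_lit 1, nat_lit 3, nat_lit 1, nat_lit 3, nat_lit 0, nat_lit 1, nat_lit 0, nat_lit 2, nat_lit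 0, nat_lit 2, nat_lit 0])) (.node (nat_lit 26) (.leaf ((nat_lit 26), [nat_lit 3, nat_lit 5, nat_lit 0, nat_lit 3, nat_lit 5, nat_lit 3, nat_lit 1, nat_lit 3, nat_lit 1, nat_lit 4])) (.leaf ((nat_lit 27), [nat_lit 2, nat_lit 4, nat_lit 2, nat_lit 0, nat_lit 5, nat_lit 3, nat_lit 1, nat_lit 4, nat_lit 3, nat_lit 0, nat_lit 3, nat_lit 0, nat_lit 2, nat_lit 2])))))
 (.node (nat_lit 30) (.node (nat_lit 28) (.leaf ((nat_lit 28), [nat_lit 5, nat_lit 4, nat_lit 5, nat_lit 3, nat_lit 5, nat_lit 2, nat_lit 2, nat_lit 4, nat_lit 1, nat_lit 0, nat_lit 3, nat_lit 2, nat_lit 0, nat_lit 1, nat_lit 0, nat_lit 2])) (.node (nat_lit 29) (.leaf ((nat_lit 29), [nat_lit 5, nat_lit 4, nat_lit 5, nat_lit 3, nat_lit 5, nat_lit 0, nat_lit 2, nat_lit 2, nat_lit 3, nat_lit 2, nat_lit 4, nat_lit 0, nat_lit 2, nat_lit 0, nat_lit 2, nat_lit 2])) (.leaf ((nat_lit 30), [nat_lit 5, nat_lit 4, nat_lit 1, nat_lit 0, nat_lit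 5, nat_lit 2, nat_lit 3, nat_lit 0, nat_lit 2, nat_lit 4, nat_lit 2, nat_lit 0, nat_lit 2, nat_lit 2, nat_lit 0, nat_lit 2, nat_lit 0])))) (.node (nat_lit 31) (.leaf ((nat_lit 31), [nat_lit 4, nat_lit 5, nat_lit 0, nat_lit 3, nat_lit 5, nat_lit 4, nat_lit 0, nat_lit 3, nat_lit 2, nat_lit 3, nat_lit 2, nat_lit 0, nat_lit 1, nat_lit 0, nat_lit 2, nat_lit 2])) (.node (nat_lit 32) (.leaf ((nat_lit 32), [nat_lit 5, nat_lit 4, nat_lit 2, nat_lit 0, nat_lit 5, nat_lit 0, nat_lit 1, nat_lit 0, nat_lit 3, nat_lit 2, nat_lit 2, nat_lit 0, nat_lit 1, nat_lit 0, nat_lit 2, nat_lit 2])) (.leaf ((nat_lit 33), [nat_lit 5, nat_lit 4, nat_lit 1, nat_lit 0, nat_lit 5, nat_lit 1, nat_lit 3, nat_lit 4, nat_lit 1, nat_lit 0, nat_lit 3, nat_lit 0, nat_lit 1, nat_lit 0, nat_lit 1, nat_lit 0]))))))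
 (.node (nat_lit 38) (.node (nat_lit 35) (.node (nat_lit 34) (.leaf ((nat_lit 34), [nat_lit 3, nat_lit 0, nat_lit 5, nat_lit 3, nat_lit 5, nat_lit 0, nat_lit 4, nat_lit 2, nat_lit 3, nat_lit 0, nat_lit 3, nat_lit 1])) (.leaf ((nat_lit 35), [nat_lit 4, nat_lit 5, nat_lit 2, nat_lit 3, nat_lit 5, nat_lit 3, nat_lit 4, nat_lit 0, nat_lit 2, nat_lit 0, nat_lit 2]))) (.node (nat_lit 36) (.leaf ((nat_lit 36), [nat_lit 5, nat_lit 4, nat_lit 3, nat_lit 0, nat_lit 5, nat_lit 3, nat_lit 0, nat_lit 3, nat_lit 0, nat_lit 4, nat_lit 2, nat_lit 0, nat_lit 1, nat_lit 0, nat_lit 2, nat_lit 0])) (.node (nat_lit 37) (.leaf ((nat_lit 37), [nat_lit 1, nat_lit 0, nat_lit 5, nat_lit 1, nat_lit 3, nat_lit 4, nat_lit 3, nat_lit 1, nat_lit 3, nat_lit 1, nat_lit 0])) (.leaf ((nat_lit 38), [nat_lit 3, nat_lit 0, nat_lit 5, nat_lit 3, nat_lit 5, nat_lit 0, nat_lit 2, nat_lit 2, nat_lit 0, nat_lit 4, nat_lit 2, nat_lit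 0, nat_lit 1, nat_lit 0, nat_lit 1, nat_lit 0, nat_lit 2, nat_lit 0])))))
 (.node (nat_lit 41) (.node (nat_lit 39) (.leaf ((nat_lit 39), [nat_lit 5, nat_lit 1, nat_lit 3, nat_lit 2, nat_lit 5, nat_lit 4, nat_lit 1, nat_lit 4, nat_lit 1, nat_lit 3, nat_lit 2, nat_lit 0])) (.node (nat_lit 40) (.leaf ((nat_lit 40), [nat_lit 2, nat_lit 5, nat_lit 0, nat_lit 5, nat_lit 1, nat_lit 4, nat_lit 0, nat_lit 4, nat_lit 3, nat_lit 2])) (.leaf ((nat_lit 41), [nat_lit 0, nat_lit 5, nat_lit 2, nat_lit 3, nat_lit 1, nat_lit 3, nat_lit 4, nat_lit 1, nat_lit 0, nat_lit 2, nat_lit 0, nat_lit 1, nat_lit 0])))) (.node (nat_lit 42) (.leaf ((nat_lit 42), [nat_lit 5, nat_lit 0, nat_lit 4, nat_lit 5, nat_lit 2, nat_lit 0, nat_lit 2, nat_lit 2, nat_lit 3, nat_lit 1, nat_lit 0, nat_lit 1, nat_lit 0])) (.node (nat_lit 43) (.leaf ((nat_lit 43), [nat_lit 4, nat_lit 3, nat_lit 5, nat_lit 2, nat_lit 5, nat_lit 1, nat_lit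 4, nat_lit 3, nat_lit 0, nat_lit 3, nat_lit 0, nat_lit 1, nat_lit 0, nat_lit 2, nat_lit 2, nat_lit 0])) (.leaf ((nat_lit 44), [nat_lit 0, nat_lit 2, nat_lit 5, nat_lit 3, nat_lit 5, nat_lit 1, nat_lit 3, nat_lit 0, nat_lit 1, nat_lit 4, nat_lit 2, nat_lit 2, nat_lit 0, nat_lit 1, nat_lit 0, nat_lit 2, nat_lit 2]))))))))
 (.node (nat_lit 66) (.node (nat_lit 55) (.node (nat_lit 49) (.node (nat_lit 46) (.node (nat_lit 45) (.leaf ((nat_lit 45), [nat_lit 5, nat_lit 2, nat_lit 3, nat_lit 0, nat_lit 5, nat_lit 1, nat_lit 4, nat_lit 1, nat_lit 4, nat_lit 3, nat_lit 2, nat_lit 0, nat_lit 1, nat_lit 0, nat_lit 2])) (.leaf ((nat_lit 46), [nat_lit 4, nat_lit 1, nat_lit 0, nat_lit 5, nat_lit 1, nat_lit 3, nat_lit 1, nat_lit 4, nat_lit 2, nat_lit 2, nat_lit 0, nat_lit 1, nat_lit 0]))) (.node (nat_lit 47) (.leaf ((nat_lit 47), [nat_lit 4, nat_lit 5, nat_lit 3, nat_lit 5, nat_lit 0, nat_lit 2, nat_lit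 4, nat_lit 2, nat_lit 4, nat_lit 2, nat_lit 2, nat_lit 0, nat_lit 2, nat_lit 0, nat_lit 1, nat_lit 0])) (.node (nat_lit 48) (.leaf ((nat_lit 48), [nat_lit 4, nat_lit 1, nat_lit 5, nat_lit 2, nat_lit 5, nat_lit 4, nat_lit 2, nat_lit 2, nat_lit 4, nat_lit 1, nat_lit 0, nat_lit 3, nat_lit 0, nat_lit 2])) (.leaf ((nat_lit 49), [nat_lit 4, nat_lit 1, nat_lit 5, nat_lit 2, nat_lit 5, nat_lit 1, nat_lit 4, nat_lit 0, nat_lit 3, nat_lit 4, nat_lit 2, nat_lit 0, nat_lit 1, nat_lit 0, nat_lit 1])))))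
 (.node (nat_lit 52) (.node (nat_lit 50) (.leaf ((nat_lit 31), [nat_lit 5, nat_lit 1, nat_lit 0, nat_lit 2, nat_lit 5, nat_lit 3, nat_lit 0, nat_lit 1, nat_lit 0, nat_lit 3, nat_lit 0, nat_lit 1, nat_lit 0, nat_lit 2, nat_lit 2, nat_lit 0])) (.node (nat_lit 51) (.leaf ((nat_lit 50), [nat_lit 1, nat_lit 5, nat_lit 2, nat_lit 5, nat_lit 2, nat_lit 0, nat_lit 3, nat_lit 4, nat_lit 2, nat_lit 0, nat_lit 2, nat_lit 0, nat_lit 1])) (.leaf ((nat_lit 51), [nat_lit 3, nat_lit 5, nat_lit 1, nat_lit 0, nat_lit 2])))) (.node (nat_lit 53) (.leaf ((nat_lit 52), [nat_lit 3, nat_lit 2, nat_lit 5, nat_lit 0, nat_lit 5, nat_lit 3, nat_lit 2, nat_lit 2, nat_lit 4, nat_lit 3, nat_lit 2])) (.node (nat_lit 54) (.leaf ((nat_lit 53), [nat_lit 0, nat_lit 5, nat_lit 2, nat_lit 3, nat_lit 5, nat_lit 3, nat_lit 0, nat_lit 3, nat_lit 4, nat_lit 3, nat_lit 1, nat_lit 0, nat_lit 1, nat_lit 0, nat_lit 2, nat_lit 0,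 nat_lit 2])) (.leaf ((nat_lit 54), [nat_lit 3, nat_lit 5, nat_lit 1, nat_lit 3, nat_lit 0, nat_lit 5, nat_lit 0, nat_lit 3, nat_lit 1, nat_lit 3, nat_lit 0, nat_lit 2, nat_lit 2, nat_lit 0, nat_lit 2, nat_lit 0]))))))
 (.node (nat_lit 60) (.node (nat_lit 57) (.node (nat_lit 56) (.leaf ((nat_lit 55), [nat_lit 4, nat_lit 5, nat_lit 0, nat_lit 4, nat_lit 0, nat_lit 1, nat_lit 0, nat_lit 3, nat_lit 2, nat_lit 2, nat_lit 0, nat_lit 2, nat_lit 0, nat_lit 1])) (.leaf ((nat_lit 56), [nat_lit 1, nat_lit 5, nat_lit 3, nat_lit 5, nat_lit 1, nat_lit 3, nat_lit 0, nat_lit 1]))) (.node (nat_lit 58) (.leaf ((nat_lit 57), [nat_lit 4, nat_lit 1, nat_lit 5, nat_lit 0, nat_lit 5, nat_lit 0, nat_lit 3, nat_lit 4, nat_lit 0, nat_lit 3, nat_lit 0, nat_lit 2, nat_lit 2, nat_lit 0, nat_lit 1, nat_lit 0, nat_lit 2])) (.node (nat_lit 59) (.leaf ((nat_lit 58), [nat_lit 4, nat_lit 3, nat_lit 5, nat_lit 2, nat_lit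 3, nat_lit 2, nat_lit 4, nat_lit 0, nat_lit 1])) (.leaf ((nat_lit 59), [nat_lit 2, nat_lit 3, nat_lit 5, nat_lit 3, nat_lit 4, nat_lit 0, nat_lit 3, nat_lit 1, nat_lit 3, nat_lit 0, nat_lit 1, nat_lit 0, nat_lit 2, nat_lit 2, nat_lit 0, nat_lit 1, nat_lit 0])))))
 (.node (nat_lit 63) (.node (nat_lit 61) (.leaf ((nat_lit 60), [nat_lit 5, nat_lit 1, nat_lit 0, nat_lit 2, nat_lit 5, nat_lit 1, nat_lit 4, nat_lit 1, nat_lit 3, nat_lit 1, nat_lit 3, nat_lit 2, nat_lit 0, nat_lit 1, nat_lit 0, nat_lit 1, nat_lit 0])) (.node (nat_lit 62) (.leaf ((nat_lit 61), [nat_lit 4, nat_lit 5, nat_lit 1, nat_lit 5, nat_lit 4, nat_lit 3, nat_lit 2, nat_lit 2, nat_lit 3, nat_lit 2, nat_lit 2, nat_lit 0, nat_lit 1, nat_lit 0, nat_lit 2, nat_lit 0])) (.leaf ((nat_lit 62), [nat_lit 5, nat_lit 4, nat_lit 3, nat_lit 5, nat_lit 2, nat_lit 5, nat_lit 1, nat_lit 3, nat_lit 1, nat_lit 4, nat_lit 0, nat_lit 2]))))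 (.node (nat_lit 64) (.leaf ((nat_lit 63), [nat_lit 5, nat_lit 4, nat_lit 5, nat_lit 2, nat_lit 5, nat_lit 1, nat_lit 0, nat_lit 4, nat_lit 3, nat_lit 2, nat_lit 0, nat_lit 1, nat_lit 0, nat_lit 2, nat_lit 0, nat_lit 2])) (.node (nat_lit 65) (.leaf ((nat_lit 64), [nat_lit 1, nat_lit 0, nat_lit 2, nat_lit 5, nat_lit 0, nat_lit 4, nat_lit 2, nat_lit 0, nat_lit 3, nat_lit 0, nat_lit 2, nat_lit 2, nat_lit 0, nat_lit 2])) (.leaf ((nat_lit 65), [nat_lit 4, nat_lit 1, nat_lit 5, nat_lit 2, nat_lit 5, nat_lit 1, nat_lit 4, nat_lit 0, nat_lit 4, nat_lit 0, nat_lit 1, nat_lit 0, nat_lit 1, nat_lit 0, nat_lit 2])))))))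
 (.node (nat_lit 77) (.node (nat_lit 71) (.node (nat_lit 68) (.node (nat_lit 67) (.leaf ((nat_lit 66), [nat_lit 5, nat_lit 4, nat_lit 3, nat_lit 0, nat_lit 5, nat_lit 1, nat_lit 4, nat_lit 1, nat_lit 3, nat_lit 2, nat_lit 0, nat_lit 1, nat_lit 0, nat_lit 2, nat_lit 2, nat_lit 0])) (.leaf ((nat_lit 67), [nat_lit 5, nat_lit 2, nat_lit 2, nat_lit 0, nat_lit 5, nat_lit 1, nat_lit 3, nat_lit 0, nat_lit 2, nat_lit 2, nat_lit 0, nat_lit 1]))) (.node (nat_lit 69) (.leaf ((nat_lit 68), [nat_lit 0, nat_lit 5, nat_lit 3, nat_lit 5, nat_lit 2, nat_lit 4, nat_lit 2, nat_lit 2, nat_lit 4, nat_lit 3, nat_lit 0, nat_lit 1, nat_lit 0, nat_lit 2, nat_lit 2, nat_lit 0])) (.node (nat_lit 70) (.leaf ((nat_lit 69), [nat_lit 5, nat_lit 0, nat_lit 1, nat_lit 5, nat_lit 2, nat_lit 2, nat_lit 0, nat_lit 3, nat_lit 2, nat_lit 0, nat_lit 2, nat_lit 0, nat_lit 1, nat_lit 0])) (.leaf ((nat_lit 70), [nat_lit 4, nat_lit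 2, nat_lit 0, nat_lit 5, nat_lit 4, nat_lit 1, nat_lit 3, nat_lit 2, nat_lit 0, nat_lit 2, nat_lit 0, nat_lit 1, nat_lit 0, nat_lit 1])))))
 (.node (nat_lit 74) (.node (nat_lit 72) (.leaf ((nat_lit 71), [nat_lit 2, nat_lit 2, nat_lit 5, nat_lit 3, nat_lit 2, nat_lit 3, nat_lit 0, nat_lit 4, nat_lit 0, nat_lit 2, nat_lit 2, nat_lit 0, nat_lit 2, nat_lit 0])) (.node (nat_lit 73) (.leaf ((nat_lit 72), [nat_lit 2, nat_lit 5, nat_lit 0, nat_lit 2, nat_lit 0, nat_lit 2, nat_lit 3, nat_lit 2, nat_lit 2, nat_lit 0, nat_lit 1, nat_lit 0])) (.leaf ((nat_lit 73), [nat_lit 4, nat_lit 5, nat_lit 3, nat_lit 0, nat_lit 5, nat_lit 0, nat_lit 4, nat_lit 1, nat_lit 0, nat_lit 4, nat_lit 0, nat_lit 1, nat_lit 0, nat_lit 2, nat_lit 0, nat_lit 2, nat_lit 2, nat_lit 0])))) (.node (nat_lit 75) (.leaf ((nat_lit 74), [nat_lit 4, nat_lit 5, nat_lit 3, nat_lit 2, nat_lit 5, nat_lit 0, nat_lit 4, nat_lit 2, nat_lit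 3, nat_lit 0, nat_lit 3, nat_lit 2, nat_lit 2, nat_lit 0, nat_lit 1, nat_lit 0, nat_lit 2])) (.node (nat_lit 76) (.leaf ((nat_lit 75), [nat_lit 3, nat_lit 2, nat_lit 5, nat_lit 0, nat_lit 1, nat_lit 4, nat_lit 3, nat_lit 2, nat_lit 0, nat_lit 2, nat_lit 0, nat_lit 1, nat_lit 0])) (.leaf ((nat_lit 76), [nat_lit 1, nat_lit 4, nat_lit 5, nat_lit 1, nat_lit 5, nat_lit 0, nat_lit 4, nat_lit 2, nat_lit 3, nat_lit 1, nat_lit 3, nat_lit 2, nat_lit 0, nat_lit 2, nat_lit 0, nat_lit 1, nat_lit 0, nat_lit 1, nat_lit 0]))))))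
 (.node (nat_lit 82) (.node (nat_lit 79) (.node (nat_lit 78) (.leaf ((nat_lit 77), [nat_lit 1, nat_lit 0, nat_lit 3, nat_lit 5, nat_lit 2, nat_lit 0, nat_lit 4, nat_lit 0, nat_lit 1, nat_lit 0, nat_lit 2, nat_lit 2, nat_lit 0, nat_lit 1])) (.leaf ((nat_lit 78), [nat_lit 1, nat_lit 0, nat_lit 5, nat_lit 1, nat_lit 3, nat_lit 4, nat_lit 0, nat_lit 2, nat_lit 4, nat_lit 0, nat_lit 1, nat_lit 0, nat_lit 2, nat_lit 0]))) (.node (nat_lit 80) (.leaf ((nat_lit 79), [nat_lit 5, nat_lit 1, nat_lit 5, nat_lit 0, nat_lit 5, nat_lit 0, nat_lit 1, nat_lit 3, nat_lit 0, nat_lit 4, nat_lit 2, nat_lit 0, nat_lit 1, nat_lit 0, nat_lit 2, nat_lit 2])) (.node (nat_lit 81) (.leaf ((nat_lit 80), [nat_lit 4, nat_lit 3, nat_lit 2, nat_lit 5, nat_lit 1, nat_lit 4, nat_lit 0, nat_lit 3, nat_lit 2, nat_lit 3, nat_lit 1, nat_lit 0, nat_lit 1, nat_lit 0, nat_lit 2, nat_lit 0, nat_lit 2])) (.leaf ((nat_lit 81), [nat_lit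 0, nat_lit 5, nat_lit 3, nat_lit 5, nat_lit 1, nat_lit 0, nat_lit 3, nat_lit 4, nat_lit 0, nat_lit 3, nat_lit 2, nat_lit 0, nat_lit 1])))))
 (.node (nat_lit 85) (.node (nat_lit 83) (.leaf ((nat_lit 82), [nat_lit 5, nat_lit 0, nat_lit 3, nat_lit 5, nat_lit 4, nat_lit 1, nat_lit 3, nat_lit 4, nat_lit 2, nat_lit 0, nat_lit 2, nat_lit 2, nat_lit 0, nat_lit 2, nat_lit 2])) (.node (nat_lit 84) (.leaf ((nat_lit 83), [nat_lit 5, nat_lit 0, nat_lit 4, nat_lit 5, nat_lit 3, nat_lit 0, nat_lit 4, nat_lit 3, nat_lit 0, nat_lit 3, nat_lit 0, nat_lit 2, nat_lit 2, nat_lit 0, nat_lit 2, nat_lit 0])) (.leaf ((nat_lit 84), [nat_lit 5, nat_lit 4, nat_lit 0, nat_lit 5, nat_lit 3, nat_lit 4, nat_lit 0, nat_lit 3, nat_lit 4, nat_lit 2, nat_lit 0, nat_lit 1, nat_lit 0, nat_lit 2, nat_lit 0])))) (.node (nat_lit 86) (.leaf ((nat_lit 85), [nat_lit 5, nat_lit 4, nat_lit 5, nat_lit 2, nat_lit 2, nat_lit 0, nat_lit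 4, nat_lit 0, nat_lit 2, nat_lit 0, nat_lit 1, nat_lit 0, nat_lit 1, nat_lit 0])) (.node (nat_lit 87) (.leaf ((nat_lit 86), [nat_lit 1, nat_lit 5, nat_lit 0, nat_lit 5, nat_lit 0, nat_lit 2, nat_lit 2, nat_lit 3, nat_lit 1, nat_lit 0, nat_lit 1, nat_lit 0, nat_lit 2])) (.leaf ((nat_lit 87), [nat_lit 0, nat_lit 5, nat_lit 1, nat_lit 0, nat_lit 4, nat_lit 1, nat_lit 3, nat_lit 2, nat_lit 0, nat_lit 2, nat_lit 2, nat_lit 0, nat_lit 2])))))))))
 (.node (nat_lit 132) (.node (nat_lit 110) (.node (nat_lit 99) (.node (nat_lit 93) (.node (nat_lit 90) (.node (nat_lit 89) (.leaf ((nat_lit 88), [nat_lit 1, nat_lit 5, nat_lit 3, nat_lit 5, nat_lit 3, nat_lit 2, nat_lit 4, nat_lit 3, nat_lit 0, nat_lit 2, nat_lit 0, nat_lit 1, nat_lit 0])) (.leaf ((nat_lit 89), [nat_lit 1, nat_lit 4, nat_lit 2, nat_lit 5, nat_lit 4, nat_lit 1, nat_lit 3, nat_lit 4, nat_lit 3, nat_lit 0, nat_lit 2, nat_lit 0, nat_lit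 2, nat_lit 2, nat_lit 0, nat_lit 1, nat_lit 0]))) (.node (nat_lit 91) (.leaf ((nat_lit 90), [nat_lit 1, nat_lit 3, nat_lit 2, nat_lit 5, nat_lit 0, nat_lit 2, nat_lit 3, nat_lit 2, nat_lit 0, nat_lit 3, nat_lit 0, nat_lit 1, nat_lit 0, nat_lit 2, nat_lit 0, nat_lit 2])) (.node (nat_lit 92) (.leaf ((nat_lit 91), [nat_lit 2, nat_lit 0, nat_lit 2, nat_lit 5, nat_lit 3, nat_lit 0, nat_lit 3, nat_lit 0, nat_lit 2, nat_lit 4, nat_lit 0, nat_lit 2, nat_lit 0, nat_lit 2, nat_lit 2])) (.leaf ((nat_lit 92), [nat_lit 2, nat_lit 3, nat_lit 5, nat_lit 0, nat_lit 5, nat_lit 1, nat_lit 4, nat_lit 1, nat_lit 4, nat_lit 0, nat_lit 2, nat_lit 0, nat_lit 2, nat_lit 0])))))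
 (.node (nat_lit 96) (.node (nat_lit 94) (.leaf ((nat_lit 93), [nat_lit 2, nat_lit 5, nat_lit 0, nat_lit 5, nat_lit 4, nat_lit 2, nat_lit 3, nat_lit 0, nat_lit 3, nat_lit 0, nat_lit 1, nat_lit 0])) (.node (nat_lit 95) (.leaf ((nat_lit 94), [nat_lit 5, nat_lit 4, nat_lit 1, nat_lit 0, nat_lit 5, nat_lit 3, nat_lit 4, nat_lit 3, nat_lit 0, nat_lit 3, nat_lit 2, nat_lit 0, nat_lit 2, nat_lit 2, nat_lit 0, nat_lit 2, nat_lit 2, nat_lit 0])) (.leaf ((nat_lit 95), [nat_lit 5, nat_lit 2, nat_lit 5, nat_lit 3, nat_lit 1, nat_lit 0, nat_lit 2, nat_lit 3, nat_lit 2, nat_lit 0, nat_lit 1, nat_lit 0, nat_lit 1, nat_lit 0, nat_lit 2, nat_lit 0])))) (.node (nat_lit 97) (.leaf ((nat_lit 96), [nat_lit 5, nat_lit 4, nat_lit 3, nat_lit 5, nat_lit 2, nat_lit 5, nat_lit 0, nat_lit 1, nat_lit 3, nat_lit 4, nat_lit 1, nat_lit 3, nat_lit 0, nat_lit 2, nat_lit 2, nat_lit 0, nat_lit 1, nat_lit 0, nat_lit 2, nat_lit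 0])) (.node (nat_lit 98) (.leaf ((nat_lit 76), [nat_lit 4, nat_lit 3, nat_lit 5, nat_lit 2, nat_lit 5, nat_lit 0, nat_lit 3, nat_lit 4, nat_lit 0, nat_lit 3, nat_lit 1, nat_lit 0])) (.leaf ((nat_lit 97), [nat_lit 3, nat_lit 2, nat_lit 3, nat_lit 5, nat_lit 0, nat_lit 2, nat_lit 4, nat_lit 1, nat_lit 0, nat_lit 3, nat_lit 0, nat_lit 1, nat_lit 0, nat_lit 2, nat_lit 0, nat_lit 2]))))))
 (.node (nat_lit 104) (.node (nat_lit 101) (.node (nat_lit 100) (.leaf ((nat_lit 98), [nat_lit 3, nat_lit 5, nat_lit 1, nat_lit 3, nat_lit 0, nat_lit 5, nat_lit 3, nat_lit 1, nat_lit 4, nat_lit 1, nat_lit 3, nat_lit 2, nat_lit 2, nat_lit 0, nat_lit 2, nat_lit 2])) (.leaf ((nat_lit 99), [nat_lit 3, nat_lit 4, nat_lit 5, nat_lit 2, nat_lit 4, nat_lit 2, nat_lit 4, nat_lit 2, nat_lit 0, nat_lit 1, nat_lit 0, nat_lit 2]))) (.node (nat_lit 102) (.leaf ((nat_lit 100), [nat_lit 2, nat_lit 5, nat_lit 0, nat_lit 5,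 nat_lit 3, nat_lit 4, nat_lit 1, nat_lit 3, nat_lit 1, nat_lit 3, nat_lit 1, nat_lit 0, nat_lit 2])) (.node (nat_lit 103) (.leaf ((nat_lit 101), [nat_lit 5, nat_lit 1, nat_lit 3, nat_lit 0, nat_lit 5, nat_lit 3, nat_lit 0, nat_lit 2, nat_lit 4, nat_lit 2, nat_lit 0, nat_lit 2, nat_lit 2, nat_lit 0, nat_lit 2])) (.leaf ((nat_lit 102), [nat_lit 1, nat_lit 5, nat_lit 1, nat_lit 5, nat_lit 4, nat_lit 3, nat_lit 0, nat_lit 2, nat_lit 3, nat_lit 0, nat_lit 2, nat_lit 2, nat_lit 0, nat_lit 2])))))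
 (.node (nat_lit 107) (.node (nat_lit 105) (.leaf ((nat_lit 103), [nat_lit 4, nat_lit 5, nat_lit 1, nat_lit 5, nat_lit 0, nat_lit 3, nat_lit 0, nat_lit 2, nat_lit 3, nat_lit 0, nat_lit 1, nat_lit 0, nat_lit 2])) (.node (nat_lit 106) (.leaf ((nat_lit 104), [nat_lit 3, nat_lit 4, nat_lit 3, nat_lit 5, nat_lit 3, nat_lit 0, nat_lit 3, nat_lit 1, nat_lit 4, nat_lit 0, nat_lit 2, nat_lit 2, nat_lit 0, nat_lit 1, nat_lit 0, nat_lit 2])) (.leaf ((nat_lit 105), [nat_lit 5, nat_lit 4, nat_lit 5, nat_lit 3, nat_lit 5, nat_lit 4, nat_lit 2, nat_lit 0, nat_lit 2, nat_lit 4, nat_lit 0, nat_lit 2, nat_lit 0, nat_lit 1, nat_lit 0])))) (.node (nat_lit 108) (.leaf ((nat_lit 106), [nat_lit 2, nat_lit 2, nat_lit 5, nat_lit 1, nat_lit 5, nat_lit 1, nat_lit 3, nat_lit 0, nat_lit 1, nat_lit 4, nat_lit 0, nat_lit 1, nat_lit 0, nat_lit 2, nat_lit 2, nat_lit 0, nat_lit 1, nat_lit 0])) (.node (nat_lit 109) (.leaf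 ((nat_lit 107), [nat_lit 0, nat_lit 5, nat_lit 2, nat_lit 0, nat_lit 5, nat_lit 2, nat_lit 4, nat_lit 1, nat_lit 0, nat_lit 1, nat_lit 0, nat_lit 3, nat_lit 2, nat_lit 2, nat_lit 0, nat_lit 2, nat_lit 2])) (.leaf ((nat_lit 108), [nat_lit 5, nat_lit 2, nat_lit 5, nat_lit 1, nat_lit 3, nat_lit 4, nat_lit 0, nat_lit 2, nat_lit 4, nat_lit 1, nat_lit 0, nat_lit 2, nat_lit 0, nat_lit 2, nat_lit 2, nat_lit 0])))))))
 (.node (nat_lit 121) (.node (nat_lit 115) (.node (nat_lit 112) (.node (nat_lit 111) (.leaf ((nat_lit 109), [nat_lit 4, nat_lit 1, nat_lit 0, nat_lit 5, nat_lit 0, nat_lit 4, nat_lit 2, nat_lit 3, nat_lit 0, nat_lit 3, nat_lit 2, nat_lit 2, nat_lit 0, nat_lit 2, nat_lit 2, nat_lit 0, nat_lit 2, nat_lit 0])) (.leaf ((nat_lit 110), [nat_lit 3, nat_lit 0, nat_lit 5, nat_lit 3, nat_lit 5, nat_lit 0, nat_lit 3, nat_lit 1, nat_lit 3, nat_lit 4, nat_lit 0, nat_lit 2, nat_lit 0]))) (.node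 (nat_lit 113) (.leaf ((nat_lit 111), [nat_lit 5, nat_lit 4, nat_lit 5, nat_lit 3, nat_lit 5, nat_lit 2, nat_lit 0, nat_lit 3, nat_lit 0, nat_lit 4, nat_lit 0, nat_lit 2])) (.node (nat_lit 114) (.leaf ((nat_lit 112), [nat_lit 5, nat_lit 1, nat_lit 5, nat_lit 0, nat_lit 5, nat_lit 2, nat_lit 2, nat_lit 3, nat_lit 2, nat_lit 4, nat_lit 0, nat_lit 1, nat_lit 0, nat_lit 2, nat_lit 0, nat_lit 2, nat_lit 0])) (.leaf ((nat_lit 113), [nat_lit 5, nat_lit 4, nat_lit 5, nat_lit 2, nat_lit 5, nat_lit 3, nat_lit 1, nat_lit 3, nat_lit 1, nat_lit 3, nat_lit 0, nat_lit 2, nat_lit 0, nat_lit 1])))))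
 (.node (nat_lit 118) (.node (nat_lit 116) (.leaf ((nat_lit 114), [nat_lit 2, nat_lit 4, nat_lit 2, nat_lit 0, nat_lit 5, nat_lit 3, nat_lit 2, nat_lit 2, nat_lit 3, nat_lit 2, nat_lit 2, nat_lit 0, nat_lit 2, nat_lit 2, nat_lit 0, nat_lit 2, nat_lit 2])) (.node (nat_lit 117) (.leaf ((nat_lit 115), [nat_lit 0, nat_lit 4, nat_lit 2, nat_lit 0, nat_lit 5, nat_lit 4, nat_lit 0, nat_lit 4, nat_lit 0, nat_lit 4, nat_lit 2, nat_lit 2, nat_lit 0, nat_lit 1])) (.leaf ((nat_lit 116), [nat_lit 3, nat_lit 5, nat_lit 3, nat_lit 2, nat_lit 0, nat_lit 3, nat_lit 2, nat_lit 0, nat_lit 2, nat_lit 0, nat_lit 1, nat_lit 0])))) (.node (nat_lit 119) (.leaf ((nat_lit 117), [nat_lit 1, nat_lit 5, nat_lit 2, nat_lit 5, nat_lit 3, nat_lit 1, nat_lit 4, nat_lit 0, nat_lit 4, nat_lit 1, nat_lit 0, nat_lit 1, nat_lit 0, nat_lit 2, nat_lit 0, nat_lit 2, nat_lit 0])) (.node (nat_lit 120) (.leaf ((nat_lit 118), [nat_lit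 0, nat_lit 5, nat_lit 3, nat_lit 5, nat_lit 4, nat_lit 0, nat_lit 4, nat_lit 0, nat_lit 4, nat_lit 0, nat_lit 2])) (.leaf ((nat_lit 119), [nat_lit 4, nat_lit 3, nat_lit 5, nat_lit 0, nat_lit 5, nat_lit 1, nat_lit 0, nat_lit 2, nat_lit 4, nat_lit 0, nat_lit 2, nat_lit 0, nat_lit 2, nat_lit 2]))))))
 (.node (nat_lit 126) (.node (nat_lit 123) (.node (nat_lit 122) (.leaf ((nat_lit 120), [nat_lit 3, nat_lit 2, nat_lit 5, nat_lit 0, nat_lit 2, nat_lit 2, nat_lit 3, nat_lit 2, nat_lit 4, nat_lit 0, nat_lit 1, nat_lit 0, nat_lit 2, nat_lit 2])) (.leaf ((nat_lit 121), [nat_lit 1, nat_lit 0, nat_lit 5, nat_lit 3, nat_lit 5, nat_lit 0, nat_lit 4, nat_lit 2, nat_lit 0, nat_lit 4, nat_lit 2, nat_lit 2, nat_lit 0, nat_lit 2, nat_lit 2, nat_lit 0, nat_lit 1]))) (.node (nat_lit 124) (.leaf ((nat_lit 122), [nat_lit 3, nat_lit 1, nat_lit 5, nat_lit 0, nat_lit 5, nat_lit 2, nat_lit 4, nat_lit 3, nat_lit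 1, nat_lit 0, nat_lit 2, nat_lit 0, nat_lit 1])) (.node (nat_lit 125) (.leaf ((nat_lit 123), [nat_lit 4, nat_lit 2, nat_lit 5, nat_lit 1, nat_lit 5, nat_lit 3, nat_lit 4, nat_lit 1, nat_lit 4, nat_lit 3, nat_lit 1, nat_lit 0, nat_lit 2, nat_lit 2, nat_lit 0, nat_lit 1])) (.leaf ((nat_lit 124), [nat_lit 3, nat_lit 4, nat_lit 5, nat_lit 2, nat_lit 5, nat_lit 1, nat_lit 3, nat_lit 0, nat_lit 1, nat_lit 4, nat_lit 0, nat_lit 2, nat_lit 2])))))
 (.node (nat_lit 129) (.node (nat_lit 127) (.leaf ((nat_lit 125), [nat_lit 1, nat_lit 0, nat_lit 3, nat_lit 5, nat_lit 0, nat_lit 3, nat_lit 1, nat_lit 3, nat_lit 4, nat_lit 3, nat_lit 2, nat_lit 2, nat_lit 0, nat_lit 2])) (.node (nat_lit 128) (.leaf ((nat_lit 126), [nat_lit 5, nat_lit 2, nat_lit 0, nat_lit 5, nat_lit 0, nat_lit 1, nat_lit 3, nat_lit 4, nat_lit 2, nat_lit 3, nat_lit 0, nat_lit 1, nat_lit 0, nat_lit 2, nat_lit 0, nat_lit 2, nat_lit 2]))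 (.leaf ((nat_lit 127), [nat_lit 4, nat_lit 5, nat_lit 3, nat_lit 2, nat_lit 0, nat_lit 3, nat_lit 1, nat_lit 4, nat_lit 1, nat_lit 0, nat_lit 2, nat_lit 0, nat_lit 2, nat_lit 0])))) (.node (nat_lit 130) (.leaf ((nat_lit 128), [nat_lit 5, nat_lit 1, nat_lit 5, nat_lit 0, nat_lit 5, nat_lit 1, nat_lit 4, nat_lit 0, nat_lit 1, nat_lit 0, nat_lit 3, nat_lit 2])) (.node (nat_lit 131) (.leaf ((nat_lit 129), [nat_lit 4, nat_lit 2, nat_lit 0, nat_lit 5, nat_lit 4, nat_lit 3, nat_lit 0, nat_lit 2, nat_lit 2, nat_lit 3, nat_lit 1, nat_lit 0, nat_lit 2, nat_lit 0, nat_lit 2, nat_lit 2, nat_lit 0])) (.leaf ((nat_lit 130), [nat_lit 4, nat_lit 1, nat_lit 0, nat_lit 5, nat_lit 4, nat_lit 3, nat_lit 2, nat_lit 0, nat_lit 3, nat_lit 1, nat_lit 0, nat_lit 1, nat_lit 0, nat_lit 2, nat_lit 0, nat_lit 2]))))))))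
 (.node (nat_lit 154) (.node (nat_lit 143) (.node (nat_lit 137) (.node (nat_lit 134) (.node (nat_lit 133) (.leaf ((nat_lit 131), [nat_lit 4, nat_lit 5, nat_lit 1, nat_lit 5, nat_lit 3, nat_lit 2, nat_lit 0, nat_lit 2, nat_lit 3, nat_lit 2, nat_lit 0, nat_lit 2, nat_lit 2, nat_lit 0, nat_lit 2, nat_lit 0])) (.leaf ((nat_lit 132), [nat_lit 1, nat_lit 5, nat_lit 0, nat_lit 5, nat_lit 1, nat_lit 4, nat_lit 0, nat_lit 3, nat_lit 2, nat_lit 3, nat_lit 2, nat_lit 2, nat_lit 0, nat_lit 1, nat_lit 0, nat_lit 2, nat_lit 0]))) (.node (nat_lit 135) (.leaf ((nat_lit 133), [nat_lit 2, nat_lit 2, nat_lit 5, nat_lit 4, nat_lit 2, nat_lit 0, nat_lit 3, nat_lit 0, nat_lit 4, nat_lit 0, nat_lit 2, nat_lit 2, nat_lit 0, nat_lit 2, nat_lit 0, nat_lit 1])) (.node (nat_lit 136) (.leaf ((nat_lit 134), [nat_lit 0, nat_lit 5, nat_lit 2, nat_lit 5, nat_lit 3, nat_lit 1, nat_lit 3, nat_lit 1, nat_lit 3, nat_lit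 2, nat_lit 2, nat_lit 0, nat_lit 1, nat_lit 0, nat_lit 2, nat_lit 2])) (.leaf ((nat_lit 135), [nat_lit 5, nat_lit 1, nat_lit 0, nat_lit 2, nat_lit 5, nat_lit 4, nat_lit 2, nat_lit 3, nat_lit 4, nat_lit 2, nat_lit 3, nat_lit 1, nat_lit 0, nat_lit 2, nat_lit 0, nat_lit 2, nat_lit 2, nat_lit 0])))))
 (.node (nat_lit 140) (.node (nat_lit 138) (.leaf ((nat_lit 136), [nat_lit 1, nat_lit 5, nat_lit 0, nat_lit 5, nat_lit 3, nat_lit 1, nat_lit 3, nat_lit 0, nat_lit 3, nat_lit 0, nat_lit 1, nat_lit 0, nat_lit 2, nat_lit 2, nat_lit 0, nat_lit 1, nat_lit 0])) (.node (nat_lit 139) (.leaf ((nat_lit 137), [nat_lit 5, nat_lit 2, nat_lit 0, nat_lit 5, nat_lit 2, nat_lit 0, nat_lit 2, nat_lit 0, nat_lit 1, nat_lit 0, nat_lit 1])) (.leaf ((nat_lit 138), [nat_lit 3, nat_lit 4, nat_lit 5, nat_lit 4, nat_lit 2, nat_lit 0, nat_lit 1, nat_lit 0, nat_lit 3, nat_lit 2, nat_lit 2, nat_lit 0, nat_lit 1, nat_lit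 0, nat_lit 2, nat_lit 0])))) (.node (nat_lit 141) (.leaf ((nat_lit 139), [nat_lit 2, nat_lit 5, nat_lit 1, nat_lit 5, nat_lit 1, nat_lit 4, nat_lit 2, nat_lit 3, nat_lit 1, nat_lit 3, nat_lit 1, nat_lit 0, nat_lit 2, nat_lit 2])) (.node (nat_lit 142) (.leaf ((nat_lit 140), [nat_lit 3, nat_lit 5, nat_lit 2, nat_lit 3, nat_lit 0, nat_lit 5, nat_lit 3, nat_lit 2, nat_lit 0, nat_lit 2, nat_lit 2, nat_lit 3, nat_lit 2, nat_lit 2, nat_lit 0, nat_lit 2, nat_lit 2, nat_lit 0, nat_lit 1])) (.leaf ((nat_lit 141), [nat_lit 5, nat_lit 0, nat_lit 4, nat_lit 5, nat_lit 1, nat_lit 0, nat_lit 4, nat_lit 1, nat_lit 0, nat_lit 1]))))))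
 (.node (nat_lit 148) (.node (nat_lit 145) (.node (nat_lit 144) (.leaf ((nat_lit 142), [nat_lit 4, nat_lit 2, nat_lit 5, nat_lit 1, nat_lit 5, nat_lit 0, nat_lit 3, nat_lit 2, nat_lit 3, nat_lit 1, nat_lit 0, nat_lit 1])) (.leaf ((nat_lit 143), [nat_lit 5, nat_lit 4, nat_lit 5, nat_lit 1, nat_lit 5, nat_lit 3, nat_lit 2, nat_lit 3, nat_lit 2, nat_lit 0, nat_lit 3, nat_lit 1, nat_lit 0, nat_lit 2, nat_lit 2]))) (.node (nat_lit 146) (.leaf ((nat_lit 144), [nat_lit 4, nat_lit 5, nat_lit 4, nat_lit 0, nat_lit 5, nat_lit 3, nat_lit 4, nat_lit 0, nat_lit 3, nat_lit 1])) (.node (nat_lit 147) (.leaf ((nat_lit 145), [nat_lit 4, nat_lit 3, nat_lit 0, nat_lit 5, nat_lit 1, nat_lit 3, nat_lit 2, nat_lit 4, nat_lit 2, nat_lit 0, nat_lit 2, nat_lit 0, nat_lit 1, nat_lit 0, nat_lit 1])) (.leaf ((nat_lit 146), [nat_lit 2, nat_lit 4, nat_lit 5, nat_lit 2, nat_lit 0, nat_lit 5, nat_lit 2, nat_lit 4, nat_lit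 1, nat_lit 3, nat_lit 1, nat_lit 3, nat_lit 2, nat_lit 0, nat_lit 2, nat_lit 0, nat_lit 1, nat_lit 0, nat_lit 1, nat_lit 0])))))
 (.node (nat_lit 151) (.node (nat_lit 149) (.leaf ((nat_lit 147), [nat_lit 3, nat_lit 1, nat_lit 5, nat_lit 0, nat_lit 5, nat_lit 2, nat_lit 2, nat_lit 0, nat_lit 3, nat_lit 0, nat_lit 4, nat_lit 0, nat_lit 2, nat_lit 0, nat_lit 2])) (.node (nat_lit 150) (.leaf ((nat_lit 148), [nat_lit 3, nat_lit 4, nat_lit 5, nat_lit 3, nat_lit 0, nat_lit 4, nat_lit 3, nat_lit 0, nat_lit 3, nat_lit 1, nat_lit 0, nat_lit 1, nat_lit 0, nat_lit 2, nat_lit 0])) (.leaf ((nat_lit 149), [nat_lit 1, nat_lit 5, nat_lit 0, nat_lit 5, nat_lit 3, nat_lit 4, nat_lit 1, nat_lit 3, nat_lit 0, nat_lit 3, nat_lit 2, nat_lit 2, nat_lit 0, nat_lit 2, nat_lit 2, nat_lit 0, nat_lit 1])))) (.node (nat_lit 152) (.leaf ((nat_lit 150), [nat_lit 0, nat_lit 4, nat_lit 5, nat_lit 2, nat_lit 3, nat_lit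 0, nat_lit 3, nat_lit 2, nat_lit 2, nat_lit 0, nat_lit 2, nat_lit 0, nat_lit 1])) (.node (nat_lit 153) (.leaf ((nat_lit 151), [nat_lit 3, nat_lit 5, nat_lit 3, nat_lit 0, nat_lit 5, nat_lit 3, nat_lit 1, nat_lit 4, nat_lit 0, nat_lit 4, nat_lit 3, nat_lit 2, nat_lit 2])) (.leaf ((nat_lit 152), [nat_lit 2, nat_lit 5, nat_lit 4, nat_lit 5, nat_lit 3, nat_lit 4, nat_lit 2, nat_lit 4, nat_lit 3, nat_lit 1, nat_lit 0, nat_lit 2, nat_lit 0, nat_lit 1])))))))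
 (.node (nat_lit 165) (.node (nat_lit 159) (.node (nat_lit 156) (.node (nat_lit 155) (.leaf ((nat_lit 153), [nat_lit 5, nat_lit 2, nat_lit 5, nat_lit 0, nat_lit 3, nat_lit 0, nat_lit 4, nat_lit 1, nat_lit 0, nat_lit 1, nat_lit 0])) (.leaf ((nat_lit 154), [nat_lit 3, nat_lit 5, nat_lit 0, nat_lit 2, nat_lit 4, nat_lit 3, nat_lit 2, nat_lit 3, nat_lit 2, nat_lit 0, nat_lit 2, nat_lit 2, nat_lit 0, nat_lit 2]))) (.node (nat_lit 157) (.leaf ((nat_lit 155), [nat_lit 2, nat_lit 0, nat_lit 1, nat_lit 5, nat_lit 0, nat_lit 2, nat_lit 4, nat_lit 2, nat_lit 4, nat_lit 2, nat_lit 0, nat_lit 1, nat_lit 0, nat_lit 2, nat_lit 0, nat_lit 2, nat_lit 0])) (.node (nat_lit 158) (.leaf ((nat_lit 156), [nat_lit 5, nat_lit 4, nat_lit 5, nat_lit 3, nat_lit 5, nat_lit 2, nat_lit 2, nat_lit 3, nat_lit 2, nat_lit 4, nat_lit 2, nat_lit 2, nat_lit 0, nat_lit 2, nat_lit 0, nat_lit 1])) (.leaf ((nat_lit 157), [nat_lit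 2, nat_lit 3, nat_lit 5, nat_lit 3, nat_lit 1, nat_lit 0, nat_lit 4, nat_lit 2, nat_lit 0, nat_lit 2, nat_lit 2])))))
 (.node (nat_lit 162) (.node (nat_lit 160) (.leaf ((nat_lit 158), [nat_lit 5, nat_lit 4, nat_lit 2, nat_lit 0, nat_lit 5, nat_lit 4, nat_lit 2, nat_lit 0, nat_lit 3, nat_lit 0, nat_lit 4, nat_lit 2, nat_lit 0, nat_lit 1, nat_lit 0, nat_lit 2, nat_lit 0, nat_lit 2, nat_lit 0])) (.node (nat_lit 161) (.leaf ((nat_lit 159), [nat_lit 4, nat_lit 0, nat_lit 5, nat_lit 2, nat_lit 5, nat_lit 2, nat_lit 0, nat_lit 1, nat_lit 4, nat_lit 3, nat_lit 2, nat_lit 2, nat_lit 0, nat_lit 2, nat_lit 0])) (.leaf ((nat_lit 160), [nat_lit 5, nat_lit 1, nat_lit 0, nat_lit 3, nat_lit 5, nat_lit 0, nat_lit 2, nat_lit 4, nat_lit 1, nat_lit 0, nat_lit 3, nat_lit 1, nat_lit 0, nat_lit 1, nat_lit 0])))) (.node (nat_lit 163) (.leaf ((nat_lit 161), [nat_lit 0, nat_lit 5, nat_lit 2, nat_lit 0, nat_lit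 5, nat_lit 0, nat_lit 4, nat_lit 1, nat_lit 4, nat_lit 0, nat_lit 1, nat_lit 0, nat_lit 2, nat_lit 2, nat_lit 0])) (.node (nat_lit 164) (.leaf ((nat_lit 162), [nat_lit 5, nat_lit 1, nat_lit 0, nat_lit 2, nat_lit 5, nat_lit 3, nat_lit 2, nat_lit 4, nat_lit 2, nat_lit 4, nat_lit 0, nat_lit 2, nat_lit 2, nat_lit 0, nat_lit 2, nat_lit 2, nat_lit 0])) (.leaf ((nat_lit 163), [nat_lit 4, nat_lit 5, nat_lit 3, nat_lit 5, nat_lit 3, nat_lit 0, nat_lit 4, nat_lit 1, nat_lit 4, nat_lit 0, nat_lit 2]))))))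
 (.node (nat_lit 170) (.node (nat_lit 167) (.node (nat_lit 166) (.leaf ((nat_lit 164), [nat_lit 1, nat_lit 5, nat_lit 2, nat_lit 5, nat_lit 3, nat_lit 4, nat_lit 3, nat_lit 1, nat_lit 3, nat_lit 0, nat_lit 1, nat_lit 0, nat_lit 2, nat_lit 0])) (.leaf ((nat_lit 165), [nat_lit 4, nat_lit 5, nat_lit 3, nat_lit 0, nat_lit 5, nat_lit 0, nat_lit 3, nat_lit 2, nat_lit 2, nat_lit 0]))) (.node (nat_lit 168) (.leaf ((nat_lit 166), [nat_lit 4, nat_lit 5, nat_lit 1, nat_lit 5, nat_lit 2, nat_lit 4, nat_lit 2, nat_lit 3, nat_lit 4, nat_lit 2, nat_lit 2, nat_lit 0, nat_lit 1, nat_lit 0, nat_lit 2, nat_lit 0])) (.node (nat_lit 169) (.leaf ((nat_lit 167), [nat_lit 1, nat_lit 5, nat_lit 2, nat_lit 4, nat_lit 3, nat_lit 0, nat_lit 4, nat_lit 2, nat_lit 0, nat_lit 1, nat_lit 0, nat_lit 2, nat_lit 2, nat_lit 0])) (.leaf ((nat_lit 168), [nat_lit 3, nat_lit 5, nat_lit 2, nat_lit 5, nat_lit 2, nat_lit 2, nat_lit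 4, nat_lit 1, nat_lit 0, nat_lit 3, nat_lit 2, nat_lit 0, nat_lit 2, nat_lit 2, nat_lit 0, nat_lit 2, nat_lit 0])))))
 (.node (nat_lit 173) (.node (nat_lit 171) (.leaf ((nat_lit 169), [nat_lit 1, nat_lit 5, nat_lit 0, nat_lit 5, nat_lit 2, nat_lit 4, nat_lit 1, nat_lit 0, nat_lit 2, nat_lit 3, nat_lit 1, nat_lit 0, nat_lit 1, nat_lit 0, nat_lit 2, nat_lit 2])) (.node (nat_lit 172) (.leaf ((nat_lit 170), [nat_lit 0, nat_lit 2, nat_lit 5, nat_lit 3, nat_lit 5, nat_lit 4, nat_lit 2, nat_lit 3, nat_lit 2, nat_lit 2, nat_lit 3, nat_lit 0, nat_lit 2, nat_lit 2, nat_lit 0, nat_lit 1, nat_lit 0])) (.leaf ((nat_lit 171), [nat_lit 5, nat_lit 3, nat_lit 5, nat_lit 0, nat_lit 1, nat_lit 3, nat_lit 1, nat_lit 3, nat_lit 2, nat_lit 0, nat_lit 2, nat_lit 2, nat_lit 0, nat_lit 2, nat_lit 2])))) (.node (nat_lit 174) (.leaf ((nat_lit 172), [nat_lit 1, nat_lit 5, nat_lit 3, nat_lit 5, nat_lit 4, nat_lit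 2, nat_lit 0, nat_lit 2, nat_lit 3, nat_lit 1, nat_lit 0, nat_lit 1, nat_lit 0, nat_lit 2, nat_lit 0, nat_lit 2])) (.node (nat_lit 175) (.leaf ((nat_lit 173), [nat_lit 4, nat_lit 1, nat_lit 0, nat_lit 5, nat_lit 4, nat_lit 3, nat_lit 0, nat_lit 2, nat_lit 3, nat_lit 2, nat_lit 2, nat_lit 0, nat_lit 2, nat_lit 2, nat_lit 0, nat_lit 2, nat_lit 0])) (.leaf ((nat_lit 174), [nat_lit 3, nat_lit 5, nat_lit 3, nat_lit 0, nat_lit 5, nat_lit 0, nat_lit 3, nat_lit 4, nat_lit 0, nat_lit 3, nat_lit 2, nat_lit 0, nat_lit 2]))))))))))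
noncomputable def bWd_1 : Tr (ℕ × List ℕ) := (.node (nat_lit 264) (.node (nat_lit 220) (.node (nat_lit 198) (.node (nat_lit 187) (.node (nat_lit 181) (.node (nat_lit 178) (.node (nat_lit 177) (.leaf ((nat_lit 53), [nat_lit 2, nat_lit 3, nat_lit 5, nat_lit 0, nat_lit 5, nat_lit 1, nat_lit 0, nat_lit 4, nat_lit 3, nat_lit 0, nat_lit 2, nat_lit 0])) (.leaf ((nat_lit 175), [nat_lit 1, nat_lit 5, nat_lit 1, nat_lit 5, nat_lit 0, nat_lit 4, nat_lit 3, nat_lit 2, nat_lit 2, nat_lit 0, nat_lit 2, nat_lit 2, nat_lit 0, nat_lit 2, nat_lit 2, nat_lit 0]))) (.node (nat_lit 179) (.leaf ((nat_lit 176), [nat_lit 2, nat_lit 2, nat_lit 0, nat_lit 5, nat_lit 0, nat_lit 3, nat_lit 4, nat_lit 3, nat_lit 0, nat_lit 2, nat_lit 2, nat_lit 0, nat_lit 2, nat_lit 2, nat_lit 0])) (.node (nat_lit 180) (.leaf ((nat_lit 177), [nat_lit 3, nat_lit 5, nat_lit 1, nat_lit 3, nat_lit 2, nat_lit 5, nat_lit 2, nat_lit 0,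 nat_lit 1, nat_lit 0, nat_lit 3, nat_lit 0, nat_lit 1, nat_lit 0, nat_lit 2, nat_lit 2, nat_lit 0, nat_lit 1])) (.leaf ((nat_lit 178), [nat_lit 5, nat_lit 3, nat_lit 5, nat_lit 4, nat_lit 1, nat_lit 0, nat_lit 3, nat_lit 2, nat_lit 3, nat_lit 0, nat_lit 2, nat_lit 2, nat_lit 0, nat_lit 2])))))
 (.node (nat_lit 184) (.node (nat_lit 182) (.leaf ((nat_lit 179), [nat_lit 3, nat_lit 5, nat_lit 3, nat_lit 0, nat_lit 5, nat_lit 2, nat_lit 3, nat_lit 4, nat_lit 0, nat_lit 1, nat_lit 0, nat_lit 2, nat_lit 2])) (.node (nat_lit 183) (.leaf ((nat_lit 180), [nat_lit 5, nat_lit 4, nat_lit 2, nat_lit 0, nat_lit 5, nat_lit 4, nat_lit 3, nat_lit 0, nat_lit 4, nat_lit 1, nat_lit 0, nat_lit 3, nat_lit 2, nat_lit 0, nat_lit 2, nat_lit 0, nat_lit 1, nat_lit 0, nat_lit 1])) (.leaf ((nat_lit 181), [nat_lit 3, nat_lit 5, nat_lit 2, nat_lit 3, nat_lit 0, nat_lit 5, nat_lit 1, nat_lit 0, nat_lit 2, nat_lit 4,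 nat_lit 0, nat_lit 1, nat_lit 0, nat_lit 2, nat_lit 0, nat_lit 2])))) (.node (nat_lit 185) (.leaf ((nat_lit 120), [nat_lit 5, nat_lit 4, nat_lit 5, nat_lit 1, nat_lit 0, nat_lit 3, nat_lit 1, nat_lit 4, nat_lit 2, nat_lit 2, nat_lit 0, nat_lit 2, nat_lit 2, nat_lit 0, nat_lit 2, nat_lit 2])) (.node (nat_lit 186) (.leaf ((nat_lit 125), [nat_lit 5, nat_lit 3, nat_lit 0, nat_lit 5, nat_lit 1, nat_lit 4, nat_lit 3, nat_lit 0, nat_lit 3, nat_lit 2, nat_lit 0, nat_lit 2])) (.leaf ((nat_lit 182), [nat_lit 5, nat_lit 0, nat_lit 3, nat_lit 2, nat_lit 4, nat_lit 2, nat_lit 2, nat_lit 0, nat_lit 2, nat_lit 0, nat_lit 1, nat_lit 0]))))))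
 (.node (nat_lit 192) (.node (nat_lit 189) (.node (nat_lit 188) (.leaf ((nat_lit 183), [nat_lit 5, nat_lit 4, nat_lit 3, nat_lit 2, nat_lit 5, nat_lit 3, nat_lit 2, nat_lit 0, nat_lit 2, nat_lit 4, nat_lit 0, nat_lit 1, nat_lit 0, nat_lit 2, nat_lit 2])) (.leaf ((nat_lit 184), [nat_lit 5, nat_lit 4, nat_lit 3, nat_lit 0, nat_lit 5, nat_lit 4, nat_lit 1, nat_lit 3, nat_lit 4, nat_lit 0, nat_lit 1, nat_lit 0, nat_lit 2, nat_lit 2, nat_lit 0, nat_lit 1]))) (.node (nat_lit 190) (.leaf ((nat_lit 185), [nat_lit 4, nat_lit 5, nat_lit 4, nat_lit 0, nat_lit 5, nat_lit 4, nat_lit 2, nat_lit 0, nat_lit 2, nat_lit 4, nat_lit 0, nat_lit 1, nat_lit 0, nat_lit 2, nat_lit 0, nat_lit 2, nat_lit 2])) (.node (nat_lit 191) (.leaf ((nat_lit 186), [nat_lit 4, nat_lit 5, nat_lit 1, nat_lit 3, nat_lit 0, nat_lit 4, nat_lit 0, nat_lit 2, nat_lit 2, nat_lit 0, nat_lit 2])) (.leaf ((nat_lit 187), [nat_lit 5, nat_lit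 4, nat_lit 2, nat_lit 5, nat_lit 0, nat_lit 1, nat_lit 3, nat_lit 0, nat_lit 3, nat_lit 1, nat_lit 0, nat_lit 2, nat_lit 2, nat_lit 0, nat_lit 2])))))
 (.node (nat_lit 195) (.node (nat_lit 193) (.leaf ((nat_lit 188), [nat_lit 3, nat_lit 5, nat_lit 0, nat_lit 5, nat_lit 3, nat_lit 0, nat_lit 3, nat_lit 2, nat_lit 0, nat_lit 3, nat_lit 2, nat_lit 2, nat_lit 0, nat_lit 2, nat_lit 2, nat_lit 0, nat_lit 2, nat_lit 2, nat_lit 0])) (.node (nat_lit 194) (.leaf ((nat_lit 189), [nat_lit 0, nat_lit 2, nat_lit 5, nat_lit 3, nat_lit 1, nat_lit 0, nat_lit 2, nat_lit 0, nat_lit 2])) (.leaf ((nat_lit 190), [nat_lit 4, nat_lit 3, nat_lit 0, nat_lit 5, nat_lit 4, nat_lit 1, nat_lit 3, nat_lit 2, nat_lit 2, nat_lit 0, nat_lit 2, nat_lit 2, nat_lit 0, nat_lit 2, nat_lit 0])))) (.node (nat_lit 196) (.leaf ((nat_lit 191), [nat_lit 2, nat_lit 3, nat_lit 5, nat_lit 0, nat_lit 5, nat_lit 3, nat_lit 2, nat_lit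 4, nat_lit 3, nat_lit 2, nat_lit 0, nat_lit 2, nat_lit 0, nat_lit 1, nat_lit 0, nat_lit 1, nat_lit 0])) (.node (nat_lit 197) (.leaf ((nat_lit 192), [nat_lit 0, nat_lit 5, nat_lit 3, nat_lit 5, nat_lit 4, nat_lit 1, nat_lit 0, nat_lit 2, nat_lit 3, nat_lit 1, nat_lit 0, nat_lit 2, nat_lit 0])) (.leaf ((nat_lit 193), [nat_lit 2, nat_lit 0, nat_lit 2, nat_lit 5, nat_lit 3, nat_lit 0, nat_lit 3, nat_lit 2, nat_lit 0, nat_lit 3, nat_lit 2, nat_lit 0, nat_lit 2])))))))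
 (.node (nat_lit 209) (.node (nat_lit 203) (.node (nat_lit 200) (.node (nat_lit 199) (.leaf ((nat_lit 194), [nat_lit 2, nat_lit 0, nat_lit 5, nat_lit 4, nat_lit 2, nat_lit 3, nat_lit 4, nat_lit 3, nat_lit 2, nat_lit 0, nat_lit 1, nat_lit 0])) (.leaf ((nat_lit 195), [nat_lit 4, nat_lit 3, nat_lit 2, nat_lit 5, nat_lit 4, nat_lit 0, nat_lit 1, nat_lit 0, nat_lit 1, nat_lit 0, nat_lit 3, nat_lit 0, nat_lit 2, nat_lit 2, nat_lit 0, nat_lit 2]))) (.node (nat_lit 201) (.leaf ((nat_lit 196), [nat_lit 5, nat_lit 4, nat_lit 5, nat_lit 2, nat_lit 5, nat_lit 4, nat_lit 3, nat_lit 1, nat_lit 3, nat_lit 1, nat_lit 3, nat_lit 2, nat_lit 2, nat_lit 0, nat_lit 2, nat_lit 0])) (.node (nat_lit 202) (.leaf ((nat_lit 197), [nat_lit 4, nat_lit 5, nat_lit 3, nat_lit 0, nat_lit 5, nat_lit 4, nat_lit 3, nat_lit 0, nat_lit 4, nat_lit 1, nat_lit 0, nat_lit 2, nat_lit 0, nat_lit 2])) (.leaf ((nat_lit 198), [nat_lit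 4, nat_lit 0, nat_lit 5, nat_lit 3, nat_lit 4, nat_lit 0, nat_lit 2, nat_lit 2, nat_lit 3, nat_lit 1, nat_lit 0, nat_lit 1, nat_lit 0, nat_lit 2, nat_lit 0, nat_lit 2])))))
 (.node (nat_lit 206) (.node (nat_lit 204) (.leaf ((nat_lit 199), [nat_lit 2, nat_lit 5, nat_lit 1, nat_lit 5, nat_lit 3, nat_lit 0, nat_lit 4, nat_lit 1, nat_lit 4, nat_lit 0, nat_lit 2, nat_lit 0, nat_lit 1, nat_lit 0])) (.node (nat_lit 205) (.leaf ((nat_lit 200), [nat_lit 4, nat_lit 5, nat_lit 3, nat_lit 0, nat_lit 5, nat_lit 4, nat_lit 0, nat_lit 2, nat_lit 4, nat_lit 2, nat_lit 0, nat_lit 2, nat_lit 2, nat_lit 0, nat_lit 2])) (.leaf ((nat_lit 201), [nat_lit 5, nat_lit 4, nat_lit 3, nat_lit 0, nat_lit 5, nat_lit 1, nat_lit 3, nat_lit 4, nat_lit 1, nat_lit 3, nat_lit 0, nat_lit 2, nat_lit 2, nat_lit 0, nat_lit 2, nat_lit 0])))) (.node (nat_lit 207) (.leaf ((nat_lit 202), [nat_lit 1, nat_lit 4, nat_lit 2, nat_lit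 5, nat_lit 4, nat_lit 1, nat_lit 0, nat_lit 3, nat_lit 1, nat_lit 4, nat_lit 1, nat_lit 0, nat_lit 2, nat_lit 0])) (.node (nat_lit 208) (.leaf ((nat_lit 203), [nat_lit 3, nat_lit 5, nat_lit 1, nat_lit 3, nat_lit 2, nat_lit 5, nat_lit 2, nat_lit 4, nat_lit 1, nat_lit 3, nat_lit 1, nat_lit 3, nat_lit 0, nat_lit 1, nat_lit 0, nat_lit 2])) (.leaf ((nat_lit 204), [nat_lit 1, nat_lit 5, nat_lit 2, nat_lit 5, nat_lit 0, nat_lit 2, nat_lit 0, nat_lit 4, nat_lit 1, nat_lit 4, nat_lit 0, nat_lit 2, nat_lit 2, nat_lit 0, nat_lit 1, nat_lit 0, nat_lit 2]))))))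
 (.node (nat_lit 214) (.node (nat_lit 211) (.node (nat_lit 210) (.leaf ((nat_lit 205), [nat_lit 2, nat_lit 5, nat_lit 0, nat_lit 1, nat_lit 5, nat_lit 0, nat_lit 1, nat_lit 3, nat_lit 0, nat_lit 4, nat_lit 0])) (.leaf ((nat_lit 206), [nat_lit 3, nat_lit 5, nat_lit 2, nat_lit 3, nat_lit 0, nat_lit 5, nat_lit 3, nat_lit 0, nat_lit 4, nat_lit 1, nat_lit 0, nat_lit 1, nat_lit 0, nat_lit 2, nat_lit 0, nat_lit 2, nat_lit 0]))) (.node (nat_lit 212) (.leaf ((nat_lit 207), [nat_lit 4, nat_lit 5, nat_lit 3, nat_lit 0, nat_lit 5, nat_lit 4, nat_lit 3, nat_lit 2, nat_lit 4, nat_lit 2, nat_lit 2, nat_lit 0, nat_lit 1, nat_lit 0, nat_lit 2, nat_lit 2])) (.node (nat_lit 213) (.leaf ((nat_lit 208), [nat_lit 0, nat_lit 5, nat_lit 2, nat_lit 0, nat_lit 5, nat_lit 4, nat_lit 1, nat_lit 0, nat_lit 3, nat_lit 4, nat_lit 2, nat_lit 0, nat_lit 1, nat_lit 0, nat_lit 2, nat_lit 2])) (.leaf ((nat_lit 209), [nat_lit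 4, nat_lit 5, nat_lit 3, nat_lit 2, nat_lit 5, nat_lit 4, nat_lit 1, nat_lit 3, nat_lit 0, nat_lit 3, nat_lit 1, nat_lit 0, nat_lit 2])))))
 (.node (nat_lit 217) (.node (nat_lit 215) (.leaf ((nat_lit 210), [nat_lit 1, nat_lit 5, nat_lit 3, nat_lit 5, nat_lit 4, nat_lit 1, nat_lit 3, nat_lit 1, nat_lit 0, nat_lit 2, nat_lit 2, nat_lit 0])) (.node (nat_lit 216) (.leaf ((nat_lit 52), [nat_lit 2, nat_lit 5, nat_lit 4, nat_lit 5, nat_lit 2, nat_lit 2, nat_lit 0, nat_lit 3, nat_lit 0, nat_lit 4, nat_lit 0, nat_lit 2, nat_lit 2])) (.leaf ((nat_lit 211), [nat_lit 3, nat_lit 5, nat_lit 2, nat_lit 5, nat_lit 2, nat_lit 4, nat_lit 3, nat_lit 0, nat_lit 2, nat_lit 4, nat_lit 0, nat_lit 2, nat_lit 2, nat_lit 0, nat_lit 1, nat_lit 0, nat_lit 2])))) (.node (nat_lit 218) (.leaf ((nat_lit 212), [nat_lit 4, nat_lit 5, nat_lit 3, nat_lit 2, nat_lit 5, nat_lit 3, nat_lit 4, nat_lit 1, nat_lit 3, nat_lit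 1, nat_lit 3, nat_lit 0, nat_lit 2, nat_lit 2, nat_lit 0, nat_lit 2, nat_lit 0, nat_lit 1, nat_lit 0])) (.node (nat_lit 219) (.leaf ((nat_lit 213), [nat_lit 3, nat_lit 4, nat_lit 5, nat_lit 2, nat_lit 5, nat_lit 4, nat_lit 1, nat_lit 0, nat_lit 2, nat_lit 4, nat_lit 2, nat_lit 2, nat_lit 0, nat_lit 1, nat_lit 0])) (.leaf ((nat_lit 214), [nat_lit 5, nat_lit 4, nat_lit 5, nat_lit 2, nat_lit 5, nat_lit 2, nat_lit 3, nat_lit 4, nat_lit 1, nat_lit 3, nat_lit 0, nat_lit 2, nat_lit 0, nat_lit 2, nat_lit 2, nat_lit 0, nat_lit 1]))))))))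
 (.node (nat_lit 242) (.node (nat_lit 231) (.node (nat_lit 225) (.node (nat_lit 222) (.node (nat_lit 221) (.leaf ((nat_lit 215), [nat_lit 3, nat_lit 0, nat_lit 2, nat_lit 5, nat_lit 1, nat_lit 3, nat_lit 0, nat_lit 3, nat_lit 2, nat_lit 3, nat_lit 0, nat_lit 2, nat_lit 0, nat_lit 2, nat_lit 2])) (.leaf ((nat_lit 216), [nat_lit 3, nat_lit 2, nat_lit 0, nat_lit 5, nat_lit 4, nat_lit 2, nat_lit 3, nat_lit 1, nat_lit 3, nat_lit 1, nat_lit 0, nat_lit 2, nat_lit 2, nat_lit 0, nat_lit 1]))) (.node (nat_lit 223) (.leaf ((nat_lit 217), [nat_lit 5, nat_lit 4, nat_lit 5, nat_lit 2, nat_lit 5, nat_lit 2, nat_lit 4, nat_lit 2, nat_lit 2, nat_lit 0, nat_lit 1])) (.node (nat_lit 224) (.leaf ((nat_lit 218), [nat_lit 5, nat_lit 1, nat_lit 0, nat_lit 3, nat_lit 5, nat_lit 2, nat_lit 2, nat_lit 3, nat_lit 2, nat_lit 0, nat_lit 1, nat_lit 0, nat_lit 1, nat_lit 0, nat_lit 2])) (.leaf ((nat_lit 219), [nat_lit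 5, nat_lit 3, nat_lit 0, nat_lit 5, nat_lit 2, nat_lit 4, nat_lit 0, nat_lit 1, nat_lit 4, nat_lit 0, nat_lit 2, nat_lit 0, nat_lit 2, nat_lit 2, nat_lit 0, nat_lit 1, nat_lit 0])))))
 (.node (nat_lit 228) (.node (nat_lit 226) (.leaf ((nat_lit 220), [nat_lit 1, nat_lit 0, nat_lit 2, nat_lit 5, nat_lit 3, nat_lit 4, nat_lit 2, nat_lit 4, nat_lit 2, nat_lit 3, nat_lit 2, nat_lit 0, nat_lit 1, nat_lit 0])) (.node (nat_lit 227) (.leaf ((nat_lit 221), [nat_lit 3, nat_lit 2, nat_lit 5, nat_lit 0, nat_lit 5, nat_lit 4, nat_lit 2, nat_lit 0, nat_lit 1, nat_lit 0, nat_lit 3, nat_lit 2, nat_lit 2, nat_lit 0, nat_lit 1])) (.leaf ((nat_lit 222), [nat_lit 4, nat_lit 2, nat_lit 5, nat_lit 4, nat_lit 3, nat_lit 2, nat_lit 3, nat_lit 1, nat_lit 0, nat_lit 2])))) (.node (nat_lit 229) (.leaf ((nat_lit 223), [nat_lit 1, nat_lit 0, nat_lit 5, nat_lit 1, nat_lit 0, nat_lit 3, nat_lit 4, nat_lit 1, nat_lit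 0, nat_lit 2, nat_lit 0, nat_lit 2, nat_lit 2, nat_lit 0])) (.node (nat_lit 230) (.leaf ((nat_lit 204), [nat_lit 0, nat_lit 5, nat_lit 1, nat_lit 3, nat_lit 1, nat_lit 4, nat_lit 2, nat_lit 2, nat_lit 0, nat_lit 2])) (.leaf ((nat_lit 224), [nat_lit 5, nat_lit 4, nat_lit 3, nat_lit 5, nat_lit 2, nat_lit 5, nat_lit 0, nat_lit 2, nat_lit 3, nat_lit 2, nat_lit 3, nat_lit 0, nat_lit 2, nat_lit 2, nat_lit 0, nat_lit 1]))))))
 (.node (nat_lit 236) (.node (nat_lit 233) (.node (nat_lit 232) (.leaf ((nat_lit 171), [nat_lit 4, nat_lit 5, nat_lit 2, nat_lit 3, nat_lit 5, nat_lit 4, nat_lit 3, nat_lit 1, nat_lit 4, nat_lit 1, nat_lit 3, nat_lit 0, nat_lit 2, nat_lit 0, nat_lit 2, nat_lit 2, nat_lit 0, nat_lit 1])) (.leaf ((nat_lit 225), [nat_lit 3, nat_lit 5, nat_lit 2, nat_lit 3, nat_lit 0, nat_lit 5, nat_lit 2, nat_lit 2, nat_lit 4, nat_lit 3, nat_lit 1, nat_lit 0, nat_lit 2, nat_lit 2]))) (.node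 (nat_lit 234) (.leaf ((nat_lit 226), [nat_lit 4, nat_lit 5, nat_lit 4, nat_lit 0, nat_lit 5, nat_lit 0, nat_lit 4, nat_lit 0, nat_lit 4, nat_lit 2, nat_lit 0, nat_lit 1, nat_lit 0])) (.node (nat_lit 235) (.leaf ((nat_lit 227), [nat_lit 5, nat_lit 2, nat_lit 5, nat_lit 4, nat_lit 0, nat_lit 3, nat_lit 2, nat_lit 0, nat_lit 1, nat_lit 0, nat_lit 2, nat_lit 2, nat_lit 0])) (.leaf ((nat_lit 228), [nat_lit 1, nat_lit 0, nat_lit 5, nat_lit 0, nat_lit 4, nat_lit 1, nat_lit 3, nat_lit 1, nat_lit 3, nat_lit 2, nat_lit 2, nat_lit 0, nat_lit 2, nat_lit 2, nat_lit 0, nat_lit 2])))))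
 (.node (nat_lit 239) (.node (nat_lit 237) (.leaf ((nat_lit 229), [nat_lit 3, nat_lit 2, nat_lit 3, nat_lit 5, nat_lit 3, nat_lit 1, nat_lit 4, nat_lit 1, nat_lit 3, nat_lit 0, nat_lit 1, nat_lit 0, nat_lit 1])) (.node (nat_lit 238) (.leaf ((nat_lit 230), [nat_lit 4, nat_lit 1, nat_lit 5, nat_lit 2, nat_lit 5, nat_lit 2, nat_lit 4, nat_lit 0, nat_lit 4, nat_lit 2, nat_lit 2, nat_lit 0])) (.leaf ((nat_lit 231), [nat_lit 0, nat_lit 5, nat_lit 2, nat_lit 3, nat_lit 1, nat_lit 0, nat_lit 2, nat_lit 3, nat_lit 0])))) (.node (nat_lit 240) (.leaf ((nat_lit 232), [nat_lit 2, nat_lit 0, nat_lit 3])) (.node (nat_lit 241) (.leaf ((nat_lit 233), [nat_lit 4, nat_lit 1, nat_lit 5, nat_lit 3, nat_lit 5, nat_lit 2, nat_lit 3, nat_lit 2, nat_lit 0, nat_lit 4, nat_lit 1, nat_lit 0, nat_lit 2, nat_lit 2, nat_lit 0, nat_lit 1, nat_lit 0])) (.leaf ((nat_lit 234), [nat_lit 0, nat_lit 3, nat_lit 5, nat_lit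 2, nat_lit 0, nat_lit 3, nat_lit 4, nat_lit 2, nat_lit 2, nat_lit 0, nat_lit 1, nat_lit 0, nat_lit 2, nat_lit 0])))))))
 (.node (nat_lit 253) (.node (nat_lit 247) (.node (nat_lit 244) (.node (nat_lit 243) (.leaf ((nat_lit 235), [nat_lit 3, nat_lit 2, nat_lit 0, nat_lit 5, nat_lit 1, nat_lit 0, nat_lit 2, nat_lit 0, nat_lit 2, nat_lit 4, nat_lit 0, nat_lit 2, nat_lit 0, nat_lit 2, nat_lit 2, nat_lit 0])) (.leaf ((nat_lit 236), [nat_lit 2, nat_lit 4, nat_lit 5, nat_lit 2, nat_lit 0, nat_lit 5, nat_lit 3, nat_lit 1, nat_lit 3, nat_lit 0, nat_lit 2, nat_lit 4, nat_lit 2]))) (.node (nat_lit 245) (.leaf ((nat_lit 189), [nat_lit 4, nat_lit 3, nat_lit 5, nat_lit 0, nat_lit 5, nat_lit 3, nat_lit 1, nat_lit 3, nat_lit 1, nat_lit 0, nat_lit 2, nat_lit 2, nat_lit 0, nat_lit 2, nat_lit 2])) (.node (nat_lit 246) (.leaf ((nat_lit 0), [nat_lit 5, nat_lit 0, nat_lit 4, nat_lit 5, nat_lit 0, nat_lit 4,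 nat_lit 1, nat_lit 0, nat_lit 4, nat_lit 0, nat_lit 2, nat_lit 0, nat_lit 1, nat_lit 0, nat_lit 1, nat_lit 0])) (.leaf ((nat_lit 237), [nat_lit 1, nat_lit 4, nat_lit 2, nat_lit 5, nat_lit 3, nat_lit 2, nat_lit 4, nat_lit 0, nat_lit 4, nat_lit 1, nat_lit 0, nat_lit 1, nat_lit 0])))))
 (.node (nat_lit 250) (.node (nat_lit 248) (.leaf ((nat_lit 133), [nat_lit 0, nat_lit 5, nat_lit 3, nat_lit 0, nat_lit 5, nat_lit 1, nat_lit 4, nat_lit 2, nat_lit 0, nat_lit 2])) (.node (nat_lit 249) (.leaf ((nat_lit 238), [nat_lit 1, nat_lit 5, nat_lit 4, nat_lit 2, nat_lit 3, nat_lit 4, nat_lit 3, nat_lit 1, nat_lit 0, nat_lit 2, nat_lit 2, nat_lit 0])) (.leaf ((nat_lit 239), [nat_lit 3, nat_lit 0, nat_lit 5, nat_lit 3, nat_lit 5, nat_lit 0, nat_lit 1, nat_lit 0, nat_lit 2, nat_lit 0, nat_lit 2, nat_lit 2])))) (.node (nat_lit 251) (.leaf ((nat_lit 240), [nat_lit 2, nat_lit 3, nat_lit 5, nat_lit 4, nat_lit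 3, nat_lit 0, nat_lit 1, nat_lit 0, nat_lit 3, nat_lit 1, nat_lit 0, nat_lit 1, nat_lit 0, nat_lit 2, nat_lit 0, nat_lit 2, nat_lit 0])) (.node (nat_lit 252) (.leaf ((nat_lit 241), [nat_lit 4, nat_lit 1, nat_lit 5, nat_lit 0, nat_lit 5, nat_lit 4, nat_lit 0, nat_lit 1, nat_lit 0, nat_lit 3, nat_lit 0, nat_lit 1, nat_lit 0, nat_lit 2, nat_lit 0, nat_lit 2])) (.leaf ((nat_lit 242), [nat_lit 1, nat_lit 5, nat_lit 1, nat_lit 5, nat_lit 1, nat_lit 3, nat_lit 0, nat_lit 4, nat_lit 1, nat_lit 0, nat_lit 1, nat_lit 0, nat_lit 2, nat_lit 0]))))))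
 (.node (nat_lit 258) (.node (nat_lit 255) (.node (nat_lit 254) (.leaf ((nat_lit 243), [nat_lit 1, nat_lit 5, nat_lit 1, nat_lit 5, nat_lit 2, nat_lit 4, nat_lit 3, nat_lit 0, nat_lit 3, nat_lit 0, nat_lit 2, nat_lit 0, nat_lit 1, nat_lit 0, nat_lit 1])) (.leaf ((nat_lit 244), [nat_lit 5, nat_lit 2, nat_lit 3, nat_lit 0, nat_lit 5, nat_lit 0, nat_lit 4, nat_lit 3, nat_lit 0, nat_lit 3, nat_lit 2, nat_lit 0, nat_lit 1, nat_lit 0, nat_lit 2, nat_lit 0]))) (.node (nat_lit 256) (.leaf ((nat_lit 245), [nat_lit 4, nat_lit 1, nat_lit 5, nat_lit 0, nat_lit 5, nat_lit 1, nat_lit 3, nat_lit 2, nat_lit 4, nat_lit 0, nat_lit 1, nat_lit 0, nat_lit 1, nat_lit 0])) (.node (nat_lit 257) (.leaf ((nat_lit 246), [nat_lit 5, nat_lit 2, nat_lit 5, nat_lit 4, nat_lit 1, nat_lit 3, nat_lit 0, nat_lit 1, nat_lit 0, nat_lit 2, nat_lit 2])) (.leaf ((nat_lit 247), [nat_lit 0, nat_lit 5, nat_lit 0, nat_lit 1, nat_lit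 5, nat_lit 3, nat_lit 0, nat_lit 1, nat_lit 3, nat_lit 0, nat_lit 3, nat_lit 2, nat_lit 2])))))
 (.node (nat_lit 261) (.node (nat_lit 259) (.leaf ((nat_lit 248), [nat_lit 0, nat_lit 4, nat_lit 5, nat_lit 0, nat_lit 1, nat_lit 3, nat_lit 1, nat_lit 3, nat_lit 2, nat_lit 2, nat_lit 0, nat_lit 2, nat_lit 2, nat_lit 0, nat_lit 2, nat_lit 0])) (.node (nat_lit 260) (.leaf ((nat_lit 249), [nat_lit 5, nat_lit 0, nat_lit 3, nat_lit 5, nat_lit 3, nat_lit 2, nat_lit 0, nat_lit 2, nat_lit 4, nat_lit 2, nat_lit 2, nat_lit 0, nat_lit 1])) (.leaf ((nat_lit 250), [nat_lit 5, nat_lit 0, nat_lit 1, nat_lit 5, nat_lit 1, nat_lit 3, nat_lit 1, nat_lit 0, nat_lit 4, nat_lit 2, nat_lit 0, nat_lit 1, nat_lit 0, nat_lit 1, nat_lit 0])))) (.node (nat_lit 262) (.leaf ((nat_lit 251), [nat_lit 2, nat_lit 2, nat_lit 0, nat_lit 5, nat_lit 2, nat_lit 0, nat_lit 3, nat_lit 4, nat_lit 0, nat_lit 1, nat_lit 0])) (.node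 (nat_lit 263) (.leaf ((nat_lit 252), [nat_lit 3, nat_lit 2, nat_lit 0, nat_lit 5, nat_lit 4, nat_lit 1, nat_lit 3, nat_lit 2, nat_lit 4, nat_lit 0, nat_lit 2, nat_lit 0, nat_lit 2, nat_lit 2, nat_lit 0, nat_lit 1])) (.leaf ((nat_lit 253), [nat_lit 4, nat_lit 0, nat_lit 5, nat_lit 0, nat_lit 1, nat_lit 3, nat_lit 1, nat_lit 3, nat_lit 0, nat_lit 1, nat_lit 0, nat_lit 2, nat_lit 0, nat_lit 2, nat_lit 2])))))))))
 (.node (nat_lit 308) (.node (nat_lit 286) (.node (nat_lit 275) (.node (nat_lit 269) (.node (nat_lit 266) (.node (nat_lit 265) (.leaf ((nat_lit 254), [nat_lit 4, nat_lit 5, nat_lit 4, nat_lit 0, nat_lit 5, nat_lit 0, nat_lit 4, nat_lit 3, nat_lit 0, nat_lit 4, nat_lit 1, nat_lit 0, nat_lit 2, nat_lit 0, nat_lit 2, nat_lit 2])) (.leaf ((nat_lit 255), [nat_lit 5, nat_lit 4, nat_lit 5, nat_lit 1, nat_lit 5, nat_lit 2, nat_lit 2, nat_lit 0, nat_lit 3, nat_lit 1, nat_lit 0, nat_lit 2,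 nat_lit 0, nat_lit 2, nat_lit 0]))) (.node (nat_lit 267) (.leaf ((nat_lit 256), [nat_lit 5, nat_lit 4, nat_lit 5, nat_lit 3, nat_lit 2, nat_lit 3, nat_lit 2, nat_lit 4, nat_lit 2, nat_lit 0, nat_lit 2, nat_lit 0, nat_lit 1])) (.node (nat_lit 268) (.leaf ((nat_lit 257), [nat_lit 5, nat_lit 1, nat_lit 3, nat_lit 0, nat_lit 5, nat_lit 3, nat_lit 2, nat_lit 0, nat_lit 1, nat_lit 0, nat_lit 3, nat_lit 0, nat_lit 2, nat_lit 2, nat_lit 0, nat_lit 2])) (.leaf ((nat_lit 258), [nat_lit 5, nat_lit 1, nat_lit 0, nat_lit 3, nat_lit 5, nat_lit 3, nat_lit 0, nat_lit 2, nat_lit 2, nat_lit 0])))))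
 (.node (nat_lit 272) (.node (nat_lit 270) (.leaf ((nat_lit 259), [nat_lit 4, nat_lit 5, nat_lit 1, nat_lit 5, nat_lit 4, nat_lit 1, nat_lit 4, nat_lit 3])) (.node (nat_lit 271) (.leaf ((nat_lit 260), [nat_lit 2, nat_lit 5, nat_lit 4, nat_lit 5, nat_lit 3, nat_lit 2, nat_lit 0, nat_lit 3, nat_lit 0])) (.leaf ((nat_lit 261), [nat_lit 5, nat_lit 2, nat_lit 5, nat_lit 4, nat_lit 0, nat_lit 4, nat_lit 3, nat_lit 2, nat_lit 2, nat_lit 0, nat_lit 2, nat_lit 0, nat_lit 1, nat_lit 0])))) (.node (nat_lit 273) (.leaf ((nat_lit 262), [nat_lit 3, nat_lit 1, nat_lit 5, nat_lit 2, nat_lit 5, nat_lit 1, nat_lit 4, nat_lit 0, nat_lit 1, nat_lit 0, nat_lit 3, nat_lit 0, nat_lit 1, nat_lit 0, nat_lit 2, nat_lit 2, nat_lit 0, nat_lit 2, nat_lit 0])) (.node (nat_lit 274) (.leaf ((nat_lit 263), [nat_lit 3, nat_lit 5, nat_lit 0, nat_lit 5, nat_lit 1, nat_lit 4, nat_lit 1, nat_lit 3, nat_lit 4, nat_lit 0, nat_lit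 2, nat_lit 2, nat_lit 0, nat_lit 2, nat_lit 2])) (.leaf ((nat_lit 264), [nat_lit 3, nat_lit 0, nat_lit 2, nat_lit 5, nat_lit 0, nat_lit 1, nat_lit 0, nat_lit 4, nat_lit 1, nat_lit 0, nat_lit 2, nat_lit 0, nat_lit 2, nat_lit 0]))))))
 (.node (nat_lit 280) (.node (nat_lit 277) (.node (nat_lit 276) (.leaf ((nat_lit 265), [nat_lit 5, nat_lit 4, nat_lit 3, nat_lit 5, nat_lit 2, nat_lit 5, nat_lit 3, nat_lit 2, nat_lit 3, nat_lit 4, nat_lit 1, nat_lit 3, nat_lit 2, nat_lit 0, nat_lit 2, nat_lit 0, nat_lit 1])) (.leaf ((nat_lit 266), [nat_lit 4, nat_lit 3, nat_lit 2, nat_lit 5, nat_lit 3, nat_lit 1, nat_lit 3, nat_lit 1, nat_lit 4, nat_lit 2, nat_lit 0, nat_lit 1, nat_lit 0, nat_lit 2]))) (.node (nat_lit 278) (.leaf ((nat_lit 267), [nat_lit 4, nat_lit 5, nat_lit 2, nat_lit 5, nat_lit 4, nat_lit 3, nat_lit 1, nat_lit 4, nat_lit 3, nat_lit 1, nat_lit 0, nat_lit 2, nat_lit 0, nat_lit 2, nat_lit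 2, nat_lit 0])) (.node (nat_lit 279) (.leaf ((nat_lit 268), [nat_lit 5, nat_lit 0, nat_lit 4, nat_lit 5, nat_lit 2, nat_lit 3, nat_lit 1, nat_lit 3, nat_lit 0, nat_lit 2, nat_lit 0])) (.leaf ((nat_lit 269), [nat_lit 3, nat_lit 0, nat_lit 5, nat_lit 3, nat_lit 5, nat_lit 4, nat_lit 0, nat_lit 4, nat_lit 3, nat_lit 0, nat_lit 3, nat_lit 0, nat_lit 1, nat_lit 0, nat_lit 1])))))
 (.node (nat_lit 283) (.node (nat_lit 281) (.leaf ((nat_lit 270), [nat_lit 0, nat_lit 5, nat_lit 3, nat_lit 0, nat_lit 5, nat_lit 3, nat_lit 0, nat_lit 2, nat_lit 4, nat_lit 3, nat_lit 2, nat_lit 0, nat_lit 2, nat_lit 0, nat_lit 1, nat_lit 0])) (.node (nat_lit 282) (.leaf ((nat_lit 271), [nat_lit 2, nat_lit 4, nat_lit 2, nat_lit 0, nat_lit 5, nat_lit 4, nat_lit 2, nat_lit 3, nat_lit 0, nat_lit 3, nat_lit 2, nat_lit 0, nat_lit 1, nat_lit 0])) (.leaf ((nat_lit 272), [nat_lit 5, nat_lit 2, nat_lit 3, nat_lit 0, nat_lit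 5, nat_lit 3, nat_lit 4, nat_lit 0])))) (.node (nat_lit 284) (.leaf ((nat_lit 210), [nat_lit 3, nat_lit 5, nat_lit 2, nat_lit 0, nat_lit 3, nat_lit 2, nat_lit 0, nat_lit 2, nat_lit 0, nat_lit 1])) (.node (nat_lit 285) (.leaf ((nat_lit 273), [nat_lit 3, nat_lit 4, nat_lit 3, nat_lit 5, nat_lit 2, nat_lit 4, nat_lit 1, nat_lit 4, nat_lit 1, nat_lit 3, nat_lit 2, nat_lit 2, nat_lit 0, nat_lit 1, nat_lit 0, nat_lit 2, nat_lit 0])) (.leaf ((nat_lit 274), [nat_lit 4, nat_lit 5, nat_lit 2, nat_lit 5, nat_lit 3, nat_lit 0, nat_lit 3, nat_lit 4, nat_lit 3, nat_lit 2, nat_lit 2, nat_lit 0, nat_lit 1, nat_lit 0, nat_lit 2])))))))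
 (.node (nat_lit 297) (.node (nat_lit 291) (.node (nat_lit 288) (.node (nat_lit 287) (.leaf ((nat_lit 275), [nat_lit 3, nat_lit 0, nat_lit 5, nat_lit 4, nat_lit 1, nat_lit 3, nat_lit 4, nat_lit 2, nat_lit 3, nat_lit 2, nat_lit 0, nat_lit 1])) (.leaf ((nat_lit 153), [nat_lit 2, nat_lit 0, nat_lit 1, nat_lit 5, nat_lit 2, nat_lit 3, nat_lit 1, nat_lit 3, nat_lit 4, nat_lit 3, nat_lit 2, nat_lit 2, nat_lit 0, nat_lit 2, nat_lit 2]))) (.node (nat_lit 289) (.leaf ((nat_lit 276), [nat_lit 3, nat_lit 2, nat_lit 5, nat_lit 3, nat_lit 2, nat_lit 0, nat_lit 2, nat_lit 3, nat_lit 1, nat_lit 0, nat_lit 2, nat_lit 2, nat_lit 0, nat_lit 1, nat_lit 0])) (.node (nat_lit 290) (.leaf ((nat_lit 277), [nat_lit 0, nat_lit 5, nat_lit 3, nat_lit 4, nat_lit 0, nat_lit 3, nat_lit 1, nat_lit 0, nat_lit 1, nat_lit 0, nat_lit 2, nat_lit 2, nat_lit 0])) (.leaf ((nat_lit 278), [nat_lit 3, nat_lit 1, nat_lit 5, nat_lit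 0, nat_lit 5, nat_lit 4, nat_lit 1, nat_lit 0, nat_lit 3, nat_lit 2, nat_lit 3, nat_lit 0, nat_lit 2, nat_lit 0, nat_lit 2, nat_lit 2, nat_lit 0, nat_lit 2])))))
 (.node (nat_lit 294) (.node (nat_lit 292) (.leaf ((nat_lit 279), [nat_lit 5, nat_lit 4, nat_lit 5, nat_lit 1, nat_lit 5, nat_lit 3, nat_lit 2, nat_lit 4, nat_lit 0, nat_lit 4, nat_lit 0, nat_lit 2, nat_lit 0, nat_lit 2, nat_lit 2, nat_lit 0, nat_lit 1])) (.node (nat_lit 293) (.leaf ((nat_lit 154), [nat_lit 3, nat_lit 4, nat_lit 5, nat_lit 2, nat_lit 5, nat_lit 2, nat_lit 4, nat_lit 2, nat_lit 3, nat_lit 1, nat_lit 3, nat_lit 0, nat_lit 2, nat_lit 0, nat_lit 2, nat_lit 2, nat_lit 0])) (.leaf ((nat_lit 280), [nat_lit 3, nat_lit 4, nat_lit 5, nat_lit 2, nat_lit 5, nat_lit 0, nat_lit 1, nat_lit 4, nat_lit 0, nat_lit 2, nat_lit 0, nat_lit 2, nat_lit 0])))) (.node (nat_lit 295) (.leaf ((nat_lit 281), [nat_lit 4, nat_lit 0, nat_lit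 5, nat_lit 2, nat_lit 5, nat_lit 1, nat_lit 3, nat_lit 1, nat_lit 3, nat_lit 4, nat_lit 2, nat_lit 2, nat_lit 0, nat_lit 1, nat_lit 0, nat_lit 2, nat_lit 2, nat_lit 0])) (.node (nat_lit 296) (.leaf ((nat_lit 282), [nat_lit 5, nat_lit 4, nat_lit 2, nat_lit 5, nat_lit 4, nat_lit 0, nat_lit 4, nat_lit 1])) (.leaf ((nat_lit 283), [nat_lit 2, nat_lit 5, nat_lit 2, nat_lit 3, nat_lit 5, nat_lit 4, nat_lit 2, nat_lit 2, nat_lit 4, nat_lit 3, nat_lit 2, nat_lit 0, nat_lit 1, nat_lit 0, nat_lit 1, nat_lit 0, nat_lit 2, nat_lit 0]))))))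
 (.node (nat_lit 302) (.node (nat_lit 299) (.node (nat_lit 298) (.leaf ((nat_lit 284), [nat_lit 4, nat_lit 5, nat_lit 0, nat_lit 3, nat_lit 5, nat_lit 4, nat_lit 1, nat_lit 0, nat_lit 2, nat_lit 4, nat_lit 2, nat_lit 0, nat_lit 1, nat_lit 0, nat_lit 2])) (.leaf ((nat_lit 285), [nat_lit 3, nat_lit 2, nat_lit 5, nat_lit 0, nat_lit 5, nat_lit 3, nat_lit 1, nat_lit 4, nat_lit 0, nat_lit 4, nat_lit 3, nat_lit 2, nat_lit 2, nat_lit 0, nat_lit 1]))) (.node (nat_lit 300) (.leaf ((nat_lit 281), [nat_lit 0, nat_lit 5, nat_lit 0, nat_lit 1, nat_lit 0, nat_lit 4, nat_lit 0, nat_lit 2, nat_lit 0, nat_lit 1, nat_lit 0, nat_lit 1, nat_lit 0])) (.node (nat_lit 301) (.leaf ((nat_lit 286), [nat_lit 2, nat_lit 5, nat_lit 0, nat_lit 5, nat_lit 0, nat_lit 2, nat_lit 4, nat_lit 2, nat_lit 4, nat_lit 2, nat_lit 2, nat_lit 0, nat_lit 2, nat_lit 2, nat_lit 0, nat_lit 2, nat_lit 0])) (.leaf ((nat_lit 23), [nat_lit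 5, nat_lit 2, nat_lit 0, nat_lit 5, nat_lit 1, nat_lit 3, nat_lit 4, nat_lit 2, nat_lit 2, nat_lit 0, nat_lit 2, nat_lit 0])))))
 (.node (nat_lit 305) (.node (nat_lit 303) (.leaf ((nat_lit 287), [nat_lit 5, nat_lit 2, nat_lit 0, nat_lit 5, nat_lit 2, nat_lit 0, nat_lit 3, nat_lit 1, nat_lit 3, nat_lit 0, nat_lit 2, nat_lit 2, nat_lit 0, nat_lit 1, nat_lit 0])) (.node (nat_lit 304) (.leaf ((nat_lit 288), [nat_lit 5, nat_lit 2, nat_lit 4, nat_lit 0, nat_lit 5, nat_lit 2, nat_lit 3, nat_lit 1, nat_lit 0, nat_lit 2, nat_lit 3, nat_lit 2, nat_lit 2, nat_lit 0, nat_lit 2, nat_lit 0, nat_lit 1])) (.leaf ((nat_lit 289), [nat_lit 4, nat_lit 2, nat_lit 0, nat_lit 5, nat_lit 0, nat_lit 4, nat_lit 2, nat_lit 0, nat_lit 2, nat_lit 3, nat_lit 0, nat_lit 1, nat_lit 0, nat_lit 2, nat_lit 2])))) (.node (nat_lit 306) (.leaf ((nat_lit 37), [nat_lit 5, nat_lit 4, nat_lit 0, nat_lit 5, nat_lit 2, nat_lit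 4, nat_lit 0, nat_lit 3, nat_lit 2, nat_lit 3, nat_lit 0, nat_lit 2])) (.node (nat_lit 307) (.leaf ((nat_lit 290), [nat_lit 4, nat_lit 2, nat_lit 5, nat_lit 3, nat_lit 5, nat_lit 2, nat_lit 2, nat_lit 0, nat_lit 3, nat_lit 4, nat_lit 0, nat_lit 1, nat_lit 0, nat_lit 2, nat_lit 0])) (.leaf ((nat_lit 291), [nat_lit 3, nat_lit 0, nat_lit 5, nat_lit 3, nat_lit 5, nat_lit 0, nat_lit 3, nat_lit 0, nat_lit 2, nat_lit 3, nat_lit 0, nat_lit 2, nat_lit 2, nat_lit 0, nat_lit 2]))))))))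
 (.node (nat_lit 330) (.node (nat_lit 319) (.node (nat_lit 313) (.node (nat_lit 310) (.node (nat_lit 309) (.leaf ((nat_lit 292), [nat_lit 5, nat_lit 0, nat_lit 5, nat_lit 1, nat_lit 4, nat_lit 3, nat_lit 2, nat_lit 0, nat_lit 3, nat_lit 2, nat_lit 2, nat_lit 0, nat_lit 2, nat_lit 2, nat_lit 0, nat_lit 1, nat_lit 0])) (.leaf ((nat_lit 293), [nat_lit 3, nat_lit 2, nat_lit 5, nat_lit 4, nat_lit 2, nat_lit 0, nat_lit 1, nat_lit 0, nat_lit 3, nat_lit 0, nat_lit 2, nat_lit 0, nat_lit 1]))) (.node (nat_lit 311) (.leaf ((nat_lit 294), [nat_lit 4, nat_lit 5, nat_lit 2, nat_lit 3, nat_lit 5, nat_lit 3, nat_lit 0, nat_lit 3, nat_lit 0, nat_lit 2, nat_lit 4, nat_lit 2, nat_lit 0, nat_lit 1, nat_lit 0, nat_lit 2])) (.node (nat_lit 312) (.leaf ((nat_lit 295), [nat_lit 5, nat_lit 4, nat_lit 2, nat_lit 0, nat_lit 5, nat_lit 3, nat_lit 0, nat_lit 2, nat_lit 3, nat_lit 2, nat_lit 2, nat_lit 0, nat_lit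 1, nat_lit 0, nat_lit 2, nat_lit 2])) (.leaf ((nat_lit 296), [nat_lit 1, nat_lit 4, nat_lit 5, nat_lit 1, nat_lit 5, nat_lit 4, nat_lit 1, nat_lit 0, nat_lit 4, nat_lit 2, nat_lit 0, nat_lit 1, nat_lit 0, nat_lit 2, nat_lit 0, nat_lit 2])))))
 (.node (nat_lit 316) (.node (nat_lit 314) (.leaf ((nat_lit 297), [nat_lit 4, nat_lit 0, nat_lit 5, nat_lit 2, nat_lit 5, nat_lit 0, nat_lit 3, nat_lit 2, nat_lit 3, nat_lit 2, nat_lit 3, nat_lit 2, nat_lit 0, nat_lit 1, nat_lit 0])) (.node (nat_lit 315) (.leaf ((nat_lit 298), [nat_lit 5, nat_lit 4, nat_lit 5, nat_lit 2, nat_lit 3, nat_lit 4, nat_lit 3, nat_lit 2, nat_lit 3, nat_lit 2, nat_lit 2, nat_lit 0, nat_lit 2, nat_lit 2, nat_lit 0, nat_lit 1])) (.leaf ((nat_lit 299), [nat_lit 5, nat_lit 3, nat_lit 2, nat_lit 5, nat_lit 3, nat_lit 4, nat_lit 2, nat_lit 0, nat_lit 4, nat_lit 0, nat_lit 2, nat_lit 2, nat_lit 0, nat_lit 1, nat_lit 0, nat_lit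 2, nat_lit 0])))) (.node (nat_lit 317) (.leaf ((nat_lit 300), [nat_lit 5, nat_lit 0, nat_lit 3, nat_lit 5, nat_lit 1, nat_lit 3, nat_lit 1, nat_lit 0, nat_lit 4, nat_lit 1, nat_lit 0, nat_lit 2, nat_lit 2])) (.node (nat_lit 318) (.leaf ((nat_lit 301), [nat_lit 4, nat_lit 1, nat_lit 0, nat_lit 5, nat_lit 1, nat_lit 4, nat_lit 1, nat_lit 3, nat_lit 1, nat_lit 3, nat_lit 2, nat_lit 0, nat_lit 2, nat_lit 2])) (.leaf ((nat_lit 302), [nat_lit 4, nat_lit 5, nat_lit 3, nat_lit 0, nat_lit 5, nat_lit 3, nat_lit 0, nat_lit 2, nat_lit 2, nat_lit 0, nat_lit 2, nat_lit 2]))))))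
 (.node (nat_lit 324) (.node (nat_lit 321) (.node (nat_lit 320) (.leaf ((nat_lit 303), [nat_lit 5, nat_lit 2, nat_lit 2, nat_lit 0, nat_lit 5, nat_lit 3, nat_lit 4, nat_lit 3, nat_lit 1, nat_lit 4, nat_lit 3, nat_lit 2, nat_lit 0, nat_lit 2, nat_lit 2, nat_lit 0, nat_lit 2, nat_lit 2])) (.leaf ((nat_lit 304), [nat_lit 2, nat_lit 5, nat_lit 3, nat_lit 5, nat_lit 3, nat_lit 2, nat_lit 2, nat_lit 0, nat_lit 4, nat_lit 1, nat_lit 0, nat_lit 2, nat_lit 0, nat_lit 2]))) (.node (nat_lit 322) (.leaf ((nat_lit 305), [nat_lit 4, nat_lit 5, nat_lit 2, nat_lit 5, nat_lit 4, nat_lit 3, nat_lit 0, nat_lit 2, nat_lit 0, nat_lit 2, nat_lit 2, nat_lit 0, nat_lit 1, nat_lit 0])) (.node (nat_lit 323) (.leaf ((nat_lit 306), [nat_lit 4, nat_lit 2, nat_lit 5, nat_lit 0, nat_lit 3, nat_lit 0, nat_lit 2, nat_lit 3, nat_lit 2, nat_lit 2, nat_lit 0, nat_lit 2, nat_lit 0, nat_lit 1, nat_lit 0])) (.leaf ((nat_lit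 307), [nat_lit 2, nat_lit 5, nat_lit 0, nat_lit 5, nat_lit 2, nat_lit 0, nat_lit 3, nat_lit 4, nat_lit 2, nat_lit 2, nat_lit 0, nat_lit 2, nat_lit 2, nat_lit 0, nat_lit 2])))))
 (.node (nat_lit 327) (.node (nat_lit 325) (.leaf ((nat_lit 308), [nat_lit 3, nat_lit 5, nat_lit 1, nat_lit 0, nat_lit 1, nat_lit 4, nat_lit 3])) (.node (nat_lit 326) (.leaf ((nat_lit 309), [nat_lit 3, nat_lit 4, nat_lit 5, nat_lit 0, nat_lit 2, nat_lit 0, nat_lit 4, nat_lit 1, nat_lit 4, nat_lit 0, nat_lit 2, nat_lit 0, nat_lit 2, nat_lit 2, nat_lit 0, nat_lit 2])) (.leaf ((nat_lit 310), [nat_lit 4, nat_lit 5, nat_lit 2, nat_lit 5, nat_lit 4, nat_lit 3, nat_lit 2, nat_lit 3, nat_lit 0, nat_lit 3, nat_lit 1, nat_lit 0, nat_lit 1, nat_lit 0, nat_lit 2, nat_lit 0, nat_lit 2, nat_lit 0])))) (.node (nat_lit 328) (.leaf ((nat_lit 311), [nat_lit 3, nat_lit 5, nat_lit 0, nat_lit 5, nat_lit 4, nat_lit 1, nat_lit 0, nat_lit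 3, nat_lit 1, nat_lit 4, nat_lit 2, nat_lit 2, nat_lit 0, nat_lit 2, nat_lit 2, nat_lit 0, nat_lit 2, nat_lit 0])) (.node (nat_lit 329) (.leaf ((nat_lit 312), [nat_lit 2, nat_lit 0, nat_lit 1, nat_lit 5, nat_lit 0, nat_lit 2, nat_lit 3, nat_lit 0, nat_lit 2, nat_lit 0, nat_lit 1, nat_lit 0, nat_lit 1])) (.leaf ((nat_lit 313), [nat_lit 0, nat_lit 3, nat_lit 5, nat_lit 4, nat_lit 3, nat_lit 2, nat_lit 0, nat_lit 2, nat_lit 3, nat_lit 0, nat_lit 1, nat_lit 0, nat_lit 2, nat_lit 0])))))))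
 (.node (nat_lit 341) (.node (nat_lit 335) (.node (nat_lit 332) (.node (nat_lit 331) (.leaf ((nat_lit 314), [nat_lit 2, nat_lit 5, nat_lit 3, nat_lit 5, nat_lit 4, nat_lit 1, nat_lit 3, nat_lit 4, nat_lit 2, nat_lit 3, nat_lit 0, nat_lit 1, nat_lit 0, nat_lit 1])) (.leaf ((nat_lit 315), [nat_lit 5, nat_lit 1, nat_lit 3, nat_lit 2, nat_lit 5, nat_lit 2, nat_lit 4, nat_lit 0, nat_lit 3, nat_lit 4, nat_lit 1, nat_lit 0, nat_lit 2, nat_lit 2, nat_lit 0, nat_lit 2, nat_lit 2]))) (.node (nat_lit 333) (.leaf ((nat_lit 316), [nat_lit 2, nat_lit 4, nat_lit 2, nat_lit 0, nat_lit 5, nat_lit 4, nat_lit 3, nat_lit 1, nat_lit 4, nat_lit 3, nat_lit 0])) (.node (nat_lit 334) (.leaf ((nat_lit 317), [nat_lit 5, nat_lit 4, nat_lit 3, nat_lit 5, nat_lit 2, nat_lit 5, nat_lit 1, nat_lit 0, nat_lit 4, nat_lit 3, nat_lit 0, nat_lit 3, nat_lit 1, nat_lit 0, nat_lit 1, nat_lit 0, nat_lit 2, nat_lit 0])) (.leaf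 ((nat_lit 95), [nat_lit 0, nat_lit 2, nat_lit 5, nat_lit 1, nat_lit 3, nat_lit 1, nat_lit 3, nat_lit 1, nat_lit 0, nat_lit 2, nat_lit 2, nat_lit 0, nat_lit 1, nat_lit 0])))))
 (.node (nat_lit 338) (.node (nat_lit 336) (.leaf ((nat_lit 318), [nat_lit 2, nat_lit 4, nat_lit 0, nat_lit 5, nat_lit 0, nat_lit 3, nat_lit 1, nat_lit 4, nat_lit 1, nat_lit 0, nat_lit 2, nat_lit 0, nat_lit 2, nat_lit 0])) (.node (nat_lit 337) (.leaf ((nat_lit 311), [nat_lit 1, nat_lit 0, nat_lit 5, nat_lit 3, nat_lit 5, nat_lit 3, nat_lit 0, nat_lit 3, nat_lit 4, nat_lit 0, nat_lit 2, nat_lit 0])) (.leaf ((nat_lit 319), [nat_lit 3, nat_lit 5, nat_lit 1, nat_lit 3, nat_lit 2, nat_lit 5, nat_lit 4, nat_lit 1, nat_lit 3, nat_lit 4, nat_lit 3, nat_lit 0, nat_lit 1, nat_lit 0])))) (.node (nat_lit 339) (.leaf ((nat_lit 320), [nat_lit 5, nat_lit 1, nat_lit 5, nat_lit 1, nat_lit 3, nat_lit 4, nat_lit 3, nat_lit 1, nat_lit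 3, nat_lit 2, nat_lit 2, nat_lit 0, nat_lit 2, nat_lit 0, nat_lit 1, nat_lit 0])) (.node (nat_lit 340) (.leaf ((nat_lit 321), [nat_lit 5, nat_lit 0, nat_lit 1, nat_lit 5, nat_lit 1, nat_lit 3, nat_lit 1, nat_lit 4, nat_lit 1, nat_lit 0, nat_lit 1, nat_lit 0, nat_lit 2, nat_lit 2])) (.leaf ((nat_lit 322), [nat_lit 4, nat_lit 5, nat_lit 1, nat_lit 3, nat_lit 4, nat_lit 3, nat_lit 1, nat_lit 0, nat_lit 1, nat_lit 0, nat_lit 2, nat_lit 0, nat_lit 2]))))))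
 (.node (nat_lit 346) (.node (nat_lit 343) (.node (nat_lit 342) (.leaf ((nat_lit 323), [nat_lit 5, nat_lit 4, nat_lit 2, nat_lit 5, nat_lit 3, nat_lit 4, nat_lit 0, nat_lit 3, nat_lit 0, nat_lit 2, nat_lit 2, nat_lit 0, nat_lit 2, nat_lit 2, nat_lit 0])) (.leaf ((nat_lit 324), [nat_lit 1, nat_lit 4, nat_lit 5, nat_lit 1, nat_lit 5, nat_lit 4, nat_lit 3, nat_lit 1, nat_lit 3, nat_lit 1, nat_lit 3, nat_lit 2, nat_lit 2, nat_lit 0, nat_lit 2, nat_lit 2, nat_lit 0, nat_lit 1]))) (.node (nat_lit 344) (.leaf ((nat_lit 325), [nat_lit 5, nat_lit 4, nat_lit 3, nat_lit 0, nat_lit 5, nat_lit 1, nat_lit 0, nat_lit 2, nat_lit 4, nat_lit 0, nat_lit 2, nat_lit 0, nat_lit 1, nat_lit 0, nat_lit 1])) (.node (nat_lit 345) (.leaf ((nat_lit 326), [nat_lit 3, nat_lit 2, nat_lit 5, nat_lit 0, nat_lit 5, nat_lit 2, nat_lit 0, nat_lit 1, nat_lit 4, nat_lit 3, nat_lit 0, nat_lit 2, nat_lit 0])) (.leaf ((nat_lit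 327), [nat_lit 2, nat_lit 5, nat_lit 4, nat_lit 5, nat_lit 3, nat_lit 4, nat_lit 1, nat_lit 0, nat_lit 4, nat_lit 2, nat_lit 0, nat_lit 2, nat_lit 2, nat_lit 0, nat_lit 2, nat_lit 0])))))
 (.node (nat_lit 349) (.node (nat_lit 347) (.leaf ((nat_lit 328), [nat_lit 2, nat_lit 0, nat_lit 1, nat_lit 5, nat_lit 4, nat_lit 0, nat_lit 1, nat_lit 4, nat_lit 2, nat_lit 2, nat_lit 0, nat_lit 1, nat_lit 0, nat_lit 2, nat_lit 0])) (.node (nat_lit 348) (.leaf ((nat_lit 329), [nat_lit 5, nat_lit 3, nat_lit 0, nat_lit 5, nat_lit 2, nat_lit 4, nat_lit 0, nat_lit 4, nat_lit 3, nat_lit 2, nat_lit 0, nat_lit 1, nat_lit 0, nat_lit 2])) (.leaf ((nat_lit 30), [nat_lit 0, nat_lit 4, nat_lit 5, nat_lit 2, nat_lit 3, nat_lit 1, nat_lit 3, nat_lit 1, nat_lit 3, nat_lit 0, nat_lit 1, nat_lit 0, nat_lit 2, nat_lit 0])))) (.node (nat_lit 350) (.leaf ((nat_lit 330), [nat_lit 3, nat_lit 5, nat_lit 2, nat_lit 5, nat_lit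 0, nat_lit 3, nat_lit 4, nat_lit 1, nat_lit 0, nat_lit 3, nat_lit 2, nat_lit 0, nat_lit 2, nat_lit 2, nat_lit 0, nat_lit 2, nat_lit 0])) (.node (nat_lit 351) (.leaf ((nat_lit 222), [nat_lit 1, nat_lit 3, nat_lit 2, nat_lit 5, nat_lit 2, nat_lit 2, nat_lit 3, nat_lit 2, nat_lit 2, nat_lit 3, nat_lit 0, nat_lit 2, nat_lit 2, nat_lit 0])) (.leaf ((nat_lit 331), [nat_lit 3, nat_lit 5, nat_lit 0, nat_lit 3, nat_lit 5, nat_lit 2, nat_lit 2, nat_lit 4, nat_lit 3, nat_lit 2, nat_lit 3, nat_lit 0, nat_lit 2, nat_lit 0, nat_lit 2, nat_lit 2, nat_lit 0, nat_lit 2, nat_lit 0]))))))))))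
noncomputable def bWd_2 : Tr (ℕ × List ℕ) := (.node (nat_lit 440) (.node (nat_lit 396) (.node (nat_lit 374) (.node (nat_lit 363) (.node (nat_lit 357) (.node (nat_lit 354) (.node (nat_lit 353) (.leaf ((nat_lit 332), [nat_lit 4, nat_lit 3, nat_lit 5, nat_lit 1, nat_lit 0, nat_lit 2, nat_lit 4, nat_lit 1, nat_lit 0, nat_lit 1, nat_lit 0, nat_lit 2, nat_lit 2])) (.leaf ((nat_lit 163), [nat_lit 0, nat_lit 5, nat_lit 3, nat_lit 5, nat_lit 0, nat_lit 4, nat_lit 1, nat_lit 3, nat_lit 0, nat_lit 3, nat_lit 0, nat_lit 2]))) (.node (nat_lit 355) (.leaf ((nat_lit 259), [nat_lit 0, nat_lit 4, nat_lit 5, nat_lit 4, nat_lit 1, nat_lit 4, nat_lit 2, nat_lit 4, nat_lit 2, nat_lit 2, nat_lit 0])) (.node (nat_lit 356) (.leaf ((nat_lit 333), [nat_lit 5, nat_lit 2, nat_lit 3, nat_lit 0, nat_lit 5, nat_lit 3, nat_lit 0, nat_lit 1, nat_lit 0, nat_lit 2, nat_lit 0, nat_lit 2, nat_lit 2, nat_lit 0])) (.leaf ((nat_lit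 334), [nat_lit 5, nat_lit 4, nat_lit 5, nat_lit 2, nat_lit 5, nat_lit 1, nat_lit 0, nat_lit 3, nat_lit 1, nat_lit 4, nat_lit 0, nat_lit 1, nat_lit 0, nat_lit 2, nat_lit 2])))))
 (.node (nat_lit 360) (.node (nat_lit 358) (.leaf ((nat_lit 335), [nat_lit 4, nat_lit 1, nat_lit 5, nat_lit 3, nat_lit 5, nat_lit 3, nat_lit 1, nat_lit 4, nat_lit 3, nat_lit 0, nat_lit 3, nat_lit 1, nat_lit 0, nat_lit 1, nat_lit 0, nat_lit 2, nat_lit 0, nat_lit 2, nat_lit 0])) (.node (nat_lit 359) (.leaf ((nat_lit 336), [nat_lit 1, nat_lit 5, nat_lit 3, nat_lit 5, nat_lit 1, nat_lit 0, nat_lit 2, nat_lit 4, nat_lit 2, nat_lit 2, nat_lit 0, nat_lit 2])) (.leaf ((nat_lit 337), [nat_lit 1, nat_lit 4, nat_lit 2, nat_lit 5, nat_lit 1, nat_lit 3, nat_lit 4, nat_lit 1, nat_lit 0, nat_lit 3, nat_lit 1, nat_lit 0, nat_lit 2, nat_lit 0, nat_lit 2])))) (.node (nat_lit 361) (.leaf ((nat_lit 338), [nat_lit 1, nat_lit 4, nat_lit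 2, nat_lit 5, nat_lit 2, nat_lit 0, nat_lit 4, nat_lit 2, nat_lit 0, nat_lit 2, nat_lit 2, nat_lit 0, nat_lit 2])) (.node (nat_lit 362) (.leaf ((nat_lit 339), [nat_lit 1, nat_lit 0, nat_lit 2, nat_lit 5, nat_lit 3, nat_lit 0, nat_lit 1, nat_lit 3, nat_lit 4, nat_lit 2, nat_lit 3, nat_lit 0, nat_lit 1, nat_lit 0, nat_lit 2, nat_lit 2, nat_lit 0, nat_lit 2, nat_lit 0])) (.leaf ((nat_lit 340), [nat_lit 0, nat_lit 5, nat_lit 0, nat_lit 1, nat_lit 5, nat_lit 4, nat_lit 1, nat_lit 0, nat_lit 3, nat_lit 4, nat_lit 1, nat_lit 0, nat_lit 2, nat_lit 2, nat_lit 0, nat_lit 2, nat_lit 2]))))))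
 (.node (nat_lit 368) (.node (nat_lit 365) (.node (nat_lit 364) (.leaf ((nat_lit 341), [nat_lit 5, nat_lit 4, nat_lit 2, nat_lit 5, nat_lit 2, nat_lit 2, nat_lit 3, nat_lit 2, nat_lit 2, nat_lit 3, nat_lit 0, nat_lit 2, nat_lit 0, nat_lit 1, nat_lit 0, nat_lit 1])) (.leaf ((nat_lit 342), [nat_lit 5, nat_lit 4, nat_lit 5, nat_lit 4, nat_lit 0, nat_lit 4, nat_lit 0, nat_lit 1, nat_lit 0, nat_lit 2, nat_lit 0, nat_lit 2]))) (.node (nat_lit 366) (.leaf ((nat_lit 343), [nat_lit 2, nat_lit 5, nat_lit 3, nat_lit 5, nat_lit 3, nat_lit 0, nat_lit 3, nat_lit 2, nat_lit 3, nat_lit 0, nat_lit 2, nat_lit 0, nat_lit 2, nat_lit 2, nat_lit 0, nat_lit 2])) (.node (nat_lit 367) (.leaf ((nat_lit 344), [nat_lit 3, nat_lit 4, nat_lit 5, nat_lit 2, nat_lit 5, nat_lit 4, nat_lit 3, nat_lit 1, nat_lit 4, nat_lit 0, nat_lit 1, nat_lit 0, nat_lit 2, nat_lit 0, nat_lit 2, nat_lit 2])) (.leaf ((nat_lit 1), [nat_lit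 5, nat_lit 2, nat_lit 3, nat_lit 5, nat_lit 0, nat_lit 1, nat_lit 3, nat_lit 4, nat_lit 1, nat_lit 3, nat_lit 1, nat_lit 0, nat_lit 2, nat_lit 2, nat_lit 0])))))
 (.node (nat_lit 371) (.node (nat_lit 369) (.leaf ((nat_lit 345), [nat_lit 2, nat_lit 3, nat_lit 0, nat_lit 5, nat_lit 4, nat_lit 2, nat_lit 0, nat_lit 3, nat_lit 0, nat_lit 4, nat_lit 0, nat_lit 1, nat_lit 0, nat_lit 2, nat_lit 2, nat_lit 0, nat_lit 1, nat_lit 0])) (.node (nat_lit 370) (.leaf ((nat_lit 346), [nat_lit 1, nat_lit 5, nat_lit 2, nat_lit 5, nat_lit 3, nat_lit 0, nat_lit 1, nat_lit 0, nat_lit 4, nat_lit 2, nat_lit 0, nat_lit 2, nat_lit 0, nat_lit 1, nat_lit 0, nat_lit 1])) (.leaf ((nat_lit 347), [nat_lit 2, nat_lit 5, nat_lit 1, nat_lit 5, nat_lit 3, nat_lit 0, nat_lit 4, nat_lit 3, nat_lit 2, nat_lit 3, nat_lit 0, nat_lit 2, nat_lit 2, nat_lit 0, nat_lit 2])))) (.node (nat_lit 372) (.leaf ((nat_lit 348), [nat_lit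 4, nat_lit 5, nat_lit 3, nat_lit 0, nat_lit 5, nat_lit 0, nat_lit 3, nat_lit 1, nat_lit 3, nat_lit 4, nat_lit 3, nat_lit 2, nat_lit 2, nat_lit 0, nat_lit 2])) (.node (nat_lit 373) (.leaf ((nat_lit 349), [nat_lit 5, nat_lit 2, nat_lit 0, nat_lit 5, nat_lit 0, nat_lit 4, nat_lit 0, nat_lit 1, nat_lit 0, nat_lit 3, nat_lit 2, nat_lit 0, nat_lit 1, nat_lit 0])) (.leaf ((nat_lit 350), [nat_lit 1, nat_lit 5, nat_lit 0, nat_lit 5, nat_lit 0, nat_lit 3, nat_lit 1, nat_lit 0, nat_lit 1, nat_lit 0, nat_lit 2])))))))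
 (.node (nat_lit 385) (.node (nat_lit 379) (.node (nat_lit 376) (.node (nat_lit 375) (.leaf ((nat_lit 351), [nat_lit 5, nat_lit 3, nat_lit 2, nat_lit 0, nat_lit 5, nat_lit 1, nat_lit 0, nat_lit 3, nat_lit 0, nat_lit 4, nat_lit 1, nat_lit 0, nat_lit 1])) (.leaf ((nat_lit 64), [nat_lit 0, nat_lit 2, nat_lit 5, nat_lit 3, nat_lit 1, nat_lit 3, nat_lit 0, nat_lit 2, nat_lit 4, nat_lit 2, nat_lit 0, nat_lit 1, nat_lit 0, nat_lit 2, nat_lit 0, nat_lit 2, nat_lit 0]))) (.node (nat_lit 377) (.leaf ((nat_lit 352), [nat_lit 5, nat_lit 4, nat_lit 1, nat_lit 0, nat_lit 5, nat_lit 0, nat_lit 4, nat_lit 1, nat_lit 4, nat_lit 2, nat_lit 0, nat_lit 1, nat_lit 0, nat_lit 2, nat_lit 2])) (.node (nat_lit 378) (.leaf ((nat_lit 353), [nat_lit 5, nat_lit 0, nat_lit 5, nat_lit 3, nat_lit 4, nat_lit 0, nat_lit 3, nat_lit 1, nat_lit 3, nat_lit 1, nat_lit 0, nat_lit 1, nat_lit 0, nat_lit 2])) (.leaf ((nat_lit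 354), [nat_lit 4, nat_lit 3, nat_lit 0, nat_lit 5, nat_lit 2, nat_lit 4, nat_lit 0, nat_lit 1, nat_lit 4, nat_lit 2, nat_lit 2, nat_lit 0, nat_lit 2, nat_lit 2, nat_lit 0, nat_lit 2, nat_lit 2, nat_lit 0])))))
 (.node (nat_lit 382) (.node (nat_lit 380) (.leaf ((nat_lit 355), [nat_lit 5, nat_lit 3, nat_lit 2, nat_lit 5, nat_lit 1, nat_lit 3, nat_lit 0, nat_lit 3, nat_lit 0, nat_lit 2, nat_lit 0, nat_lit 1, nat_lit 0, nat_lit 1])) (.node (nat_lit 381) (.leaf ((nat_lit 356), [nat_lit 5, nat_lit 2, nat_lit 2, nat_lit 0, nat_lit 5, nat_lit 4, nat_lit 3, nat_lit 2, nat_lit 4, nat_lit 0, nat_lit 2, nat_lit 0, nat_lit 2])) (.leaf ((nat_lit 357), [nat_lit 5, nat_lit 4, nat_lit 0, nat_lit 5, nat_lit 0, nat_lit 1, nat_lit 4, nat_lit 3, nat_lit 1, nat_lit 0, nat_lit 2, nat_lit 2, nat_lit 0])))) (.node (nat_lit 383) (.leaf ((nat_lit 358), [nat_lit 5, nat_lit 3, nat_lit 5, nat_lit 0, nat_lit 3, nat_lit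 4, nat_lit 0, nat_lit 3, nat_lit 1, nat_lit 0, nat_lit 2])) (.node (nat_lit 384) (.leaf ((nat_lit 359), [nat_lit 2, nat_lit 5, nat_lit 0, nat_lit 1, nat_lit 5, nat_lit 2, nat_lit 0, nat_lit 4, nat_lit 1, nat_lit 3, nat_lit 2, nat_lit 0, nat_lit 1, nat_lit 0, nat_lit 2, nat_lit 2])) (.leaf ((nat_lit 193), [nat_lit 5, nat_lit 1, nat_lit 5, nat_lit 0, nat_lit 5, nat_lit 0, nat_lit 4, nat_lit 2, nat_lit 3, nat_lit 4, nat_lit 1, nat_lit 0, nat_lit 2, nat_lit 0, nat_lit 2, nat_lit 0]))))))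
 (.node (nat_lit 390) (.node (nat_lit 387) (.node (nat_lit 386) (.leaf ((nat_lit 360), [nat_lit 4, nat_lit 5, nat_lit 3, nat_lit 5, nat_lit 0, nat_lit 1, nat_lit 0, nat_lit 2, nat_lit 0, nat_lit 2, nat_lit 2, nat_lit 0])) (.leaf ((nat_lit 361), [nat_lit 2, nat_lit 3, nat_lit 0, nat_lit 5, nat_lit 3, nat_lit 2, nat_lit 3, nat_lit 4, nat_lit 1, nat_lit 3, nat_lit 1]))) (.node (nat_lit 388) (.leaf ((nat_lit 362), [nat_lit 4, nat_lit 2, nat_lit 0, nat_lit 5, nat_lit 4, nat_lit 0, nat_lit 4, nat_lit 3, nat_lit 0, nat_lit 2, nat_lit 2, nat_lit 0, nat_lit 2])) (.node (nat_lit 389) (.leaf ((nat_lit 363), [nat_lit 5, nat_lit 2, nat_lit 0, nat_lit 5, nat_lit 1, nat_lit 0, nat_lit 2, nat_lit 3, nat_lit 2, nat_lit 0, nat_lit 1, nat_lit 0])) (.leaf ((nat_lit 364), [nat_lit 3, nat_lit 5, nat_lit 1, nat_lit 3, nat_lit 2, nat_lit 5, nat_lit 4, nat_lit 3, nat_lit 1, nat_lit 3, nat_lit 1, nat_lit 3, nat_lit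 2, nat_lit 0, nat_lit 2])))))
 (.node (nat_lit 393) (.node (nat_lit 391) (.leaf ((nat_lit 199), [nat_lit 4, nat_lit 5, nat_lit 3, nat_lit 5, nat_lit 3, nat_lit 0, nat_lit 4, nat_lit 3, nat_lit 0, nat_lit 4, nat_lit 1, nat_lit 0, nat_lit 2, nat_lit 0, nat_lit 2, nat_lit 2])) (.node (nat_lit 392) (.leaf ((nat_lit 310), [nat_lit 4, nat_lit 5, nat_lit 2, nat_lit 3, nat_lit 5, nat_lit 2, nat_lit 4, nat_lit 2, nat_lit 3, nat_lit 1, nat_lit 3, nat_lit 2, nat_lit 2, nat_lit 0, nat_lit 2, nat_lit 2, nat_lit 0, nat_lit 2, nat_lit 2, nat_lit 0])) (.leaf ((nat_lit 365), [nat_lit 3, nat_lit 0, nat_lit 5, nat_lit 3, nat_lit 4, nat_lit 2, nat_lit 4, nat_lit 3, nat_lit 0, nat_lit 1, nat_lit 0, nat_lit 2, nat_lit 0, nat_lit 2])))) (.node (nat_lit 394) (.leaf ((nat_lit 366), [nat_lit 5, nat_lit 3, nat_lit 2, nat_lit 0, nat_lit 5, nat_lit 3, nat_lit 0, nat_lit 2, nat_lit 2, nat_lit 3, nat_lit 2, nat_lit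 0, nat_lit 2, nat_lit 0, nat_lit 1, nat_lit 0, nat_lit 1])) (.node (nat_lit 395) (.leaf ((nat_lit 367), [nat_lit 4, nat_lit 3, nat_lit 2, nat_lit 5, nat_lit 2, nat_lit 0, nat_lit 1, nat_lit 0, nat_lit 3, nat_lit 1, nat_lit 0, nat_lit 1, nat_lit 0])) (.leaf ((nat_lit 368), [nat_lit 3, nat_lit 1, nat_lit 5, nat_lit 2, nat_lit 5, nat_lit 1, nat_lit 0, nat_lit 3, nat_lit 1, nat_lit 3, nat_lit 2, nat_lit 2, nat_lit 0, nat_lit 2, nat_lit 2, nat_lit 0, nat_lit 2, nat_lit 2, nat_lit 0]))))))))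
 (.node (nat_lit 418) (.node (nat_lit 407) (.node (nat_lit 401) (.node (nat_lit 398) (.node (nat_lit 397) (.leaf ((nat_lit 369), [nat_lit 5, nat_lit 4, nat_lit 3, nat_lit 5, nat_lit 2, nat_lit 5, nat_lit 4, nat_lit 2, nat_lit 0, nat_lit 3, nat_lit 0, nat_lit 4, nat_lit 0, nat_lit 2, nat_lit 2, nat_lit 0, nat_lit 1])) (.leaf ((nat_lit 370), [nat_lit 5, nat_lit 0, nat_lit 3, nat_lit 5, nat_lit 3, nat_lit 2, nat_lit 0, nat_lit 2, nat_lit 4, nat_lit 3, nat_lit 2, nat_lit 0, nat_lit 1, nat_lit 0, nat_lit 2, nat_lit 0, nat_lit 2, nat_lit 0]))) (.node (nat_lit 399) (.leaf ((nat_lit 371), [nat_lit 5, nat_lit 2, nat_lit 3, nat_lit 5, nat_lit 3, nat_lit 4, nat_lit 2, nat_lit 4, nat_lit 3, nat_lit 0, nat_lit 1, nat_lit 0, nat_lit 1, nat_lit 0, nat_lit 2])) (.node (nat_lit 400) (.leaf ((nat_lit 372), [nat_lit 0, nat_lit 1, nat_lit 5, nat_lit 0, nat_lit 3, nat_lit 4, nat_lit 2, nat_lit 2, nat_lit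 0, nat_lit 2, nat_lit 2, nat_lit 0, nat_lit 2, nat_lit 2, nat_lit 0])) (.leaf ((nat_lit 373), [nat_lit 5, nat_lit 1, nat_lit 5, nat_lit 0, nat_lit 5, nat_lit 4, nat_lit 3, nat_lit 1, nat_lit 3, nat_lit 0, nat_lit 3, nat_lit 1, nat_lit 0, nat_lit 1, nat_lit 0, nat_lit 2, nat_lit 0, nat_lit 2, nat_lit 0])))))
 (.node (nat_lit 404) (.node (nat_lit 402) (.leaf ((nat_lit 374), [nat_lit 3, nat_lit 1, nat_lit 5, nat_lit 2, nat_lit 5, nat_lit 2, nat_lit 4, nat_lit 1, nat_lit 3, nat_lit 1, nat_lit 3, nat_lit 2, nat_lit 2, nat_lit 0, nat_lit 1])) (.node (nat_lit 403) (.leaf ((nat_lit 375), [nat_lit 5, nat_lit 1, nat_lit 5, nat_lit 0, nat_lit 5, nat_lit 3, nat_lit 1, nat_lit 3, nat_lit 1, nat_lit 0, nat_lit 2, nat_lit 2, nat_lit 0])) (.leaf ((nat_lit 376), [nat_lit 4, nat_lit 5, nat_lit 3, nat_lit 0, nat_lit 5, nat_lit 2, nat_lit 2, nat_lit 4, nat_lit 1, nat_lit 0, nat_lit 3, nat_lit 2, nat_lit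 2, nat_lit 0, nat_lit 2, nat_lit 2, nat_lit 0, nat_lit 2])))) (.node (nat_lit 405) (.leaf ((nat_lit 377), [nat_lit 3, nat_lit 5, nat_lit 2, nat_lit 3, nat_lit 0, nat_lit 5, nat_lit 2, nat_lit 0, nat_lit 3, nat_lit 1, nat_lit 3, nat_lit 2, nat_lit 0, nat_lit 2])) (.node (nat_lit 406) (.leaf ((nat_lit 378), [nat_lit 4, nat_lit 2, nat_lit 0, nat_lit 5, nat_lit 1, nat_lit 3, nat_lit 4, nat_lit 1, nat_lit 0, nat_lit 2, nat_lit 2, nat_lit 0, nat_lit 2, nat_lit 0])) (.leaf ((nat_lit 379), [nat_lit 4, nat_lit 2, nat_lit 5, nat_lit 1, nat_lit 5, nat_lit 4, nat_lit 2, nat_lit 0, nat_lit 3, nat_lit 0, nat_lit 4, nat_lit 2, nat_lit 2, nat_lit 0, nat_lit 2, nat_lit 2, nat_lit 0, nat_lit 1]))))))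
 (.node (nat_lit 412) (.node (nat_lit 409) (.node (nat_lit 408) (.leaf ((nat_lit 380), [nat_lit 4, nat_lit 5, nat_lit 4, nat_lit 0, nat_lit 5, nat_lit 0, nat_lit 4, nat_lit 0, nat_lit 1, nat_lit 0, nat_lit 2, nat_lit 2, nat_lit 0, nat_lit 1])) (.leaf ((nat_lit 381), [nat_lit 4, nat_lit 0, nat_lit 5, nat_lit 2, nat_lit 5, nat_lit 0, nat_lit 4, nat_lit 3, nat_lit 2, nat_lit 3, nat_lit 0, nat_lit 2, nat_lit 0, nat_lit 2]))) (.node (nat_lit 410) (.leaf ((nat_lit 382), [nat_lit 4, nat_lit 2, nat_lit 3, nat_lit 1, nat_lit 3, nat_lit 0])) (.node (nat_lit 411) (.leaf ((nat_lit 383), [nat_lit 5, nat_lit 2, nat_lit 3, nat_lit 5, nat_lit 4, nat_lit 3, nat_lit 2, nat_lit 4, nat_lit 3, nat_lit 0, nat_lit 2, nat_lit 2, nat_lit 0, nat_lit 2, nat_lit 2, nat_lit 0])) (.leaf ((nat_lit 384), [nat_lit 5, nat_lit 1, nat_lit 0, nat_lit 3, nat_lit 5, nat_lit 0, nat_lit 1, nat_lit 0, nat_lit 1, nat_lit 0, nat_lit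 3, nat_lit 1, nat_lit 0, nat_lit 1, nat_lit 0, nat_lit 2, nat_lit 0])))))
 (.node (nat_lit 415) (.node (nat_lit 413) (.leaf ((nat_lit 385), [nat_lit 0, nat_lit 5, nat_lit 3, nat_lit 5, nat_lit 3, nat_lit 2, nat_lit 4, nat_lit 2, nat_lit 4, nat_lit 0, nat_lit 2, nat_lit 0, nat_lit 2, nat_lit 2, nat_lit 0, nat_lit 1, nat_lit 0])) (.node (nat_lit 414) (.leaf ((nat_lit 386), [nat_lit 0, nat_lit 3, nat_lit 5, nat_lit 4, nat_lit 2, nat_lit 4, nat_lit 2, nat_lit 0, nat_lit 3, nat_lit 0, nat_lit 1, nat_lit 0, nat_lit 2, nat_lit 0, nat_lit 2, nat_lit 2])) (.leaf ((nat_lit 387), [nat_lit 5, nat_lit 1, nat_lit 5, nat_lit 1, nat_lit 3, nat_lit 1, nat_lit 3, nat_lit 0, nat_lit 3, nat_lit 0, nat_lit 2, nat_lit 0, nat_lit 2])))) (.node (nat_lit 416) (.leaf ((nat_lit 388), [nat_lit 5, nat_lit 1, nat_lit 5, nat_lit 0, nat_lit 5, nat_lit 2, nat_lit 0, nat_lit 3, nat_lit 1, nat_lit 4, nat_lit 0, nat_lit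 2, nat_lit 0, nat_lit 1])) (.node (nat_lit 417) (.leaf ((nat_lit 389), [nat_lit 3, nat_lit 0, nat_lit 5, nat_lit 3, nat_lit 5, nat_lit 1, nat_lit 4, nat_lit 1, nat_lit 3, nat_lit 4, nat_lit 0, nat_lit 1, nat_lit 0])) (.leaf ((nat_lit 390), [nat_lit 4, nat_lit 5, nat_lit 3, nat_lit 0, nat_lit 5, nat_lit 4, nat_lit 1, nat_lit 4, nat_lit 3, nat_lit 2, nat_lit 0, nat_lit 2, nat_lit 0, nat_lit 1, nat_lit 0, nat_lit 1])))))))
 (.node (nat_lit 429) (.node (nat_lit 423) (.node (nat_lit 420) (.node (nat_lit 419) (.leaf ((nat_lit 391), [nat_lit 2, nat_lit 5, nat_lit 2, nat_lit 3, nat_lit 5, nat_lit 0, nat_lit 3, nat_lit 1, nat_lit 4, nat_lit 0, nat_lit 2])) (.leaf ((nat_lit 392), [nat_lit 5, nat_lit 2, nat_lit 3, nat_lit 5, nat_lit 0, nat_lit 4, nat_lit 0, nat_lit 4, nat_lit 1, nat_lit 3, nat_lit 0, nat_lit 2, nat_lit 2, nat_lit 0, nat_lit 2, nat_lit 2]))) (.node (nat_lit 421) (.leaf ((nat_lit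 393), [nat_lit 5, nat_lit 2, nat_lit 0, nat_lit 5, nat_lit 0, nat_lit 3, nat_lit 0, nat_lit 4, nat_lit 2, nat_lit 0, nat_lit 1])) (.node (nat_lit 422) (.leaf ((nat_lit 107), [nat_lit 3, nat_lit 2, nat_lit 3, nat_lit 5, nat_lit 4, nat_lit 2, nat_lit 3, nat_lit 4, nat_lit 2, nat_lit 3])) (.leaf ((nat_lit 394), [nat_lit 2, nat_lit 2, nat_lit 0, nat_lit 5, nat_lit 2, nat_lit 3, nat_lit 4, nat_lit 3, nat_lit 2, nat_lit 2, nat_lit 0, nat_lit 2, nat_lit 2, nat_lit 0])))))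
 (.node (nat_lit 426) (.node (nat_lit 424) (.leaf ((nat_lit 395), [nat_lit 5, nat_lit 1, nat_lit 3, nat_lit 2, nat_lit 5, nat_lit 4, nat_lit 1, nat_lit 0, nat_lit 3, nat_lit 4, nat_lit 0, nat_lit 1, nat_lit 0, nat_lit 2, nat_lit 0, nat_lit 2, nat_lit 2, nat_lit 0])) (.node (nat_lit 425) (.leaf ((nat_lit 396), [nat_lit 5, nat_lit 3, nat_lit 5, nat_lit 3, nat_lit 4, nat_lit 3, nat_lit 2, nat_lit 4, nat_lit 0, nat_lit 2, nat_lit 0, nat_lit 2, nat_lit 2, nat_lit 0, nat_lit 1])) (.leaf ((nat_lit 397), [nat_lit 5, nat_lit 4, nat_lit 2, nat_lit 0, nat_lit 5, nat_lit 0, nat_lit 2, nat_lit 0, nat_lit 3, nat_lit 4, nat_lit 1, nat_lit 0, nat_lit 1])))) (.node (nat_lit 427) (.leaf ((nat_lit 398), [nat_lit 4, nat_lit 0, nat_lit 5, nat_lit 2, nat_lit 5, nat_lit 2, nat_lit 4, nat_lit 1, nat_lit 0, nat_lit 1, nat_lit 0, nat_lit 3, nat_lit 2, nat_lit 2, nat_lit 0, nat_lit 2, nat_lit 0])) (.node (nat_lit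 428) (.leaf ((nat_lit 399), [nat_lit 5, nat_lit 4, nat_lit 1, nat_lit 0, nat_lit 5, nat_lit 3, nat_lit 4, nat_lit 2, nat_lit 0, nat_lit 4, nat_lit 1, nat_lit 0, nat_lit 2, nat_lit 2, nat_lit 0, nat_lit 1, nat_lit 0])) (.leaf ((nat_lit 400), [nat_lit 5, nat_lit 2, nat_lit 0, nat_lit 5, nat_lit 3, nat_lit 2, nat_lit 4, nat_lit 3, nat_lit 2, nat_lit 3, nat_lit 2, nat_lit 0, nat_lit 2, nat_lit 2, nat_lit 0, nat_lit 2, nat_lit 2, nat_lit 0]))))))
 (.node (nat_lit 434) (.node (nat_lit 431) (.node (nat_lit 430) (.leaf ((nat_lit 401), [nat_lit 5, nat_lit 4, nat_lit 5, nat_lit 1, nat_lit 5, nat_lit 2, nat_lit 3, nat_lit 2, nat_lit 3, nat_lit 2, nat_lit 2, nat_lit 0, nat_lit 2, nat_lit 2, nat_lit 0])) (.leaf ((nat_lit 402), [nat_lit 5, nat_lit 2, nat_lit 3, nat_lit 5, nat_lit 2, nat_lit 3, nat_lit 4, nat_lit 3, nat_lit 2, nat_lit 3, nat_lit 0, nat_lit 2, nat_lit 0, nat_lit 1, nat_lit 0]))) (.node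 (nat_lit 432) (.leaf ((nat_lit 403), [nat_lit 2, nat_lit 2, nat_lit 5, nat_lit 4, nat_lit 0, nat_lit 4, nat_lit 3, nat_lit 0, nat_lit 3, nat_lit 2, nat_lit 0, nat_lit 2, nat_lit 0, nat_lit 1])) (.node (nat_lit 433) (.leaf ((nat_lit 404), [nat_lit 5, nat_lit 4, nat_lit 5, nat_lit 2, nat_lit 5, nat_lit 0, nat_lit 2, nat_lit 2, nat_lit 3, nat_lit 2, nat_lit 4, nat_lit 2, nat_lit 2, nat_lit 0, nat_lit 1, nat_lit 0])) (.leaf ((nat_lit 240), [nat_lit 2, nat_lit 0, nat_lit 2, nat_lit 5, nat_lit 3, nat_lit 0, nat_lit 2, nat_lit 3, nat_lit 2, nat_lit 0, nat_lit 1, nat_lit 0, nat_lit 2, nat_lit 0])))))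
 (.node (nat_lit 437) (.node (nat_lit 435) (.leaf ((nat_lit 405), [nat_lit 3, nat_lit 5, nat_lit 3, nat_lit 0, nat_lit 5, nat_lit 4, nat_lit 0, nat_lit 3, nat_lit 2, nat_lit 3, nat_lit 2, nat_lit 0, nat_lit 1, nat_lit 0, nat_lit 2, nat_lit 0])) (.node (nat_lit 436) (.leaf ((nat_lit 406), [nat_lit 4, nat_lit 5, nat_lit 2, nat_lit 5, nat_lit 0, nat_lit 2, nat_lit 2, nat_lit 0, nat_lit 4, nat_lit 0, nat_lit 2, nat_lit 0, nat_lit 2, nat_lit 2, nat_lit 0, nat_lit 2, nat_lit 0])) (.leaf ((nat_lit 407), [nat_lit 1, nat_lit 5, nat_lit 3, nat_lit 4, nat_lit 3, nat_lit 2, nat_lit 4, nat_lit 2, nat_lit 2, nat_lit 0, nat_lit 1, nat_lit 0, nat_lit 2, nat_lit 2])))) (.node (nat_lit 438) (.leaf ((nat_lit 408), [nat_lit 2, nat_lit 0, nat_lit 2, nat_lit 5, nat_lit 0, nat_lit 1, nat_lit 0, nat_lit 4, nat_lit 2, nat_lit 2, nat_lit 0, nat_lit 2])) (.node (nat_lit 439) (.leaf ((nat_lit 409), [nat_lit 5, nat_lit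 0, nat_lit 5, nat_lit 1, nat_lit 3, nat_lit 2, nat_lit 4, nat_lit 3, nat_lit 2, nat_lit 0, nat_lit 1, nat_lit 0, nat_lit 1, nat_lit 0, nat_lit 2])) (.leaf ((nat_lit 410), [nat_lit 5, nat_lit 4, nat_lit 0, nat_lit 5, nat_lit 2, nat_lit 4, nat_lit 0, nat_lit 4, nat_lit 1, nat_lit 0])))))))))
 (.node (nat_lit 484) (.node (nat_lit 462) (.node (nat_lit 451) (.node (nat_lit 445) (.node (nat_lit 442) (.node (nat_lit 441) (.leaf ((nat_lit 207), [nat_lit 4, nat_lit 5, nat_lit 2, nat_lit 5, nat_lit 2, nat_lit 0, nat_lit 1, nat_lit 4, nat_lit 3, nat_lit 1, nat_lit 0, nat_lit 2, nat_lit 2])) (.leaf ((nat_lit 411), [nat_lit 4, nat_lit 3, nat_lit 5, nat_lit 0, nat_lit 5, nat_lit 4, nat_lit 2, nat_lit 3, nat_lit 0, nat_lit 4, nat_lit 0, nat_lit 2, nat_lit 2, nat_lit 0]))) (.node (nat_lit 443) (.leaf ((nat_lit 412), [nat_lit 5, nat_lit 0, nat_lit 1, nat_lit 5, nat_lit 3, nat_lit 2, nat_lit 3, nat_lit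 0, nat_lit 4, nat_lit 1, nat_lit 0, nat_lit 2, nat_lit 0, nat_lit 2, nat_lit 0])) (.node (nat_lit 444) (.leaf ((nat_lit 413), [nat_lit 2, nat_lit 2, nat_lit 0, nat_lit 5, nat_lit 3, nat_lit 2, nat_lit 3, nat_lit 2, nat_lit 0, nat_lit 3, nat_lit 1, nat_lit 0, nat_lit 1, nat_lit 0, nat_lit 2, nat_lit 0, nat_lit 2])) (.leaf ((nat_lit 414), [nat_lit 5, nat_lit 2, nat_lit 4, nat_lit 0, nat_lit 5, nat_lit 4, nat_lit 0, nat_lit 4, nat_lit 3, nat_lit 0, nat_lit 2, nat_lit 2, nat_lit 0, nat_lit 2, nat_lit 0])))))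
 (.node (nat_lit 448) (.node (nat_lit 446) (.leaf ((nat_lit 407), [nat_lit 2, nat_lit 5, nat_lit 0, nat_lit 5, nat_lit 3, nat_lit 4, nat_lit 2, nat_lit 4, nat_lit 3, nat_lit 2, nat_lit 2, nat_lit 0, nat_lit 1, nat_lit 0, nat_lit 2, nat_lit 0])) (.node (nat_lit 447) (.leaf ((nat_lit 269), [nat_lit 3, nat_lit 2, nat_lit 5, nat_lit 2, nat_lit 4, nat_lit 1, nat_lit 0, nat_lit 2, nat_lit 3, nat_lit 2, nat_lit 2, nat_lit 0, nat_lit 1, nat_lit 0, nat_lit 2])) (.leaf ((nat_lit 415), [nat_lit 0, nat_lit 5, nat_lit 2, nat_lit 0, nat_lit 5, nat_lit 4, nat_lit 0, nat_lit 3, nat_lit 0, nat_lit 1, nat_lit 0, nat_lit 1, nat_lit 0, nat_lit 2, nat_lit 0])))) (.node (nat_lit 449) (.leaf ((nat_lit 416), [nat_lit 5, nat_lit 2, nat_lit 4, nat_lit 0, nat_lit 5, nat_lit 3, nat_lit 2, nat_lit 4, nat_lit 2, nat_lit 4, nat_lit 1, nat_lit 0, nat_lit 2, nat_lit 2, nat_lit 0, nat_lit 1, nat_lit 0])) (.node (nat_lit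 450) (.leaf ((nat_lit 417), [nat_lit 3, nat_lit 2, nat_lit 0, nat_lit 5, nat_lit 4, nat_lit 3, nat_lit 2, nat_lit 2])) (.leaf ((nat_lit 418), [nat_lit 4, nat_lit 5, nat_lit 2, nat_lit 5, nat_lit 1, nat_lit 3, nat_lit 4, nat_lit 3, nat_lit 1, nat_lit 3, nat_lit 0, nat_lit 2, nat_lit 2, nat_lit 0, nat_lit 2, nat_lit 0]))))))
 (.node (nat_lit 456) (.node (nat_lit 453) (.node (nat_lit 452) (.leaf ((nat_lit 419), [nat_lit 3, nat_lit 2, nat_lit 3, nat_lit 5, nat_lit 2, nat_lit 4, nat_lit 2, nat_lit 4, nat_lit 3, nat_lit 0, nat_lit 1, nat_lit 0, nat_lit 2, nat_lit 2, nat_lit 0])) (.leaf ((nat_lit 201), [nat_lit 4, nat_lit 5, nat_lit 0, nat_lit 3, nat_lit 5, nat_lit 2, nat_lit 0, nat_lit 3, nat_lit 0, nat_lit 4, nat_lit 2, nat_lit 0, nat_lit 1, nat_lit 0, nat_lit 1, nat_lit 0, nat_lit 2, nat_lit 0]))) (.node (nat_lit 454) (.leaf ((nat_lit 420), [nat_lit 0, nat_lit 5, nat_lit 2, nat_lit 5, nat_lit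 4, nat_lit 3, nat_lit 2, nat_lit 4, nat_lit 2, nat_lit 2, nat_lit 0, nat_lit 2, nat_lit 2, nat_lit 0, nat_lit 2, nat_lit 2, nat_lit 0])) (.node (nat_lit 455) (.leaf ((nat_lit 421), [nat_lit 5, nat_lit 0, nat_lit 5, nat_lit 2, nat_lit 2, nat_lit 4, nat_lit 3, nat_lit 0, nat_lit 2, nat_lit 2, nat_lit 0])) (.leaf ((nat_lit 422), [nat_lit 4, nat_lit 5, nat_lit 2, nat_lit 5, nat_lit 0, nat_lit 2, nat_lit 4, nat_lit 2, nat_lit 0, nat_lit 2])))))
 (.node (nat_lit 459) (.node (nat_lit 457) (.leaf ((nat_lit 423), [nat_lit 3, nat_lit 2, nat_lit 5, nat_lit 0, nat_lit 5, nat_lit 1, nat_lit 0, nat_lit 1, nat_lit 4, nat_lit 3, nat_lit 2, nat_lit 0, nat_lit 2, nat_lit 0, nat_lit 1, nat_lit 0, nat_lit 1])) (.node (nat_lit 458) (.leaf ((nat_lit 127), [nat_lit 5, nat_lit 4, nat_lit 2, nat_lit 0, nat_lit 5, nat_lit 2, nat_lit 0, nat_lit 3, nat_lit 1, nat_lit 0, nat_lit 1, nat_lit 0, nat_lit 2, nat_lit 2]))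 (.leaf ((nat_lit 424), [nat_lit 0, nat_lit 4, nat_lit 2, nat_lit 0, nat_lit 5, nat_lit 4, nat_lit 0, nat_lit 4, nat_lit 1, nat_lit 0, nat_lit 2, nat_lit 0])))) (.node (nat_lit 460) (.leaf ((nat_lit 425), [nat_lit 5, nat_lit 4, nat_lit 3, nat_lit 0, nat_lit 5, nat_lit 0, nat_lit 1, nat_lit 4, nat_lit 3, nat_lit 2, nat_lit 3, nat_lit 2, nat_lit 2, nat_lit 0, nat_lit 1, nat_lit 0, nat_lit 2])) (.node (nat_lit 461) (.leaf ((nat_lit 426), [nat_lit 2, nat_lit 5, nat_lit 4, nat_lit 5, nat_lit 2, nat_lit 0, nat_lit 1, nat_lit 4, nat_lit 3, nat_lit 2, nat_lit 2, nat_lit 0, nat_lit 1, nat_lit 0, nat_lit 2, nat_lit 0])) (.leaf ((nat_lit 427), [nat_lit 0, nat_lit 4, nat_lit 5, nat_lit 0, nat_lit 4, nat_lit 2, nat_lit 3, nat_lit 4, nat_lit 2, nat_lit 2, nat_lit 0, nat_lit 2, nat_lit 2, nat_lit 0, nat_lit 2])))))))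
 (.node (nat_lit 473) (.node (nat_lit 467) (.node (nat_lit 464) (.node (nat_lit 463) (.leaf ((nat_lit 428), [nat_lit 4, nat_lit 5, nat_lit 0, nat_lit 1, nat_lit 4, nat_lit 1, nat_lit 0, nat_lit 2, nat_lit 2, nat_lit 0, nat_lit 2, nat_lit 2, nat_lit 0])) (.leaf ((nat_lit 429), [nat_lit 3, nat_lit 1, nat_lit 5, nat_lit 2, nat_lit 5, nat_lit 2, nat_lit 3, nat_lit 2, nat_lit 4, nat_lit 0, nat_lit 1, nat_lit 0, nat_lit 2, nat_lit 2, nat_lit 0, nat_lit 1]))) (.node (nat_lit 465) (.leaf ((nat_lit 430), [nat_lit 5, nat_lit 2, nat_lit 4, nat_lit 0, nat_lit 5, nat_lit 3, nat_lit 0, nat_lit 1, nat_lit 4, nat_lit 0, nat_lit 2, nat_lit 2, nat_lit 0, nat_lit 2, nat_lit 0])) (.node (nat_lit 466) (.leaf ((nat_lit 431), [nat_lit 1, nat_lit 0, nat_lit 3, nat_lit 5, nat_lit 2, nat_lit 3, nat_lit 0, nat_lit 1, nat_lit 0, nat_lit 3, nat_lit 2, nat_lit 0, nat_lit 2, nat_lit 0, nat_lit 1, nat_lit 0])) (.leaf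 ((nat_lit 432), [nat_lit 3, nat_lit 5, nat_lit 2, nat_lit 3, nat_lit 0, nat_lit 5, nat_lit 2, nat_lit 2, nat_lit 3, nat_lit 4, nat_lit 3, nat_lit 0, nat_lit 1, nat_lit 0, nat_lit 2, nat_lit 2, nat_lit 0, nat_lit 2, nat_lit 0])))))
 (.node (nat_lit 470) (.node (nat_lit 468) (.leaf ((nat_lit 433), [nat_lit 5, nat_lit 3, nat_lit 2, nat_lit 5, nat_lit 0, nat_lit 1, nat_lit 3, nat_lit 4, nat_lit 1, nat_lit 3, nat_lit 2, nat_lit 0, nat_lit 2, nat_lit 2, nat_lit 0, nat_lit 1, nat_lit 0])) (.node (nat_lit 469) (.leaf ((nat_lit 434), [nat_lit 2, nat_lit 5, nat_lit 0, nat_lit 4, nat_lit 3, nat_lit 0, nat_lit 3, nat_lit 2, nat_lit 0, nat_lit 2, nat_lit 2, nat_lit 0, nat_lit 2])) (.leaf ((nat_lit 435), [nat_lit 4, nat_lit 5, nat_lit 4, nat_lit 3, nat_lit 1, nat_lit 0, nat_lit 2, nat_lit 3, nat_lit 2, nat_lit 2, nat_lit 0, nat_lit 2, nat_lit 2, nat_lit 0, nat_lit 2])))) (.node (nat_lit 471) (.leaf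 ((nat_lit 436), [nat_lit 5, nat_lit 1, nat_lit 5, nat_lit 0, nat_lit 5, nat_lit 3, nat_lit 2, nat_lit 4, nat_lit 2, nat_lit 3, nat_lit 0, nat_lit 1, nat_lit 0, nat_lit 2, nat_lit 2])) (.node (nat_lit 472) (.leaf ((nat_lit 437), [nat_lit 3, nat_lit 4, nat_lit 5, nat_lit 4, nat_lit 0, nat_lit 1, nat_lit 0, nat_lit 1, nat_lit 0, nat_lit 3, nat_lit 2, nat_lit 2, nat_lit 0, nat_lit 2, nat_lit 2, nat_lit 0, nat_lit 1])) (.leaf ((nat_lit 438), [nat_lit 3, nat_lit 0, nat_lit 3, nat_lit 2, nat_lit 4, nat_lit 1, nat_lit 0, nat_lit 1, nat_lit 0, nat_lit 2, nat_lit 0, nat_lit 2, nat_lit 0]))))))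
 (.node (nat_lit 478) (.node (nat_lit 475) (.node (nat_lit 474) (.leaf ((nat_lit 439), [nat_lit 0, nat_lit 5, nat_lit 2, nat_lit 3, nat_lit 5, nat_lit 0, nat_lit 1, nat_lit 0, nat_lit 4, nat_lit 0, nat_lit 2, nat_lit 0, nat_lit 2, nat_lit 2, nat_lit 0, nat_lit 2])) (.leaf ((nat_lit 440), [nat_lit 3, nat_lit 5, nat_lit 2, nat_lit 5, nat_lit 3, nat_lit 0, nat_lit 4, nat_lit 3, nat_lit 0, nat_lit 3, nat_lit 0, nat_lit 2, nat_lit 2, nat_lit 0]))) (.node (nat_lit 476) (.leaf ((nat_lit 441), [nat_lit 2, nat_lit 5, nat_lit 0, nat_lit 5, nat_lit 2, nat_lit 2, nat_lit 3, nat_lit 4, nat_lit 3, nat_lit 2, nat_lit 0, nat_lit 2, nat_lit 2, nat_lit 0])) (.node (nat_lit 477) (.leaf ((nat_lit 442), [nat_lit 3, nat_lit 5, nat_lit 1, nat_lit 3, nat_lit 2, nat_lit 5, nat_lit 3, nat_lit 1, nat_lit 0, nat_lit 2, nat_lit 3, nat_lit 2, nat_lit 0, nat_lit 2, nat_lit 0, nat_lit 1, nat_lit 0, nat_lit 1])) (.leaf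 ((nat_lit 443), [nat_lit 3, nat_lit 2, nat_lit 5, nat_lit 3, nat_lit 2, nat_lit 4, nat_lit 3, nat_lit 2, nat_lit 0, nat_lit 2, nat_lit 2, nat_lit 0, nat_lit 1])))))
 (.node (nat_lit 481) (.node (nat_lit 479) (.leaf ((nat_lit 444), [nat_lit 2, nat_lit 4, nat_lit 2, nat_lit 0, nat_lit 5, nat_lit 2, nat_lit 2, nat_lit 0, nat_lit 3, nat_lit 0, nat_lit 4, nat_lit 0, nat_lit 1, nat_lit 0, nat_lit 2, nat_lit 2, nat_lit 0, nat_lit 2])) (.node (nat_lit 480) (.leaf ((nat_lit 445), [nat_lit 1, nat_lit 5, nat_lit 2, nat_lit 4, nat_lit 2, nat_lit 4, nat_lit 3, nat_lit 0, nat_lit 2, nat_lit 0, nat_lit 1, nat_lit 0, nat_lit 1])) (.leaf ((nat_lit 446), [nat_lit 4, nat_lit 3, nat_lit 0, nat_lit 5, nat_lit 2, nat_lit 3, nat_lit 4, nat_lit 1, nat_lit 3, nat_lit 1, nat_lit 0, nat_lit 1, nat_lit 0])))) (.node (nat_lit 482) (.leaf ((nat_lit 447), [nat_lit 0, nat_lit 3, nat_lit 5, nat_lit 3, nat_lit 2, nat_lit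 0, nat_lit 4, nat_lit 3, nat_lit 0, nat_lit 2, nat_lit 2, nat_lit 0, nat_lit 2])) (.node (nat_lit 483) (.leaf ((nat_lit 152), [nat_lit 5, nat_lit 3, nat_lit 5, nat_lit 4, nat_lit 3, nat_lit 2, nat_lit 3, nat_lit 0, nat_lit 3, nat_lit 0, nat_lit 1, nat_lit 0, nat_lit 2, nat_lit 2, nat_lit 0, nat_lit 2])) (.leaf ((nat_lit 448), [nat_lit 5, nat_lit 4, nat_lit 5, nat_lit 4, nat_lit 3, nat_lit 0, nat_lit 1]))))))))
 (.node (nat_lit 506) (.node (nat_lit 495) (.node (nat_lit 489) (.node (nat_lit 486) (.node (nat_lit 485) (.leaf ((nat_lit 449), [nat_lit 4, nat_lit 5, nat_lit 3, nat_lit 2, nat_lit 5, nat_lit 0, nat_lit 4, nat_lit 2, nat_lit 0, nat_lit 2, nat_lit 3, nat_lit 2, nat_lit 0, nat_lit 2, nat_lit 2, nat_lit 0, nat_lit 1])) (.leaf ((nat_lit 450), [nat_lit 5, nat_lit 0, nat_lit 1, nat_lit 5, nat_lit 0, nat_lit 4, nat_lit 0, nat_lit 4, nat_lit 0, nat_lit 2, nat_lit 2, nat_lit 0, nat_lit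 2, nat_lit 0, nat_lit 1]))) (.node (nat_lit 487) (.leaf ((nat_lit 451), [nat_lit 0, nat_lit 5, nat_lit 0, nat_lit 1, nat_lit 5, nat_lit 0, nat_lit 3, nat_lit 4, nat_lit 0, nat_lit 3, nat_lit 0, nat_lit 1, nat_lit 0, nat_lit 2, nat_lit 2, nat_lit 0, nat_lit 1])) (.node (nat_lit 488) (.leaf ((nat_lit 452), [nat_lit 2, nat_lit 3, nat_lit 5, nat_lit 1, nat_lit 3, nat_lit 1, nat_lit 3, nat_lit 0, nat_lit 3, nat_lit 2, nat_lit 0, nat_lit 1, nat_lit 0])) (.leaf ((nat_lit 453), [nat_lit 3, nat_lit 5, nat_lit 0, nat_lit 5, nat_lit 1, nat_lit 3, nat_lit 4, nat_lit 0, nat_lit 1, nat_lit 0, nat_lit 2, nat_lit 0, nat_lit 2, nat_lit 0])))))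
 (.node (nat_lit 492) (.node (nat_lit 490) (.leaf ((nat_lit 454), [nat_lit 2, nat_lit 5, nat_lit 1, nat_lit 5, nat_lit 3, nat_lit 4, nat_lit 3, nat_lit 2, nat_lit 3, nat_lit 2, nat_lit 2, nat_lit 0, nat_lit 1, nat_lit 0, nat_lit 2, nat_lit 2, nat_lit 0])) (.node (nat_lit 491) (.leaf ((nat_lit 455), [nat_lit 1, nat_lit 0, nat_lit 2, nat_lit 5, nat_lit 2, nat_lit 0, nat_lit 1, nat_lit 4, nat_lit 3, nat_lit 2, nat_lit 0, nat_lit 1, nat_lit 0, nat_lit 1])) (.leaf ((nat_lit 456), [nat_lit 2, nat_lit 3, nat_lit 5, nat_lit 0, nat_lit 5, nat_lit 0, nat_lit 3, nat_lit 4, nat_lit 2, nat_lit 0, nat_lit 4, nat_lit 0, nat_lit 1, nat_lit 0, nat_lit 2, nat_lit 2])))) (.node (nat_lit 493) (.leaf ((nat_lit 457), [nat_lit 1, nat_lit 5, nat_lit 2, nat_lit 5, nat_lit 1, nat_lit 4, nat_lit 3, nat_lit 2, nat_lit 0, nat_lit 3, nat_lit 0, nat_lit 2, nat_lit 0, nat_lit 2, nat_lit 0])) (.node (nat_lit 494) (.leaf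 ((nat_lit 458), [nat_lit 2, nat_lit 0, nat_lit 5, nat_lit 1, nat_lit 0, nat_lit 3, nat_lit 2, nat_lit 3, nat_lit 0, nat_lit 1, nat_lit 0, nat_lit 2, nat_lit 2, nat_lit 0, nat_lit 2])) (.leaf ((nat_lit 274), [nat_lit 3, nat_lit 0, nat_lit 5, nat_lit 3, nat_lit 4, nat_lit 3, nat_lit 2, nat_lit 4, nat_lit 2, nat_lit 2, nat_lit 0, nat_lit 2, nat_lit 0, nat_lit 1, nat_lit 0]))))))
 (.node (nat_lit 500) (.node (nat_lit 497) (.node (nat_lit 496) (.leaf ((nat_lit 459), [nat_lit 4, nat_lit 3, nat_lit 5, nat_lit 0, nat_lit 5, nat_lit 1, nat_lit 4, nat_lit 3, nat_lit 1, nat_lit 0, nat_lit 4, nat_lit 2, nat_lit 2, nat_lit 0, nat_lit 1, nat_lit 0, nat_lit 2, nat_lit 2])) (.leaf ((nat_lit 460), [nat_lit 3, nat_lit 0, nat_lit 5, nat_lit 3, nat_lit 5, nat_lit 4, nat_lit 0, nat_lit 1, nat_lit 0, nat_lit 3, nat_lit 0, nat_lit 1, nat_lit 0, nat_lit 2, nat_lit 0]))) (.node (nat_lit 498) (.leaf ((nat_lit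 338), [nat_lit 2, nat_lit 4, nat_lit 2, nat_lit 0, nat_lit 5, nat_lit 1, nat_lit 3, nat_lit 4, nat_lit 0, nat_lit 2, nat_lit 4, nat_lit 0, nat_lit 1, nat_lit 0, nat_lit 1, nat_lit 0, nat_lit 2])) (.node (nat_lit 499) (.leaf ((nat_lit 461), [nat_lit 2, nat_lit 0, nat_lit 2, nat_lit 5, nat_lit 3, nat_lit 4, nat_lit 0, nat_lit 4, nat_lit 1, nat_lit 3, nat_lit 1, nat_lit 0, nat_lit 2, nat_lit 0, nat_lit 2, nat_lit 0])) (.leaf ((nat_lit 462), [nat_lit 5, nat_lit 1, nat_lit 0, nat_lit 3, nat_lit 5, nat_lit 1, nat_lit 4, nat_lit 2, nat_lit 0, nat_lit 2, nat_lit 3, nat_lit 0, nat_lit 1, nat_lit 0, nat_lit 2, nat_lit 0, nat_lit 2, nat_lit 2])))))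
 (.node (nat_lit 503) (.node (nat_lit 501) (.leaf ((nat_lit 463), [nat_lit 4, nat_lit 5, nat_lit 3, nat_lit 5, nat_lit 1, nat_lit 4, nat_lit 0, nat_lit 4, nat_lit 3, nat_lit 0, nat_lit 2, nat_lit 2, nat_lit 0])) (.node (nat_lit 502) (.leaf ((nat_lit 464), [nat_lit 4, nat_lit 1, nat_lit 5, nat_lit 0, nat_lit 5, nat_lit 4, nat_lit 2, nat_lit 2, nat_lit 4, nat_lit 3, nat_lit 2, nat_lit 2, nat_lit 0])) (.leaf ((nat_lit 465), [nat_lit 5, nat_lit 4, nat_lit 3, nat_lit 5, nat_lit 2, nat_lit 5, nat_lit 4, nat_lit 3, nat_lit 2, nat_lit 3, nat_lit 2, nat_lit 3, nat_lit 1, nat_lit 0, nat_lit 2, nat_lit 2, nat_lit 0, nat_lit 2, nat_lit 2])))) (.node (nat_lit 504) (.leaf ((nat_lit 466), [nat_lit 5, nat_lit 0, nat_lit 3, nat_lit 5, nat_lit 2, nat_lit 0, nat_lit 1, nat_lit 0, nat_lit 4, nat_lit 2, nat_lit 2, nat_lit 0])) (.node (nat_lit 505) (.leaf ((nat_lit 467), [nat_lit 1, nat_lit 0, nat_lit 5, nat_lit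 3, nat_lit 5, nat_lit 4, nat_lit 3, nat_lit 1, nat_lit 3, nat_lit 0, nat_lit 3, nat_lit 2, nat_lit 2, nat_lit 0, nat_lit 2, nat_lit 2, nat_lit 0, nat_lit 2, nat_lit 0])) (.leaf ((nat_lit 468), [nat_lit 5, nat_lit 3, nat_lit 0, nat_lit 5, nat_lit 1, nat_lit 0, nat_lit 4, nat_lit 2, nat_lit 0, nat_lit 1, nat_lit 0, nat_lit 2, nat_lit 2])))))))
 (.node (nat_lit 517) (.node (nat_lit 511) (.node (nat_lit 508) (.node (nat_lit 507) (.leaf ((nat_lit 469), [nat_lit 1, nat_lit 5, nat_lit 3, nat_lit 5, nat_lit 0, nat_lit 3, nat_lit 0, nat_lit 2, nat_lit 4, nat_lit 2, nat_lit 2, nat_lit 0, nat_lit 2, nat_lit 2, nat_lit 0, nat_lit 2])) (.leaf ((nat_lit 470), [nat_lit 3, nat_lit 0, nat_lit 2, nat_lit 5, nat_lit 2, nat_lit 4, nat_lit 3, nat_lit 0, nat_lit 2, nat_lit 2, nat_lit 0, nat_lit 2]))) (.node (nat_lit 509) (.leaf ((nat_lit 471), [nat_lit 4, nat_lit 2, nat_lit 0, nat_lit 5, nat_lit 3, nat_lit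 0, nat_lit 1, nat_lit 0, nat_lit 4, nat_lit 2, nat_lit 2, nat_lit 0, nat_lit 2, nat_lit 2, nat_lit 0, nat_lit 1])) (.node (nat_lit 510) (.leaf ((nat_lit 472), [nat_lit 5, nat_lit 0, nat_lit 4, nat_lit 5, nat_lit 4, nat_lit 0, nat_lit 1, nat_lit 4, nat_lit 3, nat_lit 2, nat_lit 0, nat_lit 1])) (.leaf ((nat_lit 473), [nat_lit 2, nat_lit 5, nat_lit 0, nat_lit 1, nat_lit 5, nat_lit 4, nat_lit 3, nat_lit 0, nat_lit 2, nat_lit 2, nat_lit 3, nat_lit 2, nat_lit 2, nat_lit 0, nat_lit 1, nat_lit 0, nat_lit 2])))))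
 (.node (nat_lit 514) (.node (nat_lit 512) (.leaf ((nat_lit 474), [nat_lit 2, nat_lit 2, nat_lit 5, nat_lit 4, nat_lit 3, nat_lit 0, nat_lit 2, nat_lit 3])) (.node (nat_lit 513) (.leaf ((nat_lit 475), [nat_lit 5, nat_lit 2, nat_lit 4, nat_lit 0, nat_lit 5, nat_lit 4, nat_lit 1, nat_lit 0, nat_lit 4, nat_lit 2, nat_lit 2, nat_lit 0, nat_lit 2, nat_lit 2, nat_lit 0, nat_lit 1])) (.leaf ((nat_lit 476), [nat_lit 0, nat_lit 4, nat_lit 5, nat_lit 3, nat_lit 4, nat_lit 1, nat_lit 0, nat_lit 4, nat_lit 0, nat_lit 1, nat_lit 0, nat_lit 1, nat_lit 0, nat_lit 2, nat_lit 0])))) (.node (nat_lit 515) (.leaf ((nat_lit 477), [nat_lit 5, nat_lit 2, nat_lit 0, nat_lit 5, nat_lit 4, nat_lit 2, nat_lit 0, nat_lit 1, nat_lit 0, nat_lit 3, nat_lit 0, nat_lit 2, nat_lit 2])) (.node (nat_lit 516) (.leaf ((nat_lit 478), [nat_lit 1, nat_lit 5, nat_lit 0, nat_lit 5, nat_lit 0, nat_lit 1, nat_lit 4, nat_lit 1, nat_lit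 0, nat_lit 3, nat_lit 2, nat_lit 2, nat_lit 0, nat_lit 2, nat_lit 2, nat_lit 0])) (.leaf ((nat_lit 479), [nat_lit 3, nat_lit 2, nat_lit 0, nat_lit 5, nat_lit 1, nat_lit 3, nat_lit 0, nat_lit 2, nat_lit 4, nat_lit 1, nat_lit 0, nat_lit 2, nat_lit 2, nat_lit 0, nat_lit 1, nat_lit 0]))))))
 (.node (nat_lit 522) (.node (nat_lit 519) (.node (nat_lit 518) (.leaf ((nat_lit 480), [nat_lit 1, nat_lit 5, nat_lit 0, nat_lit 5, nat_lit 1, nat_lit 0, nat_lit 4, nat_lit 3, nat_lit 0, nat_lit 2, nat_lit 0, nat_lit 2])) (.leaf ((nat_lit 170), [nat_lit 5, nat_lit 2, nat_lit 0, nat_lit 2, nat_lit 5, nat_lit 4, nat_lit 0, nat_lit 2, nat_lit 3, nat_lit 2, nat_lit 0, nat_lit 3, nat_lit 2, nat_lit 0, nat_lit 1, nat_lit 0, nat_lit 2, nat_lit 2, nat_lit 0]))) (.node (nat_lit 520) (.leaf ((nat_lit 352), [nat_lit 4, nat_lit 3, nat_lit 5, nat_lit 0, nat_lit 5, nat_lit 2, nat_lit 4, nat_lit 3, nat_lit 0, nat_lit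 3, nat_lit 0, nat_lit 1, nat_lit 0, nat_lit 2, nat_lit 0, nat_lit 2, nat_lit 0])) (.node (nat_lit 521) (.leaf ((nat_lit 61), [nat_lit 1, nat_lit 0, nat_lit 3, nat_lit 5, nat_lit 3, nat_lit 1, nat_lit 0, nat_lit 3, nat_lit 1, nat_lit 3, nat_lit 2, nat_lit 2, nat_lit 0])) (.leaf ((nat_lit 481), [nat_lit 2, nat_lit 4, nat_lit 5, nat_lit 2, nat_lit 0, nat_lit 5, nat_lit 3, nat_lit 2, nat_lit 0, nat_lit 2, nat_lit 4, nat_lit 2, nat_lit 0, nat_lit 1, nat_lit 0, nat_lit 2, nat_lit 2, nat_lit 0])))))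
 (.node (nat_lit 525) (.node (nat_lit 523) (.leaf ((nat_lit 482), [nat_lit 0, nat_lit 5, nat_lit 3, nat_lit 0, nat_lit 5, nat_lit 3, nat_lit 2, nat_lit 0, nat_lit 3, nat_lit 2, nat_lit 0])) (.node (nat_lit 524) (.leaf ((nat_lit 483), [nat_lit 5, nat_lit 1, nat_lit 5, nat_lit 1, nat_lit 0, nat_lit 1, nat_lit 0, nat_lit 3, nat_lit 2, nat_lit 0, nat_lit 2, nat_lit 0, nat_lit 1, nat_lit 0])) (.leaf ((nat_lit 484), [nat_lit 5, nat_lit 4, nat_lit 1, nat_lit 0, nat_lit 5, nat_lit 4, nat_lit 0, nat_lit 4, nat_lit 3, nat_lit 0, nat_lit 3, nat_lit 2, nat_lit 0, nat_lit 1, nat_lit 0, nat_lit 2, nat_lit 0, nat_lit 2])))) (.node (nat_lit 526) (.leaf ((nat_lit 485), [nat_lit 4, nat_lit 3, nat_lit 5, nat_lit 0, nat_lit 5, nat_lit 3, nat_lit 2, nat_lit 0, nat_lit 3, nat_lit 1, nat_lit 4, nat_lit 1, nat_lit 0, nat_lit 2, nat_lit 0, nat_lit 1])) (.node (nat_lit 527) (.leaf ((nat_lit 486), [nat_lit 0, nat_lit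 5, nat_lit 2, nat_lit 3, nat_lit 5, nat_lit 4, nat_lit 0, nat_lit 1, nat_lit 4, nat_lit 3, nat_lit 0, nat_lit 2, nat_lit 0, nat_lit 2, nat_lit 2, nat_lit 0, nat_lit 1, nat_lit 0])) (.leaf ((nat_lit 487), [nat_lit 2, nat_lit 0, nat_lit 1, nat_lit 5, nat_lit 4, nat_lit 3, nat_lit 2, nat_lit 0, nat_lit 3, nat_lit 1, nat_lit 0, nat_lit 2, nat_lit 0, nat_lit 2, nat_lit 2, nat_lit 0]))))))))))
noncomputable def bWd_3 : Tr (ℕ × List ℕ) := (.node (nat_lit 616) (.node (nat_lit 572) (.node (nat_lit 550) (.node (nat_lit 539) (.node (nat_lit 533) (.node (nat_lit 530) (.node (nat_lit 529) (.leaf ((nat_lit 448), [nat_lit 3, nat_lit 5, nat_lit 2, nat_lit 5, nat_lit 4, nat_lit 2, nat_lit 3, nat_lit 2, nat_lit 3, nat_lit 1, nat_lit 0, nat_lit 2, nat_lit 2, nat_lit 0, nat_lit 1, nat_lit 0])) (.leaf ((nat_lit 488), [nat_lit 3, nat_lit 2, nat_lit 0, nat_lit 5, nat_lit 3, nat_lit 4, nat_lit 0, nat_lit 4,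 nat_lit 1, nat_lit 3, nat_lit 1, nat_lit 0, nat_lit 2, nat_lit 0, nat_lit 1]))) (.node (nat_lit 531) (.leaf ((nat_lit 489), [nat_lit 2, nat_lit 5, nat_lit 3, nat_lit 5, nat_lit 4, nat_lit 2, nat_lit 0, nat_lit 2, nat_lit 0])) (.node (nat_lit 532) (.leaf ((nat_lit 490), [nat_lit 2, nat_lit 3, nat_lit 5, nat_lit 0, nat_lit 5, nat_lit 1, nat_lit 0, nat_lit 3, nat_lit 4, nat_lit 0, nat_lit 3, nat_lit 2, nat_lit 2, nat_lit 0])) (.leaf ((nat_lit 491), [nat_lit 3, nat_lit 5, nat_lit 2, nat_lit 4, nat_lit 0, nat_lit 1, nat_lit 0, nat_lit 3, nat_lit 0, nat_lit 2, nat_lit 2, nat_lit 0, nat_lit 2, nat_lit 2])))))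
 (.node (nat_lit 536) (.node (nat_lit 534) (.leaf ((nat_lit 492), [nat_lit 4, nat_lit 3, nat_lit 5, nat_lit 2, nat_lit 5, nat_lit 2, nat_lit 2, nat_lit 0, nat_lit 4, nat_lit 2, nat_lit 0, nat_lit 2, nat_lit 0, nat_lit 1, nat_lit 0, nat_lit 1, nat_lit 0])) (.node (nat_lit 535) (.leaf ((nat_lit 493), [nat_lit 1, nat_lit 0, nat_lit 5, nat_lit 3, nat_lit 5, nat_lit 4, nat_lit 1, nat_lit 0, nat_lit 4, nat_lit 2, nat_lit 2, nat_lit 0, nat_lit 2, nat_lit 2, nat_lit 0, nat_lit 2])) (.leaf ((nat_lit 494), [nat_lit 5, nat_lit 0, nat_lit 3, nat_lit 5, nat_lit 2, nat_lit 2, nat_lit 3, nat_lit 2, nat_lit 4, nat_lit 1, nat_lit 0, nat_lit 1, nat_lit 0, nat_lit 2, nat_lit 0, nat_lit 2])))) (.node (nat_lit 537) (.leaf ((nat_lit 495), [nat_lit 5, nat_lit 4, nat_lit 5, nat_lit 3, nat_lit 5, nat_lit 3, nat_lit 1, nat_lit 0, nat_lit 2, nat_lit 3, nat_lit 1, nat_lit 0, nat_lit 2, nat_lit 2, nat_lit 0, nat_lit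 2, nat_lit 2])) (.node (nat_lit 538) (.leaf ((nat_lit 238), [nat_lit 5, nat_lit 3, nat_lit 5, nat_lit 2, nat_lit 3, nat_lit 4, nat_lit 3, nat_lit 2, nat_lit 3, nat_lit 0, nat_lit 1, nat_lit 0, nat_lit 2, nat_lit 2, nat_lit 0, nat_lit 1, nat_lit 0])) (.leaf ((nat_lit 330), [nat_lit 5, nat_lit 4, nat_lit 5, nat_lit 2, nat_lit 5, nat_lit 2, nat_lit 0, nat_lit 4, nat_lit 1, nat_lit 3, nat_lit 2, nat_lit 2, nat_lit 0]))))))
 (.node (nat_lit 544) (.node (nat_lit 541) (.node (nat_lit 540) (.leaf ((nat_lit 496), [nat_lit 3, nat_lit 5, nat_lit 1, nat_lit 3, nat_lit 0, nat_lit 5, nat_lit 4, nat_lit 3, nat_lit 1, nat_lit 0, nat_lit 4, nat_lit 1, nat_lit 0, nat_lit 2, nat_lit 2, nat_lit 0, nat_lit 2, nat_lit 2])) (.leaf ((nat_lit 497), [nat_lit 4, nat_lit 3, nat_lit 5, nat_lit 0, nat_lit 5, nat_lit 3, nat_lit 1, nat_lit 3, nat_lit 1, nat_lit 4, nat_lit 2, nat_lit 2, nat_lit 0, nat_lit 2]))) (.node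 (nat_lit 542) (.leaf ((nat_lit 498), [nat_lit 5, nat_lit 4, nat_lit 1, nat_lit 0, nat_lit 5, nat_lit 3, nat_lit 1, nat_lit 3, nat_lit 0, nat_lit 3, nat_lit 1, nat_lit 0, nat_lit 2, nat_lit 2])) (.node (nat_lit 543) (.leaf ((nat_lit 499), [nat_lit 2, nat_lit 2, nat_lit 5, nat_lit 1, nat_lit 5, nat_lit 4, nat_lit 3, nat_lit 2, nat_lit 4, nat_lit 2, nat_lit 3, nat_lit 0, nat_lit 2, nat_lit 0, nat_lit 2, nat_lit 0])) (.leaf ((nat_lit 500), [nat_lit 5, nat_lit 4, nat_lit 0, nat_lit 3, nat_lit 1, nat_lit 3, nat_lit 0, nat_lit 2, nat_lit 2, nat_lit 0, nat_lit 1, nat_lit 0, nat_lit 2, nat_lit 0])))))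
 (.node (nat_lit 547) (.node (nat_lit 545) (.leaf ((nat_lit 501), [nat_lit 0, nat_lit 5, nat_lit 2, nat_lit 3, nat_lit 5, nat_lit 4, nat_lit 0, nat_lit 1, nat_lit 4, nat_lit 3, nat_lit 2, nat_lit 2, nat_lit 0])) (.node (nat_lit 546) (.leaf ((nat_lit 502), [nat_lit 5, nat_lit 4, nat_lit 5, nat_lit 2, nat_lit 5, nat_lit 2, nat_lit 4, nat_lit 3, nat_lit 0, nat_lit 4, nat_lit 2, nat_lit 2, nat_lit 0, nat_lit 2, nat_lit 2, nat_lit 0, nat_lit 2])) (.leaf ((nat_lit 503), [nat_lit 5, nat_lit 2, nat_lit 5, nat_lit 2, nat_lit 0, nat_lit 4, nat_lit 1, nat_lit 4, nat_lit 0, nat_lit 2, nat_lit 2, nat_lit 0, nat_lit 1, nat_lit 0, nat_lit 2])))) (.node (nat_lit 548) (.leaf ((nat_lit 504), [nat_lit 5, nat_lit 2, nat_lit 2, nat_lit 0, nat_lit 5, nat_lit 1, nat_lit 0, nat_lit 3, nat_lit 2, nat_lit 3, nat_lit 2, nat_lit 2])) (.node (nat_lit 549) (.leaf ((nat_lit 505), [nat_lit 0, nat_lit 5, nat_lit 2, nat_lit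 5, nat_lit 3, nat_lit 1, nat_lit 3, nat_lit 4, nat_lit 3, nat_lit 2, nat_lit 0, nat_lit 2, nat_lit 0, nat_lit 1, nat_lit 0])) (.leaf ((nat_lit 340), [nat_lit 4, nat_lit 3, nat_lit 0, nat_lit 5, nat_lit 1, nat_lit 3, nat_lit 0, nat_lit 1, nat_lit 4, nat_lit 2, nat_lit 0, nat_lit 1, nat_lit 0, nat_lit 2, nat_lit 0, nat_lit 2])))))))
 (.node (nat_lit 561) (.node (nat_lit 555) (.node (nat_lit 552) (.node (nat_lit 551) (.leaf ((nat_lit 506), [nat_lit 2, nat_lit 5, nat_lit 2, nat_lit 3, nat_lit 5, nat_lit 1, nat_lit 4, nat_lit 0, nat_lit 4, nat_lit 3, nat_lit 0, nat_lit 1, nat_lit 0, nat_lit 1, nat_lit 0, nat_lit 2, nat_lit 0])) (.leaf ((nat_lit 507), [nat_lit 3, nat_lit 2, nat_lit 3, nat_lit 5, nat_lit 0, nat_lit 3, nat_lit 4, nat_lit 2, nat_lit 0, nat_lit 4, nat_lit 2, nat_lit 2, nat_lit 0, nat_lit 2, nat_lit 2, nat_lit 0, nat_lit 2, nat_lit 2, nat_lit 0]))) (.node (nat_lit 553) (.leaf ((nat_lit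 508), [nat_lit 2, nat_lit 5, nat_lit 0, nat_lit 3, nat_lit 4, nat_lit 2, nat_lit 0, nat_lit 4, nat_lit 1, nat_lit 0, nat_lit 1, nat_lit 0, nat_lit 2, nat_lit 0, nat_lit 2])) (.node (nat_lit 554) (.leaf ((nat_lit 509), [nat_lit 4, nat_lit 1, nat_lit 5, nat_lit 2, nat_lit 5, nat_lit 4, nat_lit 2, nat_lit 3, nat_lit 4, nat_lit 2, nat_lit 2, nat_lit 0, nat_lit 2, nat_lit 0, nat_lit 1, nat_lit 0])) (.leaf ((nat_lit 510), [nat_lit 5, nat_lit 4, nat_lit 1, nat_lit 0, nat_lit 5, nat_lit 4, nat_lit 2, nat_lit 3, nat_lit 0, nat_lit 4, nat_lit 1, nat_lit 0, nat_lit 1, nat_lit 0, nat_lit 2])))))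
 (.node (nat_lit 558) (.node (nat_lit 556) (.leaf ((nat_lit 511), [nat_lit 0, nat_lit 5, nat_lit 3, nat_lit 2, nat_lit 3, nat_lit 2, nat_lit 0, nat_lit 3, nat_lit 0, nat_lit 2, nat_lit 0, nat_lit 2, nat_lit 2, nat_lit 0, nat_lit 1])) (.node (nat_lit 557) (.leaf ((nat_lit 359), [nat_lit 5, nat_lit 3, nat_lit 5, nat_lit 4, nat_lit 0, nat_lit 1, nat_lit 0, nat_lit 1, nat_lit 0, nat_lit 3, nat_lit 0, nat_lit 2, nat_lit 0, nat_lit 1])) (.leaf ((nat_lit 512), [nat_lit 2, nat_lit 0, nat_lit 2, nat_lit 5, nat_lit 4, nat_lit 2, nat_lit 3, nat_lit 4, nat_lit 0, nat_lit 2, nat_lit 2, nat_lit 0, nat_lit 1])))) (.node (nat_lit 559) (.leaf ((nat_lit 513), [nat_lit 4, nat_lit 3, nat_lit 5, nat_lit 0, nat_lit 5, nat_lit 4, nat_lit 1, nat_lit 3, nat_lit 4, nat_lit 0, nat_lit 1, nat_lit 0, nat_lit 2, nat_lit 0, nat_lit 2, nat_lit 0])) (.node (nat_lit 560) (.leaf ((nat_lit 514), [nat_lit 5, nat_lit 0, nat_lit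 4, nat_lit 5, nat_lit 1, nat_lit 3, nat_lit 0, nat_lit 2, nat_lit 4, nat_lit 2, nat_lit 2, nat_lit 0])) (.leaf ((nat_lit 515), [nat_lit 1, nat_lit 0, nat_lit 5, nat_lit 3, nat_lit 5, nat_lit 0, nat_lit 4, nat_lit 0, nat_lit 1, nat_lit 4, nat_lit 3, nat_lit 0, nat_lit 1, nat_lit 0, nat_lit 1]))))))
 (.node (nat_lit 566) (.node (nat_lit 563) (.node (nat_lit 562) (.leaf ((nat_lit 516), [nat_lit 0, nat_lit 5, nat_lit 2, nat_lit 5, nat_lit 0, nat_lit 4, nat_lit 2, nat_lit 0, nat_lit 4, nat_lit 0])) (.leaf ((nat_lit 517), [nat_lit 1, nat_lit 0, nat_lit 3, nat_lit 5, nat_lit 1, nat_lit 4, nat_lit 1, nat_lit 3, nat_lit 2, nat_lit 2, nat_lit 0, nat_lit 2, nat_lit 2, nat_lit 0, nat_lit 1]))) (.node (nat_lit 564) (.leaf ((nat_lit 518), [nat_lit 3, nat_lit 5, nat_lit 0, nat_lit 2, nat_lit 4, nat_lit 0, nat_lit 2, nat_lit 2])) (.node (nat_lit 565) (.leaf ((nat_lit 519), [nat_lit 2, nat_lit 5, nat_lit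 1, nat_lit 5, nat_lit 1, nat_lit 3, nat_lit 4, nat_lit 1, nat_lit 3, nat_lit 2, nat_lit 2, nat_lit 0, nat_lit 2, nat_lit 2, nat_lit 0, nat_lit 1])) (.leaf ((nat_lit 520), [nat_lit 3, nat_lit 2, nat_lit 5, nat_lit 0, nat_lit 5, nat_lit 3, nat_lit 0, nat_lit 4, nat_lit 2, nat_lit 0, nat_lit 3, nat_lit 0, nat_lit 1, nat_lit 0, nat_lit 1, nat_lit 0, nat_lit 2])))))
 (.node (nat_lit 569) (.node (nat_lit 567) (.leaf ((nat_lit 521), [nat_lit 2, nat_lit 5, nat_lit 2, nat_lit 3, nat_lit 5, nat_lit 2, nat_lit 4, nat_lit 2, nat_lit 3, nat_lit 2, nat_lit 2, nat_lit 0, nat_lit 2, nat_lit 2])) (.node (nat_lit 568) (.leaf ((nat_lit 522), [nat_lit 2, nat_lit 2, nat_lit 5, nat_lit 0, nat_lit 3, nat_lit 1, nat_lit 3, nat_lit 1, nat_lit 0, nat_lit 2, nat_lit 0, nat_lit 2, nat_lit 2])) (.leaf ((nat_lit 523), [nat_lit 0, nat_lit 5, nat_lit 3, nat_lit 0, nat_lit 5, nat_lit 2, nat_lit 0, nat_lit 3, nat_lit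 0, nat_lit 4, nat_lit 0, nat_lit 2, nat_lit 2, nat_lit 0, nat_lit 1, nat_lit 0])))) (.node (nat_lit 570) (.leaf ((nat_lit 524), [nat_lit 2, nat_lit 5, nat_lit 2, nat_lit 3, nat_lit 5, nat_lit 4, nat_lit 2, nat_lit 3, nat_lit 0, nat_lit 2, nat_lit 0, nat_lit 1, nat_lit 0])) (.node (nat_lit 571) (.leaf ((nat_lit 525), [nat_lit 2, nat_lit 5, nat_lit 4, nat_lit 5, nat_lit 0, nat_lit 3, nat_lit 4, nat_lit 0, nat_lit 3, nat_lit 0, nat_lit 1, nat_lit 0, nat_lit 2, nat_lit 0, nat_lit 2, nat_lit 0])) (.leaf ((nat_lit 526), [nat_lit 0, nat_lit 5, nat_lit 0, nat_lit 1, nat_lit 0, nat_lit 4, nat_lit 1, nat_lit 0, nat_lit 2]))))))))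
 (.node (nat_lit 594) (.node (nat_lit 583) (.node (nat_lit 577) (.node (nat_lit 574) (.node (nat_lit 573) (.leaf ((nat_lit 527), [nat_lit 0, nat_lit 2, nat_lit 5, nat_lit 3, nat_lit 5, nat_lit 4, nat_lit 3, nat_lit 2, nat_lit 3, nat_lit 0, nat_lit 3, nat_lit 1, nat_lit 0, nat_lit 1, nat_lit 0, nat_lit 2, nat_lit 2, nat_lit 0])) (.leaf ((nat_lit 528), [nat_lit 5, nat_lit 4, nat_lit 3, nat_lit 2, nat_lit 5, nat_lit 3, nat_lit 4, nat_lit 2, nat_lit 0, nat_lit 1, nat_lit 0, nat_lit 2, nat_lit 2]))) (.node (nat_lit 575) (.leaf ((nat_lit 529), [nat_lit 2, nat_lit 5, nat_lit 2, nat_lit 3, nat_lit 5, nat_lit 2, nat_lit 3, nat_lit 0, nat_lit 4, nat_lit 0, nat_lit 2])) (.node (nat_lit 576) (.leaf ((nat_lit 151), [nat_lit 5, nat_lit 4, nat_lit 5, nat_lit 0, nat_lit 2, nat_lit 3, nat_lit 2, nat_lit 0])) (.leaf ((nat_lit 530), [nat_lit 5, nat_lit 0, nat_lit 5, nat_lit 3, nat_lit 1, nat_lit 3, nat_lit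 4, nat_lit 3, nat_lit 2, nat_lit 2, nat_lit 0, nat_lit 2, nat_lit 0, nat_lit 1])))))
 (.node (nat_lit 580) (.node (nat_lit 578) (.leaf ((nat_lit 531), [nat_lit 4, nat_lit 5, nat_lit 3, nat_lit 2, nat_lit 5, nat_lit 4, nat_lit 0, nat_lit 3, nat_lit 0, nat_lit 1, nat_lit 0])) (.node (nat_lit 579) (.leaf ((nat_lit 532), [nat_lit 2, nat_lit 5, nat_lit 1, nat_lit 5, nat_lit 3, nat_lit 2, nat_lit 2, nat_lit 3, nat_lit 0, nat_lit 2, nat_lit 0])) (.leaf ((nat_lit 533), [nat_lit 4, nat_lit 3, nat_lit 5, nat_lit 4, nat_lit 3, nat_lit 2, nat_lit 0, nat_lit 3, nat_lit 2, nat_lit 0, nat_lit 2, nat_lit 0])))) (.node (nat_lit 581) (.leaf ((nat_lit 534), [nat_lit 3, nat_lit 1, nat_lit 5, nat_lit 2, nat_lit 5, nat_lit 1, nat_lit 3, nat_lit 0, nat_lit 1, nat_lit 4, nat_lit 0, nat_lit 2, nat_lit 2, nat_lit 0, nat_lit 2, nat_lit 0, nat_lit 1])) (.node (nat_lit 582) (.leaf ((nat_lit 479), [nat_lit 5, nat_lit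 2, nat_lit 2, nat_lit 0, nat_lit 5, nat_lit 1, nat_lit 3, nat_lit 2, nat_lit 4, nat_lit 2, nat_lit 2, nat_lit 0, nat_lit 1, nat_lit 0, nat_lit 2])) (.leaf ((nat_lit 535), [nat_lit 3, nat_lit 5, nat_lit 3, nat_lit 0, nat_lit 5, nat_lit 3, nat_lit 4, nat_lit 0, nat_lit 2, nat_lit 4, nat_lit 1, nat_lit 0, nat_lit 2, nat_lit 0, nat_lit 1, nat_lit 0]))))))
 (.node (nat_lit 588) (.node (nat_lit 585) (.node (nat_lit 584) (.leaf ((nat_lit 536), [nat_lit 5, nat_lit 1, nat_lit 0, nat_lit 3, nat_lit 5, nat_lit 1, nat_lit 0, nat_lit 4, nat_lit 1, nat_lit 3, nat_lit 1, nat_lit 0, nat_lit 1])) (.leaf ((nat_lit 537), [nat_lit 4, nat_lit 0, nat_lit 5, nat_lit 2, nat_lit 5, nat_lit 0, nat_lit 3, nat_lit 0, nat_lit 1, nat_lit 4, nat_lit 2, nat_lit 2, nat_lit 0, nat_lit 2, nat_lit 2, nat_lit 0, nat_lit 2, nat_lit 0]))) (.node (nat_lit 586) (.leaf ((nat_lit 538), [nat_lit 3, nat_lit 2, nat_lit 3, nat_lit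 5, nat_lit 2, nat_lit 4, nat_lit 0, nat_lit 1, nat_lit 0, nat_lit 3, nat_lit 0, nat_lit 1, nat_lit 0, nat_lit 1, nat_lit 0, nat_lit 2, nat_lit 0])) (.node (nat_lit 587) (.leaf ((nat_lit 496), [nat_lit 4, nat_lit 5, nat_lit 3, nat_lit 0, nat_lit 5, nat_lit 3, nat_lit 4, nat_lit 1, nat_lit 0, nat_lit 2, nat_lit 0, nat_lit 2, nat_lit 2, nat_lit 0])) (.leaf ((nat_lit 3), [nat_lit 5, nat_lit 1, nat_lit 0, nat_lit 2, nat_lit 5, nat_lit 0, nat_lit 1, nat_lit 4, nat_lit 3, nat_lit 2, nat_lit 3, nat_lit 2, nat_lit 2, nat_lit 0, nat_lit 2, nat_lit 2, nat_lit 0, nat_lit 2, nat_lit 2])))))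
 (.node (nat_lit 591) (.node (nat_lit 589) (.leaf ((nat_lit 539), [nat_lit 5, nat_lit 4, nat_lit 2, nat_lit 0, nat_lit 5, nat_lit 2, nat_lit 3, nat_lit 4, nat_lit 3, nat_lit 0, nat_lit 1, nat_lit 0, nat_lit 2, nat_lit 2, nat_lit 0, nat_lit 1, nat_lit 0])) (.node (nat_lit 590) (.leaf ((nat_lit 540), [nat_lit 0, nat_lit 3, nat_lit 4, nat_lit 2, nat_lit 0, nat_lit 4])) (.leaf ((nat_lit 541), [nat_lit 2, nat_lit 5, nat_lit 2, nat_lit 3, nat_lit 5, nat_lit 2, nat_lit 2, nat_lit 3, nat_lit 2, nat_lit 2, nat_lit 0, nat_lit 1, nat_lit 0, nat_lit 2])))) (.node (nat_lit 592) (.leaf ((nat_lit 286), [nat_lit 5, nat_lit 3, nat_lit 0, nat_lit 5, nat_lit 2, nat_lit 2, nat_lit 4, nat_lit 3, nat_lit 2, nat_lit 0, nat_lit 2, nat_lit 2, nat_lit 0, nat_lit 2])) (.node (nat_lit 593) (.leaf ((nat_lit 478), [nat_lit 2, nat_lit 5, nat_lit 2, nat_lit 3, nat_lit 5, nat_lit 2, nat_lit 2, nat_lit 4, nat_lit 0, nat_lit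 4, nat_lit 0, nat_lit 1, nat_lit 0, nat_lit 2, nat_lit 0, nat_lit 2])) (.leaf ((nat_lit 542), [nat_lit 0, nat_lit 1, nat_lit 5, nat_lit 0, nat_lit 3, nat_lit 4, nat_lit 2, nat_lit 0, nat_lit 4, nat_lit 0, nat_lit 2, nat_lit 0, nat_lit 2, nat_lit 0])))))))
 (.node (nat_lit 605) (.node (nat_lit 599) (.node (nat_lit 596) (.node (nat_lit 595) (.leaf ((nat_lit 543), [nat_lit 5, nat_lit 2, nat_lit 3, nat_lit 0, nat_lit 5, nat_lit 0, nat_lit 4, nat_lit 0, nat_lit 4, nat_lit 1, nat_lit 0])) (.leaf ((nat_lit 544), [nat_lit 0, nat_lit 5, nat_lit 2, nat_lit 3, nat_lit 5, nat_lit 0, nat_lit 2, nat_lit 0, nat_lit 4, nat_lit 1, nat_lit 4, nat_lit 2, nat_lit 0, nat_lit 1, nat_lit 0, nat_lit 2, nat_lit 2, nat_lit 0]))) (.node (nat_lit 597) (.leaf ((nat_lit 545), [nat_lit 2, nat_lit 2, nat_lit 5, nat_lit 4, nat_lit 3, nat_lit 0, nat_lit 3, nat_lit 2, nat_lit 2, nat_lit 0, nat_lit 2, nat_lit 2, nat_lit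 0, nat_lit 2, nat_lit 0])) (.node (nat_lit 598) (.leaf ((nat_lit 546), [nat_lit 5, nat_lit 3, nat_lit 5, nat_lit 2, nat_lit 2, nat_lit 4, nat_lit 3, nat_lit 2, nat_lit 3, nat_lit 2, nat_lit 2, nat_lit 0, nat_lit 2, nat_lit 2, nat_lit 0, nat_lit 2])) (.leaf ((nat_lit 547), [nat_lit 1, nat_lit 0, nat_lit 5, nat_lit 3, nat_lit 5, nat_lit 3, nat_lit 2, nat_lit 2, nat_lit 0, nat_lit 4, nat_lit 0, nat_lit 2, nat_lit 0, nat_lit 2, nat_lit 2])))))
 (.node (nat_lit 602) (.node (nat_lit 600) (.leaf ((nat_lit 190), [nat_lit 5, nat_lit 2, nat_lit 2, nat_lit 0, nat_lit 5, nat_lit 3, nat_lit 2, nat_lit 0, nat_lit 2, nat_lit 4, nat_lit 1])) (.node (nat_lit 601) (.leaf ((nat_lit 548), [nat_lit 1, nat_lit 4, nat_lit 5, nat_lit 1, nat_lit 5, nat_lit 3, nat_lit 0, nat_lit 4, nat_lit 1, nat_lit 4, nat_lit 1, nat_lit 0])) (.leaf ((nat_lit 549), [nat_lit 0, nat_lit 5, nat_lit 2, nat_lit 0, nat_lit 5, nat_lit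 1, nat_lit 4, nat_lit 3, nat_lit 0, nat_lit 3, nat_lit 2, nat_lit 0, nat_lit 2, nat_lit 2, nat_lit 0, nat_lit 2, nat_lit 2, nat_lit 0])))) (.node (nat_lit 603) (.leaf ((nat_lit 550), [nat_lit 2, nat_lit 0, nat_lit 1, nat_lit 5, nat_lit 0, nat_lit 2, nat_lit 0, nat_lit 1, nat_lit 0, nat_lit 1])) (.node (nat_lit 604) (.leaf ((nat_lit 551), [nat_lit 4, nat_lit 3, nat_lit 2, nat_lit 5, nat_lit 1, nat_lit 0, nat_lit 4, nat_lit 0, nat_lit 1, nat_lit 0, nat_lit 2, nat_lit 0, nat_lit 2, nat_lit 0])) (.leaf ((nat_lit 552), [nat_lit 3, nat_lit 1, nat_lit 5, nat_lit 0, nat_lit 5, nat_lit 1, nat_lit 3, nat_lit 1, nat_lit 3, nat_lit 4, nat_lit 0, nat_lit 2, nat_lit 2, nat_lit 0, nat_lit 1]))))))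
 (.node (nat_lit 610) (.node (nat_lit 607) (.node (nat_lit 606) (.leaf ((nat_lit 9), [nat_lit 3, nat_lit 5, nat_lit 0, nat_lit 5, nat_lit 3, nat_lit 4, nat_lit 3, nat_lit 2, nat_lit 3, nat_lit 2, nat_lit 2, nat_lit 0, nat_lit 2, nat_lit 0, nat_lit 1])) (.leaf ((nat_lit 138), [nat_lit 3, nat_lit 2, nat_lit 0, nat_lit 5, nat_lit 1, nat_lit 3, nat_lit 2, nat_lit 0, nat_lit 4, nat_lit 2, nat_lit 0, nat_lit 1, nat_lit 0, nat_lit 1, nat_lit 0]))) (.node (nat_lit 608) (.leaf ((nat_lit 553), [nat_lit 2, nat_lit 5, nat_lit 1, nat_lit 3, nat_lit 4, nat_lit 3, nat_lit 0, nat_lit 3, nat_lit 1, nat_lit 0])) (.node (nat_lit 609) (.leaf ((nat_lit 376), [nat_lit 4, nat_lit 3, nat_lit 2, nat_lit 5, nat_lit 3, nat_lit 1, nat_lit 0, nat_lit 4, nat_lit 1, nat_lit 3, nat_lit 0, nat_lit 1, nat_lit 0, nat_lit 1, nat_lit 0, nat_lit 2, nat_lit 0])) (.leaf ((nat_lit 554), [nat_lit 1, nat_lit 5, nat_lit 4, nat_lit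 2, nat_lit 0, nat_lit 3, nat_lit 0, nat_lit 4, nat_lit 2, nat_lit 0, nat_lit 2, nat_lit 2, nat_lit 0])))))
 (.node (nat_lit 613) (.node (nat_lit 611) (.leaf ((nat_lit 555), [nat_lit 2, nat_lit 5, nat_lit 4, nat_lit 5, nat_lit 4, nat_lit 2, nat_lit 3, nat_lit 4, nat_lit 3, nat_lit 0, nat_lit 1, nat_lit 0, nat_lit 2, nat_lit 2, nat_lit 0, nat_lit 2, nat_lit 0])) (.node (nat_lit 612) (.leaf ((nat_lit 556), [nat_lit 5, nat_lit 4, nat_lit 2, nat_lit 0, nat_lit 5, nat_lit 1, nat_lit 3, nat_lit 2, nat_lit 3, nat_lit 0, nat_lit 4, nat_lit 0, nat_lit 2, nat_lit 2, nat_lit 0, nat_lit 1, nat_lit 0])) (.leaf ((nat_lit 557), [nat_lit 5, nat_lit 4, nat_lit 5, nat_lit 2, nat_lit 5, nat_lit 3, nat_lit 0, nat_lit 3, nat_lit 0, nat_lit 4, nat_lit 2, nat_lit 2, nat_lit 0, nat_lit 2, nat_lit 2, nat_lit 0, nat_lit 1])))) (.node (nat_lit 614) (.leaf ((nat_lit 558), [nat_lit 1, nat_lit 3, nat_lit 2, nat_lit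 5, nat_lit 3, nat_lit 0, nat_lit 3, nat_lit 1, nat_lit 4, nat_lit 2, nat_lit 2, nat_lit 0, nat_lit 2, nat_lit 2, nat_lit 0, nat_lit 2, nat_lit 0])) (.node (nat_lit 615) (.leaf ((nat_lit 559), [nat_lit 5, nat_lit 2, nat_lit 3, nat_lit 5, nat_lit 2, nat_lit 4, nat_lit 3, nat_lit 0, nat_lit 2, nat_lit 3, nat_lit 0, nat_lit 1, nat_lit 0, nat_lit 1, nat_lit 0, nat_lit 2])) (.leaf ((nat_lit 560), [nat_lit 5, nat_lit 0, nat_lit 3, nat_lit 5, nat_lit 2, nat_lit 2, nat_lit 3, nat_lit 2, nat_lit 4, nat_lit 1, nat_lit 0, nat_lit 1, nat_lit 0, nat_lit 2, nat_lit 0, nat_lit 2])))))))))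
 (.node (nat_lit 660) (.node (nat_lit 638) (.node (nat_lit 627) (.node (nat_lit 621) (.node (nat_lit 618) (.node (nat_lit 617) (.leaf ((nat_lit 561), [nat_lit 5, nat_lit 4, nat_lit 5, nat_lit 1, nat_lit 5, nat_lit 1, nat_lit 4, nat_lit 1, nat_lit 4, nat_lit 0, nat_lit 2, nat_lit 0, nat_lit 1, nat_lit 0, nat_lit 1, nat_lit 0])) (.leaf ((nat_lit 180), [nat_lit 3, nat_lit 0, nat_lit 2, nat_lit 5, nat_lit 3, nat_lit 1, nat_lit 4, nat_lit 2, nat_lit 0, nat_lit 2, nat_lit 2, nat_lit 0, nat_lit 1, nat_lit 0]))) (.node (nat_lit 619) (.leaf ((nat_lit 562), [nat_lit 0, nat_lit 2, nat_lit 5, nat_lit 0, nat_lit 3, nat_lit 0, nat_lit 2, nat_lit 3, nat_lit 0, nat_lit 1, nat_lit 0, nat_lit 2, nat_lit 0, nat_lit 2, nat_lit 2, nat_lit 0])) (.node (nat_lit 620) (.leaf ((nat_lit 563), [nat_lit 4, nat_lit 3, nat_lit 5, nat_lit 2, nat_lit 3, nat_lit 1, nat_lit 0, nat_lit 2, nat_lit 3, nat_lit 2, nat_lit 2,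 nat_lit 0, nat_lit 1])) (.leaf ((nat_lit 511), [nat_lit 5, nat_lit 4, nat_lit 1, nat_lit 0, nat_lit 5, nat_lit 2, nat_lit 3, nat_lit 1, nat_lit 3, nat_lit 4, nat_lit 3, nat_lit 2, nat_lit 0, nat_lit 2, nat_lit 2, nat_lit 0, nat_lit 2])))))
 (.node (nat_lit 624) (.node (nat_lit 622) (.leaf ((nat_lit 564), [nat_lit 1, nat_lit 0, nat_lit 5, nat_lit 2, nat_lit 2, nat_lit 3, nat_lit 0, nat_lit 1, nat_lit 0, nat_lit 2, nat_lit 2, nat_lit 0, nat_lit 2])) (.node (nat_lit 623) (.leaf ((nat_lit 441), [nat_lit 1, nat_lit 5, nat_lit 2, nat_lit 5, nat_lit 4, nat_lit 0, nat_lit 4, nat_lit 0, nat_lit 4, nat_lit 2, nat_lit 0, nat_lit 1, nat_lit 0, nat_lit 2, nat_lit 2])) (.leaf ((nat_lit 565), [nat_lit 4, nat_lit 3, nat_lit 5, nat_lit 3, nat_lit 0, nat_lit 4, nat_lit 2, nat_lit 0, nat_lit 3, nat_lit 1, nat_lit 0, nat_lit 1, nat_lit 0, nat_lit 2, nat_lit 2])))) (.node (nat_lit 625) (.leaf ((nat_lit 419),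 [nat_lit 0, nat_lit 4, nat_lit 5, nat_lit 1, nat_lit 0, nat_lit 4, nat_lit 3, nat_lit 2, nat_lit 0, nat_lit 1, nat_lit 0, nat_lit 1])) (.node (nat_lit 626) (.leaf ((nat_lit 566), [nat_lit 1, nat_lit 3, nat_lit 2, nat_lit 5, nat_lit 3, nat_lit 0, nat_lit 4, nat_lit 3, nat_lit 0, nat_lit 4, nat_lit 2, nat_lit 2, nat_lit 0, nat_lit 2, nat_lit 2, nat_lit 0, nat_lit 2])) (.leaf ((nat_lit 567), [nat_lit 2, nat_lit 3, nat_lit 5, nat_lit 3, nat_lit 2, nat_lit 3, nat_lit 0, nat_lit 3, nat_lit 0, nat_lit 2, nat_lit 2]))))))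
 (.node (nat_lit 632) (.node (nat_lit 629) (.node (nat_lit 628) (.leaf ((nat_lit 568), [nat_lit 3, nat_lit 4, nat_lit 3, nat_lit 5, nat_lit 3, nat_lit 0, nat_lit 3, nat_lit 2, nat_lit 0, nat_lit 3, nat_lit 0, nat_lit 2, nat_lit 0, nat_lit 1, nat_lit 0, nat_lit 1])) (.leaf ((nat_lit 498), [nat_lit 0, nat_lit 5, nat_lit 2, nat_lit 3, nat_lit 5, nat_lit 2, nat_lit 4, nat_lit 0, nat_lit 3, nat_lit 4, nat_lit 0, nat_lit 2, nat_lit 2]))) (.node (nat_lit 630) (.leaf ((nat_lit 569), [nat_lit 5, nat_lit 3, nat_lit 0, nat_lit 5, nat_lit 3, nat_lit 0, nat_lit 3, nat_lit 0, nat_lit 2, nat_lit 3, nat_lit 0, nat_lit 1, nat_lit 0, nat_lit 2, nat_lit 2, nat_lit 0, nat_lit 1, nat_lit 0])) (.node (nat_lit 631) (.leaf ((nat_lit 570), [nat_lit 4, nat_lit 0, nat_lit 5, nat_lit 2, nat_lit 5, nat_lit 0, nat_lit 3, nat_lit 0, nat_lit 4, nat_lit 0, nat_lit 1, nat_lit 0, nat_lit 2, nat_lit 2, nat_lit 0, nat_lit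 2, nat_lit 0])) (.leaf ((nat_lit 571), [nat_lit 5, nat_lit 4, nat_lit 3, nat_lit 2, nat_lit 5, nat_lit 0, nat_lit 2, nat_lit 3, nat_lit 4, nat_lit 1, nat_lit 3, nat_lit 0, nat_lit 1, nat_lit 0, nat_lit 2, nat_lit 2])))))
 (.node (nat_lit 635) (.node (nat_lit 633) (.leaf ((nat_lit 572), [nat_lit 5, nat_lit 2, nat_lit 3, nat_lit 0, nat_lit 5, nat_lit 3, nat_lit 4, nat_lit 1, nat_lit 4, nat_lit 3, nat_lit 2, nat_lit 0, nat_lit 2, nat_lit 2, nat_lit 0, nat_lit 2, nat_lit 0])) (.node (nat_lit 634) (.leaf ((nat_lit 573), [nat_lit 5, nat_lit 1, nat_lit 3, nat_lit 0, nat_lit 5, nat_lit 3, nat_lit 4, nat_lit 1, nat_lit 3, nat_lit 0, nat_lit 1, nat_lit 0, nat_lit 1])) (.leaf ((nat_lit 574), [nat_lit 5, nat_lit 4, nat_lit 1, nat_lit 0, nat_lit 5, nat_lit 1, nat_lit 3, nat_lit 4, nat_lit 1, nat_lit 0, nat_lit 3, nat_lit 2, nat_lit 0, nat_lit 2, nat_lit 2, nat_lit 0, nat_lit 2])))) (.node (nat_lit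 636) (.leaf ((nat_lit 575), [nat_lit 5, nat_lit 2, nat_lit 0, nat_lit 5, nat_lit 4, nat_lit 2, nat_lit 3, nat_lit 0, nat_lit 4, nat_lit 0, nat_lit 2, nat_lit 0])) (.node (nat_lit 637) (.leaf ((nat_lit 447), [nat_lit 5, nat_lit 4, nat_lit 3, nat_lit 2, nat_lit 5, nat_lit 2, nat_lit 3, nat_lit 2, nat_lit 2, nat_lit 3, nat_lit 0, nat_lit 2, nat_lit 2, nat_lit 0, nat_lit 1, nat_lit 0, nat_lit 2, nat_lit 0])) (.leaf ((nat_lit 576), [nat_lit 4, nat_lit 0, nat_lit 5, nat_lit 3, nat_lit 0, nat_lit 4, nat_lit 0, nat_lit 4, nat_lit 2, nat_lit 2, nat_lit 0, nat_lit 2, nat_lit 0, nat_lit 1])))))))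
 (.node (nat_lit 649) (.node (nat_lit 643) (.node (nat_lit 640) (.node (nat_lit 639) (.leaf ((nat_lit 577), [nat_lit 4, nat_lit 5, nat_lit 0, nat_lit 3, nat_lit 5, nat_lit 0, nat_lit 3, nat_lit 0, nat_lit 2, nat_lit 4, nat_lit 3, nat_lit 2, nat_lit 0, nat_lit 2, nat_lit 0, nat_lit 1, nat_lit 0, nat_lit 1, nat_lit 0])) (.leaf ((nat_lit 398), [nat_lit 4, nat_lit 5, nat_lit 2, nat_lit 0, nat_lit 5, nat_lit 2, nat_lit 3, nat_lit 2, nat_lit 0, nat_lit 3, nat_lit 0, nat_lit 1]))) (.node (nat_lit 641) (.leaf ((nat_lit 427), [nat_lit 0, nat_lit 5, nat_lit 3, nat_lit 5, nat_lit 0, nat_lit 4, nat_lit 0, nat_lit 1, nat_lit 0, nat_lit 3, nat_lit 1, nat_lit 0, nat_lit 2, nat_lit 0, nat_lit 2, nat_lit 2, nat_lit 0])) (.node (nat_lit 642) (.leaf ((nat_lit 578), [nat_lit 0, nat_lit 5, nat_lit 3, nat_lit 5, nat_lit 3, nat_lit 0, nat_lit 3, nat_lit 0, nat_lit 2, nat_lit 4, nat_lit 0, nat_lit 1, nat_lit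 0, nat_lit 2, nat_lit 0, nat_lit 2])) (.leaf ((nat_lit 415), [nat_lit 5, nat_lit 2, nat_lit 2, nat_lit 0, nat_lit 5, nat_lit 2, nat_lit 2, nat_lit 4, nat_lit 0, nat_lit 4, nat_lit 1, nat_lit 0, nat_lit 2, nat_lit 2, nat_lit 0, nat_lit 2])))))
 (.node (nat_lit 646) (.node (nat_lit 644) (.leaf ((nat_lit 579), [nat_lit 2, nat_lit 5, nat_lit 2, nat_lit 3, nat_lit 5, nat_lit 4, nat_lit 2, nat_lit 4, nat_lit 2, nat_lit 3, nat_lit 2, nat_lit 2, nat_lit 0, nat_lit 2, nat_lit 2, nat_lit 0, nat_lit 2, nat_lit 2])) (.node (nat_lit 645) (.leaf ((nat_lit 253), [nat_lit 4, nat_lit 1, nat_lit 0, nat_lit 5, nat_lit 0, nat_lit 3, nat_lit 0, nat_lit 2, nat_lit 4, nat_lit 1, nat_lit 0, nat_lit 2, nat_lit 2, nat_lit 0, nat_lit 2, nat_lit 2, nat_lit 0])) (.leaf ((nat_lit 580), [nat_lit 1, nat_lit 4, nat_lit 2, nat_lit 5, nat_lit 1, nat_lit 3, nat_lit 2, nat_lit 0, nat_lit 4, nat_lit 1, nat_lit 0, nat_lit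 1])))) (.node (nat_lit 647) (.leaf ((nat_lit 581), [nat_lit 5, nat_lit 2, nat_lit 0, nat_lit 5, nat_lit 4, nat_lit 0, nat_lit 3, nat_lit 0, nat_lit 1, nat_lit 4, nat_lit 0, nat_lit 2, nat_lit 0, nat_lit 2, nat_lit 2, nat_lit 0, nat_lit 1])) (.node (nat_lit 648) (.leaf ((nat_lit 302), [nat_lit 5, nat_lit 2, nat_lit 0, nat_lit 5, nat_lit 2, nat_lit 4, nat_lit 2, nat_lit 3, nat_lit 2, nat_lit 3, nat_lit 0, nat_lit 1, nat_lit 0, nat_lit 2, nat_lit 0, nat_lit 2, nat_lit 0])) (.leaf ((nat_lit 554), [nat_lit 2, nat_lit 4, nat_lit 5, nat_lit 2, nat_lit 0, nat_lit 5, nat_lit 1, nat_lit 3, nat_lit 2, nat_lit 0, nat_lit 4, nat_lit 2, nat_lit 0, nat_lit 1, nat_lit 0, nat_lit 2, nat_lit 0, nat_lit 2, nat_lit 0]))))))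
 (.node (nat_lit 654) (.node (nat_lit 651) (.node (nat_lit 650) (.leaf ((nat_lit 582), [nat_lit 5, nat_lit 4, nat_lit 1, nat_lit 0, nat_lit 5, nat_lit 1, nat_lit 3, nat_lit 0, nat_lit 3, nat_lit 1, nat_lit 0, nat_lit 2, nat_lit 0, nat_lit 2, nat_lit 2])) (.leaf ((nat_lit 63), [nat_lit 2, nat_lit 3, nat_lit 5, nat_lit 4, nat_lit 2, nat_lit 0, nat_lit 2, nat_lit 3, nat_lit 2]))) (.node (nat_lit 652) (.leaf ((nat_lit 583), [nat_lit 4, nat_lit 3, nat_lit 2, nat_lit 5, nat_lit 3, nat_lit 0, nat_lit 3, nat_lit 1, nat_lit 4, nat_lit 2, nat_lit 0, nat_lit 2])) (.node (nat_lit 653) (.leaf ((nat_lit 584), [nat_lit 5, nat_lit 4, nat_lit 5, nat_lit 1, nat_lit 5, nat_lit 3, nat_lit 2, nat_lit 3, nat_lit 0, nat_lit 4, nat_lit 2, nat_lit 2, nat_lit 0, nat_lit 2, nat_lit 0, nat_lit 1, nat_lit 0])) (.leaf ((nat_lit 585), [nat_lit 0, nat_lit 2, nat_lit 4, nat_lit 0, nat_lit 5, nat_lit 3, nat_lit 4, nat_lit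 2, nat_lit 0, nat_lit 1, nat_lit 0, nat_lit 1, nat_lit 0, nat_lit 2, nat_lit 0])))))
 (.node (nat_lit 657) (.node (nat_lit 655) (.leaf ((nat_lit 586), [nat_lit 5, nat_lit 1, nat_lit 0, nat_lit 2, nat_lit 5, nat_lit 0, nat_lit 2, nat_lit 3, nat_lit 1, nat_lit 3, nat_lit 2, nat_lit 2])) (.node (nat_lit 656) (.leaf ((nat_lit 523), [nat_lit 3, nat_lit 4, nat_lit 5, nat_lit 2, nat_lit 5, nat_lit 3, nat_lit 2, nat_lit 2, nat_lit 3, nat_lit 2, nat_lit 0, nat_lit 2, nat_lit 0, nat_lit 1, nat_lit 0, nat_lit 1])) (.leaf ((nat_lit 587), [nat_lit 4, nat_lit 3, nat_lit 5, nat_lit 2, nat_lit 3, nat_lit 2, nat_lit 0, nat_lit 4, nat_lit 2, nat_lit 0, nat_lit 2, nat_lit 0, nat_lit 1, nat_lit 0, nat_lit 1, nat_lit 0])))) (.node (nat_lit 658) (.leaf ((nat_lit 588), [nat_lit 2, nat_lit 0, nat_lit 5, nat_lit 0, nat_lit 3, nat_lit 0, nat_lit 2, nat_lit 3, nat_lit 2, nat_lit 2, nat_lit 0, nat_lit 2, nat_lit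 2, nat_lit 0, nat_lit 1, nat_lit 0])) (.node (nat_lit 659) (.leaf ((nat_lit 589), [nat_lit 3, nat_lit 5, nat_lit 0, nat_lit 1, nat_lit 3, nat_lit 1, nat_lit 0, nat_lit 4, nat_lit 1, nat_lit 0, nat_lit 2, nat_lit 2, nat_lit 0, nat_lit 2])) (.leaf ((nat_lit 590), [nat_lit 3, nat_lit 4, nat_lit 3, nat_lit 5, nat_lit 3, nat_lit 1, nat_lit 0, nat_lit 4, nat_lit 2, nat_lit 2, nat_lit 0, nat_lit 2, nat_lit 0, nat_lit 1]))))))))
 (.node (nat_lit 682) (.node (nat_lit 671) (.node (nat_lit 665) (.node (nat_lit 662) (.node (nat_lit 661) (.leaf ((nat_lit 591), [nat_lit 3, nat_lit 0, nat_lit 5, nat_lit 3, nat_lit 2, nat_lit 3, nat_lit 2, nat_lit 0, nat_lit 3, nat_lit 1, nat_lit 0, nat_lit 2, nat_lit 2, nat_lit 0, nat_lit 1, nat_lit 0])) (.leaf ((nat_lit 592), [nat_lit 0, nat_lit 4, nat_lit 5, nat_lit 0, nat_lit 4, nat_lit 0, nat_lit 1, nat_lit 0, nat_lit 3, nat_lit 0, nat_lit 2, nat_lit 0]))) (.node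 (nat_lit 663) (.leaf ((nat_lit 593), [nat_lit 2, nat_lit 0, nat_lit 2, nat_lit 5, nat_lit 2, nat_lit 2, nat_lit 0, nat_lit 3, nat_lit 0, nat_lit 4, nat_lit 2, nat_lit 0, nat_lit 2, nat_lit 0, nat_lit 1, nat_lit 0, nat_lit 1, nat_lit 0])) (.node (nat_lit 664) (.leaf ((nat_lit 594), [nat_lit 5, nat_lit 2, nat_lit 0, nat_lit 2, nat_lit 5, nat_lit 0, nat_lit 2, nat_lit 0, nat_lit 2, nat_lit 3, nat_lit 0, nat_lit 2, nat_lit 2, nat_lit 0, nat_lit 1])) (.leaf ((nat_lit 595), [nat_lit 5, nat_lit 4, nat_lit 1, nat_lit 0, nat_lit 5, nat_lit 0, nat_lit 1, nat_lit 0, nat_lit 3, nat_lit 1, nat_lit 0, nat_lit 1, nat_lit 0, nat_lit 2, nat_lit 0, nat_lit 2, nat_lit 0])))))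
 (.node (nat_lit 668) (.node (nat_lit 666) (.leaf ((nat_lit 596), [nat_lit 3, nat_lit 5, nat_lit 1, nat_lit 3, nat_lit 0, nat_lit 5, nat_lit 3, nat_lit 0, nat_lit 1, nat_lit 0, nat_lit 4, nat_lit 1, nat_lit 0, nat_lit 2, nat_lit 2, nat_lit 0, nat_lit 2, nat_lit 0])) (.node (nat_lit 667) (.leaf ((nat_lit 597), [nat_lit 4, nat_lit 1, nat_lit 5, nat_lit 3, nat_lit 5, nat_lit 4, nat_lit 2, nat_lit 0, nat_lit 4, nat_lit 3, nat_lit 2, nat_lit 2, nat_lit 0, nat_lit 2, nat_lit 2, nat_lit 0, nat_lit 1])) (.leaf ((nat_lit 598), [nat_lit 4, nat_lit 5, nat_lit 3, nat_lit 0, nat_lit 5, nat_lit 2, nat_lit 4, nat_lit 3, nat_lit 0, nat_lit 3, nat_lit 0, nat_lit 2, nat_lit 0, nat_lit 2, nat_lit 2, nat_lit 0, nat_lit 2, nat_lit 0])))) (.node (nat_lit 669) (.leaf ((nat_lit 331), [nat_lit 2, nat_lit 2, nat_lit 0, nat_lit 5, nat_lit 4, nat_lit 1, nat_lit 3, nat_lit 2, nat_lit 2, nat_lit 0])) (.node (nat_lit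 670) (.leaf ((nat_lit 599), [nat_lit 5, nat_lit 4, nat_lit 5, nat_lit 1, nat_lit 5, nat_lit 0, nat_lit 2, nat_lit 0, nat_lit 4, nat_lit 1, nat_lit 4, nat_lit 2, nat_lit 2, nat_lit 0, nat_lit 1, nat_lit 0])) (.leaf ((nat_lit 600), [nat_lit 3, nat_lit 2, nat_lit 5, nat_lit 0, nat_lit 5, nat_lit 2, nat_lit 4, nat_lit 2, nat_lit 0, nat_lit 3, nat_lit 2, nat_lit 2, nat_lit 0, nat_lit 2, nat_lit 2, nat_lit 0, nat_lit 2]))))))
 (.node (nat_lit 676) (.node (nat_lit 673) (.node (nat_lit 672) (.leaf ((nat_lit 545), [nat_lit 3, nat_lit 0, nat_lit 2, nat_lit 5, nat_lit 3, nat_lit 1, nat_lit 3, nat_lit 0, nat_lit 2, nat_lit 4, nat_lit 2, nat_lit 0, nat_lit 2])) (.leaf ((nat_lit 601), [nat_lit 3, nat_lit 2, nat_lit 5, nat_lit 0, nat_lit 5, nat_lit 3, nat_lit 2, nat_lit 0, nat_lit 1, nat_lit 0, nat_lit 3, nat_lit 1, nat_lit 0, nat_lit 2, nat_lit 2, nat_lit 0, nat_lit 1, nat_lit 0]))) (.node (nat_lit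 674) (.leaf ((nat_lit 602), [nat_lit 0, nat_lit 1, nat_lit 5, nat_lit 2, nat_lit 2, nat_lit 0, nat_lit 4, nat_lit 2, nat_lit 2, nat_lit 0, nat_lit 2, nat_lit 2, nat_lit 0, nat_lit 2])) (.node (nat_lit 675) (.leaf ((nat_lit 603), [nat_lit 5, nat_lit 2, nat_lit 2, nat_lit 0, nat_lit 5, nat_lit 2, nat_lit 3, nat_lit 2, nat_lit 0, nat_lit 4, nat_lit 1, nat_lit 0, nat_lit 2, nat_lit 2, nat_lit 0, nat_lit 1])) (.leaf ((nat_lit 604), [nat_lit 4, nat_lit 0, nat_lit 5, nat_lit 2, nat_lit 5, nat_lit 2, nat_lit 3, nat_lit 4, nat_lit 1, nat_lit 0, nat_lit 3, nat_lit 0, nat_lit 2, nat_lit 0, nat_lit 2, nat_lit 2, nat_lit 0, nat_lit 1])))))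
 (.node (nat_lit 679) (.node (nat_lit 677) (.leaf ((nat_lit 605), [nat_lit 0, nat_lit 2, nat_lit 5, nat_lit 3, nat_lit 1, nat_lit 4, nat_lit 3, nat_lit 2, nat_lit 0, nat_lit 2])) (.node (nat_lit 678) (.leaf ((nat_lit 606), [nat_lit 3, nat_lit 1, nat_lit 5, nat_lit 0, nat_lit 5, nat_lit 2, nat_lit 2, nat_lit 4, nat_lit 3, nat_lit 1, nat_lit 0, nat_lit 2, nat_lit 0])) (.leaf ((nat_lit 607), [nat_lit 2, nat_lit 2, nat_lit 0, nat_lit 5, nat_lit 3, nat_lit 1, nat_lit 0, nat_lit 4, nat_lit 2, nat_lit 2, nat_lit 0, nat_lit 2, nat_lit 2, nat_lit 0])))) (.node (nat_lit 680) (.leaf ((nat_lit 608), [nat_lit 0, nat_lit 1, nat_lit 5, nat_lit 0, nat_lit 1, nat_lit 0, nat_lit 1, nat_lit 0, nat_lit 3, nat_lit 2, nat_lit 0, nat_lit 2, nat_lit 2, nat_lit 0])) (.node (nat_lit 681) (.leaf ((nat_lit 609), [nat_lit 5, nat_lit 2, nat_lit 3, nat_lit 0, nat_lit 5, nat_lit 3, nat_lit 2, nat_lit 0, nat_lit 4, nat_lit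 1])) (.leaf ((nat_lit 610), [nat_lit 1, nat_lit 0, nat_lit 3, nat_lit 5, nat_lit 4, nat_lit 3, nat_lit 0, nat_lit 4, nat_lit 1, nat_lit 0, nat_lit 3, nat_lit 0, nat_lit 2, nat_lit 0, nat_lit 2, nat_lit 2, nat_lit 0, nat_lit 2, nat_lit 0])))))))
 (.node (nat_lit 693) (.node (nat_lit 687) (.node (nat_lit 684) (.node (nat_lit 683) (.leaf ((nat_lit 114), [nat_lit 3, nat_lit 4, nat_lit 5, nat_lit 3, nat_lit 0, nat_lit 1, nat_lit 0, nat_lit 2, nat_lit 2, nat_lit 0, nat_lit 1, nat_lit 0])) (.leaf ((nat_lit 611), [nat_lit 0, nat_lit 5, nat_lit 3, nat_lit 0, nat_lit 5, nat_lit 4, nat_lit 2, nat_lit 4, nat_lit 1, nat_lit 0, nat_lit 3, nat_lit 2, nat_lit 0, nat_lit 1, nat_lit 0, nat_lit 2, nat_lit 0]))) (.node (nat_lit 685) (.leaf ((nat_lit 612), [nat_lit 3, nat_lit 1, nat_lit 5, nat_lit 0, nat_lit 5, nat_lit 3, nat_lit 2, nat_lit 3, nat_lit 2, nat_lit 2, nat_lit 3, nat_lit 2, nat_lit 0, nat_lit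 1, nat_lit 0, nat_lit 2])) (.node (nat_lit 686) (.leaf ((nat_lit 613), [nat_lit 3, nat_lit 5, nat_lit 2, nat_lit 5, nat_lit 0, nat_lit 4, nat_lit 2, nat_lit 3, nat_lit 0, nat_lit 3, nat_lit 1, nat_lit 0, nat_lit 2, nat_lit 0, nat_lit 2, nat_lit 0])) (.leaf ((nat_lit 241), [nat_lit 2, nat_lit 4, nat_lit 5, nat_lit 2, nat_lit 0, nat_lit 5, nat_lit 1, nat_lit 0, nat_lit 2, nat_lit 4, nat_lit 0, nat_lit 1, nat_lit 0, nat_lit 2, nat_lit 2, nat_lit 0, nat_lit 1, nat_lit 0])))))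
 (.node (nat_lit 690) (.node (nat_lit 688) (.leaf ((nat_lit 614), [nat_lit 3, nat_lit 5, nat_lit 0, nat_lit 4, nat_lit 0, nat_lit 1, nat_lit 4, nat_lit 3, nat_lit 0, nat_lit 1, nat_lit 0, nat_lit 1, nat_lit 0, nat_lit 2])) (.node (nat_lit 689) (.leaf ((nat_lit 615), [nat_lit 2, nat_lit 4, nat_lit 5, nat_lit 2, nat_lit 0, nat_lit 5, nat_lit 0, nat_lit 4, nat_lit 1, nat_lit 0, nat_lit 3, nat_lit 0, nat_lit 1, nat_lit 0, nat_lit 2, nat_lit 2, nat_lit 0, nat_lit 2, nat_lit 0])) (.leaf ((nat_lit 616), [nat_lit 1, nat_lit 0, nat_lit 5, nat_lit 3, nat_lit 0, nat_lit 3, nat_lit 0, nat_lit 2, nat_lit 3, nat_lit 1, nat_lit 0, nat_lit 1, nat_lit 0, nat_lit 2, nat_lit 2])))) (.node (nat_lit 691) (.leaf ((nat_lit 617), [nat_lit 3, nat_lit 0, nat_lit 2, nat_lit 5, nat_lit 2, nat_lit 3, nat_lit 2, nat_lit 3, nat_lit 2, nat_lit 0, nat_lit 2, nat_lit 0, nat_lit 1])) (.node (nat_lit 692) (.leaf ((nat_lit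 618), [nat_lit 4, nat_lit 5, nat_lit 0, nat_lit 3, nat_lit 5, nat_lit 1, nat_lit 0, nat_lit 4, nat_lit 1, nat_lit 4, nat_lit 0, nat_lit 2, nat_lit 0, nat_lit 2])) (.leaf ((nat_lit 619), [nat_lit 5, nat_lit 4, nat_lit 0, nat_lit 5, nat_lit 3, nat_lit 0, nat_lit 1, nat_lit 4, nat_lit 2, nat_lit 0, nat_lit 2, nat_lit 0, nat_lit 1, nat_lit 0]))))))
 (.node (nat_lit 698) (.node (nat_lit 695) (.node (nat_lit 694) (.leaf ((nat_lit 620), [nat_lit 5, nat_lit 4, nat_lit 5, nat_lit 2, nat_lit 5, nat_lit 4, nat_lit 1, nat_lit 4, nat_lit 2, nat_lit 4, nat_lit 0, nat_lit 2, nat_lit 2, nat_lit 0, nat_lit 1, nat_lit 0])) (.leaf ((nat_lit 388), [nat_lit 1, nat_lit 0, nat_lit 5, nat_lit 4, nat_lit 3, nat_lit 0, nat_lit 3, nat_lit 0, nat_lit 2, nat_lit 0, nat_lit 1, nat_lit 0, nat_lit 1]))) (.node (nat_lit 696) (.leaf ((nat_lit 621), [nat_lit 5, nat_lit 1, nat_lit 0, nat_lit 2, nat_lit 5, nat_lit 1, nat_lit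 4, nat_lit 0, nat_lit 4, nat_lit 0, nat_lit 2, nat_lit 2, nat_lit 0, nat_lit 1, nat_lit 0, nat_lit 2, nat_lit 0])) (.node (nat_lit 697) (.leaf ((nat_lit 622), [nat_lit 5, nat_lit 2, nat_lit 0, nat_lit 2, nat_lit 5, nat_lit 2, nat_lit 4, nat_lit 3, nat_lit 2, nat_lit 2, nat_lit 3, nat_lit 0, nat_lit 2, nat_lit 0, nat_lit 2, nat_lit 2, nat_lit 0, nat_lit 1, nat_lit 0])) (.leaf ((nat_lit 623), [nat_lit 5, nat_lit 2, nat_lit 0, nat_lit 2, nat_lit 5, nat_lit 2, nat_lit 4, nat_lit 3, nat_lit 2, nat_lit 3, nat_lit 1, nat_lit 0, nat_lit 2, nat_lit 0, nat_lit 1])))))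
 (.node (nat_lit 701) (.node (nat_lit 699) (.leaf ((nat_lit 624), [nat_lit 3, nat_lit 1, nat_lit 0, nat_lit 4, nat_lit 2, nat_lit 2, nat_lit 0, nat_lit 2, nat_lit 2, nat_lit 0])) (.node (nat_lit 700) (.leaf ((nat_lit 625), [nat_lit 3, nat_lit 4, nat_lit 5, nat_lit 2, nat_lit 5, nat_lit 3, nat_lit 4, nat_lit 3, nat_lit 2, nat_lit 4, nat_lit 3])) (.leaf ((nat_lit 626), [nat_lit 5, nat_lit 0, nat_lit 1, nat_lit 5, nat_lit 1, nat_lit 3, nat_lit 4, nat_lit 1, nat_lit 3, nat_lit 0, nat_lit 2, nat_lit 2, nat_lit 0, nat_lit 1, nat_lit 0])))) (.node (nat_lit 702) (.leaf ((nat_lit 432), [nat_lit 1, nat_lit 4, nat_lit 5, nat_lit 1, nat_lit 5, nat_lit 4, nat_lit 2, nat_lit 0, nat_lit 4, nat_lit 3, nat_lit 2, nat_lit 2, nat_lit 0, nat_lit 1, nat_lit 0, nat_lit 2, nat_lit 0])) (.node (nat_lit 703) (.leaf ((nat_lit 627), [nat_lit 5, nat_lit 4, nat_lit 0, nat_lit 5, nat_lit 3, nat_lit 4, nat_lit 0, nat_lit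 4, nat_lit 3, nat_lit 2, nat_lit 0, nat_lit 2, nat_lit 2, nat_lit 0, nat_lit 1])) (.leaf ((nat_lit 412), [nat_lit 1, nat_lit 0, nat_lit 2, nat_lit 5, nat_lit 2, nat_lit 3, nat_lit 4, nat_lit 3, nat_lit 0, nat_lit 3, nat_lit 2, nat_lit 0, nat_lit 1, nat_lit 0, nat_lit 2, nat_lit 0]))))))))))
noncomputable def bWd_4 : Tr (ℕ × List ℕ) := (.node (nat_lit 792) (.node (nat_lit 748) (.node (nat_lit 726) (.node (nat_lit 715) (.node (nat_lit 709) (.node (nat_lit 706) (.node (nat_lit 705) (.leaf ((nat_lit 628), [nat_lit 3, nat_lit 1, nat_lit 3, nat_lit 0, nat_lit 5, nat_lit 4, nat_lit 0, nat_lit 4, nat_lit 3, nat_lit 1, nat_lit 0, nat_lit 2, nat_lit 0, nat_lit 2])) (.leaf ((nat_lit 629), [nat_lit 4, nat_lit 3, nat_lit 2, nat_lit 5, nat_lit 1, nat_lit 4, nat_lit 0, nat_lit 3, nat_lit 4, nat_lit 1, nat_lit 0, nat_lit 2, nat_lit 2]))) (.node (nat_lit 707) (.leaf ((nat_lit 630), [nat_lit 4, nat_lit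 5, nat_lit 1, nat_lit 5, nat_lit 3, nat_lit 0, nat_lit 3, nat_lit 2, nat_lit 3, nat_lit 2, nat_lit 0, nat_lit 2, nat_lit 0, nat_lit 1, nat_lit 0])) (.node (nat_lit 708) (.leaf ((nat_lit 631), [nat_lit 2, nat_lit 5, nat_lit 2, nat_lit 4, nat_lit 2, nat_lit 0, nat_lit 2, nat_lit 3, nat_lit 2, nat_lit 0, nat_lit 2, nat_lit 2, nat_lit 0, nat_lit 2, nat_lit 0])) (.leaf ((nat_lit 34), [nat_lit 5, nat_lit 3, nat_lit 0, nat_lit 5, nat_lit 0, nat_lit 2, nat_lit 4, nat_lit 3, nat_lit 2, nat_lit 3, nat_lit 2, nat_lit 0, nat_lit 2, nat_lit 2, nat_lit 0, nat_lit 2])))))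
 (.node (nat_lit 712) (.node (nat_lit 710) (.leaf ((nat_lit 632), [nat_lit 4, nat_lit 1, nat_lit 0, nat_lit 5, nat_lit 1, nat_lit 4, nat_lit 2, nat_lit 0, nat_lit 2, nat_lit 3, nat_lit 0, nat_lit 2, nat_lit 0, nat_lit 1, nat_lit 0])) (.node (nat_lit 711) (.leaf ((nat_lit 633), [nat_lit 1, nat_lit 3, nat_lit 2, nat_lit 5, nat_lit 2, nat_lit 4, nat_lit 0, nat_lit 4, nat_lit 2, nat_lit 0, nat_lit 2, nat_lit 0, nat_lit 1, nat_lit 0])) (.leaf ((nat_lit 634), [nat_lit 3, nat_lit 4, nat_lit 5, nat_lit 3, nat_lit 0, nat_lit 3, nat_lit 0, nat_lit 2, nat_lit 3, nat_lit 2, nat_lit 0, nat_lit 2, nat_lit 2, nat_lit 0, nat_lit 2, nat_lit 2, nat_lit 0])))) (.node (nat_lit 713) (.leaf ((nat_lit 635), [nat_lit 5, nat_lit 3, nat_lit 5, nat_lit 0, nat_lit 4, nat_lit 0, nat_lit 1, nat_lit 0, nat_lit 3, nat_lit 0, nat_lit 2, nat_lit 0, nat_lit 1, nat_lit 0, nat_lit 1])) (.node (nat_lit 714) (.leaf ((nat_lit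 636), [nat_lit 3, nat_lit 2, nat_lit 3, nat_lit 5, nat_lit 0, nat_lit 2, nat_lit 0, nat_lit 2, nat_lit 4, nat_lit 2, nat_lit 0, nat_lit 2, nat_lit 0, nat_lit 1, nat_lit 0, nat_lit 1, nat_lit 0])) (.leaf ((nat_lit 637), [nat_lit 0, nat_lit 2, nat_lit 5, nat_lit 3, nat_lit 5, nat_lit 0, nat_lit 3, nat_lit 1, nat_lit 3, nat_lit 4, nat_lit 3, nat_lit 2, nat_lit 0, nat_lit 2]))))))
 (.node (nat_lit 720) (.node (nat_lit 717) (.node (nat_lit 716) (.leaf ((nat_lit 622), [nat_lit 2, nat_lit 0, nat_lit 2, nat_lit 5, nat_lit 4, nat_lit 1, nat_lit 0, nat_lit 1, nat_lit 0, nat_lit 3, nat_lit 1, nat_lit 0, nat_lit 2, nat_lit 2, nat_lit 0, nat_lit 1, nat_lit 0])) (.leaf ((nat_lit 325), [nat_lit 1, nat_lit 5, nat_lit 2, nat_lit 5, nat_lit 0, nat_lit 3, nat_lit 0, nat_lit 2, nat_lit 4, nat_lit 2, nat_lit 0, nat_lit 1, nat_lit 0, nat_lit 1, nat_lit 0]))) (.node (nat_lit 718) (.leaf ((nat_lit 638), [nat_lit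 5, nat_lit 2, nat_lit 0, nat_lit 2, nat_lit 5, nat_lit 1, nat_lit 4, nat_lit 0, nat_lit 4, nat_lit 0, nat_lit 2, nat_lit 2, nat_lit 0, nat_lit 2, nat_lit 0, nat_lit 1, nat_lit 0])) (.node (nat_lit 719) (.leaf ((nat_lit 357), [nat_lit 5, nat_lit 1, nat_lit 5, nat_lit 0, nat_lit 5, nat_lit 2, nat_lit 4, nat_lit 3, nat_lit 0, nat_lit 4, nat_lit 2, nat_lit 0, nat_lit 1, nat_lit 0, nat_lit 2, nat_lit 0])) (.leaf ((nat_lit 639), [nat_lit 4, nat_lit 2, nat_lit 5, nat_lit 1, nat_lit 5, nat_lit 3, nat_lit 4, nat_lit 2, nat_lit 0, nat_lit 2, nat_lit 3, nat_lit 0, nat_lit 2, nat_lit 0, nat_lit 1])))))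
 (.node (nat_lit 723) (.node (nat_lit 721) (.leaf ((nat_lit 640), [nat_lit 5, nat_lit 4, nat_lit 2, nat_lit 5, nat_lit 4, nat_lit 2, nat_lit 2, nat_lit 4, nat_lit 3, nat_lit 0, nat_lit 2, nat_lit 2, nat_lit 0, nat_lit 2, nat_lit 2, nat_lit 0])) (.node (nat_lit 722) (.leaf ((nat_lit 641), [nat_lit 4, nat_lit 5, nat_lit 2, nat_lit 3, nat_lit 5, nat_lit 3, nat_lit 0, nat_lit 3, nat_lit 0, nat_lit 2, nat_lit 3, nat_lit 0, nat_lit 2, nat_lit 2, nat_lit 0])) (.leaf ((nat_lit 160), [nat_lit 1, nat_lit 5, nat_lit 3, nat_lit 0, nat_lit 4, nat_lit 0, nat_lit 4, nat_lit 0, nat_lit 2, nat_lit 0, nat_lit 1, nat_lit 0, nat_lit 1])))) (.node (nat_lit 724) (.leaf ((nat_lit 642), [nat_lit 5, nat_lit 4, nat_lit 5, nat_lit 2, nat_lit 5, nat_lit 4, nat_lit 1, nat_lit 0, nat_lit 1, nat_lit 0, nat_lit 2, nat_lit 0, nat_lit 2])) (.node (nat_lit 725) (.leaf ((nat_lit 643), [nat_lit 4, nat_lit 5, nat_lit 1, nat_lit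 5, nat_lit 4, nat_lit 1, nat_lit 3, nat_lit 4, nat_lit 2, nat_lit 3, nat_lit 0, nat_lit 1])) (.leaf ((nat_lit 367), [nat_lit 4, nat_lit 5, nat_lit 2, nat_lit 3, nat_lit 5, nat_lit 3, nat_lit 0, nat_lit 2, nat_lit 4, nat_lit 2, nat_lit 2, nat_lit 0, nat_lit 2, nat_lit 2, nat_lit 0, nat_lit 1])))))))
 (.node (nat_lit 737) (.node (nat_lit 731) (.node (nat_lit 728) (.node (nat_lit 727) (.leaf ((nat_lit 644), [nat_lit 5, nat_lit 2, nat_lit 3, nat_lit 5, nat_lit 4, nat_lit 3, nat_lit 0, nat_lit 3, nat_lit 0, nat_lit 2, nat_lit 0, nat_lit 1, nat_lit 0, nat_lit 1])) (.leaf ((nat_lit 645), [nat_lit 1, nat_lit 3, nat_lit 0, nat_lit 5, nat_lit 3, nat_lit 1, nat_lit 4, nat_lit 3, nat_lit 2, nat_lit 0, nat_lit 3, nat_lit 0, nat_lit 1, nat_lit 0, nat_lit 1, nat_lit 0]))) (.node (nat_lit 729) (.leaf ((nat_lit 646), [nat_lit 4, nat_lit 5, nat_lit 0, nat_lit 3, nat_lit 5, nat_lit 3, nat_lit 0, nat_lit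 4, nat_lit 1, nat_lit 0, nat_lit 3, nat_lit 1, nat_lit 0, nat_lit 2, nat_lit 0, nat_lit 1, nat_lit 0])) (.node (nat_lit 730) (.leaf ((nat_lit 647), [nat_lit 5, nat_lit 2, nat_lit 3, nat_lit 0, nat_lit 5, nat_lit 0, nat_lit 2, nat_lit 2, nat_lit 3, nat_lit 0, nat_lit 1, nat_lit 0, nat_lit 2, nat_lit 0, nat_lit 2, nat_lit 2])) (.leaf ((nat_lit 648), [nat_lit 0, nat_lit 5, nat_lit 2, nat_lit 4, nat_lit 0, nat_lit 2, nat_lit 0, nat_lit 1])))))
 (.node (nat_lit 734) (.node (nat_lit 732) (.leaf ((nat_lit 35), [nat_lit 2, nat_lit 2, nat_lit 5, nat_lit 1, nat_lit 5, nat_lit 0, nat_lit 4, nat_lit 3, nat_lit 2, nat_lit 3, nat_lit 2, nat_lit 0, nat_lit 2, nat_lit 2, nat_lit 0, nat_lit 2, nat_lit 2])) (.node (nat_lit 733) (.leaf ((nat_lit 649), [nat_lit 4, nat_lit 5, nat_lit 3, nat_lit 0, nat_lit 5, nat_lit 2, nat_lit 3, nat_lit 0, nat_lit 2, nat_lit 4, nat_lit 0, nat_lit 2, nat_lit 2, nat_lit 0,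 nat_lit 2, nat_lit 0])) (.leaf ((nat_lit 650), [nat_lit 3, nat_lit 1, nat_lit 5, nat_lit 2, nat_lit 5, nat_lit 4, nat_lit 3, nat_lit 2, nat_lit 3, nat_lit 2, nat_lit 3, nat_lit 2, nat_lit 2, nat_lit 0, nat_lit 1, nat_lit 0, nat_lit 2, nat_lit 2, nat_lit 0])))) (.node (nat_lit 735) (.leaf ((nat_lit 279), [nat_lit 5, nat_lit 1, nat_lit 0, nat_lit 3, nat_lit 5, nat_lit 2, nat_lit 4, nat_lit 3, nat_lit 0, nat_lit 2, nat_lit 3, nat_lit 1, nat_lit 0, nat_lit 2, nat_lit 2, nat_lit 0, nat_lit 2])) (.node (nat_lit 736) (.leaf ((nat_lit 651), [nat_lit 4, nat_lit 1, nat_lit 5, nat_lit 3, nat_lit 5, nat_lit 3, nat_lit 1, nat_lit 4, nat_lit 3, nat_lit 2, nat_lit 0, nat_lit 3, nat_lit 1, nat_lit 0, nat_lit 2, nat_lit 2, nat_lit 0, nat_lit 2])) (.leaf ((nat_lit 652), [nat_lit 2, nat_lit 0, nat_lit 2, nat_lit 5, nat_lit 1, nat_lit 0, nat_lit 2, nat_lit 3, nat_lit 2, nat_lit 2, nat_lit 0, nat_lit 2, nat_lit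 2, nat_lit 0, nat_lit 1, nat_lit 0]))))))
 (.node (nat_lit 742) (.node (nat_lit 739) (.node (nat_lit 738) (.leaf ((nat_lit 653), [nat_lit 3, nat_lit 2, nat_lit 3, nat_lit 5, nat_lit 3, nat_lit 2, nat_lit 3, nat_lit 0, nat_lit 3, nat_lit 0, nat_lit 2, nat_lit 0, nat_lit 2, nat_lit 2, nat_lit 0, nat_lit 1, nat_lit 0])) (.leaf ((nat_lit 654), [nat_lit 5, nat_lit 2, nat_lit 0, nat_lit 5, nat_lit 3, nat_lit 2, nat_lit 4, nat_lit 3, nat_lit 2, nat_lit 3, nat_lit 2, nat_lit 2, nat_lit 0, nat_lit 2, nat_lit 2]))) (.node (nat_lit 740) (.leaf ((nat_lit 577), [nat_lit 0, nat_lit 3, nat_lit 1, nat_lit 3, nat_lit 4, nat_lit 1, nat_lit 0, nat_lit 1, nat_lit 0, nat_lit 2])) (.node (nat_lit 741) (.leaf ((nat_lit 655), [nat_lit 3, nat_lit 5, nat_lit 0, nat_lit 4, nat_lit 1, nat_lit 3, nat_lit 2, nat_lit 0, nat_lit 2, nat_lit 0, nat_lit 1, nat_lit 0, nat_lit 1, nat_lit 0])) (.leaf ((nat_lit 656), [nat_lit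 2, nat_lit 0, nat_lit 2, nat_lit 5, nat_lit 2, nat_lit 3, nat_lit 0, nat_lit 3, nat_lit 2, nat_lit 0, nat_lit 2, nat_lit 0, nat_lit 1, nat_lit 0])))))
 (.node (nat_lit 745) (.node (nat_lit 743) (.leaf ((nat_lit 657), [nat_lit 0, nat_lit 2, nat_lit 5, nat_lit 3, nat_lit 5, nat_lit 4, nat_lit 0, nat_lit 2, nat_lit 2, nat_lit 3, nat_lit 0, nat_lit 2, nat_lit 2, nat_lit 0, nat_lit 2, nat_lit 2, nat_lit 0])) (.node (nat_lit 744) (.leaf ((nat_lit 316), [nat_lit 3, nat_lit 5, nat_lit 2, nat_lit 5, nat_lit 1, nat_lit 4, nat_lit 2, nat_lit 4, nat_lit 3, nat_lit 0, nat_lit 2, nat_lit 0, nat_lit 1, nat_lit 0, nat_lit 1])) (.leaf ((nat_lit 658), [nat_lit 5, nat_lit 2, nat_lit 3, nat_lit 5, nat_lit 1, nat_lit 4, nat_lit 3, nat_lit 1, nat_lit 4, nat_lit 2, nat_lit 2, nat_lit 0, nat_lit 1])))) (.node (nat_lit 746) (.leaf ((nat_lit 659), [nat_lit 2, nat_lit 0, nat_lit 2, nat_lit 5, nat_lit 3, nat_lit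 1, nat_lit 4, nat_lit 2, nat_lit 2, nat_lit 0, nat_lit 2, nat_lit 2, nat_lit 0, nat_lit 1, nat_lit 0])) (.node (nat_lit 747) (.leaf ((nat_lit 660), [nat_lit 5, nat_lit 3, nat_lit 2, nat_lit 0, nat_lit 5, nat_lit 4, nat_lit 2, nat_lit 3, nat_lit 2, nat_lit 0, nat_lit 2, nat_lit 0, nat_lit 1, nat_lit 0])) (.leaf ((nat_lit 661), [nat_lit 4, nat_lit 5, nat_lit 0, nat_lit 3, nat_lit 5, nat_lit 1, nat_lit 3, nat_lit 1, nat_lit 3, nat_lit 4, nat_lit 2, nat_lit 2]))))))))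
 (.node (nat_lit 770) (.node (nat_lit 759) (.node (nat_lit 753) (.node (nat_lit 750) (.node (nat_lit 749) (.leaf ((nat_lit 662), [nat_lit 3, nat_lit 0, nat_lit 5, nat_lit 2, nat_lit 3, nat_lit 1, nat_lit 3, nat_lit 0, nat_lit 3, nat_lit 2, nat_lit 2, nat_lit 0, nat_lit 1, nat_lit 0])) (.leaf ((nat_lit 663), [nat_lit 0, nat_lit 5, nat_lit 0, nat_lit 1, nat_lit 5, nat_lit 1, nat_lit 0, nat_lit 3, nat_lit 0, nat_lit 4, nat_lit 2, nat_lit 2, nat_lit 0, nat_lit 2, nat_lit 2, nat_lit 0, nat_lit 2]))) (.node (nat_lit 751) (.leaf ((nat_lit 664), [nat_lit 4, nat_lit 5, nat_lit 1, nat_lit 5, nat_lit 3, nat_lit 1, nat_lit 4, nat_lit 3, nat_lit 2, nat_lit 0])) (.node (nat_lit 752) (.leaf ((nat_lit 665), [nat_lit 3, nat_lit 0, nat_lit 5, nat_lit 3, nat_lit 5, nat_lit 0, nat_lit 3, nat_lit 0, nat_lit 2, nat_lit 3, nat_lit 2, nat_lit 0, nat_lit 1])) (.leaf ((nat_lit 666), [nat_lit 3, nat_lit 4, nat_lit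 3, nat_lit 5, nat_lit 2, nat_lit 3, nat_lit 2, nat_lit 4, nat_lit 1, nat_lit 0])))))
 (.node (nat_lit 756) (.node (nat_lit 754) (.leaf ((nat_lit 273), [nat_lit 5, nat_lit 4, nat_lit 3, nat_lit 5, nat_lit 2, nat_lit 5, nat_lit 2, nat_lit 2, nat_lit 3, nat_lit 4, nat_lit 3, nat_lit 0, nat_lit 1, nat_lit 0, nat_lit 2, nat_lit 2, nat_lit 0, nat_lit 2])) (.node (nat_lit 755) (.leaf ((nat_lit 639), [nat_lit 1, nat_lit 5, nat_lit 0, nat_lit 5, nat_lit 4, nat_lit 0, nat_lit 4, nat_lit 1, nat_lit 3, nat_lit 1, nat_lit 0, nat_lit 2, nat_lit 0])) (.leaf ((nat_lit 667), [nat_lit 4, nat_lit 3, nat_lit 5, nat_lit 4, nat_lit 2, nat_lit 3, nat_lit 2, nat_lit 3, nat_lit 1])))) (.node (nat_lit 757) (.leaf ((nat_lit 575), [nat_lit 4, nat_lit 2, nat_lit 5, nat_lit 3, nat_lit 5, nat_lit 3, nat_lit 4, nat_lit 3, nat_lit 1, nat_lit 4, nat_lit 3, nat_lit 0, nat_lit 2, nat_lit 2])) (.node (nat_lit 758) (.leaf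 ((nat_lit 668), [nat_lit 4, nat_lit 2, nat_lit 5, nat_lit 0, nat_lit 1, nat_lit 4, nat_lit 2, nat_lit 2, nat_lit 0, nat_lit 2, nat_lit 2, nat_lit 0, nat_lit 1, nat_lit 0])) (.leaf ((nat_lit 360), [nat_lit 4, nat_lit 3, nat_lit 5, nat_lit 3, nat_lit 0, nat_lit 2, nat_lit 4, nat_lit 1, nat_lit 0]))))))
 (.node (nat_lit 764) (.node (nat_lit 761) (.node (nat_lit 760) (.leaf ((nat_lit 669), [nat_lit 4, nat_lit 1, nat_lit 5, nat_lit 3, nat_lit 5, nat_lit 3, nat_lit 1, nat_lit 4, nat_lit 3, nat_lit 2, nat_lit 0, nat_lit 1, nat_lit 0, nat_lit 2, nat_lit 0])) (.leaf ((nat_lit 297), [nat_lit 0, nat_lit 5, nat_lit 0, nat_lit 3, nat_lit 2, nat_lit 4, nat_lit 2, nat_lit 2, nat_lit 0, nat_lit 2, nat_lit 2, nat_lit 0]))) (.node (nat_lit 762) (.leaf ((nat_lit 99), [nat_lit 4, nat_lit 5, nat_lit 2, nat_lit 0, nat_lit 5, nat_lit 4, nat_lit 1, nat_lit 0, nat_lit 4, nat_lit 2, nat_lit 0, nat_lit 1, nat_lit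 0, nat_lit 2, nat_lit 2])) (.node (nat_lit 763) (.leaf ((nat_lit 670), [nat_lit 3, nat_lit 2, nat_lit 5, nat_lit 0, nat_lit 3, nat_lit 2, nat_lit 3, nat_lit 0, nat_lit 1, nat_lit 0, nat_lit 2, nat_lit 2, nat_lit 0])) (.leaf ((nat_lit 671), [nat_lit 1, nat_lit 5, nat_lit 2, nat_lit 5, nat_lit 2, nat_lit 2, nat_lit 0, nat_lit 3, nat_lit 4])))))
 (.node (nat_lit 767) (.node (nat_lit 765) (.leaf ((nat_lit 672), [nat_lit 1, nat_lit 0, nat_lit 5, nat_lit 4, nat_lit 2, nat_lit 2, nat_lit 4, nat_lit 1, nat_lit 0, nat_lit 3, nat_lit 0, nat_lit 1, nat_lit 0, nat_lit 1])) (.node (nat_lit 766) (.leaf ((nat_lit 673), [nat_lit 3, nat_lit 2, nat_lit 5, nat_lit 3, nat_lit 4, nat_lit 0, nat_lit 4, nat_lit 1, nat_lit 3, nat_lit 0, nat_lit 1, nat_lit 0, nat_lit 2, nat_lit 2, nat_lit 0, nat_lit 2])) (.leaf ((nat_lit 674), [nat_lit 5, nat_lit 1, nat_lit 0, nat_lit 3, nat_lit 5, nat_lit 2, nat_lit 3, nat_lit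 2, nat_lit 0, nat_lit 4, nat_lit 0, nat_lit 2, nat_lit 0, nat_lit 2, nat_lit 2, nat_lit 0, nat_lit 2])))) (.node (nat_lit 768) (.leaf ((nat_lit 675), [nat_lit 1, nat_lit 5, nat_lit 0, nat_lit 5, nat_lit 0, nat_lit 2, nat_lit 4, nat_lit 3, nat_lit 1, nat_lit 0])) (.node (nat_lit 769) (.leaf ((nat_lit 676), [nat_lit 5, nat_lit 0, nat_lit 5, nat_lit 2, nat_lit 4, nat_lit 3, nat_lit 0, nat_lit 4, nat_lit 0, nat_lit 2, nat_lit 2, nat_lit 0, nat_lit 2])) (.leaf ((nat_lit 141), [nat_lit 3, nat_lit 0, nat_lit 5, nat_lit 3, nat_lit 5, nat_lit 3, nat_lit 4, nat_lit 2, nat_lit 2, nat_lit 0, nat_lit 1, nat_lit 0, nat_lit 2, nat_lit 0])))))))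
 (.node (nat_lit 781) (.node (nat_lit 775) (.node (nat_lit 772) (.node (nat_lit 771) (.leaf ((nat_lit 100), [nat_lit 1, nat_lit 5, nat_lit 3, nat_lit 4, nat_lit 0, nat_lit 3, nat_lit 1, nat_lit 3, nat_lit 0, nat_lit 2, nat_lit 0, nat_lit 2, nat_lit 0])) (.leaf ((nat_lit 677), [nat_lit 3, nat_lit 5, nat_lit 0, nat_lit 3, nat_lit 5, nat_lit 3, nat_lit 0, nat_lit 1, nat_lit 3, nat_lit 4, nat_lit 2, nat_lit 3, nat_lit 0, nat_lit 1, nat_lit 0, nat_lit 2, nat_lit 0, nat_lit 2, nat_lit 2]))) (.node (nat_lit 773) (.leaf ((nat_lit 678), [nat_lit 0, nat_lit 5, nat_lit 2, nat_lit 5, nat_lit 4, nat_lit 0, nat_lit 3, nat_lit 0, nat_lit 1, nat_lit 4, nat_lit 0, nat_lit 2, nat_lit 0, nat_lit 2, nat_lit 0])) (.node (nat_lit 774) (.leaf ((nat_lit 679), [nat_lit 0, nat_lit 2, nat_lit 5, nat_lit 4, nat_lit 2, nat_lit 0, nat_lit 3, nat_lit 0, nat_lit 4, nat_lit 2, nat_lit 2, nat_lit 0, nat_lit 2])) (.leaf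 ((nat_lit 680), [nat_lit 3, nat_lit 2, nat_lit 0, nat_lit 5, nat_lit 3, nat_lit 1, nat_lit 3, nat_lit 0, nat_lit 3, nat_lit 2, nat_lit 0, nat_lit 2])))))
 (.node (nat_lit 778) (.node (nat_lit 776) (.leaf ((nat_lit 681), [nat_lit 4, nat_lit 3, nat_lit 0, nat_lit 5, nat_lit 4, nat_lit 0, nat_lit 3, nat_lit 4, nat_lit 2, nat_lit 0, nat_lit 2, nat_lit 2])) (.node (nat_lit 777) (.leaf ((nat_lit 682), [nat_lit 5, nat_lit 2, nat_lit 3, nat_lit 0, nat_lit 5, nat_lit 0, nat_lit 4, nat_lit 0, nat_lit 1, nat_lit 0, nat_lit 3, nat_lit 0, nat_lit 2, nat_lit 2, nat_lit 0, nat_lit 2, nat_lit 0, nat_lit 1, nat_lit 0])) (.leaf ((nat_lit 72), [nat_lit 5, nat_lit 0, nat_lit 3, nat_lit 5, nat_lit 3, nat_lit 4, nat_lit 3, nat_lit 0, nat_lit 3, nat_lit 1, nat_lit 0])))) (.node (nat_lit 779) (.leaf ((nat_lit 683), [nat_lit 4, nat_lit 3, nat_lit 5, nat_lit 0, nat_lit 4, nat_lit 3, nat_lit 0, nat_lit 3, nat_lit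 2, nat_lit 2, nat_lit 0, nat_lit 1, nat_lit 0, nat_lit 2, nat_lit 2])) (.node (nat_lit 780) (.leaf ((nat_lit 684), [nat_lit 4, nat_lit 2, nat_lit 0, nat_lit 5, nat_lit 0, nat_lit 4, nat_lit 1, nat_lit 3, nat_lit 1, nat_lit 3, nat_lit 1, nat_lit 0, nat_lit 1, nat_lit 0])) (.leaf ((nat_lit 134), [nat_lit 5, nat_lit 1, nat_lit 0, nat_lit 3, nat_lit 5, nat_lit 4, nat_lit 1, nat_lit 0, nat_lit 4, nat_lit 2, nat_lit 0, nat_lit 2, nat_lit 2, nat_lit 0]))))))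
 (.node (nat_lit 786) (.node (nat_lit 783) (.node (nat_lit 782) (.leaf ((nat_lit 685), [nat_lit 4, nat_lit 3, nat_lit 5, nat_lit 4, nat_lit 3, nat_lit 1, nat_lit 0, nat_lit 2, nat_lit 3, nat_lit 2, nat_lit 2, nat_lit 0, nat_lit 2, nat_lit 2])) (.leaf ((nat_lit 686), [nat_lit 4, nat_lit 2, nat_lit 5, nat_lit 1, nat_lit 4, nat_lit 1, nat_lit 4, nat_lit 0, nat_lit 2, nat_lit 0, nat_lit 2, nat_lit 2, nat_lit 0, nat_lit 1]))) (.node (nat_lit 784) (.leaf ((nat_lit 674), [nat_lit 1, nat_lit 5, nat_lit 1, nat_lit 5, nat_lit 2, nat_lit 0, nat_lit 3, nat_lit 4, nat_lit 2, nat_lit 0, nat_lit 2, nat_lit 2, nat_lit 0, nat_lit 2])) (.node (nat_lit 785) (.leaf ((nat_lit 687), [nat_lit 4, nat_lit 5, nat_lit 3, nat_lit 5, nat_lit 1, nat_lit 3, nat_lit 4, nat_lit 3, nat_lit 0, nat_lit 3, nat_lit 0, nat_lit 2, nat_lit 0, nat_lit 1, nat_lit 0])) (.leaf ((nat_lit 5), [nat_lit 5, nat_lit 4, nat_lit 3, nat_lit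 2, nat_lit 5, nat_lit 3, nat_lit 2, nat_lit 0, nat_lit 3, nat_lit 4, nat_lit 0, nat_lit 2, nat_lit 2])))))
 (.node (nat_lit 789) (.node (nat_lit 787) (.leaf ((nat_lit 540), [nat_lit 0, nat_lit 5, nat_lit 0, nat_lit 1, nat_lit 5, nat_lit 3, nat_lit 4, nat_lit 3, nat_lit 0, nat_lit 3, nat_lit 2, nat_lit 2, nat_lit 0, nat_lit 2, nat_lit 2, nat_lit 0, nat_lit 1, nat_lit 0])) (.node (nat_lit 788) (.leaf ((nat_lit 17), [nat_lit 4, nat_lit 3, nat_lit 0, nat_lit 5, nat_lit 3, nat_lit 4, nat_lit 0, nat_lit 3, nat_lit 1, nat_lit 3, nat_lit 2, nat_lit 0, nat_lit 2, nat_lit 2, nat_lit 0, nat_lit 2, nat_lit 2, nat_lit 0])) (.leaf ((nat_lit 522), [nat_lit 5, nat_lit 2, nat_lit 4, nat_lit 0, nat_lit 5, nat_lit 2, nat_lit 3, nat_lit 0, nat_lit 3, nat_lit 1, nat_lit 0, nat_lit 2])))) (.node (nat_lit 790) (.leaf ((nat_lit 688), [nat_lit 5, nat_lit 3, nat_lit 2, nat_lit 0, nat_lit 5, nat_lit 3, nat_lit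 4, nat_lit 2, nat_lit 4, nat_lit 2, nat_lit 0, nat_lit 2, nat_lit 0, nat_lit 1, nat_lit 0, nat_lit 1, nat_lit 0])) (.node (nat_lit 791) (.leaf ((nat_lit 468), [nat_lit 0, nat_lit 5, nat_lit 2, nat_lit 0, nat_lit 5, nat_lit 0, nat_lit 2, nat_lit 0, nat_lit 2, nat_lit 4, nat_lit 1, nat_lit 0, nat_lit 1, nat_lit 0, nat_lit 2, nat_lit 0])) (.leaf ((nat_lit 117), [nat_lit 4, nat_lit 3, nat_lit 5, nat_lit 4, nat_lit 3, nat_lit 1, nat_lit 4, nat_lit 2, nat_lit 0, nat_lit 1, nat_lit 0, nat_lit 2, nat_lit 0, nat_lit 2, nat_lit 0])))))))))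
 (.node (nat_lit 836) (.node (nat_lit 814) (.node (nat_lit 803) (.node (nat_lit 797) (.node (nat_lit 794) (.node (nat_lit 793) (.leaf ((nat_lit 75), [nat_lit 3, nat_lit 5, nat_lit 1, nat_lit 3, nat_lit 2, nat_lit 5, nat_lit 4, nat_lit 0, nat_lit 4, nat_lit 2, nat_lit 0, nat_lit 3, nat_lit 0, nat_lit 2, nat_lit 2, nat_lit 0])) (.leaf ((nat_lit 294), [nat_lit 5, nat_lit 1, nat_lit 5, nat_lit 3, nat_lit 2, nat_lit 4, nat_lit 2, nat_lit 3, nat_lit 0, nat_lit 2, nat_lit 2, nat_lit 0, nat_lit 2, nat_lit 2]))) (.node (nat_lit 795) (.leaf ((nat_lit 689), [nat_lit 4, nat_lit 1, nat_lit 5, nat_lit 0, nat_lit 5, nat_lit 4, nat_lit 0, nat_lit 4, nat_lit 3, nat_lit 2, nat_lit 0, nat_lit 1, nat_lit 0, nat_lit 1, nat_lit 0, nat_lit 2])) (.node (nat_lit 796) (.leaf ((nat_lit 690), [nat_lit 4, nat_lit 2, nat_lit 5, nat_lit 0, nat_lit 3, nat_lit 2, nat_lit 3, nat_lit 0, nat_lit 2, nat_lit 2])) (.leaf ((nat_lit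 691), [nat_lit 3, nat_lit 5, nat_lit 1, nat_lit 4, nat_lit 0, nat_lit 4, nat_lit 2, nat_lit 0, nat_lit 2, nat_lit 0, nat_lit 1, nat_lit 0])))))
 (.node (nat_lit 800) (.node (nat_lit 798) (.leaf ((nat_lit 692), [nat_lit 3, nat_lit 0, nat_lit 5, nat_lit 3, nat_lit 5, nat_lit 3, nat_lit 1, nat_lit 3, nat_lit 4, nat_lit 3, nat_lit 0, nat_lit 1, nat_lit 0, nat_lit 2, nat_lit 2, nat_lit 0, nat_lit 2, nat_lit 0])) (.node (nat_lit 799) (.leaf ((nat_lit 693), [nat_lit 5, nat_lit 3, nat_lit 0, nat_lit 5, nat_lit 3, nat_lit 4, nat_lit 2, nat_lit 0, nat_lit 2, nat_lit 3, nat_lit 1, nat_lit 0, nat_lit 2, nat_lit 0])) (.leaf ((nat_lit 258), [nat_lit 0, nat_lit 5, nat_lit 2, nat_lit 3, nat_lit 5, nat_lit 2, nat_lit 3, nat_lit 4, nat_lit 2, nat_lit 4, nat_lit 1, nat_lit 0, nat_lit 2, nat_lit 2, nat_lit 0, nat_lit 2, nat_lit 2])))) (.node (nat_lit 801) (.leaf ((nat_lit 694), [nat_lit 3, nat_lit 1, nat_lit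 3, nat_lit 0, nat_lit 5, nat_lit 4, nat_lit 3, nat_lit 1, nat_lit 4, nat_lit 0, nat_lit 1, nat_lit 0, nat_lit 2, nat_lit 2, nat_lit 0, nat_lit 2, nat_lit 0])) (.node (nat_lit 802) (.leaf ((nat_lit 695), [nat_lit 2, nat_lit 5, nat_lit 0, nat_lit 1, nat_lit 5, nat_lit 4, nat_lit 3, nat_lit 0, nat_lit 4, nat_lit 0, nat_lit 2, nat_lit 2, nat_lit 0, nat_lit 1])) (.leaf ((nat_lit 696), [nat_lit 4, nat_lit 1, nat_lit 5, nat_lit 0, nat_lit 5, nat_lit 1, nat_lit 4, nat_lit 3, nat_lit 2, nat_lit 3, nat_lit 1, nat_lit 0, nat_lit 1, nat_lit 0, nat_lit 2, nat_lit 0, nat_lit 2]))))))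
 (.node (nat_lit 808) (.node (nat_lit 805) (.node (nat_lit 804) (.leaf ((nat_lit 567), [nat_lit 5, nat_lit 0, nat_lit 5, nat_lit 2, nat_lit 3, nat_lit 2, nat_lit 0, nat_lit 1, nat_lit 0, nat_lit 1, nat_lit 0, nat_lit 2])) (.leaf ((nat_lit 697), [nat_lit 1, nat_lit 0, nat_lit 3, nat_lit 5, nat_lit 3, nat_lit 2, nat_lit 4, nat_lit 2, nat_lit 3, nat_lit 4, nat_lit 2, nat_lit 2, nat_lit 0, nat_lit 2, nat_lit 2]))) (.node (nat_lit 806) (.leaf ((nat_lit 698), [nat_lit 1, nat_lit 5, nat_lit 3, nat_lit 5, nat_lit 0, nat_lit 2, nat_lit 2, nat_lit 3, nat_lit 2, nat_lit 4, nat_lit 2, nat_lit 2])) (.node (nat_lit 807) (.leaf ((nat_lit 699), [nat_lit 5, nat_lit 2, nat_lit 3, nat_lit 5, nat_lit 3, nat_lit 0, nat_lit 4, nat_lit 3, nat_lit 2, nat_lit 3, nat_lit 2, nat_lit 0, nat_lit 1, nat_lit 0, nat_lit 2, nat_lit 0])) (.leaf ((nat_lit 497), [nat_lit 4, nat_lit 0, nat_lit 5, nat_lit 2, nat_lit 5, nat_lit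 2, nat_lit 2, nat_lit 4, nat_lit 3, nat_lit 2, nat_lit 3, nat_lit 0, nat_lit 2, nat_lit 2])))))
 (.node (nat_lit 811) (.node (nat_lit 809) (.leaf ((nat_lit 700), [nat_lit 5, nat_lit 2, nat_lit 2, nat_lit 0, nat_lit 5, nat_lit 0, nat_lit 4, nat_lit 0, nat_lit 1, nat_lit 4, nat_lit 3, nat_lit 2, nat_lit 0, nat_lit 1, nat_lit 0, nat_lit 2, nat_lit 2, nat_lit 0])) (.node (nat_lit 810) (.leaf ((nat_lit 701), [nat_lit 3, nat_lit 5, nat_lit 1, nat_lit 3, nat_lit 0, nat_lit 5, nat_lit 4, nat_lit 0, nat_lit 1, nat_lit 0, nat_lit 2, nat_lit 2, nat_lit 0, nat_lit 2])) (.leaf ((nat_lit 140), [nat_lit 1, nat_lit 0, nat_lit 5, nat_lit 1, nat_lit 3, nat_lit 1, nat_lit 3, nat_lit 4, nat_lit 0, nat_lit 2, nat_lit 2, nat_lit 0, nat_lit 1, nat_lit 0])))) (.node (nat_lit 812) (.leaf ((nat_lit 702), [nat_lit 1, nat_lit 0, nat_lit 5, nat_lit 4, nat_lit 1, nat_lit 3, nat_lit 4, nat_lit 0, nat_lit 1, nat_lit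 0, nat_lit 1, nat_lit 0, nat_lit 2, nat_lit 0])) (.node (nat_lit 813) (.leaf ((nat_lit 703), [nat_lit 1, nat_lit 5, nat_lit 3, nat_lit 5, nat_lit 1, nat_lit 4, nat_lit 1, nat_lit 0, nat_lit 3, nat_lit 2, nat_lit 0, nat_lit 2, nat_lit 0, nat_lit 1, nat_lit 0])) (.leaf ((nat_lit 704), [nat_lit 4, nat_lit 2, nat_lit 0, nat_lit 5, nat_lit 3, nat_lit 2, nat_lit 0, nat_lit 3, nat_lit 4, nat_lit 0, nat_lit 2, nat_lit 0, nat_lit 2, nat_lit 2, nat_lit 0])))))))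
 (.node (nat_lit 825) (.node (nat_lit 819) (.node (nat_lit 816) (.node (nat_lit 815) (.leaf ((nat_lit 705), [nat_lit 5, nat_lit 3, nat_lit 0, nat_lit 5, nat_lit 4, nat_lit 0, nat_lit 1, nat_lit 0, nat_lit 3, nat_lit 2, nat_lit 0, nat_lit 1, nat_lit 0])) (.leaf ((nat_lit 680), [nat_lit 2, nat_lit 5, nat_lit 1, nat_lit 4, nat_lit 2, nat_lit 4, nat_lit 2, nat_lit 0, nat_lit 1, nat_lit 0, nat_lit 2, nat_lit 2]))) (.node (nat_lit 817) (.leaf ((nat_lit 706), [nat_lit 0, nat_lit 4, nat_lit 2, nat_lit 0, nat_lit 5, nat_lit 3, nat_lit 2, nat_lit 3, nat_lit 4, nat_lit 1, nat_lit 3, nat_lit 0, nat_lit 1, nat_lit 0, nat_lit 1])) (.node (nat_lit 818) (.leaf ((nat_lit 707), [nat_lit 3, nat_lit 5, nat_lit 0, nat_lit 5, nat_lit 3, nat_lit 0, nat_lit 4, nat_lit 0, nat_lit 2, nat_lit 0, nat_lit 2, nat_lit 2])) (.leaf ((nat_lit 708), [nat_lit 4, nat_lit 0, nat_lit 5, nat_lit 4, nat_lit 0, nat_lit 1, nat_lit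 4, nat_lit 3, nat_lit 2, nat_lit 2, nat_lit 0, nat_lit 2, nat_lit 2, nat_lit 0, nat_lit 1, nat_lit 0])))))
 (.node (nat_lit 822) (.node (nat_lit 820) (.leaf ((nat_lit 709), [nat_lit 5, nat_lit 1, nat_lit 5, nat_lit 2, nat_lit 2, nat_lit 4, nat_lit 0, nat_lit 4, nat_lit 3, nat_lit 2, nat_lit 2, nat_lit 0, nat_lit 2, nat_lit 2])) (.node (nat_lit 821) (.leaf ((nat_lit 710), [nat_lit 5, nat_lit 0, nat_lit 1, nat_lit 5, nat_lit 4, nat_lit 3, nat_lit 2, nat_lit 0, nat_lit 2, nat_lit 0, nat_lit 1])) (.leaf ((nat_lit 711), [nat_lit 5, nat_lit 1, nat_lit 5, nat_lit 0, nat_lit 5, nat_lit 3, nat_lit 4, nat_lit 1, nat_lit 3, nat_lit 1, nat_lit 3, nat_lit 0, nat_lit 2, nat_lit 2, nat_lit 0])))) (.node (nat_lit 823) (.leaf ((nat_lit 712), [nat_lit 5, nat_lit 2, nat_lit 0, nat_lit 2, nat_lit 5, nat_lit 2, nat_lit 4, nat_lit 0, nat_lit 3, nat_lit 2, nat_lit 3])) (.node (nat_lit 824) (.leaf ((nat_lit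 713), [nat_lit 5, nat_lit 4, nat_lit 2, nat_lit 0, nat_lit 5, nat_lit 2, nat_lit 3, nat_lit 2, nat_lit 4, nat_lit 1, nat_lit 0])) (.leaf ((nat_lit 714), [nat_lit 0, nat_lit 5, nat_lit 2, nat_lit 5, nat_lit 1, nat_lit 0, nat_lit 1, nat_lit 4, nat_lit 3, nat_lit 1, nat_lit 0, nat_lit 2, nat_lit 2, nat_lit 0, nat_lit 1]))))))
 (.node (nat_lit 830) (.node (nat_lit 827) (.node (nat_lit 826) (.leaf ((nat_lit 715), [nat_lit 4, nat_lit 1, nat_lit 5, nat_lit 2, nat_lit 5, nat_lit 2, nat_lit 0, nat_lit 3, nat_lit 1, nat_lit 4, nat_lit 1, nat_lit 0, nat_lit 2, nat_lit 2, nat_lit 0, nat_lit 1, nat_lit 0])) (.leaf ((nat_lit 528), [nat_lit 4, nat_lit 5, nat_lit 0, nat_lit 3, nat_lit 5, nat_lit 0, nat_lit 3, nat_lit 0, nat_lit 1, nat_lit 4]))) (.node (nat_lit 828) (.leaf ((nat_lit 716), [nat_lit 4, nat_lit 1, nat_lit 3, nat_lit 0, nat_lit 1, nat_lit 0, nat_lit 2, nat_lit 2, nat_lit 0, nat_lit 1, nat_lit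 0])) (.node (nat_lit 829) (.leaf ((nat_lit 717), [nat_lit 3, nat_lit 1, nat_lit 5, nat_lit 2, nat_lit 5, nat_lit 4, nat_lit 3, nat_lit 2, nat_lit 0, nat_lit 2, nat_lit 0, nat_lit 1, nat_lit 0, nat_lit 1, nat_lit 0])) (.leaf ((nat_lit 198), [nat_lit 0, nat_lit 2, nat_lit 5, nat_lit 3, nat_lit 0, nat_lit 3, nat_lit 1, nat_lit 4, nat_lit 0, nat_lit 2, nat_lit 0, nat_lit 1, nat_lit 0])))))
 (.node (nat_lit 833) (.node (nat_lit 831) (.leaf ((nat_lit 718), [nat_lit 5, nat_lit 0, nat_lit 1, nat_lit 3, nat_lit 4, nat_lit 1, nat_lit 3, nat_lit 0, nat_lit 1, nat_lit 0, nat_lit 2, nat_lit 0, nat_lit 2, nat_lit 2])) (.node (nat_lit 832) (.leaf ((nat_lit 719), [nat_lit 2, nat_lit 5, nat_lit 4, nat_lit 5, nat_lit 3, nat_lit 4, nat_lit 1, nat_lit 3, nat_lit 0, nat_lit 2, nat_lit 2, nat_lit 0, nat_lit 2, nat_lit 2])) (.leaf ((nat_lit 720), [nat_lit 2, nat_lit 5, nat_lit 2, nat_lit 3, nat_lit 5, nat_lit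 1, nat_lit 0, nat_lit 1, nat_lit 4, nat_lit 3, nat_lit 1, nat_lit 0, nat_lit 2, nat_lit 0, nat_lit 1])))) (.node (nat_lit 834) (.leaf ((nat_lit 721), [nat_lit 3, nat_lit 0, nat_lit 5, nat_lit 3, nat_lit 5, nat_lit 2, nat_lit 2, nat_lit 0, nat_lit 3, nat_lit 0, nat_lit 4, nat_lit 1])) (.node (nat_lit 835) (.leaf ((nat_lit 722), [nat_lit 2, nat_lit 2, nat_lit 5, nat_lit 2, nat_lit 4, nat_lit 1, nat_lit 0, nat_lit 2, nat_lit 3, nat_lit 1, nat_lit 0, nat_lit 2, nat_lit 0, nat_lit 1, nat_lit 0])) (.leaf ((nat_lit 723), [nat_lit 0, nat_lit 5, nat_lit 2, nat_lit 0, nat_lit 5, nat_lit 1, nat_lit 3, nat_lit 2, nat_lit 0, nat_lit 4, nat_lit 0, nat_lit 2, nat_lit 0, nat_lit 1, nat_lit 0]))))))))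
 (.node (nat_lit 858) (.node (nat_lit 847) (.node (nat_lit 841) (.node (nat_lit 838) (.node (nat_lit 837) (.leaf ((nat_lit 724), [nat_lit 1, nat_lit 3, nat_lit 1, nat_lit 0, nat_lit 4, nat_lit 0, nat_lit 2, nat_lit 0, nat_lit 1, nat_lit 0, nat_lit 1, nat_lit 0])) (.leaf ((nat_lit 725), [nat_lit 4, nat_lit 1, nat_lit 5, nat_lit 3, nat_lit 5, nat_lit 4, nat_lit 2, nat_lit 0, nat_lit 4, nat_lit 0, nat_lit 2, nat_lit 2, nat_lit 0, nat_lit 1, nat_lit 0]))) (.node (nat_lit 839) (.leaf ((nat_lit 684), [nat_lit 2, nat_lit 0, nat_lit 1, nat_lit 5, nat_lit 0, nat_lit 1, nat_lit 3, nat_lit 1, nat_lit 3, nat_lit 2, nat_lit 0])) (.node (nat_lit 840) (.leaf ((nat_lit 726), [nat_lit 3, nat_lit 5, nat_lit 0, nat_lit 3, nat_lit 5, nat_lit 4, nat_lit 2, nat_lit 3, nat_lit 2, nat_lit 3, nat_lit 2, nat_lit 0, nat_lit 2, nat_lit 0, nat_lit 1, nat_lit 0, nat_lit 1, nat_lit 0])) (.leaf ((nat_lit 580), [nat_lit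 4, nat_lit 5, nat_lit 4, nat_lit 0, nat_lit 5, nat_lit 4, nat_lit 0, nat_lit 3, nat_lit 4, nat_lit 0, nat_lit 1, nat_lit 0, nat_lit 2, nat_lit 0, nat_lit 2, nat_lit 0])))))
 (.node (nat_lit 844) (.node (nat_lit 842) (.leaf ((nat_lit 678), [nat_lit 5, nat_lit 1, nat_lit 0, nat_lit 3, nat_lit 5, nat_lit 0, nat_lit 2, nat_lit 4, nat_lit 1, nat_lit 0, nat_lit 3, nat_lit 2, nat_lit 2, nat_lit 0, nat_lit 2, nat_lit 2, nat_lit 0, nat_lit 2, nat_lit 0])) (.node (nat_lit 843) (.leaf ((nat_lit 727), [nat_lit 5, nat_lit 1, nat_lit 5, nat_lit 0, nat_lit 5, nat_lit 4, nat_lit 3, nat_lit 2, nat_lit 3, nat_lit 0, nat_lit 3, nat_lit 0, nat_lit 1, nat_lit 0, nat_lit 1, nat_lit 0, nat_lit 2])) (.leaf ((nat_lit 728), [nat_lit 5, nat_lit 4, nat_lit 5, nat_lit 2, nat_lit 5, nat_lit 1, nat_lit 4, nat_lit 1, nat_lit 3, nat_lit 1, nat_lit 3, nat_lit 0, nat_lit 2, nat_lit 0, nat_lit 2, nat_lit 2, nat_lit 0, nat_lit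 2, nat_lit 0])))) (.node (nat_lit 845) (.leaf ((nat_lit 406), [nat_lit 3, nat_lit 5, nat_lit 2, nat_lit 5, nat_lit 2, nat_lit 0, nat_lit 3, nat_lit 1, nat_lit 3, nat_lit 1])) (.node (nat_lit 846) (.leaf ((nat_lit 729), [nat_lit 2, nat_lit 3, nat_lit 5, nat_lit 2, nat_lit 4, nat_lit 2, nat_lit 4, nat_lit 1, nat_lit 0, nat_lit 1, nat_lit 0, nat_lit 2, nat_lit 0, nat_lit 2, nat_lit 0])) (.leaf ((nat_lit 730), [nat_lit 3, nat_lit 2, nat_lit 0, nat_lit 5, nat_lit 4, nat_lit 2, nat_lit 4, nat_lit 2, nat_lit 0, nat_lit 2, nat_lit 2, nat_lit 0, nat_lit 2, nat_lit 2]))))))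
 (.node (nat_lit 852) (.node (nat_lit 849) (.node (nat_lit 848) (.leaf ((nat_lit 434), [nat_lit 4, nat_lit 2, nat_lit 5, nat_lit 3, nat_lit 5, nat_lit 2, nat_lit 0, nat_lit 3, nat_lit 2, nat_lit 2, nat_lit 0, nat_lit 1, nat_lit 0, nat_lit 2, nat_lit 2, nat_lit 0])) (.leaf ((nat_lit 731), [nat_lit 4, nat_lit 1, nat_lit 0, nat_lit 5, nat_lit 1, nat_lit 3, nat_lit 4, nat_lit 0, nat_lit 2, nat_lit 4, nat_lit 2, nat_lit 2, nat_lit 0, nat_lit 2, nat_lit 2, nat_lit 0, nat_lit 2, nat_lit 0]))) (.node (nat_lit 850) (.leaf ((nat_lit 732), [nat_lit 5, nat_lit 2, nat_lit 3, nat_lit 5, nat_lit 3, nat_lit 4, nat_lit 1, nat_lit 3, nat_lit 0, nat_lit 3, nat_lit 0, nat_lit 2])) (.node (nat_lit 851) (.leaf ((nat_lit 733), [nat_lit 4, nat_lit 5, nat_lit 3, nat_lit 2, nat_lit 5, nat_lit 3, nat_lit 0, nat_lit 3, nat_lit 0, nat_lit 2, nat_lit 4, nat_lit 1, nat_lit 0, nat_lit 1, nat_lit 0])) (.leaf ((nat_lit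 70), [nat_lit 5, nat_lit 2, nat_lit 3, nat_lit 5, nat_lit 2, nat_lit 4, nat_lit 0, nat_lit 3, nat_lit 2, nat_lit 3, nat_lit 2, nat_lit 2])))))
 (.node (nat_lit 855) (.node (nat_lit 853) (.leaf ((nat_lit 734), [nat_lit 5, nat_lit 2, nat_lit 3, nat_lit 5, nat_lit 1, nat_lit 0, nat_lit 4, nat_lit 1, nat_lit 4, nat_lit 2, nat_lit 0, nat_lit 1, nat_lit 0, nat_lit 2, nat_lit 2])) (.node (nat_lit 854) (.leaf ((nat_lit 268), [nat_lit 0, nat_lit 5, nat_lit 2, nat_lit 5, nat_lit 2, nat_lit 3, nat_lit 0, nat_lit 2, nat_lit 4, nat_lit 2, nat_lit 2, nat_lit 0])) (.leaf ((nat_lit 735), [nat_lit 5, nat_lit 3, nat_lit 2, nat_lit 5, nat_lit 2, nat_lit 3, nat_lit 1, nat_lit 3, nat_lit 0, nat_lit 2, nat_lit 0, nat_lit 2, nat_lit 2, nat_lit 0, nat_lit 2])))) (.node (nat_lit 856) (.leaf ((nat_lit 714), [nat_lit 1, nat_lit 3, nat_lit 0, nat_lit 5, nat_lit 4, nat_lit 2, nat_lit 3, nat_lit 4, nat_lit 3, nat_lit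 1])) (.node (nat_lit 857) (.leaf ((nat_lit 736), [nat_lit 5, nat_lit 0, nat_lit 4, nat_lit 5, nat_lit 2, nat_lit 2, nat_lit 4, nat_lit 2, nat_lit 4, nat_lit 2, nat_lit 0, nat_lit 2, nat_lit 0, nat_lit 1])) (.leaf ((nat_lit 737), [nat_lit 2, nat_lit 4, nat_lit 5, nat_lit 2, nat_lit 0, nat_lit 5, nat_lit 4, nat_lit 3, nat_lit 2, nat_lit 2, nat_lit 3, nat_lit 0, nat_lit 2, nat_lit 0, nat_lit 2, nat_lit 2, nat_lit 0])))))))
 (.node (nat_lit 869) (.node (nat_lit 863) (.node (nat_lit 860) (.node (nat_lit 859) (.leaf ((nat_lit 738), [nat_lit 2, nat_lit 0, nat_lit 5, nat_lit 3, nat_lit 2, nat_lit 0, nat_lit 4, nat_lit 1, nat_lit 4, nat_lit 0, nat_lit 2, nat_lit 0, nat_lit 1, nat_lit 0])) (.leaf ((nat_lit 541), [nat_lit 4, nat_lit 3, nat_lit 5, nat_lit 0, nat_lit 5, nat_lit 2, nat_lit 3, nat_lit 4, nat_lit 2, nat_lit 3, nat_lit 1, nat_lit 0, nat_lit 2, nat_lit 2, nat_lit 0, nat_lit 1, nat_lit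 0]))) (.node (nat_lit 861) (.leaf ((nat_lit 739), [nat_lit 4, nat_lit 2, nat_lit 5, nat_lit 4, nat_lit 1, nat_lit 4, nat_lit 2, nat_lit 4, nat_lit 3, nat_lit 2, nat_lit 0, nat_lit 2, nat_lit 2, nat_lit 0, nat_lit 2, nat_lit 0])) (.node (nat_lit 862) (.leaf ((nat_lit 740), [nat_lit 4, nat_lit 5, nat_lit 0, nat_lit 3, nat_lit 5, nat_lit 2, nat_lit 4, nat_lit 0, nat_lit 1, nat_lit 4, nat_lit 0, nat_lit 2, nat_lit 0, nat_lit 2, nat_lit 2, nat_lit 0, nat_lit 1])) (.leaf ((nat_lit 741), [nat_lit 5, nat_lit 1, nat_lit 5, nat_lit 3, nat_lit 0, nat_lit 1, nat_lit 3, nat_lit 0, nat_lit 3, nat_lit 1, nat_lit 0, nat_lit 1, nat_lit 0, nat_lit 2])))))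
 (.node (nat_lit 866) (.node (nat_lit 864) (.leaf ((nat_lit 742), [nat_lit 3, nat_lit 4, nat_lit 5, nat_lit 2, nat_lit 5, nat_lit 4, nat_lit 3, nat_lit 2, nat_lit 0, nat_lit 2, nat_lit 3, nat_lit 1, nat_lit 0, nat_lit 2, nat_lit 0, nat_lit 2])) (.node (nat_lit 865) (.leaf ((nat_lit 743), [nat_lit 0, nat_lit 4, nat_lit 2, nat_lit 0, nat_lit 5, nat_lit 1, nat_lit 3, nat_lit 4, nat_lit 3, nat_lit 0, nat_lit 3, nat_lit 1, nat_lit 0, nat_lit 1, nat_lit 0, nat_lit 2, nat_lit 0])) (.leaf ((nat_lit 744), [nat_lit 4, nat_lit 2, nat_lit 5, nat_lit 1, nat_lit 5, nat_lit 1, nat_lit 3, nat_lit 0, nat_lit 1, nat_lit 4, nat_lit 2, nat_lit 0, nat_lit 2, nat_lit 2])))) (.node (nat_lit 867) (.leaf ((nat_lit 350), [nat_lit 4, nat_lit 5, nat_lit 3, nat_lit 2, nat_lit 5, nat_lit 2, nat_lit 4, nat_lit 3, nat_lit 2, nat_lit 2, nat_lit 3, nat_lit 1, nat_lit 0, nat_lit 1, nat_lit 0, nat_lit 2, nat_lit 0])) (.node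 (nat_lit 868) (.leaf ((nat_lit 745), [nat_lit 4, nat_lit 3, nat_lit 5, nat_lit 4, nat_lit 3, nat_lit 0, nat_lit 2, nat_lit 0, nat_lit 2, nat_lit 2, nat_lit 0, nat_lit 2])) (.leaf ((nat_lit 746), [nat_lit 2, nat_lit 4, nat_lit 2, nat_lit 0, nat_lit 5, nat_lit 4, nat_lit 1, nat_lit 0, nat_lit 1, nat_lit 0, nat_lit 3, nat_lit 0, nat_lit 1, nat_lit 0, nat_lit 2, nat_lit 2]))))))
 (.node (nat_lit 874) (.node (nat_lit 871) (.node (nat_lit 870) (.leaf ((nat_lit 747), [nat_lit 0, nat_lit 5, nat_lit 0, nat_lit 1, nat_lit 5, nat_lit 4, nat_lit 3, nat_lit 1, nat_lit 0, nat_lit 4, nat_lit 1, nat_lit 0, nat_lit 2, nat_lit 0, nat_lit 2])) (.leaf ((nat_lit 42), [nat_lit 4, nat_lit 2, nat_lit 0, nat_lit 5, nat_lit 4, nat_lit 2, nat_lit 3, nat_lit 0, nat_lit 2, nat_lit 0, nat_lit 1, nat_lit 0, nat_lit 1]))) (.node (nat_lit 872) (.leaf ((nat_lit 460), [nat_lit 2, nat_lit 4, nat_lit 0, nat_lit 5, nat_lit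 2, nat_lit 2, nat_lit 0, nat_lit 3, nat_lit 2, nat_lit 2, nat_lit 0, nat_lit 2, nat_lit 0])) (.node (nat_lit 873) (.leaf ((nat_lit 122), [nat_lit 1, nat_lit 5, nat_lit 2, nat_lit 5, nat_lit 4, nat_lit 2, nat_lit 4, nat_lit 2, nat_lit 0, nat_lit 3, nat_lit 2, nat_lit 0, nat_lit 2, nat_lit 2, nat_lit 0, nat_lit 1, nat_lit 0])) (.leaf ((nat_lit 748), [nat_lit 2, nat_lit 5, nat_lit 0, nat_lit 5, nat_lit 3, nat_lit 2, nat_lit 2, nat_lit 0, nat_lit 4, nat_lit 0, nat_lit 2, nat_lit 2, nat_lit 0, nat_lit 2, nat_lit 2])))))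
 (.node (nat_lit 877) (.node (nat_lit 875) (.leaf ((nat_lit 261), [nat_lit 4, nat_lit 1, nat_lit 5, nat_lit 2, nat_lit 5, nat_lit 2, nat_lit 4, nat_lit 3, nat_lit 0, nat_lit 3, nat_lit 1])) (.node (nat_lit 876) (.leaf ((nat_lit 444), [nat_lit 5, nat_lit 2, nat_lit 2, nat_lit 0, nat_lit 5, nat_lit 3, nat_lit 1, nat_lit 4, nat_lit 0, nat_lit 4, nat_lit 2, nat_lit 0, nat_lit 2, nat_lit 2, nat_lit 0, nat_lit 1])) (.leaf ((nat_lit 749), [nat_lit 5, nat_lit 3, nat_lit 0, nat_lit 5, nat_lit 2, nat_lit 4, nat_lit 0])))) (.node (nat_lit 878) (.leaf ((nat_lit 418), [nat_lit 4, nat_lit 5, nat_lit 2, nat_lit 0, nat_lit 5, nat_lit 0, nat_lit 1, nat_lit 0, nat_lit 4, nat_lit 2, nat_lit 0, nat_lit 1])) (.node (nat_lit 879) (.leaf ((nat_lit 750), [nat_lit 4, nat_lit 1, nat_lit 5, nat_lit 0, nat_lit 5, nat_lit 2, nat_lit 4, nat_lit 3, nat_lit 0, nat_lit 1, nat_lit 0, nat_lit 1, nat_lit 0, nat_lit 2]))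 (.leaf ((nat_lit 751), [nat_lit 4, nat_lit 0, nat_lit 5, nat_lit 2, nat_lit 5, nat_lit 1, nat_lit 3, nat_lit 2, nat_lit 4, nat_lit 3, nat_lit 0, nat_lit 2, nat_lit 2, nat_lit 0]))))))))))
noncomputable def bWd_5 : Tr (ℕ × List ℕ) := (.node (nat_lit 968) (.node (nat_lit 924) (.node (nat_lit 902) (.node (nat_lit 891) (.node (nat_lit 885) (.node (nat_lit 882) (.node (nat_lit 881) (.leaf ((nat_lit 752), [nat_lit 4, nat_lit 5, nat_lit 0, nat_lit 3, nat_lit 5, nat_lit 3, nat_lit 2, nat_lit 0, nat_lit 3, nat_lit 1, nat_lit 0, nat_lit 1, nat_lit 0, nat_lit 2, nat_lit 0])) (.leaf ((nat_lit 753), [nat_lit 4, nat_lit 2, nat_lit 0, nat_lit 5, nat_lit 2, nat_lit 3, nat_lit 0, nat_lit 2, nat_lit 4, nat_lit 3, nat_lit 0, nat_lit 2, nat_lit 2, nat_lit 0, nat_lit 1]))) (.node (nat_lit 883) (.leaf ((nat_lit 754), [nat_lit 0, nat_lit 4, nat_lit 5, nat_lit 2, nat_lit 4, nat_lit 2, nat_lit 4, nat_lit 2, nat_lit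 2, nat_lit 0, nat_lit 2, nat_lit 0, nat_lit 1])) (.node (nat_lit 884) (.leaf ((nat_lit 755), [nat_lit 5, nat_lit 4, nat_lit 5, nat_lit 1, nat_lit 0, nat_lit 2, nat_lit 3, nat_lit 2, nat_lit 2, nat_lit 0, nat_lit 2, nat_lit 2])) (.leaf ((nat_lit 756), [nat_lit 0, nat_lit 2, nat_lit 5, nat_lit 0, nat_lit 2, nat_lit 2, nat_lit 3, nat_lit 2, nat_lit 2, nat_lit 0, nat_lit 1, nat_lit 0, nat_lit 2])))))
 (.node (nat_lit 888) (.node (nat_lit 886) (.leaf ((nat_lit 757), [nat_lit 0, nat_lit 5, nat_lit 0, nat_lit 1, nat_lit 5, nat_lit 1, nat_lit 3, nat_lit 1, nat_lit 4, nat_lit 2, nat_lit 2, nat_lit 0, nat_lit 2, nat_lit 2, nat_lit 0])) (.node (nat_lit 887) (.leaf ((nat_lit 582), [nat_lit 3, nat_lit 2, nat_lit 5, nat_lit 4, nat_lit 3, nat_lit 2, nat_lit 4, nat_lit 2, nat_lit 3, nat_lit 2, nat_lit 0, nat_lit 1, nat_lit 0, nat_lit 1, nat_lit 0, nat_lit 2])) (.leaf ((nat_lit 758), [nat_lit 5, nat_lit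 4, nat_lit 3, nat_lit 2, nat_lit 5, nat_lit 2, nat_lit 3, nat_lit 2, nat_lit 2, nat_lit 3])))) (.node (nat_lit 889) (.leaf ((nat_lit 656), [nat_lit 5, nat_lit 4, nat_lit 2, nat_lit 0, nat_lit 5, nat_lit 2, nat_lit 4, nat_lit 1, nat_lit 0, nat_lit 3, nat_lit 1, nat_lit 0, nat_lit 2, nat_lit 0, nat_lit 2, nat_lit 0])) (.node (nat_lit 890) (.leaf ((nat_lit 759), [nat_lit 0, nat_lit 2, nat_lit 5, nat_lit 2, nat_lit 0, nat_lit 3, nat_lit 0, nat_lit 2, nat_lit 3, nat_lit 0, nat_lit 2, nat_lit 0, nat_lit 2, nat_lit 2, nat_lit 0])) (.leaf ((nat_lit 760), [nat_lit 3, nat_lit 5, nat_lit 2, nat_lit 5, nat_lit 2, nat_lit 2, nat_lit 3, nat_lit 2, nat_lit 2, nat_lit 3, nat_lit 0, nat_lit 1]))))))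
 (.node (nat_lit 896) (.node (nat_lit 893) (.node (nat_lit 892) (.leaf ((nat_lit 548), [nat_lit 5, nat_lit 4, nat_lit 2, nat_lit 0, nat_lit 5, nat_lit 3, nat_lit 0, nat_lit 2, nat_lit 0, nat_lit 2, nat_lit 2, nat_lit 0])) (.leaf ((nat_lit 761), [nat_lit 5, nat_lit 1, nat_lit 3, nat_lit 2, nat_lit 5, nat_lit 3, nat_lit 0, nat_lit 4, nat_lit 1, nat_lit 0, nat_lit 3, nat_lit 2, nat_lit 0, nat_lit 1]))) (.node (nat_lit 894) (.leaf ((nat_lit 762), [nat_lit 4, nat_lit 2, nat_lit 5, nat_lit 3, nat_lit 2, nat_lit 0, nat_lit 3, nat_lit 4, nat_lit 2, nat_lit 0, nat_lit 2, nat_lit 2, nat_lit 0, nat_lit 2, nat_lit 2])) (.node (nat_lit 895) (.leaf ((nat_lit 353), [nat_lit 5, nat_lit 3, nat_lit 1, nat_lit 3, nat_lit 4, nat_lit 3, nat_lit 2, nat_lit 0, nat_lit 2, nat_lit 0, nat_lit 1, nat_lit 0, nat_lit 1, nat_lit 0])) (.leaf ((nat_lit 763), [nat_lit 5, nat_lit 4, nat_lit 3, nat_lit 5, nat_lit 2, nat_lit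 5, nat_lit 3, nat_lit 0, nat_lit 2, nat_lit 4, nat_lit 2, nat_lit 0, nat_lit 2, nat_lit 2, nat_lit 0, nat_lit 2, nat_lit 0])))))
 (.node (nat_lit 899) (.node (nat_lit 897) (.leaf ((nat_lit 212), [nat_lit 5, nat_lit 3, nat_lit 2, nat_lit 0, nat_lit 4, nat_lit 1, nat_lit 4, nat_lit 0, nat_lit 1, nat_lit 0, nat_lit 2, nat_lit 2, nat_lit 0, nat_lit 1])) (.node (nat_lit 898) (.leaf ((nat_lit 270), [nat_lit 5, nat_lit 3, nat_lit 2, nat_lit 5, nat_lit 3, nat_lit 1, nat_lit 4, nat_lit 3, nat_lit 0, nat_lit 1, nat_lit 0, nat_lit 1])) (.leaf ((nat_lit 764), [nat_lit 1, nat_lit 0, nat_lit 5, nat_lit 3, nat_lit 5, nat_lit 2, nat_lit 4, nat_lit 2, nat_lit 0, nat_lit 3, nat_lit 1, nat_lit 0, nat_lit 1, nat_lit 0, nat_lit 2, nat_lit 0])))) (.node (nat_lit 900) (.leaf ((nat_lit 765), [nat_lit 5, nat_lit 1, nat_lit 3, nat_lit 0, nat_lit 5, nat_lit 4, nat_lit 2, nat_lit 4, nat_lit 2, nat_lit 0, nat_lit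 3, nat_lit 2, nat_lit 0])) (.node (nat_lit 901) (.leaf ((nat_lit 390), [nat_lit 1, nat_lit 3, nat_lit 2, nat_lit 5, nat_lit 1, nat_lit 3, nat_lit 4, nat_lit 1, nat_lit 0, nat_lit 3, nat_lit 1, nat_lit 0, nat_lit 2, nat_lit 0, nat_lit 2, nat_lit 0])) (.leaf ((nat_lit 619), [nat_lit 0, nat_lit 5, nat_lit 0, nat_lit 1, nat_lit 5, nat_lit 3, nat_lit 0, nat_lit 3, nat_lit 1, nat_lit 4, nat_lit 2, nat_lit 0, nat_lit 1, nat_lit 0, nat_lit 2, nat_lit 0, nat_lit 2])))))))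
 (.node (nat_lit 913) (.node (nat_lit 907) (.node (nat_lit 904) (.node (nat_lit 903) (.leaf ((nat_lit 766), [nat_lit 1, nat_lit 0, nat_lit 3, nat_lit 5, nat_lit 4, nat_lit 2, nat_lit 4, nat_lit 2, nat_lit 3, nat_lit 2, nat_lit 2, nat_lit 0, nat_lit 1, nat_lit 0, nat_lit 2])) (.leaf ((nat_lit 767), [nat_lit 1, nat_lit 5, nat_lit 2, nat_lit 5, nat_lit 1, nat_lit 4, nat_lit 1, nat_lit 4, nat_lit 3, nat_lit 0, nat_lit 2, nat_lit 0, nat_lit 1]))) (.node (nat_lit 905) (.leaf ((nat_lit 768), [nat_lit 3, nat_lit 5, nat_lit 3, nat_lit 0, nat_lit 5, nat_lit 1, nat_lit 3, nat_lit 4, nat_lit 1, nat_lit 3, nat_lit 0, nat_lit 1, nat_lit 0, nat_lit 2, nat_lit 2, nat_lit 0, nat_lit 1])) (.node (nat_lit 906) (.leaf ((nat_lit 11), [nat_lit 5, nat_lit 2, nat_lit 0, nat_lit 2, nat_lit 5, nat_lit 0, nat_lit 3, nat_lit 4, nat_lit 2, nat_lit 0, nat_lit 4, nat_lit 0, nat_lit 1, nat_lit 0, nat_lit 2, nat_lit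 0, nat_lit 2, nat_lit 0])) (.leaf ((nat_lit 729), [nat_lit 5, nat_lit 4, nat_lit 5, nat_lit 1, nat_lit 5, nat_lit 0, nat_lit 1, nat_lit 3, nat_lit 4, nat_lit 2, nat_lit 3, nat_lit 2, nat_lit 2, nat_lit 0, nat_lit 2])))))
 (.node (nat_lit 910) (.node (nat_lit 908) (.leaf ((nat_lit 769), [nat_lit 5, nat_lit 0, nat_lit 4, nat_lit 5, nat_lit 4, nat_lit 1, nat_lit 3, nat_lit 0, nat_lit 1, nat_lit 4, nat_lit 1, nat_lit 0, nat_lit 2, nat_lit 0])) (.node (nat_lit 909) (.leaf ((nat_lit 770), [nat_lit 5, nat_lit 3, nat_lit 2, nat_lit 0, nat_lit 5, nat_lit 4, nat_lit 3, nat_lit 2, nat_lit 0, nat_lit 2, nat_lit 3, nat_lit 0, nat_lit 1, nat_lit 0, nat_lit 2, nat_lit 2, nat_lit 0])) (.leaf ((nat_lit 771), [nat_lit 1, nat_lit 5, nat_lit 2, nat_lit 5, nat_lit 0, nat_lit 2, nat_lit 2, nat_lit 3, nat_lit 0, nat_lit 2, nat_lit 2, nat_lit 0])))) (.node (nat_lit 911) (.leaf ((nat_lit 620), [nat_lit 2, nat_lit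 2, nat_lit 5, nat_lit 1, nat_lit 5, nat_lit 1, nat_lit 0, nat_lit 3, nat_lit 1, nat_lit 4, nat_lit 1, nat_lit 0, nat_lit 1, nat_lit 0])) (.node (nat_lit 912) (.leaf ((nat_lit 772), [nat_lit 5, nat_lit 4, nat_lit 0, nat_lit 5, nat_lit 2, nat_lit 2, nat_lit 4, nat_lit 1, nat_lit 0, nat_lit 3, nat_lit 0, nat_lit 2, nat_lit 0, nat_lit 2, nat_lit 2, nat_lit 0, nat_lit 1, nat_lit 0])) (.leaf ((nat_lit 773), [nat_lit 2, nat_lit 3, nat_lit 5, nat_lit 0, nat_lit 5, nat_lit 3, nat_lit 0, nat_lit 3, nat_lit 2, nat_lit 3, nat_lit 0, nat_lit 2, nat_lit 2, nat_lit 0, nat_lit 2, nat_lit 0]))))))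
 (.node (nat_lit 918) (.node (nat_lit 915) (.node (nat_lit 914) (.leaf ((nat_lit 211), [nat_lit 5, nat_lit 2, nat_lit 3, nat_lit 5, nat_lit 2, nat_lit 3, nat_lit 2, nat_lit 4, nat_lit 3, nat_lit 2, nat_lit 2, nat_lit 0, nat_lit 2, nat_lit 2, nat_lit 0, nat_lit 1])) (.leaf ((nat_lit 774), [nat_lit 4, nat_lit 0, nat_lit 5, nat_lit 2, nat_lit 5, nat_lit 4, nat_lit 2, nat_lit 0, nat_lit 2, nat_lit 2, nat_lit 0, nat_lit 2, nat_lit 0]))) (.node (nat_lit 916) (.leaf ((nat_lit 505), [nat_lit 3, nat_lit 1, nat_lit 5, nat_lit 2, nat_lit 5, nat_lit 3, nat_lit 0, nat_lit 1, nat_lit 0, nat_lit 4, nat_lit 2, nat_lit 0, nat_lit 1, nat_lit 0, nat_lit 1, nat_lit 0, nat_lit 2, nat_lit 0])) (.node (nat_lit 917) (.leaf ((nat_lit 571), [nat_lit 0, nat_lit 2, nat_lit 4, nat_lit 0, nat_lit 5, nat_lit 0, nat_lit 2, nat_lit 3, nat_lit 2, nat_lit 0, nat_lit 1, nat_lit 0, nat_lit 1, nat_lit 0, nat_lit 2])) (.leaf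 ((nat_lit 775), [nat_lit 3, nat_lit 5, nat_lit 3, nat_lit 0, nat_lit 5, nat_lit 4, nat_lit 2, nat_lit 0, nat_lit 3, nat_lit 1, nat_lit 0, nat_lit 1])))))
 (.node (nat_lit 921) (.node (nat_lit 919) (.leaf ((nat_lit 776), [nat_lit 2, nat_lit 4, nat_lit 2, nat_lit 0, nat_lit 5, nat_lit 4, nat_lit 0, nat_lit 4, nat_lit 1, nat_lit 3, nat_lit 2])) (.node (nat_lit 920) (.leaf ((nat_lit 47), [nat_lit 5, nat_lit 1, nat_lit 3, nat_lit 0, nat_lit 5, nat_lit 1, nat_lit 4, nat_lit 3, nat_lit 1, nat_lit 0, nat_lit 4, nat_lit 1, nat_lit 0, nat_lit 1, nat_lit 0, nat_lit 2, nat_lit 0, nat_lit 2, nat_lit 0])) (.leaf ((nat_lit 777), [nat_lit 4, nat_lit 2, nat_lit 5, nat_lit 3, nat_lit 0, nat_lit 3, nat_lit 2, nat_lit 4, nat_lit 0, nat_lit 2, nat_lit 0, nat_lit 2, nat_lit 2, nat_lit 0, nat_lit 2])))) (.node (nat_lit 922) (.leaf ((nat_lit 778), [nat_lit 5, nat_lit 4, nat_lit 5, nat_lit 2, nat_lit 5, nat_lit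 2, nat_lit 2, nat_lit 3, nat_lit 4, nat_lit 0, nat_lit 1, nat_lit 0])) (.node (nat_lit 923) (.leaf ((nat_lit 779), [nat_lit 2, nat_lit 4, nat_lit 0, nat_lit 5, nat_lit 4, nat_lit 1, nat_lit 3, nat_lit 2, nat_lit 0, nat_lit 2, nat_lit 2])) (.leaf ((nat_lit 780), [nat_lit 1, nat_lit 5, nat_lit 3, nat_lit 4, nat_lit 3, nat_lit 2, nat_lit 3, nat_lit 1, nat_lit 0, nat_lit 1, nat_lit 0, nat_lit 2, nat_lit 2]))))))))
 (.node (nat_lit 946) (.node (nat_lit 935) (.node (nat_lit 929) (.node (nat_lit 926) (.node (nat_lit 925) (.leaf ((nat_lit 781), [nat_lit 4, nat_lit 5, nat_lit 0, nat_lit 3, nat_lit 5, nat_lit 3, nat_lit 1, nat_lit 3, nat_lit 0, nat_lit 4, nat_lit 1, nat_lit 0, nat_lit 2, nat_lit 0, nat_lit 2, nat_lit 0])) (.leaf ((nat_lit 782), [nat_lit 5, nat_lit 4, nat_lit 2, nat_lit 0, nat_lit 5, nat_lit 0, nat_lit 4, nat_lit 1, nat_lit 3, nat_lit 0, nat_lit 3, nat_lit 2, nat_lit 0, nat_lit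 1, nat_lit 0, nat_lit 2]))) (.node (nat_lit 927) (.leaf ((nat_lit 783), [nat_lit 4, nat_lit 2, nat_lit 5, nat_lit 1, nat_lit 5, nat_lit 4, nat_lit 2, nat_lit 3, nat_lit 4, nat_lit 3, nat_lit 2, nat_lit 0, nat_lit 2, nat_lit 0, nat_lit 1, nat_lit 0, nat_lit 1])) (.node (nat_lit 928) (.leaf ((nat_lit 784), [nat_lit 4, nat_lit 5, nat_lit 2, nat_lit 3, nat_lit 5, nat_lit 0, nat_lit 3, nat_lit 2, nat_lit 3, nat_lit 2, nat_lit 3, nat_lit 1, nat_lit 0, nat_lit 2, nat_lit 2, nat_lit 0, nat_lit 1])) (.leaf ((nat_lit 785), [nat_lit 4, nat_lit 1, nat_lit 5, nat_lit 3, nat_lit 5, nat_lit 4, nat_lit 2, nat_lit 4, nat_lit 2, nat_lit 3, nat_lit 1, nat_lit 0, nat_lit 2, nat_lit 0, nat_lit 2, nat_lit 2, nat_lit 0])))))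
 (.node (nat_lit 932) (.node (nat_lit 930) (.leaf ((nat_lit 381), [nat_lit 0, nat_lit 5, nat_lit 2, nat_lit 3, nat_lit 5, nat_lit 0, nat_lit 4, nat_lit 2, nat_lit 3, nat_lit 1, nat_lit 3, nat_lit 2, nat_lit 0, nat_lit 1, nat_lit 0, nat_lit 1, nat_lit 0, nat_lit 2])) (.node (nat_lit 931) (.leaf ((nat_lit 786), [nat_lit 4, nat_lit 5, nat_lit 3, nat_lit 0, nat_lit 5, nat_lit 1, nat_lit 4, nat_lit 3, nat_lit 2, nat_lit 0, nat_lit 2, nat_lit 2, nat_lit 0, nat_lit 1, nat_lit 0])) (.leaf ((nat_lit 787), [nat_lit 0, nat_lit 5, nat_lit 0, nat_lit 1, nat_lit 5, nat_lit 4, nat_lit 3, nat_lit 2, nat_lit 0, nat_lit 3, nat_lit 0, nat_lit 1, nat_lit 0, nat_lit 2, nat_lit 2, nat_lit 0, nat_lit 1])))) (.node (nat_lit 933) (.leaf ((nat_lit 668), [nat_lit 5, nat_lit 4, nat_lit 3, nat_lit 5, nat_lit 2, nat_lit 5, nat_lit 4, nat_lit 1, nat_lit 4, nat_lit 1, nat_lit 4, nat_lit 3, nat_lit 2, nat_lit 2, nat_lit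 0, nat_lit 1, nat_lit 0])) (.node (nat_lit 934) (.leaf ((nat_lit 788), [nat_lit 2, nat_lit 3, nat_lit 0, nat_lit 5, nat_lit 2, nat_lit 3, nat_lit 4, nat_lit 3, nat_lit 2, nat_lit 0, nat_lit 2, nat_lit 0])) (.leaf ((nat_lit 433), [nat_lit 3, nat_lit 2, nat_lit 3, nat_lit 5, nat_lit 1, nat_lit 3, nat_lit 0, nat_lit 3, nat_lit 0]))))))
 (.node (nat_lit 940) (.node (nat_lit 937) (.node (nat_lit 936) (.leaf ((nat_lit 789), [nat_lit 5, nat_lit 4, nat_lit 0, nat_lit 5, nat_lit 1, nat_lit 3, nat_lit 1, nat_lit 3, nat_lit 4, nat_lit 2, nat_lit 2, nat_lit 0, nat_lit 2, nat_lit 0])) (.leaf ((nat_lit 490), [nat_lit 4, nat_lit 1, nat_lit 5, nat_lit 3, nat_lit 5, nat_lit 4, nat_lit 1, nat_lit 4, nat_lit 1, nat_lit 0, nat_lit 1, nat_lit 0, nat_lit 2]))) (.node (nat_lit 938) (.leaf ((nat_lit 790), [nat_lit 2, nat_lit 5, nat_lit 3, nat_lit 5, nat_lit 0, nat_lit 3, nat_lit 0, nat_lit 4, nat_lit 1])) (.node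 (nat_lit 939) (.leaf ((nat_lit 791), [nat_lit 3, nat_lit 1, nat_lit 5, nat_lit 0, nat_lit 5, nat_lit 2, nat_lit 4, nat_lit 3, nat_lit 0, nat_lit 3, nat_lit 0, nat_lit 1, nat_lit 0, nat_lit 2, nat_lit 2])) (.leaf ((nat_lit 547), [nat_lit 1, nat_lit 4, nat_lit 2, nat_lit 5, nat_lit 1, nat_lit 4, nat_lit 2, nat_lit 0, nat_lit 2, nat_lit 3, nat_lit 2, nat_lit 0, nat_lit 2, nat_lit 2, nat_lit 0, nat_lit 2, nat_lit 0])))))
 (.node (nat_lit 943) (.node (nat_lit 941) (.leaf ((nat_lit 792), [nat_lit 5, nat_lit 1, nat_lit 5, nat_lit 2, nat_lit 4, nat_lit 0, nat_lit 4, nat_lit 0, nat_lit 4, nat_lit 0, nat_lit 2, nat_lit 0, nat_lit 2, nat_lit 2, nat_lit 0, nat_lit 2, nat_lit 0])) (.node (nat_lit 942) (.leaf ((nat_lit 793), [nat_lit 2, nat_lit 5, nat_lit 3, nat_lit 5, nat_lit 4, nat_lit 2, nat_lit 2, nat_lit 0, nat_lit 2, nat_lit 2, nat_lit 0, nat_lit 2])) (.leaf ((nat_lit 794), [nat_lit 3, nat_lit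 5, nat_lit 0, nat_lit 5, nat_lit 1, nat_lit 4, nat_lit 3, nat_lit 2, nat_lit 3, nat_lit 2, nat_lit 2, nat_lit 0, nat_lit 2, nat_lit 0, nat_lit 1, nat_lit 0])))) (.node (nat_lit 944) (.leaf ((nat_lit 795), [nat_lit 4, nat_lit 3, nat_lit 5, nat_lit 0, nat_lit 5, nat_lit 1, nat_lit 0, nat_lit 3, nat_lit 4, nat_lit 0, nat_lit 3, nat_lit 2, nat_lit 2, nat_lit 0, nat_lit 2, nat_lit 2, nat_lit 0])) (.node (nat_lit 945) (.leaf ((nat_lit 796), [nat_lit 1, nat_lit 5, nat_lit 3, nat_lit 5, nat_lit 0, nat_lit 1, nat_lit 3, nat_lit 4, nat_lit 1, nat_lit 3, nat_lit 0, nat_lit 2, nat_lit 0, nat_lit 1, nat_lit 0])) (.leaf ((nat_lit 761), [nat_lit 4, nat_lit 1, nat_lit 5, nat_lit 2, nat_lit 5, nat_lit 4, nat_lit 2, nat_lit 2, nat_lit 4, nat_lit 1, nat_lit 0, nat_lit 3, nat_lit 0, nat_lit 2, nat_lit 2, nat_lit 0, nat_lit 1, nat_lit 0, nat_lit 2, nat_lit 0])))))))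
 (.node (nat_lit 957) (.node (nat_lit 951) (.node (nat_lit 948) (.node (nat_lit 947) (.leaf ((nat_lit 243), [nat_lit 4, nat_lit 3, nat_lit 5, nat_lit 3, nat_lit 4, nat_lit 1, nat_lit 0, nat_lit 3, nat_lit 2, nat_lit 0, nat_lit 1, nat_lit 0, nat_lit 1])) (.leaf ((nat_lit 797), [nat_lit 2, nat_lit 0, nat_lit 2, nat_lit 5, nat_lit 1, nat_lit 0, nat_lit 3, nat_lit 2, nat_lit 2, nat_lit 0, nat_lit 2, nat_lit 0, nat_lit 1]))) (.node (nat_lit 949) (.leaf ((nat_lit 798), [nat_lit 3, nat_lit 2, nat_lit 0, nat_lit 5, nat_lit 3, nat_lit 2, nat_lit 4, nat_lit 2, nat_lit 3, nat_lit 4, nat_lit 1, nat_lit 0, nat_lit 1, nat_lit 0, nat_lit 2, nat_lit 0])) (.node (nat_lit 950) (.leaf ((nat_lit 332), [nat_lit 0, nat_lit 5, nat_lit 3, nat_lit 0, nat_lit 5, nat_lit 3, nat_lit 1, nat_lit 4, nat_lit 3, nat_lit 2, nat_lit 0, nat_lit 3, nat_lit 0, nat_lit 2, nat_lit 0, nat_lit 2])) (.leaf ((nat_lit 799), [nat_lit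 5, nat_lit 1, nat_lit 5, nat_lit 0, nat_lit 5, nat_lit 4, nat_lit 1, nat_lit 0, nat_lit 3, nat_lit 4, nat_lit 0, nat_lit 1, nat_lit 0, nat_lit 1])))))
 (.node (nat_lit 954) (.node (nat_lit 952) (.leaf ((nat_lit 800), [nat_lit 4, nat_lit 3, nat_lit 5, nat_lit 3, nat_lit 4, nat_lit 0, nat_lit 2, nat_lit 4, nat_lit 2, nat_lit 2, nat_lit 0, nat_lit 2, nat_lit 2, nat_lit 0, nat_lit 2, nat_lit 2, nat_lit 0])) (.node (nat_lit 953) (.leaf ((nat_lit 801), [nat_lit 2, nat_lit 3, nat_lit 5, nat_lit 2, nat_lit 4, nat_lit 2, nat_lit 3, nat_lit 1, nat_lit 3, nat_lit 2, nat_lit 0, nat_lit 1, nat_lit 0])) (.leaf ((nat_lit 802), [nat_lit 4, nat_lit 1, nat_lit 5, nat_lit 3, nat_lit 5, nat_lit 4, nat_lit 2, nat_lit 0, nat_lit 3, nat_lit 2, nat_lit 0, nat_lit 2, nat_lit 0, nat_lit 1, nat_lit 0, nat_lit 1])))) (.node (nat_lit 955) (.leaf ((nat_lit 803), [nat_lit 2, nat_lit 2, nat_lit 5, nat_lit 3, nat_lit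 1, nat_lit 3, nat_lit 0, nat_lit 2, nat_lit 4, nat_lit 2, nat_lit 2, nat_lit 0, nat_lit 1, nat_lit 0, nat_lit 2, nat_lit 0])) (.node (nat_lit 956) (.leaf ((nat_lit 804), [nat_lit 2, nat_lit 4, nat_lit 0, nat_lit 5, nat_lit 3, nat_lit 2, nat_lit 2, nat_lit 0, nat_lit 4, nat_lit 2, nat_lit 0, nat_lit 1, nat_lit 0, nat_lit 2, nat_lit 2])) (.leaf ((nat_lit 805), [nat_lit 5, nat_lit 2, nat_lit 3, nat_lit 5, nat_lit 0, nat_lit 1, nat_lit 3, nat_lit 1, nat_lit 3, nat_lit 1, nat_lit 0, nat_lit 1, nat_lit 0, nat_lit 2, nat_lit 0]))))))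
 (.node (nat_lit 962) (.node (nat_lit 959) (.node (nat_lit 958) (.leaf ((nat_lit 806), [nat_lit 2, nat_lit 3, nat_lit 5, nat_lit 1, nat_lit 0, nat_lit 2, nat_lit 4, nat_lit 2, nat_lit 0, nat_lit 1, nat_lit 0, nat_lit 2, nat_lit 0, nat_lit 2])) (.leaf ((nat_lit 323), [nat_lit 2, nat_lit 4, nat_lit 5, nat_lit 2, nat_lit 0, nat_lit 5, nat_lit 2, nat_lit 3, nat_lit 2, nat_lit 2, nat_lit 0, nat_lit 2, nat_lit 2, nat_lit 0, nat_lit 2, nat_lit 2, nat_lit 0]))) (.node (nat_lit 960) (.leaf ((nat_lit 351), [nat_lit 5, nat_lit 1, nat_lit 3, nat_lit 2, nat_lit 5, nat_lit 4, nat_lit 2, nat_lit 2, nat_lit 0, nat_lit 2, nat_lit 0, nat_lit 1, nat_lit 0])) (.node (nat_lit 961) (.leaf ((nat_lit 85), [nat_lit 5, nat_lit 2, nat_lit 2, nat_lit 0, nat_lit 5, nat_lit 0, nat_lit 3, nat_lit 2, nat_lit 0, nat_lit 3, nat_lit 0, nat_lit 2, nat_lit 0, nat_lit 1])) (.leaf ((nat_lit 807), [nat_lit 5, nat_lit 2, nat_lit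 0, nat_lit 5, nat_lit 3, nat_lit 0, nat_lit 3, nat_lit 0, nat_lit 4, nat_lit 2, nat_lit 2, nat_lit 0, nat_lit 2, nat_lit 0, nat_lit 1, nat_lit 0])))))
 (.node (nat_lit 965) (.node (nat_lit 963) (.leaf ((nat_lit 808), [nat_lit 2, nat_lit 0, nat_lit 1, nat_lit 5, nat_lit 4, nat_lit 3, nat_lit 2, nat_lit 4, nat_lit 3, nat_lit 1, nat_lit 0, nat_lit 1, nat_lit 0, nat_lit 2, nat_lit 2])) (.node (nat_lit 964) (.leaf ((nat_lit 484), [nat_lit 2, nat_lit 3, nat_lit 5, nat_lit 0, nat_lit 5, nat_lit 2, nat_lit 3, nat_lit 1, nat_lit 3, nat_lit 1, nat_lit 3, nat_lit 1, nat_lit 0, nat_lit 2, nat_lit 2])) (.leaf ((nat_lit 579), [nat_lit 3, nat_lit 5, nat_lit 2, nat_lit 3, nat_lit 0, nat_lit 5, nat_lit 1, nat_lit 4, nat_lit 3, nat_lit 1, nat_lit 0, nat_lit 1])))) (.node (nat_lit 966) (.leaf ((nat_lit 809), [nat_lit 5, nat_lit 2, nat_lit 3, nat_lit 5, nat_lit 3, nat_lit 4, nat_lit 2, nat_lit 4, nat_lit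 0, nat_lit 1, nat_lit 0, nat_lit 2, nat_lit 0, nat_lit 2])) (.node (nat_lit 967) (.leaf ((nat_lit 810), [nat_lit 4, nat_lit 5, nat_lit 4, nat_lit 0, nat_lit 5, nat_lit 4, nat_lit 2, nat_lit 0, nat_lit 2, nat_lit 4, nat_lit 2, nat_lit 2, nat_lit 0, nat_lit 2, nat_lit 2, nat_lit 0, nat_lit 1])) (.leaf ((nat_lit 811), [nat_lit 4, nat_lit 3, nat_lit 5, nat_lit 0, nat_lit 5, nat_lit 0, nat_lit 4, nat_lit 1, nat_lit 3, nat_lit 0, nat_lit 3, nat_lit 0, nat_lit 1, nat_lit 0, nat_lit 2, nat_lit 0, nat_lit 2, nat_lit 2])))))))))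
 (.node (nat_lit 1012) (.node (nat_lit 990) (.node (nat_lit 979) (.node (nat_lit 973) (.node (nat_lit 970) (.node (nat_lit 969) (.leaf ((nat_lit 277), [nat_lit 3, nat_lit 1, nat_lit 3, nat_lit 0, nat_lit 5, nat_lit 0, nat_lit 2, nat_lit 4, nat_lit 2, nat_lit 4, nat_lit 2, nat_lit 0])) (.leaf ((nat_lit 812), [nat_lit 4, nat_lit 5, nat_lit 3, nat_lit 2, nat_lit 5, nat_lit 0, nat_lit 1, nat_lit 0, nat_lit 4, nat_lit 1, nat_lit 3, nat_lit 0, nat_lit 1, nat_lit 0, nat_lit 2, nat_lit 0, nat_lit 2, nat_lit 2]))) (.node (nat_lit 971) (.leaf ((nat_lit 576), [nat_lit 5, nat_lit 4, nat_lit 2, nat_lit 0, nat_lit 5, nat_lit 3, nat_lit 2, nat_lit 0, nat_lit 3, nat_lit 4, nat_lit 1, nat_lit 0, nat_lit 1, nat_lit 0, nat_lit 2, nat_lit 2])) (.node (nat_lit 972) (.leaf ((nat_lit 813), [nat_lit 1, nat_lit 4, nat_lit 5, nat_lit 1, nat_lit 5, nat_lit 4, nat_lit 1, nat_lit 4, nat_lit 1, nat_lit 3, nat_lit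 1, nat_lit 0, nat_lit 2, nat_lit 2, nat_lit 0, nat_lit 1])) (.leaf ((nat_lit 814), [nat_lit 4, nat_lit 3, nat_lit 0, nat_lit 5, nat_lit 3, nat_lit 1, nat_lit 3, nat_lit 4, nat_lit 2, nat_lit 0, nat_lit 1, nat_lit 0, nat_lit 2, nat_lit 2])))))
 (.node (nat_lit 976) (.node (nat_lit 974) (.leaf ((nat_lit 815), [nat_lit 3, nat_lit 1, nat_lit 5, nat_lit 0, nat_lit 5, nat_lit 2, nat_lit 0, nat_lit 2, nat_lit 3, nat_lit 1, nat_lit 0, nat_lit 1, nat_lit 0, nat_lit 2, nat_lit 2])) (.node (nat_lit 975) (.leaf ((nat_lit 816), [nat_lit 4, nat_lit 2, nat_lit 5, nat_lit 3, nat_lit 5, nat_lit 2, nat_lit 3, nat_lit 0, nat_lit 4, nat_lit 0, nat_lit 2, nat_lit 0, nat_lit 1, nat_lit 0, nat_lit 1])) (.leaf ((nat_lit 400), [nat_lit 5, nat_lit 4, nat_lit 1, nat_lit 0, nat_lit 5, nat_lit 2, nat_lit 3, nat_lit 1, nat_lit 3, nat_lit 0, nat_lit 3, nat_lit 1, nat_lit 0, nat_lit 2, nat_lit 0, nat_lit 2, nat_lit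 2, nat_lit 0])))) (.node (nat_lit 977) (.leaf ((nat_lit 566), [nat_lit 1, nat_lit 0, nat_lit 5, nat_lit 1, nat_lit 4, nat_lit 2, nat_lit 4, nat_lit 3, nat_lit 2, nat_lit 0, nat_lit 2, nat_lit 2, nat_lit 0, nat_lit 2, nat_lit 2, nat_lit 0])) (.node (nat_lit 978) (.leaf ((nat_lit 817), [nat_lit 5, nat_lit 4, nat_lit 5, nat_lit 1, nat_lit 5, nat_lit 3, nat_lit 4, nat_lit 3, nat_lit 2, nat_lit 4, nat_lit 2, nat_lit 0, nat_lit 2, nat_lit 2, nat_lit 0, nat_lit 2, nat_lit 2, nat_lit 0])) (.leaf ((nat_lit 818), [nat_lit 5, nat_lit 4, nat_lit 1, nat_lit 0, nat_lit 5, nat_lit 2, nat_lit 3, nat_lit 0, nat_lit 2, nat_lit 4, nat_lit 2, nat_lit 2, nat_lit 0, nat_lit 1, nat_lit 0, nat_lit 2, nat_lit 2, nat_lit 0]))))))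
 (.node (nat_lit 984) (.node (nat_lit 981) (.node (nat_lit 980) (.leaf ((nat_lit 289), [nat_lit 4, nat_lit 5, nat_lit 3, nat_lit 5, nat_lit 3, nat_lit 0, nat_lit 1, nat_lit 4, nat_lit 2, nat_lit 0, nat_lit 2, nat_lit 2, nat_lit 0, nat_lit 2])) (.leaf ((nat_lit 819), [nat_lit 4, nat_lit 5, nat_lit 3, nat_lit 0, nat_lit 5, nat_lit 0, nat_lit 2, nat_lit 4, nat_lit 1, nat_lit 0, nat_lit 3, nat_lit 1]))) (.node (nat_lit 982) (.leaf ((nat_lit 820), [nat_lit 3, nat_lit 5, nat_lit 1, nat_lit 3, nat_lit 0, nat_lit 5, nat_lit 0, nat_lit 4, nat_lit 2, nat_lit 3, nat_lit 0, nat_lit 3, nat_lit 2, nat_lit 2, nat_lit 0, nat_lit 1])) (.node (nat_lit 983) (.leaf ((nat_lit 821), [nat_lit 2, nat_lit 5, nat_lit 0, nat_lit 5, nat_lit 1, nat_lit 4, nat_lit 2, nat_lit 4, nat_lit 3, nat_lit 1, nat_lit 0, nat_lit 1, nat_lit 0, nat_lit 2, nat_lit 0])) (.leaf ((nat_lit 513), [nat_lit 4, nat_lit 0, nat_lit 5, nat_lit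 2, nat_lit 5, nat_lit 3, nat_lit 4, nat_lit 1, nat_lit 0, nat_lit 3, nat_lit 0, nat_lit 1])))))
 (.node (nat_lit 987) (.node (nat_lit 985) (.leaf ((nat_lit 822), [nat_lit 3, nat_lit 0, nat_lit 5, nat_lit 2, nat_lit 4, nat_lit 0, nat_lit 1, nat_lit 0, nat_lit 3, nat_lit 0, nat_lit 2, nat_lit 2, nat_lit 0, nat_lit 1, nat_lit 0, nat_lit 2])) (.node (nat_lit 986) (.leaf ((nat_lit 823), [nat_lit 4, nat_lit 5, nat_lit 3, nat_lit 0, nat_lit 4, nat_lit 1, nat_lit 3, nat_lit 0, nat_lit 2, nat_lit 0, nat_lit 2, nat_lit 2, nat_lit 0, nat_lit 2])) (.leaf ((nat_lit 518), [nat_lit 4, nat_lit 5, nat_lit 2, nat_lit 3, nat_lit 5, nat_lit 1, nat_lit 4, nat_lit 0, nat_lit 3, nat_lit 2, nat_lit 3, nat_lit 1, nat_lit 0, nat_lit 2, nat_lit 2, nat_lit 0, nat_lit 2])))) (.node (nat_lit 988) (.leaf ((nat_lit 80), [nat_lit 5, nat_lit 4, nat_lit 3, nat_lit 5, nat_lit 2, nat_lit 5, nat_lit 1, nat_lit 4, nat_lit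 2, nat_lit 4, nat_lit 3, nat_lit 1, nat_lit 0, nat_lit 1, nat_lit 0, nat_lit 2, nat_lit 0])) (.node (nat_lit 989) (.leaf ((nat_lit 824), [nat_lit 4, nat_lit 5, nat_lit 3, nat_lit 5, nat_lit 0, nat_lit 3, nat_lit 2, nat_lit 3, nat_lit 1, nat_lit 0, nat_lit 2, nat_lit 2, nat_lit 0, nat_lit 2])) (.leaf ((nat_lit 7), [nat_lit 0, nat_lit 5, nat_lit 3, nat_lit 5, nat_lit 3, nat_lit 2, nat_lit 0, nat_lit 1, nat_lit 0, nat_lit 3, nat_lit 0, nat_lit 2, nat_lit 0, nat_lit 2, nat_lit 2, nat_lit 0, nat_lit 2])))))))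
 (.node (nat_lit 1001) (.node (nat_lit 995) (.node (nat_lit 992) (.node (nat_lit 991) (.leaf ((nat_lit 226), [nat_lit 5, nat_lit 0, nat_lit 3, nat_lit 5, nat_lit 3, nat_lit 4, nat_lit 0, nat_lit 3, nat_lit 4, nat_lit 0])) (.leaf ((nat_lit 825), [nat_lit 5, nat_lit 3, nat_lit 5, nat_lit 0, nat_lit 4, nat_lit 1, nat_lit 3, nat_lit 0, nat_lit 2, nat_lit 0, nat_lit 2, nat_lit 0]))) (.node (nat_lit 993) (.leaf ((nat_lit 826), [nat_lit 1, nat_lit 5, nat_lit 0, nat_lit 5, nat_lit 1, nat_lit 4, nat_lit 0, nat_lit 4, nat_lit 3, nat_lit 0, nat_lit 2, nat_lit 0])) (.node (nat_lit 994) (.leaf ((nat_lit 827), [nat_lit 2, nat_lit 3, nat_lit 0, nat_lit 2, nat_lit 4, nat_lit 3, nat_lit 1, nat_lit 0, nat_lit 1, nat_lit 0, nat_lit 2, nat_lit 0])) (.leaf ((nat_lit 828), [nat_lit 3, nat_lit 5, nat_lit 1, nat_lit 3, nat_lit 0, nat_lit 5, nat_lit 4, nat_lit 0, nat_lit 3, nat_lit 4, nat_lit 0, nat_lit 2, nat_lit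 2, nat_lit 0, nat_lit 2, nat_lit 2, nat_lit 0])))))
 (.node (nat_lit 998) (.node (nat_lit 996) (.leaf ((nat_lit 829), [nat_lit 4, nat_lit 0, nat_lit 5, nat_lit 4, nat_lit 2, nat_lit 3, nat_lit 2, nat_lit 3, nat_lit 1, nat_lit 0, nat_lit 2, nat_lit 0, nat_lit 2, nat_lit 2])) (.node (nat_lit 997) (.leaf ((nat_lit 830), [nat_lit 4, nat_lit 5, nat_lit 3, nat_lit 0, nat_lit 5, nat_lit 3, nat_lit 4, nat_lit 0, nat_lit 3, nat_lit 1, nat_lit 3, nat_lit 1, nat_lit 0, nat_lit 2, nat_lit 2, nat_lit 0, nat_lit 2, nat_lit 0])) (.leaf ((nat_lit 831), [nat_lit 5, nat_lit 4, nat_lit 5, nat_lit 1, nat_lit 5, nat_lit 2, nat_lit 4, nat_lit 2, nat_lit 3, nat_lit 4, nat_lit 2, nat_lit 2, nat_lit 0, nat_lit 2, nat_lit 0, nat_lit 1])))) (.node (nat_lit 999) (.leaf ((nat_lit 832), [nat_lit 2, nat_lit 3, nat_lit 5, nat_lit 0, nat_lit 5, nat_lit 2, nat_lit 0, nat_lit 1, nat_lit 0, nat_lit 3, nat_lit 0, nat_lit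 1, nat_lit 0, nat_lit 2, nat_lit 2, nat_lit 0, nat_lit 1, nat_lit 0])) (.node (nat_lit 1000) (.leaf ((nat_lit 349), [nat_lit 5, nat_lit 3, nat_lit 2, nat_lit 0, nat_lit 5, nat_lit 1, nat_lit 3, nat_lit 1, nat_lit 3, nat_lit 2, nat_lit 2, nat_lit 0, nat_lit 1, nat_lit 0, nat_lit 2, nat_lit 0])) (.leaf ((nat_lit 833), [nat_lit 1, nat_lit 0, nat_lit 5, nat_lit 0, nat_lit 3, nat_lit 1, nat_lit 3, nat_lit 4, nat_lit 3, nat_lit 1, nat_lit 0, nat_lit 1, nat_lit 0, nat_lit 2, nat_lit 0, nat_lit 2, nat_lit 0]))))))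
 (.node (nat_lit 1006) (.node (nat_lit 1003) (.node (nat_lit 1002) (.leaf ((nat_lit 834), [nat_lit 1, nat_lit 4, nat_lit 5, nat_lit 1, nat_lit 5, nat_lit 1, nat_lit 3, nat_lit 1, nat_lit 4, nat_lit 1, nat_lit 0, nat_lit 2, nat_lit 2, nat_lit 0, nat_lit 2, nat_lit 0])) (.leaf ((nat_lit 835), [nat_lit 4, nat_lit 5, nat_lit 0, nat_lit 3, nat_lit 5, nat_lit 4, nat_lit 2, nat_lit 2, nat_lit 4, nat_lit 1, nat_lit 0, nat_lit 3, nat_lit 1, nat_lit 0, nat_lit 1, nat_lit 0, nat_lit 2, nat_lit 0, nat_lit 2]))) (.node (nat_lit 1004) (.leaf ((nat_lit 836), [nat_lit 5, nat_lit 2, nat_lit 5, nat_lit 1, nat_lit 4, nat_lit 2, nat_lit 3, nat_lit 1, nat_lit 3, nat_lit 1, nat_lit 0, nat_lit 1, nat_lit 0, nat_lit 2, nat_lit 0, nat_lit 2])) (.node (nat_lit 1005) (.leaf ((nat_lit 329), [nat_lit 2, nat_lit 2, nat_lit 0, nat_lit 5, nat_lit 2, nat_lit 3, nat_lit 4, nat_lit 3, nat_lit 2, nat_lit 3, nat_lit 0, nat_lit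 2, nat_lit 0, nat_lit 2, nat_lit 2])) (.leaf ((nat_lit 837), [nat_lit 5, nat_lit 3, nat_lit 5, nat_lit 2, nat_lit 3, nat_lit 2, nat_lit 3, nat_lit 2, nat_lit 2, nat_lit 0, nat_lit 2, nat_lit 2])))))
 (.node (nat_lit 1009) (.node (nat_lit 1007) (.leaf ((nat_lit 704), [nat_lit 1, nat_lit 0, nat_lit 5, nat_lit 3, nat_lit 5, nat_lit 1, nat_lit 3, nat_lit 0, nat_lit 1, nat_lit 4, nat_lit 1, nat_lit 0, nat_lit 1, nat_lit 0, nat_lit 2, nat_lit 0, nat_lit 2, nat_lit 0])) (.node (nat_lit 1008) (.leaf ((nat_lit 838), [nat_lit 1, nat_lit 5, nat_lit 0, nat_lit 5, nat_lit 4, nat_lit 1, nat_lit 4, nat_lit 1, nat_lit 4, nat_lit 3, nat_lit 0, nat_lit 2, nat_lit 0])) (.leaf ((nat_lit 839), [nat_lit 3, nat_lit 2, nat_lit 0, nat_lit 5, nat_lit 4, nat_lit 3, nat_lit 2, nat_lit 0, nat_lit 3, nat_lit 0, nat_lit 2, nat_lit 2, nat_lit 0, nat_lit 1, nat_lit 0])))) (.node (nat_lit 1010) (.leaf ((nat_lit 25), [nat_lit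 1, nat_lit 4, nat_lit 2, nat_lit 5, nat_lit 4, nat_lit 3, nat_lit 1, nat_lit 3, nat_lit 1, nat_lit 3, nat_lit 2, nat_lit 0, nat_lit 2, nat_lit 2])) (.node (nat_lit 1011) (.leaf ((nat_lit 840), [nat_lit 1, nat_lit 5, nat_lit 0, nat_lit 5, nat_lit 2, nat_lit 0, nat_lit 1, nat_lit 0, nat_lit 3, nat_lit 0, nat_lit 1, nat_lit 0, nat_lit 2, nat_lit 0, nat_lit 2, nat_lit 0])) (.leaf ((nat_lit 235), [nat_lit 5, nat_lit 4, nat_lit 1, nat_lit 0, nat_lit 5, nat_lit 0, nat_lit 4, nat_lit 2, nat_lit 3, nat_lit 4, nat_lit 2, nat_lit 0, nat_lit 1, nat_lit 0, nat_lit 1]))))))))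
 (.node (nat_lit 1034) (.node (nat_lit 1023) (.node (nat_lit 1017) (.node (nat_lit 1014) (.node (nat_lit 1013) (.leaf ((nat_lit 481), [nat_lit 5, nat_lit 2, nat_lit 0, nat_lit 2, nat_lit 5, nat_lit 1, nat_lit 0, nat_lit 2, nat_lit 0, nat_lit 2, nat_lit 4, nat_lit 2, nat_lit 0, nat_lit 1, nat_lit 0, nat_lit 1, nat_lit 0, nat_lit 2, nat_lit 0])) (.leaf ((nat_lit 574), [nat_lit 4, nat_lit 5, nat_lit 2, nat_lit 0, nat_lit 5, nat_lit 3, nat_lit 2, nat_lit 0, nat_lit 2, nat_lit 4, nat_lit 3, nat_lit 2, nat_lit 2, nat_lit 0, nat_lit 2, nat_lit 0, nat_lit 1, nat_lit 0]))) (.node (nat_lit 1015) (.leaf ((nat_lit 841), [nat_lit 5, nat_lit 1, nat_lit 0, nat_lit 3, nat_lit 5, nat_lit 3, nat_lit 0, nat_lit 1, nat_lit 0, nat_lit 4, nat_lit 1, nat_lit 0, nat_lit 1])) (.node (nat_lit 1016) (.leaf ((nat_lit 842), [nat_lit 5, nat_lit 3, nat_lit 2, nat_lit 5, nat_lit 3, nat_lit 2, nat_lit 3, nat_lit 2, nat_lit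 0, nat_lit 4, nat_lit 0, nat_lit 2, nat_lit 0, nat_lit 2, nat_lit 2, nat_lit 0, nat_lit 2])) (.leaf ((nat_lit 843), [nat_lit 4, nat_lit 2, nat_lit 0, nat_lit 5, nat_lit 1, nat_lit 0, nat_lit 4, nat_lit 2, nat_lit 0, nat_lit 1, nat_lit 0, nat_lit 2, nat_lit 2])))))
 (.node (nat_lit 1020) (.node (nat_lit 1018) (.leaf ((nat_lit 844), [nat_lit 1, nat_lit 3, nat_lit 0, nat_lit 5, nat_lit 1, nat_lit 4, nat_lit 0, nat_lit 1, nat_lit 0, nat_lit 3, nat_lit 0, nat_lit 1, nat_lit 0, nat_lit 1])) (.node (nat_lit 1019) (.leaf ((nat_lit 845), [nat_lit 5, nat_lit 1, nat_lit 3, nat_lit 0, nat_lit 5, nat_lit 4, nat_lit 0, nat_lit 3, nat_lit 1, nat_lit 3, nat_lit 0, nat_lit 2, nat_lit 0, nat_lit 1])) (.leaf ((nat_lit 143), [nat_lit 4, nat_lit 5, nat_lit 2, nat_lit 3, nat_lit 5, nat_lit 0, nat_lit 1, nat_lit 4, nat_lit 3, nat_lit 2, nat_lit 2, nat_lit 0, nat_lit 2, nat_lit 2, nat_lit 0, nat_lit 1])))) (.node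 (nat_lit 1021) (.leaf ((nat_lit 846), [nat_lit 3, nat_lit 1, nat_lit 3, nat_lit 0, nat_lit 5, nat_lit 1, nat_lit 4, nat_lit 3, nat_lit 2, nat_lit 2, nat_lit 0, nat_lit 2, nat_lit 2, nat_lit 0, nat_lit 2, nat_lit 2])) (.node (nat_lit 1022) (.leaf ((nat_lit 741), [nat_lit 5, nat_lit 3, nat_lit 5, nat_lit 2, nat_lit 2, nat_lit 4, nat_lit 3, nat_lit 0, nat_lit 2, nat_lit 0, nat_lit 1, nat_lit 0, nat_lit 1, nat_lit 0])) (.leaf ((nat_lit 504), [nat_lit 1, nat_lit 5, nat_lit 0, nat_lit 2, nat_lit 4, nat_lit 2, nat_lit 4, nat_lit 2, nat_lit 2, nat_lit 0, nat_lit 1]))))))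
 (.node (nat_lit 1028) (.node (nat_lit 1025) (.node (nat_lit 1024) (.leaf ((nat_lit 105), [nat_lit 4, nat_lit 1, nat_lit 5, nat_lit 3, nat_lit 5, nat_lit 2, nat_lit 4, nat_lit 1, nat_lit 0, nat_lit 3, nat_lit 2, nat_lit 2, nat_lit 0, nat_lit 2, nat_lit 0, nat_lit 1])) (.leaf ((nat_lit 847), [nat_lit 1, nat_lit 0, nat_lit 3, nat_lit 5, nat_lit 0, nat_lit 3, nat_lit 2, nat_lit 0, nat_lit 3, nat_lit 2, nat_lit 2, nat_lit 0, nat_lit 2]))) (.node (nat_lit 1026) (.leaf ((nat_lit 115), [nat_lit 5, nat_lit 1, nat_lit 5, nat_lit 0, nat_lit 5, nat_lit 4, nat_lit 3, nat_lit 0, nat_lit 4, nat_lit 1, nat_lit 0, nat_lit 3, nat_lit 0, nat_lit 2, nat_lit 2, nat_lit 0, nat_lit 1, nat_lit 0])) (.node (nat_lit 1027) (.leaf ((nat_lit 848), [nat_lit 5, nat_lit 3, nat_lit 0, nat_lit 5, nat_lit 2, nat_lit 0, nat_lit 3, nat_lit 2, nat_lit 0, nat_lit 2])) (.leaf ((nat_lit 849), [nat_lit 2, nat_lit 0, nat_lit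 2, nat_lit 5, nat_lit 2, nat_lit 2, nat_lit 4, nat_lit 3, nat_lit 2, nat_lit 0, nat_lit 2, nat_lit 2])))))
 (.node (nat_lit 1031) (.node (nat_lit 1029) (.leaf ((nat_lit 659), [nat_lit 1, nat_lit 5, nat_lit 2, nat_lit 5, nat_lit 1, nat_lit 3, nat_lit 0, nat_lit 3, nat_lit 2, nat_lit 3, nat_lit 2, nat_lit 0, nat_lit 1, nat_lit 0, nat_lit 2])) (.node (nat_lit 1030) (.leaf ((nat_lit 850), [nat_lit 1, nat_lit 5, nat_lit 4, nat_lit 2, nat_lit 0, nat_lit 1, nat_lit 0, nat_lit 3, nat_lit 1, nat_lit 0, nat_lit 2, nat_lit 0, nat_lit 1, nat_lit 0])) (.leaf ((nat_lit 851), [nat_lit 3, nat_lit 4, nat_lit 5, nat_lit 2, nat_lit 5, nat_lit 3, nat_lit 4, nat_lit 2, nat_lit 0, nat_lit 4, nat_lit 2, nat_lit 0, nat_lit 1, nat_lit 0, nat_lit 2, nat_lit 0, nat_lit 2])))) (.node (nat_lit 1032) (.leaf ((nat_lit 852), [nat_lit 0, nat_lit 2, nat_lit 5, nat_lit 2, nat_lit 2, nat_lit 4, nat_lit 3, nat_lit 2, nat_lit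 3, nat_lit 1, nat_lit 0, nat_lit 2, nat_lit 0])) (.node (nat_lit 1033) (.leaf ((nat_lit 853), [nat_lit 5, nat_lit 0, nat_lit 1, nat_lit 5, nat_lit 2, nat_lit 4, nat_lit 3, nat_lit 2, nat_lit 2, nat_lit 3, nat_lit 0])) (.leaf ((nat_lit 393), [nat_lit 2, nat_lit 0, nat_lit 2, nat_lit 5, nat_lit 0, nat_lit 3, nat_lit 0, nat_lit 2, nat_lit 3, nat_lit 1, nat_lit 0, nat_lit 2, nat_lit 0, nat_lit 2, nat_lit 0])))))))
 (.node (nat_lit 1045) (.node (nat_lit 1039) (.node (nat_lit 1036) (.node (nat_lit 1035) (.leaf ((nat_lit 854), [nat_lit 3, nat_lit 2, nat_lit 3, nat_lit 5, nat_lit 1, nat_lit 0, nat_lit 1, nat_lit 0, nat_lit 3, nat_lit 0, nat_lit 2, nat_lit 2, nat_lit 0, nat_lit 2, nat_lit 0])) (.leaf ((nat_lit 855), [nat_lit 2, nat_lit 4, nat_lit 5, nat_lit 2, nat_lit 0, nat_lit 5, nat_lit 4, nat_lit 1, nat_lit 3, nat_lit 2, nat_lit 4, nat_lit 0, nat_lit 2, nat_lit 2, nat_lit 0, nat_lit 2, nat_lit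 0, nat_lit 1, nat_lit 0]))) (.node (nat_lit 1037) (.leaf ((nat_lit 634), [nat_lit 4, nat_lit 3, nat_lit 5, nat_lit 2, nat_lit 5, nat_lit 3, nat_lit 4, nat_lit 0, nat_lit 4, nat_lit 3, nat_lit 2, nat_lit 0, nat_lit 2, nat_lit 0, nat_lit 1, nat_lit 0])) (.node (nat_lit 1038) (.leaf ((nat_lit 402), [nat_lit 5, nat_lit 1, nat_lit 5, nat_lit 0, nat_lit 5, nat_lit 1, nat_lit 4, nat_lit 3, nat_lit 2, nat_lit 3, nat_lit 0, nat_lit 2, nat_lit 0, nat_lit 2, nat_lit 2, nat_lit 0, nat_lit 1, nat_lit 0])) (.leaf ((nat_lit 164), [nat_lit 1, nat_lit 0, nat_lit 3, nat_lit 5, nat_lit 0, nat_lit 4, nat_lit 1, nat_lit 3, nat_lit 0, nat_lit 3, nat_lit 0, nat_lit 2, nat_lit 0, nat_lit 2, nat_lit 0])))))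
 (.node (nat_lit 1042) (.node (nat_lit 1040) (.leaf ((nat_lit 856), [nat_lit 2, nat_lit 2, nat_lit 5, nat_lit 1, nat_lit 5, nat_lit 4, nat_lit 3, nat_lit 1, nat_lit 3, nat_lit 0, nat_lit 3, nat_lit 2, nat_lit 2, nat_lit 0, nat_lit 1, nat_lit 0, nat_lit 2, nat_lit 0])) (.node (nat_lit 1041) (.leaf ((nat_lit 413), [nat_lit 3, nat_lit 1, nat_lit 5, nat_lit 2, nat_lit 5, nat_lit 3, nat_lit 2, nat_lit 3, nat_lit 2, nat_lit 3, nat_lit 0, nat_lit 1, nat_lit 0, nat_lit 2, nat_lit 2, nat_lit 0, nat_lit 2, nat_lit 0])) (.leaf ((nat_lit 857), [nat_lit 2, nat_lit 2, nat_lit 0, nat_lit 5, nat_lit 0, nat_lit 2, nat_lit 3, nat_lit 1, nat_lit 0, nat_lit 1, nat_lit 0, nat_lit 2, nat_lit 2])))) (.node (nat_lit 1043) (.leaf ((nat_lit 858), [nat_lit 5, nat_lit 3, nat_lit 2, nat_lit 5, nat_lit 2, nat_lit 4, nat_lit 2, nat_lit 3, nat_lit 1, nat_lit 3, nat_lit 0, nat_lit 2, nat_lit 0, nat_lit 2, nat_lit 2,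 nat_lit 0, nat_lit 2, nat_lit 0])) (.node (nat_lit 1044) (.leaf ((nat_lit 859), [nat_lit 3, nat_lit 1, nat_lit 5, nat_lit 0, nat_lit 5, nat_lit 4, nat_lit 1, nat_lit 3, nat_lit 4, nat_lit 0, nat_lit 2, nat_lit 0, nat_lit 1])) (.leaf ((nat_lit 788), [nat_lit 4, nat_lit 1, nat_lit 5, nat_lit 3, nat_lit 5, nat_lit 1, nat_lit 0, nat_lit 1, nat_lit 0, nat_lit 3, nat_lit 2, nat_lit 0, nat_lit 2, nat_lit 2, nat_lit 0, nat_lit 2, nat_lit 0]))))))
 (.node (nat_lit 1050) (.node (nat_lit 1047) (.node (nat_lit 1046) (.leaf ((nat_lit 493), [nat_lit 0, nat_lit 5, nat_lit 2, nat_lit 3, nat_lit 5, nat_lit 4, nat_lit 3, nat_lit 0, nat_lit 3, nat_lit 0, nat_lit 2, nat_lit 2, nat_lit 0, nat_lit 2, nat_lit 0, nat_lit 1])) (.leaf ((nat_lit 613), [nat_lit 5, nat_lit 1, nat_lit 3, nat_lit 0, nat_lit 5, nat_lit 0, nat_lit 3, nat_lit 0, nat_lit 1, nat_lit 4, nat_lit 1, nat_lit 0, nat_lit 1, nat_lit 0]))) (.node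 (nat_lit 1048) (.leaf ((nat_lit 860), [nat_lit 2, nat_lit 2, nat_lit 5, nat_lit 4, nat_lit 3, nat_lit 2, nat_lit 3, nat_lit 2, nat_lit 3, nat_lit 1, nat_lit 0, nat_lit 2, nat_lit 0, nat_lit 1])) (.node (nat_lit 1049) (.leaf ((nat_lit 46), [nat_lit 3, nat_lit 2, nat_lit 3, nat_lit 5, nat_lit 0, nat_lit 4, nat_lit 0, nat_lit 4, nat_lit 1, nat_lit 3, nat_lit 2, nat_lit 0, nat_lit 2, nat_lit 2])) (.leaf ((nat_lit 657), [nat_lit 3, nat_lit 1, nat_lit 3, nat_lit 0, nat_lit 2, nat_lit 4, nat_lit 0, nat_lit 1, nat_lit 0, nat_lit 2, nat_lit 0, nat_lit 2, nat_lit 0])))))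
 (.node (nat_lit 1053) (.node (nat_lit 1051) (.leaf ((nat_lit 861), [nat_lit 4, nat_lit 3, nat_lit 5, nat_lit 0, nat_lit 5, nat_lit 4, nat_lit 2, nat_lit 0, nat_lit 4, nat_lit 3, nat_lit 2, nat_lit 2, nat_lit 0, nat_lit 2, nat_lit 2, nat_lit 0, nat_lit 2, nat_lit 0])) (.node (nat_lit 1052) (.leaf ((nat_lit 862), [nat_lit 2, nat_lit 5, nat_lit 2, nat_lit 0, nat_lit 4, nat_lit 1, nat_lit 0, nat_lit 2, nat_lit 2, nat_lit 0, nat_lit 1])) (.leaf ((nat_lit 863), [nat_lit 4, nat_lit 5, nat_lit 1, nat_lit 5, nat_lit 2, nat_lit 3, nat_lit 2, nat_lit 4, nat_lit 2, nat_lit 0, nat_lit 2])))) (.node (nat_lit 1054) (.leaf ((nat_lit 832), [nat_lit 5, nat_lit 3, nat_lit 5, nat_lit 0, nat_lit 4, nat_lit 3, nat_lit 2, nat_lit 3, nat_lit 2, nat_lit 0, nat_lit 1, nat_lit 0])) (.node (nat_lit 1055) (.leaf ((nat_lit 864), [nat_lit 1, nat_lit 5, nat_lit 0, nat_lit 3, nat_lit 2, nat_lit 3, nat_lit 0, nat_lit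 1, nat_lit 0, nat_lit 2, nat_lit 2, nat_lit 0, nat_lit 1])) (.leaf ((nat_lit 865), [nat_lit 4, nat_lit 5, nat_lit 2, nat_lit 3, nat_lit 5, nat_lit 2, nat_lit 4, nat_lit 0, nat_lit 3, nat_lit 4, nat_lit 1, nat_lit 0, nat_lit 2]))))))))))
noncomputable def bWd_6 : Tr (ℕ × List ℕ) := (.node (nat_lit 1144) (.node (nat_lit 1100) (.node (nat_lit 1078) (.node (nat_lit 1067) (.node (nat_lit 1061) (.node (nat_lit 1058) (.node (nat_lit 1057) (.leaf ((nat_lit 762), [nat_lit 4, nat_lit 2, nat_lit 5, nat_lit 3, nat_lit 5, nat_lit 2, nat_lit 3, nat_lit 4, nat_lit 1, nat_lit 3, nat_lit 2, nat_lit 0, nat_lit 1, nat_lit 0, nat_lit 2, nat_lit 0, nat_lit 2])) (.leaf ((nat_lit 178), [nat_lit 5, nat_lit 0, nat_lit 4, nat_lit 5, nat_lit 0, nat_lit 4, nat_lit 2, nat_lit 3, nat_lit 4, nat_lit 1, nat_lit 0, nat_lit 1, nat_lit 0, nat_lit 2, nat_lit 0, nat_lit 2]))) (.node (nat_lit 1059) (.leaf ((nat_lit 747),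 [nat_lit 2, nat_lit 5, nat_lit 3, nat_lit 5, nat_lit 3, nat_lit 0, nat_lit 3, nat_lit 2, nat_lit 0, nat_lit 3, nat_lit 1, nat_lit 0, nat_lit 1])) (.node (nat_lit 1060) (.leaf ((nat_lit 482), [nat_lit 3, nat_lit 5, nat_lit 2, nat_lit 5, nat_lit 1, nat_lit 3, nat_lit 4, nat_lit 3, nat_lit 0, nat_lit 3, nat_lit 1, nat_lit 0, nat_lit 1, nat_lit 0, nat_lit 2, nat_lit 0])) (.leaf ((nat_lit 866), [nat_lit 5, nat_lit 2, nat_lit 3, nat_lit 0, nat_lit 5, nat_lit 0, nat_lit 4, nat_lit 0, nat_lit 1, nat_lit 4, nat_lit 3, nat_lit 1, nat_lit 0, nat_lit 2, nat_lit 2, nat_lit 0, nat_lit 2, nat_lit 2, nat_lit 0])))))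
 (.node (nat_lit 1064) (.node (nat_lit 1062) (.leaf ((nat_lit 867), [nat_lit 3, nat_lit 5, nat_lit 2, nat_lit 3, nat_lit 0, nat_lit 5, nat_lit 3, nat_lit 4, nat_lit 3, nat_lit 0, nat_lit 3, nat_lit 0, nat_lit 2, nat_lit 2, nat_lit 0, nat_lit 1, nat_lit 0])) (.node (nat_lit 1063) (.leaf ((nat_lit 380), [nat_lit 1, nat_lit 4, nat_lit 5, nat_lit 1, nat_lit 5, nat_lit 3, nat_lit 4, nat_lit 2, nat_lit 4, nat_lit 2, nat_lit 3, nat_lit 2, nat_lit 0, nat_lit 2, nat_lit 2, nat_lit 0, nat_lit 2, nat_lit 0])) (.leaf ((nat_lit 868), [nat_lit 1, nat_lit 4, nat_lit 2, nat_lit 5, nat_lit 0, nat_lit 3, nat_lit 4, nat_lit 1, nat_lit 0, nat_lit 1])))) (.node (nat_lit 1065) (.leaf ((nat_lit 59), [nat_lit 2, nat_lit 5, nat_lit 1, nat_lit 5, nat_lit 2, nat_lit 2, nat_lit 3, nat_lit 2, nat_lit 2, nat_lit 0, nat_lit 2, nat_lit 2, nat_lit 0, nat_lit 2, nat_lit 2, nat_lit 0])) (.node (nat_lit 1066) (.leaf ((nat_lit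 869), [nat_lit 5, nat_lit 2, nat_lit 3, nat_lit 0, nat_lit 5, nat_lit 4, nat_lit 1, nat_lit 0, nat_lit 1, nat_lit 0, nat_lit 3, nat_lit 0, nat_lit 2, nat_lit 0, nat_lit 2, nat_lit 2, nat_lit 0, nat_lit 1, nat_lit 0])) (.leaf ((nat_lit 458), [nat_lit 0, nat_lit 3, nat_lit 5, nat_lit 3, nat_lit 2, nat_lit 3, nat_lit 2, nat_lit 0]))))))
 (.node (nat_lit 1072) (.node (nat_lit 1069) (.node (nat_lit 1068) (.leaf ((nat_lit 196), [nat_lit 2, nat_lit 5, nat_lit 0, nat_lit 5, nat_lit 1, nat_lit 4, nat_lit 2, nat_lit 0, nat_lit 2, nat_lit 3, nat_lit 2, nat_lit 0, nat_lit 2, nat_lit 2, nat_lit 0, nat_lit 2, nat_lit 0])) (.leaf ((nat_lit 870), [nat_lit 5, nat_lit 2, nat_lit 0, nat_lit 2, nat_lit 5, nat_lit 2, nat_lit 2, nat_lit 3, nat_lit 2, nat_lit 2, nat_lit 3, nat_lit 0, nat_lit 2, nat_lit 2, nat_lit 0, nat_lit 2, nat_lit 2]))) (.node (nat_lit 1070) (.leaf ((nat_lit 491), [nat_lit 2, nat_lit 5,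 nat_lit 3, nat_lit 5, nat_lit 3, nat_lit 4, nat_lit 0, nat_lit 1, nat_lit 0, nat_lit 2, nat_lit 2, nat_lit 0])) (.node (nat_lit 1071) (.leaf ((nat_lit 871), [nat_lit 4, nat_lit 5, nat_lit 2, nat_lit 5, nat_lit 2, nat_lit 4, nat_lit 1, nat_lit 0, nat_lit 3, nat_lit 1, nat_lit 0, nat_lit 2, nat_lit 2, nat_lit 0, nat_lit 2, nat_lit 0])) (.leaf ((nat_lit 530), [nat_lit 3, nat_lit 5, nat_lit 0, nat_lit 3, nat_lit 5, nat_lit 1, nat_lit 3, nat_lit 0, nat_lit 3, nat_lit 2, nat_lit 3, nat_lit 0, nat_lit 2, nat_lit 0, nat_lit 2, nat_lit 2, nat_lit 0, nat_lit 1, nat_lit 0])))))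
 (.node (nat_lit 1075) (.node (nat_lit 1073) (.leaf ((nat_lit 872), [nat_lit 2, nat_lit 5, nat_lit 0, nat_lit 3, nat_lit 0, nat_lit 1, nat_lit 4, nat_lit 2, nat_lit 0, nat_lit 1, nat_lit 0])) (.node (nat_lit 1074) (.leaf ((nat_lit 873), [nat_lit 1, nat_lit 5, nat_lit 0, nat_lit 5, nat_lit 2, nat_lit 4, nat_lit 2, nat_lit 4, nat_lit 2, nat_lit 2, nat_lit 0, nat_lit 2, nat_lit 2])) (.leaf ((nat_lit 288), [nat_lit 5, nat_lit 2, nat_lit 0, nat_lit 5, nat_lit 2, nat_lit 3, nat_lit 0, nat_lit 2, nat_lit 4, nat_lit 3, nat_lit 0, nat_lit 2, nat_lit 2, nat_lit 0, nat_lit 1, nat_lit 0])))) (.node (nat_lit 1076) (.leaf ((nat_lit 874), [nat_lit 2, nat_lit 3, nat_lit 5, nat_lit 0, nat_lit 5, nat_lit 2, nat_lit 3, nat_lit 4, nat_lit 0, nat_lit 2, nat_lit 4, nat_lit 2, nat_lit 0, nat_lit 2, nat_lit 2, nat_lit 0, nat_lit 1])) (.node (nat_lit 1077) (.leaf ((nat_lit 130), [nat_lit 0, nat_lit 1, nat_lit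 5, nat_lit 4, nat_lit 0, nat_lit 3, nat_lit 0, nat_lit 1, nat_lit 4, nat_lit 1, nat_lit 0, nat_lit 1, nat_lit 0, nat_lit 2, nat_lit 0])) (.leaf ((nat_lit 43), [nat_lit 4, nat_lit 5, nat_lit 3, nat_lit 2, nat_lit 5, nat_lit 3, nat_lit 0, nat_lit 4, nat_lit 3, nat_lit 2, nat_lit 3, nat_lit 2, nat_lit 2, nat_lit 0, nat_lit 1, nat_lit 0, nat_lit 2, nat_lit 0])))))))
 (.node (nat_lit 1089) (.node (nat_lit 1083) (.node (nat_lit 1080) (.node (nat_lit 1079) (.leaf ((nat_lit 588), [nat_lit 0, nat_lit 5, nat_lit 0, nat_lit 1, nat_lit 5, nat_lit 2, nat_lit 2, nat_lit 3, nat_lit 2, nat_lit 2, nat_lit 3, nat_lit 0, nat_lit 2, nat_lit 0, nat_lit 2, nat_lit 2])) (.leaf ((nat_lit 875), [nat_lit 2, nat_lit 5, nat_lit 2, nat_lit 3, nat_lit 5, nat_lit 0, nat_lit 1, nat_lit 3, nat_lit 4, nat_lit 2, nat_lit 3, nat_lit 0, nat_lit 2]))) (.node (nat_lit 1081) (.leaf ((nat_lit 876), [nat_lit 1, nat_lit 5, nat_lit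 2, nat_lit 5, nat_lit 0, nat_lit 3, nat_lit 1, nat_lit 3, nat_lit 4, nat_lit 3, nat_lit 2, nat_lit 0, nat_lit 1, nat_lit 0, nat_lit 2, nat_lit 0, nat_lit 2])) (.node (nat_lit 1082) (.leaf ((nat_lit 877), [nat_lit 1, nat_lit 0, nat_lit 5, nat_lit 3, nat_lit 5, nat_lit 3, nat_lit 1, nat_lit 0, nat_lit 4, nat_lit 2, nat_lit 0, nat_lit 2, nat_lit 2])) (.leaf ((nat_lit 431), [nat_lit 2, nat_lit 5, nat_lit 4, nat_lit 5, nat_lit 0, nat_lit 4, nat_lit 1, nat_lit 0, nat_lit 4, nat_lit 2, nat_lit 0, nat_lit 1, nat_lit 0, nat_lit 2, nat_lit 0])))))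
 (.node (nat_lit 1086) (.node (nat_lit 1084) (.leaf ((nat_lit 878), [nat_lit 5, nat_lit 2, nat_lit 3, nat_lit 0, nat_lit 5, nat_lit 0, nat_lit 3, nat_lit 2, nat_lit 3, nat_lit 2, nat_lit 3, nat_lit 2, nat_lit 2, nat_lit 0, nat_lit 2])) (.node (nat_lit 1085) (.leaf ((nat_lit 879), [nat_lit 4, nat_lit 2, nat_lit 5, nat_lit 1, nat_lit 5, nat_lit 3, nat_lit 2, nat_lit 0, nat_lit 2, nat_lit 4, nat_lit 3, nat_lit 2, nat_lit 2, nat_lit 0, nat_lit 2, nat_lit 2, nat_lit 0, nat_lit 2, nat_lit 2])) (.leaf ((nat_lit 826), [nat_lit 5, nat_lit 1, nat_lit 5, nat_lit 0, nat_lit 3, nat_lit 2, nat_lit 3, nat_lit 0, nat_lit 2, nat_lit 2, nat_lit 0, nat_lit 1, nat_lit 0])))) (.node (nat_lit 1087) (.leaf ((nat_lit 880), [nat_lit 3, nat_lit 2, nat_lit 5, nat_lit 0, nat_lit 5, nat_lit 3, nat_lit 1, nat_lit 4, nat_lit 0, nat_lit 1, nat_lit 0, nat_lit 1, nat_lit 0])) (.node (nat_lit 1088) (.leaf ((nat_lit 881),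 [nat_lit 2, nat_lit 3, nat_lit 5, nat_lit 0, nat_lit 5, nat_lit 2, nat_lit 4, nat_lit 0, nat_lit 3, nat_lit 4, nat_lit 0, nat_lit 1, nat_lit 0, nat_lit 2, nat_lit 0])) (.leaf ((nat_lit 692), [nat_lit 5, nat_lit 4, nat_lit 1, nat_lit 0, nat_lit 5, nat_lit 2, nat_lit 4, nat_lit 2, nat_lit 3, nat_lit 2, nat_lit 3, nat_lit 2, nat_lit 0, nat_lit 2, nat_lit 2, nat_lit 0, nat_lit 1]))))))
 (.node (nat_lit 1094) (.node (nat_lit 1091) (.node (nat_lit 1090) (.leaf ((nat_lit 882), [nat_lit 2, nat_lit 5, nat_lit 0, nat_lit 1, nat_lit 5, nat_lit 1, nat_lit 0, nat_lit 3, nat_lit 4, nat_lit 0, nat_lit 1, nat_lit 0, nat_lit 2, nat_lit 0])) (.leaf ((nat_lit 883), [nat_lit 4, nat_lit 1, nat_lit 0, nat_lit 5, nat_lit 2, nat_lit 3, nat_lit 4, nat_lit 1, nat_lit 3, nat_lit 1, nat_lit 0, nat_lit 2, nat_lit 0, nat_lit 1]))) (.node (nat_lit 1092) (.leaf ((nat_lit 155), [nat_lit 2, nat_lit 0, nat_lit 5, nat_lit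 3, nat_lit 1, nat_lit 4, nat_lit 3, nat_lit 2, nat_lit 0, nat_lit 3, nat_lit 2, nat_lit 0, nat_lit 1, nat_lit 0, nat_lit 2])) (.node (nat_lit 1093) (.leaf ((nat_lit 884), [nat_lit 1, nat_lit 0, nat_lit 3, nat_lit 5, nat_lit 1, nat_lit 3, nat_lit 2, nat_lit 4, nat_lit 2, nat_lit 3, nat_lit 2, nat_lit 0, nat_lit 2, nat_lit 0, nat_lit 1, nat_lit 0, nat_lit 1])) (.leaf ((nat_lit 82), [nat_lit 2, nat_lit 5, nat_lit 4, nat_lit 5, nat_lit 0, nat_lit 3, nat_lit 2, nat_lit 0, nat_lit 3, nat_lit 1, nat_lit 0, nat_lit 2, nat_lit 0, nat_lit 2, nat_lit 0])))))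
 (.node (nat_lit 1097) (.node (nat_lit 1095) (.leaf ((nat_lit 885), [nat_lit 3, nat_lit 5, nat_lit 2, nat_lit 5, nat_lit 3, nat_lit 4, nat_lit 1, nat_lit 3, nat_lit 1, nat_lit 0, nat_lit 2, nat_lit 0, nat_lit 2])) (.node (nat_lit 1096) (.leaf ((nat_lit 358), [nat_lit 4, nat_lit 1, nat_lit 5, nat_lit 2, nat_lit 5, nat_lit 1, nat_lit 3, nat_lit 4, nat_lit 1, nat_lit 0, nat_lit 2, nat_lit 2, nat_lit 0, nat_lit 1])) (.leaf ((nat_lit 886), [nat_lit 2, nat_lit 4, nat_lit 2, nat_lit 0, nat_lit 5, nat_lit 0, nat_lit 1, nat_lit 3, nat_lit 1, nat_lit 3, nat_lit 2, nat_lit 0, nat_lit 1, nat_lit 0, nat_lit 1, nat_lit 0, nat_lit 2])))) (.node (nat_lit 1098) (.leaf ((nat_lit 887), [nat_lit 4, nat_lit 5, nat_lit 3, nat_lit 0, nat_lit 5, nat_lit 1, nat_lit 3, nat_lit 4, nat_lit 3, nat_lit 1, nat_lit 3, nat_lit 0, nat_lit 2, nat_lit 0, nat_lit 2, nat_lit 2])) (.node (nat_lit 1099) (.leaf ((nat_lit 888),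 [nat_lit 5, nat_lit 2, nat_lit 0, nat_lit 2, nat_lit 5, nat_lit 1, nat_lit 4, nat_lit 1, nat_lit 3, nat_lit 1, nat_lit 0, nat_lit 2, nat_lit 2, nat_lit 0, nat_lit 2, nat_lit 2, nat_lit 0])) (.leaf ((nat_lit 889), [nat_lit 1, nat_lit 0, nat_lit 5, nat_lit 3, nat_lit 5, nat_lit 0, nat_lit 4, nat_lit 2, nat_lit 3, nat_lit 1, nat_lit 3, nat_lit 1, nat_lit 0, nat_lit 1, nat_lit 0, nat_lit 2, nat_lit 2, nat_lit 0]))))))))
 (.node (nat_lit 1122) (.node (nat_lit 1111) (.node (nat_lit 1105) (.node (nat_lit 1102) (.node (nat_lit 1101) (.leaf ((nat_lit 162), [nat_lit 1, nat_lit 3, nat_lit 2, nat_lit 5, nat_lit 2, nat_lit 0, nat_lit 1, nat_lit 0, nat_lit 4, nat_lit 1, nat_lit 0, nat_lit 2, nat_lit 2, nat_lit 0, nat_lit 1])) (.leaf ((nat_lit 173), [nat_lit 5, nat_lit 4, nat_lit 2, nat_lit 0, nat_lit 5, nat_lit 2, nat_lit 4, nat_lit 3, nat_lit 0, nat_lit 2, nat_lit 3, nat_lit 1, nat_lit 0, nat_lit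 2, nat_lit 2]))) (.node (nat_lit 1103) (.leaf ((nat_lit 560), [nat_lit 4, nat_lit 5, nat_lit 2, nat_lit 0, nat_lit 5, nat_lit 1, nat_lit 3, nat_lit 4, nat_lit 1, nat_lit 0, nat_lit 3, nat_lit 0, nat_lit 1, nat_lit 0, nat_lit 1, nat_lit 0, nat_lit 2, nat_lit 0])) (.node (nat_lit 1104) (.leaf ((nat_lit 890), [nat_lit 5, nat_lit 4, nat_lit 3, nat_lit 0, nat_lit 5, nat_lit 2, nat_lit 2, nat_lit 3, nat_lit 0, nat_lit 2, nat_lit 2, nat_lit 0, nat_lit 1, nat_lit 0])) (.leaf ((nat_lit 585), [nat_lit 2, nat_lit 0, nat_lit 1, nat_lit 5, nat_lit 0, nat_lit 2, nat_lit 4, nat_lit 0, nat_lit 2, nat_lit 0])))))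
 (.node (nat_lit 1108) (.node (nat_lit 1106) (.leaf ((nat_lit 891), [nat_lit 1, nat_lit 5, nat_lit 1, nat_lit 5, nat_lit 4, nat_lit 1, nat_lit 3, nat_lit 4, nat_lit 2, nat_lit 3, nat_lit 2, nat_lit 0, nat_lit 1, nat_lit 0, nat_lit 1, nat_lit 0])) (.node (nat_lit 1107) (.leaf ((nat_lit 249), [nat_lit 4, nat_lit 3, nat_lit 2, nat_lit 5, nat_lit 3, nat_lit 2, nat_lit 2, nat_lit 4, nat_lit 3, nat_lit 0, nat_lit 1, nat_lit 0, nat_lit 1, nat_lit 0])) (.leaf ((nat_lit 461), [nat_lit 3, nat_lit 2, nat_lit 3, nat_lit 5, nat_lit 3, nat_lit 4, nat_lit 1, nat_lit 3, nat_lit 0, nat_lit 3, nat_lit 1, nat_lit 0, nat_lit 2, nat_lit 0, nat_lit 1, nat_lit 0])))) (.node (nat_lit 1109) (.leaf ((nat_lit 892), [nat_lit 4, nat_lit 5, nat_lit 3, nat_lit 2, nat_lit 5, nat_lit 0, nat_lit 3, nat_lit 4, nat_lit 0, nat_lit 3, nat_lit 1, nat_lit 0, nat_lit 1, nat_lit 0])) (.node (nat_lit 1110) (.leaf ((nat_lit 893),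 [nat_lit 3, nat_lit 1, nat_lit 3, nat_lit 0, nat_lit 5, nat_lit 4, nat_lit 2, nat_lit 3, nat_lit 1, nat_lit 3, nat_lit 2, nat_lit 0, nat_lit 2, nat_lit 2, nat_lit 0])) (.leaf ((nat_lit 894), [nat_lit 5, nat_lit 3, nat_lit 2, nat_lit 0, nat_lit 5, nat_lit 2, nat_lit 4, nat_lit 2, nat_lit 4, nat_lit 0, nat_lit 1, nat_lit 0, nat_lit 1]))))))
 (.node (nat_lit 1116) (.node (nat_lit 1113) (.node (nat_lit 1112) (.leaf ((nat_lit 895), [nat_lit 5, nat_lit 4, nat_lit 2, nat_lit 5, nat_lit 1, nat_lit 0, nat_lit 3, nat_lit 2, nat_lit 3, nat_lit 2, nat_lit 2, nat_lit 0, nat_lit 2, nat_lit 2, nat_lit 0, nat_lit 2])) (.leaf ((nat_lit 896), [nat_lit 5, nat_lit 4, nat_lit 2, nat_lit 0, nat_lit 5, nat_lit 4, nat_lit 3, nat_lit 0, nat_lit 4, nat_lit 1, nat_lit 0, nat_lit 3, nat_lit 2, nat_lit 2, nat_lit 0, nat_lit 2, nat_lit 2, nat_lit 0, nat_lit 1, nat_lit 0]))) (.node (nat_lit 1114) (.leaf ((nat_lit 283),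 [nat_lit 5, nat_lit 2, nat_lit 0, nat_lit 5, nat_lit 1, nat_lit 0, nat_lit 3, nat_lit 2, nat_lit 3, nat_lit 0, nat_lit 2, nat_lit 2, nat_lit 0, nat_lit 1, nat_lit 0, nat_lit 2, nat_lit 0])) (.node (nat_lit 1115) (.leaf ((nat_lit 897), [nat_lit 5, nat_lit 4, nat_lit 0, nat_lit 5, nat_lit 0, nat_lit 4, nat_lit 1, nat_lit 3, nat_lit 0, nat_lit 2, nat_lit 0, nat_lit 2, nat_lit 2, nat_lit 0, nat_lit 1, nat_lit 0])) (.leaf ((nat_lit 672), [nat_lit 1, nat_lit 5, nat_lit 2, nat_lit 5, nat_lit 4, nat_lit 0, nat_lit 1, nat_lit 4, nat_lit 2, nat_lit 2, nat_lit 0, nat_lit 2, nat_lit 0])))))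
 (.node (nat_lit 1119) (.node (nat_lit 1117) (.leaf ((nat_lit 898), [nat_lit 4, nat_lit 3, nat_lit 0, nat_lit 5, nat_lit 4, nat_lit 1, nat_lit 3, nat_lit 2, nat_lit 2, nat_lit 0, nat_lit 1, nat_lit 0, nat_lit 2, nat_lit 0])) (.node (nat_lit 1118) (.leaf ((nat_lit 899), [nat_lit 3, nat_lit 2, nat_lit 5, nat_lit 0, nat_lit 5, nat_lit 2, nat_lit 2, nat_lit 0, nat_lit 2, nat_lit 2, nat_lit 0, nat_lit 2, nat_lit 2, nat_lit 0])) (.leaf ((nat_lit 836), [nat_lit 5, nat_lit 4, nat_lit 2, nat_lit 4, nat_lit 3, nat_lit 0, nat_lit 2, nat_lit 0])))) (.node (nat_lit 1120) (.leaf ((nat_lit 597), [nat_lit 3, nat_lit 1, nat_lit 5, nat_lit 2, nat_lit 5, nat_lit 4, nat_lit 3, nat_lit 2, nat_lit 3, nat_lit 2, nat_lit 3, nat_lit 2, nat_lit 0, nat_lit 2, nat_lit 0])) (.node (nat_lit 1121) (.leaf ((nat_lit 900), [nat_lit 1, nat_lit 3, nat_lit 2, nat_lit 5, nat_lit 1, nat_lit 4, nat_lit 1, nat_lit 0, nat_lit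 3, nat_lit 2, nat_lit 2, nat_lit 0, nat_lit 2, nat_lit 2, nat_lit 0, nat_lit 2, nat_lit 2])) (.leaf ((nat_lit 846), [nat_lit 3, nat_lit 5, nat_lit 2, nat_lit 5, nat_lit 3, nat_lit 1, nat_lit 3, nat_lit 1, nat_lit 4, nat_lit 2, nat_lit 0, nat_lit 1, nat_lit 0, nat_lit 2])))))))
 (.node (nat_lit 1133) (.node (nat_lit 1127) (.node (nat_lit 1124) (.node (nat_lit 1123) (.leaf ((nat_lit 771), [nat_lit 4, nat_lit 5, nat_lit 3, nat_lit 2, nat_lit 5, nat_lit 3, nat_lit 0, nat_lit 1, nat_lit 3, nat_lit 0, nat_lit 3, nat_lit 1, nat_lit 0, nat_lit 2, nat_lit 2, nat_lit 0, nat_lit 1, nat_lit 0])) (.leaf ((nat_lit 901), [nat_lit 1, nat_lit 4, nat_lit 2, nat_lit 5, nat_lit 2, nat_lit 4, nat_lit 0, nat_lit 4, nat_lit 0, nat_lit 4, nat_lit 2, nat_lit 2, nat_lit 0, nat_lit 2, nat_lit 0]))) (.node (nat_lit 1125) (.leaf ((nat_lit 902), [nat_lit 4, nat_lit 0, nat_lit 5, nat_lit 3, nat_lit 4, nat_lit 1, nat_lit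 0, nat_lit 3, nat_lit 2, nat_lit 2, nat_lit 0])) (.node (nat_lit 1126) (.leaf ((nat_lit 903), [nat_lit 3, nat_lit 2, nat_lit 0, nat_lit 5, nat_lit 2, nat_lit 3, nat_lit 4, nat_lit 2, nat_lit 3, nat_lit 2, nat_lit 0, nat_lit 2, nat_lit 2, nat_lit 0, nat_lit 1])) (.leaf ((nat_lit 904), [nat_lit 4, nat_lit 5, nat_lit 3, nat_lit 5, nat_lit 4, nat_lit 1, nat_lit 3, nat_lit 0, nat_lit 1, nat_lit 4, nat_lit 0, nat_lit 1, nat_lit 0, nat_lit 2, nat_lit 0])))))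
 (.node (nat_lit 1130) (.node (nat_lit 1128) (.leaf ((nat_lit 905), [nat_lit 5, nat_lit 1, nat_lit 3, nat_lit 0, nat_lit 5, nat_lit 2, nat_lit 2, nat_lit 3, nat_lit 2, nat_lit 2, nat_lit 3, nat_lit 0, nat_lit 2, nat_lit 2, nat_lit 0, nat_lit 2, nat_lit 2, nat_lit 0])) (.node (nat_lit 1129) (.leaf ((nat_lit 299), [nat_lit 5, nat_lit 2, nat_lit 4, nat_lit 0, nat_lit 5, nat_lit 4, nat_lit 1, nat_lit 0, nat_lit 3, nat_lit 0, nat_lit 2, nat_lit 0, nat_lit 2])) (.leaf ((nat_lit 103), [nat_lit 2, nat_lit 4, nat_lit 2, nat_lit 0, nat_lit 5, nat_lit 0, nat_lit 3, nat_lit 4, nat_lit 2, nat_lit 0, nat_lit 4, nat_lit 0, nat_lit 2, nat_lit 0, nat_lit 1, nat_lit 0, nat_lit 1])))) (.node (nat_lit 1131) (.leaf ((nat_lit 906), [nat_lit 2, nat_lit 5, nat_lit 0, nat_lit 5, nat_lit 2, nat_lit 4, nat_lit 1, nat_lit 4, nat_lit 1, nat_lit 3, nat_lit 0, nat_lit 2, nat_lit 2])) (.node (nat_lit 1132) (.leaf ((nat_lit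 735), [nat_lit 1, nat_lit 5, nat_lit 1, nat_lit 5, nat_lit 4, nat_lit 2, nat_lit 3, nat_lit 2, nat_lit 0, nat_lit 2, nat_lit 2, nat_lit 0, nat_lit 2, nat_lit 0])) (.leaf ((nat_lit 907), [nat_lit 5, nat_lit 0, nat_lit 1, nat_lit 5, nat_lit 2, nat_lit 3, nat_lit 4, nat_lit 3, nat_lit 2, nat_lit 3, nat_lit 1]))))))
 (.node (nat_lit 1138) (.node (nat_lit 1135) (.node (nat_lit 1134) (.leaf ((nat_lit 213), [nat_lit 3, nat_lit 5, nat_lit 1, nat_lit 3, nat_lit 0, nat_lit 5, nat_lit 4, nat_lit 2, nat_lit 4, nat_lit 1, nat_lit 0, nat_lit 3, nat_lit 2, nat_lit 0, nat_lit 1, nat_lit 0, nat_lit 1, nat_lit 0, nat_lit 2])) (.leaf ((nat_lit 908), [nat_lit 5, nat_lit 1, nat_lit 0, nat_lit 2, nat_lit 5, nat_lit 3, nat_lit 1, nat_lit 4, nat_lit 3, nat_lit 2, nat_lit 0, nat_lit 1]))) (.node (nat_lit 1136) (.leaf ((nat_lit 909), [nat_lit 3, nat_lit 5, nat_lit 2, nat_lit 5, nat_lit 2, nat_lit 3, nat_lit 4,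 nat_lit 0, nat_lit 2, nat_lit 4, nat_lit 1, nat_lit 0, nat_lit 2, nat_lit 0, nat_lit 1])) (.node (nat_lit 1137) (.leaf ((nat_lit 910), [nat_lit 2, nat_lit 3, nat_lit 5, nat_lit 2, nat_lit 0, nat_lit 4, nat_lit 1, nat_lit 4, nat_lit 1, nat_lit 0, nat_lit 1, nat_lit 0, nat_lit 2, nat_lit 0, nat_lit 2])) (.leaf ((nat_lit 839), [nat_lit 3, nat_lit 5, nat_lit 0, nat_lit 3, nat_lit 5, nat_lit 0, nat_lit 3, nat_lit 0, nat_lit 2, nat_lit 4, nat_lit 0, nat_lit 1, nat_lit 0, nat_lit 2])))))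
 (.node (nat_lit 1141) (.node (nat_lit 1139) (.leaf ((nat_lit 370), [nat_lit 5, nat_lit 4, nat_lit 5, nat_lit 1, nat_lit 5, nat_lit 4, nat_lit 0, nat_lit 4, nat_lit 2, nat_lit 0, nat_lit 3, nat_lit 0, nat_lit 2, nat_lit 0, nat_lit 2, nat_lit 2, nat_lit 0, nat_lit 2])) (.node (nat_lit 1140) (.leaf ((nat_lit 911), [nat_lit 5, nat_lit 2, nat_lit 0, nat_lit 5, nat_lit 4, nat_lit 3, nat_lit 0, nat_lit 2, nat_lit 3, nat_lit 2, nat_lit 0, nat_lit 1, nat_lit 0, nat_lit 2, nat_lit 0, nat_lit 2, nat_lit 0])) (.leaf ((nat_lit 912), [nat_lit 1, nat_lit 0, nat_lit 5, nat_lit 3, nat_lit 5, nat_lit 0, nat_lit 1, nat_lit 4, nat_lit 3, nat_lit 2, nat_lit 3, nat_lit 2, nat_lit 0, nat_lit 1, nat_lit 0, nat_lit 1, nat_lit 0, nat_lit 2])))) (.node (nat_lit 1142) (.leaf ((nat_lit 436), [nat_lit 3, nat_lit 5, nat_lit 3, nat_lit 0, nat_lit 5, nat_lit 1, nat_lit 0, nat_lit 3, nat_lit 4, nat_lit 1, nat_lit 0,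 nat_lit 2, nat_lit 0])) (.node (nat_lit 1143) (.leaf ((nat_lit 913), [nat_lit 5, nat_lit 0, nat_lit 1, nat_lit 5, nat_lit 2, nat_lit 3, nat_lit 1, nat_lit 3, nat_lit 0, nat_lit 3, nat_lit 2, nat_lit 2, nat_lit 0, nat_lit 2, nat_lit 0, nat_lit 1])) (.leaf ((nat_lit 914), [nat_lit 4, nat_lit 3, nat_lit 2, nat_lit 5, nat_lit 4, nat_lit 1, nat_lit 3, nat_lit 1, nat_lit 0, nat_lit 2, nat_lit 2, nat_lit 0])))))))))
 (.node (nat_lit 1188) (.node (nat_lit 1166) (.node (nat_lit 1155) (.node (nat_lit 1149) (.node (nat_lit 1146) (.node (nat_lit 1145) (.leaf ((nat_lit 411), [nat_lit 4, nat_lit 0, nat_lit 5, nat_lit 3, nat_lit 1, nat_lit 4, nat_lit 0, nat_lit 4, nat_lit 1, nat_lit 0, nat_lit 2, nat_lit 0, nat_lit 2, nat_lit 2])) (.leaf ((nat_lit 752), [nat_lit 3, nat_lit 2, nat_lit 0, nat_lit 5, nat_lit 3, nat_lit 0, nat_lit 4, nat_lit 1, nat_lit 0, nat_lit 3, nat_lit 0, nat_lit 1, nat_lit 0, nat_lit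 2, nat_lit 2, nat_lit 0]))) (.node (nat_lit 1147) (.leaf ((nat_lit 797), [nat_lit 5, nat_lit 1, nat_lit 3, nat_lit 2, nat_lit 5, nat_lit 0, nat_lit 4, nat_lit 1, nat_lit 3, nat_lit 1, nat_lit 0, nat_lit 2])) (.node (nat_lit 1148) (.leaf ((nat_lit 915), [nat_lit 5, nat_lit 1, nat_lit 0, nat_lit 3, nat_lit 5, nat_lit 4, nat_lit 1, nat_lit 3, nat_lit 0, nat_lit 3, nat_lit 2, nat_lit 0, nat_lit 1, nat_lit 0, nat_lit 1, nat_lit 0, nat_lit 2, nat_lit 0])) (.leaf ((nat_lit 916), [nat_lit 5, nat_lit 3, nat_lit 2, nat_lit 5, nat_lit 2, nat_lit 2, nat_lit 4, nat_lit 2, nat_lit 4, nat_lit 2, nat_lit 0, nat_lit 1, nat_lit 0, nat_lit 1, nat_lit 0, nat_lit 2, nat_lit 0])))))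
 (.node (nat_lit 1152) (.node (nat_lit 1150) (.leaf ((nat_lit 917), [nat_lit 0, nat_lit 5, nat_lit 2, nat_lit 3, nat_lit 5, nat_lit 0, nat_lit 1, nat_lit 4, nat_lit 3, nat_lit 1, nat_lit 0, nat_lit 2, nat_lit 0, nat_lit 2, nat_lit 2, nat_lit 0])) (.node (nat_lit 1151) (.leaf ((nat_lit 918), [nat_lit 2, nat_lit 0, nat_lit 5, nat_lit 4, nat_lit 1, nat_lit 4, nat_lit 2, nat_lit 4, nat_lit 1, nat_lit 0, nat_lit 1, nat_lit 0, nat_lit 2, nat_lit 0])) (.leaf ((nat_lit 421), [nat_lit 2, nat_lit 2, nat_lit 5, nat_lit 2, nat_lit 2, nat_lit 3, nat_lit 2, nat_lit 4, nat_lit 2, nat_lit 2])))) (.node (nat_lit 1153) (.leaf ((nat_lit 919), [nat_lit 5, nat_lit 1, nat_lit 3, nat_lit 0, nat_lit 5, nat_lit 4, nat_lit 0, nat_lit 3, nat_lit 1, nat_lit 3, nat_lit 2, nat_lit 2, nat_lit 0, nat_lit 1, nat_lit 0, nat_lit 2])) (.node (nat_lit 1154) (.leaf ((nat_lit 801), [nat_lit 1, nat_lit 0, nat_lit 5, nat_lit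 2, nat_lit 3, nat_lit 4, nat_lit 1, nat_lit 0, nat_lit 3, nat_lit 2, nat_lit 0, nat_lit 2, nat_lit 2, nat_lit 0])) (.leaf ((nat_lit 920), [nat_lit 0, nat_lit 4, nat_lit 5, nat_lit 4, nat_lit 2, nat_lit 0, nat_lit 1, nat_lit 0, nat_lit 3, nat_lit 2, nat_lit 0, nat_lit 2, nat_lit 2, nat_lit 0, nat_lit 1]))))))
 (.node (nat_lit 1160) (.node (nat_lit 1157) (.node (nat_lit 1156) (.leaf ((nat_lit 248), [nat_lit 2, nat_lit 2, nat_lit 0, nat_lit 5, nat_lit 1, nat_lit 4, nat_lit 3, nat_lit 2, nat_lit 2, nat_lit 0, nat_lit 2])) (.leaf ((nat_lit 921), [nat_lit 1, nat_lit 3, nat_lit 0, nat_lit 5, nat_lit 2, nat_lit 3, nat_lit 1, nat_lit 3, nat_lit 2, nat_lit 0, nat_lit 1, nat_lit 0, nat_lit 1, nat_lit 0]))) (.node (nat_lit 1158) (.leaf ((nat_lit 922), [nat_lit 1, nat_lit 0, nat_lit 3, nat_lit 5, nat_lit 0, nat_lit 2, nat_lit 2, nat_lit 3, nat_lit 2, nat_lit 2])) (.node (nat_lit 1159) (.leaf ((nat_lit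 893), [nat_lit 0, nat_lit 5, nat_lit 2, nat_lit 0, nat_lit 5, nat_lit 4, nat_lit 3, nat_lit 1, nat_lit 3, nat_lit 2, nat_lit 0, nat_lit 1, nat_lit 0, nat_lit 2, nat_lit 0])) (.leaf ((nat_lit 923), [nat_lit 5, nat_lit 1, nat_lit 5, nat_lit 3, nat_lit 2, nat_lit 4, nat_lit 2, nat_lit 3, nat_lit 1, nat_lit 0, nat_lit 2, nat_lit 2, nat_lit 0, nat_lit 2])))))
 (.node (nat_lit 1163) (.node (nat_lit 1161) (.leaf ((nat_lit 378), [nat_lit 3, nat_lit 5, nat_lit 0, nat_lit 1, nat_lit 3, nat_lit 0, nat_lit 4, nat_lit 1, nat_lit 0, nat_lit 2, nat_lit 2, nat_lit 0, nat_lit 2, nat_lit 2, nat_lit 0])) (.node (nat_lit 1162) (.leaf ((nat_lit 924), [nat_lit 5, nat_lit 4, nat_lit 2, nat_lit 5, nat_lit 2, nat_lit 4, nat_lit 3, nat_lit 2, nat_lit 3, nat_lit 2, nat_lit 2, nat_lit 0, nat_lit 2, nat_lit 0, nat_lit 1])) (.leaf ((nat_lit 925), [nat_lit 2, nat_lit 5, nat_lit 4, nat_lit 0, nat_lit 3, nat_lit 4, nat_lit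 3, nat_lit 1, nat_lit 0, nat_lit 2, nat_lit 2, nat_lit 0, nat_lit 2])))) (.node (nat_lit 1164) (.leaf ((nat_lit 926), [nat_lit 0, nat_lit 5, nat_lit 0, nat_lit 1, nat_lit 5, nat_lit 1, nat_lit 4, nat_lit 1, nat_lit 3, nat_lit 1, nat_lit 3, nat_lit 2, nat_lit 0, nat_lit 1, nat_lit 0, nat_lit 2, nat_lit 0, nat_lit 2])) (.node (nat_lit 1165) (.leaf ((nat_lit 927), [nat_lit 5, nat_lit 4, nat_lit 3, nat_lit 0, nat_lit 5, nat_lit 4, nat_lit 3, nat_lit 0, nat_lit 1, nat_lit 0, nat_lit 2, nat_lit 0, nat_lit 2, nat_lit 2, nat_lit 0])) (.leaf ((nat_lit 186), [nat_lit 5, nat_lit 0, nat_lit 1, nat_lit 5, nat_lit 3, nat_lit 2, nat_lit 0, nat_lit 3, nat_lit 4, nat_lit 2, nat_lit 2, nat_lit 0, nat_lit 2, nat_lit 0])))))))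
 (.node (nat_lit 1177) (.node (nat_lit 1171) (.node (nat_lit 1168) (.node (nat_lit 1167) (.leaf ((nat_lit 928), [nat_lit 2, nat_lit 4, nat_lit 2, nat_lit 0, nat_lit 5, nat_lit 3, nat_lit 4, nat_lit 0, nat_lit 2, nat_lit 2, nat_lit 3, nat_lit 2, nat_lit 0, nat_lit 1, nat_lit 0, nat_lit 2, nat_lit 0])) (.leaf ((nat_lit 885), [nat_lit 5, nat_lit 4, nat_lit 2, nat_lit 5, nat_lit 4, nat_lit 1, nat_lit 4, nat_lit 2, nat_lit 4, nat_lit 3, nat_lit 2, nat_lit 0, nat_lit 1, nat_lit 0, nat_lit 2, nat_lit 2, nat_lit 0]))) (.node (nat_lit 1169) (.leaf ((nat_lit 929), [nat_lit 4, nat_lit 5, nat_lit 2, nat_lit 5, nat_lit 4, nat_lit 3, nat_lit 1, nat_lit 3, nat_lit 1, nat_lit 3, nat_lit 2, nat_lit 2, nat_lit 0, nat_lit 1])) (.node (nat_lit 1170) (.leaf ((nat_lit 930), [nat_lit 2, nat_lit 5, nat_lit 1, nat_lit 0, nat_lit 3, nat_lit 2, nat_lit 3, nat_lit 2, nat_lit 2, nat_lit 0, nat_lit 1, nat_lit 0, nat_lit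 2, nat_lit 0])) (.leaf ((nat_lit 647), [nat_lit 5, nat_lit 0, nat_lit 1, nat_lit 5, nat_lit 4, nat_lit 1, nat_lit 3, nat_lit 4, nat_lit 2, nat_lit 3, nat_lit 1, nat_lit 0, nat_lit 2, nat_lit 2, nat_lit 0, nat_lit 2, nat_lit 0])))))
 (.node (nat_lit 1174) (.node (nat_lit 1172) (.leaf ((nat_lit 931), [nat_lit 4, nat_lit 3, nat_lit 5, nat_lit 1, nat_lit 3, nat_lit 0, nat_lit 3, nat_lit 2, nat_lit 3, nat_lit 1, nat_lit 0, nat_lit 2, nat_lit 2])) (.node (nat_lit 1173) (.leaf ((nat_lit 932), [nat_lit 3, nat_lit 4, nat_lit 3, nat_lit 5, nat_lit 1, nat_lit 3, nat_lit 1, nat_lit 0, nat_lit 4, nat_lit 1, nat_lit 0, nat_lit 2])) (.leaf ((nat_lit 933), [nat_lit 4, nat_lit 5, nat_lit 1, nat_lit 5, nat_lit 0, nat_lit 4, nat_lit 0, nat_lit 4, nat_lit 1, nat_lit 0])))) (.node (nat_lit 1175) (.leaf ((nat_lit 934), [nat_lit 0, nat_lit 5, nat_lit 0, nat_lit 1, nat_lit 5, nat_lit 0, nat_lit 3, nat_lit 4,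 nat_lit 2, nat_lit 0, nat_lit 4, nat_lit 0, nat_lit 1, nat_lit 0, nat_lit 2])) (.node (nat_lit 1176) (.leaf ((nat_lit 935), [nat_lit 3, nat_lit 5, nat_lit 3, nat_lit 2, nat_lit 4, nat_lit 0, nat_lit 4, nat_lit 1, nat_lit 0, nat_lit 2, nat_lit 2, nat_lit 0, nat_lit 1])) (.leaf ((nat_lit 936), [nat_lit 0, nat_lit 2, nat_lit 5, nat_lit 2, nat_lit 2, nat_lit 3, nat_lit 2, nat_lit 2, nat_lit 3, nat_lit 2, nat_lit 0, nat_lit 2, nat_lit 0, nat_lit 1, nat_lit 0]))))))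
 (.node (nat_lit 1182) (.node (nat_lit 1179) (.node (nat_lit 1178) (.leaf ((nat_lit 937), [nat_lit 4, nat_lit 2, nat_lit 5, nat_lit 1, nat_lit 5, nat_lit 3, nat_lit 4, nat_lit 2, nat_lit 4, nat_lit 3, nat_lit 2, nat_lit 2, nat_lit 0, nat_lit 2, nat_lit 0, nat_lit 1])) (.leaf ((nat_lit 938), [nat_lit 4, nat_lit 1, nat_lit 0, nat_lit 5, nat_lit 3, nat_lit 2, nat_lit 4, nat_lit 0, nat_lit 4, nat_lit 2, nat_lit 0, nat_lit 2, nat_lit 0, nat_lit 1]))) (.node (nat_lit 1180) (.leaf ((nat_lit 508), [nat_lit 3, nat_lit 5, nat_lit 0, nat_lit 3, nat_lit 5, nat_lit 3, nat_lit 0, nat_lit 2, nat_lit 2])) (.node (nat_lit 1181) (.leaf ((nat_lit 106), [nat_lit 4, nat_lit 3, nat_lit 5, nat_lit 2, nat_lit 2, nat_lit 4, nat_lit 0, nat_lit 4, nat_lit 1, nat_lit 0, nat_lit 2, nat_lit 0, nat_lit 2, nat_lit 2, nat_lit 0])) (.leaf ((nat_lit 939), [nat_lit 4, nat_lit 3, nat_lit 5, nat_lit 0, nat_lit 5, nat_lit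 4, nat_lit 0, nat_lit 3, nat_lit 4, nat_lit 2, nat_lit 0, nat_lit 2, nat_lit 2, nat_lit 0, nat_lit 1])))))
 (.node (nat_lit 1185) (.node (nat_lit 1183) (.leaf ((nat_lit 179), [nat_lit 5, nat_lit 1, nat_lit 3, nat_lit 0, nat_lit 5, nat_lit 3, nat_lit 2, nat_lit 0, nat_lit 2, nat_lit 4, nat_lit 3, nat_lit 0, nat_lit 2, nat_lit 2, nat_lit 0, nat_lit 1, nat_lit 0])) (.node (nat_lit 1184) (.leaf ((nat_lit 489), [nat_lit 3, nat_lit 5, nat_lit 1, nat_lit 3, nat_lit 2, nat_lit 5, nat_lit 2, nat_lit 4, nat_lit 1, nat_lit 0, nat_lit 3, nat_lit 0, nat_lit 2, nat_lit 0, nat_lit 2, nat_lit 2, nat_lit 0, nat_lit 1, nat_lit 0])) (.leaf ((nat_lit 209), [nat_lit 3, nat_lit 1, nat_lit 5, nat_lit 0, nat_lit 5, nat_lit 2, nat_lit 2, nat_lit 0, nat_lit 3, nat_lit 2, nat_lit 2, nat_lit 0, nat_lit 2, nat_lit 0])))) (.node (nat_lit 1186) (.leaf ((nat_lit 292), [nat_lit 5, nat_lit 4, nat_lit 5, nat_lit 1, nat_lit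 5, nat_lit 4, nat_lit 1, nat_lit 3, nat_lit 4, nat_lit 3, nat_lit 1, nat_lit 0, nat_lit 1, nat_lit 0, nat_lit 2, nat_lit 2, nat_lit 0])) (.node (nat_lit 1187) (.leaf ((nat_lit 940), [nat_lit 0, nat_lit 2, nat_lit 5, nat_lit 3, nat_lit 4, nat_lit 0, nat_lit 3, nat_lit 1, nat_lit 3, nat_lit 2, nat_lit 2, nat_lit 0, nat_lit 2, nat_lit 2, nat_lit 0, nat_lit 1])) (.leaf ((nat_lit 941), [nat_lit 0, nat_lit 1, nat_lit 4, nat_lit 2, nat_lit 2, nat_lit 0, nat_lit 2, nat_lit 0, nat_lit 1]))))))))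
 (.node (nat_lit 1210) (.node (nat_lit 1199) (.node (nat_lit 1193) (.node (nat_lit 1190) (.node (nat_lit 1189) (.leaf ((nat_lit 942), [nat_lit 5, nat_lit 4, nat_lit 5, nat_lit 1, nat_lit 3, nat_lit 2, nat_lit 3, nat_lit 0, nat_lit 4, nat_lit 0, nat_lit 1, nat_lit 0, nat_lit 2, nat_lit 0, nat_lit 2, nat_lit 2, nat_lit 0])) (.leaf ((nat_lit 943), [nat_lit 5, nat_lit 0, nat_lit 4, nat_lit 5, nat_lit 0, nat_lit 2, nat_lit 0, nat_lit 2, nat_lit 4, nat_lit 1, nat_lit 0, nat_lit 2, nat_lit 2, nat_lit 0]))) (.node (nat_lit 1191) (.leaf ((nat_lit 944), [nat_lit 4, nat_lit 3, nat_lit 5, nat_lit 0, nat_lit 5, nat_lit 1, nat_lit 3, nat_lit 2, nat_lit 0, nat_lit 4, nat_lit 2, nat_lit 0, nat_lit 2, nat_lit 2, nat_lit 0])) (.node (nat_lit 1192) (.leaf ((nat_lit 828), [nat_lit 5, nat_lit 4, nat_lit 5, nat_lit 3, nat_lit 5, nat_lit 3, nat_lit 0, nat_lit 1, nat_lit 3, nat_lit 0, nat_lit 3, nat_lit 2, nat_lit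 0, nat_lit 1, nat_lit 0])) (.leaf ((nat_lit 758), [nat_lit 4, nat_lit 3, nat_lit 5, nat_lit 2, nat_lit 5, nat_lit 3, nat_lit 4, nat_lit 3, nat_lit 1, nat_lit 3, nat_lit 2, nat_lit 2, nat_lit 0, nat_lit 2, nat_lit 2, nat_lit 0, nat_lit 1])))))
 (.node (nat_lit 1196) (.node (nat_lit 1194) (.leaf ((nat_lit 683), [nat_lit 3, nat_lit 4, nat_lit 5, nat_lit 2, nat_lit 5, nat_lit 4, nat_lit 3, nat_lit 0, nat_lit 2, nat_lit 3, nat_lit 0, nat_lit 1, nat_lit 0, nat_lit 1, nat_lit 0])) (.node (nat_lit 1195) (.leaf ((nat_lit 945), [nat_lit 5, nat_lit 3, nat_lit 0, nat_lit 5, nat_lit 2, nat_lit 4, nat_lit 0, nat_lit 2, nat_lit 0])) (.leaf ((nat_lit 244), [nat_lit 2, nat_lit 4, nat_lit 5, nat_lit 2, nat_lit 0, nat_lit 5, nat_lit 2, nat_lit 4, nat_lit 0, nat_lit 1, nat_lit 0, nat_lit 3, nat_lit 1, nat_lit 0, nat_lit 2, nat_lit 2, nat_lit 0, nat_lit 2])))) (.node (nat_lit 1197) (.leaf ((nat_lit 715),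 [nat_lit 0, nat_lit 5, nat_lit 2, nat_lit 5, nat_lit 1, nat_lit 0, nat_lit 3, nat_lit 1, nat_lit 3, nat_lit 2, nat_lit 0, nat_lit 2, nat_lit 2, nat_lit 0, nat_lit 2])) (.node (nat_lit 1198) (.leaf ((nat_lit 946), [nat_lit 5, nat_lit 1, nat_lit 5, nat_lit 2, nat_lit 0, nat_lit 2, nat_lit 4, nat_lit 3, nat_lit 0, nat_lit 2, nat_lit 0, nat_lit 1, nat_lit 0, nat_lit 1])) (.leaf ((nat_lit 509), [nat_lit 0, nat_lit 5, nat_lit 0, nat_lit 1, nat_lit 5, nat_lit 4, nat_lit 0, nat_lit 3, nat_lit 2, nat_lit 3, nat_lit 0]))))))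
 (.node (nat_lit 1204) (.node (nat_lit 1201) (.node (nat_lit 1200) (.leaf ((nat_lit 947), [nat_lit 0, nat_lit 5, nat_lit 3, nat_lit 5, nat_lit 4, nat_lit 0, nat_lit 1, nat_lit 0, nat_lit 3, nat_lit 2])) (.leaf ((nat_lit 185), [nat_lit 2, nat_lit 3, nat_lit 5, nat_lit 4, nat_lit 1, nat_lit 3, nat_lit 4, nat_lit 2, nat_lit 3, nat_lit 0, nat_lit 1, nat_lit 0, nat_lit 2, nat_lit 0]))) (.node (nat_lit 1202) (.leaf ((nat_lit 948), [nat_lit 0, nat_lit 2, nat_lit 5, nat_lit 3, nat_lit 5, nat_lit 3, nat_lit 0, nat_lit 3, nat_lit 0, nat_lit 4, nat_lit 2, nat_lit 0, nat_lit 1, nat_lit 0, nat_lit 1, nat_lit 0])) (.node (nat_lit 1203) (.leaf ((nat_lit 949), [nat_lit 2, nat_lit 3, nat_lit 0, nat_lit 5, nat_lit 2, nat_lit 3, nat_lit 1, nat_lit 0, nat_lit 2, nat_lit 3, nat_lit 0, nat_lit 2, nat_lit 2, nat_lit 0, nat_lit 2])) (.leaf ((nat_lit 379), [nat_lit 4, nat_lit 0, nat_lit 5, nat_lit 4, nat_lit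 0, nat_lit 3, nat_lit 4, nat_lit 1, nat_lit 0, nat_lit 2, nat_lit 2, nat_lit 0, nat_lit 1, nat_lit 0])))))
 (.node (nat_lit 1207) (.node (nat_lit 1205) (.leaf ((nat_lit 386), [nat_lit 0, nat_lit 2, nat_lit 4, nat_lit 0, nat_lit 5, nat_lit 3, nat_lit 0, nat_lit 3, nat_lit 0, nat_lit 2, nat_lit 4, nat_lit 0, nat_lit 2, nat_lit 0, nat_lit 2, nat_lit 2, nat_lit 0, nat_lit 1, nat_lit 0])) (.node (nat_lit 1206) (.leaf ((nat_lit 950), [nat_lit 3, nat_lit 5, nat_lit 0, nat_lit 5, nat_lit 4, nat_lit 2, nat_lit 0, nat_lit 4, nat_lit 3, nat_lit 0, nat_lit 2, nat_lit 0, nat_lit 2, nat_lit 2, nat_lit 0, nat_lit 2, nat_lit 0])) (.leaf ((nat_lit 951), [nat_lit 3, nat_lit 4, nat_lit 3, nat_lit 5, nat_lit 4, nat_lit 0, nat_lit 2, nat_lit 2, nat_lit 3, nat_lit 0, nat_lit 2, nat_lit 2, nat_lit 0, nat_lit 1])))) (.node (nat_lit 1208) (.leaf ((nat_lit 369), [nat_lit 2, nat_lit 4, nat_lit 5, nat_lit 2, nat_lit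 0, nat_lit 5, nat_lit 4, nat_lit 3, nat_lit 2, nat_lit 4, nat_lit 3, nat_lit 2, nat_lit 0, nat_lit 1])) (.node (nat_lit 1209) (.leaf ((nat_lit 952), [nat_lit 4, nat_lit 3, nat_lit 0, nat_lit 5, nat_lit 2, nat_lit 0, nat_lit 1, nat_lit 0, nat_lit 3, nat_lit 0, nat_lit 2, nat_lit 0, nat_lit 2, nat_lit 2, nat_lit 0, nat_lit 2, nat_lit 0])) (.leaf ((nat_lit 779), [nat_lit 4, nat_lit 3, nat_lit 5, nat_lit 2, nat_lit 4, nat_lit 0, nat_lit 3, nat_lit 4, nat_lit 1, nat_lit 0, nat_lit 2, nat_lit 0, nat_lit 2, nat_lit 2, nat_lit 0])))))))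
 (.node (nat_lit 1221) (.node (nat_lit 1215) (.node (nat_lit 1212) (.node (nat_lit 1211) (.leaf ((nat_lit 26), [nat_lit 5, nat_lit 3, nat_lit 5, nat_lit 1, nat_lit 0, nat_lit 1, nat_lit 4, nat_lit 3])) (.leaf ((nat_lit 953), [nat_lit 5, nat_lit 1, nat_lit 5, nat_lit 0, nat_lit 5, nat_lit 0, nat_lit 2, nat_lit 3, nat_lit 2, nat_lit 0, nat_lit 3, nat_lit 0]))) (.node (nat_lit 1213) (.leaf ((nat_lit 954), [nat_lit 2, nat_lit 4, nat_lit 0, nat_lit 5, nat_lit 4, nat_lit 2, nat_lit 4, nat_lit 0, nat_lit 1, nat_lit 0, nat_lit 3, nat_lit 0, nat_lit 1, nat_lit 0, nat_lit 2, nat_lit 0, nat_lit 2, nat_lit 0])) (.node (nat_lit 1214) (.leaf ((nat_lit 955), [nat_lit 5, nat_lit 4, nat_lit 5, nat_lit 4, nat_lit 0, nat_lit 3, nat_lit 0, nat_lit 2, nat_lit 3, nat_lit 2, nat_lit 0])) (.leaf ((nat_lit 102), [nat_lit 2, nat_lit 0, nat_lit 2, nat_lit 5, nat_lit 4, nat_lit 3, nat_lit 2, nat_lit 0, nat_lit 3,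 nat_lit 2, nat_lit 0, nat_lit 2, nat_lit 2, nat_lit 0, nat_lit 1])))))
 (.node (nat_lit 1218) (.node (nat_lit 1216) (.leaf ((nat_lit 956), [nat_lit 5, nat_lit 4, nat_lit 5, nat_lit 1, nat_lit 5, nat_lit 1, nat_lit 0, nat_lit 1, nat_lit 0, nat_lit 3, nat_lit 2, nat_lit 0, nat_lit 1, nat_lit 0, nat_lit 2, nat_lit 0])) (.node (nat_lit 1217) (.leaf ((nat_lit 957), [nat_lit 0, nat_lit 3, nat_lit 5, nat_lit 3, nat_lit 2, nat_lit 0, nat_lit 3, nat_lit 0, nat_lit 1, nat_lit 0, nat_lit 2, nat_lit 0, nat_lit 2])) (.leaf ((nat_lit 654), [nat_lit 0, nat_lit 5, nat_lit 3, nat_lit 5, nat_lit 4, nat_lit 3, nat_lit 1, nat_lit 4, nat_lit 3, nat_lit 2, nat_lit 0, nat_lit 2, nat_lit 2, nat_lit 0])))) (.node (nat_lit 1219) (.leaf ((nat_lit 958), [nat_lit 1, nat_lit 3, nat_lit 2, nat_lit 5, nat_lit 4, nat_lit 3, nat_lit 1, nat_lit 4, nat_lit 3, nat_lit 1, nat_lit 0, nat_lit 2, nat_lit 2, nat_lit 0, nat_lit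 1, nat_lit 0])) (.node (nat_lit 1220) (.leaf ((nat_lit 959), [nat_lit 0, nat_lit 5, nat_lit 2, nat_lit 3, nat_lit 5, nat_lit 4, nat_lit 1, nat_lit 4, nat_lit 2, nat_lit 4, nat_lit 3, nat_lit 2, nat_lit 0, nat_lit 1, nat_lit 0, nat_lit 1, nat_lit 0, nat_lit 2, nat_lit 0])) (.leaf ((nat_lit 960), [nat_lit 2, nat_lit 5, nat_lit 0, nat_lit 5, nat_lit 4, nat_lit 3, nat_lit 1, nat_lit 3, nat_lit 1, nat_lit 0, nat_lit 1]))))))
 (.node (nat_lit 1226) (.node (nat_lit 1223) (.node (nat_lit 1222) (.leaf ((nat_lit 365), [nat_lit 0, nat_lit 5, nat_lit 2, nat_lit 5, nat_lit 4, nat_lit 3, nat_lit 2, nat_lit 4, nat_lit 0, nat_lit 2, nat_lit 2, nat_lit 0, nat_lit 1, nat_lit 0, nat_lit 2])) (.leaf ((nat_lit 937), [nat_lit 2, nat_lit 5, nat_lit 4, nat_lit 5, nat_lit 2, nat_lit 3, nat_lit 2, nat_lit 2, nat_lit 3, nat_lit 2, nat_lit 0, nat_lit 2, nat_lit 0]))) (.node (nat_lit 1224) (.leaf ((nat_lit 961),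 [nat_lit 4, nat_lit 2, nat_lit 5, nat_lit 1, nat_lit 5, nat_lit 4, nat_lit 2, nat_lit 0, nat_lit 1, nat_lit 0, nat_lit 3, nat_lit 1, nat_lit 0, nat_lit 2, nat_lit 0, nat_lit 2, nat_lit 0])) (.node (nat_lit 1225) (.leaf ((nat_lit 230), [nat_lit 3, nat_lit 2, nat_lit 3, nat_lit 5, nat_lit 1, nat_lit 0, nat_lit 4, nat_lit 0, nat_lit 2, nat_lit 2, nat_lit 0, nat_lit 1, nat_lit 0])) (.leaf ((nat_lit 962), [nat_lit 4, nat_lit 1, nat_lit 0, nat_lit 5, nat_lit 4, nat_lit 1, nat_lit 3, nat_lit 1, nat_lit 3, nat_lit 1, nat_lit 0, nat_lit 1, nat_lit 0])))))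
 (.node (nat_lit 1229) (.node (nat_lit 1227) (.leaf ((nat_lit 941), [nat_lit 4, nat_lit 3, nat_lit 2, nat_lit 5, nat_lit 2, nat_lit 4, nat_lit 2, nat_lit 3, nat_lit 1, nat_lit 3, nat_lit 0, nat_lit 1, nat_lit 0, nat_lit 1, nat_lit 0])) (.node (nat_lit 1228) (.leaf ((nat_lit 963), [nat_lit 2, nat_lit 0, nat_lit 2, nat_lit 5, nat_lit 4, nat_lit 0, nat_lit 4, nat_lit 1, nat_lit 3, nat_lit 0, nat_lit 2, nat_lit 2, nat_lit 0, nat_lit 2, nat_lit 2, nat_lit 0])) (.leaf ((nat_lit 309), [nat_lit 3, nat_lit 2, nat_lit 3, nat_lit 5, nat_lit 3, nat_lit 4, nat_lit 1, nat_lit 3, nat_lit 1, nat_lit 3, nat_lit 0, nat_lit 2, nat_lit 0, nat_lit 2, nat_lit 2, nat_lit 0])))) (.node (nat_lit 1230) (.leaf ((nat_lit 94), [nat_lit 4, nat_lit 3, nat_lit 5, nat_lit 2, nat_lit 5, nat_lit 4, nat_lit 3, nat_lit 2, nat_lit 3, nat_lit 0])) (.node (nat_lit 1231) (.leaf ((nat_lit 923), [nat_lit 4, nat_lit 5, nat_lit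 2, nat_lit 3, nat_lit 5, nat_lit 4, nat_lit 2, nat_lit 0, nat_lit 3, nat_lit 2, nat_lit 2, nat_lit 0, nat_lit 1, nat_lit 0])) (.leaf ((nat_lit 499), [nat_lit 4, nat_lit 5, nat_lit 3, nat_lit 0, nat_lit 5, nat_lit 3, nat_lit 1, nat_lit 3, nat_lit 4, nat_lit 3, nat_lit 1, nat_lit 0, nat_lit 2, nat_lit 2, nat_lit 0, nat_lit 2, nat_lit 2]))))))))))
noncomputable def bWd_7 : Tr (ℕ × List ℕ) := (.node (nat_lit 1320) (.node (nat_lit 1276) (.node (nat_lit 1254) (.node (nat_lit 1243) (.node (nat_lit 1237) (.node (nat_lit 1234) (.node (nat_lit 1233) (.leaf ((nat_lit 964), [nat_lit 4, nat_lit 5, nat_lit 4, nat_lit 0, nat_lit 5, nat_lit 4, nat_lit 1, nat_lit 0, nat_lit 4, nat_lit 2, nat_lit 2, nat_lit 0])) (.leaf ((nat_lit 965), [nat_lit 1, nat_lit 5, nat_lit 2, nat_lit 5, nat_lit 2, nat_lit 4, nat_lit 2, nat_lit 3, nat_lit 1, nat_lit 3, nat_lit 2, nat_lit 2, nat_lit 0]))) (.node (nat_lit 1235) (.leaf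 ((nat_lit 849), [nat_lit 1, nat_lit 0, nat_lit 2, nat_lit 5, nat_lit 2, nat_lit 0, nat_lit 4, nat_lit 1, nat_lit 4, nat_lit 2, nat_lit 2, nat_lit 0, nat_lit 2, nat_lit 2, nat_lit 0, nat_lit 1])) (.node (nat_lit 1236) (.leaf ((nat_lit 517), [nat_lit 4, nat_lit 0, nat_lit 5, nat_lit 2, nat_lit 5, nat_lit 3, nat_lit 2, nat_lit 0, nat_lit 4])) (.leaf ((nat_lit 966), [nat_lit 5, nat_lit 4, nat_lit 5, nat_lit 1, nat_lit 5, nat_lit 0, nat_lit 4, nat_lit 2, nat_lit 3, nat_lit 4, nat_lit 2, nat_lit 0, nat_lit 1, nat_lit 0, nat_lit 1, nat_lit 0, nat_lit 2])))))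
 (.node (nat_lit 1240) (.node (nat_lit 1238) (.leaf ((nat_lit 920), [nat_lit 5, nat_lit 0, nat_lit 1, nat_lit 5, nat_lit 4, nat_lit 3, nat_lit 2, nat_lit 3, nat_lit 1, nat_lit 0, nat_lit 2, nat_lit 2, nat_lit 0, nat_lit 2, nat_lit 0])) (.node (nat_lit 1239) (.leaf ((nat_lit 695), [nat_lit 5, nat_lit 0, nat_lit 5, nat_lit 1, nat_lit 0, nat_lit 3, nat_lit 4, nat_lit 0, nat_lit 3, nat_lit 1, nat_lit 0, nat_lit 1])) (.leaf ((nat_lit 967), [nat_lit 3, nat_lit 2, nat_lit 3, nat_lit 5, nat_lit 4, nat_lit 0, nat_lit 2, nat_lit 3, nat_lit 2, nat_lit 0, nat_lit 3, nat_lit 1, nat_lit 0, nat_lit 1, nat_lit 0, nat_lit 2])))) (.node (nat_lit 1241) (.leaf ((nat_lit 933), [nat_lit 5, nat_lit 3, nat_lit 0, nat_lit 5, nat_lit 4, nat_lit 1, nat_lit 0, nat_lit 4, nat_lit 1, nat_lit 0, nat_lit 2, nat_lit 0, nat_lit 2, nat_lit 2, nat_lit 0])) (.node (nat_lit 1242) (.leaf ((nat_lit 921), [nat_lit 1, nat_lit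 0, nat_lit 2, nat_lit 5, nat_lit 2, nat_lit 3, nat_lit 4, nat_lit 0, nat_lit 2, nat_lit 4, nat_lit 0, nat_lit 2, nat_lit 2, nat_lit 0, nat_lit 2, nat_lit 0])) (.leaf ((nat_lit 280), [nat_lit 4, nat_lit 5, nat_lit 3, nat_lit 5, nat_lit 4, nat_lit 1, nat_lit 0, nat_lit 3, nat_lit 1, nat_lit 0, nat_lit 2, nat_lit 2, nat_lit 0, nat_lit 2, nat_lit 2]))))))
 (.node (nat_lit 1248) (.node (nat_lit 1245) (.node (nat_lit 1244) (.leaf ((nat_lit 968), [nat_lit 4, nat_lit 5, nat_lit 1, nat_lit 5, nat_lit 0, nat_lit 3, nat_lit 4, nat_lit 3, nat_lit 2, nat_lit 0, nat_lit 1, nat_lit 0, nat_lit 1, nat_lit 0, nat_lit 2, nat_lit 0])) (.leaf ((nat_lit 969), [nat_lit 4, nat_lit 2, nat_lit 0, nat_lit 5, nat_lit 1, nat_lit 3, nat_lit 4, nat_lit 1, nat_lit 0, nat_lit 3, nat_lit 2, nat_lit 0, nat_lit 1, nat_lit 0, nat_lit 2, nat_lit 0, nat_lit 2]))) (.node (nat_lit 1246) (.leaf ((nat_lit 970), [nat_lit 5, nat_lit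 3, nat_lit 0, nat_lit 5, nat_lit 3, nat_lit 0, nat_lit 4, nat_lit 3, nat_lit 0, nat_lit 4, nat_lit 0, nat_lit 1, nat_lit 0, nat_lit 2, nat_lit 2, nat_lit 0, nat_lit 1])) (.node (nat_lit 1247) (.leaf ((nat_lit 291), [nat_lit 4, nat_lit 1, nat_lit 5, nat_lit 3, nat_lit 5, nat_lit 0, nat_lit 2, nat_lit 0, nat_lit 2, nat_lit 4, nat_lit 0, nat_lit 2, nat_lit 2, nat_lit 0, nat_lit 1])) (.leaf ((nat_lit 182), [nat_lit 4, nat_lit 5, nat_lit 2, nat_lit 5, nat_lit 0, nat_lit 4, nat_lit 2, nat_lit 0, nat_lit 1, nat_lit 0, nat_lit 2, nat_lit 2, nat_lit 0])))))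
 (.node (nat_lit 1251) (.node (nat_lit 1249) (.leaf ((nat_lit 971), [nat_lit 1, nat_lit 5, nat_lit 2, nat_lit 0, nat_lit 3, nat_lit 1, nat_lit 0, nat_lit 1, nat_lit 0, nat_lit 2, nat_lit 0])) (.node (nat_lit 1250) (.leaf ((nat_lit 387), [nat_lit 3, nat_lit 0, nat_lit 5, nat_lit 3, nat_lit 5, nat_lit 4, nat_lit 3, nat_lit 1, nat_lit 3, nat_lit 0, nat_lit 3, nat_lit 1, nat_lit 0, nat_lit 1, nat_lit 0, nat_lit 2, nat_lit 0, nat_lit 2, nat_lit 0])) (.leaf ((nat_lit 972), [nat_lit 2, nat_lit 5, nat_lit 0, nat_lit 5, nat_lit 3, nat_lit 2, nat_lit 4, nat_lit 2, nat_lit 3, nat_lit 0, nat_lit 2, nat_lit 0, nat_lit 2, nat_lit 2, nat_lit 0, nat_lit 2])))) (.node (nat_lit 1252) (.leaf ((nat_lit 326), [nat_lit 1, nat_lit 5, nat_lit 1, nat_lit 5, nat_lit 2, nat_lit 2, nat_lit 0, nat_lit 4, nat_lit 2, nat_lit 0, nat_lit 1, nat_lit 0, nat_lit 1, nat_lit 0, nat_lit 2, nat_lit 0])) (.node (nat_lit 1253)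 (.leaf ((nat_lit 973), [nat_lit 5, nat_lit 4, nat_lit 0, nat_lit 5, nat_lit 1, nat_lit 4, nat_lit 1, nat_lit 4, nat_lit 0, nat_lit 2, nat_lit 2, nat_lit 0, nat_lit 1, nat_lit 0, nat_lit 2])) (.leaf ((nat_lit 910), [nat_lit 1, nat_lit 3, nat_lit 2, nat_lit 4, nat_lit 2, nat_lit 3, nat_lit 2, nat_lit 2, nat_lit 0, nat_lit 1, nat_lit 0])))))))
 (.node (nat_lit 1265) (.node (nat_lit 1259) (.node (nat_lit 1256) (.node (nat_lit 1255) (.leaf ((nat_lit 974), [nat_lit 5, nat_lit 4, nat_lit 5, nat_lit 1, nat_lit 5, nat_lit 3, nat_lit 0, nat_lit 1, nat_lit 0, nat_lit 4, nat_lit 1, nat_lit 0])) (.leaf ((nat_lit 975), [nat_lit 2, nat_lit 2, nat_lit 5, nat_lit 1, nat_lit 5, nat_lit 1, nat_lit 3, nat_lit 4, nat_lit 1, nat_lit 0, nat_lit 3, nat_lit 2, nat_lit 0, nat_lit 2, nat_lit 0, nat_lit 1]))) (.node (nat_lit 1257) (.leaf ((nat_lit 976), [nat_lit 2, nat_lit 5, nat_lit 0, nat_lit 1, nat_lit 5, nat_lit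 3, nat_lit 2, nat_lit 4, nat_lit 2, nat_lit 3, nat_lit 4, nat_lit 2, nat_lit 0, nat_lit 2, nat_lit 2, nat_lit 0])) (.node (nat_lit 1258) (.leaf ((nat_lit 977), [nat_lit 0, nat_lit 4, nat_lit 5, nat_lit 2, nat_lit 0, nat_lit 4, nat_lit 1, nat_lit 4, nat_lit 0, nat_lit 2, nat_lit 2, nat_lit 0, nat_lit 2, nat_lit 0, nat_lit 1])) (.leaf ((nat_lit 875), [nat_lit 4, nat_lit 1, nat_lit 5, nat_lit 2, nat_lit 5, nat_lit 3, nat_lit 2, nat_lit 4, nat_lit 3, nat_lit 0, nat_lit 2, nat_lit 2, nat_lit 0, nat_lit 2, nat_lit 0])))))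
 (.node (nat_lit 1262) (.node (nat_lit 1260) (.leaf ((nat_lit 978), [nat_lit 3, nat_lit 5, nat_lit 3, nat_lit 0, nat_lit 5, nat_lit 3, nat_lit 2, nat_lit 3, nat_lit 4, nat_lit 1, nat_lit 3, nat_lit 2, nat_lit 0, nat_lit 2, nat_lit 0, nat_lit 1, nat_lit 0, nat_lit 1])) (.node (nat_lit 1261) (.leaf ((nat_lit 979), [nat_lit 4, nat_lit 3, nat_lit 5, nat_lit 1, nat_lit 4, nat_lit 1, nat_lit 3, nat_lit 4, nat_lit 0, nat_lit 1, nat_lit 0, nat_lit 2, nat_lit 2, nat_lit 0, nat_lit 2, nat_lit 0])) (.leaf ((nat_lit 50), [nat_lit 1, nat_lit 5, nat_lit 3, nat_lit 5, nat_lit 2, nat_lit 0, nat_lit 1, nat_lit 0, nat_lit 4, nat_lit 1, nat_lit 0, nat_lit 1, nat_lit 0])))) (.node (nat_lit 1263) (.leaf ((nat_lit 611), [nat_lit 1, nat_lit 0, nat_lit 2, nat_lit 5, nat_lit 1, nat_lit 4, nat_lit 3, nat_lit 2, nat_lit 0, nat_lit 3, nat_lit 1, nat_lit 0, nat_lit 2, nat_lit 2, nat_lit 0, nat_lit 2, nat_lit 2]))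 (.node (nat_lit 1264) (.leaf ((nat_lit 589), [nat_lit 1, nat_lit 0, nat_lit 2, nat_lit 5, nat_lit 4, nat_lit 0, nat_lit 3, nat_lit 2, nat_lit 3, nat_lit 0, nat_lit 2, nat_lit 2, nat_lit 0, nat_lit 1, nat_lit 0, nat_lit 2, nat_lit 0])) (.leaf ((nat_lit 980), [nat_lit 5, nat_lit 1, nat_lit 3, nat_lit 2, nat_lit 5, nat_lit 0, nat_lit 3, nat_lit 2, nat_lit 3, nat_lit 2, nat_lit 3, nat_lit 1, nat_lit 0, nat_lit 1, nat_lit 0, nat_lit 2]))))))
 (.node (nat_lit 1270) (.node (nat_lit 1267) (.node (nat_lit 1266) (.leaf ((nat_lit 557), [nat_lit 2, nat_lit 4, nat_lit 3, nat_lit 2, nat_lit 3, nat_lit 0, nat_lit 1, nat_lit 0, nat_lit 2, nat_lit 2, nat_lit 0])) (.leaf ((nat_lit 981), [nat_lit 5, nat_lit 4, nat_lit 2, nat_lit 5, nat_lit 2, nat_lit 4, nat_lit 1, nat_lit 3, nat_lit 1, nat_lit 3, nat_lit 0, nat_lit 1, nat_lit 0, nat_lit 2, nat_lit 2, nat_lit 0]))) (.node (nat_lit 1268) (.leaf ((nat_lit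 982), [nat_lit 4, nat_lit 5, nat_lit 2, nat_lit 0, nat_lit 5, nat_lit 4, nat_lit 0, nat_lit 2, nat_lit 0, nat_lit 1, nat_lit 0, nat_lit 1, nat_lit 0])) (.node (nat_lit 1269) (.leaf ((nat_lit 983), [nat_lit 2, nat_lit 5, nat_lit 1, nat_lit 5, nat_lit 3, nat_lit 0, nat_lit 3, nat_lit 4, nat_lit 3, nat_lit 2, nat_lit 0, nat_lit 1, nat_lit 0, nat_lit 2, nat_lit 2, nat_lit 0])) (.leaf ((nat_lit 984), [nat_lit 1, nat_lit 5, nat_lit 3, nat_lit 5, nat_lit 2, nat_lit 0, nat_lit 1, nat_lit 0, nat_lit 4])))))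
 (.node (nat_lit 1273) (.node (nat_lit 1271) (.leaf ((nat_lit 985), [nat_lit 5, nat_lit 4, nat_lit 1, nat_lit 0, nat_lit 5, nat_lit 2, nat_lit 0, nat_lit 4, nat_lit 3, nat_lit 1, nat_lit 0, nat_lit 1, nat_lit 0, nat_lit 2, nat_lit 0])) (.node (nat_lit 1272) (.leaf ((nat_lit 986), [nat_lit 3, nat_lit 5, nat_lit 2, nat_lit 3, nat_lit 0, nat_lit 5, nat_lit 1, nat_lit 4, nat_lit 2, nat_lit 0, nat_lit 2, nat_lit 3, nat_lit 0, nat_lit 1, nat_lit 0, nat_lit 2, nat_lit 2, nat_lit 0, nat_lit 1, nat_lit 0])) (.leaf ((nat_lit 987), [nat_lit 5, nat_lit 4, nat_lit 2, nat_lit 0, nat_lit 5, nat_lit 4, nat_lit 1, nat_lit 3, nat_lit 0, nat_lit 1, nat_lit 4, nat_lit 0, nat_lit 1, nat_lit 0, nat_lit 1])))) (.node (nat_lit 1274) (.leaf ((nat_lit 686), [nat_lit 2, nat_lit 5, nat_lit 4, nat_lit 3, nat_lit 2, nat_lit 3, nat_lit 0, nat_lit 1, nat_lit 0])) (.node (nat_lit 1275) (.leaf ((nat_lit 827), [nat_lit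 1, nat_lit 0, nat_lit 2, nat_lit 5, nat_lit 0, nat_lit 4, nat_lit 2, nat_lit 0, nat_lit 3, nat_lit 1, nat_lit 0, nat_lit 1, nat_lit 0])) (.leaf ((nat_lit 861), [nat_lit 3, nat_lit 5, nat_lit 2, nat_lit 3, nat_lit 0, nat_lit 5, nat_lit 3, nat_lit 0, nat_lit 4, nat_lit 2, nat_lit 0, nat_lit 3, nat_lit 2, nat_lit 2, nat_lit 0, nat_lit 2, nat_lit 2, nat_lit 0, nat_lit 1, nat_lit 0]))))))))
 (.node (nat_lit 1298) (.node (nat_lit 1287) (.node (nat_lit 1281) (.node (nat_lit 1278) (.node (nat_lit 1277) (.leaf ((nat_lit 838), [nat_lit 0, nat_lit 4, nat_lit 5, nat_lit 0, nat_lit 1, nat_lit 4, nat_lit 1, nat_lit 0, nat_lit 3, nat_lit 2, nat_lit 0, nat_lit 2, nat_lit 2, nat_lit 0])) (.leaf ((nat_lit 988), [nat_lit 5, nat_lit 0, nat_lit 3, nat_lit 5, nat_lit 4, nat_lit 1, nat_lit 4, nat_lit 1, nat_lit 4, nat_lit 2, nat_lit 2, nat_lit 0, nat_lit 2, nat_lit 0]))) (.node (nat_lit 1279) (.leaf ((nat_lit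 989), [nat_lit 5, nat_lit 1, nat_lit 5, nat_lit 0, nat_lit 3, nat_lit 0, nat_lit 2, nat_lit 4, nat_lit 1, nat_lit 0, nat_lit 2, nat_lit 2, nat_lit 0])) (.node (nat_lit 1280) (.leaf ((nat_lit 990), [nat_lit 4, nat_lit 0, nat_lit 5, nat_lit 2, nat_lit 5, nat_lit 1, nat_lit 3, nat_lit 4, nat_lit 2, nat_lit 3, nat_lit 0, nat_lit 1, nat_lit 0, nat_lit 2, nat_lit 0, nat_lit 2])) (.leaf ((nat_lit 991), [nat_lit 3, nat_lit 4, nat_lit 5, nat_lit 2, nat_lit 5, nat_lit 2, nat_lit 4, nat_lit 1, nat_lit 0, nat_lit 3, nat_lit 2, nat_lit 0, nat_lit 2, nat_lit 2, nat_lit 0, nat_lit 1])))))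
 (.node (nat_lit 1284) (.node (nat_lit 1282) (.leaf ((nat_lit 992), [nat_lit 4, nat_lit 3, nat_lit 5, nat_lit 2, nat_lit 5, nat_lit 2, nat_lit 4, nat_lit 2, nat_lit 3, nat_lit 4, nat_lit 0, nat_lit 1, nat_lit 0, nat_lit 2, nat_lit 0, nat_lit 2, nat_lit 0])) (.node (nat_lit 1283) (.leaf ((nat_lit 40), [nat_lit 2, nat_lit 0, nat_lit 1, nat_lit 5, nat_lit 2, nat_lit 0, nat_lit 3, nat_lit 1, nat_lit 4, nat_lit 1, nat_lit 0, nat_lit 2, nat_lit 2, nat_lit 0, nat_lit 2])) (.leaf ((nat_lit 993), [nat_lit 4, nat_lit 1, nat_lit 0, nat_lit 5, nat_lit 3, nat_lit 4, nat_lit 3, nat_lit 2, nat_lit 3, nat_lit 0, nat_lit 2, nat_lit 0, nat_lit 2, nat_lit 2, nat_lit 0, nat_lit 2])))) (.node (nat_lit 1285) (.leaf ((nat_lit 136), [nat_lit 5, nat_lit 2, nat_lit 3, nat_lit 5, nat_lit 4, nat_lit 0, nat_lit 4, nat_lit 0, nat_lit 4, nat_lit 2, nat_lit 0])) (.node (nat_lit 1286) (.leaf ((nat_lit 994), [nat_lit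 5, nat_lit 1, nat_lit 0, nat_lit 2, nat_lit 5, nat_lit 0, nat_lit 4, nat_lit 2, nat_lit 0, nat_lit 2, nat_lit 2, nat_lit 0, nat_lit 2, nat_lit 2, nat_lit 0])) (.leaf ((nat_lit 995), [nat_lit 4, nat_lit 2, nat_lit 5, nat_lit 3, nat_lit 5, nat_lit 2, nat_lit 2, nat_lit 3, nat_lit 4, nat_lit 3, nat_lit 0, nat_lit 1]))))))
 (.node (nat_lit 1292) (.node (nat_lit 1289) (.node (nat_lit 1288) (.leaf ((nat_lit 996), [nat_lit 5, nat_lit 1, nat_lit 5, nat_lit 0, nat_lit 5, nat_lit 2, nat_lit 4, nat_lit 2, nat_lit 2, nat_lit 4, nat_lit 3, nat_lit 0, nat_lit 2, nat_lit 0, nat_lit 2, nat_lit 2, nat_lit 0])) (.leaf ((nat_lit 997), [nat_lit 4, nat_lit 5, nat_lit 2, nat_lit 5, nat_lit 0, nat_lit 3, nat_lit 2, nat_lit 4, nat_lit 2, nat_lit 2, nat_lit 0, nat_lit 2, nat_lit 2, nat_lit 0, nat_lit 1]))) (.node (nat_lit 1290) (.leaf ((nat_lit 383), [nat_lit 0, nat_lit 5, nat_lit 3, nat_lit 0, nat_lit 5, nat_lit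 0, nat_lit 1, nat_lit 3, nat_lit 0, nat_lit 3, nat_lit 2, nat_lit 0, nat_lit 2, nat_lit 2, nat_lit 0])) (.node (nat_lit 1291) (.leaf ((nat_lit 998), [nat_lit 4, nat_lit 1, nat_lit 5, nat_lit 3, nat_lit 5, nat_lit 3, nat_lit 2, nat_lit 4, nat_lit 0, nat_lit 4, nat_lit 0, nat_lit 1, nat_lit 0, nat_lit 2])) (.leaf ((nat_lit 999), [nat_lit 3, nat_lit 5, nat_lit 0, nat_lit 5, nat_lit 2, nat_lit 2, nat_lit 4, nat_lit 2, nat_lit 4, nat_lit 2, nat_lit 0, nat_lit 1, nat_lit 0, nat_lit 1, nat_lit 0, nat_lit 2, nat_lit 0])))))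
 (.node (nat_lit 1295) (.node (nat_lit 1293) (.leaf ((nat_lit 1000), [nat_lit 0, nat_lit 5, nat_lit 3, nat_lit 5, nat_lit 1, nat_lit 4, nat_lit 3, nat_lit 0, nat_lit 3, nat_lit 2, nat_lit 0, nat_lit 1, nat_lit 0, nat_lit 2, nat_lit 2, nat_lit 0])) (.node (nat_lit 1294) (.leaf ((nat_lit 1001), [nat_lit 4, nat_lit 1, nat_lit 5, nat_lit 2, nat_lit 5, nat_lit 3, nat_lit 2, nat_lit 0, nat_lit 3, nat_lit 4, nat_lit 0, nat_lit 1, nat_lit 0, nat_lit 2, nat_lit 2, nat_lit 0])) (.leaf ((nat_lit 1002), [nat_lit 5, nat_lit 4, nat_lit 1, nat_lit 0, nat_lit 5, nat_lit 0, nat_lit 4, nat_lit 1, nat_lit 0, nat_lit 3, nat_lit 2, nat_lit 2])))) (.node (nat_lit 1296) (.leaf ((nat_lit 1003), [nat_lit 4, nat_lit 5, nat_lit 2, nat_lit 5, nat_lit 2, nat_lit 2, nat_lit 4, nat_lit 2, nat_lit 4, nat_lit 2, nat_lit 2, nat_lit 0, nat_lit 2, nat_lit 2, nat_lit 0, nat_lit 2, nat_lit 2, nat_lit 0])) (.node (nat_lit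 1297) (.leaf ((nat_lit 1004), [nat_lit 3, nat_lit 2, nat_lit 0, nat_lit 5, nat_lit 4, nat_lit 1, nat_lit 4, nat_lit 2, nat_lit 4, nat_lit 3, nat_lit 1, nat_lit 0, nat_lit 2, nat_lit 2, nat_lit 0, nat_lit 2, nat_lit 2, nat_lit 0])) (.leaf ((nat_lit 774), [nat_lit 4, nat_lit 3, nat_lit 0, nat_lit 5, nat_lit 1, nat_lit 4, nat_lit 3, nat_lit 1, nat_lit 3, nat_lit 1, nat_lit 0, nat_lit 2, nat_lit 0, nat_lit 1])))))))
 (.node (nat_lit 1309) (.node (nat_lit 1303) (.node (nat_lit 1300) (.node (nat_lit 1299) (.leaf ((nat_lit 303), [nat_lit 4, nat_lit 1, nat_lit 5, nat_lit 3, nat_lit 5, nat_lit 4, nat_lit 1, nat_lit 3, nat_lit 1, nat_lit 3, nat_lit 0, nat_lit 2])) (.leaf ((nat_lit 506), [nat_lit 3, nat_lit 1, nat_lit 5, nat_lit 0, nat_lit 5, nat_lit 1, nat_lit 3, nat_lit 1, nat_lit 0, nat_lit 4, nat_lit 2, nat_lit 0, nat_lit 1, nat_lit 0, nat_lit 2, nat_lit 0, nat_lit 2]))) (.node (nat_lit 1301)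 (.leaf ((nat_lit 641), [nat_lit 4, nat_lit 2, nat_lit 5, nat_lit 3, nat_lit 5, nat_lit 2, nat_lit 4, nat_lit 2, nat_lit 3, nat_lit 4, nat_lit 2, nat_lit 0, nat_lit 2])) (.node (nat_lit 1302) (.leaf ((nat_lit 591), [nat_lit 5, nat_lit 1, nat_lit 0, nat_lit 3, nat_lit 5, nat_lit 4, nat_lit 3, nat_lit 0, nat_lit 4, nat_lit 1, nat_lit 0, nat_lit 3, nat_lit 2, nat_lit 2, nat_lit 0, nat_lit 2, nat_lit 2, nat_lit 0, nat_lit 2, nat_lit 0])) (.leaf ((nat_lit 1005), [nat_lit 4, nat_lit 5, nat_lit 2, nat_lit 3, nat_lit 5, nat_lit 2, nat_lit 3, nat_lit 0, nat_lit 3, nat_lit 0, nat_lit 2, nat_lit 2, nat_lit 0, nat_lit 1, nat_lit 0, nat_lit 2])))))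
 (.node (nat_lit 1306) (.node (nat_lit 1304) (.leaf ((nat_lit 1006), [nat_lit 3, nat_lit 5, nat_lit 3, nat_lit 0, nat_lit 5, nat_lit 2, nat_lit 0, nat_lit 4, nat_lit 1, nat_lit 4, nat_lit 0, nat_lit 1, nat_lit 0, nat_lit 2, nat_lit 0, nat_lit 2, nat_lit 2, nat_lit 0])) (.node (nat_lit 1305) (.leaf ((nat_lit 1007), [nat_lit 2, nat_lit 4, nat_lit 2, nat_lit 0, nat_lit 5, nat_lit 1, nat_lit 0, nat_lit 4, nat_lit 3, nat_lit 0, nat_lit 2, nat_lit 0, nat_lit 2])) (.leaf ((nat_lit 1008), [nat_lit 3, nat_lit 2, nat_lit 5, nat_lit 0, nat_lit 2, nat_lit 0, nat_lit 2, nat_lit 3, nat_lit 0, nat_lit 1, nat_lit 0, nat_lit 2, nat_lit 2, nat_lit 0, nat_lit 2])))) (.node (nat_lit 1307) (.leaf ((nat_lit 1009), [nat_lit 5, nat_lit 2, nat_lit 3, nat_lit 5, nat_lit 1, nat_lit 0, nat_lit 3, nat_lit 1, nat_lit 3, nat_lit 2, nat_lit 0, nat_lit 2, nat_lit 2, nat_lit 0, nat_lit 2, nat_lit 2])) (.node (nat_lit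 1308) (.leaf ((nat_lit 1010), [nat_lit 4, nat_lit 5, nat_lit 3, nat_lit 5, nat_lit 3, nat_lit 0, nat_lit 2, nat_lit 4, nat_lit 0, nat_lit 1, nat_lit 0, nat_lit 2, nat_lit 0, nat_lit 2, nat_lit 2, nat_lit 0])) (.leaf ((nat_lit 1011), [nat_lit 5, nat_lit 4, nat_lit 2, nat_lit 0, nat_lit 4, nat_lit 0]))))))
 (.node (nat_lit 1314) (.node (nat_lit 1311) (.node (nat_lit 1310) (.leaf ((nat_lit 1012), [nat_lit 2, nat_lit 4, nat_lit 0, nat_lit 5, nat_lit 3, nat_lit 4, nat_lit 2, nat_lit 0, nat_lit 2, nat_lit 3, nat_lit 0, nat_lit 2])) (.leaf ((nat_lit 1013), [nat_lit 2, nat_lit 4, nat_lit 0, nat_lit 5, nat_lit 3, nat_lit 4, nat_lit 1, nat_lit 3, nat_lit 1, nat_lit 3, nat_lit 2, nat_lit 2, nat_lit 0]))) (.node (nat_lit 1312) (.leaf ((nat_lit 1014), [nat_lit 5, nat_lit 1, nat_lit 0, nat_lit 3, nat_lit 5, nat_lit 0, nat_lit 1, nat_lit 4, nat_lit 1, nat_lit 0, nat_lit 3, nat_lit 2, nat_lit 0, nat_lit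 2, nat_lit 2, nat_lit 0, nat_lit 2, nat_lit 2, nat_lit 0])) (.node (nat_lit 1313) (.leaf ((nat_lit 685), [nat_lit 3, nat_lit 5, nat_lit 1, nat_lit 3, nat_lit 2, nat_lit 5, nat_lit 4, nat_lit 3, nat_lit 0, nat_lit 1, nat_lit 0, nat_lit 3, nat_lit 0, nat_lit 2, nat_lit 2])) (.leaf ((nat_lit 697), [nat_lit 5, nat_lit 4, nat_lit 5, nat_lit 1, nat_lit 5, nat_lit 3, nat_lit 1, nat_lit 4, nat_lit 0, nat_lit 4, nat_lit 3, nat_lit 2, nat_lit 0, nat_lit 2, nat_lit 2, nat_lit 0, nat_lit 2, nat_lit 2, nat_lit 0])))))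
 (.node (nat_lit 1317) (.node (nat_lit 1315) (.leaf ((nat_lit 850), [nat_lit 1, nat_lit 5, nat_lit 2, nat_lit 5, nat_lit 3, nat_lit 0, nat_lit 1, nat_lit 0, nat_lit 4, nat_lit 1, nat_lit 0, nat_lit 1])) (.node (nat_lit 1316) (.leaf ((nat_lit 1015), [nat_lit 4, nat_lit 2, nat_lit 5, nat_lit 3, nat_lit 5, nat_lit 0, nat_lit 3, nat_lit 2, nat_lit 0, nat_lit 3, nat_lit 0, nat_lit 2, nat_lit 0, nat_lit 2])) (.leaf ((nat_lit 265), [nat_lit 5, nat_lit 1, nat_lit 5, nat_lit 3, nat_lit 4, nat_lit 0, nat_lit 3, nat_lit 4, nat_lit 1, nat_lit 0, nat_lit 1, nat_lit 0, nat_lit 2, nat_lit 0])))) (.node (nat_lit 1318) (.leaf ((nat_lit 1016), [nat_lit 4, nat_lit 5, nat_lit 2, nat_lit 0, nat_lit 5, nat_lit 1, nat_lit 4, nat_lit 3, nat_lit 1, nat_lit 3, nat_lit 1, nat_lit 0, nat_lit 1, nat_lit 0, nat_lit 2])) (.node (nat_lit 1319) (.leaf ((nat_lit 829), [nat_lit 5, nat_lit 1, nat_lit 5, nat_lit 0, nat_lit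 5, nat_lit 0, nat_lit 3, nat_lit 4, nat_lit 3, nat_lit 0, nat_lit 2, nat_lit 0, nat_lit 1])) (.leaf ((nat_lit 593), [nat_lit 3, nat_lit 1, nat_lit 5, nat_lit 2, nat_lit 5, nat_lit 2, nat_lit 0, nat_lit 3, nat_lit 1, nat_lit 3, nat_lit 1, nat_lit 0, nat_lit 2, nat_lit 2, nat_lit 0, nat_lit 2, nat_lit 2])))))))))
 (.node (nat_lit 1364) (.node (nat_lit 1342) (.node (nat_lit 1331) (.node (nat_lit 1325) (.node (nat_lit 1322) (.node (nat_lit 1321) (.leaf ((nat_lit 1017), [nat_lit 2, nat_lit 2, nat_lit 5, nat_lit 3, nat_lit 1, nat_lit 4, nat_lit 0, nat_lit 4])) (.leaf ((nat_lit 529), [nat_lit 4, nat_lit 2, nat_lit 5, nat_lit 1, nat_lit 5, nat_lit 2, nat_lit 0, nat_lit 3, nat_lit 0, nat_lit 2, nat_lit 3, nat_lit 1, nat_lit 0, nat_lit 2, nat_lit 0, nat_lit 1]))) (.node (nat_lit 1323) (.leaf ((nat_lit 470), [nat_lit 1, nat_lit 4, nat_lit 5, nat_lit 1, nat_lit 5, nat_lit 2, nat_lit 2, nat_lit 4,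 nat_lit 0, nat_lit 4, nat_lit 2, nat_lit 0, nat_lit 2, nat_lit 2])) (.node (nat_lit 1324) (.leaf ((nat_lit 250), [nat_lit 2, nat_lit 2, nat_lit 5, nat_lit 1, nat_lit 5, nat_lit 2, nat_lit 3, nat_lit 2, nat_lit 2, nat_lit 3, nat_lit 1, nat_lit 0, nat_lit 2, nat_lit 2])) (.leaf ((nat_lit 1018), [nat_lit 3, nat_lit 4, nat_lit 3, nat_lit 5, nat_lit 2, nat_lit 3, nat_lit 0, nat_lit 2, nat_lit 4, nat_lit 3, nat_lit 0, nat_lit 1, nat_lit 0, nat_lit 2, nat_lit 0, nat_lit 2])))))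
 (.node (nat_lit 1328) (.node (nat_lit 1326) (.leaf ((nat_lit 438), [nat_lit 4, nat_lit 1, nat_lit 5, nat_lit 3, nat_lit 5, nat_lit 1, nat_lit 0, nat_lit 4, nat_lit 1, nat_lit 4, nat_lit 0, nat_lit 1, nat_lit 0, nat_lit 2, nat_lit 0, nat_lit 2, nat_lit 2, nat_lit 0])) (.node (nat_lit 1327) (.leaf ((nat_lit 1019), [nat_lit 0, nat_lit 5, nat_lit 2, nat_lit 5, nat_lit 2, nat_lit 4, nat_lit 1, nat_lit 3, nat_lit 1, nat_lit 3, nat_lit 1, nat_lit 0, nat_lit 2, nat_lit 2, nat_lit 0, nat_lit 1, nat_lit 0])) (.leaf ((nat_lit 1020), [nat_lit 1, nat_lit 3, nat_lit 2, nat_lit 5, nat_lit 4, nat_lit 1, nat_lit 3, nat_lit 4, nat_lit 3, nat_lit 2, nat_lit 0, nat_lit 2])))) (.node (nat_lit 1329) (.leaf ((nat_lit 8), [nat_lit 5, nat_lit 4, nat_lit 5, nat_lit 2, nat_lit 5, nat_lit 4, nat_lit 0, nat_lit 3, nat_lit 1, nat_lit 3, nat_lit 2, nat_lit 0, nat_lit 1, nat_lit 0, nat_lit 1, nat_lit 0, nat_lit 2]))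 (.node (nat_lit 1330) (.leaf ((nat_lit 858), [nat_lit 5, nat_lit 2, nat_lit 0, nat_lit 5, nat_lit 3, nat_lit 2, nat_lit 0, nat_lit 2, nat_lit 4, nat_lit 2, nat_lit 0, nat_lit 2])) (.leaf ((nat_lit 751), [nat_lit 0, nat_lit 4, nat_lit 5, nat_lit 3, nat_lit 0, nat_lit 4, nat_lit 1, nat_lit 4, nat_lit 0, nat_lit 1, nat_lit 0, nat_lit 2, nat_lit 2, nat_lit 0, nat_lit 2]))))))
 (.node (nat_lit 1336) (.node (nat_lit 1333) (.node (nat_lit 1332) (.leaf ((nat_lit 1021), [nat_lit 5, nat_lit 4, nat_lit 3, nat_lit 2, nat_lit 5, nat_lit 3, nat_lit 0, nat_lit 4, nat_lit 1, nat_lit 0, nat_lit 3, nat_lit 2])) (.leaf ((nat_lit 698), [nat_lit 5, nat_lit 4, nat_lit 3, nat_lit 2, nat_lit 5, nat_lit 4, nat_lit 1, nat_lit 3, nat_lit 2, nat_lit 4, nat_lit 2, nat_lit 0, nat_lit 2, nat_lit 0, nat_lit 1]))) (.node (nat_lit 1334) (.leaf ((nat_lit 785), [nat_lit 1, nat_lit 0, nat_lit 2, nat_lit 5, nat_lit 3, nat_lit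 4, nat_lit 0, nat_lit 4, nat_lit 1, nat_lit 3, nat_lit 2, nat_lit 2, nat_lit 0, nat_lit 1, nat_lit 0, nat_lit 2, nat_lit 2])) (.node (nat_lit 1335) (.leaf ((nat_lit 669), [nat_lit 5, nat_lit 1, nat_lit 3, nat_lit 0, nat_lit 5, nat_lit 4, nat_lit 0, nat_lit 1, nat_lit 4, nat_lit 0, nat_lit 2, nat_lit 0, nat_lit 2, nat_lit 0])) (.leaf ((nat_lit 1022), [nat_lit 5, nat_lit 1, nat_lit 5, nat_lit 0, nat_lit 5, nat_lit 2, nat_lit 0, nat_lit 4, nat_lit 3, nat_lit 2, nat_lit 0, nat_lit 2, nat_lit 2, nat_lit 0])))))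
 (.node (nat_lit 1339) (.node (nat_lit 1337) (.leaf ((nat_lit 1023), [nat_lit 2, nat_lit 2, nat_lit 0, nat_lit 5, nat_lit 3, nat_lit 1, nat_lit 4, nat_lit 3, nat_lit 0, nat_lit 3, nat_lit 0, nat_lit 1, nat_lit 0, nat_lit 2, nat_lit 0])) (.node (nat_lit 1338) (.leaf ((nat_lit 1024), [nat_lit 4, nat_lit 5, nat_lit 2, nat_lit 3, nat_lit 5, nat_lit 4, nat_lit 2, nat_lit 3, nat_lit 0, nat_lit 4, nat_lit 1, nat_lit 0, nat_lit 2, nat_lit 2, nat_lit 0, nat_lit 1, nat_lit 0])) (.leaf ((nat_lit 382), [nat_lit 5, nat_lit 0, nat_lit 1, nat_lit 5, nat_lit 1, nat_lit 3, nat_lit 4, nat_lit 0, nat_lit 2, nat_lit 4, nat_lit 0, nat_lit 2, nat_lit 2, nat_lit 0, nat_lit 2, nat_lit 0])))) (.node (nat_lit 1340) (.leaf ((nat_lit 803), [nat_lit 4, nat_lit 5, nat_lit 3, nat_lit 2, nat_lit 5, nat_lit 4, nat_lit 0, nat_lit 1, nat_lit 0, nat_lit 3, nat_lit 2, nat_lit 0, nat_lit 1, nat_lit 0, nat_lit 2, nat_lit 2]))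 (.node (nat_lit 1341) (.leaf ((nat_lit 51), [nat_lit 0, nat_lit 1, nat_lit 0, nat_lit 3, nat_lit 2, nat_lit 3, nat_lit 0, nat_lit 2, nat_lit 2, nat_lit 0, nat_lit 2, nat_lit 0])) (.leaf ((nat_lit 958), [nat_lit 2, nat_lit 5, nat_lit 1, nat_lit 5, nat_lit 4, nat_lit 2, nat_lit 3, nat_lit 4, nat_lit 2, nat_lit 3, nat_lit 1, nat_lit 0, nat_lit 2, nat_lit 2])))))))
 (.node (nat_lit 1353) (.node (nat_lit 1347) (.node (nat_lit 1344) (.node (nat_lit 1343) (.leaf ((nat_lit 1025), [nat_lit 2, nat_lit 5, nat_lit 2, nat_lit 3, nat_lit 5, nat_lit 4, nat_lit 2, nat_lit 4, nat_lit 0, nat_lit 1, nat_lit 0, nat_lit 3, nat_lit 1, nat_lit 0, nat_lit 2, nat_lit 2, nat_lit 0, nat_lit 1, nat_lit 0])) (.leaf ((nat_lit 1026), [nat_lit 2, nat_lit 2, nat_lit 5, nat_lit 1, nat_lit 5, nat_lit 4, nat_lit 3, nat_lit 1, nat_lit 3, nat_lit 0, nat_lit 3, nat_lit 2, nat_lit 2, nat_lit 0, nat_lit 1, nat_lit 0, nat_lit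 2, nat_lit 0]))) (.node (nat_lit 1345) (.leaf ((nat_lit 917), [nat_lit 2, nat_lit 0, nat_lit 2, nat_lit 5, nat_lit 1, nat_lit 3, nat_lit 1, nat_lit 0, nat_lit 4, nat_lit 2, nat_lit 2, nat_lit 0, nat_lit 2, nat_lit 2, nat_lit 0, nat_lit 2, nat_lit 0])) (.node (nat_lit 1346) (.leaf ((nat_lit 1027), [nat_lit 2, nat_lit 0, nat_lit 2, nat_lit 5, nat_lit 4, nat_lit 2, nat_lit 3, nat_lit 4, nat_lit 1])) (.leaf ((nat_lit 232), [nat_lit 5, nat_lit 1, nat_lit 5, nat_lit 2, nat_lit 3, nat_lit 0, nat_lit 1, nat_lit 0, nat_lit 3, nat_lit 0, nat_lit 1, nat_lit 0, nat_lit 2, nat_lit 0, nat_lit 2])))))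
 (.node (nat_lit 1350) (.node (nat_lit 1348) (.leaf ((nat_lit 13), [nat_lit 0, nat_lit 2, nat_lit 5, nat_lit 2, nat_lit 3, nat_lit 1, nat_lit 3, nat_lit 0, nat_lit 3, nat_lit 2, nat_lit 0, nat_lit 1])) (.node (nat_lit 1349) (.leaf ((nat_lit 1028), [nat_lit 3, nat_lit 2, nat_lit 3, nat_lit 5, nat_lit 3, nat_lit 0, nat_lit 2, nat_lit 3, nat_lit 2, nat_lit 0, nat_lit 2, nat_lit 0, nat_lit 1, nat_lit 0])) (.leaf ((nat_lit 1029), [nat_lit 4, nat_lit 1, nat_lit 0, nat_lit 5, nat_lit 1, nat_lit 4, nat_lit 1, nat_lit 4, nat_lit 3, nat_lit 2, nat_lit 2, nat_lit 0, nat_lit 2, nat_lit 2, nat_lit 0])))) (.node (nat_lit 1351) (.leaf ((nat_lit 1030), [nat_lit 5, nat_lit 1, nat_lit 0, nat_lit 2, nat_lit 5, nat_lit 3, nat_lit 4, nat_lit 0, nat_lit 3, nat_lit 1, nat_lit 3, nat_lit 2, nat_lit 0, nat_lit 2, nat_lit 0, nat_lit 1, nat_lit 0, nat_lit 1, nat_lit 0])) (.node (nat_lit 1352) (.leaf ((nat_lit 467),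 [nat_lit 3, nat_lit 1, nat_lit 5, nat_lit 2, nat_lit 5, nat_lit 3, nat_lit 4, nat_lit 1, nat_lit 0, nat_lit 3, nat_lit 0, nat_lit 2, nat_lit 0, nat_lit 1, nat_lit 0, nat_lit 1, nat_lit 0])) (.leaf ((nat_lit 1031), [nat_lit 0, nat_lit 2, nat_lit 4, nat_lit 0, nat_lit 5, nat_lit 2, nat_lit 3, nat_lit 2, nat_lit 3, nat_lit 1, nat_lit 0, nat_lit 1, nat_lit 0, nat_lit 2]))))))
 (.node (nat_lit 1358) (.node (nat_lit 1355) (.node (nat_lit 1354) (.leaf ((nat_lit 730), [nat_lit 4, nat_lit 5, nat_lit 3, nat_lit 5, nat_lit 1, nat_lit 0, nat_lit 3, nat_lit 0, nat_lit 4, nat_lit 2, nat_lit 2, nat_lit 0, nat_lit 2])) (.leaf ((nat_lit 1032), [nat_lit 4, nat_lit 2, nat_lit 5, nat_lit 1, nat_lit 5, nat_lit 0, nat_lit 2, nat_lit 3, nat_lit 4, nat_lit 1, nat_lit 3, nat_lit 0, nat_lit 1, nat_lit 0, nat_lit 2, nat_lit 2]))) (.node (nat_lit 1356) (.leaf ((nat_lit 304), [nat_lit 1, nat_lit 0, nat_lit 5, nat_lit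 1, nat_lit 4, nat_lit 0, nat_lit 1, nat_lit 0, nat_lit 3, nat_lit 0])) (.node (nat_lit 1357) (.leaf ((nat_lit 1033), [nat_lit 5, nat_lit 4, nat_lit 3, nat_lit 2, nat_lit 5, nat_lit 2, nat_lit 3, nat_lit 4, nat_lit 1, nat_lit 0, nat_lit 3])) (.leaf ((nat_lit 1034), [nat_lit 2, nat_lit 5, nat_lit 3, nat_lit 5, nat_lit 0, nat_lit 2, nat_lit 2, nat_lit 0, nat_lit 4, nat_lit 2, nat_lit 2, nat_lit 0, nat_lit 2, nat_lit 2, nat_lit 0, nat_lit 2])))))
 (.node (nat_lit 1361) (.node (nat_lit 1359) (.leaf ((nat_lit 1035), [nat_lit 2, nat_lit 5, nat_lit 2, nat_lit 3, nat_lit 5, nat_lit 2, nat_lit 2, nat_lit 0, nat_lit 3, nat_lit 0, nat_lit 4, nat_lit 2, nat_lit 2, nat_lit 0, nat_lit 2, nat_lit 2])) (.node (nat_lit 1360) (.leaf ((nat_lit 1036), [nat_lit 2, nat_lit 4, nat_lit 2, nat_lit 0, nat_lit 5, nat_lit 2, nat_lit 4, nat_lit 2, nat_lit 3, nat_lit 0, nat_lit 3, nat_lit 1, nat_lit 0, nat_lit 2, nat_lit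 0, nat_lit 2, nat_lit 2])) (.leaf ((nat_lit 48), [nat_lit 0, nat_lit 5, nat_lit 2, nat_lit 5, nat_lit 3, nat_lit 0, nat_lit 4, nat_lit 3, nat_lit 0, nat_lit 3, nat_lit 2, nat_lit 0])))) (.node (nat_lit 1362) (.leaf ((nat_lit 1037), [nat_lit 5, nat_lit 4, nat_lit 1, nat_lit 0, nat_lit 5, nat_lit 4, nat_lit 2, nat_lit 0, nat_lit 4, nat_lit 3, nat_lit 0, nat_lit 2, nat_lit 2, nat_lit 0, nat_lit 2, nat_lit 0, nat_lit 1])) (.node (nat_lit 1363) (.leaf ((nat_lit 723), [nat_lit 5, nat_lit 3, nat_lit 5, nat_lit 4, nat_lit 0, nat_lit 3, nat_lit 4, nat_lit 3, nat_lit 0, nat_lit 2, nat_lit 2, nat_lit 0, nat_lit 1, nat_lit 0])) (.leaf ((nat_lit 262), [nat_lit 4, nat_lit 5, nat_lit 4, nat_lit 0, nat_lit 5, nat_lit 2, nat_lit 3, nat_lit 0, nat_lit 2, nat_lit 4, nat_lit 3, nat_lit 2, nat_lit 2, nat_lit 0, nat_lit 1]))))))))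
 (.node (nat_lit 1386) (.node (nat_lit 1375) (.node (nat_lit 1369) (.node (nat_lit 1366) (.node (nat_lit 1365) (.leaf ((nat_lit 293), [nat_lit 4, nat_lit 5, nat_lit 2, nat_lit 5, nat_lit 2, nat_lit 0, nat_lit 1, nat_lit 0, nat_lit 4, nat_lit 0, nat_lit 2, nat_lit 2, nat_lit 0, nat_lit 2])) (.leaf ((nat_lit 363), [nat_lit 0, nat_lit 2, nat_lit 4, nat_lit 0, nat_lit 5, nat_lit 0, nat_lit 2, nat_lit 3, nat_lit 1, nat_lit 3]))) (.node (nat_lit 1367) (.leaf ((nat_lit 175), [nat_lit 4, nat_lit 5, nat_lit 4, nat_lit 0, nat_lit 5, nat_lit 4, nat_lit 3, nat_lit 1, nat_lit 0, nat_lit 2, nat_lit 3, nat_lit 2, nat_lit 0, nat_lit 1, nat_lit 0, nat_lit 2, nat_lit 0, nat_lit 2, nat_lit 0])) (.node (nat_lit 1368) (.leaf ((nat_lit 66), [nat_lit 4, nat_lit 5, nat_lit 0, nat_lit 3, nat_lit 5, nat_lit 4, nat_lit 3, nat_lit 2, nat_lit 4, nat_lit 1, nat_lit 0, nat_lit 2, nat_lit 2, nat_lit 0])) (.leaf ((nat_lit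 763), [nat_lit 0, nat_lit 2, nat_lit 5, nat_lit 0, nat_lit 1, nat_lit 0, nat_lit 3, nat_lit 2, nat_lit 3, nat_lit 1, nat_lit 0, nat_lit 1, nat_lit 0, nat_lit 2, nat_lit 0, nat_lit 2])))))
 (.node (nat_lit 1372) (.node (nat_lit 1370) (.leaf ((nat_lit 1038), [nat_lit 5, nat_lit 1, nat_lit 5, nat_lit 3, nat_lit 2, nat_lit 4, nat_lit 3, nat_lit 1, nat_lit 0, nat_lit 2, nat_lit 0, nat_lit 1, nat_lit 0])) (.node (nat_lit 1371) (.leaf ((nat_lit 307), [nat_lit 0, nat_lit 5, nat_lit 2, nat_lit 5, nat_lit 4, nat_lit 1, nat_lit 3, nat_lit 2, nat_lit 4, nat_lit 1, nat_lit 0, nat_lit 1, nat_lit 0, nat_lit 2, nat_lit 0, nat_lit 2, nat_lit 0])) (.leaf ((nat_lit 200), [nat_lit 0, nat_lit 3, nat_lit 5, nat_lit 3, nat_lit 1, nat_lit 3, nat_lit 1, nat_lit 3, nat_lit 1, nat_lit 0, nat_lit 2, nat_lit 2, nat_lit 0, nat_lit 1])))) (.node (nat_lit 1373) (.leaf ((nat_lit 118), [nat_lit 4, nat_lit 5, nat_lit 3,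 nat_lit 2, nat_lit 5, nat_lit 0, nat_lit 1, nat_lit 4, nat_lit 1, nat_lit 0, nat_lit 3, nat_lit 1, nat_lit 0, nat_lit 1, nat_lit 0, nat_lit 2, nat_lit 2, nat_lit 0])) (.node (nat_lit 1374) (.leaf ((nat_lit 1039), [nat_lit 5, nat_lit 4, nat_lit 2, nat_lit 0, nat_lit 5, nat_lit 1, nat_lit 3, nat_lit 0, nat_lit 1, nat_lit 4, nat_lit 1, nat_lit 0, nat_lit 2, nat_lit 2])) (.leaf ((nat_lit 87), [nat_lit 3, nat_lit 1, nat_lit 3, nat_lit 0, nat_lit 5, nat_lit 4, nat_lit 2, nat_lit 4, nat_lit 0, nat_lit 1, nat_lit 0, nat_lit 3, nat_lit 0, nat_lit 1]))))))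
 (.node (nat_lit 1380) (.node (nat_lit 1377) (.node (nat_lit 1376) (.leaf ((nat_lit 1040), [nat_lit 5, nat_lit 3, nat_lit 2, nat_lit 0, nat_lit 5, nat_lit 2, nat_lit 3, nat_lit 4, nat_lit 2, nat_lit 0, nat_lit 1, nat_lit 0, nat_lit 1, nat_lit 0])) (.leaf ((nat_lit 1041), [nat_lit 3, nat_lit 5, nat_lit 0, nat_lit 5, nat_lit 3, nat_lit 1, nat_lit 4, nat_lit 3, nat_lit 1, nat_lit 0, nat_lit 2, nat_lit 0, nat_lit 1, nat_lit 0]))) (.node (nat_lit 1378) (.leaf ((nat_lit 1042), [nat_lit 3, nat_lit 5, nat_lit 1, nat_lit 3, nat_lit 0, nat_lit 5, nat_lit 4, nat_lit 1, nat_lit 3, nat_lit 4, nat_lit 3, nat_lit 2, nat_lit 2, nat_lit 0, nat_lit 1, nat_lit 0, nat_lit 2, nat_lit 0])) (.node (nat_lit 1379) (.leaf ((nat_lit 1043), [nat_lit 4, nat_lit 5, nat_lit 0, nat_lit 3, nat_lit 5, nat_lit 3, nat_lit 1, nat_lit 3, nat_lit 0, nat_lit 2, nat_lit 4, nat_lit 1, nat_lit 0, nat_lit 2, nat_lit 2, nat_lit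 0])) (.leaf ((nat_lit 1031), [nat_lit 1, nat_lit 0, nat_lit 2, nat_lit 5, nat_lit 0, nat_lit 4, nat_lit 3, nat_lit 0, nat_lit 3, nat_lit 2, nat_lit 0, nat_lit 2, nat_lit 2, nat_lit 0, nat_lit 1, nat_lit 0])))))
 (.node (nat_lit 1383) (.node (nat_lit 1381) (.leaf ((nat_lit 1044), [nat_lit 5, nat_lit 4, nat_lit 5, nat_lit 2, nat_lit 5, nat_lit 4, nat_lit 1, nat_lit 0, nat_lit 4, nat_lit 3, nat_lit 0, nat_lit 2, nat_lit 2, nat_lit 0, nat_lit 1])) (.node (nat_lit 1382) (.leaf ((nat_lit 510), [nat_lit 2, nat_lit 5, nat_lit 1, nat_lit 5, nat_lit 4, nat_lit 1, nat_lit 0, nat_lit 4, nat_lit 3, nat_lit 1, nat_lit 0, nat_lit 2, nat_lit 0, nat_lit 2])) (.leaf ((nat_lit 1045), [nat_lit 5, nat_lit 2, nat_lit 2, nat_lit 0, nat_lit 5, nat_lit 2, nat_lit 4, nat_lit 0, nat_lit 1, nat_lit 4, nat_lit 2, nat_lit 0, nat_lit 2])))) (.node (nat_lit 1384) (.leaf ((nat_lit 1046), [nat_lit 5, nat_lit 2, nat_lit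 3, nat_lit 5, nat_lit 3, nat_lit 4, nat_lit 1, nat_lit 3, nat_lit 0, nat_lit 3, nat_lit 0, nat_lit 2])) (.node (nat_lit 1385) (.leaf ((nat_lit 663), [nat_lit 4, nat_lit 5, nat_lit 2, nat_lit 0, nat_lit 5, nat_lit 0, nat_lit 1, nat_lit 3, nat_lit 0, nat_lit 3, nat_lit 2, nat_lit 0, nat_lit 1, nat_lit 0, nat_lit 1, nat_lit 0, nat_lit 2, nat_lit 0])) (.leaf ((nat_lit 1047), [nat_lit 2, nat_lit 5, nat_lit 3, nat_lit 5, nat_lit 3, nat_lit 4, nat_lit 0, nat_lit 4, nat_lit 1, nat_lit 3, nat_lit 2, nat_lit 2, nat_lit 0, nat_lit 2, nat_lit 2, nat_lit 0, nat_lit 2, nat_lit 2])))))))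
 (.node (nat_lit 1397) (.node (nat_lit 1391) (.node (nat_lit 1388) (.node (nat_lit 1387) (.leaf ((nat_lit 1048), [nat_lit 2, nat_lit 4, nat_lit 2, nat_lit 0, nat_lit 5, nat_lit 3, nat_lit 1, nat_lit 0, nat_lit 2, nat_lit 3, nat_lit 1, nat_lit 0, nat_lit 1, nat_lit 0, nat_lit 2, nat_lit 0, nat_lit 2])) (.leaf ((nat_lit 1049), [nat_lit 4, nat_lit 3, nat_lit 5, nat_lit 0, nat_lit 5, nat_lit 4, nat_lit 3, nat_lit 0, nat_lit 4, nat_lit 1, nat_lit 0, nat_lit 3, nat_lit 0, nat_lit 2, nat_lit 0, nat_lit 2]))) (.node (nat_lit 1389) (.leaf ((nat_lit 502), [nat_lit 2, nat_lit 4, nat_lit 0, nat_lit 5, nat_lit 3, nat_lit 2, nat_lit 4, nat_lit 2, nat_lit 2, nat_lit 0, nat_lit 1])) (.node (nat_lit 1390) (.leaf ((nat_lit 1050), [nat_lit 3, nat_lit 2, nat_lit 0, nat_lit 5, nat_lit 3, nat_lit 2, nat_lit 3, nat_lit 2, nat_lit 0, nat_lit 2, nat_lit 0, nat_lit 1, nat_lit 0])) (.leaf ((nat_lit 565), [nat_lit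 3, nat_lit 1, nat_lit 5, nat_lit 2, nat_lit 5, nat_lit 0, nat_lit 2, nat_lit 0, nat_lit 3, nat_lit 4, nat_lit 1])))))
 (.node (nat_lit 1394) (.node (nat_lit 1392) (.leaf ((nat_lit 1051), [nat_lit 4, nat_lit 2, nat_lit 5, nat_lit 3, nat_lit 5, nat_lit 3, nat_lit 0, nat_lit 4, nat_lit 2, nat_lit 0, nat_lit 3, nat_lit 2, nat_lit 2, nat_lit 0, nat_lit 2, nat_lit 2, nat_lit 0, nat_lit 2])) (.node (nat_lit 1393) (.leaf ((nat_lit 443), [nat_lit 5, nat_lit 2, nat_lit 3, nat_lit 0, nat_lit 5, nat_lit 3, nat_lit 2, nat_lit 3, nat_lit 0, nat_lit 4, nat_lit 1, nat_lit 0])) (.leaf ((nat_lit 1052), [nat_lit 2, nat_lit 2, nat_lit 5, nat_lit 2, nat_lit 0, nat_lit 2, nat_lit 3, nat_lit 2, nat_lit 0, nat_lit 1, nat_lit 0, nat_lit 2, nat_lit 2, nat_lit 0])))) (.node (nat_lit 1395) (.leaf ((nat_lit 1053), [nat_lit 3, nat_lit 5, nat_lit 3, nat_lit 0, nat_lit 5, nat_lit 2, nat_lit 3, nat_lit 4, nat_lit 2,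 nat_lit 4, nat_lit 1, nat_lit 0, nat_lit 1, nat_lit 0, nat_lit 2, nat_lit 0, nat_lit 2])) (.node (nat_lit 1396) (.leaf ((nat_lit 1054), [nat_lit 5, nat_lit 4, nat_lit 5, nat_lit 3, nat_lit 2, nat_lit 2, nat_lit 3, nat_lit 0, nat_lit 1, nat_lit 0, nat_lit 1, nat_lit 0, nat_lit 2, nat_lit 0])) (.leaf ((nat_lit 1055), [nat_lit 0, nat_lit 5, nat_lit 0, nat_lit 1, nat_lit 5, nat_lit 3, nat_lit 4, nat_lit 3, nat_lit 2, nat_lit 4, nat_lit 3, nat_lit 2, nat_lit 0, nat_lit 1, nat_lit 0]))))))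
 (.node (nat_lit 1402) (.node (nat_lit 1399) (.node (nat_lit 1398) (.leaf ((nat_lit 1056), [nat_lit 0, nat_lit 5, nat_lit 3, nat_lit 0, nat_lit 5, nat_lit 3, nat_lit 0, nat_lit 1, nat_lit 0, nat_lit 4, nat_lit 0, nat_lit 2, nat_lit 2, nat_lit 0, nat_lit 2, nat_lit 0, nat_lit 1, nat_lit 0])) (.leaf ((nat_lit 1057), [nat_lit 0, nat_lit 2, nat_lit 5, nat_lit 4, nat_lit 1, nat_lit 3, nat_lit 2, nat_lit 4, nat_lit 2, nat_lit 2, nat_lit 0, nat_lit 2, nat_lit 2, nat_lit 0, nat_lit 2, nat_lit 2, nat_lit 0]))) (.node (nat_lit 1400) (.leaf ((nat_lit 1000), [nat_lit 2, nat_lit 4, nat_lit 5, nat_lit 2, nat_lit 0, nat_lit 5, nat_lit 1, nat_lit 4, nat_lit 0, nat_lit 3, nat_lit 4, nat_lit 1, nat_lit 0, nat_lit 2, nat_lit 2, nat_lit 0, nat_lit 1, nat_lit 0])) (.node (nat_lit 1401) (.leaf ((nat_lit 860), [nat_lit 5, nat_lit 3, nat_lit 0, nat_lit 5, nat_lit 0, nat_lit 4, nat_lit 2, nat_lit 0, nat_lit 2,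 nat_lit 3, nat_lit 1, nat_lit 0, nat_lit 1])) (.leaf ((nat_lit 147), [nat_lit 4, nat_lit 3, nat_lit 0, nat_lit 5, nat_lit 3, nat_lit 2, nat_lit 3, nat_lit 2, nat_lit 2, nat_lit 3, nat_lit 2, nat_lit 2, nat_lit 0, nat_lit 2, nat_lit 2, nat_lit 0, nat_lit 2, nat_lit 2, nat_lit 0])))))
 (.node (nat_lit 1405) (.node (nat_lit 1403) (.leaf ((nat_lit 1058), [nat_lit 4, nat_lit 5, nat_lit 2, nat_lit 0, nat_lit 5, nat_lit 2, nat_lit 0, nat_lit 3, nat_lit 0, nat_lit 2, nat_lit 3, nat_lit 0, nat_lit 2, nat_lit 2, nat_lit 0])) (.node (nat_lit 1404) (.leaf ((nat_lit 718), [nat_lit 0, nat_lit 5, nat_lit 3, nat_lit 5, nat_lit 0, nat_lit 3, nat_lit 0, nat_lit 1, nat_lit 0, nat_lit 2, nat_lit 0, nat_lit 2, nat_lit 2, nat_lit 0])) (.leaf ((nat_lit 1059), [nat_lit 5, nat_lit 3, nat_lit 2, nat_lit 5, nat_lit 4, nat_lit 0, nat_lit 4, nat_lit 3, nat_lit 2, nat_lit 2])))) (.node (nat_lit 1406) (.leaf ((nat_lit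 1060), [nat_lit 2, nat_lit 4, nat_lit 5, nat_lit 2, nat_lit 0, nat_lit 5, nat_lit 2, nat_lit 0, nat_lit 1, nat_lit 0, nat_lit 4, nat_lit 2, nat_lit 2, nat_lit 0, nat_lit 2, nat_lit 0, nat_lit 1, nat_lit 0])) (.node (nat_lit 1407) (.leaf ((nat_lit 542), [nat_lit 0, nat_lit 5, nat_lit 2, nat_lit 0, nat_lit 5, nat_lit 3, nat_lit 0, nat_lit 2, nat_lit 2, nat_lit 3, nat_lit 2, nat_lit 0, nat_lit 2, nat_lit 2, nat_lit 0, nat_lit 1, nat_lit 0])) (.leaf ((nat_lit 157), [nat_lit 0, nat_lit 2, nat_lit 5, nat_lit 3, nat_lit 5, nat_lit 3, nat_lit 1, nat_lit 4, nat_lit 2, nat_lit 4, nat_lit 3, nat_lit 0, nat_lit 2, nat_lit 0, nat_lit 2]))))))))))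
noncomputable def bWd_8 : Tr (ℕ × List ℕ) := (.node (nat_lit 1496) (.node (nat_lit 1452) (.node (nat_lit 1430) (.node (nat_lit 1419) (.node (nat_lit 1413) (.node (nat_lit 1410) (.node (nat_lit 1409) (.leaf ((nat_lit 1061), [nat_lit 5, nat_lit 1, nat_lit 5, nat_lit 0, nat_lit 5, nat_lit 2, nat_lit 4, nat_lit 2, nat_lit 0, nat_lit 2, nat_lit 3, nat_lit 1, nat_lit 0, nat_lit 1, nat_lit 0, nat_lit 2, nat_lit 2])) (.leaf ((nat_lit 739), [nat_lit 4, nat_lit 1, nat_lit 5, nat_lit 3, nat_lit 5, nat_lit 3, nat_lit 2, nat_lit 0, nat_lit 2, nat_lit 4, nat_lit 0, nat_lit 2, nat_lit 2, nat_lit 0, nat_lit 2, nat_lit 0]))) (.node (nat_lit 1411) (.leaf ((nat_lit 1062), [nat_lit 3, nat_lit 2, nat_lit 0, nat_lit 5, nat_lit 4, nat_lit 1, nat_lit 3, nat_lit 2, nat_lit 2, nat_lit 3, nat_lit 1, nat_lit 0, nat_lit 1, nat_lit 0, nat_lit 2])) (.node (nat_lit 1412) (.leaf ((nat_lit 227), [nat_lit 1, nat_lit 0,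 nat_lit 5, nat_lit 3, nat_lit 5, nat_lit 4, nat_lit 3, nat_lit 0, nat_lit 2, nat_lit 4, nat_lit 2, nat_lit 0, nat_lit 2, nat_lit 2, nat_lit 0, nat_lit 2, nat_lit 0])) (.leaf ((nat_lit 1063), [nat_lit 4, nat_lit 1, nat_lit 5, nat_lit 0, nat_lit 5, nat_lit 2, nat_lit 0, nat_lit 1, nat_lit 0, nat_lit 3, nat_lit 0, nat_lit 1, nat_lit 0, nat_lit 2, nat_lit 0])))))
 (.node (nat_lit 1416) (.node (nat_lit 1414) (.leaf ((nat_lit 1064), [nat_lit 3, nat_lit 5, nat_lit 0, nat_lit 5, nat_lit 1, nat_lit 0, nat_lit 2, nat_lit 4, nat_lit 2, nat_lit 2, nat_lit 0, nat_lit 2, nat_lit 2, nat_lit 0, nat_lit 1, nat_lit 0])) (.node (nat_lit 1415) (.leaf ((nat_lit 1050), [nat_lit 3, nat_lit 5, nat_lit 1, nat_lit 3, nat_lit 0, nat_lit 5, nat_lit 3, nat_lit 4, nat_lit 3, nat_lit 2, nat_lit 3, nat_lit 0, nat_lit 2, nat_lit 2, nat_lit 0, nat_lit 1, nat_lit 0, nat_lit 2])) (.leaf ((nat_lit 1065), [nat_lit 2, nat_lit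 3, nat_lit 5, nat_lit 0, nat_lit 5, nat_lit 1, nat_lit 0, nat_lit 3, nat_lit 2, nat_lit 0, nat_lit 2, nat_lit 0, nat_lit 1, nat_lit 0])))) (.node (nat_lit 1417) (.leaf ((nat_lit 67), [nat_lit 0, nat_lit 5, nat_lit 2, nat_lit 0, nat_lit 5, nat_lit 0, nat_lit 3, nat_lit 2, nat_lit 0, nat_lit 2, nat_lit 2, nat_lit 0, nat_lit 2, nat_lit 0])) (.node (nat_lit 1418) (.leaf ((nat_lit 884), [nat_lit 4, nat_lit 5, nat_lit 3, nat_lit 0, nat_lit 5, nat_lit 4, nat_lit 2, nat_lit 3, nat_lit 1, nat_lit 3, nat_lit 2, nat_lit 0, nat_lit 2, nat_lit 2, nat_lit 0, nat_lit 2, nat_lit 2])) (.leaf ((nat_lit 1066), [nat_lit 4, nat_lit 3, nat_lit 5, nat_lit 0, nat_lit 5, nat_lit 3, nat_lit 1, nat_lit 4, nat_lit 3, nat_lit 0, nat_lit 2, nat_lit 0, nat_lit 2, nat_lit 2, nat_lit 0, nat_lit 1]))))))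
 (.node (nat_lit 1424) (.node (nat_lit 1421) (.node (nat_lit 1420) (.leaf ((nat_lit 1067), [nat_lit 4, nat_lit 3, nat_lit 0, nat_lit 5, nat_lit 2, nat_lit 3, nat_lit 0, nat_lit 2, nat_lit 4, nat_lit 3, nat_lit 2, nat_lit 0, nat_lit 1, nat_lit 0, nat_lit 1, nat_lit 0])) (.leaf ((nat_lit 667), [nat_lit 5, nat_lit 2, nat_lit 5, nat_lit 4, nat_lit 0, nat_lit 4, nat_lit 2, nat_lit 2, nat_lit 0, nat_lit 1, nat_lit 0, nat_lit 2]))) (.node (nat_lit 1422) (.leaf ((nat_lit 870), [nat_lit 5, nat_lit 0, nat_lit 1, nat_lit 5, nat_lit 3, nat_lit 4, nat_lit 2, nat_lit 0, nat_lit 2, nat_lit 3, nat_lit 2, nat_lit 2, nat_lit 0, nat_lit 2, nat_lit 2])) (.node (nat_lit 1423) (.leaf ((nat_lit 195), [nat_lit 0, nat_lit 2, nat_lit 5, nat_lit 0, nat_lit 4, nat_lit 2, nat_lit 3, nat_lit 0, nat_lit 3, nat_lit 1, nat_lit 0, nat_lit 1, nat_lit 0, nat_lit 2])) (.leaf ((nat_lit 1068), [nat_lit 3, nat_lit 4, nat_lit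 3, nat_lit 5, nat_lit 1, nat_lit 0, nat_lit 4, nat_lit 3, nat_lit 0, nat_lit 3, nat_lit 2, nat_lit 2, nat_lit 0, nat_lit 2, nat_lit 2, nat_lit 0, nat_lit 1])))))
 (.node (nat_lit 1427) (.node (nat_lit 1425) (.leaf ((nat_lit 1069), [nat_lit 3, nat_lit 0, nat_lit 5, nat_lit 1, nat_lit 3, nat_lit 2, nat_lit 4, nat_lit 3, nat_lit 0, nat_lit 1, nat_lit 0, nat_lit 2, nat_lit 0, nat_lit 2])) (.node (nat_lit 1426) (.leaf ((nat_lit 1070), [nat_lit 3, nat_lit 4, nat_lit 3, nat_lit 5, nat_lit 0, nat_lit 3, nat_lit 0, nat_lit 2, nat_lit 4, nat_lit 1, nat_lit 0, nat_lit 2, nat_lit 2, nat_lit 0, nat_lit 2])) (.leaf ((nat_lit 1071), [nat_lit 2, nat_lit 5, nat_lit 2, nat_lit 3, nat_lit 5, nat_lit 2, nat_lit 4, nat_lit 1, nat_lit 0, nat_lit 3, nat_lit 0, nat_lit 2, nat_lit 0, nat_lit 1, nat_lit 0])))) (.node (nat_lit 1428) (.leaf ((nat_lit 1072), [nat_lit 2, nat_lit 2, nat_lit 5, nat_lit 0, nat_lit 2,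 nat_lit 0, nat_lit 3, nat_lit 4, nat_lit 0, nat_lit 2, nat_lit 2, nat_lit 0, nat_lit 1, nat_lit 0])) (.node (nat_lit 1429) (.leaf ((nat_lit 1073), [nat_lit 4, nat_lit 0, nat_lit 5, nat_lit 2, nat_lit 5, nat_lit 0, nat_lit 2, nat_lit 0, nat_lit 4, nat_lit 1, nat_lit 4, nat_lit 1, nat_lit 0, nat_lit 2, nat_lit 0, nat_lit 2])) (.leaf ((nat_lit 1074), [nat_lit 5, nat_lit 3, nat_lit 0, nat_lit 5, nat_lit 2, nat_lit 4, nat_lit 0, nat_lit 2, nat_lit 2, nat_lit 0])))))))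
 (.node (nat_lit 1441) (.node (nat_lit 1435) (.node (nat_lit 1432) (.node (nat_lit 1431) (.leaf ((nat_lit 1075), [nat_lit 0, nat_lit 5, nat_lit 3, nat_lit 0, nat_lit 5, nat_lit 3, nat_lit 1, nat_lit 4, nat_lit 3, nat_lit 2, nat_lit 0, nat_lit 3, nat_lit 1, nat_lit 0, nat_lit 1, nat_lit 0, nat_lit 2, nat_lit 0])) (.leaf ((nat_lit 1076), [nat_lit 0, nat_lit 4, nat_lit 2, nat_lit 0, nat_lit 5, nat_lit 2, nat_lit 4, nat_lit 0, nat_lit 3, nat_lit 4, nat_lit 0, nat_lit 1, nat_lit 0, nat_lit 1, nat_lit 0, nat_lit 2]))) (.node (nat_lit 1433) (.leaf ((nat_lit 1077), [nat_lit 4, nat_lit 1, nat_lit 0, nat_lit 5, nat_lit 4, nat_lit 3, nat_lit 2, nat_lit 3, nat_lit 0, nat_lit 3, nat_lit 1, nat_lit 0, nat_lit 2, nat_lit 0, nat_lit 2, nat_lit 0])) (.node (nat_lit 1434) (.leaf ((nat_lit 206), [nat_lit 1, nat_lit 5, nat_lit 2, nat_lit 5, nat_lit 4, nat_lit 0, nat_lit 1, nat_lit 0, nat_lit 3, nat_lit 2,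 nat_lit 2, nat_lit 0, nat_lit 2, nat_lit 2, nat_lit 0, nat_lit 2, nat_lit 2, nat_lit 0])) (.leaf ((nat_lit 930), [nat_lit 4, nat_lit 5, nat_lit 3, nat_lit 2, nat_lit 4, nat_lit 2, nat_lit 3, nat_lit 4, nat_lit 2, nat_lit 0, nat_lit 1, nat_lit 0, nat_lit 1, nat_lit 0, nat_lit 2])))))
 (.node (nat_lit 1438) (.node (nat_lit 1436) (.leaf ((nat_lit 1078), [nat_lit 5, nat_lit 1, nat_lit 3, nat_lit 2, nat_lit 5, nat_lit 2, nat_lit 3, nat_lit 4, nat_lit 0, nat_lit 2, nat_lit 0, nat_lit 2])) (.node (nat_lit 1437) (.leaf ((nat_lit 1079), [nat_lit 5, nat_lit 3, nat_lit 5, nat_lit 3, nat_lit 4, nat_lit 0, nat_lit 4, nat_lit 1, nat_lit 3, nat_lit 1, nat_lit 0, nat_lit 2, nat_lit 2, nat_lit 0, nat_lit 2, nat_lit 2, nat_lit 0])) (.leaf ((nat_lit 734), [nat_lit 2, nat_lit 4, nat_lit 5, nat_lit 2, nat_lit 0, nat_lit 5, nat_lit 0, nat_lit 1, nat_lit 0, nat_lit 3, nat_lit 2, nat_lit 3, nat_lit 2, nat_lit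 0, nat_lit 2, nat_lit 0, nat_lit 1])))) (.node (nat_lit 1439) (.leaf ((nat_lit 301), [nat_lit 1, nat_lit 5, nat_lit 3, nat_lit 5, nat_lit 4, nat_lit 3, nat_lit 1, nat_lit 3, nat_lit 0, nat_lit 3, nat_lit 1, nat_lit 0, nat_lit 2, nat_lit 0, nat_lit 1, nat_lit 0])) (.node (nat_lit 1440) (.leaf ((nat_lit 552), [nat_lit 3, nat_lit 5, nat_lit 0, nat_lit 5, nat_lit 2, nat_lit 4, nat_lit 1, nat_lit 0, nat_lit 1, nat_lit 0, nat_lit 3, nat_lit 0, nat_lit 1, nat_lit 0, nat_lit 2, nat_lit 0, nat_lit 2, nat_lit 2, nat_lit 0])) (.leaf ((nat_lit 1080), [nat_lit 2, nat_lit 2, nat_lit 5, nat_lit 2, nat_lit 0, nat_lit 1, nat_lit 0, nat_lit 4, nat_lit 2, nat_lit 2, nat_lit 0, nat_lit 1, nat_lit 0, nat_lit 2, nat_lit 2]))))))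
 (.node (nat_lit 1446) (.node (nat_lit 1443) (.node (nat_lit 1442) (.leaf ((nat_lit 927), [nat_lit 0, nat_lit 5, nat_lit 3, nat_lit 5, nat_lit 2, nat_lit 4, nat_lit 2, nat_lit 4, nat_lit 0, nat_lit 2, nat_lit 0, nat_lit 2])) (.leaf ((nat_lit 1081), [nat_lit 4, nat_lit 3, nat_lit 2, nat_lit 5, nat_lit 1, nat_lit 0, nat_lit 4, nat_lit 2, nat_lit 0, nat_lit 2, nat_lit 2, nat_lit 0]))) (.node (nat_lit 1444) (.leaf ((nat_lit 233), [nat_lit 5, nat_lit 4, nat_lit 5, nat_lit 1, nat_lit 5, nat_lit 4, nat_lit 3, nat_lit 2, nat_lit 4, nat_lit 3, nat_lit 1, nat_lit 0, nat_lit 2, nat_lit 0, nat_lit 2, nat_lit 0])) (.node (nat_lit 1445) (.leaf ((nat_lit 1082), [nat_lit 4, nat_lit 0, nat_lit 5, nat_lit 2, nat_lit 5, nat_lit 0, nat_lit 4, nat_lit 3, nat_lit 0, nat_lit 4, nat_lit 1, nat_lit 0, nat_lit 1, nat_lit 0, nat_lit 2, nat_lit 0, nat_lit 2])) (.leaf ((nat_lit 334), [nat_lit 1, nat_lit 4, nat_lit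 5, nat_lit 1, nat_lit 5, nat_lit 0, nat_lit 3, nat_lit 0, nat_lit 2, nat_lit 4, nat_lit 2, nat_lit 0, nat_lit 2, nat_lit 2, nat_lit 0, nat_lit 2, nat_lit 0])))))
 (.node (nat_lit 1449) (.node (nat_lit 1447) (.leaf ((nat_lit 862), [nat_lit 3, nat_lit 0, nat_lit 2, nat_lit 5, nat_lit 0, nat_lit 4, nat_lit 0, nat_lit 1, nat_lit 4, nat_lit 3, nat_lit 0, nat_lit 2, nat_lit 0, nat_lit 1])) (.node (nat_lit 1448) (.leaf ((nat_lit 1083), [nat_lit 1, nat_lit 0, nat_lit 2, nat_lit 5, nat_lit 4, nat_lit 3, nat_lit 2, nat_lit 0, nat_lit 3, nat_lit 0, nat_lit 2, nat_lit 2])) (.leaf ((nat_lit 417), [nat_lit 3, nat_lit 0, nat_lit 2, nat_lit 5, nat_lit 4, nat_lit 0, nat_lit 3, nat_lit 0, nat_lit 1, nat_lit 4, nat_lit 2, nat_lit 0, nat_lit 2, nat_lit 2, nat_lit 0, nat_lit 1, nat_lit 0])))) (.node (nat_lit 1450) (.leaf ((nat_lit 1084), [nat_lit 3, nat_lit 2, nat_lit 3, nat_lit 5, nat_lit 2, nat_lit 2, nat_lit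 3, nat_lit 0, nat_lit 2, nat_lit 0, nat_lit 2])) (.node (nat_lit 1451) (.leaf ((nat_lit 1085), [nat_lit 1, nat_lit 0, nat_lit 5, nat_lit 3, nat_lit 5, nat_lit 4, nat_lit 1, nat_lit 0, nat_lit 3, nat_lit 2, nat_lit 2, nat_lit 0, nat_lit 1, nat_lit 0, nat_lit 2])) (.leaf ((nat_lit 1086), [nat_lit 1, nat_lit 3, nat_lit 2, nat_lit 5, nat_lit 4, nat_lit 3, nat_lit 0, nat_lit 3, nat_lit 0, nat_lit 2, nat_lit 2, nat_lit 0, nat_lit 2, nat_lit 0, nat_lit 1, nat_lit 0]))))))))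
 (.node (nat_lit 1474) (.node (nat_lit 1463) (.node (nat_lit 1457) (.node (nat_lit 1454) (.node (nat_lit 1453) (.leaf ((nat_lit 144), [nat_lit 5, nat_lit 2, nat_lit 3, nat_lit 5, nat_lit 3, nat_lit 2, nat_lit 2, nat_lit 4, nat_lit 3, nat_lit 1, nat_lit 0, nat_lit 1, nat_lit 0, nat_lit 2])) (.leaf ((nat_lit 1087), [nat_lit 5, nat_lit 0, nat_lit 1, nat_lit 5, nat_lit 0, nat_lit 4, nat_lit 1, nat_lit 0, nat_lit 1, nat_lit 0, nat_lit 2, nat_lit 2]))) (.node (nat_lit 1455) (.leaf ((nat_lit 1088), [nat_lit 3, nat_lit 5, nat_lit 0, nat_lit 3, nat_lit 5, nat_lit 2, nat_lit 3, nat_lit 4, nat_lit 1, nat_lit 0, nat_lit 3, nat_lit 1, nat_lit 0, nat_lit 1, nat_lit 0, nat_lit 2])) (.node (nat_lit 1456) (.leaf ((nat_lit 1089), [nat_lit 5, nat_lit 2, nat_lit 4, nat_lit 0, nat_lit 5, nat_lit 0, nat_lit 4, nat_lit 1, nat_lit 3, nat_lit 0, nat_lit 3, nat_lit 2, nat_lit 0, nat_lit 2])) (.leaf ((nat_lit 4),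 [nat_lit 0, nat_lit 5, nat_lit 0, nat_lit 1, nat_lit 5, nat_lit 2, nat_lit 3, nat_lit 2, nat_lit 2, nat_lit 3, nat_lit 1, nat_lit 0, nat_lit 2])))))
 (.node (nat_lit 1460) (.node (nat_lit 1458) (.leaf ((nat_lit 41), [nat_lit 2, nat_lit 3, nat_lit 0, nat_lit 5, nat_lit 4, nat_lit 3, nat_lit 0, nat_lit 2, nat_lit 2, nat_lit 3, nat_lit 1, nat_lit 0, nat_lit 1, nat_lit 0, nat_lit 2, nat_lit 2])) (.node (nat_lit 1459) (.leaf ((nat_lit 422), [nat_lit 2, nat_lit 2, nat_lit 5, nat_lit 3, nat_lit 0, nat_lit 2, nat_lit 3, nat_lit 1, nat_lit 0, nat_lit 2, nat_lit 0, nat_lit 2, nat_lit 2])) (.leaf ((nat_lit 1090), [nat_lit 3, nat_lit 1, nat_lit 3, nat_lit 0, nat_lit 5, nat_lit 4, nat_lit 0, nat_lit 4, nat_lit 2, nat_lit 2, nat_lit 0, nat_lit 1, nat_lit 0, nat_lit 2, nat_lit 2, nat_lit 0])))) (.node (nat_lit 1461) (.leaf ((nat_lit 1091), [nat_lit 4, nat_lit 1, nat_lit 5, nat_lit 3, nat_lit 5, nat_lit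 3, nat_lit 2, nat_lit 0, nat_lit 4, nat_lit 3, nat_lit 1])) (.node (nat_lit 1462) (.leaf ((nat_lit 375), [nat_lit 3, nat_lit 1, nat_lit 3, nat_lit 0, nat_lit 5, nat_lit 3, nat_lit 2, nat_lit 3, nat_lit 4, nat_lit 1, nat_lit 3, nat_lit 0, nat_lit 1, nat_lit 0, nat_lit 2, nat_lit 2])) (.leaf ((nat_lit 742), [nat_lit 3, nat_lit 0, nat_lit 5, nat_lit 3, nat_lit 1, nat_lit 0, nat_lit 3, nat_lit 1, nat_lit 3, nat_lit 0, nat_lit 1, nat_lit 0, nat_lit 2, nat_lit 2, nat_lit 0, nat_lit 2]))))))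
 (.node (nat_lit 1468) (.node (nat_lit 1465) (.node (nat_lit 1464) (.leaf ((nat_lit 897), [nat_lit 5, nat_lit 3, nat_lit 2, nat_lit 0, nat_lit 5, nat_lit 2, nat_lit 4, nat_lit 2, nat_lit 3, nat_lit 4, nat_lit 2, nat_lit 0, nat_lit 2])) (.leaf ((nat_lit 877), [nat_lit 5, nat_lit 2, nat_lit 0, nat_lit 5, nat_lit 0, nat_lit 4, nat_lit 1, nat_lit 0, nat_lit 3, nat_lit 2, nat_lit 0, nat_lit 2, nat_lit 2, nat_lit 0, nat_lit 2, nat_lit 2]))) (.node (nat_lit 1466) (.leaf ((nat_lit 446), [nat_lit 4, nat_lit 2, nat_lit 5, nat_lit 3, nat_lit 5, nat_lit 2, nat_lit 2, nat_lit 3, nat_lit 0, nat_lit 2, nat_lit 2])) (.node (nat_lit 1467) (.leaf ((nat_lit 1092), [nat_lit 4, nat_lit 1, nat_lit 5, nat_lit 3, nat_lit 5, nat_lit 3, nat_lit 2, nat_lit 3, nat_lit 4, nat_lit 1, nat_lit 3, nat_lit 2, nat_lit 0, nat_lit 1, nat_lit 0, nat_lit 2, nat_lit 0])) (.leaf ((nat_lit 1093), [nat_lit 1, nat_lit 5, nat_lit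 1, nat_lit 5, nat_lit 4, nat_lit 0, nat_lit 4, nat_lit 2, nat_lit 0, nat_lit 3, nat_lit 1, nat_lit 0, nat_lit 2, nat_lit 2, nat_lit 0, nat_lit 1, nat_lit 0])))))
 (.node (nat_lit 1471) (.node (nat_lit 1469) (.leaf ((nat_lit 1094), [nat_lit 4, nat_lit 5, nat_lit 4, nat_lit 2, nat_lit 0, nat_lit 2, nat_lit 3, nat_lit 0, nat_lit 2, nat_lit 0, nat_lit 2, nat_lit 2])) (.node (nat_lit 1470) (.leaf ((nat_lit 928), [nat_lit 2, nat_lit 5, nat_lit 0, nat_lit 5, nat_lit 3, nat_lit 0, nat_lit 4, nat_lit 0, nat_lit 4, nat_lit 1, nat_lit 0, nat_lit 1, nat_lit 0, nat_lit 2, nat_lit 2])) (.leaf ((nat_lit 1095), [nat_lit 0, nat_lit 4, nat_lit 5, nat_lit 3, nat_lit 4, nat_lit 1, nat_lit 0, nat_lit 4, nat_lit 0, nat_lit 2, nat_lit 0, nat_lit 1])))) (.node (nat_lit 1472) (.leaf ((nat_lit 1096), [nat_lit 2, nat_lit 5, nat_lit 0, nat_lit 5, nat_lit 2, nat_lit 2, nat_lit 3, nat_lit 2, nat_lit 2, nat_lit 3,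 nat_lit 0, nat_lit 2, nat_lit 2])) (.node (nat_lit 1473) (.leaf ((nat_lit 218), [nat_lit 5, nat_lit 3, nat_lit 2, nat_lit 0, nat_lit 5, nat_lit 2, nat_lit 4, nat_lit 3, nat_lit 2, nat_lit 3, nat_lit 2, nat_lit 0, nat_lit 1, nat_lit 0, nat_lit 2])) (.leaf ((nat_lit 699), [nat_lit 2, nat_lit 3, nat_lit 5, nat_lit 3, nat_lit 2, nat_lit 3, nat_lit 0, nat_lit 4, nat_lit 0, nat_lit 2, nat_lit 0, nat_lit 2, nat_lit 2, nat_lit 0, nat_lit 2, nat_lit 0])))))))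
 (.node (nat_lit 1485) (.node (nat_lit 1479) (.node (nat_lit 1476) (.node (nat_lit 1475) (.leaf ((nat_lit 28), [nat_lit 3, nat_lit 1, nat_lit 3, nat_lit 0, nat_lit 5, nat_lit 2, nat_lit 0, nat_lit 2, nat_lit 3, nat_lit 1, nat_lit 0, nat_lit 2, nat_lit 0, nat_lit 2, nat_lit 2, nat_lit 0])) (.leaf ((nat_lit 791), [nat_lit 4, nat_lit 5, nat_lit 3, nat_lit 2, nat_lit 5, nat_lit 4, nat_lit 1, nat_lit 4, nat_lit 0, nat_lit 2, nat_lit 2]))) (.node (nat_lit 1477) (.leaf ((nat_lit 1097), [nat_lit 4, nat_lit 1, nat_lit 5, nat_lit 3, nat_lit 5, nat_lit 4, nat_lit 3, nat_lit 0, nat_lit 1, nat_lit 0, nat_lit 3, nat_lit 0, nat_lit 2, nat_lit 2, nat_lit 0])) (.node (nat_lit 1478) (.leaf ((nat_lit 1098), [nat_lit 2, nat_lit 0, nat_lit 1, nat_lit 5, nat_lit 0, nat_lit 1, nat_lit 0, nat_lit 4, nat_lit 1, nat_lit 3, nat_lit 0, nat_lit 1, nat_lit 0, nat_lit 2, nat_lit 2, nat_lit 0, nat_lit 2, nat_lit 0]))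 (.leaf ((nat_lit 1099), [nat_lit 2, nat_lit 4, nat_lit 5, nat_lit 2, nat_lit 0, nat_lit 5, nat_lit 0, nat_lit 2, nat_lit 3, nat_lit 1, nat_lit 3, nat_lit 2, nat_lit 0, nat_lit 1, nat_lit 0])))))
 (.node (nat_lit 1482) (.node (nat_lit 1480) (.leaf ((nat_lit 1100), [nat_lit 5, nat_lit 3, nat_lit 5, nat_lit 1, nat_lit 3, nat_lit 4, nat_lit 2, nat_lit 3, nat_lit 0, nat_lit 2, nat_lit 0, nat_lit 1, nat_lit 0, nat_lit 1, nat_lit 0])) (.node (nat_lit 1481) (.leaf ((nat_lit 992), [nat_lit 3, nat_lit 5, nat_lit 4, nat_lit 2, nat_lit 0, nat_lit 3, nat_lit 1, nat_lit 0, nat_lit 2, nat_lit 2, nat_lit 0, nat_lit 1])) (.leaf ((nat_lit 194), [nat_lit 3, nat_lit 1, nat_lit 3, nat_lit 0, nat_lit 5, nat_lit 1, nat_lit 3, nat_lit 0, nat_lit 4, nat_lit 2])))) (.node (nat_lit 1483) (.leaf ((nat_lit 466), [nat_lit 4, nat_lit 5, nat_lit 2, nat_lit 3, nat_lit 1, nat_lit 3, nat_lit 4, nat_lit 0, nat_lit 1, nat_lit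 0, nat_lit 2, nat_lit 2, nat_lit 0, nat_lit 2])) (.node (nat_lit 1484) (.leaf ((nat_lit 54), [nat_lit 5, nat_lit 4, nat_lit 3, nat_lit 2, nat_lit 5, nat_lit 0, nat_lit 4, nat_lit 1, nat_lit 0, nat_lit 3, nat_lit 2, nat_lit 0, nat_lit 2])) (.leaf ((nat_lit 1101), [nat_lit 1, nat_lit 0, nat_lit 5, nat_lit 4, nat_lit 2, nat_lit 4, nat_lit 2, nat_lit 2, nat_lit 0, nat_lit 1]))))))
 (.node (nat_lit 1490) (.node (nat_lit 1487) (.node (nat_lit 1486) (.leaf ((nat_lit 1102), [nat_lit 0, nat_lit 4, nat_lit 5, nat_lit 2, nat_lit 4, nat_lit 0, nat_lit 4, nat_lit 3, nat_lit 2, nat_lit 2, nat_lit 0, nat_lit 2, nat_lit 0, nat_lit 1, nat_lit 0])) (.leaf ((nat_lit 1103), [nat_lit 5, nat_lit 1, nat_lit 0, nat_lit 3, nat_lit 5, nat_lit 4, nat_lit 2, nat_lit 3, nat_lit 2, nat_lit 3, nat_lit 1, nat_lit 0, nat_lit 2, nat_lit 2, nat_lit 0, nat_lit 2, nat_lit 2, nat_lit 0]))) (.node (nat_lit 1488) (.leaf ((nat_lit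 1104), [nat_lit 2, nat_lit 5, nat_lit 1, nat_lit 0, nat_lit 4, nat_lit 3, nat_lit 1, nat_lit 0, nat_lit 1, nat_lit 0, nat_lit 2, nat_lit 2, nat_lit 0])) (.node (nat_lit 1489) (.leaf ((nat_lit 1105), [nat_lit 2, nat_lit 3, nat_lit 5, nat_lit 0, nat_lit 5, nat_lit 3, nat_lit 2, nat_lit 0, nat_lit 2, nat_lit 3, nat_lit 0, nat_lit 2, nat_lit 0, nat_lit 1, nat_lit 0, nat_lit 1])) (.leaf ((nat_lit 942), [nat_lit 5, nat_lit 2, nat_lit 2, nat_lit 0, nat_lit 5, nat_lit 0, nat_lit 3, nat_lit 1, nat_lit 3, nat_lit 2, nat_lit 0, nat_lit 1, nat_lit 0, nat_lit 1, nat_lit 0, nat_lit 2])))))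
 (.node (nat_lit 1493) (.node (nat_lit 1491) (.leaf ((nat_lit 986), [nat_lit 2, nat_lit 2, nat_lit 0, nat_lit 5, nat_lit 3, nat_lit 1, nat_lit 4, nat_lit 3, nat_lit 0, nat_lit 3, nat_lit 0, nat_lit 2, nat_lit 2, nat_lit 0, nat_lit 1])) (.node (nat_lit 1492) (.leaf ((nat_lit 1106), [nat_lit 5, nat_lit 4, nat_lit 5, nat_lit 2, nat_lit 2, nat_lit 4, nat_lit 1, nat_lit 0, nat_lit 3, nat_lit 2, nat_lit 0, nat_lit 1, nat_lit 0, nat_lit 2, nat_lit 2])) (.leaf ((nat_lit 1107), [nat_lit 1, nat_lit 0, nat_lit 5, nat_lit 2, nat_lit 4, nat_lit 2, nat_lit 0, nat_lit 2, nat_lit 3, nat_lit 2, nat_lit 2, nat_lit 0, nat_lit 1])))) (.node (nat_lit 1494) (.leaf ((nat_lit 676), [nat_lit 2, nat_lit 5, nat_lit 2, nat_lit 3, nat_lit 5, nat_lit 3, nat_lit 0, nat_lit 4, nat_lit 3, nat_lit 0, nat_lit 3, nat_lit 2, nat_lit 0])) (.node (nat_lit 1495) (.leaf ((nat_lit 1108), [nat_lit 1, nat_lit 3, nat_lit 2, nat_lit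 5, nat_lit 3, nat_lit 4, nat_lit 2, nat_lit 3, nat_lit 1, nat_lit 0, nat_lit 2, nat_lit 0, nat_lit 2])) (.leaf ((nat_lit 396), [nat_lit 0, nat_lit 5, nat_lit 3, nat_lit 5, nat_lit 2, nat_lit 3, nat_lit 4, nat_lit 3, nat_lit 1, nat_lit 0, nat_lit 2])))))))))
 (.node (nat_lit 1540) (.node (nat_lit 1518) (.node (nat_lit 1507) (.node (nat_lit 1501) (.node (nat_lit 1498) (.node (nat_lit 1497) (.leaf ((nat_lit 975), [nat_lit 2, nat_lit 5, nat_lit 4, nat_lit 5, nat_lit 2, nat_lit 0, nat_lit 3, nat_lit 1, nat_lit 4, nat_lit 0, nat_lit 1, nat_lit 0, nat_lit 2, nat_lit 0])) (.leaf ((nat_lit 1109), [nat_lit 4, nat_lit 0, nat_lit 5, nat_lit 2, nat_lit 5, nat_lit 3, nat_lit 1, nat_lit 0, nat_lit 4, nat_lit 1, nat_lit 0, nat_lit 2, nat_lit 2]))) (.node (nat_lit 1499) (.leaf ((nat_lit 905), [nat_lit 1, nat_lit 3, nat_lit 0, nat_lit 5, nat_lit 2, nat_lit 4, nat_lit 2, nat_lit 3, nat_lit 1, nat_lit 3,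 nat_lit 0, nat_lit 2, nat_lit 2, nat_lit 0, nat_lit 1, nat_lit 0, nat_lit 2])) (.node (nat_lit 1500) (.leaf ((nat_lit 1030), [nat_lit 3, nat_lit 4, nat_lit 5, nat_lit 2, nat_lit 5, nat_lit 3, nat_lit 2, nat_lit 4, nat_lit 2, nat_lit 3, nat_lit 0, nat_lit 2, nat_lit 0, nat_lit 2, nat_lit 0])) (.leaf ((nat_lit 1110), [nat_lit 2, nat_lit 3, nat_lit 5, nat_lit 0, nat_lit 5, nat_lit 3, nat_lit 2, nat_lit 0, nat_lit 2, nat_lit 3, nat_lit 0, nat_lit 1, nat_lit 0, nat_lit 2, nat_lit 0])))))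
 (.node (nat_lit 1504) (.node (nat_lit 1502) (.leaf ((nat_lit 627), [nat_lit 0, nat_lit 5, nat_lit 3, nat_lit 5, nat_lit 0, nat_lit 1, nat_lit 0, nat_lit 1, nat_lit 0, nat_lit 3, nat_lit 1, nat_lit 0, nat_lit 1, nat_lit 0])) (.node (nat_lit 1503) (.leaf ((nat_lit 1111), [nat_lit 5, nat_lit 2, nat_lit 3, nat_lit 5, nat_lit 4, nat_lit 2, nat_lit 3, nat_lit 4, nat_lit 3, nat_lit 0, nat_lit 2, nat_lit 2, nat_lit 0, nat_lit 2, nat_lit 2])) (.leaf ((nat_lit 1112), [nat_lit 4, nat_lit 1, nat_lit 5, nat_lit 2, nat_lit 5, nat_lit 2, nat_lit 3, nat_lit 1, nat_lit 3, nat_lit 4, nat_lit 3, nat_lit 1, nat_lit 0, nat_lit 1, nat_lit 0, nat_lit 2, nat_lit 0, nat_lit 2])))) (.node (nat_lit 1505) (.leaf ((nat_lit 0), [nat_lit 3, nat_lit 1, nat_lit 5, nat_lit 2, nat_lit 5, nat_lit 3, nat_lit 0, nat_lit 3, nat_lit 2, nat_lit 4, nat_lit 0, nat_lit 1, nat_lit 0, nat_lit 2, nat_lit 2, nat_lit 0, nat_lit 2,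 nat_lit 0])) (.node (nat_lit 1506) (.leaf ((nat_lit 997), [nat_lit 4, nat_lit 5, nat_lit 4, nat_lit 0, nat_lit 5, nat_lit 4, nat_lit 0, nat_lit 3, nat_lit 0, nat_lit 1, nat_lit 4, nat_lit 0, nat_lit 2, nat_lit 0, nat_lit 2, nat_lit 2, nat_lit 0, nat_lit 1, nat_lit 0])) (.leaf ((nat_lit 1113), [nat_lit 4, nat_lit 3, nat_lit 5, nat_lit 2, nat_lit 5, nat_lit 2, nat_lit 4, nat_lit 3, nat_lit 2, nat_lit 3, nat_lit 0, nat_lit 2, nat_lit 0, nat_lit 2, nat_lit 2, nat_lit 0, nat_lit 2]))))))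
 (.node (nat_lit 1512) (.node (nat_lit 1509) (.node (nat_lit 1508) (.leaf ((nat_lit 111), [nat_lit 3, nat_lit 0, nat_lit 5, nat_lit 3, nat_lit 5, nat_lit 3, nat_lit 4, nat_lit 1, nat_lit 3, nat_lit 1, nat_lit 3, nat_lit 2, nat_lit 0, nat_lit 2, nat_lit 0])) (.leaf ((nat_lit 110), [nat_lit 4, nat_lit 1, nat_lit 5, nat_lit 0, nat_lit 5, nat_lit 4, nat_lit 3, nat_lit 1, nat_lit 0, nat_lit 2, nat_lit 3, nat_lit 2, nat_lit 0, nat_lit 2, nat_lit 2, nat_lit 0, nat_lit 2, nat_lit 0]))) (.node (nat_lit 1510) (.leaf ((nat_lit 60), [nat_lit 5, nat_lit 2, nat_lit 0, nat_lit 5, nat_lit 2, nat_lit 2, nat_lit 3, nat_lit 4, nat_lit 2, nat_lit 0, nat_lit 1, nat_lit 0, nat_lit 1, nat_lit 0])) (.node (nat_lit 1511) (.leaf ((nat_lit 1114), [nat_lit 3, nat_lit 5, nat_lit 3, nat_lit 0, nat_lit 5, nat_lit 2, nat_lit 4, nat_lit 3, nat_lit 0, nat_lit 3, nat_lit 2, nat_lit 0, nat_lit 1, nat_lit 0])) (.leaf ((nat_lit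 712), [nat_lit 2, nat_lit 3, nat_lit 5, nat_lit 4, nat_lit 0, nat_lit 3, nat_lit 2, nat_lit 3, nat_lit 2, nat_lit 2, nat_lit 0])))))
 (.node (nat_lit 1515) (.node (nat_lit 1513) (.leaf ((nat_lit 1115), [nat_lit 4, nat_lit 5, nat_lit 4, nat_lit 0, nat_lit 5, nat_lit 3, nat_lit 4, nat_lit 1, nat_lit 4, nat_lit 3, nat_lit 2, nat_lit 2, nat_lit 0, nat_lit 2, nat_lit 2, nat_lit 0])) (.node (nat_lit 1514) (.leaf ((nat_lit 1116), [nat_lit 5, nat_lit 2, nat_lit 3, nat_lit 5, nat_lit 1, nat_lit 3, nat_lit 0, nat_lit 4, nat_lit 0, nat_lit 1, nat_lit 0, nat_lit 2, nat_lit 2])) (.leaf ((nat_lit 1117), [nat_lit 0, nat_lit 1, nat_lit 5, nat_lit 2, nat_lit 3, nat_lit 1, nat_lit 3, nat_lit 0, nat_lit 2, nat_lit 0, nat_lit 2, nat_lit 2, nat_lit 0])))) (.node (nat_lit 1516) (.leaf ((nat_lit 1023), [nat_lit 1, nat_lit 3, nat_lit 0, nat_lit 4, nat_lit 2, nat_lit 0, nat_lit 2, nat_lit 0, nat_lit 1, nat_lit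 0, nat_lit 1])) (.node (nat_lit 1517) (.leaf ((nat_lit 1089), [nat_lit 5, nat_lit 4, nat_lit 0, nat_lit 5, nat_lit 3, nat_lit 0, nat_lit 3, nat_lit 0, nat_lit 4, nat_lit 1, nat_lit 0, nat_lit 1, nat_lit 0, nat_lit 2, nat_lit 2])) (.leaf ((nat_lit 971), [nat_lit 2, nat_lit 4, nat_lit 0, nat_lit 5, nat_lit 3, nat_lit 1, nat_lit 4, nat_lit 1, nat_lit 3, nat_lit 0, nat_lit 2, nat_lit 0, nat_lit 1])))))))
 (.node (nat_lit 1529) (.node (nat_lit 1523) (.node (nat_lit 1520) (.node (nat_lit 1519) (.leaf ((nat_lit 456), [nat_lit 5, nat_lit 2, nat_lit 3, nat_lit 5, nat_lit 2, nat_lit 3, nat_lit 0, nat_lit 1, nat_lit 0, nat_lit 3, nat_lit 0, nat_lit 1, nat_lit 0, nat_lit 2, nat_lit 2, nat_lit 0, nat_lit 2])) (.leaf ((nat_lit 991), [nat_lit 5, nat_lit 4, nat_lit 0, nat_lit 5, nat_lit 0, nat_lit 2, nat_lit 4, nat_lit 3, nat_lit 2, nat_lit 3, nat_lit 2, nat_lit 2, nat_lit 0, nat_lit 1, nat_lit 0])))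 (.node (nat_lit 1521) (.leaf ((nat_lit 1118), [nat_lit 4, nat_lit 2, nat_lit 5, nat_lit 3, nat_lit 5, nat_lit 0, nat_lit 2, nat_lit 4, nat_lit 3, nat_lit 2, nat_lit 3, nat_lit 1, nat_lit 0, nat_lit 1])) (.node (nat_lit 1522) (.leaf ((nat_lit 442), [nat_lit 4, nat_lit 1, nat_lit 5, nat_lit 0, nat_lit 5, nat_lit 3, nat_lit 2, nat_lit 3, nat_lit 2, nat_lit 4, nat_lit 0, nat_lit 1])) (.leaf ((nat_lit 807), [nat_lit 1, nat_lit 5, nat_lit 2, nat_lit 5, nat_lit 3, nat_lit 2, nat_lit 0, nat_lit 1, nat_lit 0, nat_lit 3, nat_lit 0, nat_lit 1, nat_lit 0, nat_lit 2, nat_lit 2, nat_lit 0, nat_lit 1, nat_lit 0])))))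
 (.node (nat_lit 1526) (.node (nat_lit 1524) (.leaf ((nat_lit 405), [nat_lit 2, nat_lit 5, nat_lit 0, nat_lit 1, nat_lit 5, nat_lit 4, nat_lit 3, nat_lit 2, nat_lit 0, nat_lit 3, nat_lit 1, nat_lit 0, nat_lit 2, nat_lit 0, nat_lit 2, nat_lit 2])) (.node (nat_lit 1525) (.leaf ((nat_lit 395), [nat_lit 1, nat_lit 3, nat_lit 2, nat_lit 5, nat_lit 0, nat_lit 3, nat_lit 2, nat_lit 4, nat_lit 2, nat_lit 2, nat_lit 0, nat_lit 2, nat_lit 0, nat_lit 1, nat_lit 0])) (.leaf ((nat_lit 1119), [nat_lit 5, nat_lit 2, nat_lit 5, nat_lit 1, nat_lit 4, nat_lit 0, nat_lit 4, nat_lit 0, nat_lit 2, nat_lit 0, nat_lit 1, nat_lit 0])))) (.node (nat_lit 1527) (.leaf ((nat_lit 1003), [nat_lit 5, nat_lit 4, nat_lit 5, nat_lit 2, nat_lit 5, nat_lit 0, nat_lit 1, nat_lit 4, nat_lit 0, nat_lit 2, nat_lit 0, nat_lit 2, nat_lit 2, nat_lit 0, nat_lit 1])) (.node (nat_lit 1528) (.leaf ((nat_lit 27), [nat_lit 3, nat_lit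 1, nat_lit 3, nat_lit 0, nat_lit 5, nat_lit 4, nat_lit 3, nat_lit 2, nat_lit 4, nat_lit 3, nat_lit 0, nat_lit 2, nat_lit 2, nat_lit 0, nat_lit 2, nat_lit 0, nat_lit 1, nat_lit 0])) (.leaf ((nat_lit 1120), [nat_lit 2, nat_lit 4, nat_lit 2, nat_lit 0, nat_lit 5, nat_lit 2, nat_lit 4, nat_lit 2, nat_lit 2, nat_lit 4, nat_lit 3, nat_lit 2, nat_lit 0, nat_lit 1, nat_lit 0, nat_lit 2, nat_lit 2]))))))
 (.node (nat_lit 1534) (.node (nat_lit 1531) (.node (nat_lit 1530) (.leaf ((nat_lit 1121), [nat_lit 3, nat_lit 5, nat_lit 0, nat_lit 5, nat_lit 0, nat_lit 1, nat_lit 4, nat_lit 1, nat_lit 0, nat_lit 3, nat_lit 2, nat_lit 2, nat_lit 0, nat_lit 1, nat_lit 0, nat_lit 2])) (.leaf ((nat_lit 333), [nat_lit 3, nat_lit 1, nat_lit 5, nat_lit 2, nat_lit 5, nat_lit 3, nat_lit 4, nat_lit 0, nat_lit 2, nat_lit 4, nat_lit 0, nat_lit 1, nat_lit 0, nat_lit 2, nat_lit 2, nat_lit 0, nat_lit 1, nat_lit 0]))) (.node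 (nat_lit 1532) (.leaf ((nat_lit 1122), [nat_lit 4, nat_lit 5, nat_lit 2, nat_lit 5, nat_lit 3, nat_lit 4, nat_lit 3, nat_lit 1, nat_lit 4, nat_lit 3, nat_lit 2, nat_lit 0, nat_lit 2, nat_lit 0, nat_lit 1, nat_lit 0, nat_lit 1, nat_lit 0])) (.node (nat_lit 1533) (.leaf ((nat_lit 765), [nat_lit 3, nat_lit 2, nat_lit 5, nat_lit 4, nat_lit 3, nat_lit 2, nat_lit 4, nat_lit 3, nat_lit 0, nat_lit 2, nat_lit 0, nat_lit 2, nat_lit 2, nat_lit 0, nat_lit 2, nat_lit 0])) (.leaf ((nat_lit 1092), [nat_lit 5, nat_lit 3, nat_lit 2, nat_lit 0, nat_lit 5, nat_lit 0, nat_lit 4, nat_lit 2, nat_lit 3, nat_lit 4, nat_lit 0, nat_lit 2, nat_lit 2, nat_lit 0, nat_lit 2, nat_lit 2])))))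
 (.node (nat_lit 1537) (.node (nat_lit 1535) (.leaf ((nat_lit 313), [nat_lit 0, nat_lit 1, nat_lit 5, nat_lit 2, nat_lit 3, nat_lit 4, nat_lit 2, nat_lit 4, nat_lit 0, nat_lit 2, nat_lit 2, nat_lit 0, nat_lit 2])) (.node (nat_lit 1536) (.leaf ((nat_lit 424), [nat_lit 5, nat_lit 4, nat_lit 3, nat_lit 5, nat_lit 2, nat_lit 5, nat_lit 3, nat_lit 2, nat_lit 0, nat_lit 4, nat_lit 3, nat_lit 2, nat_lit 0, nat_lit 1, nat_lit 0, nat_lit 2, nat_lit 0, nat_lit 2, nat_lit 0])) (.leaf ((nat_lit 126), [nat_lit 4, nat_lit 5, nat_lit 3, nat_lit 0, nat_lit 5, nat_lit 4, nat_lit 0, nat_lit 1, nat_lit 0, nat_lit 1, nat_lit 0, nat_lit 3, nat_lit 1, nat_lit 0, nat_lit 1, nat_lit 0, nat_lit 2, nat_lit 2])))) (.node (nat_lit 1538) (.leaf ((nat_lit 495), [nat_lit 0, nat_lit 5, nat_lit 2, nat_lit 0, nat_lit 5, nat_lit 4, nat_lit 3, nat_lit 0, nat_lit 4, nat_lit 1, nat_lit 0, nat_lit 1])) (.node (nat_lit 1539)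 (.leaf ((nat_lit 882), [nat_lit 5, nat_lit 4, nat_lit 1, nat_lit 0, nat_lit 5, nat_lit 4, nat_lit 1, nat_lit 0, nat_lit 4, nat_lit 3, nat_lit 1, nat_lit 0, nat_lit 2, nat_lit 0, nat_lit 2])) (.leaf ((nat_lit 1123), [nat_lit 1, nat_lit 0, nat_lit 3, nat_lit 5, nat_lit 2, nat_lit 3, nat_lit 1, nat_lit 0, nat_lit 2, nat_lit 0, nat_lit 1, nat_lit 0]))))))))
 (.node (nat_lit 1562) (.node (nat_lit 1551) (.node (nat_lit 1545) (.node (nat_lit 1542) (.node (nat_lit 1541) (.leaf ((nat_lit 168), [nat_lit 2, nat_lit 0, nat_lit 1, nat_lit 5, nat_lit 2, nat_lit 0, nat_lit 3, nat_lit 0, nat_lit 2, nat_lit 3, nat_lit 0, nat_lit 2, nat_lit 0, nat_lit 1])) (.leaf ((nat_lit 1124), [nat_lit 0, nat_lit 3, nat_lit 5, nat_lit 2, nat_lit 0, nat_lit 1, nat_lit 0, nat_lit 4, nat_lit 1, nat_lit 0, nat_lit 2, nat_lit 2, nat_lit 0, nat_lit 2, nat_lit 2, nat_lit 0]))) (.node (nat_lit 1543) (.leaf ((nat_lit 1125),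 [nat_lit 3, nat_lit 5, nat_lit 1, nat_lit 3, nat_lit 0, nat_lit 5, nat_lit 4, nat_lit 3, nat_lit 0, nat_lit 2, nat_lit 4, nat_lit 0, nat_lit 2, nat_lit 0, nat_lit 1, nat_lit 0, nat_lit 1, nat_lit 0])) (.node (nat_lit 1544) (.leaf ((nat_lit 1126), [nat_lit 2, nat_lit 4, nat_lit 0, nat_lit 5, nat_lit 2, nat_lit 4, nat_lit 2, nat_lit 3, nat_lit 0, nat_lit 2, nat_lit 0])) (.leaf ((nat_lit 1127), [nat_lit 5, nat_lit 1, nat_lit 0, nat_lit 2, nat_lit 5, nat_lit 1, nat_lit 3, nat_lit 0, nat_lit 2, nat_lit 4, nat_lit 0, nat_lit 1, nat_lit 0, nat_lit 1, nat_lit 0, nat_lit 2])))))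
 (.node (nat_lit 1548) (.node (nat_lit 1546) (.leaf ((nat_lit 1128), [nat_lit 4, nat_lit 2, nat_lit 5, nat_lit 3, nat_lit 4, nat_lit 1, nat_lit 4, nat_lit 3, nat_lit 1, nat_lit 0, nat_lit 2, nat_lit 0, nat_lit 1])) (.node (nat_lit 1547) (.leaf ((nat_lit 22), [nat_lit 0, nat_lit 1, nat_lit 5, nat_lit 4, nat_lit 0, nat_lit 4, nat_lit 2, nat_lit 0, nat_lit 3, nat_lit 2, nat_lit 0, nat_lit 2, nat_lit 2, nat_lit 0, nat_lit 2])) (.leaf ((nat_lit 640), [nat_lit 4, nat_lit 5, nat_lit 0, nat_lit 3, nat_lit 5, nat_lit 0, nat_lit 2, nat_lit 2])))) (.node (nat_lit 1549) (.leaf ((nat_lit 596), [nat_lit 5, nat_lit 0, nat_lit 5, nat_lit 4, nat_lit 1, nat_lit 4, nat_lit 1, nat_lit 3, nat_lit 2, nat_lit 0, nat_lit 2, nat_lit 2])) (.node (nat_lit 1550) (.leaf ((nat_lit 1129), [nat_lit 5, nat_lit 2, nat_lit 2, nat_lit 0, nat_lit 5, nat_lit 3, nat_lit 1, nat_lit 0, nat_lit 3, nat_lit 1, nat_lit 3, nat_lit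 1, nat_lit 0, nat_lit 1, nat_lit 0, nat_lit 2, nat_lit 0, nat_lit 2, nat_lit 0])) (.leaf ((nat_lit 1130), [nat_lit 4, nat_lit 5, nat_lit 3, nat_lit 0, nat_lit 5, nat_lit 4, nat_lit 0, nat_lit 1, nat_lit 0, nat_lit 1, nat_lit 0, nat_lit 3, nat_lit 2, nat_lit 0, nat_lit 2, nat_lit 2, nat_lit 0, nat_lit 2, nat_lit 2]))))))
 (.node (nat_lit 1556) (.node (nat_lit 1553) (.node (nat_lit 1552) (.leaf ((nat_lit 1131), [nat_lit 3, nat_lit 1, nat_lit 5, nat_lit 0, nat_lit 5, nat_lit 2, nat_lit 0, nat_lit 4, nat_lit 1, nat_lit 4, nat_lit 2, nat_lit 2, nat_lit 0, nat_lit 1, nat_lit 0, nat_lit 2])) (.leaf ((nat_lit 1132), [nat_lit 4, nat_lit 5, nat_lit 3, nat_lit 2, nat_lit 5, nat_lit 0, nat_lit 4, nat_lit 3, nat_lit 2, nat_lit 0, nat_lit 3, nat_lit 0, nat_lit 1, nat_lit 0, nat_lit 2]))) (.node (nat_lit 1554) (.leaf ((nat_lit 1133), [nat_lit 3, nat_lit 2, nat_lit 5, nat_lit 0, nat_lit 5, nat_lit 1,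 nat_lit 0, nat_lit 3, nat_lit 0, nat_lit 4, nat_lit 2, nat_lit 0, nat_lit 2, nat_lit 2, nat_lit 0, nat_lit 2, nat_lit 2, nat_lit 0])) (.node (nat_lit 1555) (.leaf ((nat_lit 1068), [nat_lit 3, nat_lit 2, nat_lit 5, nat_lit 2, nat_lit 4, nat_lit 1, nat_lit 3, nat_lit 1, nat_lit 3, nat_lit 2, nat_lit 0, nat_lit 2, nat_lit 2, nat_lit 0, nat_lit 2])) (.leaf ((nat_lit 1134), [nat_lit 4, nat_lit 5, nat_lit 4, nat_lit 0, nat_lit 5, nat_lit 3, nat_lit 2, nat_lit 4, nat_lit 2, nat_lit 3, nat_lit 4, nat_lit 1, nat_lit 0, nat_lit 1, nat_lit 0, nat_lit 2, nat_lit 2, nat_lit 0])))))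
 (.node (nat_lit 1559) (.node (nat_lit 1557) (.leaf ((nat_lit 1135), [nat_lit 5, nat_lit 1, nat_lit 0, nat_lit 3, nat_lit 5, nat_lit 4, nat_lit 0, nat_lit 3, nat_lit 4, nat_lit 2, nat_lit 0, nat_lit 1, nat_lit 0, nat_lit 1, nat_lit 0, nat_lit 2])) (.node (nat_lit 1558) (.leaf ((nat_lit 754), [nat_lit 4, nat_lit 3, nat_lit 5, nat_lit 2, nat_lit 5, nat_lit 2, nat_lit 3, nat_lit 0, nat_lit 2, nat_lit 0, nat_lit 2, nat_lit 2])) (.leaf ((nat_lit 625), [nat_lit 3, nat_lit 5, nat_lit 2, nat_lit 3, nat_lit 0, nat_lit 5, nat_lit 4, nat_lit 1, nat_lit 3, nat_lit 2, nat_lit 2, nat_lit 3, nat_lit 1, nat_lit 0, nat_lit 2, nat_lit 0, nat_lit 2, nat_lit 2, nat_lit 0])))) (.node (nat_lit 1560) (.leaf ((nat_lit 1136), [nat_lit 3, nat_lit 5, nat_lit 1, nat_lit 3, nat_lit 2, nat_lit 5, nat_lit 0, nat_lit 4, nat_lit 0, nat_lit 1, nat_lit 4, nat_lit 3, nat_lit 0, nat_lit 2, nat_lit 2, nat_lit 0, nat_lit 2,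 nat_lit 0, nat_lit 1, nat_lit 0])) (.node (nat_lit 1561) (.leaf ((nat_lit 868), [nat_lit 5, nat_lit 1, nat_lit 5, nat_lit 0, nat_lit 5, nat_lit 2, nat_lit 4, nat_lit 0, nat_lit 3, nat_lit 4, nat_lit 2, nat_lit 0, nat_lit 1, nat_lit 0, nat_lit 1])) (.leaf ((nat_lit 972), [nat_lit 5, nat_lit 4, nat_lit 0, nat_lit 5, nat_lit 2, nat_lit 3, nat_lit 1, nat_lit 3, nat_lit 1, nat_lit 3, nat_lit 0, nat_lit 2, nat_lit 0, nat_lit 1, nat_lit 0, nat_lit 1])))))))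
 (.node (nat_lit 1573) (.node (nat_lit 1567) (.node (nat_lit 1564) (.node (nat_lit 1563) (.leaf ((nat_lit 804), [nat_lit 3, nat_lit 2, nat_lit 5, nat_lit 0, nat_lit 5, nat_lit 2, nat_lit 4, nat_lit 2, nat_lit 2, nat_lit 4, nat_lit 3, nat_lit 2, nat_lit 2, nat_lit 0, nat_lit 2, nat_lit 2])) (.leaf ((nat_lit 237), [nat_lit 4, nat_lit 5, nat_lit 2, nat_lit 3, nat_lit 5, nat_lit 3, nat_lit 4, nat_lit 1, nat_lit 0, nat_lit 2, nat_lit 0, nat_lit 2]))) (.node (nat_lit 1565) (.leaf ((nat_lit 915), [nat_lit 2, nat_lit 3, nat_lit 5, nat_lit 0, nat_lit 5, nat_lit 3, nat_lit 2, nat_lit 0, nat_lit 4, nat_lit 1, nat_lit 4, nat_lit 2, nat_lit 2, nat_lit 0, nat_lit 2, nat_lit 2, nat_lit 0, nat_lit 2, nat_lit 0])) (.node (nat_lit 1566) (.leaf ((nat_lit 949), [nat_lit 2, nat_lit 4, nat_lit 2, nat_lit 0, nat_lit 5, nat_lit 2, nat_lit 2, nat_lit 4, nat_lit 3, nat_lit 2, nat_lit 0, nat_lit 2, nat_lit 2]))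 (.leaf ((nat_lit 148), [nat_lit 4, nat_lit 5, nat_lit 3, nat_lit 0, nat_lit 5, nat_lit 3, nat_lit 1, nat_lit 4, nat_lit 1, nat_lit 3, nat_lit 2, nat_lit 2])))))
 (.node (nat_lit 1570) (.node (nat_lit 1568) (.leaf ((nat_lit 1137), [nat_lit 4, nat_lit 3, nat_lit 5, nat_lit 0, nat_lit 5, nat_lit 3, nat_lit 1, nat_lit 3, nat_lit 1, nat_lit 3, nat_lit 0, nat_lit 1, nat_lit 0, nat_lit 2, nat_lit 2, nat_lit 0, nat_lit 1])) (.node (nat_lit 1569) (.leaf ((nat_lit 1138), [nat_lit 5, nat_lit 1, nat_lit 0, nat_lit 3, nat_lit 5, nat_lit 4, nat_lit 3, nat_lit 0, nat_lit 4, nat_lit 1, nat_lit 0, nat_lit 3, nat_lit 0, nat_lit 1, nat_lit 0, nat_lit 2, nat_lit 0, nat_lit 2, nat_lit 2])) (.leaf ((nat_lit 925), [nat_lit 4, nat_lit 1, nat_lit 5, nat_lit 0, nat_lit 5, nat_lit 0, nat_lit 4, nat_lit 1, nat_lit 3, nat_lit 0, nat_lit 3, nat_lit 1, nat_lit 0, nat_lit 2, nat_lit 2, nat_lit 0, nat_lit 1, nat_lit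 0])))) (.node (nat_lit 1571) (.leaf ((nat_lit 1139), [nat_lit 5, nat_lit 4, nat_lit 2, nat_lit 0, nat_lit 5, nat_lit 4, nat_lit 3, nat_lit 2, nat_lit 3, nat_lit 2, nat_lit 3, nat_lit 0, nat_lit 1, nat_lit 0, nat_lit 2, nat_lit 2])) (.node (nat_lit 1572) (.leaf ((nat_lit 938), [nat_lit 4, nat_lit 3, nat_lit 5, nat_lit 0, nat_lit 5, nat_lit 3, nat_lit 2, nat_lit 2, nat_lit 4, nat_lit 3, nat_lit 1, nat_lit 0, nat_lit 2, nat_lit 2, nat_lit 0, nat_lit 1, nat_lit 0])) (.leaf ((nat_lit 459), [nat_lit 2, nat_lit 5, nat_lit 3, nat_lit 5, nat_lit 0, nat_lit 3, nat_lit 2, nat_lit 0, nat_lit 3, nat_lit 0, nat_lit 1, nat_lit 0, nat_lit 2, nat_lit 0, nat_lit 2]))))))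
 (.node (nat_lit 1578) (.node (nat_lit 1575) (.node (nat_lit 1574) (.leaf ((nat_lit 1025), [nat_lit 4, nat_lit 5, nat_lit 3, nat_lit 0, nat_lit 5, nat_lit 2, nat_lit 4, nat_lit 0, nat_lit 3, nat_lit 2, nat_lit 3, nat_lit 2, nat_lit 2, nat_lit 0, nat_lit 2, nat_lit 2, nat_lit 0, nat_lit 2, nat_lit 2, nat_lit 0])) (.leaf ((nat_lit 476), [nat_lit 4, nat_lit 3, nat_lit 5, nat_lit 0, nat_lit 5, nat_lit 1, nat_lit 4, nat_lit 0, nat_lit 4, nat_lit 2, nat_lit 0, nat_lit 3, nat_lit 0, nat_lit 1, nat_lit 0, nat_lit 2, nat_lit 0, nat_lit 2, nat_lit 2, nat_lit 0]))) (.node (nat_lit 1576) (.leaf ((nat_lit 1140), [nat_lit 1, nat_lit 0, nat_lit 5, nat_lit 3, nat_lit 5, nat_lit 2, nat_lit 4, nat_lit 3, nat_lit 0, nat_lit 3, nat_lit 0, nat_lit 1, nat_lit 0, nat_lit 2, nat_lit 0, nat_lit 2])) (.node (nat_lit 1577) (.leaf ((nat_lit 472), [nat_lit 2, nat_lit 5, nat_lit 4, nat_lit 5, nat_lit 1, nat_lit 3,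 nat_lit 2, nat_lit 3, nat_lit 0, nat_lit 4, nat_lit 0, nat_lit 2, nat_lit 2, nat_lit 0, nat_lit 2])) (.leaf ((nat_lit 15), [nat_lit 2, nat_lit 5, nat_lit 2, nat_lit 2, nat_lit 4, nat_lit 1, nat_lit 0, nat_lit 3, nat_lit 1, nat_lit 0, nat_lit 2, nat_lit 2, nat_lit 0, nat_lit 1, nat_lit 0])))))
 (.node (nat_lit 1581) (.node (nat_lit 1579) (.leaf ((nat_lit 1084), [nat_lit 5, nat_lit 1, nat_lit 3, nat_lit 0, nat_lit 5, nat_lit 2, nat_lit 4, nat_lit 3, nat_lit 0, nat_lit 2, nat_lit 3, nat_lit 1, nat_lit 0, nat_lit 2, nat_lit 2, nat_lit 0, nat_lit 1, nat_lit 0])) (.node (nat_lit 1580) (.leaf ((nat_lit 1141), [nat_lit 3, nat_lit 5, nat_lit 0, nat_lit 3, nat_lit 5, nat_lit 0, nat_lit 4, nat_lit 2, nat_lit 0, nat_lit 2, nat_lit 3, nat_lit 0, nat_lit 2, nat_lit 0, nat_lit 1])) (.leaf ((nat_lit 1020), [nat_lit 5, nat_lit 1, nat_lit 5, nat_lit 3, nat_lit 4, nat_lit 3, nat_lit 0, nat_lit 1, nat_lit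 0, nat_lit 1, nat_lit 0, nat_lit 2, nat_lit 0])))) (.node (nat_lit 1582) (.leaf ((nat_lit 1142), [nat_lit 5, nat_lit 4, nat_lit 5, nat_lit 1, nat_lit 5, nat_lit 4, nat_lit 0, nat_lit 3, nat_lit 0, nat_lit 2, nat_lit 3, nat_lit 1, nat_lit 0, nat_lit 2, nat_lit 0, nat_lit 2, nat_lit 0])) (.node (nat_lit 1583) (.leaf ((nat_lit 1122), [nat_lit 3, nat_lit 1, nat_lit 5, nat_lit 2, nat_lit 5, nat_lit 1, nat_lit 3, nat_lit 2, nat_lit 4, nat_lit 0, nat_lit 2])) (.leaf ((nat_lit 879), [nat_lit 5, nat_lit 1, nat_lit 3, nat_lit 0, nat_lit 5, nat_lit 1, nat_lit 3, nat_lit 4, nat_lit 3, nat_lit 1, nat_lit 3, nat_lit 2, nat_lit 0, nat_lit 1, nat_lit 0, nat_lit 2, nat_lit 2]))))))))))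
noncomputable def bWd_9 : Tr (ℕ × List ℕ) := (.node (nat_lit 1672) (.node (nat_lit 1628) (.node (nat_lit 1606) (.node (nat_lit 1595) (.node (nat_lit 1589) (.node (nat_lit 1586) (.node (nat_lit 1585) (.leaf ((nat_lit 1143), [nat_lit 1, nat_lit 5, nat_lit 0, nat_lit 5, nat_lit 3, nat_lit 0, nat_lit 2, nat_lit 2, nat_lit 3, nat_lit 0, nat_lit 2, nat_lit 0, nat_lit 1, nat_lit 0, nat_lit 1, nat_lit 0])) (.leaf ((nat_lit 361), [nat_lit 4, nat_lit 1, nat_lit 3, nat_lit 4, nat_lit 2, nat_lit 3, nat_lit 1, nat_lit 0, nat_lit 2, nat_lit 2, nat_lit 0, nat_lit 2, nat_lit 0]))) (.node (nat_lit 1587) (.leaf ((nat_lit 1144), [nat_lit 5, nat_lit 1, nat_lit 0, nat_lit 3, nat_lit 5, nat_lit 1, nat_lit 0, nat_lit 3, nat_lit 2, nat_lit 3, nat_lit 1, nat_lit 0, nat_lit 2])) (.node (nat_lit 1588) (.leaf ((nat_lit 1145), [nat_lit 1, nat_lit 0, nat_lit 5, nat_lit 3, nat_lit 5, nat_lit 2, nat_lit 3, nat_lit 4,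 nat_lit 1, nat_lit 0, nat_lit 3, nat_lit 1, nat_lit 0, nat_lit 1, nat_lit 0, nat_lit 2])) (.leaf ((nat_lit 1016), [nat_lit 3, nat_lit 5, nat_lit 3, nat_lit 0, nat_lit 5, nat_lit 2, nat_lit 0, nat_lit 1, nat_lit 4, nat_lit 3, nat_lit 2, nat_lit 0, nat_lit 1, nat_lit 0, nat_lit 1, nat_lit 0, nat_lit 2])))))
 (.node (nat_lit 1592) (.node (nat_lit 1590) (.leaf ((nat_lit 1146), [nat_lit 3, nat_lit 1, nat_lit 3, nat_lit 0, nat_lit 5, nat_lit 4, nat_lit 1, nat_lit 4, nat_lit 1, nat_lit 4, nat_lit 3, nat_lit 2, nat_lit 0, nat_lit 2, nat_lit 2])) (.node (nat_lit 1591) (.leaf ((nat_lit 1147), [nat_lit 4, nat_lit 1, nat_lit 5, nat_lit 0, nat_lit 5, nat_lit 3, nat_lit 0, nat_lit 2, nat_lit 3, nat_lit 2])) (.leaf ((nat_lit 944), [nat_lit 5, nat_lit 4, nat_lit 5, nat_lit 0, nat_lit 3, nat_lit 0, nat_lit 2, nat_lit 3, nat_lit 1, nat_lit 0, nat_lit 1])))) (.node (nat_lit 1593) (.leaf ((nat_lit 1148),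 [nat_lit 1, nat_lit 4, nat_lit 2, nat_lit 5, nat_lit 0, nat_lit 3, nat_lit 2, nat_lit 0, nat_lit 3, nat_lit 1, nat_lit 0, nat_lit 2, nat_lit 2, nat_lit 0, nat_lit 2, nat_lit 0])) (.node (nat_lit 1594) (.leaf ((nat_lit 1149), [nat_lit 3, nat_lit 2, nat_lit 5, nat_lit 0, nat_lit 4, nat_lit 2, nat_lit 0, nat_lit 4, nat_lit 1, nat_lit 0, nat_lit 2])) (.leaf ((nat_lit 445), [nat_lit 0, nat_lit 4, nat_lit 5, nat_lit 3, nat_lit 2, nat_lit 3, nat_lit 2, nat_lit 3, nat_lit 0, nat_lit 2, nat_lit 2, nat_lit 0, nat_lit 1]))))))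
 (.node (nat_lit 1600) (.node (nat_lit 1597) (.node (nat_lit 1596) (.leaf ((nat_lit 1150), [nat_lit 4, nat_lit 3, nat_lit 2, nat_lit 5, nat_lit 1, nat_lit 0, nat_lit 3, nat_lit 1, nat_lit 3, nat_lit 1, nat_lit 0, nat_lit 2, nat_lit 0, nat_lit 2])) (.leaf ((nat_lit 701), [nat_lit 3, nat_lit 0, nat_lit 5, nat_lit 3, nat_lit 5, nat_lit 1, nat_lit 4, nat_lit 0, nat_lit 4, nat_lit 3, nat_lit 0, nat_lit 1, nat_lit 0, nat_lit 2, nat_lit 2, nat_lit 0, nat_lit 2]))) (.node (nat_lit 1598) (.leaf ((nat_lit 824), [nat_lit 5, nat_lit 4, nat_lit 5, nat_lit 2, nat_lit 5, nat_lit 2, nat_lit 0, nat_lit 4, nat_lit 2, nat_lit 2, nat_lit 0, nat_lit 1, nat_lit 0, nat_lit 2, nat_lit 2, nat_lit 0])) (.node (nat_lit 1599) (.leaf ((nat_lit 1151), [nat_lit 5, nat_lit 1, nat_lit 5, nat_lit 0, nat_lit 5, nat_lit 4, nat_lit 3, nat_lit 2, nat_lit 2, nat_lit 0, nat_lit 2, nat_lit 2, nat_lit 0, nat_lit 2, nat_lit 2]))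 (.leaf ((nat_lit 469), [nat_lit 2, nat_lit 4, nat_lit 2, nat_lit 0, nat_lit 5, nat_lit 2, nat_lit 4, nat_lit 2, nat_lit 3, nat_lit 1, nat_lit 3, nat_lit 1, nat_lit 0, nat_lit 2, nat_lit 2, nat_lit 0, nat_lit 2])))))
 (.node (nat_lit 1603) (.node (nat_lit 1601) (.leaf ((nat_lit 1152), [nat_lit 4, nat_lit 0, nat_lit 5, nat_lit 4, nat_lit 1, nat_lit 0, nat_lit 1, nat_lit 0, nat_lit 3, nat_lit 0, nat_lit 2, nat_lit 2, nat_lit 0, nat_lit 1])) (.node (nat_lit 1602) (.leaf ((nat_lit 287), [nat_lit 5, nat_lit 1, nat_lit 0, nat_lit 3, nat_lit 5, nat_lit 3, nat_lit 0, nat_lit 3, nat_lit 4, nat_lit 3, nat_lit 0, nat_lit 1, nat_lit 0, nat_lit 1, nat_lit 0, nat_lit 2])) (.leaf ((nat_lit 837), [nat_lit 5, nat_lit 3, nat_lit 0, nat_lit 5, nat_lit 3, nat_lit 1, nat_lit 0, nat_lit 4, nat_lit 1, nat_lit 0, nat_lit 1, nat_lit 0, nat_lit 2, nat_lit 2])))) (.node (nat_lit 1604) (.leaf ((nat_lit 377), [nat_lit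 5, nat_lit 4, nat_lit 5, nat_lit 3, nat_lit 5, nat_lit 1, nat_lit 4, nat_lit 3, nat_lit 0, nat_lit 3, nat_lit 2, nat_lit 2, nat_lit 0, nat_lit 2, nat_lit 2])) (.node (nat_lit 1605) (.leaf ((nat_lit 1153), [nat_lit 1, nat_lit 0, nat_lit 5, nat_lit 3, nat_lit 5, nat_lit 1, nat_lit 3, nat_lit 4, nat_lit 1, nat_lit 0, nat_lit 3, nat_lit 0, nat_lit 2, nat_lit 0, nat_lit 2])) (.leaf ((nat_lit 535), [nat_lit 5, nat_lit 4, nat_lit 2, nat_lit 0, nat_lit 5, nat_lit 4, nat_lit 1, nat_lit 0, nat_lit 3, nat_lit 4, nat_lit 0, nat_lit 2, nat_lit 2, nat_lit 0, nat_lit 2, nat_lit 2])))))))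
 (.node (nat_lit 1617) (.node (nat_lit 1611) (.node (nat_lit 1608) (.node (nat_lit 1607) (.leaf ((nat_lit 1154), [nat_lit 3, nat_lit 5, nat_lit 2, nat_lit 5, nat_lit 0, nat_lit 2, nat_lit 0, nat_lit 3, nat_lit 4, nat_lit 0, nat_lit 1, nat_lit 0, nat_lit 2, nat_lit 0, nat_lit 2, nat_lit 2])) (.leaf ((nat_lit 1155), [nat_lit 5, nat_lit 4, nat_lit 5, nat_lit 2, nat_lit 5, nat_lit 3, nat_lit 4, nat_lit 1, nat_lit 0, nat_lit 2, nat_lit 2, nat_lit 0, nat_lit 2, nat_lit 2, nat_lit 0]))) (.node (nat_lit 1609) (.leaf ((nat_lit 1156), [nat_lit 3, nat_lit 2, nat_lit 3, nat_lit 5, nat_lit 2, nat_lit 4, nat_lit 1, nat_lit 0, nat_lit 3, nat_lit 1, nat_lit 0, nat_lit 1, nat_lit 0, nat_lit 2, nat_lit 2, nat_lit 0])) (.node (nat_lit 1610) (.leaf ((nat_lit 1157), [nat_lit 5, nat_lit 1, nat_lit 3, nat_lit 0, nat_lit 5, nat_lit 2, nat_lit 2, nat_lit 4, nat_lit 0, nat_lit 4, nat_lit 0, nat_lit 2, nat_lit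 0, nat_lit 2, nat_lit 2, nat_lit 0, nat_lit 2, nat_lit 0])) (.leaf ((nat_lit 1158), [nat_lit 0, nat_lit 2, nat_lit 4, nat_lit 0, nat_lit 5, nat_lit 1, nat_lit 0, nat_lit 3, nat_lit 0, nat_lit 2, nat_lit 0, nat_lit 2])))))
 (.node (nat_lit 1614) (.node (nat_lit 1612) (.leaf ((nat_lit 705), [nat_lit 0, nat_lit 4, nat_lit 5, nat_lit 4, nat_lit 0, nat_lit 3, nat_lit 2, nat_lit 3, nat_lit 2, nat_lit 2, nat_lit 0, nat_lit 1, nat_lit 0, nat_lit 2])) (.node (nat_lit 1613) (.leaf ((nat_lit 18), [nat_lit 5, nat_lit 4, nat_lit 3, nat_lit 0, nat_lit 5, nat_lit 2, nat_lit 0, nat_lit 2, nat_lit 3, nat_lit 0, nat_lit 2, nat_lit 0, nat_lit 1, nat_lit 0, nat_lit 1, nat_lit 0])) (.leaf ((nat_lit 1159), [nat_lit 0, nat_lit 3, nat_lit 5, nat_lit 2, nat_lit 4, nat_lit 1, nat_lit 0, nat_lit 3, nat_lit 0, nat_lit 1, nat_lit 0, nat_lit 2, nat_lit 0])))) (.node (nat_lit 1615) (.leaf ((nat_lit 967), [nat_lit 3,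 nat_lit 2, nat_lit 0, nat_lit 5, nat_lit 2, nat_lit 4, nat_lit 1, nat_lit 0, nat_lit 1, nat_lit 0, nat_lit 3, nat_lit 2, nat_lit 2, nat_lit 0, nat_lit 2])) (.node (nat_lit 1616) (.leaf ((nat_lit 312), [nat_lit 5, nat_lit 4, nat_lit 1, nat_lit 0, nat_lit 5, nat_lit 2, nat_lit 2, nat_lit 4, nat_lit 3, nat_lit 2, nat_lit 3, nat_lit 0, nat_lit 1, nat_lit 0, nat_lit 2, nat_lit 2, nat_lit 0])) (.leaf ((nat_lit 1160), [nat_lit 5, nat_lit 4, nat_lit 0, nat_lit 5, nat_lit 2, nat_lit 3, nat_lit 0, nat_lit 3, nat_lit 2, nat_lit 2, nat_lit 0, nat_lit 1, nat_lit 0, nat_lit 2, nat_lit 2, nat_lit 0]))))))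
 (.node (nat_lit 1622) (.node (nat_lit 1619) (.node (nat_lit 1618) (.leaf ((nat_lit 1161), [nat_lit 4, nat_lit 2, nat_lit 5, nat_lit 4, nat_lit 3, nat_lit 2, nat_lit 0, nat_lit 3, nat_lit 1, nat_lit 0, nat_lit 1, nat_lit 0, nat_lit 2, nat_lit 2])) (.leaf ((nat_lit 1162), [nat_lit 0, nat_lit 3, nat_lit 5, nat_lit 0, nat_lit 4, nat_lit 1, nat_lit 3, nat_lit 1, nat_lit 3, nat_lit 2, nat_lit 2, nat_lit 0, nat_lit 2, nat_lit 2]))) (.node (nat_lit 1620) (.leaf ((nat_lit 1163), [nat_lit 5, nat_lit 4, nat_lit 3, nat_lit 2, nat_lit 5, nat_lit 3, nat_lit 4, nat_lit 1, nat_lit 3, nat_lit 0, nat_lit 2, nat_lit 0])) (.node (nat_lit 1621) (.leaf ((nat_lit 1164), [nat_lit 2, nat_lit 0, nat_lit 1, nat_lit 5, nat_lit 2, nat_lit 3, nat_lit 2, nat_lit 4, nat_lit 3, nat_lit 0, nat_lit 2, nat_lit 2, nat_lit 0, nat_lit 2, nat_lit 0])) (.leaf ((nat_lit 1165), [nat_lit 5, nat_lit 0, nat_lit 3, nat_lit 5, nat_lit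 0, nat_lit 4, nat_lit 0, nat_lit 4, nat_lit 1, nat_lit 3, nat_lit 2, nat_lit 0, nat_lit 1, nat_lit 0, nat_lit 1, nat_lit 0, nat_lit 2, nat_lit 0])))))
 (.node (nat_lit 1625) (.node (nat_lit 1623) (.leaf ((nat_lit 815), [nat_lit 5, nat_lit 4, nat_lit 2, nat_lit 5, nat_lit 4, nat_lit 0, nat_lit 4, nat_lit 2, nat_lit 0, nat_lit 3, nat_lit 1, nat_lit 0, nat_lit 2, nat_lit 0, nat_lit 2, nat_lit 2])) (.node (nat_lit 1624) (.leaf ((nat_lit 1166), [nat_lit 0, nat_lit 2, nat_lit 4, nat_lit 0, nat_lit 5, nat_lit 2, nat_lit 0, nat_lit 3, nat_lit 1, nat_lit 4, nat_lit 2, nat_lit 0, nat_lit 2, nat_lit 2, nat_lit 0, nat_lit 2, nat_lit 2, nat_lit 0])) (.leaf ((nat_lit 943), [nat_lit 0, nat_lit 5, nat_lit 3, nat_lit 5, nat_lit 4, nat_lit 0, nat_lit 1, nat_lit 4, nat_lit 0])))) (.node (nat_lit 1626) (.leaf ((nat_lit 543), [nat_lit 3, nat_lit 0, nat_lit 5, nat_lit 3, nat_lit 5, nat_lit 3, nat_lit 0, nat_lit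 4, nat_lit 3, nat_lit 0, nat_lit 4, nat_lit 2, nat_lit 2, nat_lit 0, nat_lit 2, nat_lit 0, nat_lit 1])) (.node (nat_lit 1627) (.leaf ((nat_lit 1064), [nat_lit 4, nat_lit 5, nat_lit 3, nat_lit 5, nat_lit 1, nat_lit 0, nat_lit 3, nat_lit 1, nat_lit 4, nat_lit 2, nat_lit 2, nat_lit 0, nat_lit 1, nat_lit 0, nat_lit 2, nat_lit 2, nat_lit 0])) (.leaf ((nat_lit 1167), [nat_lit 4, nat_lit 5, nat_lit 2, nat_lit 0, nat_lit 5, nat_lit 0, nat_lit 1, nat_lit 0, nat_lit 3, nat_lit 2, nat_lit 3, nat_lit 1, nat_lit 0, nat_lit 2, nat_lit 2, nat_lit 0, nat_lit 1]))))))))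
 (.node (nat_lit 1650) (.node (nat_lit 1639) (.node (nat_lit 1633) (.node (nat_lit 1630) (.node (nat_lit 1629) (.leaf ((nat_lit 1168), [nat_lit 0, nat_lit 5, nat_lit 2, nat_lit 5, nat_lit 1, nat_lit 4, nat_lit 2, nat_lit 4, nat_lit 2, nat_lit 2])) (.leaf ((nat_lit 1169), [nat_lit 2, nat_lit 5, nat_lit 2, nat_lit 0, nat_lit 2, nat_lit 3, nat_lit 1, nat_lit 0, nat_lit 1, nat_lit 0, nat_lit 2, nat_lit 0]))) (.node (nat_lit 1631) (.leaf ((nat_lit 372), [nat_lit 5, nat_lit 4, nat_lit 5, nat_lit 2, nat_lit 5, nat_lit 3, nat_lit 1, nat_lit 4, nat_lit 0, nat_lit 4, nat_lit 3, nat_lit 0, nat_lit 2, nat_lit 2, nat_lit 0, nat_lit 1])) (.node (nat_lit 1632) (.leaf ((nat_lit 519), [nat_lit 5, nat_lit 2, nat_lit 0, nat_lit 2, nat_lit 5, nat_lit 4, nat_lit 1, nat_lit 3, nat_lit 2, nat_lit 2, nat_lit 3, nat_lit 0, nat_lit 1, nat_lit 0, nat_lit 2, nat_lit 0, nat_lit 2, nat_lit 2, nat_lit 0])) (.leaf ((nat_lit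 874), [nat_lit 2, nat_lit 2, nat_lit 0, nat_lit 5, nat_lit 3, nat_lit 0, nat_lit 1, nat_lit 3, nat_lit 4, nat_lit 2, nat_lit 3, nat_lit 0, nat_lit 2, nat_lit 0, nat_lit 1])))))
 (.node (nat_lit 1636) (.node (nat_lit 1634) (.leaf ((nat_lit 1170), [nat_lit 4, nat_lit 5, nat_lit 3, nat_lit 2, nat_lit 5, nat_lit 0, nat_lit 4, nat_lit 2, nat_lit 3, nat_lit 0, nat_lit 3, nat_lit 2, nat_lit 0, nat_lit 2, nat_lit 0, nat_lit 1, nat_lit 0, nat_lit 1])) (.node (nat_lit 1635) (.leaf ((nat_lit 1171), [nat_lit 3, nat_lit 0, nat_lit 5, nat_lit 3, nat_lit 5, nat_lit 1, nat_lit 4, nat_lit 0, nat_lit 4, nat_lit 2, nat_lit 2, nat_lit 0, nat_lit 1, nat_lit 0])) (.leaf ((nat_lit 534), [nat_lit 5, nat_lit 1, nat_lit 0, nat_lit 2, nat_lit 5, nat_lit 1, nat_lit 0, nat_lit 4, nat_lit 2, nat_lit 2, nat_lit 0, nat_lit 2, nat_lit 2, nat_lit 0, nat_lit 2, nat_lit 0])))) (.node (nat_lit 1637) (.leaf ((nat_lit 855),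 [nat_lit 2, nat_lit 4, nat_lit 0, nat_lit 5, nat_lit 1, nat_lit 4, nat_lit 3, nat_lit 2, nat_lit 3, nat_lit 1, nat_lit 0, nat_lit 1, nat_lit 0, nat_lit 2, nat_lit 2, nat_lit 0])) (.node (nat_lit 1638) (.leaf ((nat_lit 1062), [nat_lit 4, nat_lit 5, nat_lit 3, nat_lit 2, nat_lit 5, nat_lit 4, nat_lit 3, nat_lit 0, nat_lit 1, nat_lit 0, nat_lit 3, nat_lit 1, nat_lit 0])) (.leaf ((nat_lit 551), [nat_lit 5, nat_lit 1, nat_lit 0, nat_lit 2, nat_lit 5, nat_lit 3, nat_lit 0, nat_lit 3, nat_lit 0, nat_lit 2, nat_lit 0, nat_lit 1]))))))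
 (.node (nat_lit 1644) (.node (nat_lit 1641) (.node (nat_lit 1640) (.leaf ((nat_lit 770), [nat_lit 4, nat_lit 0, nat_lit 5, nat_lit 3, nat_lit 2, nat_lit 0, nat_lit 2, nat_lit 2, nat_lit 3, nat_lit 1, nat_lit 0, nat_lit 2, nat_lit 0, nat_lit 1])) (.leaf ((nat_lit 335), [nat_lit 0, nat_lit 5, nat_lit 3, nat_lit 0, nat_lit 5, nat_lit 2, nat_lit 2, nat_lit 3, nat_lit 2, nat_lit 2, nat_lit 3, nat_lit 1, nat_lit 0, nat_lit 2, nat_lit 2, nat_lit 0, nat_lit 2]))) (.node (nat_lit 1642) (.leaf ((nat_lit 1172), [nat_lit 4, nat_lit 1, nat_lit 5, nat_lit 2, nat_lit 5, nat_lit 4, nat_lit 2, nat_lit 4, nat_lit 3, nat_lit 0, nat_lit 2, nat_lit 0, nat_lit 2, nat_lit 2, nat_lit 0, nat_lit 2, nat_lit 0])) (.node (nat_lit 1643) (.leaf ((nat_lit 671), [nat_lit 2, nat_lit 3, nat_lit 0, nat_lit 5, nat_lit 2, nat_lit 0, nat_lit 1, nat_lit 4, nat_lit 3, nat_lit 1, nat_lit 0, nat_lit 2, nat_lit 2, nat_lit 0]))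 (.leaf ((nat_lit 798), [nat_lit 4, nat_lit 5, nat_lit 2, nat_lit 0, nat_lit 5, nat_lit 0, nat_lit 2, nat_lit 0, nat_lit 4, nat_lit 1, nat_lit 4, nat_lit 2, nat_lit 0, nat_lit 1, nat_lit 0, nat_lit 1, nat_lit 0])))))
 (.node (nat_lit 1647) (.node (nat_lit 1645) (.leaf ((nat_lit 1173), [nat_lit 2, nat_lit 2, nat_lit 5, nat_lit 1, nat_lit 5, nat_lit 4, nat_lit 0, nat_lit 4, nat_lit 3, nat_lit 0, nat_lit 2, nat_lit 0, nat_lit 2, nat_lit 0])) (.node (nat_lit 1646) (.leaf ((nat_lit 1174), [nat_lit 5, nat_lit 3, nat_lit 2, nat_lit 0, nat_lit 5, nat_lit 4, nat_lit 3, nat_lit 0, nat_lit 1, nat_lit 0, nat_lit 3, nat_lit 1, nat_lit 0, nat_lit 1, nat_lit 0, nat_lit 2, nat_lit 0, nat_lit 2, nat_lit 0])) (.leaf ((nat_lit 1112), [nat_lit 4, nat_lit 1, nat_lit 5, nat_lit 2, nat_lit 5, nat_lit 3, nat_lit 4, nat_lit 1, nat_lit 0, nat_lit 3, nat_lit 1, nat_lit 0, nat_lit 2, nat_lit 2])))) (.node (nat_lit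 1648) (.leaf ((nat_lit 562), [nat_lit 5, nat_lit 4, nat_lit 1, nat_lit 3, nat_lit 1, nat_lit 0, nat_lit 1, nat_lit 0, nat_lit 2, nat_lit 0, nat_lit 2, nat_lit 0])) (.node (nat_lit 1649) (.leaf ((nat_lit 1175), [nat_lit 5, nat_lit 4, nat_lit 3, nat_lit 5, nat_lit 2, nat_lit 5, nat_lit 3, nat_lit 4, nat_lit 2, nat_lit 4, nat_lit 2, nat_lit 3, nat_lit 0, nat_lit 2])) (.leaf ((nat_lit 322), [nat_lit 2, nat_lit 3, nat_lit 5, nat_lit 0, nat_lit 5, nat_lit 2, nat_lit 4, nat_lit 0, nat_lit 3, nat_lit 2, nat_lit 3, nat_lit 0, nat_lit 2, nat_lit 0, nat_lit 2, nat_lit 2, nat_lit 0])))))))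
 (.node (nat_lit 1661) (.node (nat_lit 1655) (.node (nat_lit 1652) (.node (nat_lit 1651) (.leaf ((nat_lit 982), [nat_lit 5, nat_lit 4, nat_lit 0, nat_lit 5, nat_lit 4, nat_lit 0, nat_lit 4, nat_lit 0, nat_lit 2, nat_lit 0, nat_lit 1, nat_lit 0, nat_lit 1, nat_lit 0])) (.leaf ((nat_lit 1168), [nat_lit 5, nat_lit 4, nat_lit 3, nat_lit 2, nat_lit 5, nat_lit 4, nat_lit 1, nat_lit 3, nat_lit 2, nat_lit 4, nat_lit 0, nat_lit 2, nat_lit 2]))) (.node (nat_lit 1653) (.leaf ((nat_lit 1176), [nat_lit 1, nat_lit 5, nat_lit 1, nat_lit 5, nat_lit 3, nat_lit 4, nat_lit 1, nat_lit 3, nat_lit 1, nat_lit 0, nat_lit 2])) (.node (nat_lit 1654) (.leaf ((nat_lit 306), [nat_lit 2, nat_lit 5, nat_lit 1, nat_lit 5, nat_lit 1, nat_lit 3, nat_lit 0, nat_lit 4, nat_lit 2, nat_lit 2, nat_lit 0, nat_lit 2, nat_lit 2, nat_lit 0, nat_lit 2, nat_lit 2, nat_lit 0])) (.leaf ((nat_lit 889), [nat_lit 5, nat_lit 2, nat_lit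 3, nat_lit 5, nat_lit 4, nat_lit 2, nat_lit 4, nat_lit 1, nat_lit 0, nat_lit 3, nat_lit 2, nat_lit 0, nat_lit 2, nat_lit 2, nat_lit 0, nat_lit 2, nat_lit 2, nat_lit 0])))))
 (.node (nat_lit 1658) (.node (nat_lit 1656) (.leaf ((nat_lit 1177), [nat_lit 4, nat_lit 5, nat_lit 2, nat_lit 3, nat_lit 5, nat_lit 3, nat_lit 1, nat_lit 3, nat_lit 0, nat_lit 4, nat_lit 0, nat_lit 2, nat_lit 2])) (.node (nat_lit 1657) (.leaf ((nat_lit 1012), [nat_lit 3, nat_lit 2, nat_lit 0, nat_lit 5, nat_lit 3, nat_lit 2, nat_lit 0, nat_lit 4, nat_lit 1, nat_lit 4, nat_lit 2, nat_lit 0, nat_lit 1, nat_lit 0, nat_lit 1, nat_lit 0, nat_lit 2])) (.leaf ((nat_lit 1178), [nat_lit 2, nat_lit 5, nat_lit 2, nat_lit 2, nat_lit 0, nat_lit 4, nat_lit 0, nat_lit 1, nat_lit 0, nat_lit 1, nat_lit 0, nat_lit 2, nat_lit 0])))) (.node (nat_lit 1659) (.leaf ((nat_lit 782), [nat_lit 2, nat_lit 4, nat_lit 0, nat_lit 5, nat_lit 2,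 nat_lit 4, nat_lit 3, nat_lit 0, nat_lit 1, nat_lit 0, nat_lit 2, nat_lit 0, nat_lit 2, nat_lit 2])) (.node (nat_lit 1660) (.leaf ((nat_lit 1179), [nat_lit 0, nat_lit 3, nat_lit 5, nat_lit 2, nat_lit 2, nat_lit 0, nat_lit 4, nat_lit 0, nat_lit 2, nat_lit 2])) (.leaf ((nat_lit 1180), [nat_lit 4, nat_lit 1, nat_lit 5, nat_lit 3, nat_lit 5, nat_lit 1, nat_lit 3, nat_lit 4, nat_lit 1, nat_lit 0, nat_lit 2, nat_lit 0, nat_lit 1, nat_lit 0]))))))
 (.node (nat_lit 1666) (.node (nat_lit 1663) (.node (nat_lit 1662) (.leaf ((nat_lit 1181), [nat_lit 5, nat_lit 0, nat_lit 1, nat_lit 5, nat_lit 3, nat_lit 0, nat_lit 3, nat_lit 0, nat_lit 2, nat_lit 0, nat_lit 2, nat_lit 2, nat_lit 0, nat_lit 2])) (.leaf ((nat_lit 726), [nat_lit 1, nat_lit 5, nat_lit 2, nat_lit 5, nat_lit 1, nat_lit 0, nat_lit 1, nat_lit 4, nat_lit 3, nat_lit 2, nat_lit 0, nat_lit 2, nat_lit 2, nat_lit 0, nat_lit 2, nat_lit 2]))) (.node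 (nat_lit 1664) (.leaf ((nat_lit 92), [nat_lit 3, nat_lit 2, nat_lit 5, nat_lit 0, nat_lit 5, nat_lit 3, nat_lit 1, nat_lit 0, nat_lit 2, nat_lit 2, nat_lit 0])) (.node (nat_lit 1665) (.leaf ((nat_lit 12), [nat_lit 3, nat_lit 0, nat_lit 5, nat_lit 1, nat_lit 0, nat_lit 1, nat_lit 4, nat_lit 3, nat_lit 1, nat_lit 0, nat_lit 2, nat_lit 2])) (.leaf ((nat_lit 1182), [nat_lit 3, nat_lit 0, nat_lit 5, nat_lit 3, nat_lit 1, nat_lit 0, nat_lit 3, nat_lit 1, nat_lit 3, nat_lit 2, nat_lit 0, nat_lit 1])))))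
 (.node (nat_lit 1669) (.node (nat_lit 1667) (.leaf ((nat_lit 1183), [nat_lit 5, nat_lit 4, nat_lit 5, nat_lit 2, nat_lit 5, nat_lit 0, nat_lit 1, nat_lit 0, nat_lit 1, nat_lit 0, nat_lit 3, nat_lit 2, nat_lit 0, nat_lit 2, nat_lit 2, nat_lit 0, nat_lit 2, nat_lit 2])) (.node (nat_lit 1668) (.leaf ((nat_lit 1101), [nat_lit 4, nat_lit 0, nat_lit 5, nat_lit 2, nat_lit 4, nat_lit 3, nat_lit 0, nat_lit 2, nat_lit 3, nat_lit 1, nat_lit 0, nat_lit 1, nat_lit 0, nat_lit 2, nat_lit 0])) (.leaf ((nat_lit 392), [nat_lit 2, nat_lit 0, nat_lit 5, nat_lit 4, nat_lit 0, nat_lit 4, nat_lit 3, nat_lit 0, nat_lit 1])))) (.node (nat_lit 1670) (.leaf ((nat_lit 229), [nat_lit 2, nat_lit 5, nat_lit 0, nat_lit 5, nat_lit 2, nat_lit 2, nat_lit 0, nat_lit 3, nat_lit 4, nat_lit 2, nat_lit 0, nat_lit 2, nat_lit 0, nat_lit 1, nat_lit 0, nat_lit 1, nat_lit 0])) (.node (nat_lit 1671) (.leaf ((nat_lit 399), [nat_lit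 5, nat_lit 1, nat_lit 5, nat_lit 3, nat_lit 4, nat_lit 1, nat_lit 3, nat_lit 0, nat_lit 3, nat_lit 2, nat_lit 2, nat_lit 0, nat_lit 2, nat_lit 0, nat_lit 1, nat_lit 0])) (.leaf ((nat_lit 1041), [nat_lit 5, nat_lit 2, nat_lit 0, nat_lit 5, nat_lit 4, nat_lit 2, nat_lit 4, nat_lit 3, nat_lit 2, nat_lit 0, nat_lit 2, nat_lit 2, nat_lit 0, nat_lit 1])))))))))
 (.node (nat_lit 1716) (.node (nat_lit 1694) (.node (nat_lit 1683) (.node (nat_lit 1677) (.node (nat_lit 1674) (.node (nat_lit 1673) (.leaf ((nat_lit 702), [nat_lit 3, nat_lit 2, nat_lit 5, nat_lit 0, nat_lit 1, nat_lit 4, nat_lit 3, nat_lit 2, nat_lit 3, nat_lit 2, nat_lit 2, nat_lit 0, nat_lit 2, nat_lit 2, nat_lit 0, nat_lit 2])) (.leaf ((nat_lit 1184), [nat_lit 5, nat_lit 4, nat_lit 1, nat_lit 0, nat_lit 5, nat_lit 4, nat_lit 3, nat_lit 1, nat_lit 3, nat_lit 0, nat_lit 3, nat_lit 0, nat_lit 2, nat_lit 2, nat_lit 0, nat_lit 2, nat_lit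 2, nat_lit 0]))) (.node (nat_lit 1675) (.leaf ((nat_lit 1185), [nat_lit 5, nat_lit 1, nat_lit 5, nat_lit 0, nat_lit 5, nat_lit 0, nat_lit 2, nat_lit 0, nat_lit 4, nat_lit 1, nat_lit 4, nat_lit 0, nat_lit 2, nat_lit 0, nat_lit 2, nat_lit 2, nat_lit 0, nat_lit 1])) (.node (nat_lit 1676) (.leaf ((nat_lit 1186), [nat_lit 0, nat_lit 5, nat_lit 3, nat_lit 4, nat_lit 1, nat_lit 3, nat_lit 1, nat_lit 3, nat_lit 0, nat_lit 2, nat_lit 2, nat_lit 0, nat_lit 2, nat_lit 2])) (.leaf ((nat_lit 677), [nat_lit 4, nat_lit 5, nat_lit 3, nat_lit 5, nat_lit 0, nat_lit 2, nat_lit 3, nat_lit 2, nat_lit 0, nat_lit 3, nat_lit 1, nat_lit 0, nat_lit 2, nat_lit 0, nat_lit 2, nat_lit 0])))))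
 (.node (nat_lit 1680) (.node (nat_lit 1678) (.leaf ((nat_lit 572), [nat_lit 2, nat_lit 5, nat_lit 0, nat_lit 5, nat_lit 3, nat_lit 0, nat_lit 3, nat_lit 4, nat_lit 3, nat_lit 1, nat_lit 0, nat_lit 1, nat_lit 0, nat_lit 2, nat_lit 0, nat_lit 2])) (.node (nat_lit 1679) (.leaf ((nat_lit 1187), [nat_lit 5, nat_lit 4, nat_lit 2, nat_lit 5, nat_lit 4, nat_lit 1, nat_lit 4, nat_lit 3, nat_lit 2, nat_lit 0])) (.leaf ((nat_lit 298), [nat_lit 2, nat_lit 5, nat_lit 0, nat_lit 5, nat_lit 2, nat_lit 3, nat_lit 0, nat_lit 1, nat_lit 0, nat_lit 3, nat_lit 2, nat_lit 2, nat_lit 0, nat_lit 2, nat_lit 2, nat_lit 0, nat_lit 1, nat_lit 0])))) (.node (nat_lit 1681) (.leaf ((nat_lit 563), [nat_lit 4, nat_lit 5, nat_lit 3, nat_lit 2, nat_lit 5, nat_lit 0, nat_lit 4, nat_lit 2, nat_lit 3, nat_lit 0, nat_lit 3, nat_lit 0, nat_lit 2, nat_lit 0, nat_lit 1, nat_lit 0, nat_lit 1, nat_lit 0])) (.node (nat_lit 1682)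 (.leaf ((nat_lit 768), [nat_lit 3, nat_lit 4, nat_lit 5, nat_lit 2, nat_lit 5, nat_lit 3, nat_lit 0, nat_lit 3, nat_lit 2, nat_lit 0, nat_lit 3, nat_lit 1, nat_lit 0])) (.leaf ((nat_lit 1123), [nat_lit 1, nat_lit 4, nat_lit 5, nat_lit 1, nat_lit 5, nat_lit 3, nat_lit 2, nat_lit 4, nat_lit 2, nat_lit 4, nat_lit 2, nat_lit 2, nat_lit 0, nat_lit 1, nat_lit 0, nat_lit 2, nat_lit 0]))))))
 (.node (nat_lit 1688) (.node (nat_lit 1685) (.node (nat_lit 1684) (.leaf ((nat_lit 113), [nat_lit 2, nat_lit 4, nat_lit 5, nat_lit 2, nat_lit 0, nat_lit 5, nat_lit 0, nat_lit 3, nat_lit 4, nat_lit 2, nat_lit 0, nat_lit 4, nat_lit 2, nat_lit 0, nat_lit 1, nat_lit 0, nat_lit 1, nat_lit 0])) (.leaf ((nat_lit 665), [nat_lit 5, nat_lit 3, nat_lit 2, nat_lit 5, nat_lit 0, nat_lit 2, nat_lit 0, nat_lit 3, nat_lit 4, nat_lit 2, nat_lit 0, nat_lit 2, nat_lit 2]))) (.node (nat_lit 1686) (.leaf ((nat_lit 894), [nat_lit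 0, nat_lit 4, nat_lit 2, nat_lit 0, nat_lit 5, nat_lit 3, nat_lit 2, nat_lit 3, nat_lit 2, nat_lit 2, nat_lit 3, nat_lit 0, nat_lit 2, nat_lit 2, nat_lit 0, nat_lit 2, nat_lit 0, nat_lit 1])) (.node (nat_lit 1687) (.leaf ((nat_lit 767), [nat_lit 4, nat_lit 2, nat_lit 0, nat_lit 5, nat_lit 0, nat_lit 4, nat_lit 0, nat_lit 1, nat_lit 4, nat_lit 3, nat_lit 1, nat_lit 0, nat_lit 2, nat_lit 2, nat_lit 0, nat_lit 2, nat_lit 2, nat_lit 0])) (.leaf ((nat_lit 644), [nat_lit 2, nat_lit 2, nat_lit 5, nat_lit 1, nat_lit 5, nat_lit 2, nat_lit 0, nat_lit 4, nat_lit 1, nat_lit 0, nat_lit 1, nat_lit 0])))))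
 (.node (nat_lit 1691) (.node (nat_lit 1689) (.leaf ((nat_lit 963), [nat_lit 5, nat_lit 3, nat_lit 2, nat_lit 0, nat_lit 5, nat_lit 3, nat_lit 4, nat_lit 0, nat_lit 3, nat_lit 1, nat_lit 0, nat_lit 1, nat_lit 0])) (.node (nat_lit 1690) (.leaf ((nat_lit 1188), [nat_lit 4, nat_lit 1, nat_lit 5, nat_lit 3, nat_lit 5, nat_lit 2, nat_lit 0, nat_lit 1, nat_lit 0, nat_lit 4, nat_lit 0, nat_lit 2, nat_lit 0, nat_lit 2, nat_lit 2, nat_lit 0])) (.leaf ((nat_lit 1189), [nat_lit 5, nat_lit 3, nat_lit 2, nat_lit 0, nat_lit 5, nat_lit 4, nat_lit 2, nat_lit 4, nat_lit 2, nat_lit 3, nat_lit 0, nat_lit 2, nat_lit 0, nat_lit 2])))) (.node (nat_lit 1692) (.leaf ((nat_lit 1190), [nat_lit 3, nat_lit 5, nat_lit 0, nat_lit 5, nat_lit 4, nat_lit 3, nat_lit 1, nat_lit 0, nat_lit 1, nat_lit 0, nat_lit 2, nat_lit 0])) (.node (nat_lit 1693) (.leaf ((nat_lit 234), [nat_lit 4, nat_lit 2, nat_lit 5, nat_lit 3, nat_lit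 5, nat_lit 4, nat_lit 1, nat_lit 3, nat_lit 0, nat_lit 1, nat_lit 4, nat_lit 1, nat_lit 0, nat_lit 2, nat_lit 0, nat_lit 2, nat_lit 2, nat_lit 0])) (.leaf ((nat_lit 633), [nat_lit 3, nat_lit 5, nat_lit 2, nat_lit 5, nat_lit 2, nat_lit 2, nat_lit 0, nat_lit 4, nat_lit 1, nat_lit 0, nat_lit 2, nat_lit 0])))))))
 (.node (nat_lit 1705) (.node (nat_lit 1699) (.node (nat_lit 1696) (.node (nat_lit 1695) (.leaf ((nat_lit 1191), [nat_lit 2, nat_lit 5, nat_lit 2, nat_lit 3, nat_lit 5, nat_lit 3, nat_lit 1, nat_lit 3, nat_lit 0, nat_lit 3, nat_lit 2, nat_lit 0, nat_lit 1, nat_lit 0, nat_lit 2, nat_lit 2, nat_lit 0])) (.leaf ((nat_lit 84), [nat_lit 3, nat_lit 1, nat_lit 5, nat_lit 2, nat_lit 5, nat_lit 1, nat_lit 4, nat_lit 3, nat_lit 2, nat_lit 0, nat_lit 2, nat_lit 2, nat_lit 0]))) (.node (nat_lit 1697) (.leaf ((nat_lit 1034), [nat_lit 2, nat_lit 4, nat_lit 5, nat_lit 2, nat_lit 0, nat_lit 5, nat_lit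 1, nat_lit 0, nat_lit 3, nat_lit 0])) (.node (nat_lit 1698) (.leaf ((nat_lit 586), [nat_lit 0, nat_lit 2, nat_lit 5, nat_lit 3, nat_lit 5, nat_lit 4, nat_lit 3, nat_lit 1, nat_lit 4, nat_lit 3])) (.leaf ((nat_lit 1192), [nat_lit 5, nat_lit 2, nat_lit 3, nat_lit 0, nat_lit 5, nat_lit 2, nat_lit 4, nat_lit 3, nat_lit 2, nat_lit 3, nat_lit 1, nat_lit 0, nat_lit 2, nat_lit 2, nat_lit 0, nat_lit 2, nat_lit 2, nat_lit 0])))))
 (.node (nat_lit 1702) (.node (nat_lit 1700) (.leaf ((nat_lit 264), [nat_lit 0, nat_lit 5, nat_lit 0, nat_lit 1, nat_lit 5, nat_lit 3, nat_lit 1, nat_lit 4, nat_lit 3, nat_lit 2, nat_lit 0, nat_lit 3, nat_lit 2, nat_lit 2, nat_lit 0, nat_lit 2, nat_lit 2, nat_lit 0, nat_lit 2])) (.node (nat_lit 1701) (.leaf ((nat_lit 618), [nat_lit 5, nat_lit 2, nat_lit 0, nat_lit 2, nat_lit 5, nat_lit 2, nat_lit 0, nat_lit 4, nat_lit 1, nat_lit 3, nat_lit 2, nat_lit 0, nat_lit 2, nat_lit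 2, nat_lit 0, nat_lit 2])) (.leaf ((nat_lit 1193), [nat_lit 4, nat_lit 2, nat_lit 5, nat_lit 1, nat_lit 5, nat_lit 0, nat_lit 4, nat_lit 2, nat_lit 3, nat_lit 4, nat_lit 0, nat_lit 2, nat_lit 0, nat_lit 1])))) (.node (nat_lit 1703) (.leaf ((nat_lit 1194), [nat_lit 0, nat_lit 5, nat_lit 0, nat_lit 1, nat_lit 5, nat_lit 2, nat_lit 2, nat_lit 0, nat_lit 3, nat_lit 4, nat_lit 0, nat_lit 1, nat_lit 0, nat_lit 2, nat_lit 2, nat_lit 0])) (.node (nat_lit 1704) (.leaf ((nat_lit 1011), [nat_lit 5, nat_lit 4, nat_lit 1, nat_lit 0, nat_lit 5, nat_lit 1, nat_lit 3, nat_lit 4, nat_lit 3, nat_lit 0, nat_lit 3, nat_lit 0, nat_lit 1, nat_lit 0, nat_lit 1])) (.leaf ((nat_lit 1195), [nat_lit 0, nat_lit 4, nat_lit 2, nat_lit 0, nat_lit 5, nat_lit 2, nat_lit 3, nat_lit 4, nat_lit 1, nat_lit 0, nat_lit 3, nat_lit 2, nat_lit 0, nat_lit 2]))))))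
 (.node (nat_lit 1710) (.node (nat_lit 1707) (.node (nat_lit 1706) (.leaf ((nat_lit 272), [nat_lit 0, nat_lit 5, nat_lit 3, nat_lit 5, nat_lit 3, nat_lit 0, nat_lit 3, nat_lit 2, nat_lit 3, nat_lit 0, nat_lit 1, nat_lit 0, nat_lit 2, nat_lit 2])) (.leaf ((nat_lit 116), [nat_lit 2, nat_lit 5, nat_lit 3, nat_lit 5, nat_lit 4, nat_lit 3, nat_lit 0, nat_lit 2, nat_lit 3, nat_lit 0, nat_lit 2, nat_lit 2, nat_lit 0, nat_lit 2, nat_lit 0, nat_lit 1]))) (.node (nat_lit 1708) (.leaf ((nat_lit 976), [nat_lit 0, nat_lit 5, nat_lit 2, nat_lit 3, nat_lit 5, nat_lit 1, nat_lit 0, nat_lit 1, nat_lit 0, nat_lit 3, nat_lit 0, nat_lit 2, nat_lit 0, nat_lit 2, nat_lit 2, nat_lit 0, nat_lit 1, nat_lit 0])) (.node (nat_lit 1709) (.leaf ((nat_lit 1196), [nat_lit 5, nat_lit 1, nat_lit 3, nat_lit 2, nat_lit 5, nat_lit 2, nat_lit 0, nat_lit 3, nat_lit 2, nat_lit 3, nat_lit 0, nat_lit 1, nat_lit 0, nat_lit 2,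 nat_lit 0, nat_lit 2])) (.leaf ((nat_lit 964), [nat_lit 2, nat_lit 2, nat_lit 0, nat_lit 5, nat_lit 0, nat_lit 3, nat_lit 0, nat_lit 2, nat_lit 3, nat_lit 2, nat_lit 2, nat_lit 0, nat_lit 2, nat_lit 2, nat_lit 0, nat_lit 2, nat_lit 2, nat_lit 0])))))
 (.node (nat_lit 1713) (.node (nat_lit 1711) (.leaf ((nat_lit 492), [nat_lit 2, nat_lit 4, nat_lit 2, nat_lit 0, nat_lit 5, nat_lit 3, nat_lit 2, nat_lit 0, nat_lit 2, nat_lit 4, nat_lit 3, nat_lit 2, nat_lit 0, nat_lit 2, nat_lit 0, nat_lit 1])) (.node (nat_lit 1712) (.leaf ((nat_lit 722), [nat_lit 2, nat_lit 5, nat_lit 4, nat_lit 5, nat_lit 2, nat_lit 2, nat_lit 0, nat_lit 3, nat_lit 4, nat_lit 2, nat_lit 2, nat_lit 0, nat_lit 2, nat_lit 0])) (.leaf ((nat_lit 1197), [nat_lit 5, nat_lit 2, nat_lit 3, nat_lit 5, nat_lit 3, nat_lit 4, nat_lit 0, nat_lit 3, nat_lit 4, nat_lit 2, nat_lit 0, nat_lit 1, nat_lit 0, nat_lit 2])))) (.node (nat_lit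 1714) (.leaf ((nat_lit 501), [nat_lit 3, nat_lit 2, nat_lit 0, nat_lit 5, nat_lit 0, nat_lit 2, nat_lit 4, nat_lit 1, nat_lit 0, nat_lit 3, nat_lit 2, nat_lit 2, nat_lit 0, nat_lit 2, nat_lit 0, nat_lit 1, nat_lit 0])) (.node (nat_lit 1715) (.leaf ((nat_lit 1198), [nat_lit 3, nat_lit 2, nat_lit 5, nat_lit 1, nat_lit 3, nat_lit 2, nat_lit 4, nat_lit 2, nat_lit 3, nat_lit 2, nat_lit 0, nat_lit 2, nat_lit 2, nat_lit 0, nat_lit 1, nat_lit 0])) (.leaf ((nat_lit 1199), [nat_lit 4, nat_lit 0, nat_lit 5, nat_lit 2, nat_lit 5, nat_lit 2, nat_lit 4, nat_lit 0, nat_lit 4, nat_lit 3, nat_lit 0, nat_lit 1, nat_lit 0, nat_lit 2, nat_lit 0, nat_lit 2]))))))))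
 (.node (nat_lit 1738) (.node (nat_lit 1727) (.node (nat_lit 1721) (.node (nat_lit 1718) (.node (nat_lit 1717) (.leaf ((nat_lit 899), [nat_lit 0, nat_lit 2, nat_lit 4, nat_lit 0, nat_lit 5, nat_lit 3, nat_lit 4, nat_lit 3, nat_lit 2, nat_lit 3, nat_lit 1, nat_lit 0, nat_lit 1, nat_lit 0, nat_lit 2, nat_lit 0, nat_lit 2])) (.leaf ((nat_lit 121), [nat_lit 2, nat_lit 3, nat_lit 0, nat_lit 5, nat_lit 0, nat_lit 1, nat_lit 4, nat_lit 3, nat_lit 2, nat_lit 3, nat_lit 0, nat_lit 2, nat_lit 0]))) (.node (nat_lit 1719) (.leaf ((nat_lit 55), [nat_lit 1, nat_lit 3, nat_lit 2, nat_lit 5, nat_lit 3, nat_lit 2, nat_lit 3, nat_lit 2, nat_lit 2, nat_lit 3, nat_lit 2, nat_lit 2, nat_lit 0, nat_lit 1, nat_lit 0, nat_lit 2, nat_lit 2, nat_lit 0])) (.node (nat_lit 1720) (.leaf ((nat_lit 1200), [nat_lit 3, nat_lit 5, nat_lit 0, nat_lit 5, nat_lit 3, nat_lit 2, nat_lit 4, nat_lit 1, nat_lit 0, nat_lit 2, nat_lit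 0])) (.leaf ((nat_lit 1201), [nat_lit 2, nat_lit 5, nat_lit 2, nat_lit 3, nat_lit 5, nat_lit 1, nat_lit 3, nat_lit 4, nat_lit 3, nat_lit 1, nat_lit 3, nat_lit 2, nat_lit 2, nat_lit 0, nat_lit 1, nat_lit 0, nat_lit 2, nat_lit 2])))))
 (.node (nat_lit 1724) (.node (nat_lit 1722) (.leaf ((nat_lit 1048), [nat_lit 3, nat_lit 1, nat_lit 3, nat_lit 0, nat_lit 5, nat_lit 3, nat_lit 0, nat_lit 3, nat_lit 1, nat_lit 4, nat_lit 1, nat_lit 0, nat_lit 2, nat_lit 2, nat_lit 0, nat_lit 1])) (.node (nat_lit 1723) (.leaf ((nat_lit 69), [nat_lit 4, nat_lit 2, nat_lit 0, nat_lit 5, nat_lit 4, nat_lit 1, nat_lit 3, nat_lit 4, nat_lit 3, nat_lit 1, nat_lit 0, nat_lit 2])) (.leaf ((nat_lit 1082), [nat_lit 3, nat_lit 5, nat_lit 1, nat_lit 3, nat_lit 0, nat_lit 5, nat_lit 0, nat_lit 3, nat_lit 0, nat_lit 2, nat_lit 4, nat_lit 0, nat_lit 2, nat_lit 0])))) (.node (nat_lit 1725) (.leaf ((nat_lit 895), [nat_lit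 5, nat_lit 1, nat_lit 3, nat_lit 2, nat_lit 5, nat_lit 2, nat_lit 0, nat_lit 1, nat_lit 0, nat_lit 3, nat_lit 1, nat_lit 0, nat_lit 2, nat_lit 0, nat_lit 2])) (.node (nat_lit 1726) (.leaf ((nat_lit 1202), [nat_lit 4, nat_lit 2, nat_lit 5, nat_lit 3, nat_lit 5, nat_lit 0, nat_lit 1, nat_lit 3, nat_lit 1, nat_lit 0, nat_lit 4, nat_lit 0, nat_lit 2, nat_lit 2, nat_lit 0, nat_lit 2, nat_lit 2, nat_lit 0])) (.leaf ((nat_lit 536), [nat_lit 5, nat_lit 4, nat_lit 5, nat_lit 2, nat_lit 5, nat_lit 4, nat_lit 0, nat_lit 3, nat_lit 4, nat_lit 3, nat_lit 1, nat_lit 0, nat_lit 2, nat_lit 2, nat_lit 0]))))))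
 (.node (nat_lit 1732) (.node (nat_lit 1729) (.node (nat_lit 1728) (.leaf ((nat_lit 1203), [nat_lit 2, nat_lit 0, nat_lit 5, nat_lit 4, nat_lit 1, nat_lit 3, nat_lit 4, nat_lit 2, nat_lit 0, nat_lit 2, nat_lit 2, nat_lit 0, nat_lit 2, nat_lit 0])) (.leaf ((nat_lit 452), [nat_lit 5, nat_lit 1, nat_lit 5, nat_lit 3, nat_lit 0, nat_lit 3, nat_lit 4, nat_lit 0, nat_lit 1, nat_lit 0, nat_lit 2, nat_lit 2]))) (.node (nat_lit 1730) (.leaf ((nat_lit 1204), [nat_lit 4, nat_lit 5, nat_lit 1, nat_lit 5, nat_lit 3, nat_lit 1, nat_lit 3, nat_lit 0, nat_lit 4, nat_lit 2, nat_lit 2, nat_lit 0, nat_lit 2, nat_lit 2])) (.node (nat_lit 1731) (.leaf ((nat_lit 1093), [nat_lit 0, nat_lit 5, nat_lit 3, nat_lit 5, nat_lit 2, nat_lit 3, nat_lit 2, nat_lit 0, nat_lit 4, nat_lit 2, nat_lit 0])) (.leaf ((nat_lit 710), [nat_lit 4, nat_lit 5, nat_lit 1, nat_lit 5, nat_lit 4, nat_lit 3, nat_lit 0, nat_lit 2, nat_lit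 3, nat_lit 2, nat_lit 2, nat_lit 0, nat_lit 2, nat_lit 2, nat_lit 0, nat_lit 2])))))
 (.node (nat_lit 1735) (.node (nat_lit 1733) (.leaf ((nat_lit 616), [nat_lit 5, nat_lit 4, nat_lit 1, nat_lit 0, nat_lit 5, nat_lit 0, nat_lit 3, nat_lit 0, nat_lit 2, nat_lit 4, nat_lit 2, nat_lit 2, nat_lit 0])) (.node (nat_lit 1734) (.leaf ((nat_lit 883), [nat_lit 3, nat_lit 5, nat_lit 0, nat_lit 3, nat_lit 5, nat_lit 1, nat_lit 3, nat_lit 2, nat_lit 0, nat_lit 4, nat_lit 0, nat_lit 1, nat_lit 0, nat_lit 2, nat_lit 0, nat_lit 2, nat_lit 2, nat_lit 0])) (.leaf ((nat_lit 1205), [nat_lit 1, nat_lit 5, nat_lit 2, nat_lit 5, nat_lit 4, nat_lit 3, nat_lit 0, nat_lit 2, nat_lit 4, nat_lit 0, nat_lit 1, nat_lit 0, nat_lit 2, nat_lit 2, nat_lit 0, nat_lit 2, nat_lit 0])))) (.node (nat_lit 1736) (.leaf ((nat_lit 1206), [nat_lit 4, nat_lit 3, nat_lit 5, nat_lit 0, nat_lit 5, nat_lit 2, nat_lit 3, nat_lit 4, nat_lit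 3, nat_lit 2, nat_lit 3, nat_lit 0, nat_lit 2, nat_lit 2])) (.node (nat_lit 1737) (.leaf ((nat_lit 1207), [nat_lit 5, nat_lit 2, nat_lit 0, nat_lit 2, nat_lit 5, nat_lit 3, nat_lit 0, nat_lit 4, nat_lit 1, nat_lit 3, nat_lit 2, nat_lit 0, nat_lit 1, nat_lit 0, nat_lit 2, nat_lit 2, nat_lit 0])) (.leaf ((nat_lit 475), [nat_lit 5, nat_lit 4, nat_lit 1, nat_lit 0, nat_lit 5, nat_lit 3, nat_lit 0, nat_lit 1, nat_lit 3, nat_lit 0, nat_lit 3, nat_lit 2, nat_lit 2, nat_lit 0, nat_lit 2])))))))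
 (.node (nat_lit 1749) (.node (nat_lit 1743) (.node (nat_lit 1740) (.node (nat_lit 1739) (.leaf ((nat_lit 1076), [nat_lit 1, nat_lit 4, nat_lit 5, nat_lit 1, nat_lit 5, nat_lit 4, nat_lit 3, nat_lit 1, nat_lit 4, nat_lit 1, nat_lit 3, nat_lit 0, nat_lit 2, nat_lit 2, nat_lit 0, nat_lit 2])) (.leaf ((nat_lit 1208), [nat_lit 1, nat_lit 0, nat_lit 2, nat_lit 5, nat_lit 4, nat_lit 1, nat_lit 3, nat_lit 4, nat_lit 1]))) (.node (nat_lit 1741) (.leaf ((nat_lit 1209), [nat_lit 1, nat_lit 0, nat_lit 2, nat_lit 5, nat_lit 4, nat_lit 0, nat_lit 4, nat_lit 0, nat_lit 4, nat_lit 2, nat_lit 0, nat_lit 2, nat_lit 2, nat_lit 0, nat_lit 1, nat_lit 0])) (.node (nat_lit 1742) (.leaf ((nat_lit 1210), [nat_lit 3, nat_lit 5, nat_lit 0, nat_lit 3, nat_lit 5, nat_lit 2, nat_lit 3, nat_lit 0, nat_lit 1, nat_lit 0, nat_lit 3, nat_lit 2, nat_lit 0, nat_lit 2, nat_lit 2, nat_lit 0])) (.leaf ((nat_lit 621), [nat_lit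 2, nat_lit 5, nat_lit 1, nat_lit 5, nat_lit 4, nat_lit 1, nat_lit 4, nat_lit 1, nat_lit 4, nat_lit 3, nat_lit 2, nat_lit 2, nat_lit 0, nat_lit 2, nat_lit 2, nat_lit 0, nat_lit 2, nat_lit 2])))))
 (.node (nat_lit 1746) (.node (nat_lit 1744) (.leaf ((nat_lit 1211), [nat_lit 3, nat_lit 2, nat_lit 0, nat_lit 5, nat_lit 3, nat_lit 1, nat_lit 4, nat_lit 1, nat_lit 3, nat_lit 0, nat_lit 1, nat_lit 0, nat_lit 2, nat_lit 2])) (.node (nat_lit 1745) (.leaf ((nat_lit 132), [nat_lit 3, nat_lit 5, nat_lit 1, nat_lit 3, nat_lit 0, nat_lit 5, nat_lit 4, nat_lit 2, nat_lit 4, nat_lit 0, nat_lit 1, nat_lit 0, nat_lit 3, nat_lit 1, nat_lit 0, nat_lit 2, nat_lit 2, nat_lit 0, nat_lit 2, nat_lit 2])) (.leaf ((nat_lit 328), [nat_lit 3, nat_lit 0, nat_lit 5, nat_lit 3, nat_lit 5, nat_lit 3, nat_lit 1, nat_lit 3, nat_lit 0, nat_lit 2, nat_lit 4, nat_lit 2, nat_lit 2, nat_lit 0, nat_lit 2, nat_lit 0])))) (.node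 (nat_lit 1747) (.leaf ((nat_lit 924), [nat_lit 0, nat_lit 2, nat_lit 5, nat_lit 3, nat_lit 5, nat_lit 3, nat_lit 2, nat_lit 0, nat_lit 3, nat_lit 4, nat_lit 2, nat_lit 0, nat_lit 2, nat_lit 2, nat_lit 0, nat_lit 1])) (.node (nat_lit 1748) (.leaf ((nat_lit 276), [nat_lit 2, nat_lit 5, nat_lit 1, nat_lit 5, nat_lit 1, nat_lit 4, nat_lit 1, nat_lit 0, nat_lit 3, nat_lit 2, nat_lit 2, nat_lit 0, nat_lit 2])) (.leaf ((nat_lit 608), [nat_lit 5, nat_lit 4, nat_lit 3, nat_lit 5, nat_lit 2, nat_lit 5, nat_lit 4, nat_lit 2, nat_lit 4, nat_lit 1, nat_lit 0, nat_lit 2, nat_lit 0, nat_lit 2]))))))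
 (.node (nat_lit 1754) (.node (nat_lit 1751) (.node (nat_lit 1750) (.leaf ((nat_lit 1212), [nat_lit 3, nat_lit 4, nat_lit 5, nat_lit 2, nat_lit 5, nat_lit 0, nat_lit 4, nat_lit 2, nat_lit 3, nat_lit 0, nat_lit 3, nat_lit 2, nat_lit 2, nat_lit 0, nat_lit 1, nat_lit 0, nat_lit 2, nat_lit 0])) (.leaf ((nat_lit 1213), [nat_lit 3, nat_lit 5, nat_lit 2, nat_lit 5, nat_lit 0, nat_lit 1, nat_lit 4, nat_lit 3, nat_lit 2, nat_lit 2, nat_lit 0, nat_lit 2, nat_lit 2, nat_lit 0]))) (.node (nat_lit 1752) (.leaf ((nat_lit 1135), [nat_lit 2, nat_lit 0, nat_lit 1, nat_lit 5, nat_lit 1, nat_lit 4, nat_lit 1, nat_lit 4, nat_lit 2, nat_lit 2, nat_lit 0, nat_lit 2, nat_lit 0])) (.node (nat_lit 1753) (.leaf ((nat_lit 1214), [nat_lit 5, nat_lit 3, nat_lit 0, nat_lit 5, nat_lit 2, nat_lit 3, nat_lit 1, nat_lit 3, nat_lit 4, nat_lit 2, nat_lit 2, nat_lit 0, nat_lit 2, nat_lit 0, nat_lit 1])) (.leaf ((nat_lit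 1215), [nat_lit 5, nat_lit 1, nat_lit 3, nat_lit 0, nat_lit 5, nat_lit 4, nat_lit 0, nat_lit 1, nat_lit 4, nat_lit 3, nat_lit 0, nat_lit 1, nat_lit 0, nat_lit 1, nat_lit 0, nat_lit 2, nat_lit 0])))))
 (.node (nat_lit 1757) (.node (nat_lit 1755) (.leaf ((nat_lit 993), [nat_lit 2, nat_lit 3, nat_lit 0, nat_lit 5, nat_lit 2, nat_lit 2, nat_lit 3, nat_lit 2, nat_lit 4, nat_lit 0, nat_lit 1, nat_lit 0, nat_lit 1])) (.node (nat_lit 1756) (.leaf ((nat_lit 423), [nat_lit 4, nat_lit 2, nat_lit 5, nat_lit 3, nat_lit 5, nat_lit 1, nat_lit 4, nat_lit 2, nat_lit 3, nat_lit 1, nat_lit 3, nat_lit 0, nat_lit 1, nat_lit 0, nat_lit 1])) (.leaf ((nat_lit 1216), [nat_lit 4, nat_lit 2, nat_lit 0, nat_lit 5, nat_lit 1, nat_lit 3, nat_lit 2, nat_lit 2, nat_lit 0, nat_lit 2, nat_lit 2])))) (.node (nat_lit 1758) (.leaf ((nat_lit 345), [nat_lit 5, nat_lit 1, nat_lit 0, nat_lit 2, nat_lit 5, nat_lit 2, nat_lit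 3, nat_lit 4, nat_lit 3, nat_lit 0, nat_lit 2, nat_lit 0, nat_lit 2, nat_lit 2, nat_lit 0, nat_lit 1, nat_lit 0])) (.node (nat_lit 1759) (.leaf ((nat_lit 32), [nat_lit 4, nat_lit 0, nat_lit 5, nat_lit 3, nat_lit 4, nat_lit 0, nat_lit 2, nat_lit 4, nat_lit 2, nat_lit 2, nat_lit 0, nat_lit 1, nat_lit 0, nat_lit 2, nat_lit 2, nat_lit 0])) (.leaf ((nat_lit 987), [nat_lit 2, nat_lit 0, nat_lit 1, nat_lit 5, nat_lit 1, nat_lit 3, nat_lit 4, nat_lit 3, nat_lit 1, nat_lit 0, nat_lit 2, nat_lit 2, nat_lit 0, nat_lit 2, nat_lit 2, nat_lit 0]))))))))))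
noncomputable def bWd_10 : Tr (ℕ × List ℕ) := (.node (nat_lit 1848) (.node (nat_lit 1804) (.node (nat_lit 1782) (.node (nat_lit 1771) (.node (nat_lit 1765) (.node (nat_lit 1762) (.node (nat_lit 1761) (.leaf ((nat_lit 1037), [nat_lit 4, nat_lit 2, nat_lit 0, nat_lit 5, nat_lit 2, nat_lit 4, nat_lit 1, nat_lit 0, nat_lit 1, nat_lit 0, nat_lit 3, nat_lit 1, nat_lit 0, nat_lit 2, nat_lit 2, nat_lit 0, nat_lit 1])) (.leaf ((nat_lit 1217), [nat_lit 4, nat_lit 5, nat_lit 2, nat_lit 0, nat_lit 5, nat_lit 2, nat_lit 0, nat_lit 1, nat_lit 4, nat_lit 3, nat_lit 0, nat_lit 1, nat_lit 0, nat_lit 2, nat_lit 0, nat_lit 2, nat_lit 2]))) (.node (nat_lit 1763) (.leaf ((nat_lit 594), [nat_lit 4, nat_lit 1, nat_lit 5, nat_lit 2, nat_lit 5, nat_lit 4, nat_lit 2, nat_lit 0, nat_lit 2, nat_lit 4, nat_lit 2, nat_lit 0, nat_lit 2, nat_lit 2])) (.node (nat_lit 1764) (.leaf ((nat_lit 1218), [nat_lit 4, nat_lit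 3, nat_lit 0, nat_lit 5, nat_lit 1, nat_lit 0, nat_lit 4, nat_lit 2, nat_lit 2, nat_lit 0, nat_lit 2, nat_lit 2, nat_lit 0, nat_lit 2, nat_lit 2])) (.leaf ((nat_lit 1219), [nat_lit 5, nat_lit 4, nat_lit 2, nat_lit 5, nat_lit 0, nat_lit 4, nat_lit 2, nat_lit 3, nat_lit 4, nat_lit 1, nat_lit 0, nat_lit 2, nat_lit 2, nat_lit 0, nat_lit 2, nat_lit 2, nat_lit 0])))))
 (.node (nat_lit 1768) (.node (nat_lit 1766) (.leaf ((nat_lit 1143), [nat_lit 4, nat_lit 1, nat_lit 5, nat_lit 0, nat_lit 5, nat_lit 4, nat_lit 0, nat_lit 3, nat_lit 4, nat_lit 3, nat_lit 2, nat_lit 2, nat_lit 0, nat_lit 2, nat_lit 0, nat_lit 1])) (.node (nat_lit 1767) (.leaf ((nat_lit 1220), [nat_lit 0, nat_lit 5, nat_lit 3, nat_lit 0, nat_lit 5, nat_lit 3, nat_lit 0, nat_lit 3, nat_lit 0, nat_lit 4, nat_lit 0, nat_lit 2, nat_lit 0, nat_lit 2, nat_lit 2])) (.leaf ((nat_lit 1221), [nat_lit 1, nat_lit 0, nat_lit 5, nat_lit 3, nat_lit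 5, nat_lit 4, nat_lit 3, nat_lit 1, nat_lit 0, nat_lit 2, nat_lit 3, nat_lit 2, nat_lit 2, nat_lit 0])))) (.node (nat_lit 1769) (.leaf ((nat_lit 909), [nat_lit 3, nat_lit 0, nat_lit 5, nat_lit 1, nat_lit 3, nat_lit 1, nat_lit 4, nat_lit 1, nat_lit 0, nat_lit 2, nat_lit 2, nat_lit 0])) (.node (nat_lit 1770) (.leaf ((nat_lit 1222), [nat_lit 3, nat_lit 5, nat_lit 1, nat_lit 3, nat_lit 0, nat_lit 5, nat_lit 3, nat_lit 0, nat_lit 3, nat_lit 2, nat_lit 4, nat_lit 2, nat_lit 0, nat_lit 1, nat_lit 0, nat_lit 1, nat_lit 0, nat_lit 2, nat_lit 0])) (.leaf ((nat_lit 346), [nat_lit 1, nat_lit 5, nat_lit 0, nat_lit 5, nat_lit 4, nat_lit 0, nat_lit 1, nat_lit 0, nat_lit 1, nat_lit 0, nat_lit 3, nat_lit 2, nat_lit 0, nat_lit 2, nat_lit 0, nat_lit 1, nat_lit 0]))))))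
 (.node (nat_lit 1776) (.node (nat_lit 1773) (.node (nat_lit 1772) (.leaf ((nat_lit 278), [nat_lit 5, nat_lit 1, nat_lit 5, nat_lit 2, nat_lit 3, nat_lit 0, nat_lit 1, nat_lit 0, nat_lit 3, nat_lit 2, nat_lit 2, nat_lit 0, nat_lit 1])) (.leaf ((nat_lit 1223), [nat_lit 2, nat_lit 0, nat_lit 5, nat_lit 1, nat_lit 3, nat_lit 2, nat_lit 4, nat_lit 3, nat_lit 2, nat_lit 2, nat_lit 0, nat_lit 1, nat_lit 0, nat_lit 2]))) (.node (nat_lit 1774) (.leaf ((nat_lit 219), [nat_lit 5, nat_lit 2, nat_lit 0, nat_lit 5, nat_lit 0, nat_lit 3, nat_lit 0, nat_lit 2, nat_lit 4, nat_lit 3, nat_lit 0, nat_lit 2, nat_lit 0])) (.node (nat_lit 1775) (.leaf ((nat_lit 568), [nat_lit 2, nat_lit 5, nat_lit 3, nat_lit 4, nat_lit 3, nat_lit 1, nat_lit 4, nat_lit 3, nat_lit 1, nat_lit 0, nat_lit 1, nat_lit 0, nat_lit 2, nat_lit 0, nat_lit 2, nat_lit 0])) (.leaf ((nat_lit 1194), [nat_lit 4, nat_lit 2, nat_lit 5, nat_lit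 3, nat_lit 5, nat_lit 0, nat_lit 4, nat_lit 2, nat_lit 0, nat_lit 4, nat_lit 2, nat_lit 2, nat_lit 0, nat_lit 1, nat_lit 0, nat_lit 2, nat_lit 0])))))
 (.node (nat_lit 1779) (.node (nat_lit 1777) (.leaf ((nat_lit 77), [nat_lit 3, nat_lit 5, nat_lit 2, nat_lit 5, nat_lit 3, nat_lit 2, nat_lit 0, nat_lit 3, nat_lit 0, nat_lit 2, nat_lit 0, nat_lit 2, nat_lit 2, nat_lit 0, nat_lit 2, nat_lit 0])) (.node (nat_lit 1778) (.leaf ((nat_lit 561), [nat_lit 1, nat_lit 5, nat_lit 2, nat_lit 3, nat_lit 4, nat_lit 1, nat_lit 3, nat_lit 2, nat_lit 0, nat_lit 2])) (.leaf ((nat_lit 556), [nat_lit 4, nat_lit 0, nat_lit 5, nat_lit 3, nat_lit 1, nat_lit 4, nat_lit 0, nat_lit 4, nat_lit 0, nat_lit 1, nat_lit 0, nat_lit 2, nat_lit 2, nat_lit 0, nat_lit 1, nat_lit 0])))) (.node (nat_lit 1780) (.leaf ((nat_lit 904), [nat_lit 4, nat_lit 2, nat_lit 0, nat_lit 5, nat_lit 4, nat_lit 0, nat_lit 1, nat_lit 0, nat_lit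 1, nat_lit 0, nat_lit 3, nat_lit 0, nat_lit 2, nat_lit 2, nat_lit 0, nat_lit 1])) (.node (nat_lit 1781) (.leaf ((nat_lit 638), [nat_lit 2, nat_lit 4, nat_lit 5, nat_lit 2, nat_lit 0, nat_lit 5, nat_lit 3, nat_lit 0, nat_lit 1, nat_lit 3, nat_lit 4, nat_lit 2, nat_lit 3, nat_lit 1, nat_lit 0, nat_lit 2, nat_lit 2, nat_lit 0])) (.leaf ((nat_lit 1224), [nat_lit 4, nat_lit 1, nat_lit 5, nat_lit 2, nat_lit 5, nat_lit 2, nat_lit 3, nat_lit 2, nat_lit 4, nat_lit 2, nat_lit 2, nat_lit 0, nat_lit 2, nat_lit 2, nat_lit 0, nat_lit 2, nat_lit 2, nat_lit 0])))))))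
 (.node (nat_lit 1793) (.node (nat_lit 1787) (.node (nat_lit 1784) (.node (nat_lit 1783) (.leaf ((nat_lit 962), [nat_lit 5, nat_lit 2, nat_lit 3, nat_lit 5, nat_lit 1, nat_lit 4, nat_lit 2, nat_lit 3, nat_lit 1, nat_lit 3, nat_lit 0, nat_lit 1, nat_lit 0, nat_lit 2, nat_lit 0, nat_lit 2, nat_lit 2, nat_lit 0])) (.leaf ((nat_lit 1019), [nat_lit 4, nat_lit 1, nat_lit 5, nat_lit 0, nat_lit 5, nat_lit 1, nat_lit 0, nat_lit 1, nat_lit 0, nat_lit 3, nat_lit 2, nat_lit 0, nat_lit 1, nat_lit 0, nat_lit 2, nat_lit 2]))) (.node (nat_lit 1785) (.leaf ((nat_lit 790), [nat_lit 4, nat_lit 2, nat_lit 5, nat_lit 3, nat_lit 5, nat_lit 0, nat_lit 1, nat_lit 0, nat_lit 1, nat_lit 0, nat_lit 3, nat_lit 0, nat_lit 2, nat_lit 2, nat_lit 0, nat_lit 1, nat_lit 0])) (.node (nat_lit 1786) (.leaf ((nat_lit 1225), [nat_lit 4, nat_lit 2, nat_lit 5, nat_lit 1, nat_lit 5, nat_lit 4, nat_lit 1, nat_lit 4, nat_lit 2,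 nat_lit 4, nat_lit 3, nat_lit 1, nat_lit 0, nat_lit 2, nat_lit 0, nat_lit 1])) (.leaf ((nat_lit 512), [nat_lit 3, nat_lit 4, nat_lit 5, nat_lit 2, nat_lit 5, nat_lit 1, nat_lit 0, nat_lit 4, nat_lit 3, nat_lit 2])))))
 (.node (nat_lit 1790) (.node (nat_lit 1788) (.leaf ((nat_lit 1226), [nat_lit 5, nat_lit 3, nat_lit 0, nat_lit 5, nat_lit 1, nat_lit 3, nat_lit 4, nat_lit 3, nat_lit 1, nat_lit 3, nat_lit 1, nat_lit 0, nat_lit 2, nat_lit 0, nat_lit 2])) (.node (nat_lit 1789) (.leaf ((nat_lit 462), [nat_lit 2, nat_lit 2, nat_lit 0, nat_lit 5, nat_lit 0, nat_lit 4, nat_lit 1, nat_lit 0, nat_lit 3, nat_lit 2, nat_lit 0, nat_lit 2])) (.leaf ((nat_lit 1227), [nat_lit 5, nat_lit 4, nat_lit 1, nat_lit 0, nat_lit 5, nat_lit 1, nat_lit 3, nat_lit 1, nat_lit 0, nat_lit 4, nat_lit 0, nat_lit 2, nat_lit 0, nat_lit 1, nat_lit 0, nat_lit 1, nat_lit 0])))) (.node (nat_lit 1791) (.leaf ((nat_lit 267), [nat_lit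 5, nat_lit 4, nat_lit 3, nat_lit 5, nat_lit 2, nat_lit 5, nat_lit 2, nat_lit 2, nat_lit 4, nat_lit 0, nat_lit 4, nat_lit 0, nat_lit 1, nat_lit 0, nat_lit 1, nat_lit 0])) (.node (nat_lit 1792) (.leaf ((nat_lit 1228), [nat_lit 1, nat_lit 0, nat_lit 5, nat_lit 4, nat_lit 0, nat_lit 4, nat_lit 0, nat_lit 4, nat_lit 2, nat_lit 2, nat_lit 0, nat_lit 2, nat_lit 0, nat_lit 1, nat_lit 0])) (.leaf ((nat_lit 1229), [nat_lit 4, nat_lit 1, nat_lit 0, nat_lit 5, nat_lit 2, nat_lit 4, nat_lit 0, nat_lit 1, nat_lit 4, nat_lit 2, nat_lit 0, nat_lit 2, nat_lit 0, nat_lit 1, nat_lit 0]))))))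
 (.node (nat_lit 1798) (.node (nat_lit 1795) (.node (nat_lit 1794) (.leaf ((nat_lit 1230), [nat_lit 0, nat_lit 3, nat_lit 5, nat_lit 4, nat_lit 2, nat_lit 3, nat_lit 4, nat_lit 2, nat_lit 3, nat_lit 2, nat_lit 0, nat_lit 1, nat_lit 0, nat_lit 2, nat_lit 2, nat_lit 0])) (.leaf ((nat_lit 688), [nat_lit 2, nat_lit 5, nat_lit 2, nat_lit 3, nat_lit 4, nat_lit 0, nat_lit 1, nat_lit 0]))) (.node (nat_lit 1796) (.leaf ((nat_lit 1189), [nat_lit 3, nat_lit 1, nat_lit 5, nat_lit 0, nat_lit 5, nat_lit 3, nat_lit 2, nat_lit 0, nat_lit 4, nat_lit 1, nat_lit 4, nat_lit 0])) (.node (nat_lit 1797) (.leaf ((nat_lit 1231), [nat_lit 5, nat_lit 4, nat_lit 5, nat_lit 2, nat_lit 5, nat_lit 1, nat_lit 3, nat_lit 2, nat_lit 4, nat_lit 2, nat_lit 0, nat_lit 1, nat_lit 0, nat_lit 1, nat_lit 0])) (.leaf ((nat_lit 1075), [nat_lit 0, nat_lit 5, nat_lit 3, nat_lit 5, nat_lit 3, nat_lit 0, nat_lit 2, nat_lit 4, nat_lit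 0, nat_lit 2, nat_lit 2, nat_lit 0, nat_lit 1])))))
 (.node (nat_lit 1801) (.node (nat_lit 1799) (.leaf ((nat_lit 1232), [nat_lit 0, nat_lit 3, nat_lit 5, nat_lit 1, nat_lit 3, nat_lit 4, nat_lit 3, nat_lit 1, nat_lit 3, nat_lit 2, nat_lit 0, nat_lit 1, nat_lit 0, nat_lit 1, nat_lit 0])) (.node (nat_lit 1800) (.leaf ((nat_lit 1130), [nat_lit 5, nat_lit 0, nat_lit 5, nat_lit 4, nat_lit 3, nat_lit 2, nat_lit 0, nat_lit 3, nat_lit 2, nat_lit 0, nat_lit 1, nat_lit 0])) (.leaf ((nat_lit 520), [nat_lit 5, nat_lit 2, nat_lit 2, nat_lit 0, nat_lit 5, nat_lit 3, nat_lit 1, nat_lit 4, nat_lit 3, nat_lit 0, nat_lit 3, nat_lit 2, nat_lit 0, nat_lit 1, nat_lit 0, nat_lit 1, nat_lit 0, nat_lit 2])))) (.node (nat_lit 1802) (.leaf ((nat_lit 86), [nat_lit 5, nat_lit 0, nat_lit 1, nat_lit 5, nat_lit 4, nat_lit 2, nat_lit 0, nat_lit 3, nat_lit 0, nat_lit 4, nat_lit 2, nat_lit 2, nat_lit 0, nat_lit 2, nat_lit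 2, nat_lit 0, nat_lit 1, nat_lit 0])) (.node (nat_lit 1803) (.leaf ((nat_lit 795), [nat_lit 0, nat_lit 5, nat_lit 2, nat_lit 5, nat_lit 3, nat_lit 2, nat_lit 0, nat_lit 2, nat_lit 2, nat_lit 3, nat_lit 0, nat_lit 2, nat_lit 2, nat_lit 0, nat_lit 2, nat_lit 0])) (.leaf ((nat_lit 473), [nat_lit 4, nat_lit 2, nat_lit 5, nat_lit 3, nat_lit 5, nat_lit 3, nat_lit 0, nat_lit 2, nat_lit 3, nat_lit 2, nat_lit 2, nat_lit 0, nat_lit 1, nat_lit 0, nat_lit 2]))))))))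
 (.node (nat_lit 1826) (.node (nat_lit 1815) (.node (nat_lit 1809) (.node (nat_lit 1806) (.node (nat_lit 1805) (.leaf ((nat_lit 1233), [nat_lit 5, nat_lit 2, nat_lit 4, nat_lit 0, nat_lit 5, nat_lit 2, nat_lit 4, nat_lit 1, nat_lit 0, nat_lit 2, nat_lit 3, nat_lit 1, nat_lit 0, nat_lit 2, nat_lit 2, nat_lit 0, nat_lit 2, nat_lit 2, nat_lit 0])) (.leaf ((nat_lit 1196), [nat_lit 1, nat_lit 5, nat_lit 3, nat_lit 5, nat_lit 0, nat_lit 2, nat_lit 4, nat_lit 0, nat_lit 1, nat_lit 0, nat_lit 2, nat_lit 0]))) (.node (nat_lit 1807) (.leaf ((nat_lit 305), [nat_lit 5, nat_lit 3, nat_lit 2, nat_lit 0, nat_lit 5, nat_lit 4, nat_lit 2, nat_lit 0, nat_lit 2, nat_lit 3, nat_lit 0, nat_lit 1])) (.node (nat_lit 1808) (.leaf ((nat_lit 1234), [nat_lit 5, nat_lit 4, nat_lit 2, nat_lit 0, nat_lit 5, nat_lit 2, nat_lit 4, nat_lit 2, nat_lit 3, nat_lit 4, nat_lit 2, nat_lit 0, nat_lit 2, nat_lit 0, nat_lit 1,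 nat_lit 0, nat_lit 1])) (.leaf ((nat_lit 891), [nat_lit 5, nat_lit 1, nat_lit 5, nat_lit 3, nat_lit 4, nat_lit 0, nat_lit 4, nat_lit 3, nat_lit 0, nat_lit 2, nat_lit 0, nat_lit 2, nat_lit 2])))))
 (.node (nat_lit 1812) (.node (nat_lit 1810) (.leaf ((nat_lit 819), [nat_lit 0, nat_lit 5, nat_lit 3, nat_lit 5, nat_lit 4, nat_lit 0, nat_lit 3, nat_lit 4, nat_lit 3, nat_lit 2, nat_lit 0, nat_lit 1, nat_lit 0])) (.node (nat_lit 1811) (.leaf ((nat_lit 1040), [nat_lit 2, nat_lit 5, nat_lit 4, nat_lit 1, nat_lit 0, nat_lit 3, nat_lit 4, nat_lit 1, nat_lit 0, nat_lit 1, nat_lit 0, nat_lit 2, nat_lit 0, nat_lit 2, nat_lit 0])) (.leaf ((nat_lit 19), [nat_lit 2, nat_lit 3, nat_lit 5, nat_lit 1, nat_lit 3, nat_lit 2, nat_lit 4, nat_lit 3, nat_lit 0, nat_lit 2, nat_lit 0, nat_lit 1])))) (.node (nat_lit 1813) (.leaf ((nat_lit 878), [nat_lit 2, nat_lit 3, nat_lit 5, nat_lit 0, nat_lit 3, nat_lit 4, nat_lit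 2, nat_lit 2, nat_lit 0, nat_lit 2, nat_lit 2, nat_lit 0, nat_lit 2, nat_lit 0])) (.node (nat_lit 1814) (.leaf ((nat_lit 455), [nat_lit 5, nat_lit 2, nat_lit 3, nat_lit 0, nat_lit 5, nat_lit 0, nat_lit 1, nat_lit 4, nat_lit 1, nat_lit 0, nat_lit 3, nat_lit 2, nat_lit 0, nat_lit 1, nat_lit 0, nat_lit 2])) (.leaf ((nat_lit 968), [nat_lit 3, nat_lit 5, nat_lit 2, nat_lit 4, nat_lit 2, nat_lit 2, nat_lit 4, nat_lit 3, nat_lit 0, nat_lit 1, nat_lit 0, nat_lit 2, nat_lit 0]))))))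
 (.node (nat_lit 1820) (.node (nat_lit 1817) (.node (nat_lit 1816) (.leaf ((nat_lit 225), [nat_lit 0, nat_lit 4, nat_lit 2, nat_lit 0, nat_lit 5, nat_lit 3, nat_lit 4, nat_lit 1, nat_lit 3, nat_lit 0, nat_lit 2, nat_lit 2, nat_lit 0, nat_lit 1])) (.leaf ((nat_lit 1235), [nat_lit 5, nat_lit 2, nat_lit 3, nat_lit 0, nat_lit 5, nat_lit 0, nat_lit 4, nat_lit 2, nat_lit 0, nat_lit 2, nat_lit 3, nat_lit 1, nat_lit 0, nat_lit 2, nat_lit 2, nat_lit 0, nat_lit 2, nat_lit 2, nat_lit 0]))) (.node (nat_lit 1818) (.leaf ((nat_lit 605), [nat_lit 2, nat_lit 5, nat_lit 0, nat_lit 1, nat_lit 5, nat_lit 3, nat_lit 1, nat_lit 4, nat_lit 3, nat_lit 0, nat_lit 3, nat_lit 1, nat_lit 0, nat_lit 1])) (.node (nat_lit 1819) (.leaf ((nat_lit 1236), [nat_lit 3, nat_lit 2, nat_lit 5, nat_lit 0, nat_lit 5, nat_lit 4, nat_lit 1, nat_lit 4, nat_lit 1, nat_lit 3, nat_lit 0, nat_lit 1, nat_lit 0, nat_lit 2, nat_lit 0]))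 (.leaf ((nat_lit 1237), [nat_lit 4, nat_lit 1, nat_lit 0, nat_lit 5, nat_lit 3, nat_lit 2, nat_lit 4, nat_lit 3, nat_lit 0, nat_lit 1, nat_lit 0, nat_lit 2, nat_lit 0])))))
 (.node (nat_lit 1823) (.node (nat_lit 1821) (.leaf ((nat_lit 1046), [nat_lit 0, nat_lit 5, nat_lit 3, nat_lit 5, nat_lit 4, nat_lit 2, nat_lit 3, nat_lit 2, nat_lit 3, nat_lit 2, nat_lit 0, nat_lit 1, nat_lit 0, nat_lit 2, nat_lit 0, nat_lit 2, nat_lit 0])) (.node (nat_lit 1822) (.leaf ((nat_lit 246), [nat_lit 2, nat_lit 5, nat_lit 1, nat_lit 5, nat_lit 2, nat_lit 0, nat_lit 1, nat_lit 0, nat_lit 4, nat_lit 2, nat_lit 0, nat_lit 1, nat_lit 0])) (.leaf ((nat_lit 1001), [nat_lit 4, nat_lit 3, nat_lit 5, nat_lit 0, nat_lit 5, nat_lit 3, nat_lit 2, nat_lit 3, nat_lit 2, nat_lit 2, nat_lit 3, nat_lit 0, nat_lit 2, nat_lit 2, nat_lit 0, nat_lit 2, nat_lit 0, nat_lit 1])))) (.node (nat_lit 1824) (.leaf ((nat_lit 835), [nat_lit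 5, nat_lit 0, nat_lit 1, nat_lit 5, nat_lit 1, nat_lit 4, nat_lit 1, nat_lit 0, nat_lit 3, nat_lit 2, nat_lit 0, nat_lit 1, nat_lit 0])) (.node (nat_lit 1825) (.leaf ((nat_lit 1238), [nat_lit 2, nat_lit 3, nat_lit 5, nat_lit 0, nat_lit 5, nat_lit 3, nat_lit 2, nat_lit 0, nat_lit 3, nat_lit 4, nat_lit 1, nat_lit 0, nat_lit 1, nat_lit 0, nat_lit 2])) (.leaf ((nat_lit 1239), [nat_lit 3, nat_lit 5, nat_lit 0, nat_lit 5, nat_lit 1, nat_lit 0, nat_lit 4, nat_lit 3, nat_lit 0, nat_lit 3, nat_lit 0, nat_lit 2, nat_lit 2, nat_lit 0, nat_lit 2, nat_lit 0])))))))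
 (.node (nat_lit 1837) (.node (nat_lit 1831) (.node (nat_lit 1828) (.node (nat_lit 1827) (.leaf ((nat_lit 1240), [nat_lit 5, nat_lit 4, nat_lit 5, nat_lit 1, nat_lit 5, nat_lit 3, nat_lit 2, nat_lit 0, nat_lit 2, nat_lit 3, nat_lit 0, nat_lit 1, nat_lit 0, nat_lit 2, nat_lit 2, nat_lit 0, nat_lit 1])) (.leaf ((nat_lit 1241), [nat_lit 5, nat_lit 4, nat_lit 5, nat_lit 3, nat_lit 5, nat_lit 4, nat_lit 1, nat_lit 4, nat_lit 2, nat_lit 4, nat_lit 3, nat_lit 1]))) (.node (nat_lit 1829) (.leaf ((nat_lit 1237), [nat_lit 4, nat_lit 0, nat_lit 5, nat_lit 2, nat_lit 5, nat_lit 1, nat_lit 0, nat_lit 1, nat_lit 4, nat_lit 3, nat_lit 2, nat_lit 0, nat_lit 2, nat_lit 2, nat_lit 0, nat_lit 2, nat_lit 2])) (.node (nat_lit 1830) (.leaf ((nat_lit 1242), [nat_lit 4, nat_lit 1, nat_lit 5, nat_lit 3, nat_lit 5, nat_lit 2, nat_lit 4, nat_lit 2, nat_lit 0, nat_lit 2, nat_lit 3, nat_lit 0, nat_lit 2, nat_lit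 0, nat_lit 2, nat_lit 2, nat_lit 0])) (.leaf ((nat_lit 569), [nat_lit 4, nat_lit 2, nat_lit 0, nat_lit 5, nat_lit 3, nat_lit 4, nat_lit 3, nat_lit 2, nat_lit 4, nat_lit 2, nat_lit 2, nat_lit 0, nat_lit 2, nat_lit 2, nat_lit 0, nat_lit 1])))))
 (.node (nat_lit 1834) (.node (nat_lit 1832) (.leaf ((nat_lit 932), [nat_lit 4, nat_lit 5, nat_lit 4, nat_lit 0, nat_lit 5, nat_lit 3, nat_lit 4, nat_lit 0, nat_lit 2, nat_lit 2, nat_lit 3, nat_lit 1, nat_lit 0, nat_lit 2, nat_lit 0, nat_lit 1, nat_lit 0])) (.node (nat_lit 1833) (.leaf ((nat_lit 1243), [nat_lit 5, nat_lit 2, nat_lit 5, nat_lit 2, nat_lit 3, nat_lit 0, nat_lit 3, nat_lit 2, nat_lit 0, nat_lit 1, nat_lit 0, nat_lit 2, nat_lit 2, nat_lit 0])) (.leaf ((nat_lit 1244), [nat_lit 4, nat_lit 3, nat_lit 0, nat_lit 5, nat_lit 0, nat_lit 3, nat_lit 1, nat_lit 3, nat_lit 4, nat_lit 3, nat_lit 2, nat_lit 2, nat_lit 0, nat_lit 1, nat_lit 0, nat_lit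 2, nat_lit 2, nat_lit 0])))) (.node (nat_lit 1835) (.leaf ((nat_lit 1245), [nat_lit 3, nat_lit 1, nat_lit 5, nat_lit 2, nat_lit 5, nat_lit 4, nat_lit 0, nat_lit 3, nat_lit 4, nat_lit 3, nat_lit 0, nat_lit 1, nat_lit 0, nat_lit 2, nat_lit 0, nat_lit 2, nat_lit 2, nat_lit 0])) (.node (nat_lit 1836) (.leaf ((nat_lit 957), [nat_lit 5, nat_lit 1, nat_lit 5, nat_lit 0, nat_lit 5, nat_lit 1, nat_lit 4, nat_lit 1, nat_lit 0, nat_lit 2, nat_lit 0, nat_lit 2, nat_lit 2])) (.leaf ((nat_lit 1246), [nat_lit 1, nat_lit 0, nat_lit 2, nat_lit 5, nat_lit 2, nat_lit 0, nat_lit 4, nat_lit 3, nat_lit 0, nat_lit 2, nat_lit 2, nat_lit 0, nat_lit 2, nat_lit 0, nat_lit 1]))))))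
 (.node (nat_lit 1842) (.node (nat_lit 1839) (.node (nat_lit 1838) (.leaf ((nat_lit 308), [nat_lit 0, nat_lit 5, nat_lit 2, nat_lit 3, nat_lit 5, nat_lit 1, nat_lit 4, nat_lit 3, nat_lit 2, nat_lit 3, nat_lit 2, nat_lit 0, nat_lit 2, nat_lit 2, nat_lit 0, nat_lit 1])) (.leaf ((nat_lit 955), [nat_lit 2, nat_lit 5, nat_lit 4, nat_lit 5, nat_lit 0, nat_lit 3, nat_lit 1, nat_lit 4, nat_lit 0, nat_lit 2, nat_lit 0, nat_lit 1, nat_lit 0, nat_lit 1, nat_lit 0]))) (.node (nat_lit 1840) (.leaf ((nat_lit 1247), [nat_lit 2, nat_lit 5, nat_lit 2, nat_lit 3, nat_lit 5, nat_lit 1, nat_lit 4, nat_lit 0, nat_lit 4, nat_lit 2, nat_lit 0, nat_lit 3, nat_lit 2, nat_lit 2])) (.node (nat_lit 1841) (.leaf ((nat_lit 598), [nat_lit 0, nat_lit 5, nat_lit 4, nat_lit 0, nat_lit 1, nat_lit 4, nat_lit 2, nat_lit 2, nat_lit 0, nat_lit 2, nat_lit 2, nat_lit 0, nat_lit 2, nat_lit 0])) (.leaf ((nat_lit 231), [nat_lit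 3, nat_lit 5, nat_lit 1, nat_lit 3, nat_lit 2, nat_lit 5, nat_lit 3, nat_lit 4, nat_lit 2, nat_lit 4, nat_lit 2, nat_lit 3, nat_lit 0, nat_lit 1, nat_lit 0, nat_lit 2, nat_lit 2, nat_lit 0, nat_lit 2, nat_lit 0])))))
 (.node (nat_lit 1845) (.node (nat_lit 1843) (.leaf ((nat_lit 1248), [nat_lit 2, nat_lit 5, nat_lit 0, nat_lit 1, nat_lit 5, nat_lit 1, nat_lit 0, nat_lit 1, nat_lit 4, nat_lit 3, nat_lit 2, nat_lit 2, nat_lit 0, nat_lit 1, nat_lit 0, nat_lit 2, nat_lit 2, nat_lit 0])) (.node (nat_lit 1844) (.leaf ((nat_lit 1249), [nat_lit 2, nat_lit 5, nat_lit 1, nat_lit 5, nat_lit 4, nat_lit 3, nat_lit 2, nat_lit 0, nat_lit 3, nat_lit 1, nat_lit 0, nat_lit 2, nat_lit 2, nat_lit 0, nat_lit 2, nat_lit 2])) (.leaf ((nat_lit 948), [nat_lit 0, nat_lit 2, nat_lit 5, nat_lit 3, nat_lit 5, nat_lit 0, nat_lit 3, nat_lit 4, nat_lit 0, nat_lit 3, nat_lit 2, nat_lit 0, nat_lit 1, nat_lit 0])))) (.node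 (nat_lit 1846) (.leaf ((nat_lit 1250), [nat_lit 2, nat_lit 5, nat_lit 3, nat_lit 5, nat_lit 3, nat_lit 0, nat_lit 2, nat_lit 4, nat_lit 2, nat_lit 2, nat_lit 0, nat_lit 1, nat_lit 0])) (.node (nat_lit 1847) (.leaf ((nat_lit 813), [nat_lit 4, nat_lit 3, nat_lit 5, nat_lit 0, nat_lit 4, nat_lit 2, nat_lit 0, nat_lit 1, nat_lit 0, nat_lit 1, nat_lit 0])) (.leaf ((nat_lit 477), [nat_lit 2, nat_lit 3, nat_lit 5, nat_lit 0, nat_lit 5, nat_lit 3, nat_lit 2, nat_lit 3, nat_lit 2, nat_lit 3, nat_lit 0, nat_lit 2, nat_lit 0, nat_lit 2, nat_lit 2, nat_lit 0, nat_lit 1, nat_lit 0])))))))))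
 (.node (nat_lit 1892) (.node (nat_lit 1870) (.node (nat_lit 1859) (.node (nat_lit 1853) (.node (nat_lit 1850) (.node (nat_lit 1849) (.leaf ((nat_lit 679), [nat_lit 0, nat_lit 5, nat_lit 2, nat_lit 3, nat_lit 5, nat_lit 2, nat_lit 4, nat_lit 2, nat_lit 3, nat_lit 4, nat_lit 2, nat_lit 0, nat_lit 2, nat_lit 2, nat_lit 0, nat_lit 2, nat_lit 0])) (.leaf ((nat_lit 1251), [nat_lit 4, nat_lit 3, nat_lit 5, nat_lit 0, nat_lit 5, nat_lit 0, nat_lit 4, nat_lit 1, nat_lit 3, nat_lit 0, nat_lit 2, nat_lit 2, nat_lit 0, nat_lit 2]))) (.node (nat_lit 1851) (.leaf ((nat_lit 1252), [nat_lit 5, nat_lit 4, nat_lit 1, nat_lit 0, nat_lit 5, nat_lit 2, nat_lit 2, nat_lit 3, nat_lit 4, nat_lit 1, nat_lit 0, nat_lit 1, nat_lit 0, nat_lit 2, nat_lit 0, nat_lit 2, nat_lit 0])) (.node (nat_lit 1852) (.leaf ((nat_lit 952), [nat_lit 4, nat_lit 2, nat_lit 0, nat_lit 5, nat_lit 3, nat_lit 0, nat_lit 3, nat_lit 2,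 nat_lit 3, nat_lit 2, nat_lit 0, nat_lit 1, nat_lit 0, nat_lit 1, nat_lit 0, nat_lit 2])) (.leaf ((nat_lit 956), [nat_lit 1, nat_lit 0, nat_lit 2, nat_lit 5, nat_lit 1, nat_lit 0, nat_lit 3, nat_lit 1, nat_lit 4, nat_lit 1, nat_lit 0])))))
 (.node (nat_lit 1856) (.node (nat_lit 1854) (.leaf ((nat_lit 1246), [nat_lit 0, nat_lit 5, nat_lit 2, nat_lit 3, nat_lit 5, nat_lit 3, nat_lit 0, nat_lit 1, nat_lit 0, nat_lit 4, nat_lit 0, nat_lit 2, nat_lit 0, nat_lit 2, nat_lit 2, nat_lit 0, nat_lit 1])) (.node (nat_lit 1855) (.leaf ((nat_lit 1133), [nat_lit 5, nat_lit 4, nat_lit 2, nat_lit 0, nat_lit 5, nat_lit 3, nat_lit 1, nat_lit 3, nat_lit 4, nat_lit 3, nat_lit 0, nat_lit 2, nat_lit 2, nat_lit 0, nat_lit 2, nat_lit 2])) (.leaf ((nat_lit 1009), [nat_lit 3, nat_lit 0, nat_lit 2, nat_lit 5, nat_lit 3, nat_lit 2, nat_lit 2, nat_lit 3, nat_lit 0, nat_lit 1, nat_lit 0, nat_lit 1, nat_lit 0, nat_lit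 2])))) (.node (nat_lit 1857) (.leaf ((nat_lit 439), [nat_lit 4, nat_lit 3, nat_lit 0, nat_lit 5, nat_lit 0, nat_lit 3, nat_lit 1, nat_lit 0, nat_lit 1])) (.node (nat_lit 1858) (.leaf ((nat_lit 749), [nat_lit 0, nat_lit 5, nat_lit 3, nat_lit 5, nat_lit 0, nat_lit 2, nat_lit 4, nat_lit 1, nat_lit 0, nat_lit 3, nat_lit 1, nat_lit 0, nat_lit 2, nat_lit 0, nat_lit 2, nat_lit 2, nat_lit 0])) (.leaf ((nat_lit 1253), [nat_lit 1, nat_lit 5, nat_lit 0, nat_lit 5, nat_lit 0, nat_lit 1, nat_lit 0, nat_lit 4, nat_lit 0, nat_lit 2, nat_lit 0, nat_lit 1, nat_lit 0, nat_lit 1, nat_lit 0]))))))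
 (.node (nat_lit 1864) (.node (nat_lit 1861) (.node (nat_lit 1860) (.leaf ((nat_lit 1138), [nat_lit 5, nat_lit 0, nat_lit 1, nat_lit 5, nat_lit 4, nat_lit 0, nat_lit 3, nat_lit 4, nat_lit 3, nat_lit 2, nat_lit 0, nat_lit 1, nat_lit 0, nat_lit 2, nat_lit 2, nat_lit 0])) (.leaf ((nat_lit 1155), [nat_lit 5, nat_lit 3, nat_lit 0, nat_lit 5, nat_lit 1, nat_lit 4, nat_lit 2, nat_lit 4, nat_lit 2, nat_lit 2, nat_lit 0, nat_lit 2, nat_lit 2, nat_lit 0, nat_lit 1, nat_lit 0]))) (.node (nat_lit 1862) (.leaf ((nat_lit 717), [nat_lit 0, nat_lit 5, nat_lit 2, nat_lit 0, nat_lit 5, nat_lit 0, nat_lit 4, nat_lit 3, nat_lit 2, nat_lit 0, nat_lit 3, nat_lit 2, nat_lit 2, nat_lit 0, nat_lit 2, nat_lit 2])) (.node (nat_lit 1863) (.leaf ((nat_lit 711), [nat_lit 5, nat_lit 2, nat_lit 0, nat_lit 5, nat_lit 0, nat_lit 4, nat_lit 0, nat_lit 1, nat_lit 0, nat_lit 3, nat_lit 2, nat_lit 2, nat_lit 0, nat_lit 2,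 nat_lit 0, nat_lit 1, nat_lit 0])) (.leaf ((nat_lit 615), [nat_lit 1, nat_lit 3, nat_lit 2, nat_lit 5, nat_lit 2, nat_lit 4, nat_lit 3, nat_lit 0, nat_lit 3, nat_lit 2, nat_lit 2, nat_lit 0, nat_lit 2])))))
 (.node (nat_lit 1867) (.node (nat_lit 1865) (.leaf ((nat_lit 65), [nat_lit 5, nat_lit 3, nat_lit 0, nat_lit 5, nat_lit 4, nat_lit 2, nat_lit 3, nat_lit 2, nat_lit 2, nat_lit 3, nat_lit 2])) (.node (nat_lit 1866) (.leaf ((nat_lit 1152), [nat_lit 0, nat_lit 2, nat_lit 5, nat_lit 3, nat_lit 5, nat_lit 0, nat_lit 2, nat_lit 4, nat_lit 1, nat_lit 0, nat_lit 3, nat_lit 2, nat_lit 2, nat_lit 0, nat_lit 1, nat_lit 0, nat_lit 2, nat_lit 0])) (.leaf ((nat_lit 408), [nat_lit 5, nat_lit 4, nat_lit 5, nat_lit 3, nat_lit 5, nat_lit 1, nat_lit 4, nat_lit 1, nat_lit 0, nat_lit 3, nat_lit 1, nat_lit 0, nat_lit 2, nat_lit 2, nat_lit 0, nat_lit 1])))) (.node (nat_lit 1868) (.leaf ((nat_lit 1254), [nat_lit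 5, nat_lit 2, nat_lit 0, nat_lit 5, nat_lit 2, nat_lit 4, nat_lit 2, nat_lit 4, nat_lit 2, nat_lit 0, nat_lit 2, nat_lit 2, nat_lit 0, nat_lit 2, nat_lit 2])) (.node (nat_lit 1869) (.leaf ((nat_lit 1255), [nat_lit 2, nat_lit 0, nat_lit 2, nat_lit 5, nat_lit 4, nat_lit 2, nat_lit 3, nat_lit 4, nat_lit 3, nat_lit 0, nat_lit 2, nat_lit 0, nat_lit 1, nat_lit 0, nat_lit 1])) (.leaf ((nat_lit 176), [nat_lit 5, nat_lit 0, nat_lit 3, nat_lit 5, nat_lit 2, nat_lit 4, nat_lit 0, nat_lit 3, nat_lit 2, nat_lit 3, nat_lit 2, nat_lit 0])))))))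
 (.node (nat_lit 1881) (.node (nat_lit 1875) (.node (nat_lit 1872) (.node (nat_lit 1871) (.leaf ((nat_lit 787), [nat_lit 5, nat_lit 0, nat_lit 3, nat_lit 5, nat_lit 2, nat_lit 4, nat_lit 0, nat_lit 4, nat_lit 0, nat_lit 4, nat_lit 2, nat_lit 0, nat_lit 2, nat_lit 2, nat_lit 0])) (.leaf ((nat_lit 794), [nat_lit 3, nat_lit 0, nat_lit 2, nat_lit 5, nat_lit 1, nat_lit 4, nat_lit 1, nat_lit 4, nat_lit 3, nat_lit 2, nat_lit 2, nat_lit 0, nat_lit 1, nat_lit 0]))) (.node (nat_lit 1873) (.leaf ((nat_lit 728), [nat_lit 1, nat_lit 5, nat_lit 3, nat_lit 5, nat_lit 1, nat_lit 3, nat_lit 1, nat_lit 3, nat_lit 4, nat_lit 2, nat_lit 0, nat_lit 2, nat_lit 2, nat_lit 0, nat_lit 2, nat_lit 2])) (.node (nat_lit 1874) (.leaf ((nat_lit 135), [nat_lit 2, nat_lit 5, nat_lit 4, nat_lit 2, nat_lit 0, nat_lit 1, nat_lit 0, nat_lit 3, nat_lit 0, nat_lit 1, nat_lit 0, nat_lit 2, nat_lit 2, nat_lit 0])) (.leaf ((nat_lit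 1256), [nat_lit 2, nat_lit 0, nat_lit 5, nat_lit 1, nat_lit 0, nat_lit 2, nat_lit 0, nat_lit 2, nat_lit 4, nat_lit 2, nat_lit 0, nat_lit 1, nat_lit 0, nat_lit 2, nat_lit 2])))))
 (.node (nat_lit 1878) (.node (nat_lit 1876) (.leaf ((nat_lit 951), [nat_lit 5, nat_lit 4, nat_lit 3, nat_lit 0, nat_lit 5, nat_lit 4, nat_lit 3, nat_lit 2, nat_lit 4, nat_lit 2, nat_lit 3, nat_lit 2, nat_lit 0, nat_lit 2, nat_lit 0, nat_lit 1])) (.node (nat_lit 1877) (.leaf ((nat_lit 842), [nat_lit 0, nat_lit 5, nat_lit 2, nat_lit 5, nat_lit 3, nat_lit 4, nat_lit 0, nat_lit 2, nat_lit 2, nat_lit 3, nat_lit 2, nat_lit 0, nat_lit 2, nat_lit 2, nat_lit 0, nat_lit 2, nat_lit 0])) (.leaf ((nat_lit 796), [nat_lit 4, nat_lit 2, nat_lit 5, nat_lit 3, nat_lit 5, nat_lit 3, nat_lit 1, nat_lit 3, nat_lit 1, nat_lit 3, nat_lit 2, nat_lit 0, nat_lit 1, nat_lit 0, nat_lit 2, nat_lit 0, nat_lit 2, nat_lit 0])))) (.node (nat_lit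 1879) (.leaf ((nat_lit 315), [nat_lit 5, nat_lit 4, nat_lit 3, nat_lit 5, nat_lit 2, nat_lit 5, nat_lit 4, nat_lit 1, nat_lit 0, nat_lit 2, nat_lit 3, nat_lit 0, nat_lit 1, nat_lit 0, nat_lit 1, nat_lit 0])) (.node (nat_lit 1880) (.leaf ((nat_lit 1257), [nat_lit 0, nat_lit 5, nat_lit 3, nat_lit 0, nat_lit 5, nat_lit 2, nat_lit 4, nat_lit 3, nat_lit 2, nat_lit 3, nat_lit 1, nat_lit 0, nat_lit 2, nat_lit 0, nat_lit 2])) (.leaf ((nat_lit 759), [nat_lit 0, nat_lit 4, nat_lit 5, nat_lit 1, nat_lit 4, nat_lit 2, nat_lit 3, nat_lit 1, nat_lit 3, nat_lit 0, nat_lit 1, nat_lit 0, nat_lit 2, nat_lit 0]))))))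
 (.node (nat_lit 1886) (.node (nat_lit 1883) (.node (nat_lit 1882) (.leaf ((nat_lit 275), [nat_lit 5, nat_lit 4, nat_lit 3, nat_lit 2, nat_lit 5, nat_lit 3, nat_lit 1, nat_lit 3, nat_lit 4, nat_lit 1, nat_lit 0])) (.leaf ((nat_lit 926), [nat_lit 3, nat_lit 0, nat_lit 5, nat_lit 2, nat_lit 4, nat_lit 1, nat_lit 3, nat_lit 1, nat_lit 3, nat_lit 2, nat_lit 0, nat_lit 1, nat_lit 0]))) (.node (nat_lit 1884) (.leaf ((nat_lit 1258), [nat_lit 4, nat_lit 3, nat_lit 0, nat_lit 5, nat_lit 1, nat_lit 3, nat_lit 2, nat_lit 2, nat_lit 3, nat_lit 1, nat_lit 0, nat_lit 2, nat_lit 0, nat_lit 2, nat_lit 2])) (.node (nat_lit 1885) (.leaf ((nat_lit 124), [nat_lit 4, nat_lit 2, nat_lit 5, nat_lit 3, nat_lit 5, nat_lit 2, nat_lit 3, nat_lit 2, nat_lit 4, nat_lit 0, nat_lit 1, nat_lit 0, nat_lit 1, nat_lit 0])) (.leaf ((nat_lit 324), [nat_lit 5, nat_lit 2, nat_lit 5, nat_lit 3, nat_lit 4, nat_lit 1, nat_lit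 4, nat_lit 3, nat_lit 2, nat_lit 0, nat_lit 1, nat_lit 0, nat_lit 2])))))
 (.node (nat_lit 1889) (.node (nat_lit 1887) (.leaf ((nat_lit 1259), [nat_lit 4, nat_lit 1, nat_lit 0, nat_lit 5, nat_lit 4, nat_lit 1, nat_lit 0, nat_lit 1, nat_lit 0, nat_lit 3, nat_lit 2, nat_lit 2, nat_lit 0, nat_lit 2, nat_lit 2, nat_lit 0])) (.node (nat_lit 1888) (.leaf ((nat_lit 607), [nat_lit 0, nat_lit 5, nat_lit 2, nat_lit 0, nat_lit 5, nat_lit 2, nat_lit 4, nat_lit 1, nat_lit 0, nat_lit 3, nat_lit 0, nat_lit 2, nat_lit 0, nat_lit 2, nat_lit 2, nat_lit 0, nat_lit 1])) (.leaf ((nat_lit 374), [nat_lit 3, nat_lit 5, nat_lit 2, nat_lit 4, nat_lit 2, nat_lit 3, nat_lit 4, nat_lit 1, nat_lit 0, nat_lit 2, nat_lit 0, nat_lit 1, nat_lit 0])))) (.node (nat_lit 1890) (.leaf ((nat_lit 853), [nat_lit 2, nat_lit 3, nat_lit 5, nat_lit 0, nat_lit 5, nat_lit 3, nat_lit 4, nat_lit 0, nat_lit 4, nat_lit 1, nat_lit 3, nat_lit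 2, nat_lit 0, nat_lit 2, nat_lit 0, nat_lit 1])) (.node (nat_lit 1891) (.leaf ((nat_lit 1260), [nat_lit 2, nat_lit 5, nat_lit 1, nat_lit 5, nat_lit 3, nat_lit 4, nat_lit 2, nat_lit 0, nat_lit 2, nat_lit 3, nat_lit 2, nat_lit 0, nat_lit 2, nat_lit 0, nat_lit 1, nat_lit 0, nat_lit 1])) (.leaf ((nat_lit 336), [nat_lit 5, nat_lit 4, nat_lit 1, nat_lit 0, nat_lit 5, nat_lit 1, nat_lit 0, nat_lit 4, nat_lit 1, nat_lit 3, nat_lit 0, nat_lit 1, nat_lit 0, nat_lit 2, nat_lit 0, nat_lit 2, nat_lit 2, nat_lit 0]))))))))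
 (.node (nat_lit 1914) (.node (nat_lit 1903) (.node (nat_lit 1897) (.node (nat_lit 1894) (.node (nat_lit 1893) (.leaf ((nat_lit 1203), [nat_lit 4, nat_lit 2, nat_lit 5, nat_lit 1, nat_lit 4, nat_lit 0, nat_lit 4, nat_lit 1, nat_lit 0, nat_lit 2, nat_lit 0, nat_lit 1, nat_lit 0])) (.leaf ((nat_lit 21), [nat_lit 2, nat_lit 0, nat_lit 1, nat_lit 5, nat_lit 0, nat_lit 3, nat_lit 2, nat_lit 3, nat_lit 2, nat_lit 3, nat_lit 1, nat_lit 0, nat_lit 1, nat_lit 0, nat_lit 2, nat_lit 2, nat_lit 0]))) (.node (nat_lit 1895) (.leaf ((nat_lit 355), [nat_lit 0, nat_lit 5, nat_lit 2, nat_lit 3, nat_lit 5, nat_lit 0, nat_lit 2, nat_lit 3, nat_lit 2, nat_lit 3, nat_lit 2, nat_lit 2, nat_lit 0, nat_lit 2, nat_lit 2, nat_lit 0, nat_lit 2, nat_lit 0])) (.node (nat_lit 1896) (.leaf ((nat_lit 617), [nat_lit 3, nat_lit 1, nat_lit 5, nat_lit 0, nat_lit 5, nat_lit 4, nat_lit 2, nat_lit 0, nat_lit 3, nat_lit 0, nat_lit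 4, nat_lit 2, nat_lit 0, nat_lit 2])) (.leaf ((nat_lit 1261), [nat_lit 1, nat_lit 5, nat_lit 2, nat_lit 5, nat_lit 2, nat_lit 2, nat_lit 0, nat_lit 3, nat_lit 2, nat_lit 0, nat_lit 1, nat_lit 0, nat_lit 2])))))
 (.node (nat_lit 1900) (.node (nat_lit 1898) (.leaf ((nat_lit 139), [nat_lit 0, nat_lit 4, nat_lit 5, nat_lit 3, nat_lit 4, nat_lit 1, nat_lit 3, nat_lit 1, nat_lit 3, nat_lit 2, nat_lit 2, nat_lit 0, nat_lit 2, nat_lit 2, nat_lit 0, nat_lit 2])) (.node (nat_lit 1899) (.leaf ((nat_lit 1262), [nat_lit 2, nat_lit 5, nat_lit 0, nat_lit 5, nat_lit 3, nat_lit 2, nat_lit 0, nat_lit 3, nat_lit 1, nat_lit 4, nat_lit 1, nat_lit 0, nat_lit 2, nat_lit 0, nat_lit 1, nat_lit 0])) (.leaf ((nat_lit 1245), [nat_lit 2, nat_lit 5, nat_lit 2, nat_lit 3, nat_lit 5, nat_lit 3, nat_lit 1, nat_lit 0, nat_lit 3, nat_lit 1, nat_lit 3, nat_lit 0, nat_lit 2, nat_lit 0, nat_lit 2])))) (.node (nat_lit 1901)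 (.leaf ((nat_lit 599), [nat_lit 1, nat_lit 5, nat_lit 3, nat_lit 5, nat_lit 3, nat_lit 0, nat_lit 3, nat_lit 0, nat_lit 2, nat_lit 3, nat_lit 0, nat_lit 1, nat_lit 0, nat_lit 1])) (.node (nat_lit 1902) (.leaf ((nat_lit 537), [nat_lit 3, nat_lit 2, nat_lit 5, nat_lit 1, nat_lit 3, nat_lit 4, nat_lit 2, nat_lit 3, nat_lit 1, nat_lit 0, nat_lit 2, nat_lit 0])) (.leaf ((nat_lit 1263), [nat_lit 0, nat_lit 1, nat_lit 5, nat_lit 3, nat_lit 1, nat_lit 0, nat_lit 3, nat_lit 1, nat_lit 3, nat_lit 0, nat_lit 1]))))))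
 (.node (nat_lit 1908) (.node (nat_lit 1905) (.node (nat_lit 1904) (.leaf ((nat_lit 1248), [nat_lit 2, nat_lit 4, nat_lit 0, nat_lit 5, nat_lit 4, nat_lit 1, nat_lit 4, nat_lit 2, nat_lit 4, nat_lit 3, nat_lit 2, nat_lit 2, nat_lit 0, nat_lit 2, nat_lit 2, nat_lit 0, nat_lit 2])) (.leaf ((nat_lit 553), [nat_lit 4, nat_lit 2, nat_lit 5, nat_lit 0, nat_lit 4, nat_lit 0, nat_lit 4, nat_lit 1, nat_lit 3, nat_lit 1, nat_lit 0, nat_lit 1, nat_lit 0, nat_lit 2, nat_lit 0, nat_lit 2, nat_lit 0]))) (.node (nat_lit 1906) (.leaf ((nat_lit 1110), [nat_lit 2, nat_lit 0, nat_lit 5, nat_lit 3, nat_lit 0, nat_lit 4, nat_lit 3, nat_lit 0, nat_lit 4, nat_lit 1, nat_lit 0, nat_lit 2, nat_lit 2, nat_lit 0, nat_lit 2, nat_lit 2, nat_lit 0])) (.node (nat_lit 1907) (.leaf ((nat_lit 1215), [nat_lit 0, nat_lit 5, nat_lit 0, nat_lit 1, nat_lit 5, nat_lit 2, nat_lit 3, nat_lit 4, nat_lit 2, nat_lit 2, nat_lit 0,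 nat_lit 2])) (.leaf ((nat_lit 1264), [nat_lit 3, nat_lit 5, nat_lit 0, nat_lit 5, nat_lit 0, nat_lit 1, nat_lit 0, nat_lit 1, nat_lit 0, nat_lit 3, nat_lit 2, nat_lit 0, nat_lit 1, nat_lit 0, nat_lit 2])))))
 (.node (nat_lit 1911) (.node (nat_lit 1909) (.leaf ((nat_lit 1265), [nat_lit 5, nat_lit 0, nat_lit 3, nat_lit 5, nat_lit 3, nat_lit 2, nat_lit 3, nat_lit 2, nat_lit 2, nat_lit 3, nat_lit 1, nat_lit 0, nat_lit 2])) (.node (nat_lit 1910) (.leaf ((nat_lit 969), [nat_lit 1, nat_lit 4, nat_lit 5, nat_lit 1, nat_lit 5, nat_lit 2, nat_lit 3, nat_lit 0, nat_lit 2, nat_lit 4, nat_lit 0, nat_lit 2, nat_lit 2, nat_lit 0, nat_lit 1, nat_lit 0, nat_lit 2])) (.leaf ((nat_lit 368), [nat_lit 2, nat_lit 4, nat_lit 0, nat_lit 5, nat_lit 2, nat_lit 2, nat_lit 4, nat_lit 3, nat_lit 2, nat_lit 3, nat_lit 0, nat_lit 2, nat_lit 0, nat_lit 1])))) (.node (nat_lit 1912) (.leaf ((nat_lit 603), [nat_lit 4,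 nat_lit 2, nat_lit 5, nat_lit 3, nat_lit 5, nat_lit 4, nat_lit 0, nat_lit 4, nat_lit 3, nat_lit 1, nat_lit 0, nat_lit 2, nat_lit 2, nat_lit 0])) (.node (nat_lit 1913) (.leaf ((nat_lit 1266), [nat_lit 4, nat_lit 5, nat_lit 4, nat_lit 0, nat_lit 5, nat_lit 3, nat_lit 2, nat_lit 4, nat_lit 0, nat_lit 4, nat_lit 2, nat_lit 2, nat_lit 0, nat_lit 2, nat_lit 0, nat_lit 1, nat_lit 0])) (.leaf ((nat_lit 88), [nat_lit 2, nat_lit 4, nat_lit 5, nat_lit 2, nat_lit 0, nat_lit 5, nat_lit 2, nat_lit 4, nat_lit 1, nat_lit 0, nat_lit 3, nat_lit 0, nat_lit 2, nat_lit 2, nat_lit 0, nat_lit 2, nat_lit 2, nat_lit 0])))))))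
 (.node (nat_lit 1925) (.node (nat_lit 1919) (.node (nat_lit 1916) (.node (nat_lit 1915) (.leaf ((nat_lit 1267), [nat_lit 5, nat_lit 0, nat_lit 5, nat_lit 3, nat_lit 0, nat_lit 3, nat_lit 0, nat_lit 2, nat_lit 4, nat_lit 0, nat_lit 2, nat_lit 2, nat_lit 0, nat_lit 2, nat_lit 0])) (.leaf ((nat_lit 1117), [nat_lit 4, nat_lit 1, nat_lit 5, nat_lit 0, nat_lit 5, nat_lit 2, nat_lit 0, nat_lit 2, nat_lit 3, nat_lit 1, nat_lit 0, nat_lit 2, nat_lit 2, nat_lit 0, nat_lit 2]))) (.node (nat_lit 1917) (.leaf ((nat_lit 1268), [nat_lit 5, nat_lit 4, nat_lit 3, nat_lit 0, nat_lit 5, nat_lit 0, nat_lit 2, nat_lit 0, nat_lit 2, nat_lit 4, nat_lit 0, nat_lit 1, nat_lit 0, nat_lit 2])) (.node (nat_lit 1918) (.leaf ((nat_lit 912), [nat_lit 3, nat_lit 5, nat_lit 1, nat_lit 3, nat_lit 2, nat_lit 5, nat_lit 1, nat_lit 3, nat_lit 4, nat_lit 3, nat_lit 0, nat_lit 1, nat_lit 0, nat_lit 2, nat_lit 2])) (.leaf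 ((nat_lit 1269), [nat_lit 3, nat_lit 0, nat_lit 5, nat_lit 3, nat_lit 5, nat_lit 1, nat_lit 4, nat_lit 0, nat_lit 4, nat_lit 2, nat_lit 0, nat_lit 3, nat_lit 1, nat_lit 0, nat_lit 1, nat_lit 0])))))
 (.node (nat_lit 1922) (.node (nat_lit 1920) (.leaf ((nat_lit 727), [nat_lit 4, nat_lit 3, nat_lit 5, nat_lit 4, nat_lit 0, nat_lit 4, nat_lit 0, nat_lit 2, nat_lit 2, nat_lit 0, nat_lit 1])) (.node (nat_lit 1921) (.leaf ((nat_lit 1270), [nat_lit 3, nat_lit 2, nat_lit 5, nat_lit 0, nat_lit 5, nat_lit 3, nat_lit 4, nat_lit 2, nat_lit 3, nat_lit 2, nat_lit 2, nat_lit 0, nat_lit 2, nat_lit 2, nat_lit 0, nat_lit 2, nat_lit 0])) (.leaf ((nat_lit 1271), [nat_lit 5, nat_lit 2, nat_lit 0, nat_lit 2, nat_lit 5, nat_lit 3, nat_lit 0, nat_lit 2, nat_lit 3, nat_lit 0, nat_lit 1, nat_lit 0, nat_lit 2, nat_lit 2, nat_lit 0, nat_lit 1, nat_lit 0])))) (.node (nat_lit 1923) (.leaf ((nat_lit 1272), [nat_lit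 5, nat_lit 2, nat_lit 3, nat_lit 5, nat_lit 0, nat_lit 4, nat_lit 2, nat_lit 3, nat_lit 4, nat_lit 2, nat_lit 0, nat_lit 1, nat_lit 0, nat_lit 2, nat_lit 2])) (.node (nat_lit 1924) (.leaf ((nat_lit 1147), [nat_lit 5, nat_lit 2, nat_lit 0, nat_lit 2, nat_lit 5, nat_lit 0, nat_lit 4, nat_lit 3, nat_lit 2, nat_lit 3, nat_lit 0, nat_lit 2, nat_lit 0, nat_lit 2, nat_lit 2, nat_lit 0, nat_lit 2, nat_lit 0])) (.leaf ((nat_lit 1165), [nat_lit 5, nat_lit 4, nat_lit 5, nat_lit 3, nat_lit 5, nat_lit 3, nat_lit 0, nat_lit 4, nat_lit 1, nat_lit 0, nat_lit 3, nat_lit 0, nat_lit 2, nat_lit 0, nat_lit 1, nat_lit 0, nat_lit 1]))))))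
 (.node (nat_lit 1930) (.node (nat_lit 1927) (.node (nat_lit 1926) (.leaf ((nat_lit 347), [nat_lit 4, nat_lit 2, nat_lit 0, nat_lit 5, nat_lit 3, nat_lit 0, nat_lit 3, nat_lit 4, nat_lit 3, nat_lit 2, nat_lit 0, nat_lit 2, nat_lit 2, nat_lit 0, nat_lit 2, nat_lit 2, nat_lit 0])) (.leaf ((nat_lit 1027), [nat_lit 5, nat_lit 4, nat_lit 1, nat_lit 0, nat_lit 5, nat_lit 4, nat_lit 2, nat_lit 4, nat_lit 2, nat_lit 0, nat_lit 3, nat_lit 2, nat_lit 0]))) (.node (nat_lit 1928) (.leaf ((nat_lit 1007), [nat_lit 5, nat_lit 4, nat_lit 0, nat_lit 5, nat_lit 4, nat_lit 0, nat_lit 3, nat_lit 2, nat_lit 0, nat_lit 2, nat_lit 2, nat_lit 0, nat_lit 2, nat_lit 0])) (.node (nat_lit 1929) (.leaf ((nat_lit 1273), [nat_lit 1, nat_lit 4, nat_lit 5, nat_lit 1, nat_lit 5, nat_lit 2, nat_lit 3, nat_lit 1, nat_lit 3, nat_lit 1, nat_lit 3, nat_lit 0, nat_lit 1, nat_lit 0, nat_lit 1, nat_lit 0, nat_lit 2, nat_lit 0]))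 (.leaf ((nat_lit 394), [nat_lit 2, nat_lit 3, nat_lit 5, nat_lit 0, nat_lit 5, nat_lit 1, nat_lit 3, nat_lit 0, nat_lit 1, nat_lit 4, nat_lit 1, nat_lit 0, nat_lit 1, nat_lit 0, nat_lit 2, nat_lit 2, nat_lit 0])))))
 (.node (nat_lit 1933) (.node (nat_lit 1931) (.leaf ((nat_lit 1274), [nat_lit 0, nat_lit 5, nat_lit 2, nat_lit 0, nat_lit 5, nat_lit 0, nat_lit 1, nat_lit 3, nat_lit 4, nat_lit 2, nat_lit 3])) (.node (nat_lit 1932) (.leaf ((nat_lit 1275), [nat_lit 4, nat_lit 3, nat_lit 5, nat_lit 0, nat_lit 4, nat_lit 2, nat_lit 0, nat_lit 3, nat_lit 0, nat_lit 2, nat_lit 0, nat_lit 1, nat_lit 0, nat_lit 1, nat_lit 0])) (.leaf ((nat_lit 1276), [nat_lit 1, nat_lit 3, nat_lit 0, nat_lit 5, nat_lit 2, nat_lit 4, nat_lit 0, nat_lit 4, nat_lit 0, nat_lit 4, nat_lit 2, nat_lit 0, nat_lit 1, nat_lit 0, nat_lit 2, nat_lit 0])))) (.node (nat_lit 1934) (.leaf ((nat_lit 1277), [nat_lit 3, nat_lit 5,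 nat_lit 3, nat_lit 2, nat_lit 4, nat_lit 3, nat_lit 1, nat_lit 0, nat_lit 2, nat_lit 0, nat_lit 2])) (.node (nat_lit 1935) (.leaf ((nat_lit 1278), [nat_lit 3, nat_lit 0, nat_lit 2, nat_lit 5, nat_lit 0, nat_lit 1, nat_lit 4, nat_lit 3, nat_lit 2, nat_lit 2, nat_lit 0, nat_lit 1, nat_lit 0, nat_lit 2, nat_lit 2, nat_lit 0])) (.leaf ((nat_lit 1017), [nat_lit 3, nat_lit 2, nat_lit 5, nat_lit 3, nat_lit 1, nat_lit 3, nat_lit 0, nat_lit 2, nat_lit 4, nat_lit 0, nat_lit 2, nat_lit 0, nat_lit 2, nat_lit 2, nat_lit 0, nat_lit 2]))))))))))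
noncomputable def bWd_11 : Tr (ℕ × List ℕ) := (.node (nat_lit 2024) (.node (nat_lit 1980) (.node (nat_lit 1958) (.node (nat_lit 1947) (.node (nat_lit 1941) (.node (nat_lit 1938) (.node (nat_lit 1937) (.leaf ((nat_lit 690), [nat_lit 0, nat_lit 4, nat_lit 5, nat_lit 4, nat_lit 1, nat_lit 4, nat_lit 1, nat_lit 4, nat_lit 3, nat_lit 0, nat_lit 2, nat_lit 0, nat_lit 2, nat_lit 2])) (.leaf ((nat_lit 1279), [nat_lit 1, nat_lit 5, nat_lit 1, nat_lit 5, nat_lit 0, nat_lit 3, nat_lit 4, nat_lit 0, nat_lit 2, nat_lit 2, nat_lit 0, nat_lit 1]))) (.node (nat_lit 1939) (.leaf ((nat_lit 319), [nat_lit 2, nat_lit 4, nat_lit 2, nat_lit 0, nat_lit 5, nat_lit 3, nat_lit 4, nat_lit 2, nat_lit 0, nat_lit 2, nat_lit 3, nat_lit 0, nat_lit 1, nat_lit 0, nat_lit 2, nat_lit 2, nat_lit 0, nat_lit 2, nat_lit 0])) (.node (nat_lit 1940) (.leaf ((nat_lit 908), [nat_lit 3, nat_lit 2, nat_lit 5, nat_lit 0, nat_lit 5,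 nat_lit 0, nat_lit 2, nat_lit 0, nat_lit 3, nat_lit 4, nat_lit 0, nat_lit 1, nat_lit 0, nat_lit 2, nat_lit 2, nat_lit 0, nat_lit 2])) (.leaf ((nat_lit 1128), [nat_lit 4, nat_lit 5, nat_lit 4, nat_lit 0, nat_lit 5, nat_lit 3, nat_lit 0, nat_lit 3, nat_lit 1, nat_lit 4, nat_lit 2, nat_lit 2, nat_lit 0, nat_lit 2, nat_lit 0])))))
 (.node (nat_lit 1944) (.node (nat_lit 1942) (.leaf ((nat_lit 703), [nat_lit 5, nat_lit 4, nat_lit 2, nat_lit 5, nat_lit 2, nat_lit 4, nat_lit 2, nat_lit 0, nat_lit 2, nat_lit 3, nat_lit 2, nat_lit 0, nat_lit 1, nat_lit 0, nat_lit 1, nat_lit 0, nat_lit 2, nat_lit 0])) (.node (nat_lit 1943) (.leaf ((nat_lit 1280), [nat_lit 4, nat_lit 1, nat_lit 0, nat_lit 5, nat_lit 4, nat_lit 2, nat_lit 4, nat_lit 2, nat_lit 0, nat_lit 3, nat_lit 0, nat_lit 1, nat_lit 0])) (.leaf ((nat_lit 1281), [nat_lit 1, nat_lit 5, nat_lit 0, nat_lit 5, nat_lit 3, nat_lit 4, nat_lit 0, nat_lit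 2, nat_lit 4, nat_lit 2, nat_lit 2, nat_lit 0, nat_lit 2, nat_lit 2, nat_lit 0, nat_lit 2, nat_lit 2])))) (.node (nat_lit 1945) (.leaf ((nat_lit 1106), [nat_lit 2, nat_lit 5, nat_lit 3, nat_lit 5, nat_lit 3, nat_lit 0, nat_lit 2, nat_lit 4, nat_lit 2, nat_lit 2])) (.node (nat_lit 1946) (.leaf ((nat_lit 1282), [nat_lit 3, nat_lit 4, nat_lit 5, nat_lit 3, nat_lit 2, nat_lit 3, nat_lit 2, nat_lit 0, nat_lit 3, nat_lit 0, nat_lit 2, nat_lit 2, nat_lit 0, nat_lit 1, nat_lit 0, nat_lit 2])) (.leaf ((nat_lit 1283), [nat_lit 2, nat_lit 2, nat_lit 5, nat_lit 1, nat_lit 5, nat_lit 4, nat_lit 3, nat_lit 1, nat_lit 4, nat_lit 0, nat_lit 2, nat_lit 2, nat_lit 0, nat_lit 2, nat_lit 0, nat_lit 1, nat_lit 0]))))))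
 (.node (nat_lit 1952) (.node (nat_lit 1949) (.node (nat_lit 1948) (.leaf ((nat_lit 822), [nat_lit 1, nat_lit 0, nat_lit 2, nat_lit 5, nat_lit 3, nat_lit 0, nat_lit 1, nat_lit 3, nat_lit 4, nat_lit 2, nat_lit 3, nat_lit 0, nat_lit 1, nat_lit 0, nat_lit 2, nat_lit 2, nat_lit 0, nat_lit 2])) (.leaf ((nat_lit 1124), [nat_lit 0, nat_lit 5, nat_lit 3, nat_lit 0, nat_lit 5, nat_lit 0, nat_lit 1, nat_lit 0, nat_lit 3, nat_lit 2, nat_lit 3, nat_lit 0, nat_lit 2, nat_lit 2, nat_lit 0]))) (.node (nat_lit 1950) (.leaf ((nat_lit 1284), [nat_lit 5, nat_lit 3, nat_lit 5, nat_lit 3, nat_lit 4, nat_lit 3, nat_lit 2, nat_lit 3, nat_lit 2, nat_lit 0, nat_lit 2])) (.node (nat_lit 1951) (.leaf ((nat_lit 397), [nat_lit 0, nat_lit 2, nat_lit 5, nat_lit 3, nat_lit 4, nat_lit 3, nat_lit 2, nat_lit 3, nat_lit 1, nat_lit 0, nat_lit 2, nat_lit 0])) (.leaf ((nat_lit 1285), [nat_lit 5, nat_lit 1, nat_lit 0, nat_lit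 2, nat_lit 5, nat_lit 3, nat_lit 2, nat_lit 0, nat_lit 4, nat_lit 2, nat_lit 2, nat_lit 0, nat_lit 2, nat_lit 2, nat_lit 0, nat_lit 2, nat_lit 2])))))
 (.node (nat_lit 1955) (.node (nat_lit 1953) (.leaf ((nat_lit 1286), [nat_lit 4, nat_lit 5, nat_lit 4, nat_lit 0, nat_lit 5, nat_lit 1, nat_lit 4, nat_lit 1, nat_lit 4, nat_lit 1, nat_lit 0, nat_lit 2, nat_lit 2, nat_lit 0, nat_lit 1, nat_lit 0])) (.node (nat_lit 1954) (.leaf ((nat_lit 1287), [nat_lit 2, nat_lit 2, nat_lit 5, nat_lit 2, nat_lit 3, nat_lit 2, nat_lit 4, nat_lit 3, nat_lit 0, nat_lit 2, nat_lit 0, nat_lit 1, nat_lit 0])) (.leaf ((nat_lit 675), [nat_lit 0, nat_lit 2, nat_lit 5, nat_lit 4, nat_lit 0, nat_lit 3, nat_lit 0, nat_lit 2, nat_lit 3, nat_lit 2, nat_lit 2, nat_lit 0, nat_lit 2, nat_lit 0, nat_lit 1])))) (.node (nat_lit 1956) (.leaf ((nat_lit 731), [nat_lit 5, nat_lit 4, nat_lit 3, nat_lit 0, nat_lit 5, nat_lit 4, nat_lit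 1, nat_lit 4, nat_lit 1, nat_lit 4, nat_lit 3, nat_lit 1, nat_lit 0, nat_lit 2, nat_lit 0, nat_lit 1, nat_lit 0])) (.node (nat_lit 1957) (.leaf ((nat_lit 1288), [nat_lit 1, nat_lit 0, nat_lit 5, nat_lit 3, nat_lit 5, nat_lit 3, nat_lit 2, nat_lit 4, nat_lit 2, nat_lit 0, nat_lit 2, nat_lit 2, nat_lit 0, nat_lit 2])) (.leaf ((nat_lit 33), [nat_lit 3, nat_lit 5, nat_lit 0, nat_lit 5, nat_lit 3, nat_lit 2, nat_lit 0, nat_lit 2, nat_lit 2, nat_lit 3, nat_lit 0, nat_lit 2, nat_lit 2])))))))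
 (.node (nat_lit 1969) (.node (nat_lit 1963) (.node (nat_lit 1960) (.node (nat_lit 1959) (.leaf ((nat_lit 800), [nat_lit 4, nat_lit 1, nat_lit 5, nat_lit 3, nat_lit 5, nat_lit 4, nat_lit 1, nat_lit 4, nat_lit 1, nat_lit 4, nat_lit 3, nat_lit 1, nat_lit 0, nat_lit 2, nat_lit 0, nat_lit 2])) (.leaf ((nat_lit 1289), [nat_lit 5, nat_lit 2, nat_lit 0, nat_lit 2, nat_lit 5, nat_lit 2, nat_lit 3, nat_lit 4, nat_lit 3, nat_lit 0, nat_lit 2, nat_lit 2, nat_lit 0, nat_lit 2, nat_lit 0, nat_lit 1, nat_lit 0]))) (.node (nat_lit 1961) (.leaf ((nat_lit 1275), [nat_lit 5, nat_lit 4, nat_lit 5, nat_lit 1, nat_lit 5, nat_lit 2, nat_lit 3, nat_lit 1, nat_lit 3, nat_lit 0, nat_lit 3, nat_lit 2, nat_lit 2, nat_lit 0, nat_lit 1])) (.node (nat_lit 1962) (.leaf ((nat_lit 1073), [nat_lit 5, nat_lit 4, nat_lit 5, nat_lit 3, nat_lit 5, nat_lit 4, nat_lit 3, nat_lit 1, nat_lit 0, nat_lit 2, nat_lit 3, nat_lit 2,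 nat_lit 0, nat_lit 2, nat_lit 2, nat_lit 0, nat_lit 2, nat_lit 2, nat_lit 0])) (.leaf ((nat_lit 990), [nat_lit 5, nat_lit 4, nat_lit 3, nat_lit 0, nat_lit 5, nat_lit 2, nat_lit 3, nat_lit 0, nat_lit 1, nat_lit 0, nat_lit 3, nat_lit 1, nat_lit 0, nat_lit 2, nat_lit 2])))))
 (.node (nat_lit 1966) (.node (nat_lit 1964) (.leaf ((nat_lit 750), [nat_lit 2, nat_lit 2, nat_lit 5, nat_lit 1, nat_lit 0, nat_lit 2, nat_lit 4, nat_lit 0, nat_lit 2, nat_lit 2, nat_lit 0, nat_lit 2, nat_lit 0])) (.node (nat_lit 1965) (.leaf ((nat_lit 844), [nat_lit 4, nat_lit 5, nat_lit 3, nat_lit 2, nat_lit 5, nat_lit 2, nat_lit 3, nat_lit 4, nat_lit 2, nat_lit 0, nat_lit 2, nat_lit 0, nat_lit 1])) (.leaf ((nat_lit 1290), [nat_lit 3, nat_lit 5, nat_lit 3, nat_lit 0, nat_lit 5, nat_lit 2, nat_lit 4, nat_lit 2, nat_lit 3, nat_lit 4, nat_lit 2, nat_lit 0, nat_lit 2, nat_lit 0, nat_lit 1, nat_lit 0])))) (.node (nat_lit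 1967) (.leaf ((nat_lit 823), [nat_lit 0, nat_lit 5, nat_lit 2, nat_lit 3, nat_lit 5, nat_lit 2, nat_lit 0, nat_lit 3, nat_lit 1, nat_lit 3, nat_lit 0, nat_lit 1, nat_lit 0, nat_lit 2, nat_lit 0, nat_lit 2, nat_lit 2])) (.node (nat_lit 1968) (.leaf ((nat_lit 515), [nat_lit 2, nat_lit 4, nat_lit 5, nat_lit 2, nat_lit 0, nat_lit 5, nat_lit 2, nat_lit 2, nat_lit 0, nat_lit 4, nat_lit 0, nat_lit 2, nat_lit 0, nat_lit 2, nat_lit 2, nat_lit 0, nat_lit 2])) (.leaf ((nat_lit 104), [nat_lit 2, nat_lit 0, nat_lit 5, nat_lit 4, nat_lit 3, nat_lit 0, nat_lit 3, nat_lit 1, nat_lit 0, nat_lit 2, nat_lit 2, nat_lit 0, nat_lit 2, nat_lit 2, nat_lit 0]))))))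
 (.node (nat_lit 1974) (.node (nat_lit 1971) (.node (nat_lit 1970) (.leaf ((nat_lit 1291), [nat_lit 5, nat_lit 4, nat_lit 3, nat_lit 5, nat_lit 2, nat_lit 5, nat_lit 3, nat_lit 4, nat_lit 2, nat_lit 3, nat_lit 0, nat_lit 1, nat_lit 0, nat_lit 2, nat_lit 2, nat_lit 0, nat_lit 2])) (.leaf ((nat_lit 1292), [nat_lit 5, nat_lit 2, nat_lit 2, nat_lit 0, nat_lit 5, nat_lit 4, nat_lit 2, nat_lit 3, nat_lit 0, nat_lit 4, nat_lit 0, nat_lit 2, nat_lit 0, nat_lit 1, nat_lit 0, nat_lit 1]))) (.node (nat_lit 1972) (.leaf ((nat_lit 559), [nat_lit 3, nat_lit 2, nat_lit 5, nat_lit 0, nat_lit 3, nat_lit 2, nat_lit 0, nat_lit 3, nat_lit 2, nat_lit 0, nat_lit 1, nat_lit 0, nat_lit 2, nat_lit 2, nat_lit 0])) (.node (nat_lit 1973) (.leaf ((nat_lit 1090), [nat_lit 5, nat_lit 1, nat_lit 5, nat_lit 4, nat_lit 3, nat_lit 0, nat_lit 2, nat_lit 4, nat_lit 2, nat_lit 0, nat_lit 2, nat_lit 0])) (.leaf ((nat_lit 1293),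 [nat_lit 5, nat_lit 2, nat_lit 3, nat_lit 0, nat_lit 5, nat_lit 3, nat_lit 1, nat_lit 0, nat_lit 2, nat_lit 3, nat_lit 1, nat_lit 0, nat_lit 2, nat_lit 0, nat_lit 1])))))
 (.node (nat_lit 1977) (.node (nat_lit 1975) (.leaf ((nat_lit 1087), [nat_lit 0, nat_lit 5, nat_lit 2, nat_lit 0, nat_lit 1, nat_lit 0, nat_lit 3, nat_lit 0, nat_lit 2, nat_lit 0, nat_lit 2, nat_lit 2, nat_lit 0, nat_lit 2, nat_lit 0])) (.node (nat_lit 1976) (.leaf ((nat_lit 1004), [nat_lit 5, nat_lit 4, nat_lit 5, nat_lit 2, nat_lit 5, nat_lit 3, nat_lit 2, nat_lit 3, nat_lit 2, nat_lit 0, nat_lit 3, nat_lit 0, nat_lit 2, nat_lit 0, nat_lit 2, nat_lit 2, nat_lit 0])) (.leaf ((nat_lit 1294), [nat_lit 3, nat_lit 1, nat_lit 3, nat_lit 0, nat_lit 5, nat_lit 4, nat_lit 0, nat_lit 1, nat_lit 4, nat_lit 3, nat_lit 0, nat_lit 2, nat_lit 2, nat_lit 0, nat_lit 2, nat_lit 0])))) (.node (nat_lit 1978) (.leaf ((nat_lit 1273), [nat_lit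 3, nat_lit 5, nat_lit 1, nat_lit 3, nat_lit 2, nat_lit 5, nat_lit 3, nat_lit 4, nat_lit 0, nat_lit 2, nat_lit 4, nat_lit 0, nat_lit 2, nat_lit 2, nat_lit 0, nat_lit 2, nat_lit 2, nat_lit 0])) (.node (nat_lit 1979) (.leaf ((nat_lit 91), [nat_lit 4, nat_lit 2, nat_lit 5, nat_lit 1, nat_lit 5, nat_lit 1, nat_lit 0, nat_lit 4, nat_lit 1, nat_lit 4, nat_lit 1, nat_lit 0, nat_lit 1, nat_lit 0, nat_lit 2, nat_lit 2])) (.leaf ((nat_lit 389), [nat_lit 4, nat_lit 1, nat_lit 5, nat_lit 2, nat_lit 5, nat_lit 4, nat_lit 1, nat_lit 3, nat_lit 2, nat_lit 0, nat_lit 2]))))))))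
 (.node (nat_lit 2002) (.node (nat_lit 1991) (.node (nat_lit 1985) (.node (nat_lit 1982) (.node (nat_lit 1981) (.leaf ((nat_lit 1014), [nat_lit 4, nat_lit 2, nat_lit 0, nat_lit 5, nat_lit 2, nat_lit 2, nat_lit 4, nat_lit 3, nat_lit 0, nat_lit 1, nat_lit 0, nat_lit 1, nat_lit 0, nat_lit 2, nat_lit 0])) (.leaf ((nat_lit 1295), [nat_lit 5, nat_lit 1, nat_lit 3, nat_lit 2, nat_lit 5, nat_lit 4, nat_lit 3, nat_lit 2, nat_lit 4, nat_lit 3, nat_lit 0, nat_lit 1, nat_lit 0, nat_lit 2, nat_lit 2]))) (.node (nat_lit 1983) (.leaf ((nat_lit 1296), [nat_lit 3, nat_lit 2, nat_lit 0, nat_lit 5, nat_lit 3, nat_lit 2, nat_lit 0, nat_lit 1, nat_lit 0, nat_lit 3, nat_lit 1, nat_lit 0])) (.node (nat_lit 1984) (.leaf ((nat_lit 457), [nat_lit 5, nat_lit 4, nat_lit 2, nat_lit 0, nat_lit 5, nat_lit 3, nat_lit 4, nat_lit 3, nat_lit 0, nat_lit 3, nat_lit 1, nat_lit 0, nat_lit 2, nat_lit 0, nat_lit 2, nat_lit 2,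 nat_lit 0])) (.leaf ((nat_lit 500), [nat_lit 5, nat_lit 3, nat_lit 0, nat_lit 5, nat_lit 2, nat_lit 3, nat_lit 4, nat_lit 2, nat_lit 4, nat_lit 0, nat_lit 1])))))
 (.node (nat_lit 1988) (.node (nat_lit 1986) (.leaf ((nat_lit 1108), [nat_lit 1, nat_lit 0, nat_lit 5, nat_lit 4, nat_lit 0, nat_lit 2, nat_lit 2, nat_lit 3, nat_lit 1, nat_lit 0])) (.node (nat_lit 1987) (.leaf ((nat_lit 778), [nat_lit 3, nat_lit 5, nat_lit 0, nat_lit 1, nat_lit 0, nat_lit 4, nat_lit 1, nat_lit 3, nat_lit 0])) (.leaf ((nat_lit 652), [nat_lit 1, nat_lit 0, nat_lit 2, nat_lit 5, nat_lit 4, nat_lit 2, nat_lit 3, nat_lit 4, nat_lit 3, nat_lit 0, nat_lit 2, nat_lit 0, nat_lit 2, nat_lit 2, nat_lit 0, nat_lit 2])))) (.node (nat_lit 1989) (.leaf ((nat_lit 959), [nat_lit 3, nat_lit 5, nat_lit 2, nat_lit 5, nat_lit 4, nat_lit 3, nat_lit 2, nat_lit 4, nat_lit 2, nat_lit 3, nat_lit 1, nat_lit 0, nat_lit 1, nat_lit 0]))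 (.node (nat_lit 1990) (.leaf ((nat_lit 1297), [nat_lit 5, nat_lit 4, nat_lit 5, nat_lit 3, nat_lit 0, nat_lit 4, nat_lit 2, nat_lit 0, nat_lit 2, nat_lit 2, nat_lit 0, nat_lit 2])) (.leaf ((nat_lit 1029), [nat_lit 0, nat_lit 3, nat_lit 5, nat_lit 0, nat_lit 1, nat_lit 3, nat_lit 0, nat_lit 3]))))))
 (.node (nat_lit 1996) (.node (nat_lit 1993) (.node (nat_lit 1992) (.leaf ((nat_lit 738), [nat_lit 4, nat_lit 2, nat_lit 5, nat_lit 1, nat_lit 5, nat_lit 3, nat_lit 4, nat_lit 3, nat_lit 2, nat_lit 3, nat_lit 0, nat_lit 2, nat_lit 2, nat_lit 0, nat_lit 2, nat_lit 0, nat_lit 1, nat_lit 0])) (.leaf ((nat_lit 1254), [nat_lit 3, nat_lit 5, nat_lit 3, nat_lit 0, nat_lit 5, nat_lit 3, nat_lit 0, nat_lit 1, nat_lit 0, nat_lit 4, nat_lit 2, nat_lit 0, nat_lit 2, nat_lit 2, nat_lit 0, nat_lit 2, nat_lit 2]))) (.node (nat_lit 1994) (.leaf ((nat_lit 1081), [nat_lit 0, nat_lit 4, nat_lit 5, nat_lit 3,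 nat_lit 0, nat_lit 1, nat_lit 0, nat_lit 3, nat_lit 0, nat_lit 2, nat_lit 0, nat_lit 2, nat_lit 2])) (.node (nat_lit 1995) (.leaf ((nat_lit 271), [nat_lit 2, nat_lit 5, nat_lit 3, nat_lit 5, nat_lit 1, nat_lit 4, nat_lit 2, nat_lit 4, nat_lit 0, nat_lit 1, nat_lit 0, nat_lit 2, nat_lit 0, nat_lit 2, nat_lit 2])) (.leaf ((nat_lit 1298), [nat_lit 4, nat_lit 2, nat_lit 5, nat_lit 3, nat_lit 5, nat_lit 3, nat_lit 4, nat_lit 3, nat_lit 2, nat_lit 4, nat_lit 2, nat_lit 0, nat_lit 1, nat_lit 0, nat_lit 1])))))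
 (.node (nat_lit 1999) (.node (nat_lit 1997) (.leaf ((nat_lit 1299), [nat_lit 5, nat_lit 0, nat_lit 1, nat_lit 5, nat_lit 3, nat_lit 4, nat_lit 3, nat_lit 2, nat_lit 2, nat_lit 0, nat_lit 1, nat_lit 0, nat_lit 2, nat_lit 2])) (.node (nat_lit 1998) (.leaf ((nat_lit 1164), [nat_lit 1, nat_lit 5, nat_lit 1, nat_lit 5, nat_lit 2, nat_lit 4, nat_lit 3, nat_lit 0, nat_lit 2, nat_lit 4, nat_lit 0])) (.leaf ((nat_lit 112), [nat_lit 5, nat_lit 4, nat_lit 2, nat_lit 5, nat_lit 2, nat_lit 0, nat_lit 4, nat_lit 1, nat_lit 4, nat_lit 2, nat_lit 0, nat_lit 2, nat_lit 0])))) (.node (nat_lit 2000) (.leaf ((nat_lit 1300), [nat_lit 5, nat_lit 4, nat_lit 5, nat_lit 2, nat_lit 5, nat_lit 3, nat_lit 0, nat_lit 3, nat_lit 0, nat_lit 4, nat_lit 0, nat_lit 2, nat_lit 2, nat_lit 0, nat_lit 1])) (.node (nat_lit 2001) (.leaf ((nat_lit 549), [nat_lit 4, nat_lit 1, nat_lit 5, nat_lit 2, nat_lit 5, nat_lit 0, nat_lit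 4, nat_lit 3, nat_lit 2, nat_lit 2, nat_lit 0, nat_lit 2, nat_lit 2, nat_lit 0, nat_lit 2, nat_lit 0])) (.leaf ((nat_lit 1301), [nat_lit 3, nat_lit 0, nat_lit 5, nat_lit 3, nat_lit 4, nat_lit 0, nat_lit 4, nat_lit 1, nat_lit 3, nat_lit 0, nat_lit 2, nat_lit 2])))))))
 (.node (nat_lit 2013) (.node (nat_lit 2007) (.node (nat_lit 2004) (.node (nat_lit 2003) (.leaf ((nat_lit 1104), [nat_lit 2, nat_lit 3, nat_lit 5, nat_lit 0, nat_lit 5, nat_lit 3, nat_lit 0, nat_lit 4, nat_lit 1, nat_lit 0, nat_lit 3, nat_lit 0, nat_lit 2, nat_lit 0, nat_lit 2, nat_lit 2, nat_lit 0, nat_lit 1])) (.leaf ((nat_lit 202), [nat_lit 5, nat_lit 1, nat_lit 5, nat_lit 4, nat_lit 0, nat_lit 2, nat_lit 4, nat_lit 2, nat_lit 0, nat_lit 2, nat_lit 2, nat_lit 0]))) (.node (nat_lit 2005) (.leaf ((nat_lit 1302), [nat_lit 2, nat_lit 0, nat_lit 1, nat_lit 5, nat_lit 2, nat_lit 4, nat_lit 3, nat_lit 2, nat_lit 2, nat_lit 3,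 nat_lit 1, nat_lit 0, nat_lit 1, nat_lit 0])) (.node (nat_lit 2006) (.leaf ((nat_lit 465), [nat_lit 1, nat_lit 5, nat_lit 3, nat_lit 5, nat_lit 3, nat_lit 1, nat_lit 3, nat_lit 1, nat_lit 3, nat_lit 1, nat_lit 0, nat_lit 1, nat_lit 0, nat_lit 2, nat_lit 2, nat_lit 0])) (.leaf ((nat_lit 1072), [nat_lit 0, nat_lit 5, nat_lit 4, nat_lit 3, nat_lit 1, nat_lit 3, nat_lit 1, nat_lit 3, nat_lit 0, nat_lit 1])))))
 (.node (nat_lit 2010) (.node (nat_lit 2008) (.leaf ((nat_lit 1280), [nat_lit 0, nat_lit 5, nat_lit 0, nat_lit 1, nat_lit 5, nat_lit 2, nat_lit 4, nat_lit 3, nat_lit 0, nat_lit 2, nat_lit 4, nat_lit 0, nat_lit 2, nat_lit 0, nat_lit 2])) (.node (nat_lit 2009) (.leaf ((nat_lit 44), [nat_lit 4, nat_lit 2, nat_lit 0, nat_lit 5, nat_lit 3, nat_lit 0, nat_lit 3, nat_lit 2, nat_lit 2])) (.leaf ((nat_lit 1094), [nat_lit 5, nat_lit 2, nat_lit 3, nat_lit 0, nat_lit 5, nat_lit 4, nat_lit 3, nat_lit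 1, nat_lit 0, nat_lit 4, nat_lit 2, nat_lit 0, nat_lit 2, nat_lit 2, nat_lit 0, nat_lit 2])))) (.node (nat_lit 2011) (.leaf ((nat_lit 450), [nat_lit 4, nat_lit 5, nat_lit 3, nat_lit 2, nat_lit 5, nat_lit 3, nat_lit 0, nat_lit 1, nat_lit 4, nat_lit 0, nat_lit 2, nat_lit 0, nat_lit 2, nat_lit 2, nat_lit 0, nat_lit 2])) (.node (nat_lit 2012) (.leaf ((nat_lit 385), [nat_lit 0, nat_lit 2, nat_lit 4, nat_lit 0, nat_lit 5, nat_lit 1, nat_lit 0, nat_lit 3, nat_lit 1, nat_lit 4, nat_lit 0, nat_lit 2, nat_lit 0, nat_lit 2])) (.leaf ((nat_lit 1303), [nat_lit 3, nat_lit 5, nat_lit 2, nat_lit 3, nat_lit 0, nat_lit 5, nat_lit 3, nat_lit 2, nat_lit 4, nat_lit 3, nat_lit 2, nat_lit 3, nat_lit 2, nat_lit 0, nat_lit 2, nat_lit 0, nat_lit 1, nat_lit 0]))))))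
 (.node (nat_lit 2018) (.node (nat_lit 2015) (.node (nat_lit 2014) (.leaf ((nat_lit 49), [nat_lit 4, nat_lit 3, nat_lit 5, nat_lit 1, nat_lit 3, nat_lit 1, nat_lit 0, nat_lit 4, nat_lit 1, nat_lit 0, nat_lit 1, nat_lit 0])) (.leaf ((nat_lit 1206), [nat_lit 5, nat_lit 1, nat_lit 5, nat_lit 0, nat_lit 5, nat_lit 2, nat_lit 4, nat_lit 1, nat_lit 4, nat_lit 1, nat_lit 3, nat_lit 2, nat_lit 0, nat_lit 2, nat_lit 2, nat_lit 0]))) (.node (nat_lit 2016) (.leaf ((nat_lit 1201), [nat_lit 1, nat_lit 5, nat_lit 0, nat_lit 5, nat_lit 0, nat_lit 2, nat_lit 4, nat_lit 1, nat_lit 0, nat_lit 3, nat_lit 0, nat_lit 2, nat_lit 0, nat_lit 2, nat_lit 0])) (.node (nat_lit 2017) (.leaf ((nat_lit 187), [nat_lit 5, nat_lit 4, nat_lit 5, nat_lit 1, nat_lit 4, nat_lit 0, nat_lit 3, nat_lit 4, nat_lit 1, nat_lit 0, nat_lit 2, nat_lit 0, nat_lit 2, nat_lit 2, nat_lit 0])) (.leaf ((nat_lit 1304), [nat_lit 2, nat_lit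 3, nat_lit 5, nat_lit 0, nat_lit 5, nat_lit 3, nat_lit 0, nat_lit 4, nat_lit 1, nat_lit 0, nat_lit 3, nat_lit 2, nat_lit 0, nat_lit 2, nat_lit 0, nat_lit 1, nat_lit 0, nat_lit 1, nat_lit 0])))))
 (.node (nat_lit 2021) (.node (nat_lit 2019) (.leaf ((nat_lit 1305), [nat_lit 1, nat_lit 5, nat_lit 0, nat_lit 5, nat_lit 2, nat_lit 0, nat_lit 3, nat_lit 0, nat_lit 2, nat_lit 3, nat_lit 2, nat_lit 2, nat_lit 0, nat_lit 2, nat_lit 2, nat_lit 0, nat_lit 1, nat_lit 0])) (.node (nat_lit 2020) (.leaf ((nat_lit 1113), [nat_lit 5, nat_lit 0, nat_lit 1, nat_lit 5, nat_lit 2, nat_lit 4, nat_lit 1, nat_lit 0, nat_lit 2, nat_lit 3, nat_lit 1, nat_lit 0, nat_lit 2, nat_lit 2])) (.leaf ((nat_lit 1306), [nat_lit 0, nat_lit 2, nat_lit 4, nat_lit 0, nat_lit 5, nat_lit 1, nat_lit 0, nat_lit 3, nat_lit 4, nat_lit 0])))) (.node (nat_lit 2022) (.leaf ((nat_lit 630), [nat_lit 5, nat_lit 1, nat_lit 5, nat_lit 2,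 nat_lit 3, nat_lit 0, nat_lit 2, nat_lit 4, nat_lit 3, nat_lit 0, nat_lit 1, nat_lit 0, nat_lit 2, nat_lit 0])) (.node (nat_lit 2023) (.leaf ((nat_lit 984), [nat_lit 4, nat_lit 5, nat_lit 3, nat_lit 5, nat_lit 2, nat_lit 3, nat_lit 4, nat_lit 3, nat_lit 2, nat_lit 3, nat_lit 1, nat_lit 0, nat_lit 1, nat_lit 0, nat_lit 2, nat_lit 0])) (.leaf ((nat_lit 1307), [nat_lit 5, nat_lit 4, nat_lit 5, nat_lit 1, nat_lit 5, nat_lit 0, nat_lit 4, nat_lit 1, nat_lit 4, nat_lit 0, nat_lit 2, nat_lit 2])))))))))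
 (.node (nat_lit 2068) (.node (nat_lit 2046) (.node (nat_lit 2035) (.node (nat_lit 2029) (.node (nat_lit 2026) (.node (nat_lit 2025) (.leaf ((nat_lit 737), [nat_lit 5, nat_lit 3, nat_lit 2, nat_lit 0, nat_lit 5, nat_lit 4, nat_lit 0, nat_lit 3, nat_lit 4, nat_lit 3, nat_lit 0, nat_lit 1, nat_lit 0, nat_lit 2, nat_lit 2])) (.leaf ((nat_lit 918), [nat_lit 4, nat_lit 1, nat_lit 5, nat_lit 0, nat_lit 5, nat_lit 3, nat_lit 4, nat_lit 3, nat_lit 2, nat_lit 3, nat_lit 0, nat_lit 2, nat_lit 0, nat_lit 1, nat_lit 0]))) (.node (nat_lit 2027) (.leaf ((nat_lit 1308), [nat_lit 5, nat_lit 4, nat_lit 5, nat_lit 3, nat_lit 5, nat_lit 3, nat_lit 0, nat_lit 3, nat_lit 4, nat_lit 3, nat_lit 2, nat_lit 0, nat_lit 2, nat_lit 0])) (.node (nat_lit 2028) (.leaf ((nat_lit 1309), [nat_lit 4, nat_lit 1, nat_lit 5, nat_lit 3, nat_lit 5, nat_lit 0, nat_lit 3, nat_lit 0, nat_lit 2, nat_lit 4, nat_lit 3, nat_lit 2,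 nat_lit 0, nat_lit 2, nat_lit 2, nat_lit 0, nat_lit 2, nat_lit 2])) (.leaf ((nat_lit 606), [nat_lit 3, nat_lit 0, nat_lit 5, nat_lit 4, nat_lit 1, nat_lit 0, nat_lit 2, nat_lit 3, nat_lit 1, nat_lit 0, nat_lit 2, nat_lit 0, nat_lit 2])))))
 (.node (nat_lit 2032) (.node (nat_lit 2030) (.leaf ((nat_lit 851), [nat_lit 3, nat_lit 5, nat_lit 1, nat_lit 3, nat_lit 0, nat_lit 5, nat_lit 0, nat_lit 4, nat_lit 0, nat_lit 4, nat_lit 1, nat_lit 3, nat_lit 1, nat_lit 0, nat_lit 1, nat_lit 0, nat_lit 2, nat_lit 2, nat_lit 0])) (.node (nat_lit 2031) (.leaf ((nat_lit 780), [nat_lit 4, nat_lit 3, nat_lit 0, nat_lit 5, nat_lit 3, nat_lit 0, nat_lit 3, nat_lit 2, nat_lit 3, nat_lit 0, nat_lit 2, nat_lit 0, nat_lit 2, nat_lit 2])) (.leaf ((nat_lit 1310), [nat_lit 2, nat_lit 5, nat_lit 0, nat_lit 5, nat_lit 1, nat_lit 0, nat_lit 2, nat_lit 3, nat_lit 2, nat_lit 2, nat_lit 0, nat_lit 1, nat_lit 0, nat_lit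 2, nat_lit 0])))) (.node (nat_lit 2033) (.leaf ((nat_lit 1311), [nat_lit 4, nat_lit 0, nat_lit 5, nat_lit 0, nat_lit 2, nat_lit 0, nat_lit 4, nat_lit 1, nat_lit 4, nat_lit 0, nat_lit 1, nat_lit 0, nat_lit 1, nat_lit 0])) (.node (nat_lit 2034) (.leaf ((nat_lit 1312), [nat_lit 3, nat_lit 2, nat_lit 0, nat_lit 5, nat_lit 2, nat_lit 0, nat_lit 4, nat_lit 1, nat_lit 3, nat_lit 1, nat_lit 0, nat_lit 1, nat_lit 0])) (.leaf ((nat_lit 978), [nat_lit 1, nat_lit 0, nat_lit 5, nat_lit 2, nat_lit 0, nat_lit 4, nat_lit 1, nat_lit 3, nat_lit 0, nat_lit 1, nat_lit 0, nat_lit 2, nat_lit 2, nat_lit 0, nat_lit 1, nat_lit 0]))))))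
 (.node (nat_lit 2040) (.node (nat_lit 2037) (.node (nat_lit 2036) (.leaf ((nat_lit 1099), [nat_lit 2, nat_lit 3, nat_lit 5, nat_lit 3, nat_lit 0, nat_lit 3, nat_lit 2, nat_lit 3, nat_lit 2, nat_lit 2, nat_lit 0, nat_lit 1, nat_lit 0, nat_lit 2, nat_lit 0])) (.leaf ((nat_lit 1313), [nat_lit 4, nat_lit 2, nat_lit 5, nat_lit 3, nat_lit 4, nat_lit 2, nat_lit 4, nat_lit 2, nat_lit 3, nat_lit 2, nat_lit 2, nat_lit 0]))) (.node (nat_lit 2038) (.leaf ((nat_lit 776), [nat_lit 0, nat_lit 5, nat_lit 2, nat_lit 5, nat_lit 3, nat_lit 4, nat_lit 1, nat_lit 0, nat_lit 4, nat_lit 1, nat_lit 0, nat_lit 2, nat_lit 0, nat_lit 2, nat_lit 2])) (.node (nat_lit 2039) (.leaf ((nat_lit 1314), [nat_lit 2, nat_lit 4, nat_lit 2, nat_lit 0, nat_lit 5, nat_lit 3, nat_lit 0, nat_lit 1, nat_lit 3, nat_lit 4, nat_lit 2, nat_lit 3, nat_lit 1, nat_lit 0, nat_lit 2, nat_lit 0, nat_lit 1, nat_lit 0])) (.leaf ((nat_lit 1315),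 [nat_lit 0, nat_lit 5, nat_lit 3, nat_lit 5, nat_lit 0, nat_lit 3, nat_lit 2, nat_lit 0, nat_lit 3, nat_lit 2, nat_lit 0, nat_lit 1, nat_lit 0, nat_lit 1, nat_lit 0, nat_lit 2, nat_lit 0])))))
 (.node (nat_lit 2043) (.node (nat_lit 2041) (.leaf ((nat_lit 1146), [nat_lit 3, nat_lit 5, nat_lit 0, nat_lit 3, nat_lit 5, nat_lit 2, nat_lit 3, nat_lit 2, nat_lit 4, nat_lit 3, nat_lit 1, nat_lit 0, nat_lit 1, nat_lit 0, nat_lit 2])) (.node (nat_lit 2042) (.leaf ((nat_lit 208), [nat_lit 1, nat_lit 0, nat_lit 5, nat_lit 3, nat_lit 5, nat_lit 2, nat_lit 2, nat_lit 0, nat_lit 4, nat_lit 2, nat_lit 2, nat_lit 0, nat_lit 1, nat_lit 0, nat_lit 2])) (.leaf ((nat_lit 1060), [nat_lit 5, nat_lit 2, nat_lit 2, nat_lit 0, nat_lit 5, nat_lit 3, nat_lit 2, nat_lit 3, nat_lit 0, nat_lit 3, nat_lit 0, nat_lit 2, nat_lit 0, nat_lit 1])))) (.node (nat_lit 2044) (.leaf ((nat_lit 1313), [nat_lit 4, nat_lit 5, nat_lit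 0, nat_lit 3, nat_lit 5, nat_lit 4, nat_lit 0, nat_lit 1, nat_lit 4, nat_lit 0, nat_lit 2, nat_lit 2, nat_lit 0])) (.node (nat_lit 2045) (.leaf ((nat_lit 1316), [nat_lit 1, nat_lit 5, nat_lit 1, nat_lit 5, nat_lit 3, nat_lit 2, nat_lit 3, nat_lit 0, nat_lit 3, nat_lit 0, nat_lit 2, nat_lit 2, nat_lit 0])) (.leaf ((nat_lit 167), [nat_lit 2, nat_lit 5, nat_lit 0, nat_lit 5, nat_lit 4, nat_lit 1, nat_lit 0, nat_lit 3, nat_lit 2, nat_lit 3, nat_lit 2, nat_lit 2, nat_lit 0, nat_lit 2, nat_lit 0])))))))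
 (.node (nat_lit 2057) (.node (nat_lit 2051) (.node (nat_lit 2048) (.node (nat_lit 2047) (.leaf ((nat_lit 636), [nat_lit 1, nat_lit 4, nat_lit 5, nat_lit 1, nat_lit 5, nat_lit 2, nat_lit 3, nat_lit 2, nat_lit 3, nat_lit 1, nat_lit 0, nat_lit 2, nat_lit 2, nat_lit 0])) (.leaf ((nat_lit 708), [nat_lit 4, nat_lit 5, nat_lit 1, nat_lit 5, nat_lit 4, nat_lit 1, nat_lit 0, nat_lit 3, nat_lit 2, nat_lit 3, nat_lit 2, nat_lit 0, nat_lit 2, nat_lit 2, nat_lit 0, nat_lit 2]))) (.node (nat_lit 2049) (.leaf ((nat_lit 1317), [nat_lit 2, nat_lit 4, nat_lit 2, nat_lit 0, nat_lit 5, nat_lit 3, nat_lit 1, nat_lit 4, nat_lit 0, nat_lit 4, nat_lit 3, nat_lit 2, nat_lit 0, nat_lit 2])) (.node (nat_lit 2050) (.leaf ((nat_lit 1191), [nat_lit 4, nat_lit 5, nat_lit 2, nat_lit 5, nat_lit 3, nat_lit 4, nat_lit 2, nat_lit 0, nat_lit 4, nat_lit 0, nat_lit 2, nat_lit 0, nat_lit 2, nat_lit 2, nat_lit 0, nat_lit 1]))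 (.leaf ((nat_lit 1318), [nat_lit 4, nat_lit 0, nat_lit 5, nat_lit 3, nat_lit 2, nat_lit 2, nat_lit 4, nat_lit 3, nat_lit 0, nat_lit 2, nat_lit 0, nat_lit 2, nat_lit 2, nat_lit 0, nat_lit 2, nat_lit 0])))))
 (.node (nat_lit 2054) (.node (nat_lit 2052) (.leaf ((nat_lit 1055), [nat_lit 1, nat_lit 3, nat_lit 2, nat_lit 5, nat_lit 1, nat_lit 0, nat_lit 1, nat_lit 4, nat_lit 3, nat_lit 0, nat_lit 2, nat_lit 2, nat_lit 0, nat_lit 2, nat_lit 0])) (.node (nat_lit 2053) (.leaf ((nat_lit 1300), [nat_lit 1, nat_lit 3, nat_lit 2, nat_lit 5, nat_lit 4, nat_lit 3, nat_lit 1, nat_lit 4, nat_lit 1, nat_lit 3, nat_lit 0, nat_lit 1, nat_lit 0, nat_lit 2, nat_lit 2, nat_lit 0])) (.leaf ((nat_lit 373), [nat_lit 5, nat_lit 4, nat_lit 3, nat_lit 0, nat_lit 5, nat_lit 2, nat_lit 2, nat_lit 4, nat_lit 0, nat_lit 4, nat_lit 2, nat_lit 2, nat_lit 0, nat_lit 2, nat_lit 0])))) (.node (nat_lit 2055) (.leaf ((nat_lit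 748), [nat_lit 5, nat_lit 1, nat_lit 0, nat_lit 3, nat_lit 5, nat_lit 3, nat_lit 2, nat_lit 2, nat_lit 3, nat_lit 0, nat_lit 2, nat_lit 0, nat_lit 2, nat_lit 2])) (.node (nat_lit 2056) (.leaf ((nat_lit 916), [nat_lit 2, nat_lit 3, nat_lit 5, nat_lit 0, nat_lit 5, nat_lit 1, nat_lit 0, nat_lit 4, nat_lit 1, nat_lit 0, nat_lit 1, nat_lit 0, nat_lit 2, nat_lit 2, nat_lit 0])) (.leaf ((nat_lit 1319), [nat_lit 5, nat_lit 3, nat_lit 0, nat_lit 5, nat_lit 1, nat_lit 3, nat_lit 4, nat_lit 3, nat_lit 1, nat_lit 0, nat_lit 2, nat_lit 2]))))))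
 (.node (nat_lit 2062) (.node (nat_lit 2059) (.node (nat_lit 2058) (.leaf ((nat_lit 1320), [nat_lit 1, nat_lit 5, nat_lit 2, nat_lit 5, nat_lit 4, nat_lit 2, nat_lit 4, nat_lit 3, nat_lit 0, nat_lit 2, nat_lit 0, nat_lit 1, nat_lit 0, nat_lit 1])) (.leaf ((nat_lit 645), [nat_lit 0, nat_lit 3, nat_lit 5, nat_lit 2, nat_lit 3, nat_lit 2, nat_lit 4, nat_lit 3, nat_lit 0, nat_lit 1, nat_lit 0, nat_lit 2, nat_lit 2, nat_lit 0, nat_lit 2, nat_lit 0]))) (.node (nat_lit 2060) (.leaf ((nat_lit 1043), [nat_lit 0, nat_lit 5, nat_lit 3, nat_lit 5, nat_lit 4, nat_lit 0, nat_lit 4, nat_lit 0, nat_lit 4, nat_lit 2, nat_lit 0, nat_lit 2, nat_lit 2, nat_lit 0, nat_lit 1, nat_lit 0])) (.node (nat_lit 2061) (.leaf ((nat_lit 961), [nat_lit 5, nat_lit 4, nat_lit 3, nat_lit 0, nat_lit 5, nat_lit 1, nat_lit 3, nat_lit 4, nat_lit 3, nat_lit 2, nat_lit 2, nat_lit 0, nat_lit 1, nat_lit 0, nat_lit 2, nat_lit 0]))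 (.leaf ((nat_lit 404), [nat_lit 4, nat_lit 5, nat_lit 1, nat_lit 5, nat_lit 2, nat_lit 3, nat_lit 2, nat_lit 2, nat_lit 3, nat_lit 0, nat_lit 2, nat_lit 0])))))
 (.node (nat_lit 2065) (.node (nat_lit 2063) (.leaf ((nat_lit 284), [nat_lit 5, nat_lit 3, nat_lit 0, nat_lit 5, nat_lit 0, nat_lit 4, nat_lit 0, nat_lit 4, nat_lit 1, nat_lit 0, nat_lit 1, nat_lit 0, nat_lit 2])) (.node (nat_lit 2064) (.leaf ((nat_lit 1321), [nat_lit 5, nat_lit 2, nat_lit 4, nat_lit 0, nat_lit 5, nat_lit 4, nat_lit 1, nat_lit 4, nat_lit 1, nat_lit 3, nat_lit 2, nat_lit 2, nat_lit 0, nat_lit 2, nat_lit 2, nat_lit 0, nat_lit 1, nat_lit 0])) (.leaf ((nat_lit 1291), [nat_lit 5, nat_lit 2, nat_lit 3, nat_lit 0, nat_lit 5, nat_lit 1, nat_lit 4, nat_lit 1, nat_lit 4, nat_lit 3, nat_lit 0, nat_lit 1, nat_lit 0, nat_lit 2, nat_lit 2])))) (.node (nat_lit 2066) (.leaf ((nat_lit 989), [nat_lit 0, nat_lit 4, nat_lit 5, nat_lit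 3, nat_lit 0, nat_lit 4, nat_lit 2, nat_lit 0, nat_lit 3, nat_lit 0, nat_lit 2, nat_lit 0, nat_lit 2])) (.node (nat_lit 2067) (.leaf ((nat_lit 1264), [nat_lit 4, nat_lit 3, nat_lit 5, nat_lit 0, nat_lit 5, nat_lit 4, nat_lit 1, nat_lit 3, nat_lit 4, nat_lit 2, nat_lit 3, nat_lit 2, nat_lit 0, nat_lit 2, nat_lit 0, nat_lit 1, nat_lit 0, nat_lit 1])) (.leaf ((nat_lit 700), [nat_lit 3, nat_lit 1, nat_lit 5, nat_lit 0, nat_lit 5, nat_lit 0, nat_lit 1, nat_lit 4, nat_lit 3, nat_lit 0, nat_lit 1, nat_lit 0, nat_lit 2, nat_lit 0]))))))))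
 (.node (nat_lit 2090) (.node (nat_lit 2079) (.node (nat_lit 2073) (.node (nat_lit 2070) (.node (nat_lit 2069) (.leaf ((nat_lit 1136), [nat_lit 5, nat_lit 0, nat_lit 3, nat_lit 5, nat_lit 3, nat_lit 0, nat_lit 4, nat_lit 3, nat_lit 2, nat_lit 3, nat_lit 1, nat_lit 0, nat_lit 2, nat_lit 0, nat_lit 2])) (.leaf ((nat_lit 1322), [nat_lit 0, nat_lit 1, nat_lit 5, nat_lit 2, nat_lit 2, nat_lit 4, nat_lit 3, nat_lit 1, nat_lit 0, nat_lit 2, nat_lit 2, nat_lit 0, nat_lit 1]))) (.node (nat_lit 2071) (.leaf ((nat_lit 1234), [nat_lit 3, nat_lit 5, nat_lit 2, nat_lit 5, nat_lit 0, nat_lit 4, nat_lit 2, nat_lit 3, nat_lit 4, nat_lit 2, nat_lit 0, nat_lit 2, nat_lit 2, nat_lit 0])) (.node (nat_lit 2072) (.leaf ((nat_lit 254), [nat_lit 4, nat_lit 2, nat_lit 5, nat_lit 2, nat_lit 0, nat_lit 2, nat_lit 4, nat_lit 2, nat_lit 2, nat_lit 0, nat_lit 2, nat_lit 0, nat_lit 1])) (.leaf ((nat_lit 901), [nat_lit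 4, nat_lit 0, nat_lit 5, nat_lit 2, nat_lit 5, nat_lit 3, nat_lit 4, nat_lit 2, nat_lit 4, nat_lit 1, nat_lit 0, nat_lit 1, nat_lit 0, nat_lit 2, nat_lit 2, nat_lit 0])))))
 (.node (nat_lit 2076) (.node (nat_lit 2074) (.leaf ((nat_lit 221), [nat_lit 5, nat_lit 3, nat_lit 2, nat_lit 5, nat_lit 4, nat_lit 3, nat_lit 0, nat_lit 4, nat_lit 1, nat_lit 0, nat_lit 3, nat_lit 2, nat_lit 2, nat_lit 0, nat_lit 2, nat_lit 0, nat_lit 1])) (.node (nat_lit 2075) (.leaf ((nat_lit 732), [nat_lit 4, nat_lit 5, nat_lit 3, nat_lit 5, nat_lit 4, nat_lit 2, nat_lit 0, nat_lit 1, nat_lit 0, nat_lit 3, nat_lit 2, nat_lit 0, nat_lit 2])) (.leaf ((nat_lit 1323), [nat_lit 5, nat_lit 2, nat_lit 4, nat_lit 0, nat_lit 5, nat_lit 4, nat_lit 3, nat_lit 1, nat_lit 4, nat_lit 3, nat_lit 2, nat_lit 2, nat_lit 0, nat_lit 2, nat_lit 2, nat_lit 0, nat_lit 2, nat_lit 0])))) (.node (nat_lit 2077) (.leaf ((nat_lit 707), [nat_lit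 2, nat_lit 4, nat_lit 0, nat_lit 5, nat_lit 4, nat_lit 1, nat_lit 3, nat_lit 4, nat_lit 2, nat_lit 3, nat_lit 2, nat_lit 2, nat_lit 0, nat_lit 2, nat_lit 2, nat_lit 0, nat_lit 1])) (.node (nat_lit 2078) (.leaf ((nat_lit 1324), [nat_lit 5, nat_lit 2, nat_lit 0, nat_lit 5, nat_lit 4, nat_lit 1, nat_lit 0, nat_lit 3, nat_lit 2, nat_lit 3, nat_lit 2, nat_lit 2, nat_lit 0, nat_lit 2, nat_lit 2])) (.leaf ((nat_lit 1304), [nat_lit 3, nat_lit 4, nat_lit 3, nat_lit 5, nat_lit 2, nat_lit 3, nat_lit 4, nat_lit 3, nat_lit 0, nat_lit 3, nat_lit 0, nat_lit 2, nat_lit 0, nat_lit 2, nat_lit 2, nat_lit 0, nat_lit 2, nat_lit 0]))))))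
 (.node (nat_lit 2084) (.node (nat_lit 2081) (.node (nat_lit 2080) (.leaf ((nat_lit 1077), [nat_lit 5, nat_lit 4, nat_lit 3, nat_lit 0, nat_lit 5, nat_lit 4, nat_lit 0, nat_lit 4, nat_lit 3, nat_lit 0, nat_lit 2, nat_lit 0, nat_lit 2, nat_lit 0])) (.leaf ((nat_lit 939), [nat_lit 5, nat_lit 0, nat_lit 5, nat_lit 2, nat_lit 3, nat_lit 1, nat_lit 3, nat_lit 1, nat_lit 0, nat_lit 1, nat_lit 0, nat_lit 2, nat_lit 2, nat_lit 0]))) (.node (nat_lit 2082) (.leaf ((nat_lit 1325), [nat_lit 3, nat_lit 4, nat_lit 3, nat_lit 5, nat_lit 2, nat_lit 4, nat_lit 2, nat_lit 4, nat_lit 2, nat_lit 2, nat_lit 0, nat_lit 2, nat_lit 2])) (.node (nat_lit 2083) (.leaf ((nat_lit 887), [nat_lit 3, nat_lit 4, nat_lit 3, nat_lit 5, nat_lit 2, nat_lit 4, nat_lit 3, nat_lit 1, nat_lit 4, nat_lit 3, nat_lit 1, nat_lit 0, nat_lit 2, nat_lit 0, nat_lit 2, nat_lit 2])) (.leaf ((nat_lit 1294), [nat_lit 4, nat_lit 3, nat_lit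 5, nat_lit 4, nat_lit 2, nat_lit 0, nat_lit 2, nat_lit 3, nat_lit 2, nat_lit 2, nat_lit 0, nat_lit 2, nat_lit 0, nat_lit 1])))))
 (.node (nat_lit 2087) (.node (nat_lit 2085) (.leaf ((nat_lit 881), [nat_lit 5, nat_lit 4, nat_lit 3, nat_lit 5, nat_lit 2, nat_lit 5, nat_lit 4, nat_lit 3, nat_lit 1, nat_lit 4, nat_lit 3, nat_lit 2, nat_lit 2, nat_lit 0, nat_lit 2, nat_lit 0, nat_lit 1])) (.node (nat_lit 2086) (.leaf ((nat_lit 1125), [nat_lit 2, nat_lit 5, nat_lit 1, nat_lit 5, nat_lit 2, nat_lit 0, nat_lit 4, nat_lit 1, nat_lit 4, nat_lit 0, nat_lit 2, nat_lit 2, nat_lit 0])) (.leaf ((nat_lit 1326), [nat_lit 5, nat_lit 4, nat_lit 5, nat_lit 2, nat_lit 0, nat_lit 2, nat_lit 3, nat_lit 0, nat_lit 1, nat_lit 0, nat_lit 2, nat_lit 0, nat_lit 2, nat_lit 2, nat_lit 0])))) (.node (nat_lit 2088) (.leaf ((nat_lit 892), [nat_lit 4, nat_lit 1, nat_lit 5, nat_lit 3, nat_lit 5, nat_lit 1, nat_lit 3, nat_lit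 2, nat_lit 0, nat_lit 1, nat_lit 0, nat_lit 2, nat_lit 2])) (.node (nat_lit 2089) (.leaf ((nat_lit 1163), [nat_lit 1, nat_lit 3, nat_lit 0, nat_lit 5, nat_lit 3, nat_lit 2, nat_lit 0, nat_lit 2, nat_lit 3, nat_lit 2, nat_lit 2, nat_lit 0, nat_lit 2, nat_lit 2, nat_lit 0])) (.leaf ((nat_lit 1327), [nat_lit 2, nat_lit 2, nat_lit 5, nat_lit 1, nat_lit 3, nat_lit 2, nat_lit 3, nat_lit 0, nat_lit 4, nat_lit 2])))))))
 (.node (nat_lit 2101) (.node (nat_lit 2095) (.node (nat_lit 2092) (.node (nat_lit 2091) (.leaf ((nat_lit 725), [nat_lit 5, nat_lit 2, nat_lit 4, nat_lit 0, nat_lit 5, nat_lit 4, nat_lit 3, nat_lit 1, nat_lit 3, nat_lit 1, nat_lit 0, nat_lit 2, nat_lit 0, nat_lit 1, nat_lit 0])) (.leaf ((nat_lit 691), [nat_lit 2, nat_lit 2, nat_lit 5, nat_lit 0, nat_lit 3, nat_lit 4, nat_lit 2, nat_lit 0, nat_lit 2, nat_lit 2]))) (.node (nat_lit 2093) (.leaf ((nat_lit 81), [nat_lit 3, nat_lit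 4, nat_lit 3, nat_lit 5, nat_lit 4, nat_lit 3, nat_lit 2, nat_lit 3, nat_lit 0, nat_lit 2, nat_lit 0, nat_lit 2])) (.node (nat_lit 2094) (.leaf ((nat_lit 1328), [nat_lit 1, nat_lit 4, nat_lit 2, nat_lit 5, nat_lit 0, nat_lit 4, nat_lit 0, nat_lit 1, nat_lit 4, nat_lit 3, nat_lit 2])) (.leaf ((nat_lit 1279), [nat_lit 5, nat_lit 0, nat_lit 5, nat_lit 2, nat_lit 3, nat_lit 0, nat_lit 1, nat_lit 0, nat_lit 2, nat_lit 0, nat_lit 2, nat_lit 0])))))
 (.node (nat_lit 2098) (.node (nat_lit 2096) (.leaf ((nat_lit 847), [nat_lit 5, nat_lit 1, nat_lit 5, nat_lit 0, nat_lit 5, nat_lit 2, nat_lit 4, nat_lit 3, nat_lit 2, nat_lit 3, nat_lit 0, nat_lit 2, nat_lit 2, nat_lit 0, nat_lit 2])) (.node (nat_lit 2097) (.leaf ((nat_lit 1242), [nat_lit 1, nat_lit 0, nat_lit 5, nat_lit 3, nat_lit 5, nat_lit 1, nat_lit 3, nat_lit 0, nat_lit 4, nat_lit 2, nat_lit 0, nat_lit 1, nat_lit 0, nat_lit 2, nat_lit 2]))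 (.leaf ((nat_lit 900), [nat_lit 3, nat_lit 5, nat_lit 0, nat_lit 5, nat_lit 2, nat_lit 2, nat_lit 0, nat_lit 3, nat_lit 4, nat_lit 2, nat_lit 0, nat_lit 1, nat_lit 0, nat_lit 2, nat_lit 0, nat_lit 2])))) (.node (nat_lit 2099) (.leaf ((nat_lit 1329), [nat_lit 5, nat_lit 2, nat_lit 0, nat_lit 2, nat_lit 5, nat_lit 3, nat_lit 0, nat_lit 3, nat_lit 1, nat_lit 4, nat_lit 2, nat_lit 0])) (.node (nat_lit 2100) (.leaf ((nat_lit 1160), [nat_lit 4, nat_lit 0, nat_lit 5, nat_lit 4, nat_lit 0, nat_lit 3, nat_lit 1, nat_lit 3, nat_lit 2, nat_lit 0, nat_lit 1, nat_lit 0, nat_lit 2, nat_lit 0, nat_lit 2, nat_lit 0])) (.leaf ((nat_lit 713), [nat_lit 4, nat_lit 2, nat_lit 5, nat_lit 0, nat_lit 2, nat_lit 4, nat_lit 3, nat_lit 2, nat_lit 0, nat_lit 2, nat_lit 2]))))))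
 (.node (nat_lit 2106) (.node (nat_lit 2103) (.node (nat_lit 2102) (.leaf ((nat_lit 1330), [nat_lit 4, nat_lit 5, nat_lit 1, nat_lit 5, nat_lit 3, nat_lit 0, nat_lit 3, nat_lit 2, nat_lit 3])) (.leaf ((nat_lit 166), [nat_lit 1, nat_lit 5, nat_lit 3, nat_lit 5, nat_lit 1, nat_lit 4, nat_lit 0, nat_lit 4, nat_lit 2, nat_lit 0, nat_lit 3, nat_lit 1, nat_lit 0, nat_lit 1, nat_lit 0, nat_lit 2, nat_lit 2, nat_lit 0]))) (.node (nat_lit 2104) (.leaf ((nat_lit 68), [nat_lit 4, nat_lit 1, nat_lit 5, nat_lit 0, nat_lit 5, nat_lit 0, nat_lit 3, nat_lit 2, nat_lit 0, nat_lit 2, nat_lit 2, nat_lit 0, nat_lit 2, nat_lit 2])) (.node (nat_lit 2105) (.leaf ((nat_lit 1331), [nat_lit 5, nat_lit 2, nat_lit 0, nat_lit 5, nat_lit 1, nat_lit 4, nat_lit 1, nat_lit 3, nat_lit 2])) (.leaf ((nat_lit 217), [nat_lit 5, nat_lit 3, nat_lit 2, nat_lit 0, nat_lit 5, nat_lit 4, nat_lit 0, nat_lit 1, nat_lit 4, nat_lit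 3, nat_lit 1, nat_lit 0, nat_lit 2, nat_lit 0])))))
 (.node (nat_lit 2109) (.node (nat_lit 2107) (.leaf ((nat_lit 454), [nat_lit 3, nat_lit 2, nat_lit 3, nat_lit 5, nat_lit 1, nat_lit 4, nat_lit 3, nat_lit 0, nat_lit 2, nat_lit 0, nat_lit 2, nat_lit 2, nat_lit 0, nat_lit 1])) (.node (nat_lit 2108) (.leaf ((nat_lit 1332), [nat_lit 5, nat_lit 4, nat_lit 5, nat_lit 2, nat_lit 5, nat_lit 3, nat_lit 1, nat_lit 0, nat_lit 4, nat_lit 1, nat_lit 3, nat_lit 2])) (.leaf ((nat_lit 93), [nat_lit 5, nat_lit 2, nat_lit 0, nat_lit 5, nat_lit 3, nat_lit 4, nat_lit 2, nat_lit 4, nat_lit 1, nat_lit 0, nat_lit 2, nat_lit 2, nat_lit 0, nat_lit 1])))) (.node (nat_lit 2110) (.leaf ((nat_lit 1091), [nat_lit 3, nat_lit 4, nat_lit 5, nat_lit 2, nat_lit 5, nat_lit 3, nat_lit 2, nat_lit 4, nat_lit 3, nat_lit 2, nat_lit 3, nat_lit 2, nat_lit 2, nat_lit 0, nat_lit 2])) (.node (nat_lit 2111) (.leaf ((nat_lit 1179),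 [nat_lit 0, nat_lit 5, nat_lit 2, nat_lit 5, nat_lit 4, nat_lit 3, nat_lit 0, nat_lit 4, nat_lit 1, nat_lit 0, nat_lit 3, nat_lit 2, nat_lit 2, nat_lit 0, nat_lit 1, nat_lit 0, nat_lit 2, nat_lit 2, nat_lit 0])) (.leaf ((nat_lit 1209), [nat_lit 4, nat_lit 1, nat_lit 0, nat_lit 5, nat_lit 1, nat_lit 3, nat_lit 4, nat_lit 2, nat_lit 2, nat_lit 0, nat_lit 2, nat_lit 0, nat_lit 1]))))))))))
noncomputable def bWd_12 : Tr (ℕ × List ℕ) := (.node (nat_lit 2200) (.node (nat_lit 2156) (.node (nat_lit 2134) (.node (nat_lit 2123) (.node (nat_lit 2117) (.node (nat_lit 2114) (.node (nat_lit 2113) (.leaf ((nat_lit 36), [nat_lit 5, nat_lit 0, nat_lit 4, nat_lit 5, nat_lit 3, nat_lit 1, nat_lit 0, nat_lit 4, nat_lit 0, nat_lit 1, nat_lit 0, nat_lit 1, nat_lit 0, nat_lit 2])) (.leaf ((nat_lit 1333), [nat_lit 4, nat_lit 3, nat_lit 5, nat_lit 0, nat_lit 5, nat_lit 3, nat_lit 4, nat_lit 1, nat_lit 3, nat_lit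 0, nat_lit 2]))) (.node (nat_lit 2115) (.leaf ((nat_lit 1172), [nat_lit 5, nat_lit 2, nat_lit 4, nat_lit 0, nat_lit 5, nat_lit 2, nat_lit 4, nat_lit 2, nat_lit 3, nat_lit 2, nat_lit 0, nat_lit 1, nat_lit 0, nat_lit 2, nat_lit 0, nat_lit 2, nat_lit 0])) (.node (nat_lit 2116) (.leaf ((nat_lit 1058), [nat_lit 3, nat_lit 0, nat_lit 5, nat_lit 4, nat_lit 1, nat_lit 0, nat_lit 3, nat_lit 2, nat_lit 3, nat_lit 1, nat_lit 0, nat_lit 2, nat_lit 2, nat_lit 0, nat_lit 2, nat_lit 2, nat_lit 0])) (.leaf ((nat_lit 57), [nat_lit 0, nat_lit 2, nat_lit 4, nat_lit 0, nat_lit 5, nat_lit 0, nat_lit 2, nat_lit 3, nat_lit 2, nat_lit 3, nat_lit 2, nat_lit 2, nat_lit 0, nat_lit 1])))))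
 (.node (nat_lit 2120) (.node (nat_lit 2118) (.leaf ((nat_lit 1334), [nat_lit 3, nat_lit 2, nat_lit 3, nat_lit 5, nat_lit 4, nat_lit 1, nat_lit 4, nat_lit 2, nat_lit 4, nat_lit 3, nat_lit 2, nat_lit 0, nat_lit 2, nat_lit 2, nat_lit 0, nat_lit 1])) (.node (nat_lit 2119) (.leaf ((nat_lit 1312), [nat_lit 0, nat_lit 2, nat_lit 5, nat_lit 3, nat_lit 5, nat_lit 0, nat_lit 2, nat_lit 2, nat_lit 3, nat_lit 2, nat_lit 4, nat_lit 0, nat_lit 2, nat_lit 0, nat_lit 1])) (.leaf ((nat_lit 1259), [nat_lit 5, nat_lit 0, nat_lit 4, nat_lit 5, nat_lit 4, nat_lit 3, nat_lit 2, nat_lit 4, nat_lit 3, nat_lit 2])))) (.node (nat_lit 2121) (.leaf ((nat_lit 487), [nat_lit 5, nat_lit 1, nat_lit 0, nat_lit 2, nat_lit 5, nat_lit 2, nat_lit 4, nat_lit 0, nat_lit 4, nat_lit 1, nat_lit 0, nat_lit 2, nat_lit 2, nat_lit 0, nat_lit 2, nat_lit 0])) (.node (nat_lit 2122) (.leaf ((nat_lit 1035), [nat_lit 1, nat_lit 0, nat_lit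 5, nat_lit 3, nat_lit 5, nat_lit 2, nat_lit 2, nat_lit 4, nat_lit 3, nat_lit 2, nat_lit 3, nat_lit 0, nat_lit 1, nat_lit 0, nat_lit 2, nat_lit 2, nat_lit 0])) (.leaf ((nat_lit 1145), [nat_lit 2, nat_lit 0, nat_lit 2, nat_lit 5, nat_lit 1, nat_lit 4, nat_lit 1, nat_lit 4, nat_lit 2, nat_lit 0, nat_lit 2, nat_lit 2, nat_lit 0]))))))
 (.node (nat_lit 2128) (.node (nat_lit 2125) (.node (nat_lit 2124) (.leaf ((nat_lit 1219), [nat_lit 0, nat_lit 5, nat_lit 2, nat_lit 0, nat_lit 5, nat_lit 3, nat_lit 4, nat_lit 1, nat_lit 0, nat_lit 3, nat_lit 0, nat_lit 2, nat_lit 0, nat_lit 2, nat_lit 2, nat_lit 0, nat_lit 2, nat_lit 0])) (.leaf ((nat_lit 174), [nat_lit 3, nat_lit 2, nat_lit 5, nat_lit 0, nat_lit 5, nat_lit 0, nat_lit 1, nat_lit 4, nat_lit 1, nat_lit 0, nat_lit 3, nat_lit 1, nat_lit 0, nat_lit 1, nat_lit 0]))) (.node (nat_lit 2126) (.leaf ((nat_lit 1253), [nat_lit 5, nat_lit 3, nat_lit 5,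 nat_lit 2, nat_lit 2, nat_lit 0, nat_lit 3, nat_lit 4, nat_lit 0, nat_lit 1, nat_lit 0, nat_lit 2, nat_lit 0, nat_lit 2, nat_lit 2, nat_lit 0])) (.node (nat_lit 2127) (.leaf ((nat_lit 1006), [nat_lit 3, nat_lit 5, nat_lit 2, nat_lit 3, nat_lit 0, nat_lit 5, nat_lit 3, nat_lit 1, nat_lit 3, nat_lit 4, nat_lit 1])) (.leaf ((nat_lit 979), [nat_lit 5, nat_lit 0, nat_lit 5, nat_lit 2, nat_lit 3, nat_lit 0, nat_lit 4, nat_lit 2, nat_lit 2, nat_lit 0, nat_lit 2, nat_lit 2, nat_lit 0, nat_lit 2, nat_lit 0])))))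
 (.node (nat_lit 2131) (.node (nat_lit 2129) (.leaf ((nat_lit 337), [nat_lit 4, nat_lit 3, nat_lit 0, nat_lit 5, nat_lit 0, nat_lit 2, nat_lit 4, nat_lit 3, nat_lit 2, nat_lit 2, nat_lit 0, nat_lit 1, nat_lit 0, nat_lit 2, nat_lit 2])) (.node (nat_lit 2130) (.leaf ((nat_lit 1002), [nat_lit 0, nat_lit 3, nat_lit 5, nat_lit 0, nat_lit 1, nat_lit 0, nat_lit 4, nat_lit 0, nat_lit 2, nat_lit 2, nat_lit 0, nat_lit 1])) (.leaf ((nat_lit 1335), [nat_lit 4, nat_lit 5, nat_lit 2, nat_lit 5, nat_lit 1, nat_lit 0, nat_lit 3, nat_lit 4, nat_lit 0, nat_lit 2, nat_lit 0, nat_lit 2, nat_lit 0])))) (.node (nat_lit 2132) (.leaf ((nat_lit 440), [nat_lit 0, nat_lit 4, nat_lit 2, nat_lit 0, nat_lit 5, nat_lit 1, nat_lit 3, nat_lit 4, nat_lit 3, nat_lit 0, nat_lit 3, nat_lit 2, nat_lit 2, nat_lit 0, nat_lit 1, nat_lit 0, nat_lit 2, nat_lit 2])) (.node (nat_lit 2133) (.leaf ((nat_lit 20), [nat_lit 1, nat_lit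 5, nat_lit 3, nat_lit 4, nat_lit 3, nat_lit 2, nat_lit 4, nat_lit 2, nat_lit 2, nat_lit 0, nat_lit 1, nat_lit 0, nat_lit 2, nat_lit 2])) (.leaf ((nat_lit 872), [nat_lit 5, nat_lit 4, nat_lit 5, nat_lit 2, nat_lit 4, nat_lit 3, nat_lit 2, nat_lit 2, nat_lit 3, nat_lit 1, nat_lit 0, nat_lit 2, nat_lit 2])))))))
 (.node (nat_lit 2145) (.node (nat_lit 2139) (.node (nat_lit 2136) (.node (nat_lit 2135) (.leaf ((nat_lit 1336), [nat_lit 3, nat_lit 2, nat_lit 0, nat_lit 5, nat_lit 4, nat_lit 1, nat_lit 0, nat_lit 2, nat_lit 4, nat_lit 1, nat_lit 0, nat_lit 1, nat_lit 0])) (.leaf ((nat_lit 449), [nat_lit 3, nat_lit 2, nat_lit 0, nat_lit 5, nat_lit 2, nat_lit 4, nat_lit 2, nat_lit 3, nat_lit 0, nat_lit 3, nat_lit 0, nat_lit 2, nat_lit 2, nat_lit 0, nat_lit 1, nat_lit 0, nat_lit 2, nat_lit 0]))) (.node (nat_lit 2137) (.leaf ((nat_lit 1067), [nat_lit 4, nat_lit 3, nat_lit 5, nat_lit 0, nat_lit 5,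 nat_lit 3, nat_lit 2, nat_lit 3, nat_lit 2, nat_lit 0, nat_lit 4, nat_lit 0, nat_lit 2, nat_lit 0, nat_lit 2, nat_lit 0])) (.node (nat_lit 2138) (.leaf ((nat_lit 1337), [nat_lit 5, nat_lit 2, nat_lit 4, nat_lit 0, nat_lit 5, nat_lit 3, nat_lit 0, nat_lit 1, nat_lit 3, nat_lit 0, nat_lit 3, nat_lit 2, nat_lit 2, nat_lit 0, nat_lit 2, nat_lit 2, nat_lit 0, nat_lit 2, nat_lit 0])) (.leaf ((nat_lit 1287), [nat_lit 0, nat_lit 3, nat_lit 5, nat_lit 2, nat_lit 0, nat_lit 3, nat_lit 0, nat_lit 4, nat_lit 2, nat_lit 0, nat_lit 1, nat_lit 0, nat_lit 2, nat_lit 0])))))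
 (.node (nat_lit 2142) (.node (nat_lit 2140) (.leaf ((nat_lit 743), [nat_lit 5, nat_lit 1, nat_lit 3, nat_lit 2, nat_lit 5, nat_lit 3, nat_lit 4, nat_lit 0, nat_lit 3, nat_lit 4, nat_lit 0, nat_lit 2, nat_lit 0, nat_lit 2, nat_lit 2])) (.node (nat_lit 2141) (.leaf ((nat_lit 108), [nat_lit 2, nat_lit 0, nat_lit 2, nat_lit 5, nat_lit 1, nat_lit 4, nat_lit 2, nat_lit 3, nat_lit 1, nat_lit 3, nat_lit 0, nat_lit 2, nat_lit 0, nat_lit 1, nat_lit 0, nat_lit 1, nat_lit 0])) (.leaf ((nat_lit 1305), [nat_lit 4, nat_lit 1, nat_lit 5, nat_lit 2, nat_lit 5, nat_lit 0, nat_lit 2, nat_lit 0, nat_lit 3, nat_lit 4, nat_lit 0, nat_lit 2])))) (.node (nat_lit 2143) (.leaf ((nat_lit 856), [nat_lit 2, nat_lit 0, nat_lit 5, nat_lit 4, nat_lit 3, nat_lit 2, nat_lit 4, nat_lit 3, nat_lit 1, nat_lit 0, nat_lit 1, nat_lit 0, nat_lit 2, nat_lit 2])) (.node (nat_lit 2144) (.leaf ((nat_lit 1063), [nat_lit 1, nat_lit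 5, nat_lit 1, nat_lit 5, nat_lit 4, nat_lit 3, nat_lit 1, nat_lit 3, nat_lit 0, nat_lit 2, nat_lit 2, nat_lit 0, nat_lit 1, nat_lit 0, nat_lit 2])) (.leaf ((nat_lit 852), [nat_lit 2, nat_lit 4, nat_lit 2, nat_lit 0, nat_lit 5, nat_lit 4, nat_lit 1, nat_lit 3, nat_lit 2, nat_lit 4, nat_lit 2, nat_lit 0, nat_lit 2, nat_lit 2, nat_lit 0, nat_lit 2]))))))
 (.node (nat_lit 2150) (.node (nat_lit 2147) (.node (nat_lit 2146) (.leaf ((nat_lit 1205), [nat_lit 2, nat_lit 0, nat_lit 5, nat_lit 4, nat_lit 0, nat_lit 4, nat_lit 2, nat_lit 0, nat_lit 3, nat_lit 0, nat_lit 2, nat_lit 2, nat_lit 0])) (.leaf ((nat_lit 1182), [nat_lit 4, nat_lit 2, nat_lit 0, nat_lit 5, nat_lit 2, nat_lit 4, nat_lit 3, nat_lit 0, nat_lit 3, nat_lit 2]))) (.node (nat_lit 2148) (.leaf ((nat_lit 733), [nat_lit 2, nat_lit 5, nat_lit 2, nat_lit 3, nat_lit 5, nat_lit 3, nat_lit 2, nat_lit 4, nat_lit 0, nat_lit 1, nat_lit 0, nat_lit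 2, nat_lit 2, nat_lit 0, nat_lit 1, nat_lit 0])) (.node (nat_lit 2149) (.leaf ((nat_lit 339), [nat_lit 3, nat_lit 4, nat_lit 3, nat_lit 5, nat_lit 2, nat_lit 3, nat_lit 4, nat_lit 3, nat_lit 0, nat_lit 3, nat_lit 2, nat_lit 2, nat_lit 0, nat_lit 1, nat_lit 0, nat_lit 2, nat_lit 0])) (.leaf ((nat_lit 29), [nat_lit 1, nat_lit 3, nat_lit 2, nat_lit 5, nat_lit 2, nat_lit 3, nat_lit 2, nat_lit 2, nat_lit 3, nat_lit 0, nat_lit 1, nat_lit 0, nat_lit 1, nat_lit 0, nat_lit 2])))))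
 (.node (nat_lit 2153) (.node (nat_lit 2151) (.leaf ((nat_lit 1251), [nat_lit 5, nat_lit 2, nat_lit 2, nat_lit 0, nat_lit 5, nat_lit 4, nat_lit 1, nat_lit 4, nat_lit 1, nat_lit 4, nat_lit 3, nat_lit 0, nat_lit 2, nat_lit 2, nat_lit 0, nat_lit 2, nat_lit 0, nat_lit 1, nat_lit 0])) (.node (nat_lit 2152) (.leaf ((nat_lit 981), [nat_lit 2, nat_lit 0, nat_lit 1, nat_lit 5, nat_lit 4, nat_lit 1, nat_lit 3, nat_lit 2, nat_lit 0, nat_lit 1, nat_lit 0, nat_lit 1, nat_lit 0])) (.leaf ((nat_lit 1131), [nat_lit 3, nat_lit 0, nat_lit 2, nat_lit 5, nat_lit 0, nat_lit 2, nat_lit 2, nat_lit 0, nat_lit 4])))) (.node (nat_lit 2154) (.leaf ((nat_lit 1338), [nat_lit 2, nat_lit 2, nat_lit 5, nat_lit 0, nat_lit 4, nat_lit 1, nat_lit 0, nat_lit 3, nat_lit 2, nat_lit 0, nat_lit 2])) (.node (nat_lit 2155) (.leaf ((nat_lit 1121), [nat_lit 3, nat_lit 0, nat_lit 5, nat_lit 3, nat_lit 5, nat_lit 0, nat_lit 4, nat_lit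 0, nat_lit 4, nat_lit 0, nat_lit 1, nat_lit 0])) (.leaf ((nat_lit 880), [nat_lit 3, nat_lit 5, nat_lit 0, nat_lit 3, nat_lit 4, nat_lit 2, nat_lit 0]))))))))
 (.node (nat_lit 2178) (.node (nat_lit 2167) (.node (nat_lit 2161) (.node (nat_lit 2158) (.node (nat_lit 2157) (.leaf ((nat_lit 1339), [nat_lit 4, nat_lit 3, nat_lit 2, nat_lit 5, nat_lit 0, nat_lit 2, nat_lit 4, nat_lit 3, nat_lit 2, nat_lit 0, nat_lit 2, nat_lit 2])) (.leaf ((nat_lit 1095), [nat_lit 3, nat_lit 1, nat_lit 5, nat_lit 0, nat_lit 5, nat_lit 4, nat_lit 3, nat_lit 0, nat_lit 2, nat_lit 3, nat_lit 2, nat_lit 2, nat_lit 0, nat_lit 2, nat_lit 2, nat_lit 0, nat_lit 2]))) (.node (nat_lit 2159) (.leaf ((nat_lit 753), [nat_lit 2, nat_lit 3, nat_lit 5, nat_lit 0, nat_lit 5, nat_lit 4, nat_lit 3, nat_lit 2, nat_lit 0, nat_lit 2, nat_lit 3, nat_lit 0, nat_lit 2, nat_lit 2, nat_lit 0, nat_lit 2, nat_lit 2, nat_lit 0])) (.node (nat_lit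 2160) (.leaf ((nat_lit 1080), [nat_lit 0, nat_lit 5, nat_lit 2, nat_lit 0, nat_lit 5, nat_lit 3, nat_lit 0, nat_lit 4, nat_lit 1, nat_lit 3, nat_lit 2, nat_lit 0, nat_lit 1, nat_lit 0, nat_lit 2, nat_lit 0])) (.leaf ((nat_lit 1221), [nat_lit 2, nat_lit 5, nat_lit 3, nat_lit 5, nat_lit 4, nat_lit 3, nat_lit 0, nat_lit 3, nat_lit 1, nat_lit 0, nat_lit 2, nat_lit 0, nat_lit 2, nat_lit 2, nat_lit 0])))))
 (.node (nat_lit 2164) (.node (nat_lit 2162) (.leaf ((nat_lit 1069), [nat_lit 3, nat_lit 5, nat_lit 2, nat_lit 3, nat_lit 0, nat_lit 1, nat_lit 0, nat_lit 3, nat_lit 0, nat_lit 1, nat_lit 0])) (.node (nat_lit 2163) (.leaf ((nat_lit 1340), [nat_lit 5, nat_lit 3, nat_lit 2, nat_lit 5, nat_lit 3, nat_lit 0, nat_lit 3, nat_lit 1, nat_lit 4, nat_lit 2, nat_lit 0, nat_lit 1, nat_lit 0, nat_lit 1, nat_lit 0])) (.leaf ((nat_lit 555), [nat_lit 5, nat_lit 2, nat_lit 3, nat_lit 0, nat_lit 5, nat_lit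 4, nat_lit 0, nat_lit 2, nat_lit 4, nat_lit 0, nat_lit 2, nat_lit 0, nat_lit 2, nat_lit 2])))) (.node (nat_lit 2165) (.leaf ((nat_lit 1078), [nat_lit 0, nat_lit 2, nat_lit 4, nat_lit 0, nat_lit 5, nat_lit 0, nat_lit 1, nat_lit 4, nat_lit 1, nat_lit 0, nat_lit 3, nat_lit 0, nat_lit 2, nat_lit 0, nat_lit 2, nat_lit 2, nat_lit 0, nat_lit 2])) (.node (nat_lit 2166) (.leaf ((nat_lit 1278), [nat_lit 5, nat_lit 0, nat_lit 5, nat_lit 2, nat_lit 3, nat_lit 4, nat_lit 0, nat_lit 2, nat_lit 4, nat_lit 2, nat_lit 2, nat_lit 0, nat_lit 2, nat_lit 2, nat_lit 0, nat_lit 2, nat_lit 0])) (.leaf ((nat_lit 401), [nat_lit 4, nat_lit 5, nat_lit 2, nat_lit 5, nat_lit 2, nat_lit 0, nat_lit 3, nat_lit 1, nat_lit 4, nat_lit 1, nat_lit 0, nat_lit 2, nat_lit 0, nat_lit 2, nat_lit 2]))))))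
 (.node (nat_lit 2172) (.node (nat_lit 2169) (.node (nat_lit 2168) (.leaf ((nat_lit 863), [nat_lit 0, nat_lit 2, nat_lit 5, nat_lit 3, nat_lit 4, nat_lit 0, nat_lit 4, nat_lit 3, nat_lit 2, nat_lit 2, nat_lit 0, nat_lit 1, nat_lit 0, nat_lit 2, nat_lit 0])) (.leaf ((nat_lit 1341), [nat_lit 2, nat_lit 2, nat_lit 5, nat_lit 2, nat_lit 4, nat_lit 0, nat_lit 3, nat_lit 4, nat_lit 2, nat_lit 0, nat_lit 2, nat_lit 2, nat_lit 0, nat_lit 2, nat_lit 2, nat_lit 0]))) (.node (nat_lit 2170) (.leaf ((nat_lit 601), [nat_lit 0, nat_lit 5, nat_lit 2, nat_lit 5, nat_lit 2, nat_lit 4, nat_lit 2, nat_lit 3, nat_lit 4, nat_lit 0, nat_lit 2, nat_lit 2, nat_lit 0, nat_lit 2, nat_lit 2, nat_lit 0])) (.node (nat_lit 2171) (.leaf ((nat_lit 1342), [nat_lit 5, nat_lit 4, nat_lit 5, nat_lit 4, nat_lit 1, nat_lit 0, nat_lit 2, nat_lit 4, nat_lit 2, nat_lit 2, nat_lit 0, nat_lit 2, nat_lit 0, nat_lit 1, nat_lit 0]))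 (.leaf ((nat_lit 936), [nat_lit 1, nat_lit 5, nat_lit 1, nat_lit 5, nat_lit 2, nat_lit 2, nat_lit 3, nat_lit 2, nat_lit 4, nat_lit 1, nat_lit 0, nat_lit 2, nat_lit 0, nat_lit 2])))))
 (.node (nat_lit 2175) (.node (nat_lit 2173) (.leaf ((nat_lit 146), [nat_lit 0, nat_lit 3, nat_lit 5, nat_lit 0, nat_lit 4, nat_lit 0, nat_lit 2, nat_lit 0])) (.node (nat_lit 2174) (.leaf ((nat_lit 766), [nat_lit 4, nat_lit 1, nat_lit 5, nat_lit 0, nat_lit 5, nat_lit 2, nat_lit 3, nat_lit 4, nat_lit 1, nat_lit 3, nat_lit 2, nat_lit 0, nat_lit 2, nat_lit 2, nat_lit 0, nat_lit 1, nat_lit 0])) (.leaf ((nat_lit 1343), [nat_lit 5, nat_lit 4, nat_lit 1, nat_lit 0, nat_lit 5, nat_lit 0, nat_lit 2, nat_lit 3, nat_lit 2, nat_lit 0, nat_lit 2, nat_lit 2])))) (.node (nat_lit 2176) (.leaf ((nat_lit 1344), [nat_lit 1, nat_lit 3, nat_lit 0, nat_lit 5, nat_lit 2, nat_lit 2, nat_lit 0, nat_lit 3, nat_lit 0, nat_lit 4, nat_lit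 0, nat_lit 1, nat_lit 0, nat_lit 1, nat_lit 0, nat_lit 2, nat_lit 0])) (.node (nat_lit 2177) (.leaf ((nat_lit 343), [nat_lit 4, nat_lit 5, nat_lit 3, nat_lit 2, nat_lit 5, nat_lit 4, nat_lit 3, nat_lit 2, nat_lit 3, nat_lit 0, nat_lit 3, nat_lit 2, nat_lit 0, nat_lit 2, nat_lit 0, nat_lit 1, nat_lit 0])) (.leaf ((nat_lit 314), [nat_lit 5, nat_lit 4, nat_lit 3, nat_lit 2, nat_lit 5, nat_lit 0, nat_lit 4, nat_lit 1, nat_lit 3, nat_lit 0, nat_lit 2, nat_lit 0, nat_lit 2, nat_lit 2, nat_lit 0])))))))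
 (.node (nat_lit 2189) (.node (nat_lit 2183) (.node (nat_lit 2180) (.node (nat_lit 2179) (.leaf ((nat_lit 1150), [nat_lit 1, nat_lit 4, nat_lit 2, nat_lit 5, nat_lit 3, nat_lit 0, nat_lit 3, nat_lit 2, nat_lit 3, nat_lit 2, nat_lit 0, nat_lit 1])) (.leaf ((nat_lit 1345), [nat_lit 0, nat_lit 5, nat_lit 2, nat_lit 3, nat_lit 5, nat_lit 2, nat_lit 0, nat_lit 4, nat_lit 1, nat_lit 4, nat_lit 2, nat_lit 0, nat_lit 1, nat_lit 0, nat_lit 2, nat_lit 2, nat_lit 0]))) (.node (nat_lit 2181) (.leaf ((nat_lit 1346), [nat_lit 5, nat_lit 2, nat_lit 3, nat_lit 5, nat_lit 2, nat_lit 4, nat_lit 2, nat_lit 0, nat_lit 1, nat_lit 0, nat_lit 2, nat_lit 0, nat_lit 2])) (.node (nat_lit 2182) (.leaf ((nat_lit 1347), [nat_lit 3, nat_lit 4, nat_lit 5, nat_lit 1, nat_lit 4, nat_lit 2, nat_lit 4, nat_lit 3, nat_lit 2, nat_lit 0, nat_lit 2, nat_lit 2, nat_lit 0, nat_lit 2, nat_lit 2])) (.leaf ((nat_lit 403), [nat_lit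 3, nat_lit 2, nat_lit 0, nat_lit 5, nat_lit 3, nat_lit 2, nat_lit 4, nat_lit 0, nat_lit 2, nat_lit 0, nat_lit 1, nat_lit 0, nat_lit 1, nat_lit 0])))))
 (.node (nat_lit 2186) (.node (nat_lit 2184) (.leaf ((nat_lit 414), [nat_lit 3, nat_lit 5, nat_lit 0, nat_lit 5, nat_lit 0, nat_lit 2, nat_lit 3, nat_lit 2, nat_lit 3, nat_lit 2, nat_lit 0, nat_lit 2, nat_lit 0, nat_lit 1, nat_lit 0])) (.node (nat_lit 2185) (.leaf ((nat_lit 802), [nat_lit 1, nat_lit 0, nat_lit 3, nat_lit 5, nat_lit 4, nat_lit 2, nat_lit 0, nat_lit 1, nat_lit 0, nat_lit 3, nat_lit 1, nat_lit 0, nat_lit 2, nat_lit 0])) (.leaf ((nat_lit 662), [nat_lit 4, nat_lit 5, nat_lit 3, nat_lit 2, nat_lit 5, nat_lit 1, nat_lit 0, nat_lit 3, nat_lit 2, nat_lit 3, nat_lit 0, nat_lit 1, nat_lit 0, nat_lit 2, nat_lit 2, nat_lit 0])))) (.node (nat_lit 2187) (.leaf ((nat_lit 1178), [nat_lit 5, nat_lit 2, nat_lit 3, nat_lit 0, nat_lit 5, nat_lit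 4, nat_lit 1, nat_lit 3, nat_lit 4, nat_lit 0, nat_lit 2, nat_lit 0, nat_lit 1, nat_lit 0])) (.node (nat_lit 2188) (.leaf ((nat_lit 1061), [nat_lit 5, nat_lit 2, nat_lit 0, nat_lit 2, nat_lit 5, nat_lit 4, nat_lit 3, nat_lit 2, nat_lit 2, nat_lit 3, nat_lit 2, nat_lit 0, nat_lit 1, nat_lit 0, nat_lit 2, nat_lit 0])) (.leaf ((nat_lit 1348), [nat_lit 0, nat_lit 1, nat_lit 5, nat_lit 3, nat_lit 0, nat_lit 1, nat_lit 3, nat_lit 4, nat_lit 2, nat_lit 3, nat_lit 2, nat_lit 2, nat_lit 0, nat_lit 2, nat_lit 2, nat_lit 0, nat_lit 2, nat_lit 2]))))))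
 (.node (nat_lit 2194) (.node (nat_lit 2191) (.node (nat_lit 2190) (.leaf ((nat_lit 428), [nat_lit 1, nat_lit 5, nat_lit 3, nat_lit 5, nat_lit 3, nat_lit 1, nat_lit 3, nat_lit 1, nat_lit 3, nat_lit 2, nat_lit 2, nat_lit 0])) (.leaf ((nat_lit 1210), [nat_lit 4, nat_lit 3, nat_lit 2, nat_lit 5, nat_lit 3, nat_lit 1, nat_lit 0, nat_lit 3, nat_lit 1, nat_lit 3, nat_lit 1, nat_lit 0, nat_lit 2, nat_lit 0, nat_lit 1, nat_lit 0]))) (.node (nat_lit 2192) (.leaf ((nat_lit 1198), [nat_lit 3, nat_lit 2, nat_lit 5, nat_lit 2, nat_lit 3, nat_lit 2, nat_lit 0, nat_lit 3, nat_lit 0, nat_lit 1, nat_lit 0, nat_lit 2, nat_lit 2, nat_lit 0, nat_lit 2, nat_lit 0])) (.node (nat_lit 2193) (.leaf ((nat_lit 128), [nat_lit 1, nat_lit 0, nat_lit 5, nat_lit 3, nat_lit 0, nat_lit 4, nat_lit 0, nat_lit 2, nat_lit 0])) (.leaf ((nat_lit 934), [nat_lit 5, nat_lit 1, nat_lit 5, nat_lit 0, nat_lit 5, nat_lit 4, nat_lit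 2, nat_lit 2, nat_lit 4, nat_lit 1, nat_lit 0, nat_lit 3, nat_lit 2, nat_lit 2, nat_lit 0, nat_lit 2, nat_lit 2, nat_lit 0])))))
 (.node (nat_lit 2197) (.node (nat_lit 2195) (.leaf ((nat_lit 197), [nat_lit 3, nat_lit 2, nat_lit 3, nat_lit 5, nat_lit 3, nat_lit 4, nat_lit 3, nat_lit 2, nat_lit 3, nat_lit 0, nat_lit 1, nat_lit 0, nat_lit 1, nat_lit 0, nat_lit 2, nat_lit 0])) (.node (nat_lit 2196) (.leaf ((nat_lit 1045), [nat_lit 3, nat_lit 5, nat_lit 0, nat_lit 5, nat_lit 3, nat_lit 4, nat_lit 2, nat_lit 3, nat_lit 1, nat_lit 0, nat_lit 2, nat_lit 2])) (.leaf ((nat_lit 1349), [nat_lit 3, nat_lit 5, nat_lit 2, nat_lit 3, nat_lit 0, nat_lit 5, nat_lit 0, nat_lit 4, nat_lit 2, nat_lit 3, nat_lit 4, nat_lit 1, nat_lit 0, nat_lit 1, nat_lit 0, nat_lit 2, nat_lit 0, nat_lit 2, nat_lit 0])))) (.node (nat_lit 2198) (.leaf ((nat_lit 830), [nat_lit 5, nat_lit 2, nat_lit 3, nat_lit 5, nat_lit 4, nat_lit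 2, nat_lit 3, nat_lit 4, nat_lit 2, nat_lit 3, nat_lit 1, nat_lit 0, nat_lit 1])) (.node (nat_lit 2199) (.leaf ((nat_lit 1301), [nat_lit 5, nat_lit 2, nat_lit 4, nat_lit 0, nat_lit 5, nat_lit 3, nat_lit 1, nat_lit 4, nat_lit 0, nat_lit 4, nat_lit 1, nat_lit 0, nat_lit 2, nat_lit 2, nat_lit 0, nat_lit 2, nat_lit 0])) (.leaf ((nat_lit 1336), [nat_lit 2, nat_lit 4, nat_lit 0, nat_lit 5, nat_lit 3, nat_lit 4, nat_lit 1, nat_lit 4, nat_lit 3, nat_lit 0, nat_lit 2, nat_lit 0, nat_lit 2])))))))))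
 (.node (nat_lit 2244) (.node (nat_lit 2222) (.node (nat_lit 2211) (.node (nat_lit 2205) (.node (nat_lit 2202) (.node (nat_lit 2201) (.leaf ((nat_lit 1350), [nat_lit 0, nat_lit 2, nat_lit 5, nat_lit 3, nat_lit 5, nat_lit 3, nat_lit 1, nat_lit 3, nat_lit 0, nat_lit 4, nat_lit 0, nat_lit 2, nat_lit 2, nat_lit 0, nat_lit 1])) (.leaf ((nat_lit 696), [nat_lit 2, nat_lit 5, nat_lit 1, nat_lit 5, nat_lit 4, nat_lit 2, nat_lit 3, nat_lit 0, nat_lit 4, nat_lit 1, nat_lit 0, nat_lit 2, nat_lit 2]))) (.node (nat_lit 2203) (.leaf ((nat_lit 1204), [nat_lit 4, nat_lit 5, nat_lit 2, nat_lit 3, nat_lit 2, nat_lit 3, nat_lit 1, nat_lit 0, nat_lit 2, nat_lit 2, nat_lit 0])) (.node (nat_lit 2204) (.leaf ((nat_lit 783), [nat_lit 3, nat_lit 2, nat_lit 3, nat_lit 5, nat_lit 3, nat_lit 2, nat_lit 3, nat_lit 4, nat_lit 1, nat_lit 3, nat_lit 2, nat_lit 2, nat_lit 0, nat_lit 2, nat_lit 2, nat_lit 0, nat_lit 2,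 nat_lit 0])) (.leaf ((nat_lit 1096), [nat_lit 1, nat_lit 5, nat_lit 3, nat_lit 2, nat_lit 4, nat_lit 2, nat_lit 4, nat_lit 0, nat_lit 2, nat_lit 2, nat_lit 0, nat_lit 2, nat_lit 0])))))
 (.node (nat_lit 2208) (.node (nat_lit 2206) (.leaf ((nat_lit 1351), [nat_lit 4, nat_lit 3, nat_lit 2, nat_lit 5, nat_lit 3, nat_lit 2, nat_lit 4, nat_lit 3, nat_lit 0, nat_lit 1, nat_lit 0, nat_lit 2, nat_lit 0, nat_lit 2])) (.node (nat_lit 2207) (.leaf ((nat_lit 1166), [nat_lit 5, nat_lit 4, nat_lit 1, nat_lit 0, nat_lit 5, nat_lit 4, nat_lit 1, nat_lit 4, nat_lit 3, nat_lit 0, nat_lit 2, nat_lit 2, nat_lit 0, nat_lit 2, nat_lit 0, nat_lit 1, nat_lit 0])) (.leaf ((nat_lit 1352), [nat_lit 1, nat_lit 0, nat_lit 5, nat_lit 3, nat_lit 5, nat_lit 3, nat_lit 2, nat_lit 3, nat_lit 2, nat_lit 0, nat_lit 4, nat_lit 2, nat_lit 0, nat_lit 2, nat_lit 2, nat_lit 0, nat_lit 1])))) (.node (nat_lit 2209) (.leaf ((nat_lit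 1353), [nat_lit 5, nat_lit 1, nat_lit 0, nat_lit 3, nat_lit 5, nat_lit 0, nat_lit 2, nat_lit 4, nat_lit 2, nat_lit 4, nat_lit 1, nat_lit 0, nat_lit 2, nat_lit 2, nat_lit 0, nat_lit 1, nat_lit 0])) (.node (nat_lit 2210) (.leaf ((nat_lit 1220), [nat_lit 5, nat_lit 0, nat_lit 3, nat_lit 5, nat_lit 0, nat_lit 2, nat_lit 3, nat_lit 1, nat_lit 3, nat_lit 1, nat_lit 0, nat_lit 2, nat_lit 2, nat_lit 0])) (.leaf ((nat_lit 1230), [nat_lit 4, nat_lit 1, nat_lit 0, nat_lit 5, nat_lit 4, nat_lit 2, nat_lit 4, nat_lit 1, nat_lit 0, nat_lit 2, nat_lit 0, nat_lit 2]))))))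
 (.node (nat_lit 2216) (.node (nat_lit 2213) (.node (nat_lit 2212) (.leaf ((nat_lit 453), [nat_lit 4, nat_lit 2, nat_lit 5, nat_lit 1, nat_lit 5, nat_lit 4, nat_lit 0, nat_lit 2, nat_lit 3, nat_lit 2, nat_lit 0, nat_lit 3, nat_lit 2, nat_lit 0, nat_lit 2, nat_lit 0, nat_lit 1, nat_lit 0])) (.leaf ((nat_lit 1354), [nat_lit 0, nat_lit 5, nat_lit 3, nat_lit 0, nat_lit 5, nat_lit 0, nat_lit 2, nat_lit 3, nat_lit 2, nat_lit 3, nat_lit 2, nat_lit 0, nat_lit 2, nat_lit 2]))) (.node (nat_lit 2214) (.leaf ((nat_lit 1308), [nat_lit 2, nat_lit 2, nat_lit 5, nat_lit 1, nat_lit 5, nat_lit 0, nat_lit 3, nat_lit 4, nat_lit 0, nat_lit 3, nat_lit 2, nat_lit 2, nat_lit 0, nat_lit 1, nat_lit 0, nat_lit 2, nat_lit 2])) (.node (nat_lit 2215) (.leaf ((nat_lit 642), [nat_lit 1, nat_lit 3, nat_lit 2, nat_lit 5, nat_lit 1, nat_lit 3, nat_lit 2, nat_lit 4, nat_lit 3, nat_lit 2, nat_lit 2, nat_lit 0, nat_lit 2,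 nat_lit 0])) (.leaf ((nat_lit 1355), [nat_lit 2, nat_lit 5, nat_lit 1, nat_lit 5, nat_lit 3, nat_lit 1, nat_lit 3, nat_lit 1, nat_lit 4, nat_lit 2, nat_lit 0, nat_lit 1, nat_lit 0, nat_lit 2, nat_lit 0, nat_lit 2, nat_lit 0])))))
 (.node (nat_lit 2219) (.node (nat_lit 2217) (.leaf ((nat_lit 1356), [nat_lit 5, nat_lit 4, nat_lit 2, nat_lit 5, nat_lit 0, nat_lit 1, nat_lit 0, nat_lit 1, nat_lit 0, nat_lit 3, nat_lit 2, nat_lit 0, nat_lit 2, nat_lit 2, nat_lit 0, nat_lit 1])) (.node (nat_lit 2218) (.leaf ((nat_lit 1314), [nat_lit 5, nat_lit 4, nat_lit 0, nat_lit 5, nat_lit 2, nat_lit 4, nat_lit 0, nat_lit 3, nat_lit 4, nat_lit 1, nat_lit 0, nat_lit 1, nat_lit 0, nat_lit 2])) (.leaf ((nat_lit 526), [nat_lit 4, nat_lit 3, nat_lit 2, nat_lit 5, nat_lit 3, nat_lit 0, nat_lit 4, nat_lit 1, nat_lit 4, nat_lit 0, nat_lit 1, nat_lit 0, nat_lit 2, nat_lit 2, nat_lit 0, nat_lit 2])))) (.node (nat_lit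 2220) (.leaf ((nat_lit 1346), [nat_lit 4, nat_lit 1, nat_lit 5, nat_lit 0, nat_lit 5, nat_lit 1, nat_lit 3, nat_lit 2, nat_lit 4, nat_lit 2, nat_lit 2, nat_lit 0, nat_lit 2])) (.node (nat_lit 2221) (.leaf ((nat_lit 1015), [nat_lit 5, nat_lit 2, nat_lit 4, nat_lit 0, nat_lit 5, nat_lit 3, nat_lit 4, nat_lit 2, nat_lit 0, nat_lit 2, nat_lit 0, nat_lit 1, nat_lit 0])) (.leaf ((nat_lit 1171), [nat_lit 4, nat_lit 5, nat_lit 2, nat_lit 3, nat_lit 2, nat_lit 0, nat_lit 3, nat_lit 2, nat_lit 0, nat_lit 2, nat_lit 2, nat_lit 0])))))))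
 (.node (nat_lit 2233) (.node (nat_lit 2227) (.node (nat_lit 2224) (.node (nat_lit 2223) (.leaf ((nat_lit 214), [nat_lit 0, nat_lit 5, nat_lit 0, nat_lit 1, nat_lit 5, nat_lit 4, nat_lit 2, nat_lit 0, nat_lit 3, nat_lit 1, nat_lit 0, nat_lit 2, nat_lit 0])) (.leaf ((nat_lit 1053), [nat_lit 4, nat_lit 0, nat_lit 5, nat_lit 4, nat_lit 0, nat_lit 3, nat_lit 4, nat_lit 3, nat_lit 1, nat_lit 0, nat_lit 2, nat_lit 2, nat_lit 0, nat_lit 1]))) (.node (nat_lit 2225) (.leaf ((nat_lit 681), [nat_lit 4, nat_lit 5, nat_lit 4, nat_lit 0, nat_lit 5, nat_lit 3, nat_lit 2, nat_lit 4, nat_lit 2, nat_lit 4, nat_lit 2, nat_lit 2, nat_lit 0, nat_lit 2, nat_lit 0, nat_lit 1])) (.node (nat_lit 2226) (.leaf ((nat_lit 664), [nat_lit 0, nat_lit 5, nat_lit 2, nat_lit 0, nat_lit 5, nat_lit 4, nat_lit 3, nat_lit 1, nat_lit 0, nat_lit 2, nat_lit 3, nat_lit 0, nat_lit 2, nat_lit 2, nat_lit 0, nat_lit 1, nat_lit 0,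 nat_lit 2])) (.leaf ((nat_lit 1258), [nat_lit 3, nat_lit 1, nat_lit 5, nat_lit 0, nat_lit 5, nat_lit 3, nat_lit 1, nat_lit 0, nat_lit 4, nat_lit 1, nat_lit 0, nat_lit 2, nat_lit 2, nat_lit 0])))))
 (.node (nat_lit 2230) (.node (nat_lit 2228) (.leaf ((nat_lit 756), [nat_lit 0, nat_lit 5, nat_lit 2, nat_lit 3, nat_lit 5, nat_lit 0, nat_lit 2, nat_lit 2, nat_lit 3, nat_lit 2, nat_lit 4, nat_lit 2, nat_lit 0, nat_lit 1, nat_lit 0, nat_lit 2, nat_lit 2, nat_lit 0])) (.node (nat_lit 2229) (.leaf ((nat_lit 1357), [nat_lit 5, nat_lit 1, nat_lit 5, nat_lit 0, nat_lit 5, nat_lit 1, nat_lit 3, nat_lit 4, nat_lit 1, nat_lit 0, nat_lit 3, nat_lit 0, nat_lit 1, nat_lit 0, nat_lit 2, nat_lit 0])) (.leaf ((nat_lit 845), [nat_lit 1, nat_lit 5, nat_lit 2, nat_lit 5, nat_lit 2, nat_lit 4, nat_lit 2, nat_lit 3, nat_lit 2, nat_lit 3, nat_lit 0, nat_lit 2, nat_lit 2, nat_lit 0, nat_lit 2, nat_lit 0])))) (.node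 (nat_lit 2231) (.leaf ((nat_lit 772), [nat_lit 0, nat_lit 1, nat_lit 5, nat_lit 1, nat_lit 3, nat_lit 0, nat_lit 1, nat_lit 0, nat_lit 2, nat_lit 2, nat_lit 0, nat_lit 2])) (.node (nat_lit 2232) (.leaf ((nat_lit 649), [nat_lit 4, nat_lit 5, nat_lit 2, nat_lit 0, nat_lit 5, nat_lit 4, nat_lit 2, nat_lit 3, nat_lit 2, nat_lit 3, nat_lit 1, nat_lit 0, nat_lit 2, nat_lit 2, nat_lit 0])) (.leaf ((nat_lit 1039), [nat_lit 3, nat_lit 5, nat_lit 1, nat_lit 3, nat_lit 2, nat_lit 5, nat_lit 2, nat_lit 4, nat_lit 3, nat_lit 0, nat_lit 2, nat_lit 2, nat_lit 0, nat_lit 2, nat_lit 2]))))))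
 (.node (nat_lit 2238) (.node (nat_lit 2235) (.node (nat_lit 2234) (.leaf ((nat_lit 1340), [nat_lit 1, nat_lit 0, nat_lit 5, nat_lit 3, nat_lit 5, nat_lit 3, nat_lit 4, nat_lit 2, nat_lit 0, nat_lit 2, nat_lit 3, nat_lit 0, nat_lit 1, nat_lit 0, nat_lit 2, nat_lit 2, nat_lit 0, nat_lit 2, nat_lit 0])) (.leaf ((nat_lit 1022), [nat_lit 3, nat_lit 5, nat_lit 4, nat_lit 1, nat_lit 4, nat_lit 1, nat_lit 3, nat_lit 2, nat_lit 0, nat_lit 2, nat_lit 0, nat_lit 1, nat_lit 0, nat_lit 1, nat_lit 0]))) (.node (nat_lit 2236) (.leaf ((nat_lit 1115), [nat_lit 2, nat_lit 3, nat_lit 5, nat_lit 0, nat_lit 5, nat_lit 3, nat_lit 1, nat_lit 4, nat_lit 3, nat_lit 0, nat_lit 3, nat_lit 0, nat_lit 1, nat_lit 0])) (.node (nat_lit 2237) (.leaf ((nat_lit 533), [nat_lit 1, nat_lit 5, nat_lit 3, nat_lit 5, nat_lit 2, nat_lit 0, nat_lit 3, nat_lit 0, nat_lit 4, nat_lit 2, nat_lit 0, nat_lit 2, nat_lit 0])) (.leaf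 ((nat_lit 1162), [nat_lit 3, nat_lit 5, nat_lit 1, nat_lit 3, nat_lit 0, nat_lit 5, nat_lit 1, nat_lit 4, nat_lit 3, nat_lit 2, nat_lit 0, nat_lit 3, nat_lit 0, nat_lit 1, nat_lit 0, nat_lit 2, nat_lit 2, nat_lit 0, nat_lit 1])))))
 (.node (nat_lit 2241) (.node (nat_lit 2239) (.leaf ((nat_lit 1026), [nat_lit 5, nat_lit 4, nat_lit 3, nat_lit 0, nat_lit 5, nat_lit 1, nat_lit 4, nat_lit 0, nat_lit 2, nat_lit 0, nat_lit 1])) (.node (nat_lit 2240) (.leaf ((nat_lit 451), [nat_lit 3, nat_lit 1, nat_lit 4, nat_lit 3, nat_lit 2, nat_lit 0, nat_lit 2, nat_lit 0, nat_lit 1])) (.leaf ((nat_lit 150), [nat_lit 2, nat_lit 2, nat_lit 0, nat_lit 5, nat_lit 4, nat_lit 1, nat_lit 3, nat_lit 0, nat_lit 1, nat_lit 4, nat_lit 1, nat_lit 0, nat_lit 1, nat_lit 0, nat_lit 2, nat_lit 2])))) (.node (nat_lit 2242) (.leaf ((nat_lit 320), [nat_lit 2, nat_lit 5, nat_lit 0, nat_lit 1, nat_lit 5, nat_lit 3, nat_lit 4,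 nat_lit 0, nat_lit 4, nat_lit 3, nat_lit 2, nat_lit 2, nat_lit 0, nat_lit 1, nat_lit 0])) (.node (nat_lit 2243) (.leaf ((nat_lit 1358), [nat_lit 4, nat_lit 5, nat_lit 3, nat_lit 2, nat_lit 3, nat_lit 4, nat_lit 1, nat_lit 3, nat_lit 2, nat_lit 0, nat_lit 1, nat_lit 0, nat_lit 2])) (.leaf ((nat_lit 1267), [nat_lit 5, nat_lit 4, nat_lit 0, nat_lit 5, nat_lit 2, nat_lit 3, nat_lit 4, nat_lit 3, nat_lit 2, nat_lit 3, nat_lit 2, nat_lit 2, nat_lit 0, nat_lit 1, nat_lit 0, nat_lit 2]))))))))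
 (.node (nat_lit 2266) (.node (nat_lit 2255) (.node (nat_lit 2249) (.node (nat_lit 2246) (.node (nat_lit 2245) (.leaf ((nat_lit 1052), [nat_lit 2, nat_lit 5, nat_lit 0, nat_lit 1, nat_lit 5, nat_lit 3, nat_lit 2, nat_lit 2, nat_lit 0, nat_lit 4, nat_lit 2, nat_lit 2, nat_lit 0, nat_lit 2, nat_lit 2, nat_lit 0, nat_lit 1])) (.leaf ((nat_lit 1302), [nat_lit 5, nat_lit 2, nat_lit 5, nat_lit 3, nat_lit 0, nat_lit 1, nat_lit 4, nat_lit 0, nat_lit 2, nat_lit 0, nat_lit 1]))) (.node (nat_lit 2247) (.leaf ((nat_lit 721), [nat_lit 0, nat_lit 2, nat_lit 5, nat_lit 3, nat_lit 5, nat_lit 0, nat_lit 1, nat_lit 3, nat_lit 4, nat_lit 1, nat_lit 3, nat_lit 2, nat_lit 2, nat_lit 0, nat_lit 2, nat_lit 2, nat_lit 0])) (.node (nat_lit 2248) (.leaf ((nat_lit 1359), [nat_lit 2, nat_lit 3, nat_lit 5, nat_lit 1, nat_lit 3, nat_lit 4, nat_lit 3, nat_lit 0, nat_lit 3, nat_lit 0, nat_lit 2, nat_lit 0, nat_lit 2]))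 (.leaf ((nat_lit 1327), [nat_lit 4, nat_lit 5, nat_lit 2, nat_lit 3, nat_lit 5, nat_lit 3, nat_lit 0, nat_lit 3, nat_lit 2, nat_lit 3, nat_lit 2, nat_lit 0, nat_lit 1, nat_lit 0])))))
 (.node (nat_lit 2252) (.node (nat_lit 2250) (.leaf ((nat_lit 300), [nat_lit 3, nat_lit 5, nat_lit 3, nat_lit 0, nat_lit 5, nat_lit 0, nat_lit 3, nat_lit 4, nat_lit 2, nat_lit 0, nat_lit 4, nat_lit 0])) (.node (nat_lit 2251) (.leaf ((nat_lit 1177), [nat_lit 5, nat_lit 4, nat_lit 3, nat_lit 5, nat_lit 2, nat_lit 5, nat_lit 3, nat_lit 2, nat_lit 0, nat_lit 3, nat_lit 4, nat_lit 2, nat_lit 2, nat_lit 0, nat_lit 1, nat_lit 0, nat_lit 2])) (.leaf ((nat_lit 1274), [nat_lit 4, nat_lit 5, nat_lit 1, nat_lit 5, nat_lit 3, nat_lit 2, nat_lit 0, nat_lit 2, nat_lit 4, nat_lit 0, nat_lit 2, nat_lit 0, nat_lit 1])))) (.node (nat_lit 2253) (.leaf ((nat_lit 632), [nat_lit 4, nat_lit 5, nat_lit 4, nat_lit 0, nat_lit 5, nat_lit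 4, nat_lit 1, nat_lit 3, nat_lit 2, nat_lit 4, nat_lit 1, nat_lit 0, nat_lit 2, nat_lit 0, nat_lit 2, nat_lit 0])) (.node (nat_lit 2254) (.leaf ((nat_lit 985), [nat_lit 0, nat_lit 1, nat_lit 5, nat_lit 3, nat_lit 1, nat_lit 4, nat_lit 3, nat_lit 2, nat_lit 0, nat_lit 3, nat_lit 2])) (.leaf ((nat_lit 1042), [nat_lit 5, nat_lit 1, nat_lit 5, nat_lit 1, nat_lit 3, nat_lit 4, nat_lit 1, nat_lit 3, nat_lit 2, nat_lit 2, nat_lit 0, nat_lit 2, nat_lit 2]))))))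
 (.node (nat_lit 2260) (.node (nat_lit 2257) (.node (nat_lit 2256) (.leaf ((nat_lit 1097), [nat_lit 4, nat_lit 5, nat_lit 2, nat_lit 3, nat_lit 5, nat_lit 0, nat_lit 3, nat_lit 2, nat_lit 4, nat_lit 1, nat_lit 0, nat_lit 2, nat_lit 0, nat_lit 2, nat_lit 0])) (.leaf ((nat_lit 578), [nat_lit 4, nat_lit 1, nat_lit 5, nat_lit 3, nat_lit 5, nat_lit 3, nat_lit 4, nat_lit 2, nat_lit 4, nat_lit 2, nat_lit 3, nat_lit 1, nat_lit 0]))) (.node (nat_lit 2258) (.leaf ((nat_lit 1114), [nat_lit 3, nat_lit 1, nat_lit 5, nat_lit 2, nat_lit 5, nat_lit 4, nat_lit 3, nat_lit 1, nat_lit 4, nat_lit 2, nat_lit 0, nat_lit 1, nat_lit 0, nat_lit 2, nat_lit 0, nat_lit 2])) (.node (nat_lit 2259) (.leaf ((nat_lit 1360), [nat_lit 4, nat_lit 5, nat_lit 4, nat_lit 0, nat_lit 5, nat_lit 0, nat_lit 3, nat_lit 1, nat_lit 4, nat_lit 2, nat_lit 0, nat_lit 2, nat_lit 2, nat_lit 0, nat_lit 1, nat_lit 0])) (.leaf ((nat_lit 1118),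 [nat_lit 5, nat_lit 2, nat_lit 4, nat_lit 0, nat_lit 5, nat_lit 0, nat_lit 4, nat_lit 3, nat_lit 0, nat_lit 3, nat_lit 2, nat_lit 0, nat_lit 2, nat_lit 2, nat_lit 0, nat_lit 2, nat_lit 0])))))
 (.node (nat_lit 2263) (.node (nat_lit 2261) (.leaf ((nat_lit 834), [nat_lit 5, nat_lit 0, nat_lit 1, nat_lit 5, nat_lit 1, nat_lit 4, nat_lit 3, nat_lit 1, nat_lit 0, nat_lit 4, nat_lit 2, nat_lit 2, nat_lit 0, nat_lit 1])) (.node (nat_lit 2262) (.leaf ((nat_lit 296), [nat_lit 2, nat_lit 4, nat_lit 3, nat_lit 0, nat_lit 2, nat_lit 3, nat_lit 0, nat_lit 2, nat_lit 0, nat_lit 2, nat_lit 2, nat_lit 0, nat_lit 2])) (.leaf ((nat_lit 1021), [nat_lit 5, nat_lit 3, nat_lit 2, nat_lit 5, nat_lit 4, nat_lit 2, nat_lit 3, nat_lit 4, nat_lit 2, nat_lit 3, nat_lit 0, nat_lit 2, nat_lit 2])))) (.node (nat_lit 2264) (.leaf ((nat_lit 1187), [nat_lit 5, nat_lit 1, nat_lit 3, nat_lit 0, nat_lit 5, nat_lit 1, nat_lit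 3, nat_lit 2, nat_lit 4, nat_lit 2, nat_lit 3, nat_lit 0, nat_lit 2, nat_lit 0, nat_lit 1, nat_lit 0, nat_lit 1, nat_lit 0])) (.node (nat_lit 2265) (.leaf ((nat_lit 156), [nat_lit 5, nat_lit 4, nat_lit 5, nat_lit 2, nat_lit 5, nat_lit 1, nat_lit 3, nat_lit 1, nat_lit 0, nat_lit 4, nat_lit 2, nat_lit 2, nat_lit 0, nat_lit 2, nat_lit 0, nat_lit 1, nat_lit 0])) (.leaf ((nat_lit 764), [nat_lit 4, nat_lit 0, nat_lit 5, nat_lit 3, nat_lit 2, nat_lit 4, nat_lit 3, nat_lit 2, nat_lit 3])))))))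
 (.node (nat_lit 2277) (.node (nat_lit 2271) (.node (nat_lit 2268) (.node (nat_lit 2267) (.leaf ((nat_lit 1361), [nat_lit 5, nat_lit 0, nat_lit 5, nat_lit 3, nat_lit 4, nat_lit 3, nat_lit 2, nat_lit 0, nat_lit 2, nat_lit 2, nat_lit 0, nat_lit 1, nat_lit 0])) (.leaf ((nat_lit 525), [nat_lit 0, nat_lit 5, nat_lit 2, nat_lit 3, nat_lit 5, nat_lit 4, nat_lit 1, nat_lit 3, nat_lit 0, nat_lit 3, nat_lit 1, nat_lit 0]))) (.node (nat_lit 2269) (.leaf ((nat_lit 435), [nat_lit 5, nat_lit 1, nat_lit 5, nat_lit 0, nat_lit 5, nat_lit 3, nat_lit 0, nat_lit 2, nat_lit 2, nat_lit 3, nat_lit 1, nat_lit 0])) (.node (nat_lit 2270) (.leaf ((nat_lit 145), [nat_lit 4, nat_lit 2, nat_lit 5, nat_lit 1, nat_lit 3, nat_lit 0, nat_lit 1, nat_lit 4, nat_lit 2, nat_lit 0, nat_lit 2, nat_lit 2, nat_lit 0, nat_lit 2, nat_lit 0])) (.leaf ((nat_lit 531), [nat_lit 1, nat_lit 5, nat_lit 3, nat_lit 5, nat_lit 3, nat_lit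 0, nat_lit 1, nat_lit 3, nat_lit 4, nat_lit 2, nat_lit 3, nat_lit 1, nat_lit 0, nat_lit 1, nat_lit 0, nat_lit 2, nat_lit 0, nat_lit 2, nat_lit 0])))))
 (.node (nat_lit 2274) (.node (nat_lit 2272) (.leaf ((nat_lit 658), [nat_lit 4, nat_lit 2, nat_lit 5, nat_lit 4, nat_lit 3, nat_lit 1, nat_lit 0, nat_lit 2, nat_lit 3, nat_lit 2, nat_lit 2, nat_lit 0])) (.node (nat_lit 2273) (.leaf ((nat_lit 1362), [nat_lit 5, nat_lit 0, nat_lit 4, nat_lit 3, nat_lit 0, nat_lit 3, nat_lit 2, nat_lit 2, nat_lit 0, nat_lit 2, nat_lit 0, nat_lit 1, nat_lit 0])) (.leaf ((nat_lit 1261), [nat_lit 1, nat_lit 0, nat_lit 5, nat_lit 3, nat_lit 5, nat_lit 0, nat_lit 1, nat_lit 0, nat_lit 4, nat_lit 1, nat_lit 3, nat_lit 2, nat_lit 0, nat_lit 2, nat_lit 0, nat_lit 1])))) (.node (nat_lit 2275) (.leaf ((nat_lit 1169), [nat_lit 5, nat_lit 0, nat_lit 3, nat_lit 5, nat_lit 1, nat_lit 4, nat_lit 1, nat_lit 3, nat_lit 1,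 nat_lit 3, nat_lit 2])) (.node (nat_lit 2276) (.leaf ((nat_lit 1363), [nat_lit 1, nat_lit 5, nat_lit 0, nat_lit 5, nat_lit 3, nat_lit 4, nat_lit 3, nat_lit 1, nat_lit 4, nat_lit 3, nat_lit 2, nat_lit 2, nat_lit 0, nat_lit 2, nat_lit 2, nat_lit 0, nat_lit 2, nat_lit 2])) (.leaf ((nat_lit 614), [nat_lit 5, nat_lit 2, nat_lit 0, nat_lit 2, nat_lit 5, nat_lit 4, nat_lit 0, nat_lit 3, nat_lit 1, nat_lit 0, nat_lit 2, nat_lit 0, nat_lit 2, nat_lit 0]))))))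
 (.node (nat_lit 2282) (.node (nat_lit 2279) (.node (nat_lit 2278) (.leaf ((nat_lit 1306), [nat_lit 5, nat_lit 4, nat_lit 0, nat_lit 5, nat_lit 2, nat_lit 2, nat_lit 3, nat_lit 1, nat_lit 0, nat_lit 2, nat_lit 0, nat_lit 1, nat_lit 0])) (.leaf ((nat_lit 1364), [nat_lit 3, nat_lit 5, nat_lit 0, nat_lit 3, nat_lit 5, nat_lit 3, nat_lit 2, nat_lit 3, nat_lit 4, nat_lit 1, nat_lit 3, nat_lit 2, nat_lit 0, nat_lit 1]))) (.node (nat_lit 2280) (.leaf ((nat_lit 966), [nat_lit 4, nat_lit 5, nat_lit 2, nat_lit 0, nat_lit 5, nat_lit 3, nat_lit 2, nat_lit 4, nat_lit 2, nat_lit 0, nat_lit 2, nat_lit 2, nat_lit 0, nat_lit 2, nat_lit 2])) (.node (nat_lit 2281) (.leaf ((nat_lit 1038), [nat_lit 3, nat_lit 5, nat_lit 2, nat_lit 3, nat_lit 0, nat_lit 5, nat_lit 0, nat_lit 4, nat_lit 0, nat_lit 4, nat_lit 1, nat_lit 3, nat_lit 2, nat_lit 2, nat_lit 0, nat_lit 2, nat_lit 2, nat_lit 0, nat_lit 2, nat_lit 2,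 nat_lit 0])) (.leaf ((nat_lit 1365), [nat_lit 5, nat_lit 4, nat_lit 2, nat_lit 5, nat_lit 2, nat_lit 0, nat_lit 4, nat_lit 1, nat_lit 3, nat_lit 0, nat_lit 2, nat_lit 0, nat_lit 1, nat_lit 0])))))
 (.node (nat_lit 2285) (.node (nat_lit 2283) (.leaf ((nat_lit 1325), [nat_lit 5, nat_lit 4, nat_lit 2, nat_lit 0, nat_lit 5, nat_lit 2, nat_lit 3, nat_lit 0, nat_lit 2, nat_lit 4, nat_lit 0, nat_lit 1, nat_lit 0, nat_lit 2, nat_lit 2, nat_lit 0, nat_lit 2])) (.node (nat_lit 2284) (.leaf ((nat_lit 843), [nat_lit 3, nat_lit 5, nat_lit 1, nat_lit 3, nat_lit 2, nat_lit 5, nat_lit 4, nat_lit 3, nat_lit 1, nat_lit 3, nat_lit 1, nat_lit 3, nat_lit 0, nat_lit 1, nat_lit 0])) (.leaf ((nat_lit 653), [nat_lit 5, nat_lit 1, nat_lit 5, nat_lit 4, nat_lit 0, nat_lit 2, nat_lit 3, nat_lit 2, nat_lit 0, nat_lit 3, nat_lit 2, nat_lit 2, nat_lit 0, nat_lit 2])))) (.node (nat_lit 2286) (.leaf ((nat_lit 896), [nat_lit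 2, nat_lit 3, nat_lit 5, nat_lit 0, nat_lit 1, nat_lit 3, nat_lit 4, nat_lit 1, nat_lit 3, nat_lit 2, nat_lit 2, nat_lit 0, nat_lit 2, nat_lit 2, nat_lit 0, nat_lit 1])) (.node (nat_lit 2287) (.leaf ((nat_lit 321), [nat_lit 4, nat_lit 3, nat_lit 5, nat_lit 0, nat_lit 5, nat_lit 0, nat_lit 1, nat_lit 3, nat_lit 4, nat_lit 2, nat_lit 3, nat_lit 2, nat_lit 2, nat_lit 0, nat_lit 2, nat_lit 2])) (.leaf ((nat_lit 1349), [nat_lit 5, nat_lit 4, nat_lit 5, nat_lit 2, nat_lit 3, nat_lit 4, nat_lit 1, nat_lit 3, nat_lit 0, nat_lit 1, nat_lit 0, nat_lit 1, nat_lit 0, nat_lit 2]))))))))))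
noncomputable def bWd_13 : Tr (ℕ × List ℕ) := (.node (nat_lit 2376) (.node (nat_lit 2332) (.node (nat_lit 2310) (.node (nat_lit 2299) (.node (nat_lit 2293) (.node (nat_lit 2290) (.node (nat_lit 2289) (.leaf ((nat_lit 719), [nat_lit 1, nat_lit 3, nat_lit 2, nat_lit 5, nat_lit 2, nat_lit 3, nat_lit 4, nat_lit 0, nat_lit 2, nat_lit 0, nat_lit 2, nat_lit 2, nat_lit 0])) (.leaf ((nat_lit 165), [nat_lit 2, nat_lit 3, nat_lit 5, nat_lit 0, nat_lit 5, nat_lit 3, nat_lit 0, nat_lit 3, nat_lit 0, nat_lit 2, nat_lit 3, nat_lit 0, nat_lit 2, nat_lit 0, nat_lit 2, nat_lit 2, nat_lit 0, nat_lit 1]))) (.node (nat_lit 2291) (.leaf ((nat_lit 789), [nat_lit 4, nat_lit 2, nat_lit 5, nat_lit 1, nat_lit 5, nat_lit 0, nat_lit 2, nat_lit 0, nat_lit 2, nat_lit 3, nat_lit 2, nat_lit 2, nat_lit 0, nat_lit 1, nat_lit 0, nat_lit 2])) (.node (nat_lit 2292) (.leaf ((nat_lit 1366), [nat_lit 4, nat_lit 5, nat_lit 4,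 nat_lit 0, nat_lit 5, nat_lit 2, nat_lit 3, nat_lit 2, nat_lit 4, nat_lit 3, nat_lit 0, nat_lit 2, nat_lit 2, nat_lit 0])) (.leaf ((nat_lit 10), [nat_lit 3, nat_lit 1, nat_lit 5, nat_lit 2, nat_lit 5, nat_lit 2, nat_lit 4, nat_lit 2, nat_lit 3, nat_lit 2, nat_lit 3, nat_lit 2, nat_lit 2, nat_lit 0, nat_lit 2, nat_lit 2, nat_lit 0, nat_lit 2])))))
 (.node (nat_lit 2296) (.node (nat_lit 2294) (.leaf ((nat_lit 1367), [nat_lit 5, nat_lit 0, nat_lit 1, nat_lit 5, nat_lit 3, nat_lit 0, nat_lit 2, nat_lit 4, nat_lit 0, nat_lit 2, nat_lit 0, nat_lit 2])) (.node (nat_lit 2295) (.leaf ((nat_lit 1174), [nat_lit 2, nat_lit 0, nat_lit 1, nat_lit 5, nat_lit 2, nat_lit 0, nat_lit 1, nat_lit 0, nat_lit 4, nat_lit 2, nat_lit 0, nat_lit 2, nat_lit 2, nat_lit 0, nat_lit 1])) (.leaf ((nat_lit 45), [nat_lit 4, nat_lit 1, nat_lit 5, nat_lit 2, nat_lit 5, nat_lit 0, nat_lit 1, nat_lit 0, nat_lit 3, nat_lit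 2, nat_lit 0, nat_lit 1, nat_lit 0, nat_lit 2, nat_lit 2, nat_lit 0])))) (.node (nat_lit 2297) (.leaf ((nat_lit 1368), [nat_lit 2, nat_lit 2, nat_lit 5, nat_lit 2, nat_lit 0, nat_lit 2, nat_lit 2, nat_lit 3, nat_lit 2, nat_lit 2, nat_lit 0, nat_lit 2, nat_lit 0, nat_lit 1])) (.node (nat_lit 2298) (.leaf ((nat_lit 954), [nat_lit 5, nat_lit 4, nat_lit 5, nat_lit 4, nat_lit 2, nat_lit 3, nat_lit 2, nat_lit 3, nat_lit 2, nat_lit 0])) (.leaf ((nat_lit 480), [nat_lit 4, nat_lit 1, nat_lit 5, nat_lit 2, nat_lit 5, nat_lit 0, nat_lit 2, nat_lit 3, nat_lit 0]))))))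
 (.node (nat_lit 2304) (.node (nat_lit 2301) (.node (nat_lit 2300) (.leaf ((nat_lit 871), [nat_lit 4, nat_lit 5, nat_lit 2, nat_lit 5, nat_lit 2, nat_lit 3, nat_lit 4, nat_lit 1, nat_lit 3])) (.leaf ((nat_lit 1369), [nat_lit 5, nat_lit 3, nat_lit 5, nat_lit 4, nat_lit 2, nat_lit 0, nat_lit 2, nat_lit 4, nat_lit 0, nat_lit 2, nat_lit 0, nat_lit 2, nat_lit 2]))) (.node (nat_lit 2302) (.leaf ((nat_lit 1153), [nat_lit 5, nat_lit 3, nat_lit 4])) (.node (nat_lit 2303) (.leaf ((nat_lit 999), [nat_lit 1, nat_lit 5, nat_lit 1, nat_lit 3, nat_lit 0, nat_lit 2, nat_lit 0, nat_lit 2, nat_lit 0])) (.leaf ((nat_lit 1263), [nat_lit 0, nat_lit 5, nat_lit 0, nat_lit 1, nat_lit 5, nat_lit 2, nat_lit 0, nat_lit 2, nat_lit 4, nat_lit 2, nat_lit 2, nat_lit 0, nat_lit 2, nat_lit 0, nat_lit 1, nat_lit 0])))))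
 (.node (nat_lit 2307) (.node (nat_lit 2305) (.leaf ((nat_lit 865), [nat_lit 0, nat_lit 1, nat_lit 5, nat_lit 2, nat_lit 3, nat_lit 4, nat_lit 1, nat_lit 3, nat_lit 0, nat_lit 1, nat_lit 0, nat_lit 2])) (.node (nat_lit 2306) (.leaf ((nat_lit 1223), [nat_lit 2, nat_lit 5, nat_lit 0, nat_lit 5, nat_lit 2, nat_lit 4, nat_lit 2, nat_lit 0, nat_lit 3, nat_lit 2, nat_lit 0, nat_lit 2, nat_lit 0, nat_lit 1, nat_lit 0, nat_lit 1])) (.leaf ((nat_lit 1351), [nat_lit 0, nat_lit 4, nat_lit 5, nat_lit 4, nat_lit 0, nat_lit 3, nat_lit 0, nat_lit 1, nat_lit 4, nat_lit 1, nat_lit 0, nat_lit 1, nat_lit 0, nat_lit 2, nat_lit 0, nat_lit 2, nat_lit 0])))) (.node (nat_lit 2308) (.leaf ((nat_lit 888), [nat_lit 0, nat_lit 5, nat_lit 3, nat_lit 0, nat_lit 5, nat_lit 1, nat_lit 4, nat_lit 2, nat_lit 4, nat_lit 3, nat_lit 2, nat_lit 0, nat_lit 1, nat_lit 0, nat_lit 2, nat_lit 2])) (.node (nat_lit 2309) (.leaf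 ((nat_lit 203), [nat_lit 2, nat_lit 3, nat_lit 5, nat_lit 0, nat_lit 5, nat_lit 3, nat_lit 2, nat_lit 0, nat_lit 3, nat_lit 1, nat_lit 4, nat_lit 2, nat_lit 2, nat_lit 0, nat_lit 2, nat_lit 2, nat_lit 0, nat_lit 1])) (.leaf ((nat_lit 1370), [nat_lit 0, nat_lit 5, nat_lit 2, nat_lit 5, nat_lit 0, nat_lit 3, nat_lit 0, nat_lit 2, nat_lit 4, nat_lit 2, nat_lit 0, nat_lit 1, nat_lit 0, nat_lit 2, nat_lit 0])))))))
 (.node (nat_lit 2321) (.node (nat_lit 2315) (.node (nat_lit 2312) (.node (nat_lit 2311) (.leaf ((nat_lit 590), [nat_lit 3, nat_lit 2, nat_lit 3, nat_lit 5, nat_lit 0, nat_lit 3, nat_lit 4, nat_lit 0, nat_lit 3, nat_lit 2, nat_lit 2, nat_lit 0, nat_lit 2, nat_lit 2, nat_lit 0, nat_lit 2, nat_lit 2, nat_lit 0])) (.leaf ((nat_lit 724), [nat_lit 3, nat_lit 1, nat_lit 3, nat_lit 0, nat_lit 5, nat_lit 3, nat_lit 1, nat_lit 4, nat_lit 3, nat_lit 0, nat_lit 2, nat_lit 0, nat_lit 2, nat_lit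 0]))) (.node (nat_lit 2313) (.leaf ((nat_lit 1218), [nat_lit 1, nat_lit 5, nat_lit 2, nat_lit 5, nat_lit 0, nat_lit 2, nat_lit 3, nat_lit 2, nat_lit 3, nat_lit 2, nat_lit 0, nat_lit 2])) (.node (nat_lit 2314) (.leaf ((nat_lit 682), [nat_lit 5, nat_lit 3, nat_lit 2, nat_lit 0, nat_lit 5, nat_lit 1, nat_lit 3, nat_lit 4, nat_lit 3, nat_lit 1, nat_lit 3, nat_lit 2, nat_lit 0, nat_lit 1])) (.leaf ((nat_lit 1322), [nat_lit 4, nat_lit 1, nat_lit 5, nat_lit 3, nat_lit 5, nat_lit 4, nat_lit 1, nat_lit 3, nat_lit 1, nat_lit 3, nat_lit 2, nat_lit 2, nat_lit 0, nat_lit 2, nat_lit 2, nat_lit 0, nat_lit 1])))))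
 (.node (nat_lit 2318) (.node (nat_lit 2316) (.leaf ((nat_lit 169), [nat_lit 1, nat_lit 0, nat_lit 5, nat_lit 3, nat_lit 5, nat_lit 1, nat_lit 0, nat_lit 4, nat_lit 3, nat_lit 0, nat_lit 2, nat_lit 0, nat_lit 1])) (.node (nat_lit 2317) (.leaf ((nat_lit 251), [nat_lit 4, nat_lit 2, nat_lit 5, nat_lit 3, nat_lit 5, nat_lit 1, nat_lit 0, nat_lit 4, nat_lit 1, nat_lit 4, nat_lit 1, nat_lit 0, nat_lit 2, nat_lit 0, nat_lit 2])) (.leaf ((nat_lit 907), [nat_lit 2, nat_lit 4, nat_lit 0, nat_lit 5, nat_lit 1, nat_lit 3, nat_lit 4, nat_lit 1, nat_lit 3, nat_lit 2, nat_lit 2, nat_lit 0, nat_lit 2, nat_lit 2, nat_lit 0, nat_lit 1])))) (.node (nat_lit 2319) (.leaf ((nat_lit 1227), [nat_lit 0, nat_lit 3, nat_lit 5, nat_lit 0, nat_lit 4, nat_lit 0, nat_lit 4, nat_lit 1, nat_lit 3, nat_lit 0, nat_lit 1, nat_lit 0, nat_lit 2, nat_lit 2])) (.node (nat_lit 2320) (.leaf ((nat_lit 1356), [nat_lit 1, nat_lit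 5, nat_lit 0, nat_lit 4, nat_lit 0, nat_lit 1, nat_lit 4, nat_lit 3, nat_lit 2, nat_lit 0, nat_lit 1, nat_lit 0, nat_lit 1, nat_lit 0, nat_lit 2])) (.leaf ((nat_lit 1222), [nat_lit 4, nat_lit 5, nat_lit 2, nat_lit 5, nat_lit 3, nat_lit 1, nat_lit 4, nat_lit 0, nat_lit 4, nat_lit 2, nat_lit 2, nat_lit 0, nat_lit 1, nat_lit 0, nat_lit 2]))))))
 (.node (nat_lit 2326) (.node (nat_lit 2323) (.node (nat_lit 2322) (.leaf ((nat_lit 1154), [nat_lit 5, nat_lit 1, nat_lit 5, nat_lit 2, nat_lit 0, nat_lit 3, nat_lit 1, nat_lit 4, nat_lit 2, nat_lit 0, nat_lit 2, nat_lit 0, nat_lit 1])) (.leaf ((nat_lit 158), [nat_lit 5, nat_lit 3, nat_lit 2, nat_lit 5, nat_lit 2, nat_lit 2, nat_lit 0, nat_lit 3, nat_lit 4, nat_lit 0, nat_lit 1, nat_lit 0, nat_lit 2, nat_lit 0, nat_lit 2, nat_lit 0]))) (.node (nat_lit 2324) (.leaf ((nat_lit 876), [nat_lit 0, nat_lit 2, nat_lit 4, nat_lit 2, nat_lit 4, nat_lit 2, nat_lit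 0, nat_lit 1, nat_lit 0, nat_lit 2, nat_lit 2, nat_lit 0])) (.node (nat_lit 2325) (.leaf ((nat_lit 583), [nat_lit 0, nat_lit 4, nat_lit 5, nat_lit 3, nat_lit 4, nat_lit 0, nat_lit 4, nat_lit 3, nat_lit 0, nat_lit 1, nat_lit 0, nat_lit 2])) (.leaf ((nat_lit 1348), [nat_lit 2, nat_lit 3, nat_lit 5, nat_lit 3, nat_lit 4, nat_lit 3, nat_lit 0, nat_lit 3, nat_lit 0, nat_lit 1, nat_lit 0, nat_lit 2, nat_lit 2, nat_lit 0, nat_lit 2, nat_lit 0])))))
 (.node (nat_lit 2329) (.node (nat_lit 2327) (.leaf ((nat_lit 996), [nat_lit 3, nat_lit 5, nat_lit 1, nat_lit 3, nat_lit 2, nat_lit 5, nat_lit 1, nat_lit 4, nat_lit 0, nat_lit 3, nat_lit 4, nat_lit 2, nat_lit 0, nat_lit 2, nat_lit 2, nat_lit 0, nat_lit 2, nat_lit 2, nat_lit 0])) (.node (nat_lit 2328) (.leaf ((nat_lit 919), [nat_lit 2, nat_lit 2, nat_lit 5, nat_lit 1, nat_lit 5, nat_lit 2, nat_lit 3, nat_lit 0, nat_lit 4])) (.leaf ((nat_lit 1126),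 [nat_lit 2, nat_lit 4, nat_lit 0, nat_lit 5, nat_lit 2, nat_lit 3, nat_lit 4, nat_lit 2, nat_lit 4, nat_lit 2, nat_lit 0, nat_lit 1, nat_lit 0, nat_lit 1])))) (.node (nat_lit 2330) (.leaf ((nat_lit 1139), [nat_lit 4, nat_lit 1, nat_lit 5, nat_lit 2, nat_lit 5, nat_lit 3, nat_lit 2, nat_lit 4, nat_lit 3, nat_lit 2, nat_lit 0, nat_lit 2])) (.node (nat_lit 2331) (.leaf ((nat_lit 1355), [nat_lit 5, nat_lit 4, nat_lit 5, nat_lit 0, nat_lit 1, nat_lit 4, nat_lit 3, nat_lit 2, nat_lit 3, nat_lit 1, nat_lit 0, nat_lit 2, nat_lit 2, nat_lit 0, nat_lit 2])) (.leaf ((nat_lit 1028), [nat_lit 3, nat_lit 2, nat_lit 0, nat_lit 5, nat_lit 0, nat_lit 2, nat_lit 4, nat_lit 2, nat_lit 4, nat_lit 1, nat_lit 0, nat_lit 2, nat_lit 2, nat_lit 0, nat_lit 1, nat_lit 0]))))))))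
 (.node (nat_lit 2354) (.node (nat_lit 2343) (.node (nat_lit 2337) (.node (nat_lit 2334) (.node (nat_lit 2333) (.leaf ((nat_lit 1184), [nat_lit 5, nat_lit 4, nat_lit 1, nat_lit 0, nat_lit 3, nat_lit 1, nat_lit 4, nat_lit 0, nat_lit 2, nat_lit 0, nat_lit 2, nat_lit 2])) (.leaf ((nat_lit 1085), [nat_lit 1, nat_lit 4, nat_lit 5, nat_lit 1, nat_lit 5, nat_lit 3, nat_lit 0, nat_lit 1, nat_lit 0, nat_lit 4, nat_lit 2, nat_lit 2, nat_lit 0]))) (.node (nat_lit 2335) (.leaf ((nat_lit 1365), [nat_lit 4, nat_lit 5, nat_lit 2, nat_lit 0, nat_lit 5, nat_lit 2, nat_lit 3, nat_lit 0, nat_lit 2, nat_lit 4, nat_lit 3, nat_lit 0, nat_lit 2, nat_lit 2, nat_lit 0, nat_lit 2, nat_lit 0, nat_lit 1])) (.node (nat_lit 2336) (.leaf ((nat_lit 624), [nat_lit 1, nat_lit 5, nat_lit 4, nat_lit 3, nat_lit 1, nat_lit 3, nat_lit 0, nat_lit 3, nat_lit 2, nat_lit 2, nat_lit 0, nat_lit 2, nat_lit 2, nat_lit 0, nat_lit 1]))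 (.leaf ((nat_lit 914), [nat_lit 4, nat_lit 2, nat_lit 5, nat_lit 3, nat_lit 5, nat_lit 3, nat_lit 0, nat_lit 1, nat_lit 3, nat_lit 0, nat_lit 3, nat_lit 2, nat_lit 0, nat_lit 1, nat_lit 0])))))
 (.node (nat_lit 2340) (.node (nat_lit 2338) (.leaf ((nat_lit 1371), [nat_lit 5, nat_lit 4, nat_lit 5, nat_lit 1, nat_lit 5, nat_lit 1, nat_lit 0, nat_lit 1, nat_lit 0, nat_lit 3, nat_lit 1, nat_lit 0, nat_lit 1])) (.node (nat_lit 2339) (.leaf ((nat_lit 464), [nat_lit 5, nat_lit 4, nat_lit 5, nat_lit 1, nat_lit 5, nat_lit 3, nat_lit 1, nat_lit 0, nat_lit 4, nat_lit 1, nat_lit 3, nat_lit 2, nat_lit 0, nat_lit 2, nat_lit 2])) (.leaf ((nat_lit 609), [nat_lit 4, nat_lit 5, nat_lit 2, nat_lit 5, nat_lit 2, nat_lit 0, nat_lit 1, nat_lit 0, nat_lit 3, nat_lit 2, nat_lit 0, nat_lit 2, nat_lit 2, nat_lit 0, nat_lit 1, nat_lit 0])))) (.node (nat_lit 2341) (.leaf ((nat_lit 1359), [nat_lit 4, nat_lit 1, nat_lit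 5, nat_lit 0, nat_lit 5, nat_lit 3, nat_lit 4, nat_lit 1, nat_lit 3, nat_lit 2, nat_lit 0, nat_lit 2, nat_lit 2, nat_lit 0, nat_lit 2, nat_lit 2])) (.node (nat_lit 2342) (.leaf ((nat_lit 689), [nat_lit 4, nat_lit 5, nat_lit 2, nat_lit 3, nat_lit 5, nat_lit 4, nat_lit 2, nat_lit 4, nat_lit 1])) (.leaf ((nat_lit 1149), [nat_lit 4, nat_lit 2, nat_lit 5, nat_lit 1, nat_lit 5, nat_lit 1, nat_lit 3, nat_lit 0, nat_lit 4, nat_lit 0, nat_lit 1, nat_lit 0, nat_lit 1]))))))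
 (.node (nat_lit 2348) (.node (nat_lit 2345) (.node (nat_lit 2344) (.leaf ((nat_lit 1256), [nat_lit 5, nat_lit 3, nat_lit 5, nat_lit 0, nat_lit 4, nat_lit 0, nat_lit 4, nat_lit 2, nat_lit 0])) (.leaf ((nat_lit 1372), [nat_lit 1, nat_lit 0, nat_lit 5, nat_lit 3, nat_lit 5, nat_lit 4, nat_lit 3, nat_lit 2, nat_lit 4, nat_lit 3, nat_lit 0, nat_lit 2, nat_lit 0]))) (.node (nat_lit 2346) (.leaf ((nat_lit 1373), [nat_lit 4, nat_lit 0, nat_lit 5, nat_lit 2, nat_lit 5, nat_lit 2, nat_lit 0, nat_lit 3, nat_lit 1, nat_lit 3, nat_lit 0, nat_lit 1, nat_lit 0, nat_lit 2, nat_lit 2, nat_lit 0, nat_lit 2, nat_lit 0])) (.node (nat_lit 2347) (.leaf ((nat_lit 811), [nat_lit 5, nat_lit 0, nat_lit 4, nat_lit 5, nat_lit 4, nat_lit 3, nat_lit 1, nat_lit 3, nat_lit 1, nat_lit 0])) (.leaf ((nat_lit 974), [nat_lit 4, nat_lit 5, nat_lit 2, nat_lit 3, nat_lit 5, nat_lit 3, nat_lit 0, nat_lit 2, nat_lit 4, nat_lit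 2, nat_lit 0, nat_lit 2, nat_lit 0, nat_lit 1, nat_lit 0])))))
 (.node (nat_lit 2351) (.node (nat_lit 2349) (.leaf ((nat_lit 1374), [nat_lit 5, nat_lit 4, nat_lit 5, nat_lit 3, nat_lit 5, nat_lit 2, nat_lit 4, nat_lit 0, nat_lit 3, nat_lit 2, nat_lit 3, nat_lit 2, nat_lit 0, nat_lit 1, nat_lit 0])) (.node (nat_lit 2350) (.leaf ((nat_lit 670), [nat_lit 5, nat_lit 1, nat_lit 3, nat_lit 0, nat_lit 5, nat_lit 3, nat_lit 2, nat_lit 3, nat_lit 0, nat_lit 3, nat_lit 0, nat_lit 1, nat_lit 0, nat_lit 1, nat_lit 0, nat_lit 2])) (.leaf ((nat_lit 1083), [nat_lit 5, nat_lit 2, nat_lit 0, nat_lit 2, nat_lit 5, nat_lit 3, nat_lit 0, nat_lit 2, nat_lit 2, nat_lit 3, nat_lit 2, nat_lit 0, nat_lit 1, nat_lit 0, nat_lit 2, nat_lit 2])))) (.node (nat_lit 2352) (.leaf ((nat_lit 693), [nat_lit 3, nat_lit 4, nat_lit 3, nat_lit 5, nat_lit 3, nat_lit 0, nat_lit 3, nat_lit 0, nat_lit 2, nat_lit 4, nat_lit 2, nat_lit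 0, nat_lit 2, nat_lit 0])) (.node (nat_lit 2353) (.leaf ((nat_lit 820), [nat_lit 4, nat_lit 5, nat_lit 3, nat_lit 2, nat_lit 5, nat_lit 3, nat_lit 0, nat_lit 3, nat_lit 2, nat_lit 4, nat_lit 1, nat_lit 0, nat_lit 2, nat_lit 0, nat_lit 2, nat_lit 2])) (.leaf ((nat_lit 1032), [nat_lit 5, nat_lit 0, nat_lit 3, nat_lit 5, nat_lit 2, nat_lit 0, nat_lit 4, nat_lit 2, nat_lit 0, nat_lit 2, nat_lit 2, nat_lit 0, nat_lit 2, nat_lit 2, nat_lit 0])))))))
 (.node (nat_lit 2365) (.node (nat_lit 2359) (.node (nat_lit 2356) (.node (nat_lit 2355) (.leaf ((nat_lit 793), [nat_lit 2, nat_lit 3, nat_lit 5, nat_lit 0, nat_lit 5, nat_lit 1, nat_lit 4, nat_lit 0, nat_lit 1, nat_lit 0, nat_lit 3, nat_lit 2, nat_lit 0, nat_lit 1, nat_lit 0, nat_lit 2, nat_lit 0, nat_lit 2])) (.leaf ((nat_lit 600), [nat_lit 5, nat_lit 4, nat_lit 5, nat_lit 1, nat_lit 5, nat_lit 3, nat_lit 2, nat_lit 0, nat_lit 3, nat_lit 1, nat_lit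 4, nat_lit 0]))) (.node (nat_lit 2357) (.leaf ((nat_lit 1247), [nat_lit 4, nat_lit 5, nat_lit 2, nat_lit 2, nat_lit 0, nat_lit 3, nat_lit 4, nat_lit 0, nat_lit 2, nat_lit 0, nat_lit 2])) (.node (nat_lit 2358) (.leaf ((nat_lit 1252), [nat_lit 4, nat_lit 1, nat_lit 5, nat_lit 3, nat_lit 5, nat_lit 0, nat_lit 2, nat_lit 3, nat_lit 2, nat_lit 3, nat_lit 0, nat_lit 1, nat_lit 0, nat_lit 2, nat_lit 2, nat_lit 0, nat_lit 1, nat_lit 0])) (.leaf ((nat_lit 98), [nat_lit 5, nat_lit 4, nat_lit 5, nat_lit 4, nat_lit 2, nat_lit 3, nat_lit 2, nat_lit 3, nat_lit 0, nat_lit 1])))))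
 (.node (nat_lit 2362) (.node (nat_lit 2360) (.leaf ((nat_lit 1368), [nat_lit 5, nat_lit 4, nat_lit 5, nat_lit 2, nat_lit 5, nat_lit 3, nat_lit 2, nat_lit 4, nat_lit 3, nat_lit 2, nat_lit 3, nat_lit 2, nat_lit 2, nat_lit 0, nat_lit 2, nat_lit 2, nat_lit 0, nat_lit 2, nat_lit 2])) (.node (nat_lit 2361) (.leaf ((nat_lit 1363), [nat_lit 1, nat_lit 5, nat_lit 4, nat_lit 1, nat_lit 4, nat_lit 1, nat_lit 4, nat_lit 1, nat_lit 0, nat_lit 1, nat_lit 0, nat_lit 2, nat_lit 0, nat_lit 2, nat_lit 0])) (.leaf ((nat_lit 252), [nat_lit 4, nat_lit 3, nat_lit 5, nat_lit 0, nat_lit 5, nat_lit 2, nat_lit 3, nat_lit 1, nat_lit 3, nat_lit 1, nat_lit 3, nat_lit 0, nat_lit 2, nat_lit 2, nat_lit 0, nat_lit 2, nat_lit 2])))) (.node (nat_lit 2363) (.leaf ((nat_lit 1129), [nat_lit 0, nat_lit 5, nat_lit 0, nat_lit 1, nat_lit 5, nat_lit 4, nat_lit 1, nat_lit 3, nat_lit 1, nat_lit 3, nat_lit 0, nat_lit 1, nat_lit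 0, nat_lit 2, nat_lit 0, nat_lit 2])) (.node (nat_lit 2364) (.leaf ((nat_lit 913), [nat_lit 1, nat_lit 4, nat_lit 2, nat_lit 5, nat_lit 0, nat_lit 1, nat_lit 3, nat_lit 0, nat_lit 3, nat_lit 2, nat_lit 0, nat_lit 2, nat_lit 0, nat_lit 1, nat_lit 0, nat_lit 1])) (.leaf ((nat_lit 474), [nat_lit 3, nat_lit 4, nat_lit 5, nat_lit 2, nat_lit 5, nat_lit 3, nat_lit 4, nat_lit 2, nat_lit 4, nat_lit 2, nat_lit 3, nat_lit 2, nat_lit 0, nat_lit 2, nat_lit 2, nat_lit 0]))))))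
 (.node (nat_lit 2370) (.node (nat_lit 2367) (.node (nat_lit 2366) (.leaf ((nat_lit 864), [nat_lit 2, nat_lit 0, nat_lit 5, nat_lit 4, nat_lit 2, nat_lit 0, nat_lit 2, nat_lit 3, nat_lit 0, nat_lit 2, nat_lit 0, nat_lit 1, nat_lit 0, nat_lit 1])) (.leaf ((nat_lit 1295), [nat_lit 3, nat_lit 5, nat_lit 0, nat_lit 5, nat_lit 2, nat_lit 4, nat_lit 1, nat_lit 0, nat_lit 1, nat_lit 0, nat_lit 3, nat_lit 0, nat_lit 2, nat_lit 0, nat_lit 2, nat_lit 2, nat_lit 0, nat_lit 2]))) (.node (nat_lit 2368) (.leaf ((nat_lit 1018), [nat_lit 3, nat_lit 2, nat_lit 3, nat_lit 5, nat_lit 2, nat_lit 4, nat_lit 0, nat_lit 3, nat_lit 2, nat_lit 3, nat_lit 1, nat_lit 0, nat_lit 2, nat_lit 0, nat_lit 2, nat_lit 2, nat_lit 0])) (.node (nat_lit 2369) (.leaf ((nat_lit 1330), [nat_lit 0, nat_lit 2, nat_lit 5, nat_lit 1, nat_lit 4, nat_lit 2, nat_lit 4, nat_lit 3, nat_lit 2, nat_lit 2, nat_lit 0, nat_lit 1, nat_lit 0,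 nat_lit 2, nat_lit 2, nat_lit 0])) (.leaf ((nat_lit 486), [nat_lit 0, nat_lit 5, nat_lit 2, nat_lit 5, nat_lit 3, nat_lit 2, nat_lit 4, nat_lit 0, nat_lit 2, nat_lit 2, nat_lit 0, nat_lit 2, nat_lit 0])))))
 (.node (nat_lit 2373) (.node (nat_lit 2371) (.leaf ((nat_lit 970), [nat_lit 5, nat_lit 0, nat_lit 1, nat_lit 5, nat_lit 2, nat_lit 3, nat_lit 1, nat_lit 3, nat_lit 4, nat_lit 2, nat_lit 0, nat_lit 1, nat_lit 0, nat_lit 2, nat_lit 2])) (.node (nat_lit 2372) (.leaf ((nat_lit 1105), [nat_lit 0, nat_lit 1, nat_lit 5, nat_lit 4, nat_lit 2, nat_lit 0, nat_lit 1, nat_lit 0, nat_lit 3, nat_lit 1, nat_lit 0, nat_lit 2, nat_lit 2, nat_lit 0, nat_lit 2])) (.leaf ((nat_lit 1375), [nat_lit 0, nat_lit 5, nat_lit 4, nat_lit 3, nat_lit 0, nat_lit 2, nat_lit 2, nat_lit 3, nat_lit 0, nat_lit 1, nat_lit 0, nat_lit 2, nat_lit 0, nat_lit 2, nat_lit 0])))) (.node (nat_lit 2374) (.leaf ((nat_lit 983), [nat_lit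 0, nat_lit 5, nat_lit 2, nat_lit 3, nat_lit 2, nat_lit 0, nat_lit 4, nat_lit 1, nat_lit 0, nat_lit 2, nat_lit 2, nat_lit 0, nat_lit 2])) (.node (nat_lit 2375) (.leaf ((nat_lit 709), [nat_lit 5, nat_lit 0, nat_lit 1, nat_lit 5, nat_lit 3, nat_lit 2, nat_lit 0, nat_lit 2, nat_lit 4, nat_lit 3, nat_lit 2, nat_lit 2, nat_lit 0, nat_lit 1, nat_lit 0, nat_lit 2])) (.leaf ((nat_lit 626), [nat_lit 5, nat_lit 4, nat_lit 3, nat_lit 2, nat_lit 5, nat_lit 3, nat_lit 2, nat_lit 2, nat_lit 4, nat_lit 3, nat_lit 2, nat_lit 0, nat_lit 1, nat_lit 0, nat_lit 2, nat_lit 2, nat_lit 0])))))))))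
 (.node (nat_lit 2420) (.node (nat_lit 2398) (.node (nat_lit 2387) (.node (nat_lit 2381) (.node (nat_lit 2378) (.node (nat_lit 2377) (.leaf ((nat_lit 1376), [nat_lit 5, nat_lit 1, nat_lit 3, nat_lit 2, nat_lit 5, nat_lit 3, nat_lit 0, nat_lit 3, nat_lit 0, nat_lit 4, nat_lit 0, nat_lit 1, nat_lit 0, nat_lit 1])) (.leaf ((nat_lit 188), [nat_lit 0, nat_lit 2, nat_lit 5, nat_lit 1, nat_lit 4, nat_lit 0, nat_lit 3, nat_lit 2, nat_lit 3, nat_lit 2, nat_lit 0, nat_lit 1, nat_lit 0, nat_lit 2, nat_lit 0, nat_lit 2]))) (.node (nat_lit 2379) (.leaf ((nat_lit 79), [nat_lit 4, nat_lit 5, nat_lit 2, nat_lit 3, nat_lit 4, nat_lit 3, nat_lit 0, nat_lit 3, nat_lit 1, nat_lit 0, nat_lit 2, nat_lit 0, nat_lit 2, nat_lit 2])) (.node (nat_lit 2380) (.leaf ((nat_lit 1265), [nat_lit 4, nat_lit 5, nat_lit 3, nat_lit 2, nat_lit 5, nat_lit 3, nat_lit 4, nat_lit 0, nat_lit 4, nat_lit 1, nat_lit 3, nat_lit 2,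 nat_lit 2, nat_lit 0, nat_lit 2, nat_lit 0, nat_lit 1])) (.leaf ((nat_lit 183), [nat_lit 4, nat_lit 0, nat_lit 5, nat_lit 2, nat_lit 5, nat_lit 1, nat_lit 0, nat_lit 2, nat_lit 0, nat_lit 2, nat_lit 4, nat_lit 0, nat_lit 1, nat_lit 0, nat_lit 1, nat_lit 0, nat_lit 2])))))
 (.node (nat_lit 2384) (.node (nat_lit 2382) (.leaf ((nat_lit 906), [nat_lit 3, nat_lit 2, nat_lit 3, nat_lit 5, nat_lit 1, nat_lit 3, nat_lit 1, nat_lit 3, nat_lit 0, nat_lit 3, nat_lit 0, nat_lit 2, nat_lit 0, nat_lit 2, nat_lit 2])) (.node (nat_lit 2383) (.leaf ((nat_lit 1047), [nat_lit 0, nat_lit 4, nat_lit 5, nat_lit 3, nat_lit 1, nat_lit 4, nat_lit 1, nat_lit 0])) (.leaf ((nat_lit 646), [nat_lit 5, nat_lit 4, nat_lit 3, nat_lit 5, nat_lit 2, nat_lit 5, nat_lit 2, nat_lit 0, nat_lit 3, nat_lit 1, nat_lit 4, nat_lit 0, nat_lit 1, nat_lit 0, nat_lit 2, nat_lit 2, nat_lit 0, nat_lit 1, nat_lit 0])))) (.node (nat_lit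 2385) (.leaf ((nat_lit 2), [nat_lit 4, nat_lit 3, nat_lit 5, nat_lit 0, nat_lit 4, nat_lit 1, nat_lit 3, nat_lit 1, nat_lit 3, nat_lit 2, nat_lit 2, nat_lit 0, nat_lit 1, nat_lit 0, nat_lit 2])) (.node (nat_lit 2386) (.leaf ((nat_lit 1213), [nat_lit 5, nat_lit 3, nat_lit 5, nat_lit 2, nat_lit 4, nat_lit 2, nat_lit 3, nat_lit 1, nat_lit 3, nat_lit 0, nat_lit 1, nat_lit 0, nat_lit 2, nat_lit 0, nat_lit 2])) (.leaf ((nat_lit 172), [nat_lit 0, nat_lit 1, nat_lit 5, nat_lit 3, nat_lit 1, nat_lit 4, nat_lit 2, nat_lit 4, nat_lit 3, nat_lit 2, nat_lit 0, nat_lit 1, nat_lit 0, nat_lit 2, nat_lit 0, nat_lit 2]))))))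
 (.node (nat_lit 2392) (.node (nat_lit 2389) (.node (nat_lit 2388) (.leaf ((nat_lit 777), [nat_lit 2, nat_lit 5, nat_lit 1, nat_lit 5, nat_lit 0, nat_lit 2, nat_lit 3, nat_lit 1, nat_lit 0, nat_lit 2, nat_lit 2])) (.leaf ((nat_lit 1010), [nat_lit 3, nat_lit 4, nat_lit 5, nat_lit 2, nat_lit 5, nat_lit 2, nat_lit 4, nat_lit 3, nat_lit 0, nat_lit 4, nat_lit 2, nat_lit 2, nat_lit 0, nat_lit 2, nat_lit 2, nat_lit 0, nat_lit 2, nat_lit 2]))) (.node (nat_lit 2390) (.leaf ((nat_lit 62), [nat_lit 3, nat_lit 2, nat_lit 0, nat_lit 5, nat_lit 4, nat_lit 2, nat_lit 3, nat_lit 1, nat_lit 0, nat_lit 2, nat_lit 2, nat_lit 0, nat_lit 2, nat_lit 2, nat_lit 0])) (.node (nat_lit 2391) (.leaf ((nat_lit 282), [nat_lit 4, nat_lit 5, nat_lit 1, nat_lit 5, nat_lit 2, nat_lit 4, nat_lit 3, nat_lit 0, nat_lit 3, nat_lit 2, nat_lit 0, nat_lit 2, nat_lit 0])) (.leaf ((nat_lit 643), [nat_lit 1, nat_lit 5, nat_lit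 3, nat_lit 5, nat_lit 3, nat_lit 4, nat_lit 3, nat_lit 0, nat_lit 3, nat_lit 2, nat_lit 0, nat_lit 2, nat_lit 0, nat_lit 1, nat_lit 0])))))
 (.node (nat_lit 2395) (.node (nat_lit 2393) (.leaf ((nat_lit 1186), [nat_lit 0, nat_lit 5, nat_lit 2, nat_lit 3, nat_lit 5, nat_lit 3, nat_lit 0, nat_lit 3, nat_lit 0, nat_lit 2, nat_lit 3, nat_lit 2, nat_lit 0, nat_lit 1, nat_lit 0, nat_lit 2, nat_lit 0])) (.node (nat_lit 2394) (.leaf ((nat_lit 635), [nat_lit 1, nat_lit 5, nat_lit 2, nat_lit 5, nat_lit 0, nat_lit 2, nat_lit 2, nat_lit 3, nat_lit 2, nat_lit 0, nat_lit 1, nat_lit 0, nat_lit 2, nat_lit 2])) (.leaf ((nat_lit 1119), [nat_lit 3, nat_lit 5, nat_lit 4, nat_lit 2, nat_lit 3, nat_lit 4, nat_lit 3, nat_lit 0, nat_lit 1, nat_lit 0, nat_lit 2, nat_lit 0])))) (.node (nat_lit 2396) (.leaf ((nat_lit 1354), [nat_lit 5, nat_lit 2, nat_lit 3, nat_lit 0, nat_lit 5, nat_lit 2, nat_lit 2, nat_lit 3,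 nat_lit 0])) (.node (nat_lit 2397) (.leaf ((nat_lit 673), [nat_lit 3, nat_lit 4, nat_lit 5, nat_lit 2, nat_lit 5, nat_lit 0, nat_lit 3, nat_lit 2, nat_lit 0, nat_lit 3, nat_lit 2, nat_lit 2])) (.leaf ((nat_lit 1377), [nat_lit 1, nat_lit 5, nat_lit 1, nat_lit 5, nat_lit 2, nat_lit 0, nat_lit 1, nat_lit 4, nat_lit 3, nat_lit 2, nat_lit 0, nat_lit 2, nat_lit 2, nat_lit 0, nat_lit 1, nat_lit 0])))))))
 (.node (nat_lit 2409) (.node (nat_lit 2403) (.node (nat_lit 2400) (.node (nat_lit 2399) (.leaf ((nat_lit 257), [nat_lit 5, nat_lit 1, nat_lit 0, nat_lit 3, nat_lit 5, nat_lit 2, nat_lit 2, nat_lit 0, nat_lit 3, nat_lit 1, nat_lit 0, nat_lit 1, nat_lit 0, nat_lit 2])) (.leaf ((nat_lit 1033), [nat_lit 5, nat_lit 2, nat_lit 2, nat_lit 0, nat_lit 5, nat_lit 4, nat_lit 2, nat_lit 2, nat_lit 4, nat_lit 1, nat_lit 0, nat_lit 3, nat_lit 2, nat_lit 2, nat_lit 0, nat_lit 2, nat_lit 2, nat_lit 0, nat_lit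 2, nat_lit 2]))) (.node (nat_lit 2401) (.leaf ((nat_lit 1378), [nat_lit 2, nat_lit 0, nat_lit 1, nat_lit 5, nat_lit 4, nat_lit 1, nat_lit 4, nat_lit 2, nat_lit 4, nat_lit 3, nat_lit 0, nat_lit 1, nat_lit 0])) (.node (nat_lit 2402) (.leaf ((nat_lit 1235), [nat_lit 0, nat_lit 2, nat_lit 5, nat_lit 3, nat_lit 5, nat_lit 4, nat_lit 1, nat_lit 0, nat_lit 3, nat_lit 2, nat_lit 3, nat_lit 2, nat_lit 0, nat_lit 2, nat_lit 2, nat_lit 0])) (.leaf ((nat_lit 1289), [nat_lit 4, nat_lit 2, nat_lit 5, nat_lit 3, nat_lit 5, nat_lit 3, nat_lit 0, nat_lit 3, nat_lit 1, nat_lit 4, nat_lit 0, nat_lit 2, nat_lit 0, nat_lit 2, nat_lit 2, nat_lit 0, nat_lit 1])))))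
 (.node (nat_lit 2406) (.node (nat_lit 2404) (.leaf ((nat_lit 1362), [nat_lit 5, nat_lit 4, nat_lit 3, nat_lit 5, nat_lit 2, nat_lit 5, nat_lit 0, nat_lit 3, nat_lit 0, nat_lit 2, nat_lit 3, nat_lit 2, nat_lit 2, nat_lit 0, nat_lit 2, nat_lit 2, nat_lit 0, nat_lit 2])) (.node (nat_lit 2405) (.leaf ((nat_lit 604), [nat_lit 5, nat_lit 0, nat_lit 5, nat_lit 3, nat_lit 4, nat_lit 1, nat_lit 3, nat_lit 0, nat_lit 3, nat_lit 1, nat_lit 0, nat_lit 2, nat_lit 0, nat_lit 2])) (.leaf ((nat_lit 1183), [nat_lit 0, nat_lit 4, nat_lit 2, nat_lit 0, nat_lit 5, nat_lit 3, nat_lit 4, nat_lit 1, nat_lit 0, nat_lit 4, nat_lit 2, nat_lit 2, nat_lit 0, nat_lit 2, nat_lit 2, nat_lit 0, nat_lit 2])))) (.node (nat_lit 2407) (.leaf ((nat_lit 1379), [nat_lit 4, nat_lit 5, nat_lit 3, nat_lit 5, nat_lit 3, nat_lit 0, nat_lit 4, nat_lit 0, nat_lit 4, nat_lit 0, nat_lit 2, nat_lit 0, nat_lit 2, nat_lit 2, nat_lit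 0, nat_lit 2])) (.node (nat_lit 2408) (.leaf ((nat_lit 1214), [nat_lit 5, nat_lit 1, nat_lit 3, nat_lit 0, nat_lit 5, nat_lit 3, nat_lit 0, nat_lit 1, nat_lit 0, nat_lit 3, nat_lit 1, nat_lit 0, nat_lit 2, nat_lit 0, nat_lit 1, nat_lit 0])) (.leaf ((nat_lit 592), [nat_lit 3, nat_lit 5, nat_lit 3, nat_lit 0, nat_lit 5, nat_lit 3, nat_lit 2, nat_lit 4, nat_lit 3, nat_lit 2, nat_lit 3, nat_lit 1, nat_lit 0, nat_lit 1]))))))
 (.node (nat_lit 2414) (.node (nat_lit 2411) (.node (nat_lit 2410) (.leaf ((nat_lit 1369), [nat_lit 3, nat_lit 1, nat_lit 5, nat_lit 0, nat_lit 5, nat_lit 2, nat_lit 4, nat_lit 0, nat_lit 3, nat_lit 4, nat_lit 2, nat_lit 2, nat_lit 0])) (.leaf ((nat_lit 1257), [nat_lit 0, nat_lit 5, nat_lit 3, nat_lit 0, nat_lit 5, nat_lit 0, nat_lit 2, nat_lit 3, nat_lit 1, nat_lit 3, nat_lit 0, nat_lit 2, nat_lit 2]))) (.node (nat_lit 2412) (.leaf ((nat_lit 56), [nat_lit 4, nat_lit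 3, nat_lit 0, nat_lit 5, nat_lit 2, nat_lit 0, nat_lit 1, nat_lit 4, nat_lit 3, nat_lit 0, nat_lit 2, nat_lit 0, nat_lit 2, nat_lit 2, nat_lit 0, nat_lit 2])) (.node (nat_lit 2413) (.leaf ((nat_lit 1380), [nat_lit 2, nat_lit 4, nat_lit 5, nat_lit 2, nat_lit 0, nat_lit 5, nat_lit 0, nat_lit 2, nat_lit 4, nat_lit 2, nat_lit 4, nat_lit 1, nat_lit 0, nat_lit 2, nat_lit 0, nat_lit 2, nat_lit 2, nat_lit 0])) (.leaf ((nat_lit 256), [nat_lit 4, nat_lit 1, nat_lit 5, nat_lit 3, nat_lit 5, nat_lit 2, nat_lit 4, nat_lit 1, nat_lit 4, nat_lit 1, nat_lit 3])))))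
 (.node (nat_lit 2417) (.node (nat_lit 2415) (.leaf ((nat_lit 809), [nat_lit 1, nat_lit 5, nat_lit 1, nat_lit 5, nat_lit 4, nat_lit 1, nat_lit 3, nat_lit 0, nat_lit 3, nat_lit 2, nat_lit 0, nat_lit 2, nat_lit 2, nat_lit 0, nat_lit 2])) (.node (nat_lit 2416) (.leaf ((nat_lit 1381), [nat_lit 5, nat_lit 2, nat_lit 5, nat_lit 1, nat_lit 3, nat_lit 0, nat_lit 1, nat_lit 4, nat_lit 0, nat_lit 2, nat_lit 2, nat_lit 0, nat_lit 1])) (.leaf ((nat_lit 239), [nat_lit 4, nat_lit 5, nat_lit 3, nat_lit 5, nat_lit 0, nat_lit 4, nat_lit 0, nat_lit 4, nat_lit 2, nat_lit 2, nat_lit 0, nat_lit 1, nat_lit 0])))) (.node (nat_lit 2418) (.leaf ((nat_lit 1044), [nat_lit 4, nat_lit 2, nat_lit 5, nat_lit 3, nat_lit 5, nat_lit 2, nat_lit 3, nat_lit 2, nat_lit 4, nat_lit 3, nat_lit 2, nat_lit 0, nat_lit 2, nat_lit 0, nat_lit 1, nat_lit 0, nat_lit 1])) (.node (nat_lit 2419) (.leaf ((nat_lit 364), [nat_lit 2, nat_lit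 2, nat_lit 0, nat_lit 5, nat_lit 2, nat_lit 4, nat_lit 2, nat_lit 0, nat_lit 2, nat_lit 3, nat_lit 0, nat_lit 2, nat_lit 2])) (.leaf ((nat_lit 1192), [nat_lit 5, nat_lit 2, nat_lit 5, nat_lit 0, nat_lit 2, nat_lit 4, nat_lit 3, nat_lit 2, nat_lit 0, nat_lit 2, nat_lit 0, nat_lit 1, nat_lit 0, nat_lit 1, nat_lit 0]))))))))
 (.node (nat_lit 2442) (.node (nat_lit 2431) (.node (nat_lit 2425) (.node (nat_lit 2422) (.node (nat_lit 2421) (.leaf ((nat_lit 817), [nat_lit 5, nat_lit 4, nat_lit 5, nat_lit 3, nat_lit 5, nat_lit 3, nat_lit 4, nat_lit 1, nat_lit 3, nat_lit 0, nat_lit 3, nat_lit 1, nat_lit 0, nat_lit 1, nat_lit 0, nat_lit 2])) (.leaf ((nat_lit 1013), [nat_lit 4, nat_lit 5, nat_lit 1, nat_lit 5, nat_lit 4, nat_lit 0, nat_lit 3, nat_lit 0, nat_lit 1, nat_lit 4, nat_lit 2, nat_lit 0, nat_lit 1, nat_lit 0]))) (.node (nat_lit 2423) (.leaf ((nat_lit 784), [nat_lit 4, nat_lit 5, nat_lit 1,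 nat_lit 5, nat_lit 3, nat_lit 4, nat_lit 0, nat_lit 4, nat_lit 3, nat_lit 2, nat_lit 0, nat_lit 1, nat_lit 0, nat_lit 1, nat_lit 0, nat_lit 2])) (.node (nat_lit 2424) (.leaf ((nat_lit 666), [nat_lit 0, nat_lit 5, nat_lit 2, nat_lit 3, nat_lit 5, nat_lit 3, nat_lit 1, nat_lit 4, nat_lit 0, nat_lit 4, nat_lit 3, nat_lit 2, nat_lit 2, nat_lit 0, nat_lit 1, nat_lit 0])) (.leaf ((nat_lit 857), [nat_lit 2, nat_lit 5, nat_lit 3, nat_lit 5, nat_lit 4, nat_lit 0, nat_lit 2, nat_lit 4, nat_lit 0, nat_lit 2, nat_lit 0, nat_lit 1, nat_lit 0])))))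
 (.node (nat_lit 2428) (.node (nat_lit 2426) (.leaf ((nat_lit 945), [nat_lit 0, nat_lit 1, nat_lit 5, nat_lit 4, nat_lit 0, nat_lit 1, nat_lit 4, nat_lit 3, nat_lit 0, nat_lit 2, nat_lit 2, nat_lit 0])) (.node (nat_lit 2427) (.leaf ((nat_lit 1211), [nat_lit 2, nat_lit 4, nat_lit 0, nat_lit 5, nat_lit 4, nat_lit 0, nat_lit 1, nat_lit 4, nat_lit 3, nat_lit 0, nat_lit 1, nat_lit 0, nat_lit 2, nat_lit 0, nat_lit 2, nat_lit 2, nat_lit 0])) (.leaf ((nat_lit 1286), [nat_lit 5, nat_lit 4, nat_lit 5, nat_lit 3, nat_lit 2, nat_lit 4, nat_lit 2, nat_lit 3, nat_lit 0, nat_lit 2, nat_lit 2, nat_lit 0, nat_lit 2, nat_lit 2, nat_lit 0])))) (.node (nat_lit 2429) (.leaf ((nat_lit 1321), [nat_lit 3, nat_lit 2, nat_lit 5, nat_lit 1, nat_lit 3, nat_lit 1, nat_lit 3, nat_lit 4, nat_lit 0, nat_lit 2, nat_lit 2, nat_lit 0, nat_lit 2, nat_lit 0, nat_lit 1, nat_lit 0])) (.node (nat_lit 2430) (.leaf ((nat_lit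 224), [nat_lit 3, nat_lit 5, nat_lit 1, nat_lit 3, nat_lit 0, nat_lit 5, nat_lit 3, nat_lit 2, nat_lit 0, nat_lit 4, nat_lit 1, nat_lit 4, nat_lit 1])) (.leaf ((nat_lit 71), [nat_lit 4, nat_lit 1, nat_lit 5, nat_lit 3, nat_lit 5, nat_lit 2, nat_lit 4, nat_lit 0, nat_lit 4, nat_lit 3, nat_lit 0, nat_lit 2, nat_lit 0, nat_lit 1, nat_lit 0]))))))
 (.node (nat_lit 2436) (.node (nat_lit 2433) (.node (nat_lit 2432) (.leaf ((nat_lit 1111), [nat_lit 3, nat_lit 1, nat_lit 5, nat_lit 0, nat_lit 5, nat_lit 0, nat_lit 4, nat_lit 0, nat_lit 1, nat_lit 4, nat_lit 3, nat_lit 0, nat_lit 2, nat_lit 2, nat_lit 0, nat_lit 2, nat_lit 0, nat_lit 1])) (.leaf ((nat_lit 564), [nat_lit 4, nat_lit 3, nat_lit 5, nat_lit 2, nat_lit 5, nat_lit 4, nat_lit 1, nat_lit 0, nat_lit 3, nat_lit 4, nat_lit 2, nat_lit 2, nat_lit 0]))) (.node (nat_lit 2434) (.leaf ((nat_lit 119), [nat_lit 4, nat_lit 1, nat_lit 5, nat_lit 3,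 nat_lit 5, nat_lit 3, nat_lit 0, nat_lit 2, nat_lit 2, nat_lit 3, nat_lit 1, nat_lit 0, nat_lit 2, nat_lit 0, nat_lit 1, nat_lit 0])) (.node (nat_lit 2435) (.leaf ((nat_lit 263), [nat_lit 3, nat_lit 2, nat_lit 3, nat_lit 5, nat_lit 2, nat_lit 4, nat_lit 2, nat_lit 2, nat_lit 4, nat_lit 3, nat_lit 0, nat_lit 1, nat_lit 0, nat_lit 1, nat_lit 0])) (.leaf ((nat_lit 356), [nat_lit 2, nat_lit 5, nat_lit 0, nat_lit 1, nat_lit 5, nat_lit 1, nat_lit 0, nat_lit 1, nat_lit 0, nat_lit 3, nat_lit 0, nat_lit 2, nat_lit 2, nat_lit 0, nat_lit 1])))))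
 (.node (nat_lit 2439) (.node (nat_lit 2437) (.leaf ((nat_lit 1159), [nat_lit 5, nat_lit 4, nat_lit 2, nat_lit 0, nat_lit 5, nat_lit 3, nat_lit 2, nat_lit 3, nat_lit 2, nat_lit 4, nat_lit 2, nat_lit 0, nat_lit 2, nat_lit 2, nat_lit 0, nat_lit 1])) (.node (nat_lit 2438) (.leaf ((nat_lit 260), [nat_lit 4, nat_lit 5, nat_lit 2, nat_lit 3, nat_lit 5, nat_lit 0, nat_lit 4, nat_lit 1, nat_lit 0])) (.leaf ((nat_lit 216), [nat_lit 5, nat_lit 4, nat_lit 2, nat_lit 0, nat_lit 5, nat_lit 0, nat_lit 2, nat_lit 4, nat_lit 3, nat_lit 2, nat_lit 3, nat_lit 1, nat_lit 0, nat_lit 1, nat_lit 0, nat_lit 2])))) (.node (nat_lit 2440) (.leaf ((nat_lit 1382), [nat_lit 3, nat_lit 5, nat_lit 2, nat_lit 5, nat_lit 3, nat_lit 4, nat_lit 3, nat_lit 0, nat_lit 3, nat_lit 2, nat_lit 0, nat_lit 2])) (.node (nat_lit 2441) (.leaf ((nat_lit 950), [nat_lit 5, nat_lit 4, nat_lit 3, nat_lit 5, nat_lit 2, nat_lit 5, nat_lit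 4, nat_lit 1, nat_lit 4, nat_lit 2, nat_lit 4, nat_lit 2, nat_lit 0, nat_lit 1, nat_lit 0, nat_lit 2])) (.leaf ((nat_lit 1383), [nat_lit 5, nat_lit 1, nat_lit 0, nat_lit 2, nat_lit 5, nat_lit 0, nat_lit 4, nat_lit 0, nat_lit 4, nat_lit 0, nat_lit 2, nat_lit 0, nat_lit 2, nat_lit 0])))))))
 (.node (nat_lit 2453) (.node (nat_lit 2447) (.node (nat_lit 2444) (.node (nat_lit 2443) (.leaf ((nat_lit 1285), [nat_lit 4, nat_lit 3, nat_lit 5, nat_lit 0, nat_lit 5, nat_lit 3, nat_lit 4, nat_lit 0, nat_lit 2, nat_lit 2, nat_lit 3, nat_lit 0, nat_lit 2, nat_lit 0, nat_lit 2, nat_lit 0])) (.leaf ((nat_lit 1384), [nat_lit 5, nat_lit 2, nat_lit 5, nat_lit 2, nat_lit 4, nat_lit 1, nat_lit 4, nat_lit 1, nat_lit 3, nat_lit 1, nat_lit 0, nat_lit 2, nat_lit 0, nat_lit 2]))) (.node (nat_lit 2445) (.leaf ((nat_lit 1383), [nat_lit 4, nat_lit 3, nat_lit 0, nat_lit 5, nat_lit 1, nat_lit 4, nat_lit 0, nat_lit 1,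 nat_lit 0, nat_lit 3, nat_lit 2, nat_lit 0, nat_lit 2, nat_lit 0])) (.node (nat_lit 2446) (.leaf ((nat_lit 760), [nat_lit 4, nat_lit 3, nat_lit 5, nat_lit 2, nat_lit 5, nat_lit 2, nat_lit 4, nat_lit 2, nat_lit 0, nat_lit 2, nat_lit 3, nat_lit 0, nat_lit 2, nat_lit 0, nat_lit 2, nat_lit 2])) (.leaf ((nat_lit 873), [nat_lit 1, nat_lit 0, nat_lit 3, nat_lit 5, nat_lit 3, nat_lit 2, nat_lit 0, nat_lit 3, nat_lit 2, nat_lit 0, nat_lit 1, nat_lit 0])))))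
 (.node (nat_lit 2450) (.node (nat_lit 2448) (.leaf ((nat_lit 371), [nat_lit 1, nat_lit 3, nat_lit 2, nat_lit 5, nat_lit 2, nat_lit 4, nat_lit 3, nat_lit 0, nat_lit 3, nat_lit 1, nat_lit 0, nat_lit 2, nat_lit 2, nat_lit 0, nat_lit 2])) (.node (nat_lit 2449) (.leaf ((nat_lit 1337), [nat_lit 2, nat_lit 5, nat_lit 4, nat_lit 2, nat_lit 4, nat_lit 0, nat_lit 1, nat_lit 0, nat_lit 3, nat_lit 0, nat_lit 1, nat_lit 0, nat_lit 1, nat_lit 0])) (.leaf ((nat_lit 39), [nat_lit 5, nat_lit 0, nat_lit 1, nat_lit 5, nat_lit 3, nat_lit 2, nat_lit 4, nat_lit 2, nat_lit 4, nat_lit 1, nat_lit 0, nat_lit 2, nat_lit 0, nat_lit 2, nat_lit 0])))) (.node (nat_lit 2451) (.leaf ((nat_lit 1282), [nat_lit 5, nat_lit 0, nat_lit 3, nat_lit 5, nat_lit 2, nat_lit 4, nat_lit 0, nat_lit 4, nat_lit 3, nat_lit 1, nat_lit 0, nat_lit 2, nat_lit 2, nat_lit 0, nat_lit 2, nat_lit 0])) (.node (nat_lit 2452) (.leaf ((nat_lit 1385),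 [nat_lit 3, nat_lit 5, nat_lit 0, nat_lit 3, nat_lit 5, nat_lit 3, nat_lit 1, nat_lit 3, nat_lit 0, nat_lit 4, nat_lit 2, nat_lit 0, nat_lit 1, nat_lit 0, nat_lit 1])) (.leaf ((nat_lit 177), [nat_lit 2, nat_lit 5, nat_lit 1, nat_lit 5, nat_lit 1, nat_lit 4, nat_lit 2, nat_lit 4, nat_lit 0, nat_lit 1, nat_lit 0, nat_lit 2, nat_lit 0, nat_lit 2, nat_lit 2]))))))
 (.node (nat_lit 2458) (.node (nat_lit 2455) (.node (nat_lit 2454) (.leaf ((nat_lit 1005), [nat_lit 4, nat_lit 0, nat_lit 5, nat_lit 3, nat_lit 1, nat_lit 3, nat_lit 4, nat_lit 3, nat_lit 0])) (.leaf ((nat_lit 903), [nat_lit 0, nat_lit 5, nat_lit 2, nat_lit 3, nat_lit 5, nat_lit 4, nat_lit 3, nat_lit 1, nat_lit 3, nat_lit 0, nat_lit 2, nat_lit 0, nat_lit 2, nat_lit 2, nat_lit 0, nat_lit 2]))) (.node (nat_lit 2456) (.leaf ((nat_lit 1296), [nat_lit 5, nat_lit 2, nat_lit 5, nat_lit 1, nat_lit 3, nat_lit 4, nat_lit 3, nat_lit 0, nat_lit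 3, nat_lit 2, nat_lit 0, nat_lit 2, nat_lit 2])) (.node (nat_lit 2457) (.leaf ((nat_lit 83), [nat_lit 5, nat_lit 4, nat_lit 5, nat_lit 2, nat_lit 5, nat_lit 2, nat_lit 3, nat_lit 4, nat_lit 0, nat_lit 2, nat_lit 4, nat_lit 1, nat_lit 0, nat_lit 2, nat_lit 2, nat_lit 0, nat_lit 1, nat_lit 0])) (.leaf ((nat_lit 1195), [nat_lit 4, nat_lit 3, nat_lit 5, nat_lit 2, nat_lit 5, nat_lit 3, nat_lit 4, nat_lit 1, nat_lit 4, nat_lit 3, nat_lit 0, nat_lit 1, nat_lit 0, nat_lit 1, nat_lit 0, nat_lit 2])))))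
 (.node (nat_lit 2461) (.node (nat_lit 2459) (.leaf ((nat_lit 73), [nat_lit 3, nat_lit 5, nat_lit 0, nat_lit 3, nat_lit 5, nat_lit 3, nat_lit 1, nat_lit 3, nat_lit 1, nat_lit 3, nat_lit 2, nat_lit 0, nat_lit 1, nat_lit 0, nat_lit 1])) (.node (nat_lit 2460) (.leaf ((nat_lit 1272), [nat_lit 4, nat_lit 0, nat_lit 5, nat_lit 0, nat_lit 3, nat_lit 2, nat_lit 4, nat_lit 2, nat_lit 0, nat_lit 2, nat_lit 2, nat_lit 0])) (.leaf ((nat_lit 558), [nat_lit 3, nat_lit 0, nat_lit 5, nat_lit 1, nat_lit 4, nat_lit 1, nat_lit 4, nat_lit 3, nat_lit 2, nat_lit 0, nat_lit 2, nat_lit 0])))) (.node (nat_lit 2462) (.leaf ((nat_lit 1180), [nat_lit 2, nat_lit 0, nat_lit 2, nat_lit 5, nat_lit 0, nat_lit 4, nat_lit 1, nat_lit 0, nat_lit 3])) (.node (nat_lit 2463) (.leaf ((nat_lit 812), [nat_lit 3, nat_lit 1, nat_lit 3, nat_lit 0, nat_lit 5, nat_lit 4, nat_lit 0, nat_lit 4, nat_lit 2, nat_lit 0, nat_lit 3, nat_lit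 1, nat_lit 0, nat_lit 2, nat_lit 0, nat_lit 2, nat_lit 2])) (.leaf ((nat_lit 131), [nat_lit 4, nat_lit 5, nat_lit 3, nat_lit 5, nat_lit 0, nat_lit 2, nat_lit 3, nat_lit 2, nat_lit 3, nat_lit 2, nat_lit 0, nat_lit 1]))))))))))
noncomputable def bWd_14 : Tr (ℕ × List ℕ) := (.node (nat_lit 2552) (.node (nat_lit 2508) (.node (nat_lit 2486) (.node (nat_lit 2475) (.node (nat_lit 2469) (.node (nat_lit 2466) (.node (nat_lit 2465) (.leaf ((nat_lit 538), [nat_lit 4, nat_lit 1, nat_lit 5, nat_lit 3, nat_lit 5, nat_lit 1, nat_lit 0, nat_lit 3, nat_lit 2, nat_lit 3, nat_lit 2, nat_lit 0, nat_lit 2, nat_lit 0, nat_lit 1])) (.leaf ((nat_lit 550), [nat_lit 5, nat_lit 4, nat_lit 2, nat_lit 5, nat_lit 3, nat_lit 4, nat_lit 2, nat_lit 4, nat_lit 3, nat_lit 1, nat_lit 0, nat_lit 1, nat_lit 0, nat_lit 2]))) (.node (nat_lit 2467) (.leaf ((nat_lit 629), [nat_lit 2, nat_lit 3, nat_lit 0, nat_lit 5, nat_lit 2,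 nat_lit 3, nat_lit 1, nat_lit 3, nat_lit 4, nat_lit 0, nat_lit 2, nat_lit 0, nat_lit 2, nat_lit 2, nat_lit 0])) (.node (nat_lit 2468) (.leaf ((nat_lit 1341), [nat_lit 2, nat_lit 5, nat_lit 1, nat_lit 5, nat_lit 3, nat_lit 2, nat_lit 0, nat_lit 4, nat_lit 0, nat_lit 1, nat_lit 0, nat_lit 2, nat_lit 2, nat_lit 0, nat_lit 1, nat_lit 0])) (.leaf ((nat_lit 1161), [nat_lit 4, nat_lit 0, nat_lit 5, nat_lit 4, nat_lit 3, nat_lit 1, nat_lit 4, nat_lit 2, nat_lit 0, nat_lit 2, nat_lit 0])))))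
 (.node (nat_lit 2472) (.node (nat_lit 2470) (.leaf ((nat_lit 1316), [nat_lit 5, nat_lit 4, nat_lit 5, nat_lit 3, nat_lit 5, nat_lit 1, nat_lit 3, nat_lit 4, nat_lit 2, nat_lit 3, nat_lit 0, nat_lit 2, nat_lit 0, nat_lit 2, nat_lit 2, nat_lit 0])) (.node (nat_lit 2471) (.leaf ((nat_lit 831), [nat_lit 4, nat_lit 3, nat_lit 0, nat_lit 5, nat_lit 4, nat_lit 2, nat_lit 0, nat_lit 2, nat_lit 3, nat_lit 1, nat_lit 0, nat_lit 1, nat_lit 0, nat_lit 2, nat_lit 0])) (.leaf ((nat_lit 818), [nat_lit 1, nat_lit 3, nat_lit 2, nat_lit 5, nat_lit 3, nat_lit 2, nat_lit 3, nat_lit 2, nat_lit 2, nat_lit 3, nat_lit 2, nat_lit 2, nat_lit 0, nat_lit 2, nat_lit 2, nat_lit 0])))) (.node (nat_lit 2473) (.leaf ((nat_lit 631), [nat_lit 5, nat_lit 4, nat_lit 2, nat_lit 0, nat_lit 5, nat_lit 3, nat_lit 2, nat_lit 4, nat_lit 2, nat_lit 4, nat_lit 2, nat_lit 0, nat_lit 1, nat_lit 0])) (.node (nat_lit 2474) (.leaf ((nat_lit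 1342), [nat_lit 3, nat_lit 5, nat_lit 2, nat_lit 5, nat_lit 2, nat_lit 4, nat_lit 0, nat_lit 4, nat_lit 3, nat_lit 0, nat_lit 1, nat_lit 0, nat_lit 2, nat_lit 0, nat_lit 2, nat_lit 2])) (.leaf ((nat_lit 994), [nat_lit 4, nat_lit 1, nat_lit 5, nat_lit 0, nat_lit 5, nat_lit 3, nat_lit 4, nat_lit 0, nat_lit 3, nat_lit 2, nat_lit 0, nat_lit 2, nat_lit 0]))))))
 (.node (nat_lit 2480) (.node (nat_lit 2477) (.node (nat_lit 2476) (.leaf ((nat_lit 1361), [nat_lit 3, nat_lit 5, nat_lit 2, nat_lit 3, nat_lit 0, nat_lit 5, nat_lit 2, nat_lit 2, nat_lit 0, nat_lit 4, nat_lit 0])) (.leaf ((nat_lit 1345), [nat_lit 0, nat_lit 2, nat_lit 4, nat_lit 0, nat_lit 5, nat_lit 3, nat_lit 0, nat_lit 4, nat_lit 2, nat_lit 0, nat_lit 2, nat_lit 2, nat_lit 0, nat_lit 2, nat_lit 0]))) (.node (nat_lit 2478) (.leaf ((nat_lit 539), [nat_lit 5, nat_lit 2, nat_lit 5, nat_lit 2, nat_lit 4, nat_lit 3, nat_lit 2, nat_lit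 3, nat_lit 0, nat_lit 1, nat_lit 0, nat_lit 2, nat_lit 2, nat_lit 0, nat_lit 2])) (.node (nat_lit 2479) (.leaf ((nat_lit 1024), [nat_lit 2, nat_lit 0, nat_lit 2, nat_lit 5, nat_lit 1, nat_lit 0, nat_lit 1, nat_lit 0, nat_lit 3, nat_lit 1, nat_lit 0, nat_lit 2, nat_lit 0, nat_lit 2, nat_lit 0])) (.leaf ((nat_lit 973), [nat_lit 5, nat_lit 2, nat_lit 4, nat_lit 0, nat_lit 5, nat_lit 4, nat_lit 2, nat_lit 3, nat_lit 0, nat_lit 3, nat_lit 1, nat_lit 0, nat_lit 1, nat_lit 0, nat_lit 2])))))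
 (.node (nat_lit 2483) (.node (nat_lit 2481) (.leaf ((nat_lit 1370), [nat_lit 3, nat_lit 4, nat_lit 3, nat_lit 5, nat_lit 3, nat_lit 4, nat_lit 2, nat_lit 0, nat_lit 2, nat_lit 3, nat_lit 0, nat_lit 2, nat_lit 2, nat_lit 0])) (.node (nat_lit 2482) (.leaf ((nat_lit 1343), [nat_lit 4, nat_lit 5, nat_lit 3, nat_lit 0, nat_lit 5, nat_lit 1, nat_lit 0, nat_lit 4, nat_lit 1, nat_lit 4, nat_lit 1, nat_lit 0, nat_lit 1, nat_lit 0, nat_lit 2, nat_lit 0, nat_lit 2, nat_lit 0])) (.leaf ((nat_lit 931), [nat_lit 3, nat_lit 1, nat_lit 3, nat_lit 0, nat_lit 5, nat_lit 1, nat_lit 4, nat_lit 3, nat_lit 1, nat_lit 0, nat_lit 4, nat_lit 0, nat_lit 1, nat_lit 0, nat_lit 2, nat_lit 0, nat_lit 2, nat_lit 0])))) (.node (nat_lit 2484) (.leaf ((nat_lit 995), [nat_lit 2, nat_lit 4, nat_lit 0, nat_lit 5, nat_lit 2, nat_lit 4, nat_lit 2, nat_lit 3, nat_lit 0, nat_lit 2, nat_lit 2, nat_lit 0, nat_lit 1, nat_lit 0,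 nat_lit 2])) (.node (nat_lit 2485) (.leaf ((nat_lit 953), [nat_lit 5, nat_lit 3, nat_lit 0, nat_lit 5, nat_lit 4, nat_lit 3, nat_lit 2, nat_lit 4, nat_lit 0, nat_lit 2, nat_lit 2, nat_lit 0, nat_lit 1, nat_lit 0])) (.leaf ((nat_lit 1358), [nat_lit 3, nat_lit 1, nat_lit 5, nat_lit 2, nat_lit 5, nat_lit 4, nat_lit 2, nat_lit 3, nat_lit 2, nat_lit 3, nat_lit 0, nat_lit 1, nat_lit 0])))))))
 (.node (nat_lit 2497) (.node (nat_lit 2491) (.node (nat_lit 2488) (.node (nat_lit 2487) (.leaf ((nat_lit 1157), [nat_lit 3, nat_lit 5, nat_lit 2, nat_lit 5, nat_lit 1, nat_lit 4, nat_lit 1, nat_lit 4, nat_lit 3, nat_lit 0, nat_lit 2, nat_lit 0, nat_lit 1, nat_lit 0, nat_lit 1, nat_lit 0])) (.leaf ((nat_lit 503), [nat_lit 5, nat_lit 2, nat_lit 3, nat_lit 5, nat_lit 3, nat_lit 4, nat_lit 0, nat_lit 4, nat_lit 3, nat_lit 2]))) (.node (nat_lit 2489) (.leaf ((nat_lit 362), [nat_lit 1, nat_lit 0, nat_lit 5,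 nat_lit 3, nat_lit 5, nat_lit 4, nat_lit 1, nat_lit 3, nat_lit 0, nat_lit 1, nat_lit 4, nat_lit 0, nat_lit 1, nat_lit 0, nat_lit 2, nat_lit 0, nat_lit 2])) (.node (nat_lit 2490) (.leaf ((nat_lit 354), [nat_lit 4, nat_lit 2, nat_lit 5, nat_lit 1, nat_lit 5, nat_lit 0, nat_lit 1, nat_lit 4, nat_lit 3, nat_lit 2, nat_lit 2, nat_lit 0, nat_lit 2, nat_lit 2, nat_lit 0, nat_lit 2, nat_lit 0])) (.leaf ((nat_lit 922), [nat_lit 4, nat_lit 5, nat_lit 2, nat_lit 3, nat_lit 5, nat_lit 0, nat_lit 4, nat_lit 2, nat_lit 3, nat_lit 1, nat_lit 3, nat_lit 1, nat_lit 0, nat_lit 1, nat_lit 0, nat_lit 2, nat_lit 2, nat_lit 0])))))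
 (.node (nat_lit 2494) (.node (nat_lit 2492) (.leaf ((nat_lit 1331), [nat_lit 2, nat_lit 0, nat_lit 2, nat_lit 5, nat_lit 3, nat_lit 4, nat_lit 3, nat_lit 2, nat_lit 3, nat_lit 0, nat_lit 2, nat_lit 0, nat_lit 2, nat_lit 2, nat_lit 0])) (.node (nat_lit 2493) (.leaf ((nat_lit 610), [nat_lit 4, nat_lit 5, nat_lit 2, nat_lit 3, nat_lit 5, nat_lit 4, nat_lit 1, nat_lit 3, nat_lit 0, nat_lit 3, nat_lit 0, nat_lit 2, nat_lit 2, nat_lit 0, nat_lit 1])) (.leaf ((nat_lit 344), [nat_lit 1, nat_lit 5, nat_lit 1, nat_lit 5, nat_lit 4, nat_lit 3, nat_lit 1])))) (.node (nat_lit 2495) (.leaf ((nat_lit 318), [nat_lit 5, nat_lit 2, nat_lit 4, nat_lit 0, nat_lit 5, nat_lit 1, nat_lit 3, nat_lit 0, nat_lit 3, nat_lit 1, nat_lit 0, nat_lit 2, nat_lit 2, nat_lit 0, nat_lit 1])) (.node (nat_lit 2496) (.leaf ((nat_lit 660), [nat_lit 0, nat_lit 3, nat_lit 5, nat_lit 4, nat_lit 3, nat_lit 2, nat_lit 4, nat_lit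 3, nat_lit 0, nat_lit 1, nat_lit 0, nat_lit 2, nat_lit 2])) (.leaf ((nat_lit 935), [nat_lit 0, nat_lit 2, nat_lit 5, nat_lit 2, nat_lit 3, nat_lit 4, nat_lit 2, nat_lit 3, nat_lit 2, nat_lit 2, nat_lit 0, nat_lit 2, nat_lit 0, nat_lit 1, nat_lit 0]))))))
 (.node (nat_lit 2502) (.node (nat_lit 2499) (.node (nat_lit 2498) (.leaf ((nat_lit 1066), [nat_lit 5, nat_lit 1, nat_lit 5, nat_lit 0, nat_lit 5, nat_lit 4, nat_lit 1, nat_lit 4, nat_lit 3, nat_lit 2, nat_lit 2, nat_lit 0, nat_lit 2, nat_lit 2, nat_lit 0, nat_lit 2, nat_lit 2, nat_lit 0])) (.leaf ((nat_lit 1386), [nat_lit 1, nat_lit 0, nat_lit 2, nat_lit 5, nat_lit 3, nat_lit 2, nat_lit 4, nat_lit 0, nat_lit 4, nat_lit 0, nat_lit 2, nat_lit 2, nat_lit 0, nat_lit 1, nat_lit 0, nat_lit 2]))) (.node (nat_lit 2500) (.leaf ((nat_lit 1151), [nat_lit 0, nat_lit 4, nat_lit 5, nat_lit 2, nat_lit 0, nat_lit 2, nat_lit 4, nat_lit 0, nat_lit 2,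 nat_lit 2, nat_lit 0, nat_lit 1, nat_lit 0])) (.node (nat_lit 2501) (.leaf ((nat_lit 1098), [nat_lit 2, nat_lit 3, nat_lit 0, nat_lit 5, nat_lit 4, nat_lit 2, nat_lit 3, nat_lit 0, nat_lit 2, nat_lit 0, nat_lit 2, nat_lit 2, nat_lit 0, nat_lit 2])) (.leaf ((nat_lit 1262), [nat_lit 3, nat_lit 5, nat_lit 1, nat_lit 3, nat_lit 0, nat_lit 5, nat_lit 4, nat_lit 3, nat_lit 2, nat_lit 4, nat_lit 2, nat_lit 3, nat_lit 2, nat_lit 0, nat_lit 2])))))
 (.node (nat_lit 2505) (.node (nat_lit 2503) (.leaf ((nat_lit 1324), [nat_lit 5, nat_lit 0, nat_lit 4, nat_lit 5, nat_lit 1, nat_lit 0, nat_lit 1, nat_lit 4, nat_lit 3, nat_lit 1])) (.node (nat_lit 2504) (.leaf ((nat_lit 821), [nat_lit 5, nat_lit 2, nat_lit 0, nat_lit 5, nat_lit 2, nat_lit 3, nat_lit 0, nat_lit 2, nat_lit 4, nat_lit 3, nat_lit 2, nat_lit 0, nat_lit 2, nat_lit 0])) (.leaf ((nat_lit 651), [nat_lit 4, nat_lit 1, nat_lit 4, nat_lit 0, nat_lit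 1, nat_lit 0, nat_lit 2, nat_lit 0, nat_lit 2, nat_lit 0])))) (.node (nat_lit 2506) (.leaf ((nat_lit 1197), [nat_lit 3, nat_lit 5, nat_lit 2, nat_lit 5, nat_lit 0, nat_lit 1, nat_lit 3, nat_lit 4, nat_lit 1, nat_lit 3, nat_lit 1, nat_lit 0, nat_lit 2, nat_lit 0, nat_lit 1])) (.node (nat_lit 2507) (.leaf ((nat_lit 1271), [nat_lit 4, nat_lit 5, nat_lit 2, nat_lit 5, nat_lit 0, nat_lit 2, nat_lit 4, nat_lit 0, nat_lit 2, nat_lit 2])) (.leaf ((nat_lit 521), [nat_lit 3, nat_lit 2, nat_lit 5, nat_lit 1, nat_lit 4, nat_lit 1, nat_lit 3, nat_lit 4, nat_lit 2, nat_lit 2, nat_lit 0, nat_lit 2, nat_lit 2, nat_lit 0, nat_lit 2, nat_lit 0]))))))))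
 (.node (nat_lit 2530) (.node (nat_lit 2519) (.node (nat_lit 2513) (.node (nat_lit 2510) (.node (nat_lit 2509) (.leaf ((nat_lit 1049), [nat_lit 2, nat_lit 4, nat_lit 0, nat_lit 5, nat_lit 2, nat_lit 4, nat_lit 1, nat_lit 3, nat_lit 1, nat_lit 3, nat_lit 2, nat_lit 0, nat_lit 2, nat_lit 2, nat_lit 0, nat_lit 2, nat_lit 2])) (.leaf ((nat_lit 1378), [nat_lit 5, nat_lit 3, nat_lit 0, nat_lit 5, nat_lit 2, nat_lit 3, nat_lit 0, nat_lit 2, nat_lit 2, nat_lit 0, nat_lit 1, nat_lit 0, nat_lit 2]))) (.node (nat_lit 2511) (.leaf ((nat_lit 775), [nat_lit 0, nat_lit 5, nat_lit 0, nat_lit 1, nat_lit 5, nat_lit 4, nat_lit 2, nat_lit 3, nat_lit 4, nat_lit 2, nat_lit 3, nat_lit 2, nat_lit 2, nat_lit 0, nat_lit 2, nat_lit 2, nat_lit 0, nat_lit 2, nat_lit 0])) (.node (nat_lit 2512) (.leaf ((nat_lit 848), [nat_lit 5, nat_lit 4, nat_lit 5, nat_lit 3, nat_lit 0, nat_lit 3, nat_lit 0, nat_lit 2, nat_lit 0,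 nat_lit 2])) (.leaf ((nat_lit 755), [nat_lit 3, nat_lit 5, nat_lit 2, nat_lit 3, nat_lit 0, nat_lit 5, nat_lit 2, nat_lit 4, nat_lit 3, nat_lit 0, nat_lit 4, nat_lit 0, nat_lit 1, nat_lit 0, nat_lit 2, nat_lit 2, nat_lit 0, nat_lit 2, nat_lit 0])))))
 (.node (nat_lit 2516) (.node (nat_lit 2514) (.leaf ((nat_lit 463), [nat_lit 2, nat_lit 5, nat_lit 0, nat_lit 5, nat_lit 2, nat_lit 4, nat_lit 2, nat_lit 4, nat_lit 1, nat_lit 0, nat_lit 2, nat_lit 2, nat_lit 0, nat_lit 2])) (.node (nat_lit 2515) (.leaf ((nat_lit 425), [nat_lit 4, nat_lit 5, nat_lit 2, nat_lit 5, nat_lit 3, nat_lit 0, nat_lit 4, nat_lit 3, nat_lit 2, nat_lit 3, nat_lit 1, nat_lit 0, nat_lit 1, nat_lit 0, nat_lit 2, nat_lit 2, nat_lit 0])) (.leaf ((nat_lit 1232), [nat_lit 1, nat_lit 5, nat_lit 3, nat_lit 5, nat_lit 2, nat_lit 0, nat_lit 1, nat_lit 0, nat_lit 4, nat_lit 2, nat_lit 2, nat_lit 0, nat_lit 2, nat_lit 2, nat_lit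 0, nat_lit 1])))) (.node (nat_lit 2517) (.leaf ((nat_lit 661), [nat_lit 2, nat_lit 2, nat_lit 0, nat_lit 5, nat_lit 3, nat_lit 4, nat_lit 0, nat_lit 3, nat_lit 1, nat_lit 0, nat_lit 2, nat_lit 2, nat_lit 0, nat_lit 2, nat_lit 2])) (.node (nat_lit 2518) (.leaf ((nat_lit 101), [nat_lit 5, nat_lit 4, nat_lit 5, nat_lit 4, nat_lit 2, nat_lit 0, nat_lit 2, nat_lit 3, nat_lit 2, nat_lit 2, nat_lit 0, nat_lit 1, nat_lit 0])) (.leaf ((nat_lit 988), [nat_lit 1, nat_lit 5, nat_lit 2, nat_lit 0, nat_lit 4, nat_lit 3, nat_lit 0, nat_lit 1, nat_lit 0, nat_lit 2, nat_lit 2, nat_lit 0, nat_lit 1, nat_lit 0]))))))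
 (.node (nat_lit 2524) (.node (nat_lit 2521) (.node (nat_lit 2520) (.leaf ((nat_lit 792), [nat_lit 4, nat_lit 3, nat_lit 0, nat_lit 5, nat_lit 3, nat_lit 2, nat_lit 4, nat_lit 2, nat_lit 3, nat_lit 2, nat_lit 0, nat_lit 1, nat_lit 0, nat_lit 1, nat_lit 0, nat_lit 2, nat_lit 0])) (.leaf ((nat_lit 1377), [nat_lit 1, nat_lit 0, nat_lit 3, nat_lit 5, nat_lit 4, nat_lit 1, nat_lit 3, nat_lit 2, nat_lit 2, nat_lit 3, nat_lit 0, nat_lit 2, nat_lit 0, nat_lit 2, nat_lit 2, nat_lit 0, nat_lit 2, nat_lit 0]))) (.node (nat_lit 2522) (.leaf ((nat_lit 1236), [nat_lit 5, nat_lit 3, nat_lit 2, nat_lit 0, nat_lit 5, nat_lit 0, nat_lit 3, nat_lit 4, nat_lit 0, nat_lit 1, nat_lit 0, nat_lit 2, nat_lit 2, nat_lit 0, nat_lit 1])) (.node (nat_lit 2523) (.leaf ((nat_lit 410), [nat_lit 3, nat_lit 2, nat_lit 0, nat_lit 5, nat_lit 3, nat_lit 2, nat_lit 4, nat_lit 2, nat_lit 4, nat_lit 2, nat_lit 0, nat_lit 2,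 nat_lit 0, nat_lit 1, nat_lit 0, nat_lit 1, nat_lit 0])) (.leaf ((nat_lit 90), [nat_lit 2, nat_lit 5, nat_lit 1, nat_lit 5, nat_lit 4, nat_lit 2, nat_lit 4, nat_lit 3, nat_lit 2, nat_lit 0, nat_lit 2, nat_lit 2, nat_lit 0, nat_lit 2, nat_lit 0])))))
 (.node (nat_lit 2527) (.node (nat_lit 2525) (.leaf ((nat_lit 341), [nat_lit 2, nat_lit 5, nat_lit 3, nat_lit 5, nat_lit 2, nat_lit 4, nat_lit 3, nat_lit 0, nat_lit 4, nat_lit 0, nat_lit 1, nat_lit 0])) (.node (nat_lit 2526) (.leaf ((nat_lit 1387), [nat_lit 5, nat_lit 2, nat_lit 5, nat_lit 0, nat_lit 3, nat_lit 0, nat_lit 2, nat_lit 4, nat_lit 3, nat_lit 0, nat_lit 2, nat_lit 0, nat_lit 1, nat_lit 0])) (.leaf ((nat_lit 1190), [nat_lit 5, nat_lit 2, nat_lit 2, nat_lit 0, nat_lit 5, nat_lit 1, nat_lit 0, nat_lit 4, nat_lit 1, nat_lit 4, nat_lit 2, nat_lit 0, nat_lit 1, nat_lit 0, nat_lit 1])))) (.node (nat_lit 2528) (.leaf ((nat_lit 184), [nat_lit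 2, nat_lit 4, nat_lit 0, nat_lit 5, nat_lit 3, nat_lit 4, nat_lit 1, nat_lit 4, nat_lit 3, nat_lit 1, nat_lit 0, nat_lit 2, nat_lit 2, nat_lit 0, nat_lit 1])) (.node (nat_lit 2529) (.leaf ((nat_lit 890), [nat_lit 0, nat_lit 2, nat_lit 5, nat_lit 3, nat_lit 5, nat_lit 3, nat_lit 1, nat_lit 3, nat_lit 0, nat_lit 4, nat_lit 2, nat_lit 0, nat_lit 1, nat_lit 0, nat_lit 1, nat_lit 0])) (.leaf ((nat_lit 1148), [nat_lit 1, nat_lit 4, nat_lit 2, nat_lit 5, nat_lit 3, nat_lit 4, nat_lit 0, nat_lit 4, nat_lit 1, nat_lit 3, nat_lit 0, nat_lit 2, nat_lit 0, nat_lit 2, nat_lit 2, nat_lit 0, nat_lit 2, nat_lit 0])))))))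
 (.node (nat_lit 2541) (.node (nat_lit 2535) (.node (nat_lit 2532) (.node (nat_lit 2531) (.leaf ((nat_lit 1328), [nat_lit 1, nat_lit 5, nat_lit 2, nat_lit 4, nat_lit 3, nat_lit 0, nat_lit 2, nat_lit 3, nat_lit 1, nat_lit 0, nat_lit 2, nat_lit 0, nat_lit 2, nat_lit 2])) (.leaf ((nat_lit 1388), [nat_lit 3, nat_lit 5, nat_lit 0, nat_lit 5, nat_lit 4, nat_lit 2, nat_lit 3, nat_lit 2, nat_lit 2, nat_lit 3, nat_lit 1, nat_lit 0, nat_lit 2, nat_lit 0]))) (.node (nat_lit 2533) (.leaf ((nat_lit 1320), [nat_lit 3, nat_lit 2, nat_lit 5, nat_lit 2, nat_lit 0, nat_lit 1, nat_lit 0, nat_lit 4, nat_lit 2, nat_lit 0, nat_lit 2, nat_lit 0, nat_lit 1])) (.node (nat_lit 2534) (.leaf ((nat_lit 471), [nat_lit 0, nat_lit 5, nat_lit 3, nat_lit 1, nat_lit 4, nat_lit 1, nat_lit 3, nat_lit 0, nat_lit 2, nat_lit 2, nat_lit 0, nat_lit 1])) (.leaf ((nat_lit 869), [nat_lit 2, nat_lit 3, nat_lit 0, nat_lit 5, nat_lit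 2, nat_lit 3, nat_lit 1, nat_lit 0, nat_lit 2, nat_lit 3, nat_lit 2, nat_lit 2, nat_lit 0, nat_lit 2, nat_lit 2, nat_lit 0, nat_lit 2, nat_lit 0])))))
 (.node (nat_lit 2538) (.node (nat_lit 2536) (.leaf ((nat_lit 1389), [nat_lit 1, nat_lit 3, nat_lit 2, nat_lit 5, nat_lit 0, nat_lit 4, nat_lit 3, nat_lit 0, nat_lit 3, nat_lit 2, nat_lit 2, nat_lit 0, nat_lit 2, nat_lit 2, nat_lit 0])) (.node (nat_lit 2537) (.leaf ((nat_lit 1390), [nat_lit 4, nat_lit 0, nat_lit 5, nat_lit 0, nat_lit 2, nat_lit 0, nat_lit 4, nat_lit 1, nat_lit 4, nat_lit 0, nat_lit 2, nat_lit 2, nat_lit 0, nat_lit 2, nat_lit 0])) (.leaf ((nat_lit 1173), [nat_lit 3, nat_lit 5, nat_lit 2, nat_lit 5, nat_lit 2, nat_lit 2, nat_lit 4, nat_lit 0, nat_lit 4, nat_lit 3, nat_lit 1, nat_lit 0, nat_lit 2, nat_lit 2, nat_lit 0])))) (.node (nat_lit 2539) (.leaf ((nat_lit 1332), [nat_lit 2, nat_lit 0, nat_lit 5, nat_lit 0, nat_lit 1,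 nat_lit 3, nat_lit 4, nat_lit 1, nat_lit 3, nat_lit 2, nat_lit 0, nat_lit 2, nat_lit 0, nat_lit 1, nat_lit 0])) (.node (nat_lit 2540) (.leaf ((nat_lit 612), [nat_lit 3, nat_lit 4, nat_lit 5, nat_lit 2, nat_lit 5, nat_lit 1, nat_lit 0, nat_lit 2, nat_lit 3, nat_lit 2, nat_lit 0, nat_lit 1, nat_lit 0, nat_lit 2, nat_lit 0, nat_lit 2])) (.leaf ((nat_lit 1224), [nat_lit 2, nat_lit 5, nat_lit 0, nat_lit 5, nat_lit 3, nat_lit 4, nat_lit 0, nat_lit 3, nat_lit 1, nat_lit 3, nat_lit 0, nat_lit 2, nat_lit 0, nat_lit 2, nat_lit 2, nat_lit 0, nat_lit 2, nat_lit 0]))))))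
 (.node (nat_lit 2546) (.node (nat_lit 2543) (.node (nat_lit 2542) (.leaf ((nat_lit 1391), [nat_lit 0, nat_lit 5, nat_lit 2, nat_lit 5, nat_lit 0, nat_lit 4, nat_lit 3, nat_lit 0, nat_lit 4, nat_lit 0, nat_lit 2, nat_lit 0, nat_lit 2, nat_lit 2, nat_lit 0, nat_lit 1, nat_lit 0])) (.leaf ((nat_lit 716), [nat_lit 4, nat_lit 5, nat_lit 2, nat_lit 5, nat_lit 3, nat_lit 2, nat_lit 0, nat_lit 3, nat_lit 4, nat_lit 0, nat_lit 2, nat_lit 0, nat_lit 1, nat_lit 0]))) (.node (nat_lit 2544) (.leaf ((nat_lit 816), [nat_lit 3, nat_lit 0, nat_lit 5, nat_lit 0, nat_lit 3, nat_lit 0, nat_lit 2, nat_lit 3, nat_lit 0, nat_lit 2, nat_lit 0, nat_lit 2, nat_lit 0])) (.node (nat_lit 2545) (.leaf ((nat_lit 507), [nat_lit 4, nat_lit 1, nat_lit 5, nat_lit 0, nat_lit 5, nat_lit 3, nat_lit 1, nat_lit 3, nat_lit 4, nat_lit 3, nat_lit 1, nat_lit 0, nat_lit 2, nat_lit 2, nat_lit 0, nat_lit 2])) (.leaf ((nat_lit 773),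 [nat_lit 3, nat_lit 1, nat_lit 3, nat_lit 0, nat_lit 5, nat_lit 2, nat_lit 0, nat_lit 4, nat_lit 3, nat_lit 1, nat_lit 0, nat_lit 2, nat_lit 0, nat_lit 2, nat_lit 0])))))
 (.node (nat_lit 2549) (.node (nat_lit 2547) (.leaf ((nat_lit 1086), [nat_lit 2, nat_lit 0, nat_lit 2, nat_lit 5, nat_lit 2, nat_lit 4, nat_lit 2, nat_lit 0, nat_lit 3, nat_lit 2, nat_lit 2, nat_lit 0, nat_lit 1, nat_lit 0, nat_lit 2])) (.node (nat_lit 2548) (.leaf ((nat_lit 799), [nat_lit 1, nat_lit 0, nat_lit 3, nat_lit 5, nat_lit 4, nat_lit 0, nat_lit 1, nat_lit 4, nat_lit 0, nat_lit 2, nat_lit 2, nat_lit 0, nat_lit 1])) (.leaf ((nat_lit 1281), [nat_lit 3, nat_lit 2, nat_lit 5, nat_lit 2, nat_lit 2, nat_lit 3, nat_lit 2, nat_lit 2, nat_lit 3, nat_lit 2, nat_lit 0, nat_lit 2, nat_lit 2, nat_lit 0, nat_lit 1, nat_lit 0])))) (.node (nat_lit 2550) (.leaf ((nat_lit 854), [nat_lit 5, nat_lit 3, nat_lit 2, nat_lit 0, nat_lit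 5, nat_lit 2, nat_lit 3, nat_lit 4, nat_lit 3, nat_lit 0, nat_lit 2, nat_lit 0, nat_lit 2, nat_lit 2, nat_lit 0, nat_lit 1])) (.node (nat_lit 2551) (.leaf ((nat_lit 1298), [nat_lit 5, nat_lit 4, nat_lit 3, nat_lit 2, nat_lit 5, nat_lit 4, nat_lit 2, nat_lit 3, nat_lit 4, nat_lit 2, nat_lit 3, nat_lit 1, nat_lit 0, nat_lit 1, nat_lit 0, nat_lit 2, nat_lit 2])) (.leaf ((nat_lit 581), [nat_lit 5, nat_lit 1, nat_lit 0, nat_lit 3, nat_lit 1, nat_lit 3, nat_lit 0, nat_lit 1, nat_lit 0, nat_lit 2, nat_lit 2, nat_lit 0, nat_lit 2])))))))))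
 (.node (nat_lit 2596) (.node (nat_lit 2574) (.node (nat_lit 2563) (.node (nat_lit 2557) (.node (nat_lit 2554) (.node (nat_lit 2553) (.leaf ((nat_lit 1241), [nat_lit 2, nat_lit 4, nat_lit 5, nat_lit 2, nat_lit 0, nat_lit 5, nat_lit 4, nat_lit 2, nat_lit 4, nat_lit 2, nat_lit 3, nat_lit 1, nat_lit 0, nat_lit 2])) (.leaf ((nat_lit 595), [nat_lit 0, nat_lit 4, nat_lit 5, nat_lit 2, nat_lit 3, nat_lit 2, nat_lit 3, nat_lit 2, nat_lit 2, nat_lit 0, nat_lit 2]))) (.node (nat_lit 2555) (.leaf ((nat_lit 1250), [nat_lit 4, nat_lit 3, nat_lit 5, nat_lit 0, nat_lit 5, nat_lit 3, nat_lit 2, nat_lit 3, nat_lit 2, nat_lit 4, nat_lit 0, nat_lit 1, nat_lit 0])) (.node (nat_lit 2556) (.leaf ((nat_lit 1270), [nat_lit 0, nat_lit 4, nat_lit 2, nat_lit 0, nat_lit 5, nat_lit 2, nat_lit 4, nat_lit 2, nat_lit 0, nat_lit 2, nat_lit 3, nat_lit 1, nat_lit 0, nat_lit 1])) (.leaf ((nat_lit 191), [nat_lit 5, nat_lit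 0, nat_lit 1, nat_lit 5, nat_lit 3, nat_lit 2, nat_lit 2, nat_lit 0, nat_lit 4, nat_lit 0, nat_lit 1, nat_lit 0, nat_lit 1, nat_lit 0, nat_lit 2])))))
 (.node (nat_lit 2560) (.node (nat_lit 2558) (.leaf ((nat_lit 1260), [nat_lit 5, nat_lit 4, nat_lit 2, nat_lit 0, nat_lit 5, nat_lit 2, nat_lit 4, nat_lit 2, nat_lit 3, nat_lit 0, nat_lit 3, nat_lit 1, nat_lit 0, nat_lit 1, nat_lit 0, nat_lit 2])) (.node (nat_lit 2559) (.leaf ((nat_lit 1347), [nat_lit 5, nat_lit 1, nat_lit 3, nat_lit 2, nat_lit 5, nat_lit 3, nat_lit 1, nat_lit 3, nat_lit 4, nat_lit 3, nat_lit 2, nat_lit 0, nat_lit 2, nat_lit 0, nat_lit 1, nat_lit 0])) (.leaf ((nat_lit 1269), [nat_lit 2, nat_lit 2, nat_lit 5, nat_lit 0, nat_lit 2, nat_lit 0, nat_lit 2, nat_lit 3, nat_lit 2, nat_lit 2, nat_lit 0, nat_lit 2, nat_lit 2, nat_lit 0])))) (.node (nat_lit 2561) (.leaf ((nat_lit 1134), [nat_lit 5, nat_lit 1, nat_lit 0, nat_lit 2,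 nat_lit 5, nat_lit 2, nat_lit 0, nat_lit 2, nat_lit 2, nat_lit 3, nat_lit 2, nat_lit 0, nat_lit 1, nat_lit 0, nat_lit 2, nat_lit 0, nat_lit 2])) (.node (nat_lit 2562) (.leaf ((nat_lit 430), [nat_lit 1, nat_lit 5, nat_lit 0, nat_lit 5, nat_lit 3, nat_lit 0, nat_lit 1, nat_lit 0, nat_lit 3, nat_lit 2, nat_lit 0, nat_lit 2, nat_lit 0, nat_lit 1, nat_lit 0])) (.leaf ((nat_lit 1036), [nat_lit 1, nat_lit 0, nat_lit 3, nat_lit 5, nat_lit 4, nat_lit 0, nat_lit 3, nat_lit 1, nat_lit 3, nat_lit 1, nat_lit 0, nat_lit 2, nat_lit 0, nat_lit 2]))))))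
 (.node (nat_lit 2568) (.node (nat_lit 2565) (.node (nat_lit 2564) (.leaf ((nat_lit 426), [nat_lit 3, nat_lit 5, nat_lit 0, nat_lit 3, nat_lit 4, nat_lit 3, nat_lit 0, nat_lit 2, nat_lit 2, nat_lit 0, nat_lit 1, nat_lit 0])) (.leaf ((nat_lit 24), [nat_lit 2, nat_lit 0, nat_lit 2, nat_lit 5, nat_lit 0, nat_lit 4, nat_lit 3, nat_lit 2]))) (.node (nat_lit 2566) (.leaf ((nat_lit 159), [nat_lit 0, nat_lit 5, nat_lit 0, nat_lit 1, nat_lit 5, nat_lit 0, nat_lit 1, nat_lit 0, nat_lit 3, nat_lit 2, nat_lit 0, nat_lit 1])) (.node (nat_lit 2567) (.leaf ((nat_lit 16), [nat_lit 3, nat_lit 0, nat_lit 5, nat_lit 0, nat_lit 4, nat_lit 1, nat_lit 4, nat_lit 0, nat_lit 1, nat_lit 0, nat_lit 2, nat_lit 2, nat_lit 0])) (.leaf ((nat_lit 1353), [nat_lit 2, nat_lit 3, nat_lit 0, nat_lit 4, nat_lit 0, nat_lit 1])))))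
 (.node (nat_lit 2571) (.node (nat_lit 2569) (.leaf ((nat_lit 1100), [nat_lit 2, nat_lit 4, nat_lit 5, nat_lit 2, nat_lit 0, nat_lit 5, nat_lit 2, nat_lit 3, nat_lit 2, nat_lit 4, nat_lit 3, nat_lit 2])) (.node (nat_lit 2570) (.leaf ((nat_lit 1335), [nat_lit 4, nat_lit 3, nat_lit 2, nat_lit 5, nat_lit 2, nat_lit 0, nat_lit 3, nat_lit 1, nat_lit 3, nat_lit 2, nat_lit 2, nat_lit 0, nat_lit 1, nat_lit 0, nat_lit 2, nat_lit 2])) (.leaf ((nat_lit 1392), [nat_lit 3, nat_lit 4, nat_lit 3, nat_lit 5, nat_lit 4, nat_lit 0, nat_lit 4, nat_lit 3, nat_lit 0, nat_lit 3, nat_lit 2, nat_lit 0, nat_lit 1, nat_lit 0, nat_lit 1, nat_lit 0])))) (.node (nat_lit 2572) (.leaf ((nat_lit 898), [nat_lit 5, nat_lit 3, nat_lit 5, nat_lit 1, nat_lit 4, nat_lit 1, nat_lit 4, nat_lit 2, nat_lit 0, nat_lit 2, nat_lit 2, nat_lit 0])) (.node (nat_lit 2573) (.leaf ((nat_lit 220), [nat_lit 1, nat_lit 5, nat_lit 3, nat_lit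 2, nat_lit 0, nat_lit 4, nat_lit 0, nat_lit 1, nat_lit 0, nat_lit 2, nat_lit 2])) (.leaf ((nat_lit 786), [nat_lit 1, nat_lit 5, nat_lit 2, nat_lit 5, nat_lit 2, nat_lit 2, nat_lit 4, nat_lit 3, nat_lit 1, nat_lit 0, nat_lit 2, nat_lit 2, nat_lit 0, nat_lit 1])))))))
 (.node (nat_lit 2585) (.node (nat_lit 2579) (.node (nat_lit 2576) (.node (nat_lit 2575) (.leaf ((nat_lit 1284), [nat_lit 4, nat_lit 1, nat_lit 5, nat_lit 0, nat_lit 5, nat_lit 4, nat_lit 2, nat_lit 0, nat_lit 3, nat_lit 2, nat_lit 0, nat_lit 2, nat_lit 2, nat_lit 0, nat_lit 2, nat_lit 2])) (.leaf ((nat_lit 1266), [nat_lit 1, nat_lit 0, nat_lit 3, nat_lit 5, nat_lit 1, nat_lit 3, nat_lit 1, nat_lit 3, nat_lit 2, nat_lit 0, nat_lit 2, nat_lit 2, nat_lit 0]))) (.node (nat_lit 2577) (.leaf ((nat_lit 1393), [nat_lit 4, nat_lit 5, nat_lit 2, nat_lit 3, nat_lit 5, nat_lit 4, nat_lit 0, nat_lit 2, nat_lit 2, nat_lit 3, nat_lit 2,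 nat_lit 0, nat_lit 2, nat_lit 0])) (.node (nat_lit 2578) (.leaf ((nat_lit 1380), [nat_lit 5, nat_lit 4, nat_lit 3, nat_lit 0, nat_lit 5, nat_lit 3, nat_lit 1, nat_lit 4, nat_lit 3, nat_lit 2])) (.leaf ((nat_lit 1394), [nat_lit 5, nat_lit 3, nat_lit 0, nat_lit 5, nat_lit 4, nat_lit 3, nat_lit 2, nat_lit 0, nat_lit 3, nat_lit 0])))))
 (.node (nat_lit 2582) (.node (nat_lit 2580) (.leaf ((nat_lit 1288), [nat_lit 5, nat_lit 2, nat_lit 3, nat_lit 0, nat_lit 5, nat_lit 3, nat_lit 2, nat_lit 0, nat_lit 4, nat_lit 3, nat_lit 2, nat_lit 0, nat_lit 1, nat_lit 0, nat_lit 1, nat_lit 0, nat_lit 2, nat_lit 0])) (.node (nat_lit 2581) (.leaf ((nat_lit 757), [nat_lit 4, nat_lit 3, nat_lit 5, nat_lit 2, nat_lit 4, nat_lit 1, nat_lit 4, nat_lit 1, nat_lit 3, nat_lit 0, nat_lit 2, nat_lit 0, nat_lit 2, nat_lit 2, nat_lit 0])) (.leaf ((nat_lit 161), [nat_lit 1, nat_lit 5, nat_lit 1, nat_lit 5, nat_lit 4, nat_lit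 1, nat_lit 3, nat_lit 2, nat_lit 4, nat_lit 0, nat_lit 2, nat_lit 2, nat_lit 0, nat_lit 2, nat_lit 2])))) (.node (nat_lit 2583) (.leaf ((nat_lit 602), [nat_lit 0, nat_lit 1, nat_lit 5, nat_lit 0, nat_lit 4, nat_lit 0, nat_lit 1, nat_lit 4, nat_lit 3, nat_lit 1, nat_lit 0, nat_lit 2, nat_lit 2])) (.node (nat_lit 2584) (.leaf ((nat_lit 1311), [nat_lit 1, nat_lit 0, nat_lit 2, nat_lit 5, nat_lit 4, nat_lit 0, nat_lit 1, nat_lit 0, nat_lit 2, nat_lit 0, nat_lit 2, nat_lit 0])) (.leaf ((nat_lit 1323), [nat_lit 2, nat_lit 4, nat_lit 0, nat_lit 5, nat_lit 1, nat_lit 4, nat_lit 0, nat_lit 1, nat_lit 0, nat_lit 3, nat_lit 2, nat_lit 0, nat_lit 2, nat_lit 2, nat_lit 0, nat_lit 2]))))))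
 (.node (nat_lit 2590) (.node (nat_lit 2587) (.node (nat_lit 2586) (.leaf ((nat_lit 1303), [nat_lit 5, nat_lit 1, nat_lit 3, nat_lit 0, nat_lit 5, nat_lit 2, nat_lit 0, nat_lit 3, nat_lit 2, nat_lit 3, nat_lit 0, nat_lit 2, nat_lit 0, nat_lit 1, nat_lit 0])) (.leaf ((nat_lit 89), [nat_lit 2, nat_lit 3, nat_lit 5, nat_lit 2, nat_lit 4, nat_lit 1, nat_lit 4, nat_lit 1, nat_lit 3, nat_lit 2, nat_lit 2, nat_lit 0, nat_lit 1, nat_lit 0, nat_lit 2, nat_lit 0]))) (.node (nat_lit 2588) (.leaf ((nat_lit 1329), [nat_lit 0, nat_lit 5, nat_lit 3, nat_lit 0, nat_lit 5, nat_lit 4, nat_lit 2, nat_lit 3, nat_lit 2, nat_lit 3, nat_lit 2, nat_lit 2, nat_lit 0, nat_lit 2])) (.node (nat_lit 2589) (.leaf ((nat_lit 744), [nat_lit 1, nat_lit 3, nat_lit 2, nat_lit 5, nat_lit 2, nat_lit 0, nat_lit 3, nat_lit 0, nat_lit 4, nat_lit 2, nat_lit 0, nat_lit 2, nat_lit 2, nat_lit 0, nat_lit 2, nat_lit 2, nat_lit 0]))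 (.leaf ((nat_lit 1088), [nat_lit 2, nat_lit 5, nat_lit 0, nat_lit 1, nat_lit 5, nat_lit 4, nat_lit 0, nat_lit 1, nat_lit 0, nat_lit 1, nat_lit 0, nat_lit 3, nat_lit 2, nat_lit 0, nat_lit 2, nat_lit 0, nat_lit 1, nat_lit 0, nat_lit 1])))))
 (.node (nat_lit 2593) (.node (nat_lit 2591) (.leaf ((nat_lit 1167), [nat_lit 5, nat_lit 1, nat_lit 5, nat_lit 0, nat_lit 5, nat_lit 4, nat_lit 1, nat_lit 3, nat_lit 0, nat_lit 1, nat_lit 4, nat_lit 1, nat_lit 0, nat_lit 2, nat_lit 0])) (.node (nat_lit 2592) (.leaf ((nat_lit 1374), [nat_lit 3, nat_lit 5, nat_lit 1, nat_lit 3, nat_lit 2, nat_lit 5, nat_lit 4, nat_lit 3, nat_lit 1, nat_lit 0, nat_lit 4, nat_lit 1, nat_lit 0, nat_lit 2, nat_lit 0, nat_lit 2])) (.leaf ((nat_lit 1199), [nat_lit 4, nat_lit 5, nat_lit 3, nat_lit 5, nat_lit 0, nat_lit 2, nat_lit 4, nat_lit 3, nat_lit 2, nat_lit 3, nat_lit 1, nat_lit 0, nat_lit 2, nat_lit 0, nat_lit 2, nat_lit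 2])))) (.node (nat_lit 2594) (.leaf ((nat_lit 940), [nat_lit 3, nat_lit 2, nat_lit 5, nat_lit 1, nat_lit 3, nat_lit 2, nat_lit 4, nat_lit 2, nat_lit 3, nat_lit 2, nat_lit 0, nat_lit 1, nat_lit 0, nat_lit 2, nat_lit 2, nat_lit 0])) (.node (nat_lit 2595) (.leaf ((nat_lit 485), [nat_lit 2, nat_lit 3, nat_lit 0, nat_lit 5, nat_lit 1, nat_lit 0, nat_lit 1, nat_lit 0, nat_lit 3, nat_lit 0, nat_lit 2, nat_lit 2, nat_lit 0, nat_lit 2, nat_lit 0, nat_lit 1])) (.leaf ((nat_lit 1059), [nat_lit 5, nat_lit 4, nat_lit 3, nat_lit 2, nat_lit 5, nat_lit 4, nat_lit 1, nat_lit 3, nat_lit 0, nat_lit 2, nat_lit 2, nat_lit 0, nat_lit 2, nat_lit 2]))))))))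
 (.node (nat_lit 2618) (.node (nat_lit 2607) (.node (nat_lit 2601) (.node (nat_lit 2598) (.node (nat_lit 2597) (.leaf ((nat_lit 946), [nat_lit 3, nat_lit 2, nat_lit 5, nat_lit 2, nat_lit 3, nat_lit 4, nat_lit 2, nat_lit 3, nat_lit 2, nat_lit 0, nat_lit 2, nat_lit 0, nat_lit 1, nat_lit 0, nat_lit 1])) (.leaf ((nat_lit 1243), [nat_lit 5, nat_lit 4, nat_lit 0, nat_lit 5, nat_lit 2, nat_lit 4, nat_lit 3, nat_lit 2, nat_lit 0, nat_lit 1, nat_lit 0, nat_lit 2, nat_lit 0, nat_lit 2]))) (.node (nat_lit 2599) (.leaf ((nat_lit 1395), [nat_lit 5, nat_lit 4, nat_lit 5, nat_lit 1, nat_lit 5, nat_lit 0, nat_lit 3, nat_lit 0, nat_lit 2, nat_lit 4, nat_lit 3, nat_lit 1, nat_lit 0, nat_lit 1, nat_lit 0, nat_lit 2, nat_lit 0, nat_lit 2, nat_lit 0])) (.node (nat_lit 2600) (.leaf ((nat_lit 886), [nat_lit 2, nat_lit 4, nat_lit 5, nat_lit 2, nat_lit 0, nat_lit 5, nat_lit 4, nat_lit 1, nat_lit 3, nat_lit 4,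 nat_lit 3, nat_lit 0, nat_lit 1, nat_lit 0, nat_lit 1, nat_lit 0])) (.leaf ((nat_lit 1140), [nat_lit 2, nat_lit 5, nat_lit 2, nat_lit 3, nat_lit 5, nat_lit 2, nat_lit 3, nat_lit 0, nat_lit 4, nat_lit 2, nat_lit 0, nat_lit 1])))))
 (.node (nat_lit 2604) (.node (nat_lit 2602) (.leaf ((nat_lit 1376), [nat_lit 5, nat_lit 1, nat_lit 3, nat_lit 0, nat_lit 5, nat_lit 0, nat_lit 3, nat_lit 1, nat_lit 3, nat_lit 1, nat_lit 0, nat_lit 1])) (.node (nat_lit 2603) (.leaf ((nat_lit 1396), [nat_lit 5, nat_lit 1, nat_lit 0, nat_lit 2, nat_lit 5, nat_lit 2, nat_lit 2, nat_lit 3, nat_lit 4, nat_lit 3, nat_lit 0, nat_lit 1, nat_lit 0, nat_lit 1, nat_lit 0, nat_lit 2])) (.leaf ((nat_lit 1397), [nat_lit 2, nat_lit 5, nat_lit 4, nat_lit 5, nat_lit 3, nat_lit 4, nat_lit 0, nat_lit 3, nat_lit 4, nat_lit 0, nat_lit 2, nat_lit 0, nat_lit 2, nat_lit 2, nat_lit 0, nat_lit 2, nat_lit 0])))) (.node (nat_lit 2605)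 (.leaf ((nat_lit 650), [nat_lit 0, nat_lit 2, nat_lit 4, nat_lit 0, nat_lit 5, nat_lit 3, nat_lit 1, nat_lit 0, nat_lit 4, nat_lit 1, nat_lit 0, nat_lit 2, nat_lit 2, nat_lit 0, nat_lit 2, nat_lit 2])) (.node (nat_lit 2606) (.leaf ((nat_lit 409), [nat_lit 5, nat_lit 4, nat_lit 1, nat_lit 3, nat_lit 0, nat_lit 1, nat_lit 4, nat_lit 1, nat_lit 0, nat_lit 2, nat_lit 2, nat_lit 0, nat_lit 2, nat_lit 2, nat_lit 0])) (.leaf ((nat_lit 1367), [nat_lit 3, nat_lit 5, nat_lit 2, nat_lit 5, nat_lit 0, nat_lit 3, nat_lit 0, nat_lit 4, nat_lit 1, nat_lit 0, nat_lit 2, nat_lit 2, nat_lit 0, nat_lit 2, nat_lit 2, nat_lit 0]))))))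
 (.node (nat_lit 2612) (.node (nat_lit 2609) (.node (nat_lit 2608) (.leaf ((nat_lit 532), [nat_lit 2, nat_lit 2, nat_lit 5, nat_lit 1, nat_lit 4, nat_lit 0, nat_lit 3, nat_lit 4, nat_lit 2, nat_lit 0, nat_lit 2, nat_lit 2, nat_lit 0, nat_lit 2, nat_lit 2])) (.leaf ((nat_lit 1389), [nat_lit 4, nat_lit 3, nat_lit 0, nat_lit 5, nat_lit 4, nat_lit 3, nat_lit 1, nat_lit 3, nat_lit 1, nat_lit 3, nat_lit 2, nat_lit 0, nat_lit 2, nat_lit 2, nat_lit 0, nat_lit 2, nat_lit 2, nat_lit 0]))) (.node (nat_lit 2610) (.leaf ((nat_lit 192), [nat_lit 5, nat_lit 0, nat_lit 4, nat_lit 5, nat_lit 4, nat_lit 0, nat_lit 1, nat_lit 0, nat_lit 1, nat_lit 0, nat_lit 3, nat_lit 1, nat_lit 0, nat_lit 2, nat_lit 0, nat_lit 2])) (.node (nat_lit 2611) (.leaf ((nat_lit 1188), [nat_lit 4, nat_lit 3, nat_lit 5, nat_lit 2, nat_lit 5, nat_lit 4, nat_lit 3, nat_lit 1, nat_lit 4, nat_lit 0, nat_lit 1, nat_lit 0, nat_lit 2,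 nat_lit 2, nat_lit 0, nat_lit 2])) (.leaf ((nat_lit 781), [nat_lit 3, nat_lit 4, nat_lit 5, nat_lit 4, nat_lit 0, nat_lit 4, nat_lit 2, nat_lit 0, nat_lit 3, nat_lit 1, nat_lit 0, nat_lit 1, nat_lit 0, nat_lit 2, nat_lit 2, nat_lit 0])))))
 (.node (nat_lit 2615) (.node (nat_lit 2613) (.leaf ((nat_lit 623), [nat_lit 5, nat_lit 4, nat_lit 5, nat_lit 1, nat_lit 5, nat_lit 4, nat_lit 2, nat_lit 3, nat_lit 0, nat_lit 3, nat_lit 0, nat_lit 1, nat_lit 0, nat_lit 2, nat_lit 2, nat_lit 0])) (.node (nat_lit 2614) (.leaf ((nat_lit 1240), [nat_lit 5, nat_lit 1, nat_lit 0, nat_lit 3, nat_lit 5, nat_lit 1, nat_lit 3, nat_lit 1, nat_lit 3, nat_lit 2, nat_lit 0, nat_lit 1, nat_lit 0, nat_lit 2, nat_lit 0, nat_lit 2])) (.leaf ((nat_lit 1309), [nat_lit 4, nat_lit 5, nat_lit 2, nat_lit 0, nat_lit 5, nat_lit 0, nat_lit 2, nat_lit 2, nat_lit 3, nat_lit 0, nat_lit 2, nat_lit 2])))) (.node (nat_lit 2616) (.leaf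 ((nat_lit 1395), [nat_lit 4, nat_lit 1, nat_lit 5, nat_lit 2, nat_lit 5, nat_lit 2, nat_lit 3, nat_lit 4, nat_lit 0, nat_lit 2, nat_lit 2, nat_lit 0, nat_lit 1, nat_lit 0, nat_lit 2])) (.node (nat_lit 2617) (.leaf ((nat_lit 1391), [nat_lit 3, nat_lit 5, nat_lit 4, nat_lit 1, nat_lit 3, nat_lit 0, nat_lit 3, nat_lit 1, nat_lit 0, nat_lit 2, nat_lit 2, nat_lit 0, nat_lit 2, nat_lit 2])) (.leaf ((nat_lit 416), [nat_lit 4, nat_lit 5, nat_lit 4, nat_lit 0, nat_lit 5, nat_lit 1, nat_lit 0, nat_lit 2, nat_lit 4, nat_lit 0, nat_lit 2, nat_lit 0, nat_lit 1, nat_lit 0, nat_lit 1])))))))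
 (.node (nat_lit 2629) (.node (nat_lit 2623) (.node (nat_lit 2620) (.node (nat_lit 2619) (.leaf ((nat_lit 745), [nat_lit 2, nat_lit 2, nat_lit 5, nat_lit 0, nat_lit 3, nat_lit 1, nat_lit 4, nat_lit 1, nat_lit 0, nat_lit 1, nat_lit 0, nat_lit 2, nat_lit 2])) (.leaf ((nat_lit 527), [nat_lit 3, nat_lit 2, nat_lit 5, nat_lit 2, nat_lit 3, nat_lit 2, nat_lit 2, nat_lit 3, nat_lit 2, nat_lit 2, nat_lit 0, nat_lit 1, nat_lit 0, nat_lit 2]))) (.node (nat_lit 2621) (.leaf ((nat_lit 1398), [nat_lit 0, nat_lit 3, nat_lit 5, nat_lit 1, nat_lit 4, nat_lit 3, nat_lit 2, nat_lit 2, nat_lit 0, nat_lit 2, nat_lit 0])) (.node (nat_lit 2622) (.leaf ((nat_lit 74), [nat_lit 5, nat_lit 0, nat_lit 5, nat_lit 4, nat_lit 1, nat_lit 4, nat_lit 1, nat_lit 4, nat_lit 3, nat_lit 1])) (.leaf ((nat_lit 1109), [nat_lit 4, nat_lit 0, nat_lit 5, nat_lit 2, nat_lit 4, nat_lit 3, nat_lit 0, nat_lit 4, nat_lit 0, nat_lit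 2, nat_lit 2, nat_lit 0, nat_lit 1])))))
 (.node (nat_lit 2626) (.node (nat_lit 2624) (.leaf ((nat_lit 96), [nat_lit 2, nat_lit 0, nat_lit 2, nat_lit 5, nat_lit 4, nat_lit 0, nat_lit 2, nat_lit 3, nat_lit 2, nat_lit 0, nat_lit 3, nat_lit 0, nat_lit 1, nat_lit 0, nat_lit 2, nat_lit 2])) (.node (nat_lit 2625) (.leaf ((nat_lit 1208), [nat_lit 0, nat_lit 4, nat_lit 2, nat_lit 0, nat_lit 5, nat_lit 4, nat_lit 3, nat_lit 1, nat_lit 0, nat_lit 2, nat_lit 3, nat_lit 2, nat_lit 0, nat_lit 2, nat_lit 2, nat_lit 0])) (.leaf ((nat_lit 1238), [nat_lit 1, nat_lit 5, nat_lit 2, nat_lit 4, nat_lit 1, nat_lit 3, nat_lit 1, nat_lit 3, nat_lit 1, nat_lit 0, nat_lit 1, nat_lit 0, nat_lit 2, nat_lit 0, nat_lit 2, nat_lit 0])))) (.node (nat_lit 2627) (.leaf ((nat_lit 1352), [nat_lit 5, nat_lit 1, nat_lit 3, nat_lit 1, nat_lit 3, nat_lit 0, nat_lit 1, nat_lit 0, nat_lit 2, nat_lit 0, nat_lit 2, nat_lit 2, nat_lit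 0])) (.node (nat_lit 2628) (.leaf ((nat_lit 746), [nat_lit 4, nat_lit 2, nat_lit 5, nat_lit 2, nat_lit 3, nat_lit 4, nat_lit 3, nat_lit 2, nat_lit 3, nat_lit 2, nat_lit 0, nat_lit 2, nat_lit 0, nat_lit 1, nat_lit 0, nat_lit 1, nat_lit 0])) (.leaf ((nat_lit 1137), [nat_lit 2, nat_lit 5, nat_lit 3, nat_lit 5, nat_lit 3, nat_lit 4, nat_lit 1, nat_lit 0, nat_lit 4, nat_lit 0, nat_lit 2, nat_lit 2, nat_lit 0, nat_lit 2, nat_lit 0, nat_lit 1]))))))
 (.node (nat_lit 2634) (.node (nat_lit 2631) (.node (nat_lit 2630) (.leaf ((nat_lit 1229), [nat_lit 2, nat_lit 5, nat_lit 4, nat_lit 5, nat_lit 3, nat_lit 4, nat_lit 0, nat_lit 4, nat_lit 3, nat_lit 0, nat_lit 2, nat_lit 2, nat_lit 0, nat_lit 2, nat_lit 2])) (.leaf ((nat_lit 317), [nat_lit 5, nat_lit 4, nat_lit 5, nat_lit 3, nat_lit 5, nat_lit 4, nat_lit 0, nat_lit 4, nat_lit 1, nat_lit 3, nat_lit 2, nat_lit 2, nat_lit 0, nat_lit 1, nat_lit 0])))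 (.node (nat_lit 2632) (.leaf ((nat_lit 223), [nat_lit 2, nat_lit 2, nat_lit 5, nat_lit 1, nat_lit 5, nat_lit 3, nat_lit 2, nat_lit 3, nat_lit 2, nat_lit 2, nat_lit 3, nat_lit 0, nat_lit 1, nat_lit 0, nat_lit 1, nat_lit 0])) (.node (nat_lit 2633) (.leaf ((nat_lit 1142), [nat_lit 3, nat_lit 5, nat_lit 3, nat_lit 0, nat_lit 2, nat_lit 3, nat_lit 0, nat_lit 1, nat_lit 0, nat_lit 2, nat_lit 2, nat_lit 0, nat_lit 1, nat_lit 0])) (.leaf ((nat_lit 266), [nat_lit 4, nat_lit 5, nat_lit 0, nat_lit 3, nat_lit 5, nat_lit 1, nat_lit 0, nat_lit 3, nat_lit 1, nat_lit 4, nat_lit 2, nat_lit 0, nat_lit 2])))))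
 (.node (nat_lit 2637) (.node (nat_lit 2635) (.leaf ((nat_lit 1344), [nat_lit 0, nat_lit 5, nat_lit 0, nat_lit 1, nat_lit 0, nat_lit 3, nat_lit 2, nat_lit 3, nat_lit 2, nat_lit 0, nat_lit 1, nat_lit 0, nat_lit 2, nat_lit 0, nat_lit 2])) (.node (nat_lit 2636) (.leaf ((nat_lit 648), [nat_lit 5, nat_lit 3, nat_lit 2, nat_lit 3, nat_lit 0, nat_lit 1])) (.leaf ((nat_lit 1334), [nat_lit 2, nat_lit 5, nat_lit 2, nat_lit 3, nat_lit 5, nat_lit 0, nat_lit 1, nat_lit 0, nat_lit 4, nat_lit 1, nat_lit 3, nat_lit 0, nat_lit 1])))) (.node (nat_lit 2638) (.leaf ((nat_lit 215), [nat_lit 3, nat_lit 2, nat_lit 5, nat_lit 0, nat_lit 5, nat_lit 3, nat_lit 4, nat_lit 1, nat_lit 4, nat_lit 3, nat_lit 0, nat_lit 1, nat_lit 0, nat_lit 2, nat_lit 0, nat_lit 2, nat_lit 2, nat_lit 0])) (.node (nat_lit 2639) (.leaf ((nat_lit 181), [nat_lit 5, nat_lit 3, nat_lit 2, nat_lit 5, nat_lit 3, nat_lit 1, nat_lit 3, nat_lit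 0, nat_lit 4, nat_lit 2, nat_lit 2, nat_lit 0, nat_lit 2, nat_lit 2])) (.leaf ((nat_lit 810), [nat_lit 0, nat_lit 5, nat_lit 3, nat_lit 5, nat_lit 2, nat_lit 2, nat_lit 4, nat_lit 0, nat_lit 4, nat_lit 1, nat_lit 0, nat_lit 1, nat_lit 0, nat_lit 2, nat_lit 2]))))))))))
noncomputable def bWd_15 : Tr (ℕ × List ℕ) := (.node (nat_lit 2728) (.node (nat_lit 2684) (.node (nat_lit 2662) (.node (nat_lit 2651) (.node (nat_lit 2645) (.node (nat_lit 2642) (.node (nat_lit 2641) (.leaf ((nat_lit 384), [nat_lit 2, nat_lit 0, nat_lit 1, nat_lit 5, nat_lit 0, nat_lit 3, nat_lit 4, nat_lit 2, nat_lit 0, nat_lit 4, nat_lit 2, nat_lit 2, nat_lit 0, nat_lit 2, nat_lit 2, nat_lit 0, nat_lit 1])) (.leaf ((nat_lit 1207), [nat_lit 4, nat_lit 3, nat_lit 5, nat_lit 0, nat_lit 5, nat_lit 3, nat_lit 2, nat_lit 2, nat_lit 4, nat_lit 3, nat_lit 1, nat_lit 0, nat_lit 2, nat_lit 2, nat_lit 0, nat_lit 1, nat_lit 0])))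 (.node (nat_lit 2643) (.leaf ((nat_lit 6), [nat_lit 0, nat_lit 5, nat_lit 0, nat_lit 1, nat_lit 5, nat_lit 0, nat_lit 4, nat_lit 1, nat_lit 0, nat_lit 1])) (.node (nat_lit 2644) (.leaf ((nat_lit 960), [nat_lit 3, nat_lit 5, nat_lit 3, nat_lit 0, nat_lit 5, nat_lit 3, nat_lit 2, nat_lit 4, nat_lit 2, nat_lit 4, nat_lit 2, nat_lit 0, nat_lit 1, nat_lit 0, nat_lit 2, nat_lit 0, nat_lit 2])) (.leaf ((nat_lit 1116), [nat_lit 3, nat_lit 5, nat_lit 2, nat_lit 5, nat_lit 3, nat_lit 4, nat_lit 1, nat_lit 0, nat_lit 2, nat_lit 0, nat_lit 2, nat_lit 2])))))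
 (.node (nat_lit 2648) (.node (nat_lit 2646) (.leaf ((nat_lit 58), [nat_lit 0, nat_lit 5, nat_lit 2, nat_lit 5, nat_lit 0, nat_lit 2, nat_lit 2, nat_lit 0, nat_lit 2, nat_lit 0, nat_lit 1])) (.node (nat_lit 2647) (.leaf ((nat_lit 1225), [nat_lit 5, nat_lit 1, nat_lit 5, nat_lit 0, nat_lit 5, nat_lit 4, nat_lit 2, nat_lit 3, nat_lit 2, nat_lit 2, nat_lit 3, nat_lit 1, nat_lit 0, nat_lit 2, nat_lit 0, nat_lit 2, nat_lit 2])) (.leaf ((nat_lit 841), [nat_lit 2, nat_lit 0, nat_lit 2, nat_lit 5, nat_lit 3, nat_lit 0, nat_lit 3, nat_lit 1, nat_lit 4, nat_lit 0, nat_lit 2, nat_lit 2, nat_lit 0, nat_lit 2, nat_lit 0])))) (.node (nat_lit 2649) (.leaf ((nat_lit 348), [nat_lit 1, nat_lit 3, nat_lit 2, nat_lit 5, nat_lit 1, nat_lit 4, nat_lit 3, nat_lit 0, nat_lit 3, nat_lit 2, nat_lit 0, nat_lit 1, nat_lit 0, nat_lit 2, nat_lit 2, nat_lit 0])) (.node (nat_lit 2650) (.leaf ((nat_lit 1176), [nat_lit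 0, nat_lit 3, nat_lit 5, nat_lit 2, nat_lit 3, nat_lit 0, nat_lit 3, nat_lit 2, nat_lit 2, nat_lit 0, nat_lit 2])) (.leaf ((nat_lit 1333), [nat_lit 0, nat_lit 2, nat_lit 5, nat_lit 4, nat_lit 0, nat_lit 3, nat_lit 1, nat_lit 3, nat_lit 2, nat_lit 0, nat_lit 2, nat_lit 2, nat_lit 0, nat_lit 1]))))))
 (.node (nat_lit 2656) (.node (nat_lit 2653) (.node (nat_lit 2652) (.leaf ((nat_lit 1103), [nat_lit 4, nat_lit 2, nat_lit 0, nat_lit 5, nat_lit 3, nat_lit 4, nat_lit 3, nat_lit 2, nat_lit 4, nat_lit 1, nat_lit 0, nat_lit 2])) (.leaf ((nat_lit 825), [nat_lit 3, nat_lit 4, nat_lit 5, nat_lit 4, nat_lit 3, nat_lit 1, nat_lit 4, nat_lit 1, nat_lit 3, nat_lit 2, nat_lit 2, nat_lit 0, nat_lit 2, nat_lit 2]))) (.node (nat_lit 2654) (.leaf ((nat_lit 655), [nat_lit 4, nat_lit 3, nat_lit 5, nat_lit 0, nat_lit 5, nat_lit 4, nat_lit 2, nat_lit 2, nat_lit 4, nat_lit 1, nat_lit 0, nat_lit 3, nat_lit 2, nat_lit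 2, nat_lit 0, nat_lit 1, nat_lit 0, nat_lit 2, nat_lit 2, nat_lit 0])) (.node (nat_lit 2655) (.leaf ((nat_lit 911), [nat_lit 5, nat_lit 3, nat_lit 2, nat_lit 5, nat_lit 3, nat_lit 0, nat_lit 1, nat_lit 3, nat_lit 0, nat_lit 3, nat_lit 2, nat_lit 2, nat_lit 0, nat_lit 2, nat_lit 2, nat_lit 0])) (.leaf ((nat_lit 1292), [nat_lit 0, nat_lit 5, nat_lit 0, nat_lit 1, nat_lit 5, nat_lit 4, nat_lit 1, nat_lit 0, nat_lit 3, nat_lit 4, nat_lit 2, nat_lit 0, nat_lit 2, nat_lit 0])))))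
 (.node (nat_lit 2659) (.node (nat_lit 2657) (.leaf ((nat_lit 1387), [nat_lit 5, nat_lit 4, nat_lit 5, nat_lit 1, nat_lit 5, nat_lit 4, nat_lit 3, nat_lit 1, nat_lit 3, nat_lit 0, nat_lit 3, nat_lit 0, nat_lit 1, nat_lit 0, nat_lit 2])) (.node (nat_lit 2658) (.leaf ((nat_lit 1357), [nat_lit 3, nat_lit 5, nat_lit 1, nat_lit 3, nat_lit 0, nat_lit 5, nat_lit 2, nat_lit 3, nat_lit 0, nat_lit 2, nat_lit 0, nat_lit 2, nat_lit 2, nat_lit 0])) (.leaf ((nat_lit 488), [nat_lit 2, nat_lit 5, nat_lit 2, nat_lit 3, nat_lit 5, nat_lit 4, nat_lit 1, nat_lit 4, nat_lit 1, nat_lit 3, nat_lit 2, nat_lit 0, nat_lit 2, nat_lit 2, nat_lit 0, nat_lit 1])))) (.node (nat_lit 2660) (.leaf ((nat_lit 1399), [nat_lit 4, nat_lit 2, nat_lit 5, nat_lit 3, nat_lit 5, nat_lit 0, nat_lit 3, nat_lit 0, nat_lit 1, nat_lit 4, nat_lit 2, nat_lit 0, nat_lit 2, nat_lit 0, nat_lit 1, nat_lit 0])) (.node (nat_lit 2661) (.leaf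 ((nat_lit 524), [nat_lit 1, nat_lit 3, nat_lit 2, nat_lit 5, nat_lit 4, nat_lit 3, nat_lit 0, nat_lit 4, nat_lit 2, nat_lit 2, nat_lit 0, nat_lit 2, nat_lit 2, nat_lit 0, nat_lit 2, nat_lit 2, nat_lit 0])) (.leaf ((nat_lit 866), [nat_lit 2, nat_lit 3, nat_lit 0, nat_lit 5, nat_lit 3, nat_lit 1, nat_lit 0, nat_lit 2, nat_lit 3, nat_lit 2, nat_lit 0, nat_lit 1, nat_lit 0, nat_lit 2])))))))
 (.node (nat_lit 2673) (.node (nat_lit 2667) (.node (nat_lit 2664) (.node (nat_lit 2663) (.leaf ((nat_lit 1226), [nat_lit 5, nat_lit 2, nat_lit 5, nat_lit 3, nat_lit 1, nat_lit 4, nat_lit 2, nat_lit 4, nat_lit 3, nat_lit 1, nat_lit 0, nat_lit 2, nat_lit 2, nat_lit 0, nat_lit 2])) (.leaf ((nat_lit 129), [nat_lit 3, nat_lit 5, nat_lit 0, nat_lit 5, nat_lit 3, nat_lit 2, nat_lit 4, nat_lit 2, nat_lit 4, nat_lit 0, nat_lit 2, nat_lit 2, nat_lit 0, nat_lit 1, nat_lit 0]))) (.node (nat_lit 2665) (.leaf ((nat_lit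 1217), [nat_lit 5, nat_lit 4, nat_lit 3, nat_lit 5, nat_lit 2, nat_lit 5, nat_lit 2, nat_lit 0, nat_lit 1, nat_lit 4, nat_lit 3, nat_lit 2, nat_lit 2, nat_lit 0, nat_lit 1, nat_lit 0, nat_lit 2, nat_lit 0])) (.node (nat_lit 2666) (.leaf ((nat_lit 808), [nat_lit 5, nat_lit 4, nat_lit 5, nat_lit 1, nat_lit 5, nat_lit 0, nat_lit 2, nat_lit 2, nat_lit 0, nat_lit 1, nat_lit 0, nat_lit 2, nat_lit 0])) (.leaf ((nat_lit 38), [nat_lit 0, nat_lit 5, nat_lit 0, nat_lit 1, nat_lit 5, nat_lit 1, nat_lit 4, nat_lit 0, nat_lit 3, nat_lit 4, nat_lit 2, nat_lit 0, nat_lit 2, nat_lit 2, nat_lit 0, nat_lit 1])))))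
 (.node (nat_lit 2670) (.node (nat_lit 2668) (.leaf ((nat_lit 149), [nat_lit 4, nat_lit 3, nat_lit 5, nat_lit 0, nat_lit 5, nat_lit 0, nat_lit 2, nat_lit 3, nat_lit 1, nat_lit 3, nat_lit 2, nat_lit 0, nat_lit 2, nat_lit 0, nat_lit 1])) (.node (nat_lit 2669) (.leaf ((nat_lit 366), [nat_lit 3, nat_lit 1, nat_lit 5, nat_lit 2, nat_lit 5, nat_lit 2, nat_lit 2, nat_lit 4, nat_lit 2, nat_lit 4, nat_lit 1, nat_lit 0, nat_lit 2, nat_lit 2, nat_lit 0, nat_lit 2])) (.leaf ((nat_lit 1375), [nat_lit 4, nat_lit 1, nat_lit 5, nat_lit 3, nat_lit 5, nat_lit 2, nat_lit 0, nat_lit 3, nat_lit 0, nat_lit 2, nat_lit 3, nat_lit 1, nat_lit 0, nat_lit 2, nat_lit 0, nat_lit 1])))) (.node (nat_lit 2671) (.leaf ((nat_lit 867), [nat_lit 2, nat_lit 0, nat_lit 1, nat_lit 5, nat_lit 2, nat_lit 4, nat_lit 3, nat_lit 1, nat_lit 4, nat_lit 3, nat_lit 1, nat_lit 0, nat_lit 1, nat_lit 0, nat_lit 2])) (.node (nat_lit 2672)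 (.leaf ((nat_lit 1393), [nat_lit 2, nat_lit 0, nat_lit 2, nat_lit 5, nat_lit 2, nat_lit 2, nat_lit 4, nat_lit 3, nat_lit 2, nat_lit 2, nat_lit 0, nat_lit 2, nat_lit 2, nat_lit 0, nat_lit 2, nat_lit 0])) (.leaf ((nat_lit 327), [nat_lit 1, nat_lit 0, nat_lit 5, nat_lit 3, nat_lit 1, nat_lit 3, nat_lit 0, nat_lit 2, nat_lit 4, nat_lit 0, nat_lit 2]))))))
 (.node (nat_lit 2678) (.node (nat_lit 2675) (.node (nat_lit 2674) (.leaf ((nat_lit 242), [nat_lit 5, nat_lit 4, nat_lit 5, nat_lit 1, nat_lit 4, nat_lit 0, nat_lit 3, nat_lit 4, nat_lit 2, nat_lit 2, nat_lit 0, nat_lit 2, nat_lit 2, nat_lit 0, nat_lit 1])) (.leaf ((nat_lit 420), [nat_lit 5, nat_lit 4, nat_lit 3, nat_lit 2, nat_lit 5, nat_lit 3, nat_lit 4, nat_lit 0, nat_lit 3, nat_lit 1, nat_lit 3, nat_lit 0]))) (.node (nat_lit 2676) (.leaf ((nat_lit 1299), [nat_lit 5, nat_lit 3, nat_lit 5, nat_lit 0, nat_lit 2, nat_lit 0, nat_lit 2, nat_lit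 4, nat_lit 0, nat_lit 1, nat_lit 0])) (.node (nat_lit 2677) (.leaf ((nat_lit 1244), [nat_lit 5, nat_lit 0, nat_lit 1, nat_lit 5, nat_lit 4, nat_lit 3, nat_lit 2, nat_lit 4, nat_lit 1, nat_lit 0, nat_lit 1, nat_lit 0, nat_lit 2, nat_lit 0])) (.leaf ((nat_lit 290), [nat_lit 3, nat_lit 2, nat_lit 5, nat_lit 0, nat_lit 5, nat_lit 1, nat_lit 4, nat_lit 1, nat_lit 3, nat_lit 1, nat_lit 3, nat_lit 2, nat_lit 0])))))
 (.node (nat_lit 2681) (.node (nat_lit 2679) (.leaf ((nat_lit 516), [nat_lit 1, nat_lit 5, nat_lit 0, nat_lit 5, nat_lit 2, nat_lit 3, nat_lit 1, nat_lit 3, nat_lit 1, nat_lit 3, nat_lit 2, nat_lit 2, nat_lit 0, nat_lit 2, nat_lit 2, nat_lit 0, nat_lit 1, nat_lit 0])) (.node (nat_lit 2680) (.leaf ((nat_lit 1268), [nat_lit 5, nat_lit 2, nat_lit 0, nat_lit 2, nat_lit 5, nat_lit 1, nat_lit 3, nat_lit 4, nat_lit 3, nat_lit 1, nat_lit 0, nat_lit 2, nat_lit 2, nat_lit 0, nat_lit 2, nat_lit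 2])) (.leaf ((nat_lit 977), [nat_lit 5, nat_lit 1, nat_lit 0, nat_lit 3, nat_lit 5, nat_lit 3, nat_lit 0, nat_lit 4, nat_lit 3, nat_lit 2, nat_lit 3, nat_lit 1, nat_lit 0, nat_lit 1, nat_lit 0])))) (.node (nat_lit 2682) (.leaf ((nat_lit 720), [nat_lit 3, nat_lit 1, nat_lit 5, nat_lit 0, nat_lit 5, nat_lit 4, nat_lit 1, nat_lit 0, nat_lit 2, nat_lit 4, nat_lit 2, nat_lit 0, nat_lit 2, nat_lit 0, nat_lit 1, nat_lit 0, nat_lit 1])) (.node (nat_lit 2683) (.leaf ((nat_lit 1400), [nat_lit 0, nat_lit 3, nat_lit 5, nat_lit 0, nat_lit 3, nat_lit 4, nat_lit 2, nat_lit 0, nat_lit 4, nat_lit 2, nat_lit 0, nat_lit 1, nat_lit 0, nat_lit 1])) (.leaf ((nat_lit 687), [nat_lit 5, nat_lit 4, nat_lit 3, nat_lit 5, nat_lit 2, nat_lit 5, nat_lit 3, nat_lit 1, nat_lit 4, nat_lit 3, nat_lit 0, nat_lit 2, nat_lit 2, nat_lit 0, nat_lit 1, nat_lit 0, nat_lit 2, nat_lit 0]))))))))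
 (.node (nat_lit 2706) (.node (nat_lit 2695) (.node (nat_lit 2689) (.node (nat_lit 2686) (.node (nat_lit 2685) (.leaf ((nat_lit 1371), [nat_lit 0, nat_lit 5, nat_lit 3, nat_lit 5, nat_lit 3, nat_lit 2, nat_lit 4, nat_lit 0, nat_lit 4, nat_lit 2, nat_lit 0, nat_lit 1])) (.leaf ((nat_lit 637), [nat_lit 2, nat_lit 5, nat_lit 2, nat_lit 3, nat_lit 5, nat_lit 4, nat_lit 2, nat_lit 0, nat_lit 2, nat_lit 4, nat_lit 2, nat_lit 0, nat_lit 2, nat_lit 0, nat_lit 1, nat_lit 0]))) (.node (nat_lit 2687) (.leaf ((nat_lit 295), [nat_lit 0, nat_lit 5, nat_lit 4, nat_lit 2, nat_lit 0, nat_lit 2, nat_lit 3, nat_lit 2, nat_lit 0, nat_lit 2, nat_lit 0])) (.node (nat_lit 2688) (.leaf ((nat_lit 1107), [nat_lit 3, nat_lit 1, nat_lit 3, nat_lit 0, nat_lit 5, nat_lit 4, nat_lit 1, nat_lit 4, nat_lit 1, nat_lit 0, nat_lit 1, nat_lit 0, nat_lit 2, nat_lit 0])) (.leaf ((nat_lit 1277), [nat_lit 0, nat_lit 2, nat_lit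 4, nat_lit 0, nat_lit 5, nat_lit 3, nat_lit 1, nat_lit 3, nat_lit 4, nat_lit 2, nat_lit 0, nat_lit 2, nat_lit 2, nat_lit 0])))))
 (.node (nat_lit 2692) (.node (nat_lit 2690) (.leaf ((nat_lit 1158), [nat_lit 3, nat_lit 2, nat_lit 5, nat_lit 0, nat_lit 5, nat_lit 0, nat_lit 2, nat_lit 2, nat_lit 0, nat_lit 4, nat_lit 2, nat_lit 0, nat_lit 1, nat_lit 0, nat_lit 1, nat_lit 0])) (.node (nat_lit 2691) (.leaf ((nat_lit 236), [nat_lit 5, nat_lit 0, nat_lit 5, nat_lit 4, nat_lit 1, nat_lit 0, nat_lit 2, nat_lit 3, nat_lit 2, nat_lit 2, nat_lit 0, nat_lit 1, nat_lit 0, nat_lit 2, nat_lit 2])) (.leaf ((nat_lit 814), [nat_lit 1, nat_lit 5, nat_lit 2, nat_lit 5, nat_lit 2, nat_lit 3, nat_lit 2, nat_lit 4, nat_lit 2, nat_lit 2, nat_lit 0, nat_lit 2])))) (.node (nat_lit 2693) (.leaf ((nat_lit 1401), [nat_lit 2, nat_lit 3, nat_lit 5, nat_lit 0, nat_lit 5, nat_lit 0, nat_lit 2, nat_lit 4, nat_lit 3, nat_lit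 0, nat_lit 1, nat_lit 0, nat_lit 1, nat_lit 0, nat_lit 2])) (.node (nat_lit 2694) (.leaf ((nat_lit 1402), [nat_lit 0, nat_lit 5, nat_lit 2, nat_lit 3, nat_lit 5, nat_lit 3, nat_lit 2, nat_lit 4, nat_lit 3, nat_lit 2, nat_lit 3, nat_lit 0, nat_lit 1, nat_lit 0, nat_lit 1, nat_lit 0, nat_lit 2])) (.leaf ((nat_lit 437), [nat_lit 3, nat_lit 5, nat_lit 0, nat_lit 3, nat_lit 5, nat_lit 2, nat_lit 4, nat_lit 1, nat_lit 0, nat_lit 2, nat_lit 3, nat_lit 0, nat_lit 1, nat_lit 0, nat_lit 2, nat_lit 0, nat_lit 2]))))))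
 (.node (nat_lit 2700) (.node (nat_lit 2697) (.node (nat_lit 2696) (.leaf ((nat_lit 805), [nat_lit 0, nat_lit 5, nat_lit 0, nat_lit 1, nat_lit 5, nat_lit 4, nat_lit 1, nat_lit 3, nat_lit 0, nat_lit 2, nat_lit 0, nat_lit 2, nat_lit 0])) (.leaf ((nat_lit 1397), [nat_lit 2, nat_lit 4, nat_lit 2, nat_lit 0, nat_lit 5, nat_lit 4, nat_lit 3, nat_lit 2, nat_lit 2, nat_lit 3, nat_lit 2, nat_lit 2, nat_lit 0, nat_lit 2, nat_lit 2]))) (.node (nat_lit 2698) (.leaf ((nat_lit 1317), [nat_lit 4, nat_lit 0, nat_lit 5, nat_lit 2, nat_lit 5, nat_lit 2, nat_lit 0, nat_lit 2, nat_lit 3, nat_lit 0, nat_lit 1, nat_lit 0, nat_lit 2, nat_lit 0, nat_lit 2, nat_lit 2, nat_lit 0])) (.node (nat_lit 2699) (.leaf ((nat_lit 1403), [nat_lit 2, nat_lit 4, nat_lit 0, nat_lit 5, nat_lit 1, nat_lit 0, nat_lit 2, nat_lit 0, nat_lit 2, nat_lit 4, nat_lit 0, nat_lit 1, nat_lit 0, nat_lit 2, nat_lit 0, nat_lit 2, nat_lit 2,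 nat_lit 0])) (.leaf ((nat_lit 78), [nat_lit 4, nat_lit 0, nat_lit 5, nat_lit 2, nat_lit 5, nat_lit 2, nat_lit 4, nat_lit 1, nat_lit 0, nat_lit 3, nat_lit 1, nat_lit 0])))))
 (.node (nat_lit 2703) (.node (nat_lit 2701) (.leaf ((nat_lit 1051), [nat_lit 2, nat_lit 4, nat_lit 0, nat_lit 5, nat_lit 3, nat_lit 0, nat_lit 2, nat_lit 4, nat_lit 3, nat_lit 1, nat_lit 0, nat_lit 2, nat_lit 0, nat_lit 2, nat_lit 2])) (.node (nat_lit 2702) (.leaf ((nat_lit 587), [nat_lit 4, nat_lit 5, nat_lit 2, nat_lit 0, nat_lit 5, nat_lit 4, nat_lit 2, nat_lit 0, nat_lit 2, nat_lit 3, nat_lit 0, nat_lit 1, nat_lit 0, nat_lit 1, nat_lit 0, nat_lit 2])) (.leaf ((nat_lit 1065), [nat_lit 5, nat_lit 4, nat_lit 3, nat_lit 1, nat_lit 3, nat_lit 0, nat_lit 3, nat_lit 2, nat_lit 0, nat_lit 2, nat_lit 0, nat_lit 1, nat_lit 0])))) (.node (nat_lit 2704) (.leaf ((nat_lit 1216), [nat_lit 5, nat_lit 1, nat_lit 3, nat_lit 0,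 nat_lit 5, nat_lit 3, nat_lit 4, nat_lit 0, nat_lit 3, nat_lit 4, nat_lit 1, nat_lit 0, nat_lit 2, nat_lit 0, nat_lit 2])) (.node (nat_lit 2705) (.leaf ((nat_lit 1293), [nat_lit 5, nat_lit 1, nat_lit 0, nat_lit 2, nat_lit 5, nat_lit 1, nat_lit 3, nat_lit 0, nat_lit 3, nat_lit 1, nat_lit 0, nat_lit 1, nat_lit 0])) (.leaf ((nat_lit 1233), [nat_lit 2, nat_lit 2, nat_lit 0, nat_lit 5, nat_lit 1, nat_lit 3, nat_lit 4, nat_lit 0, nat_lit 2, nat_lit 4, nat_lit 0, nat_lit 2, nat_lit 0, nat_lit 2, nat_lit 2, nat_lit 0, nat_lit 2])))))))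
 (.node (nat_lit 2717) (.node (nat_lit 2711) (.node (nat_lit 2708) (.node (nat_lit 2707) (.leaf ((nat_lit 1008), [nat_lit 5, nat_lit 2, nat_lit 3, nat_lit 0, nat_lit 5, nat_lit 1, nat_lit 3, nat_lit 4, nat_lit 1, nat_lit 0, nat_lit 3, nat_lit 0, nat_lit 1, nat_lit 0, nat_lit 2, nat_lit 2, nat_lit 0, nat_lit 1])) (.leaf ((nat_lit 1392), [nat_lit 3, nat_lit 5, nat_lit 2, nat_lit 3, nat_lit 0, nat_lit 5, nat_lit 0, nat_lit 2, nat_lit 4, nat_lit 3, nat_lit 1, nat_lit 0, nat_lit 2, nat_lit 2, nat_lit 0, nat_lit 1]))) (.node (nat_lit 2709) (.leaf ((nat_lit 1202), [nat_lit 5, nat_lit 1, nat_lit 3, nat_lit 2, nat_lit 5, nat_lit 1, nat_lit 0, nat_lit 1, nat_lit 0, nat_lit 3, nat_lit 2, nat_lit 0, nat_lit 1])) (.node (nat_lit 2710) (.leaf ((nat_lit 1276), [nat_lit 2, nat_lit 3, nat_lit 5, nat_lit 0, nat_lit 3, nat_lit 2, nat_lit 4, nat_lit 0, nat_lit 2, nat_lit 2, nat_lit 0, nat_lit 1, nat_lit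 0, nat_lit 2, nat_lit 0])) (.leaf ((nat_lit 1399), [nat_lit 1, nat_lit 0, nat_lit 5, nat_lit 4, nat_lit 0, nat_lit 4, nat_lit 3, nat_lit 0, nat_lit 3, nat_lit 1, nat_lit 0, nat_lit 1, nat_lit 0, nat_lit 2, nat_lit 2])))))
 (.node (nat_lit 2714) (.node (nat_lit 2712) (.leaf ((nat_lit 929), [nat_lit 2, nat_lit 0, nat_lit 5, nat_lit 1, nat_lit 0, nat_lit 1, nat_lit 4, nat_lit 3, nat_lit 2, nat_lit 0, nat_lit 2, nat_lit 2, nat_lit 0, nat_lit 1])) (.node (nat_lit 2713) (.leaf ((nat_lit 1141), [nat_lit 3, nat_lit 4, nat_lit 5, nat_lit 2, nat_lit 0, nat_lit 3, nat_lit 0, nat_lit 2, nat_lit 3, nat_lit 1, nat_lit 0, nat_lit 1, nat_lit 0, nat_lit 2, nat_lit 0])) (.leaf ((nat_lit 123), [nat_lit 5, nat_lit 4, nat_lit 2, nat_lit 5, nat_lit 3, nat_lit 0, nat_lit 4, nat_lit 2, nat_lit 0, nat_lit 3, nat_lit 1, nat_lit 0, nat_lit 2, nat_lit 0, nat_lit 2])))) (.node (nat_lit 2715) (.leaf ((nat_lit 546),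 [nat_lit 3, nat_lit 2, nat_lit 5, nat_lit 3, nat_lit 2, nat_lit 0, nat_lit 2, nat_lit 2, nat_lit 3, nat_lit 0, nat_lit 2, nat_lit 0, nat_lit 1, nat_lit 0, nat_lit 1, nat_lit 0])) (.node (nat_lit 2716) (.leaf ((nat_lit 1127), [nat_lit 4, nat_lit 1, nat_lit 0, nat_lit 5, nat_lit 3, nat_lit 2, nat_lit 0, nat_lit 3, nat_lit 4, nat_lit 1, nat_lit 0, nat_lit 2])) (.leaf ((nat_lit 1193), [nat_lit 3, nat_lit 2, nat_lit 0, nat_lit 5, nat_lit 4, nat_lit 2, nat_lit 4, nat_lit 1, nat_lit 0, nat_lit 3, nat_lit 2, nat_lit 0, nat_lit 2, nat_lit 0, nat_lit 1, nat_lit 0, nat_lit 1]))))))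
 (.node (nat_lit 2722) (.node (nat_lit 2719) (.node (nat_lit 2718) (.leaf ((nat_lit 1144), [nat_lit 5, nat_lit 2, nat_lit 0, nat_lit 5, nat_lit 2, nat_lit 4, nat_lit 0, nat_lit 1, nat_lit 0, nat_lit 3, nat_lit 0, nat_lit 1, nat_lit 0, nat_lit 2, nat_lit 0, nat_lit 2, nat_lit 2, nat_lit 0])) (.leaf ((nat_lit 228), [nat_lit 2, nat_lit 3, nat_lit 5, nat_lit 0, nat_lit 5, nat_lit 0, nat_lit 4, nat_lit 2, nat_lit 0, nat_lit 4, nat_lit 2, nat_lit 0, nat_lit 1, nat_lit 0, nat_lit 2]))) (.node (nat_lit 2720) (.leaf ((nat_lit 1401), [nat_lit 5, nat_lit 0, nat_lit 3, nat_lit 5, nat_lit 3, nat_lit 0, nat_lit 3, nat_lit 2, nat_lit 3, nat_lit 1, nat_lit 0, nat_lit 2])) (.node (nat_lit 2721) (.leaf ((nat_lit 1307), [nat_lit 1, nat_lit 0, nat_lit 5, nat_lit 3, nat_lit 5, nat_lit 2, nat_lit 2, nat_lit 3, nat_lit 0, nat_lit 1, nat_lit 0, nat_lit 2, nat_lit 2, nat_lit 0, nat_lit 2, nat_lit 0])) (.leaf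 ((nat_lit 1400), [nat_lit 3, nat_lit 5, nat_lit 0, nat_lit 5, nat_lit 4, nat_lit 1, nat_lit 3, nat_lit 2, nat_lit 2, nat_lit 3, nat_lit 1, nat_lit 0, nat_lit 2, nat_lit 2])))))
 (.node (nat_lit 2725) (.node (nat_lit 2723) (.leaf ((nat_lit 494), [nat_lit 5, nat_lit 2, nat_lit 5, nat_lit 0, nat_lit 2, nat_lit 3, nat_lit 1, nat_lit 3, nat_lit 0, nat_lit 2, nat_lit 0, nat_lit 1, nat_lit 0, nat_lit 1])) (.node (nat_lit 2724) (.leaf ((nat_lit 109), [nat_lit 4, nat_lit 2, nat_lit 5, nat_lit 4, nat_lit 3, nat_lit 1, nat_lit 0, nat_lit 4, nat_lit 2, nat_lit 2, nat_lit 0, nat_lit 1, nat_lit 0, nat_lit 2])) (.leaf ((nat_lit 429), [nat_lit 5, nat_lit 1, nat_lit 5, nat_lit 3, nat_lit 4, nat_lit 3, nat_lit 1, nat_lit 4, nat_lit 3, nat_lit 0])))) (.node (nat_lit 2726) (.leaf ((nat_lit 1404), [nat_lit 3, nat_lit 2, nat_lit 5, nat_lit 3, nat_lit 1, nat_lit 3, nat_lit 4, nat_lit 3, nat_lit 1, nat_lit 0,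 nat_lit 2, nat_lit 0, nat_lit 2, nat_lit 2])) (.node (nat_lit 2727) (.leaf ((nat_lit 1200), [nat_lit 2, nat_lit 5, nat_lit 3, nat_lit 2, nat_lit 4, nat_lit 0, nat_lit 4, nat_lit 0, nat_lit 2, nat_lit 2, nat_lit 0, nat_lit 1, nat_lit 0])) (.leaf ((nat_lit 1360), [nat_lit 4, nat_lit 5, nat_lit 3, nat_lit 5, nat_lit 1, nat_lit 4, nat_lit 0, nat_lit 1, nat_lit 0, nat_lit 1, nat_lit 0])))))))))
 (.node (nat_lit 2772) (.node (nat_lit 2750) (.node (nat_lit 2739) (.node (nat_lit 2733) (.node (nat_lit 2730) (.node (nat_lit 2729) (.leaf ((nat_lit 544), [nat_lit 3, nat_lit 1, nat_lit 5, nat_lit 2, nat_lit 5, nat_lit 0, nat_lit 2, nat_lit 4, nat_lit 0, nat_lit 1, nat_lit 0, nat_lit 1])) (.leaf ((nat_lit 1403), [nat_lit 5, nat_lit 3, nat_lit 5, nat_lit 0, nat_lit 2, nat_lit 0, nat_lit 2, nat_lit 4, nat_lit 1, nat_lit 0, nat_lit 1]))) (.node (nat_lit 2731) (.leaf ((nat_lit 1249), [nat_lit 0, nat_lit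 5, nat_lit 2, nat_lit 5, nat_lit 2, nat_lit 2, nat_lit 3, nat_lit 0])) (.node (nat_lit 2732) (.leaf ((nat_lit 706), [nat_lit 4, nat_lit 5, nat_lit 4, nat_lit 0, nat_lit 5, nat_lit 4, nat_lit 2, nat_lit 3, nat_lit 0, nat_lit 4, nat_lit 1, nat_lit 0])) (.leaf ((nat_lit 1181), [nat_lit 5, nat_lit 1, nat_lit 3, nat_lit 0, nat_lit 5, nat_lit 1, nat_lit 0, nat_lit 3, nat_lit 2, nat_lit 3, nat_lit 2, nat_lit 0, nat_lit 2, nat_lit 2, nat_lit 0, nat_lit 2])))))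
 (.node (nat_lit 2736) (.node (nat_lit 2734) (.leaf ((nat_lit 1231), [nat_lit 4, nat_lit 5, nat_lit 1, nat_lit 5, nat_lit 0, nat_lit 4, nat_lit 1, nat_lit 3, nat_lit 1, nat_lit 3, nat_lit 0, nat_lit 1])) (.node (nat_lit 2735) (.leaf ((nat_lit 1405), [nat_lit 3, nat_lit 4, nat_lit 5, nat_lit 4, nat_lit 3, nat_lit 2, nat_lit 0, nat_lit 2, nat_lit 3, nat_lit 0, nat_lit 1, nat_lit 0, nat_lit 2, nat_lit 0])) (.leaf ((nat_lit 1406), [nat_lit 3, nat_lit 2, nat_lit 5, nat_lit 1, nat_lit 0, nat_lit 3, nat_lit 4, nat_lit 0, nat_lit 1, nat_lit 0, nat_lit 1, nat_lit 0, nat_lit 2])))) (.node (nat_lit 2737) (.leaf ((nat_lit 1381), [nat_lit 2, nat_lit 2, nat_lit 5, nat_lit 3, nat_lit 4, nat_lit 0, nat_lit 2, nat_lit 2, nat_lit 3, nat_lit 1, nat_lit 0, nat_lit 1, nat_lit 0])) (.node (nat_lit 2738) (.leaf ((nat_lit 1318), [nat_lit 5, nat_lit 3, nat_lit 1, nat_lit 0, nat_lit 4, nat_lit 1, nat_lit 3, nat_lit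 1, nat_lit 0, nat_lit 1, nat_lit 0, nat_lit 2, nat_lit 2, nat_lit 0])) (.leaf ((nat_lit 1102), [nat_lit 4, nat_lit 0, nat_lit 5, nat_lit 2, nat_lit 3, nat_lit 4, nat_lit 0, nat_lit 2, nat_lit 2, nat_lit 0, nat_lit 1]))))))
 (.node (nat_lit 2744) (.node (nat_lit 2741) (.node (nat_lit 2740) (.leaf ((nat_lit 285), [nat_lit 4, nat_lit 0, nat_lit 5, nat_lit 2, nat_lit 5, nat_lit 0, nat_lit 4, nat_lit 2, nat_lit 3, nat_lit 1, nat_lit 3, nat_lit 0, nat_lit 1])) (.leaf ((nat_lit 573), [nat_lit 3, nat_lit 5, nat_lit 0, nat_lit 3, nat_lit 5, nat_lit 3, nat_lit 4, nat_lit 2, nat_lit 0, nat_lit 2, nat_lit 0, nat_lit 1, nat_lit 0]))) (.node (nat_lit 2742) (.leaf ((nat_lit 1372), [nat_lit 4, nat_lit 3, nat_lit 2, nat_lit 5, nat_lit 4, nat_lit 3, nat_lit 2, nat_lit 3, nat_lit 2, nat_lit 3, nat_lit 0, nat_lit 2, nat_lit 0, nat_lit 1, nat_lit 0, nat_lit 1, nat_lit 0])) (.node (nat_lit 2743) (.leaf ((nat_lit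 859), [nat_lit 4, nat_lit 2, nat_lit 5, nat_lit 3, nat_lit 5, nat_lit 0, nat_lit 4, nat_lit 0, nat_lit 2, nat_lit 2, nat_lit 0])) (.leaf ((nat_lit 1379), [nat_lit 0, nat_lit 4, nat_lit 5, nat_lit 4, nat_lit 3, nat_lit 1, nat_lit 3, nat_lit 0, nat_lit 2, nat_lit 2, nat_lit 0, nat_lit 2, nat_lit 0, nat_lit 1, nat_lit 0])))))
 (.node (nat_lit 2747) (.node (nat_lit 2745) (.leaf ((nat_lit 1170), [nat_lit 3, nat_lit 1, nat_lit 5, nat_lit 2, nat_lit 5, nat_lit 2, nat_lit 0, nat_lit 3, nat_lit 2, nat_lit 3])) (.node (nat_lit 2746) (.leaf ((nat_lit 1175), [nat_lit 3, nat_lit 4, nat_lit 3, nat_lit 5, nat_lit 2, nat_lit 4, nat_lit 2, nat_lit 4, nat_lit 0, nat_lit 2, nat_lit 0, nat_lit 1, nat_lit 0, nat_lit 1])) (.leaf ((nat_lit 142), [nat_lit 3, nat_lit 2, nat_lit 3, nat_lit 5, nat_lit 1, nat_lit 4, nat_lit 2, nat_lit 0, nat_lit 2, nat_lit 3, nat_lit 2, nat_lit 2, nat_lit 0, nat_lit 1])))) (.node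 (nat_lit 2748) (.leaf ((nat_lit 1405), [nat_lit 4, nat_lit 2, nat_lit 5, nat_lit 1, nat_lit 5, nat_lit 3, nat_lit 4, nat_lit 2, nat_lit 4, nat_lit 2, nat_lit 0, nat_lit 2, nat_lit 2, nat_lit 0])) (.node (nat_lit 2749) (.leaf ((nat_lit 1310), [nat_lit 0, nat_lit 2, nat_lit 4, nat_lit 0, nat_lit 5, nat_lit 3, nat_lit 0, nat_lit 3, nat_lit 2, nat_lit 3, nat_lit 2, nat_lit 0, nat_lit 1, nat_lit 0, nat_lit 2, nat_lit 0, nat_lit 2, nat_lit 0])) (.leaf ((nat_lit 97), [nat_lit 4, nat_lit 1, nat_lit 5, nat_lit 0, nat_lit 5, nat_lit 2, nat_lit 0, nat_lit 2, nat_lit 2, nat_lit 3, nat_lit 2, nat_lit 0, nat_lit 2, nat_lit 2, nat_lit 0, nat_lit 2, nat_lit 0])))))))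
 (.node (nat_lit 2761) (.node (nat_lit 2755) (.node (nat_lit 2752) (.node (nat_lit 2751) (.leaf ((nat_lit 806), [nat_lit 3, nat_lit 4, nat_lit 5, nat_lit 2, nat_lit 5, nat_lit 1, nat_lit 0, nat_lit 3, nat_lit 0, nat_lit 4, nat_lit 2, nat_lit 2])) (.leaf ((nat_lit 1283), [nat_lit 1, nat_lit 5, nat_lit 2, nat_lit 5, nat_lit 2, nat_lit 4, nat_lit 2, nat_lit 4, nat_lit 1, nat_lit 0, nat_lit 1, nat_lit 0, nat_lit 2, nat_lit 0, nat_lit 2, nat_lit 0]))) (.node (nat_lit 2753) (.leaf ((nat_lit 1290), [nat_lit 5, nat_lit 1, nat_lit 5, nat_lit 4, nat_lit 2, nat_lit 3, nat_lit 4, nat_lit 0, nat_lit 2, nat_lit 2, nat_lit 0, nat_lit 1, nat_lit 0])) (.node (nat_lit 2754) (.leaf ((nat_lit 1156), [nat_lit 5, nat_lit 1, nat_lit 3, nat_lit 0, nat_lit 5, nat_lit 3, nat_lit 4, nat_lit 2, nat_lit 4, nat_lit 2, nat_lit 3, nat_lit 1])) (.leaf ((nat_lit 255), [nat_lit 4, nat_lit 5, nat_lit 3, nat_lit 2, nat_lit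 5, nat_lit 3, nat_lit 1, nat_lit 4, nat_lit 3, nat_lit 1, nat_lit 0, nat_lit 2, nat_lit 0, nat_lit 1])))))
 (.node (nat_lit 2758) (.node (nat_lit 2756) (.leaf ((nat_lit 584), [nat_lit 2, nat_lit 3, nat_lit 5, nat_lit 0, nat_lit 5, nat_lit 3, nat_lit 4, nat_lit 3, nat_lit 0, nat_lit 3, nat_lit 1, nat_lit 0, nat_lit 1])) (.node (nat_lit 2757) (.leaf ((nat_lit 1385), [nat_lit 2, nat_lit 5, nat_lit 0, nat_lit 5, nat_lit 3, nat_lit 4, nat_lit 0, nat_lit 2, nat_lit 2, nat_lit 3, nat_lit 1, nat_lit 0, nat_lit 2, nat_lit 2, nat_lit 0, nat_lit 1])) (.leaf ((nat_lit 1407), [nat_lit 3, nat_lit 1, nat_lit 5, nat_lit 0, nat_lit 5, nat_lit 1, nat_lit 3, nat_lit 4, nat_lit 3, nat_lit 1, nat_lit 3, nat_lit 2, nat_lit 2, nat_lit 0, nat_lit 2, nat_lit 2, nat_lit 0, nat_lit 2, nat_lit 0])))) (.node (nat_lit 2759) (.leaf ((nat_lit 483), [nat_lit 5, nat_lit 1, nat_lit 5, nat_lit 0, nat_lit 5, nat_lit 3, nat_lit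 0, nat_lit 4, nat_lit 3, nat_lit 0, nat_lit 3, nat_lit 1, nat_lit 0, nat_lit 2, nat_lit 0, nat_lit 1])) (.node (nat_lit 2760) (.leaf ((nat_lit 840), [nat_lit 2, nat_lit 3, nat_lit 5, nat_lit 0, nat_lit 5, nat_lit 4, nat_lit 3, nat_lit 0, nat_lit 4, nat_lit 1, nat_lit 0, nat_lit 3, nat_lit 1, nat_lit 0, nat_lit 2, nat_lit 2, nat_lit 0, nat_lit 1, nat_lit 0])) (.leaf ((nat_lit 1407), [nat_lit 1, nat_lit 4, nat_lit 5, nat_lit 1, nat_lit 5, nat_lit 3, nat_lit 2, nat_lit 2, nat_lit 0, nat_lit 4, nat_lit 1]))))))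
 (.node (nat_lit 2766) (.node (nat_lit 2763) (.node (nat_lit 2762) (.leaf ((nat_lit 1394), [nat_lit 3, nat_lit 1, nat_lit 5, nat_lit 2, nat_lit 5, nat_lit 3, nat_lit 4, nat_lit 3, nat_lit 1, nat_lit 3, nat_lit 2, nat_lit 0, nat_lit 2, nat_lit 0, nat_lit 1])) (.leaf ((nat_lit 1070), [nat_lit 0, nat_lit 5, nat_lit 2, nat_lit 0, nat_lit 5, nat_lit 0, nat_lit 2, nat_lit 4, nat_lit 3, nat_lit 0, nat_lit 1, nat_lit 0, nat_lit 2, nat_lit 2, nat_lit 0, nat_lit 2, nat_lit 0]))) (.node (nat_lit 2764) (.leaf ((nat_lit 1319), [nat_lit 5, nat_lit 1, nat_lit 0, nat_lit 3, nat_lit 5, nat_lit 4, nat_lit 1, nat_lit 3, nat_lit 4, nat_lit 2, nat_lit 3, nat_lit 0, nat_lit 1, nat_lit 0, nat_lit 2, nat_lit 0])) (.node (nat_lit 2765) (.leaf ((nat_lit 1239), [nat_lit 3, nat_lit 1, nat_lit 5, nat_lit 0, nat_lit 5, nat_lit 2, nat_lit 2, nat_lit 4, nat_lit 0, nat_lit 4, nat_lit 1, nat_lit 0, nat_lit 1])) (.leaf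 ((nat_lit 980), [nat_lit 2, nat_lit 0, nat_lit 1, nat_lit 5, nat_lit 3, nat_lit 0, nat_lit 4, nat_lit 3, nat_lit 0, nat_lit 4, nat_lit 2, nat_lit 0, nat_lit 1, nat_lit 0, nat_lit 1, nat_lit 0, nat_lit 2, nat_lit 0])))))
 (.node (nat_lit 2769) (.node (nat_lit 2767) (.leaf ((nat_lit 1056), [nat_lit 2, nat_lit 3, nat_lit 0, nat_lit 5, nat_lit 3, nat_lit 2, nat_lit 0, nat_lit 3, nat_lit 0, nat_lit 2, nat_lit 0])) (.node (nat_lit 2768) (.leaf ((nat_lit 1079), [nat_lit 2, nat_lit 5, nat_lit 1, nat_lit 5, nat_lit 3, nat_lit 2, nat_lit 2, nat_lit 3, nat_lit 0, nat_lit 1, nat_lit 0, nat_lit 1, nat_lit 0, nat_lit 2, nat_lit 0])) (.leaf ((nat_lit 1338), [nat_lit 4, nat_lit 3, nat_lit 0, nat_lit 5, nat_lit 4, nat_lit 1, nat_lit 0, nat_lit 1, nat_lit 0, nat_lit 3, nat_lit 2, nat_lit 2, nat_lit 0, nat_lit 2, nat_lit 0, nat_lit 1, nat_lit 0])))) (.node (nat_lit 2770) (.leaf ((nat_lit 694), [nat_lit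 5, nat_lit 4, nat_lit 1, nat_lit 3, nat_lit 0, nat_lit 1, nat_lit 4, nat_lit 0, nat_lit 2, nat_lit 2, nat_lit 0, nat_lit 1])) (.node (nat_lit 2771) (.leaf ((nat_lit 1228), [nat_lit 2, nat_lit 5, nat_lit 0, nat_lit 1, nat_lit 5, nat_lit 3, nat_lit 2, nat_lit 0, nat_lit 2, nat_lit 2, nat_lit 3, nat_lit 0, nat_lit 1, nat_lit 0, nat_lit 2, nat_lit 0, nat_lit 2])) (.leaf ((nat_lit 391), [nat_lit 4, nat_lit 1, nat_lit 0, nat_lit 5, nat_lit 2, nat_lit 3, nat_lit 2, nat_lit 2, nat_lit 3, nat_lit 0, nat_lit 2]))))))))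
 (.node (nat_lit 2794) (.node (nat_lit 2783) (.node (nat_lit 2777) (.node (nat_lit 2774) (.node (nat_lit 2773) (.leaf ((nat_lit 1406), [nat_lit 3, nat_lit 5, nat_lit 0, nat_lit 3, nat_lit 5, nat_lit 2, nat_lit 3, nat_lit 1, nat_lit 3, nat_lit 4, nat_lit 3, nat_lit 0, nat_lit 2, nat_lit 0, nat_lit 2, nat_lit 2, nat_lit 0, nat_lit 2])) (.leaf ((nat_lit 1398), [nat_lit 5, nat_lit 2, nat_lit 4, nat_lit 0, nat_lit 5, nat_lit 4, nat_lit 3, nat_lit 1, nat_lit 3, nat_lit 1, nat_lit 3, nat_lit 2, nat_lit 0, nat_lit 2, nat_lit 0]))) (.node (nat_lit 2775) (.leaf ((nat_lit 947), [nat_lit 4, nat_lit 3, nat_lit 5, nat_lit 0, nat_lit 3, nat_lit 1, nat_lit 3, nat_lit 4, nat_lit 3, nat_lit 2, nat_lit 0, nat_lit 2, nat_lit 2])) (.node (nat_lit 2776) (.leaf ((nat_lit 1120), [nat_lit 4, nat_lit 3, nat_lit 5, nat_lit 0, nat_lit 5, nat_lit 4, nat_lit 2, nat_lit 3, nat_lit 1, nat_lit 3, nat_lit 2, nat_lit 2,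 nat_lit 0, nat_lit 2, nat_lit 2, nat_lit 0, nat_lit 2, nat_lit 0])) (.leaf ((nat_lit 1212), [nat_lit 1, nat_lit 5, nat_lit 3, nat_lit 5, nat_lit 2, nat_lit 0, nat_lit 4, nat_lit 3, nat_lit 2, nat_lit 2, nat_lit 0, nat_lit 2, nat_lit 2, nat_lit 0, nat_lit 2, nat_lit 2, nat_lit 0])))))
 (.node (nat_lit 2780) (.node (nat_lit 2778) (.leaf ((nat_lit 628), [nat_lit 5, nat_lit 3, nat_lit 2, nat_lit 5, nat_lit 4, nat_lit 3, nat_lit 0, nat_lit 3, nat_lit 2, nat_lit 2, nat_lit 0, nat_lit 2, nat_lit 0])) (.node (nat_lit 2779) (.leaf ((nat_lit 1315), [nat_lit 4, nat_lit 5, nat_lit 3, nat_lit 2, nat_lit 5, nat_lit 4, nat_lit 0, nat_lit 3, nat_lit 0, nat_lit 2, nat_lit 3, nat_lit 0, nat_lit 1, nat_lit 0, nat_lit 2, nat_lit 2, nat_lit 0, nat_lit 2, nat_lit 0])) (.leaf ((nat_lit 1364), [nat_lit 4, nat_lit 5, nat_lit 1, nat_lit 5, nat_lit 3, nat_lit 2, nat_lit 2, nat_lit 3, nat_lit 1, nat_lit 0, nat_lit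 1])))) (.node (nat_lit 2781) (.leaf ((nat_lit 205), [nat_lit 5, nat_lit 1, nat_lit 5, nat_lit 0, nat_lit 5, nat_lit 0, nat_lit 3, nat_lit 0, nat_lit 4, nat_lit 2])) (.node (nat_lit 2782) (.leaf ((nat_lit 1390), [nat_lit 2, nat_lit 2, nat_lit 0, nat_lit 5, nat_lit 4, nat_lit 0, nat_lit 1, nat_lit 0, nat_lit 1, nat_lit 0, nat_lit 3, nat_lit 2])) (.leaf ((nat_lit 514), [nat_lit 5, nat_lit 1, nat_lit 5, nat_lit 0, nat_lit 5, nat_lit 3, nat_lit 0, nat_lit 3, nat_lit 1, nat_lit 4, nat_lit 0, nat_lit 2, nat_lit 0, nat_lit 1, nat_lit 0]))))))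
 (.node (nat_lit 2788) (.node (nat_lit 2785) (.node (nat_lit 2784) (.leaf ((nat_lit 998), [nat_lit 4, nat_lit 5, nat_lit 2, nat_lit 5, nat_lit 0, nat_lit 4, nat_lit 2, nat_lit 0, nat_lit 2, nat_lit 3, nat_lit 0, nat_lit 1, nat_lit 0, nat_lit 2, nat_lit 0, nat_lit 2, nat_lit 0])) (.leaf ((nat_lit 14), [nat_lit 4, nat_lit 3, nat_lit 5, nat_lit 3, nat_lit 2, nat_lit 3, nat_lit 2, nat_lit 2, nat_lit 3, nat_lit 1, nat_lit 0, nat_lit 2, nat_lit 2, nat_lit 0, nat_lit 2, nat_lit 0]))) (.node (nat_lit 2786) (.leaf ((nat_lit 1057), [nat_lit 4, nat_lit 2, nat_lit 5, nat_lit 0, nat_lit 3, nat_lit 1, nat_lit 3, nat_lit 4, nat_lit 2, nat_lit 0, nat_lit 1])) (.node (nat_lit 2787) (.leaf ((nat_lit 1074), [nat_lit 4, nat_lit 5, nat_lit 4, nat_lit 0, nat_lit 5, nat_lit 4, nat_lit 1, nat_lit 0, nat_lit 4, nat_lit 3, nat_lit 1, nat_lit 0, nat_lit 2, nat_lit 0, nat_lit 2, nat_lit 2])) (.leaf ((nat_lit 1339),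 [nat_lit 0, nat_lit 5, nat_lit 3, nat_lit 5, nat_lit 3, nat_lit 1, nat_lit 0, nat_lit 4, nat_lit 1, nat_lit 0, nat_lit 1, nat_lit 0, nat_lit 2, nat_lit 2])))))
 (.node (nat_lit 2791) (.node (nat_lit 2789) (.leaf ((nat_lit 1402), [nat_lit 4, nat_lit 5, nat_lit 1, nat_lit 5, nat_lit 3, nat_lit 0, nat_lit 1, nat_lit 3, nat_lit 0, nat_lit 3, nat_lit 2, nat_lit 0, nat_lit 2, nat_lit 0, nat_lit 1, nat_lit 0, nat_lit 1])) (.node (nat_lit 2790) (.leaf ((nat_lit 1071), [nat_lit 4, nat_lit 2, nat_lit 0, nat_lit 5, nat_lit 3, nat_lit 0, nat_lit 1, nat_lit 0, nat_lit 4, nat_lit 0, nat_lit 1, nat_lit 0, nat_lit 1, nat_lit 0, nat_lit 2])) (.leaf ((nat_lit 1384), [nat_lit 4, nat_lit 5, nat_lit 4, nat_lit 1, nat_lit 0, nat_lit 3, nat_lit 2, nat_lit 2, nat_lit 0, nat_lit 2, nat_lit 2, nat_lit 0, nat_lit 2, nat_lit 2])))) (.node (nat_lit 2792) (.leaf ((nat_lit 1326), [nat_lit 1, nat_lit 0, nat_lit 3, nat_lit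 5, nat_lit 4, nat_lit 3, nat_lit 1, nat_lit 4, nat_lit 0, nat_lit 2, nat_lit 2, nat_lit 0, nat_lit 2, nat_lit 0])) (.node (nat_lit 2793) (.leaf ((nat_lit 1388), [nat_lit 4, nat_lit 2, nat_lit 5, nat_lit 3, nat_lit 5, nat_lit 4, nat_lit 1, nat_lit 3, nat_lit 0, nat_lit 3, nat_lit 2, nat_lit 0, nat_lit 1])) (.leaf ((nat_lit 570), [nat_lit 4, nat_lit 5, nat_lit 1, nat_lit 5, nat_lit 3, nat_lit 0, nat_lit 4, nat_lit 0, nat_lit 4, nat_lit 2, nat_lit 2, nat_lit 0, nat_lit 1, nat_lit 0, nat_lit 2, nat_lit 2, nat_lit 0])))))))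
 (.node (nat_lit 2805) (.node (nat_lit 2799) (.node (nat_lit 2796) (.node (nat_lit 2795) (.leaf ((nat_lit 1054), [nat_lit 4, nat_lit 1, nat_lit 5, nat_lit 0, nat_lit 5, nat_lit 3, nat_lit 4, nat_lit 3, nat_lit 0, nat_lit 2, nat_lit 0, nat_lit 2, nat_lit 2])) (.leaf ((nat_lit 1386), [nat_lit 1, nat_lit 3, nat_lit 2, nat_lit 5, nat_lit 2, nat_lit 0, nat_lit 3, nat_lit 1, nat_lit 3, nat_lit 2, nat_lit 2, nat_lit 0, nat_lit 2, nat_lit 2, nat_lit 0, nat_lit 2]))) (.node (nat_lit 2797) (.leaf ((nat_lit 965), [nat_lit 4, nat_lit 5, nat_lit 3, nat_lit 2, nat_lit 5, nat_lit 1, nat_lit 3, nat_lit 1, nat_lit 4, nat_lit 2, nat_lit 2, nat_lit 0, nat_lit 2, nat_lit 0, nat_lit 1, nat_lit 0])) (.node (nat_lit 2798) (.leaf ((nat_lit 736), [nat_lit 5, nat_lit 4, nat_lit 5, nat_lit 4, nat_lit 0, nat_lit 4, nat_lit 3, nat_lit 0, nat_lit 1, nat_lit 0, nat_lit 2, nat_lit 0, nat_lit 2, nat_lit 2])) (.leaf ((nat_lit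 247), [nat_lit 5, nat_lit 4, nat_lit 1, nat_lit 0, nat_lit 5, nat_lit 0, nat_lit 4, nat_lit 2, nat_lit 3, nat_lit 1, nat_lit 3, nat_lit 0, nat_lit 1, nat_lit 0, nat_lit 2, nat_lit 2])))))
 (.node (nat_lit 2802) (.node (nat_lit 2800) (.leaf ((nat_lit 902), [nat_lit 5, nat_lit 3, nat_lit 5, nat_lit 2, nat_lit 3, nat_lit 4, nat_lit 2, nat_lit 4, nat_lit 0, nat_lit 1, nat_lit 0])) (.node (nat_lit 2801) (.leaf ((nat_lit 1373), [nat_lit 5, nat_lit 1, nat_lit 4, nat_lit 1, nat_lit 3, nat_lit 1, nat_lit 3, nat_lit 0, nat_lit 2, nat_lit 2, nat_lit 0, nat_lit 2, nat_lit 0, nat_lit 1, nat_lit 0])) (.leaf ((nat_lit 833), [nat_lit 5, nat_lit 4, nat_lit 3, nat_lit 5, nat_lit 2, nat_lit 5, nat_lit 4, nat_lit 3, nat_lit 0, nat_lit 2, nat_lit 4, nat_lit 0, nat_lit 2, nat_lit 2, nat_lit 0, nat_lit 2, nat_lit 0, nat_lit 1, nat_lit 0])))) (.node (nat_lit 2803) (.leaf ((nat_lit 1366), [nat_lit 0, nat_lit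 5, nat_lit 2, nat_lit 0, nat_lit 5, nat_lit 0, nat_lit 1, nat_lit 3, nat_lit 4, nat_lit 2, nat_lit 3])) (.node (nat_lit 2804) (.leaf ((nat_lit 1185), [nat_lit 1, nat_lit 3, nat_lit 0, nat_lit 5, nat_lit 1, nat_lit 0, nat_lit 3, nat_lit 4, nat_lit 0, nat_lit 3, nat_lit 2, nat_lit 2, nat_lit 0, nat_lit 2, nat_lit 0])) (.leaf ((nat_lit 769), [nat_lit 3, nat_lit 2, nat_lit 0, nat_lit 5, nat_lit 0, nat_lit 3, nat_lit 2, nat_lit 3, nat_lit 1, nat_lit 0, nat_lit 2, nat_lit 2, nat_lit 0]))))))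
 (.node (nat_lit 2810) (.node (nat_lit 2807) (.node (nat_lit 2806) (.leaf ((nat_lit 1396), [nat_lit 3, nat_lit 2, nat_lit 5, nat_lit 0, nat_lit 5, nat_lit 3, nat_lit 2, nat_lit 3, nat_lit 2, nat_lit 2, nat_lit 3, nat_lit 0, nat_lit 1, nat_lit 0, nat_lit 2, nat_lit 2, nat_lit 0, nat_lit 1, nat_lit 0])) (.leaf ((nat_lit 1404), [nat_lit 4, nat_lit 5, nat_lit 4, nat_lit 2, nat_lit 3, nat_lit 2, nat_lit 3, nat_lit 0, nat_lit 2, nat_lit 0, nat_lit 2, nat_lit 2, nat_lit 0, nat_lit 1, nat_lit 0]))) (.node (nat_lit 2808) (.leaf ((nat_lit 1132), [nat_lit 5, nat_lit 2, nat_lit 2, nat_lit 0, nat_lit 5, nat_lit 3, nat_lit 1, nat_lit 4, nat_lit 3, nat_lit 2, nat_lit 0, nat_lit 3, nat_lit 1, nat_lit 0, nat_lit 2, nat_lit 2, nat_lit 0, nat_lit 2, nat_lit 2, nat_lit 0])) (.node (nat_lit 2809) (.leaf ((nat_lit 1382), [nat_lit 4, nat_lit 5, nat_lit 3, nat_lit 5, nat_lit 2, nat_lit 4, nat_lit 3, nat_lit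 0, nat_lit 2, nat_lit 0, nat_lit 2, nat_lit 0])) (.leaf ((nat_lit 342), [nat_lit 2, nat_lit 5, nat_lit 1, nat_lit 5, nat_lit 0, nat_lit 3, nat_lit 1, nat_lit 4, nat_lit 2, nat_lit 2, nat_lit 0, nat_lit 2, nat_lit 2, nat_lit 0, nat_lit 2, nat_lit 2])))))
 (.node (nat_lit 2813) (.node (nat_lit 2811) (.leaf ((nat_lit 245), [nat_lit 3, nat_lit 0, nat_lit 2, nat_lit 5, nat_lit 3, nat_lit 1, nat_lit 3, nat_lit 0, nat_lit 2, nat_lit 2, nat_lit 0, nat_lit 2])) (.node (nat_lit 2812) (.leaf ((nat_lit 137), [nat_lit 3, nat_lit 1, nat_lit 5, nat_lit 2, nat_lit 5, nat_lit 1, nat_lit 3, nat_lit 2, nat_lit 0, nat_lit 4, nat_lit 0, nat_lit 2, nat_lit 0, nat_lit 2, nat_lit 2, nat_lit 0, nat_lit 2])) (.leaf ((nat_lit 740), [nat_lit 5, nat_lit 0, nat_lit 3, nat_lit 5, nat_lit 2, nat_lit 4, nat_lit 3, nat_lit 2, nat_lit 2, nat_lit 0, nat_lit 1, nat_lit 0, nat_lit 2])))) (.node (nat_lit 2814) (.leaf ((nat_lit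 1350), [nat_lit 3, nat_lit 1, nat_lit 5, nat_lit 2, nat_lit 5, nat_lit 1, nat_lit 3, nat_lit 0, nat_lit 2, nat_lit 4, nat_lit 1, nat_lit 0, nat_lit 2, nat_lit 0, nat_lit 1, nat_lit 0])) (.node (nat_lit 2815) (.leaf ((nat_lit 1297), [nat_lit 2, nat_lit 3, nat_lit 0, nat_lit 5, nat_lit 4, nat_lit 3, nat_lit 1, nat_lit 3, nat_lit 2, nat_lit 2, nat_lit 0, nat_lit 2, nat_lit 2, nat_lit 0, nat_lit 2, nat_lit 2, nat_lit 0])) (.leaf ((nat_lit 1255), [nat_lit 3, nat_lit 5, nat_lit 0, nat_lit 3, nat_lit 5, nat_lit 0, nat_lit 3, nat_lit 0, nat_lit 4]))))))))))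
noncomputable def bWd : Tr (ℕ × List ℕ) := (.node (nat_lit 1408) (.node (nat_lit 704) (.node (nat_lit 352) (.node (nat_lit 176) bWd_0 bWd_1) (.node (nat_lit 528) bWd_2 bWd_3)) (.node (nat_lit 1056) (.node (nat_lit 880) bWd_4 bWd_5) (.node (nat_lit 1232) bWd_6 bWd_7))) (.node (nat_lit 2112) (.node (nat_lit 1760) (.node (nat_lit 1584) bWd_8 bWd_9) (.node (nat_lit 1936) bWd_10 bWd_11)) (.node (nat_lit 2464) (.node (nat_lit 2288) bWd_12 bWd_13) (.node (nat_lit 2640) bWd_14 bWd_15))))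
theorem bq_0 : allR 0 403 (dbl2Chk (nat_lit 10) (nat_lit 1023) (U62.L.map Lev.b) xS uT v1T bDd 2 1408 6 bPA bWd) = true := by decide +kernel
theorem bq_1 : allR 403 401 (dbl2Chk (nat_lit 10) (nat_lit 1023) (U62.L.map Lev.b) xS uT v1T bDd 2 1408 6 bPA bWd) = true := by decide +kernel
theorem bq_2 : allR 804 401 (dbl2Chk (nat_lit 10) (nat_lit 1023) (U62.L.map Lev.b) xS uT v1T bDd 2 1408 6 bPA bWd) = true := by decide +kernel
theorem bq_3 : allR 1205 203 (dbl2Chk (nat_lit 10) (nat_lit 1023) (U62.L.map Lev.b) xS uT v1T bDd 2 1408 6 bPA bWd) = true := by decide +kernel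
theorem bq : allR 0 1408 (dbl2Chk (nat_lit 10) (nat_lit 1023) (U62.L.map Lev.b) xS uT v1T bDd 2 1408 6 bPA bWd) = true := (allR_add (allR_add (allR_add bq_0 bq_1) bq_2) bq_3)
theorem bD {G : Type*} [Group G] [Finite G] {X : Type*} [MulAction G X] {pt : ℕ → X} (C : Ch G 693 (nat_lit 10) (nat_lit 1023) pt U62.T U62.L) : Lets G 693 (nat_lit 10) (nat_lit 1023) pt bDd := lets_words C.lets bdE bdw
theorem bd {G : Type*} [Group G] [Finite G] {X : Type*} [MulAction G X] {pt : ℕ → X} (C : Ch G 693 (nat_lit 10) (nat_lit 1023) pt U62.T U62.L) {U V : Subgroup G} (hU : Lets U 693 (nat_lit 10) (nat_lit 1023) pt uT) (hV : Lets V 693 (nat_lit 10) (nat_lit 1023) pt v1T) (g : G) :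
    ∃ i < 6, ∃ u ∈ U, ∃ x ∈ V, g = u * (bD C).e i * x :=
  C.dbl3 (xl C) xslp (by decide +kernel) hU hV (bD C) bq (by decide +kernel) g
noncomputable def cR_0 : Tr ℕ := (.node (nat_lit 7) (.node (nat_lit 3) (.node (nat_lit 1) (.leaf (nat_lit 0x2b4aceb2ac6b0abeaeab6acaaeaaaa6a8a9ea6a96a4a8ea2a86a0a7e9ea769ca6e9aa6698a5e96a5694a4e92a4690a3e8ea368ca2e8aa2688a1e86a1684a0e82a06809fe7e9f67c9ee7a9e6789de769d6749ce729c6709be6e9b66c9ae6a9a66899e669966498e629866097e5e9765c96e5a9665895e569565494e529465093e4e9364c92e4a9264891e469164490e42906408fe3e8f63c8ee3a8e6388de368d6348ce328c6308be2e8b62c8ae2a8a62889e268962488e228862087e1e8761c86e1a8661885e168561484e128461083e0e8360c82e0a8260881e068160480e02806007fdfe7f5fc7edfa7e5f87ddf67d5f47cdf27c5f07bdee7b5ec7adea7a5e879de6795e478de2785e077dde775dc76dda765d875dd6755d474dd2745d073dce735cc72dca725c871dc6715c470dc2705c06fdbe6f5bc6edba6e5b86ddb66d5b46cdb26c5b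06bdae6b5ac6adaa6a5a869da6695a468da2685a067d9e6759c66d9a6659865d966559464d926459063d8e6358c62d8a6258861d866158460d82605805fd7e5f57c5ed7a5e5785dd765d5745cd725c5705bd6e5b56c5ad6a5a56859d665956458d625856057d5e5755c56d5a5655855d565555454d525455053d4e5354c52d4a5254851d465154450d42505404fd3e4f53c4ed3a4e5384dd364d5344cd324c5304bd2e4b52c4ad2a4a52849d264952448d224852047d1e4751c46d1a4651845d164551444d124451043d0e4350c42d0a4250841d064150440d02405003fcfe3f4fc3ecfa3e4f83dcf63d4f43ccf23c4f03bcee3b4ec3acea3a4e839ce6394e438ce2384e037cde374dc36cda364d835cd6354d434cd2344d033cce334cc32cca324c831cc6314c430cc2304c02fcbe2f4bc2ecba2e4b82dcb62d4b42ccb22c4b02bcae2b4ac2acaa2a4a829ca6294a428ca2284a027c9e2749c26c9a2649825c962549424c922449023c8e2348c22c8a2248821c862148420c82204801fc7e1f47c1ec7a1e4781dc761d4741cc721c4701bc6e1b46c1ac6a1a46819c661946418c621846017c5e1745c16c5a1645815c561545414c521445013c4e1344c12c4a1244811c461144410c42104400fc3e0f43c0ec3a0e4380dc360d4340cc320c4300bc2e0b42c0ac2a0a42809c260942408c220842007c1e0741c06c1a0641805c160541404c120441003c0e0340c02c0a0240801c060140400c0200400))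 (.node (nat_lit 2) (.leaf (nat_lit 0x14851d465154450d42505404fd3e4f6a8a9ea6a96a4a8ea2a86a0a7e9ea75f87ddf67d5f47cdf27c5f07bdee7b49b2689926097258952509346d1a4651845d164551444d12445109ee7a9e6789de769d6749ce729c67072dca725c871dc6715c470dc2705c01cc721c4701bc6e1b46c1acee3b4ec3acea3a4e839ce6394e438e4e9364c92e4a9264891e469164490d9e6759c66d9a6659865d966559464c4b12849120471184511043224c3308c1300bf2f8bd2f0bb88e228862087e1e8761c86d735c9715c16f5b96d5b16b2c42007c1e0741c06c1a0641805c160553c4ed3a4e5384dd364d5344cd324c69ca6e9aa6698a5e96a5694a4e92a45ec7adea7a5e879de6795e478de2784922449023c8e2348c22c8a43d0e4350c42d0a4250841d06415049be6e9b66c9ae6a9a66899e66996646fdbe6f5bc6edba6e5b86ddb66d5b41a8691a0671986519063188e2384e037cde374dc36cda364d835e42906408fe3e8f63c8ee3a8e6388dd926459063d8e6358c62d8a6258861c42104400fc3e0f43c0ec3a0e4ba2e4b82dcb62d4b42ccb286a198621785a15852138496a5a56859d665956458d625841404c120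441003c0e0340c02c0a0255454d525455053d4e5354c52d4a526b4aceb2ac6b0abeaeab6acaaeaaaa60480e02806007fdfe7f5fc7edfa7e4a428ca2284a027c9e2749c49d264952448d224852047d1e4751ca1e86a1684a0e82a06809fe7e9f67c75dd6755d474dd2745d073dce735cc1f07b1e8791e0771d8751d0fa3e4f83dcf63d4f43ccf23c4f03be5a9665895e569565494e529465093daa6a5a869da6695a468da2685a067c5414c521445013c4e1344c184cc32cca324c831cc6314c48b22b8aa298a22789a258917c5ed7a5e5785dd765d5748442c0ac2a0a42809c260942408c22085304bd2e4b52c4ad2a4a528a428fa3a8da328ba2a89a21e077dde775dc76dda765d88b48821c862148420c82204801fc7e1f50340901400ff3f8fd3f0fb98e629866097e5e9765c96db36c9b16c1af6b9ad6b1ab3346017c5e1745c16c5a1645815c56154d6354d434cd2344d033cce8da358d2338ca318c22f8b9866158460d82605805fd7e5f4380dc360d4340cc320c4300bc2e0b4b02bcae2b4ac2acaa2a4a829ca62961083e0e8360c82e0a8260881e068156057d5e5755c56d5a5655855d565540801c060140400c0200400)) (.leaf (nat_lit 0x20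480e0293a4d9301404c1205d0340a6f9ba6d5815f578fa3e4f86d89b268380dc364f13b4e9cb729c9aae2c8acc33087c1ee90a3d9264590388e13808821c86a1e86a15335cd720b02b0a91b469197b1eb7aa458da35aa2a7a99aa6a5a82c0af2b9571a8696cdb286a1912c4a5515354a1083e0e6fdbe6f54851d466845414d9e6759cad2b3ac86017c5e1fcba2e527499250801f07a4290640449e077c92244d63557c5ee7b9ea7952c731c8cc32d866169ca6e9a4c12f1084188e2275dd67556a5a663988a428cee3b4ec73a5a966587e1f77d90f4390d7bc0801e01801ff92e4a924110400f08d014026c9ae6a5755c56cf73d8f5a7c99260350d0334e5384ddc871dc63662a8a4c13007a1e68ea358f6398d37cde3748521083a1283a09955c5700a42809d1845d167a5e879d1e8d233a96a4a8da7699a52b4ac2ae071a0676c5b086217124485455053e0d8320b6f1bb6e94551143998521459b66999ac6b0abc5d1705b0bcb82dd2448d220741c06e3f8fa3d7edde7749023cd434d7a5e6789de76624711c0ca3258460e99a62974b92d1003f88620751d37496859e61980a2284eb3a8e9a4e5795a557d5f47cd0c42d0a94406015fe7f5fc922479180e0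340c02cff3fa699a26756959560f43ccf23c497258320c4304d9354d1c5711c370a2889cbf2f8781de8ca2d8c62d8a370db3688220480a06809fe7e5bd6e098250911545113799e5791e38ca31a8aa1a81a468da22a8a92a0a7198656bdae85a1511c465394d5320a826086e5b86dd42505404fc5013d9865d96abaadab05a1645815cb62d5214811f068190623c8ee3a8e5dc76c8e234d2345785de759d2739c86f1b8c831d8260696a56944b12b0f83d87e1e745d073d665965f978a027ce839ce63965494e527c9f17c109421074180400dfa7e64490c0a024fd3f0fb99664559553c0ef2549424c2e0b5324c5c170226896242c4bd2f0bb1d8751d28aa26883358861cd835c7e1f67d9f16d5b16b0882144510789e18c22f8ba9ea75a067ca62946418c62185ad6b1ab8521384845110432254a52606815b56d13e4f44e1344c65193aaaa9158552d0b32c91d47016056388ddda765d88b48c22c8a340cf339765d574846719c06d1b06b318c5311805fd7e5f692a452a4a5280f03b0ea1d8721b585cd7316458d629765c96c9e2749c0e4e438e5093dee7b5054100200400))))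
 (.node (nat_lit 5) (.node (nat_lit 4) (.leaf (nat_lit 0x24b92a4966d9a664eb3a8e9a4c491226f9ba6d6fdbe6f50f4390d7bc6a1a626896245d9755d0c6314c4584220868ca2ddc76d2c4ac8220480a06809fdd1741cf4852047d1e1e0778c22f8b9805fd7e340cf338cd0b82daa2a7a99f87ddf652147519a126c9a862175a1672e0b70441003e1083e0e5815f578b02bcae55c0801eb1ac2af806007fd515414f9c8a22863c8ee3a6318b628dc36cda3643e0f6719c1c1701114406d1b06b0e692a45e2785324c48c22c8a87e1e5bd6e2fcbe0681906261981b16c1014005d1705b0be5a966586a9a96a0fa3e4f86d85414eb4aceb2812038095454d52624a428e0d8320b5755c56cad2b0ab81c06016759d273715c470d15451134486f1ba388dd8861cd835c3c0ec3a8761c86d6d5b16b2f4bc2ee1105815a5a95a51e6795e44d9354d1332388d95e56955a7699a53dcf63d69f1485198e626cdb240d021805f17a6c9ae6a6f1bb6e90c42d0a9446819e4e9364c6799d670ee3b4ec7384b12a8aa2688769d97612a4a5285f47e1f62889d785dcc831c260942408e328c582604d2344320c4309f67c735cc4751c1d8751d21a8656a5a4ba2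e41404c1205ea5a92a37d5f47cd4551143998992625d9725b6b5ac6acfd3f0fb8b4561565494e52691a3688f43ccf23c45013e99a62977a5e879d394e1379f89023e23889735c8c33082007c1e90a419019264590388e1381c2108419e2779d9c871dc64611745a391c47082a098215a565582a8a92a0a701003aaaa97e9f9529492789d272a2a86a07c9f17c142505404fc9725a1484e1259163588b42ccb22c40a02687a1a8575dd6755274992578c7c1ee348cd8460cd434c350d0331fe2a8a57a5e4ca324290a027a428f781df4c12f2208721a4490d9464ce438c4511043226699a2676e5b86dd0942107418661961685566594b62d40e0340ca7a9d7b9ed4f93d2549424e368d586614d6354380dc3615e84a0e82751d37492448d229147a1e68ea35de7752e4b485210838b22b5f17b330cb0b02b0aa65991b56d1054106418c621864891e4666197658e839ce63944711a5093da067cf03bc4e1344c97e5e6bdae3fcfe1685916221881715c0c13001d0701b02e9ca6e9a7b1eb7a93c4ed3a654922467b9ea7972dca7251b469197ec731ca3f8fa3d63d8e634df378ddaac400feaeab6ac7f9fd7f14e5354c52ca027e0681556554a62940200400)) (.leaf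 (nat_lit 0x2b42a46b23cfa5acca148cd3380d0b1267b40f1be069c8d1256856647c1ed7b9b080169a9a5e3e00e028e87d1f96e5be4d7a68ca2e70568dd5fcb9a814a29157025217cd07599653727a56d020765212e5f6daa333e8a858e46869b155a52157599e668f11708025986609d1926c568184653199c95cfc0615f35e7654a2b8b099a39613cd702290f91dd88b55462c028024067e9616e6530e93755d63ae1c591c0704451d5f204d229164f94063139b56d041545c33ddbe1404f2be0d05a36479a35200501a6f5043874212845c80ed4c879ad4e9dc7880b032a46e4c217694456417fcea5dc860c13d4f8d81cd8958cd59fe3048c1205dbca9dec064fba359e311716108910e09581bb3d0531520a2b02976646012388e547730335161373dce3a1d31453c6ae105343a6e12d890b28ce34136224d1ee78023815c553e738a2274c93197529084228303d724bda61a838c829a8568693f9b51a8fde83fa582e847a7ca337d582b99464e5e5b4f863c6c2a02b90d0a7d9695a8a1289e549cb82dd67a1c93188e7a70c03051b7f4ee9a1745cd7279a4aa3e90644a5abd876225c6027d9f2357d51f931e19501b2795c9e6891a596a08771e24440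e518944a6dc3c71e0e29e844ee19751407443750c3485546689f97e9ca5260b3fc0a418464a9bd3d5b36c849120e271100405356c04c60ea81d0147c62ea009858a1b0fc405e1a00bc87990e98040144d120c85c9210e09c722b58a358669f9371108c54e784ad2c4e59d3f6567aab01b99088cd24cddf92c24078f03bd76210ec8ddfe459cd5f07f17a6e69d2e240b165cc9a227b36c9c0e5f894d097d09b268f6a883e9c6abab0cc32eae3789124a59055e78ee045e57a180816a8592ed9ba19826041f044a6109c23806a87d9542ddb0a8aaacd8d52cb45b283661856180e0715d274da350d3939201c071a84795f8c7320e1ac48e2350409a4979007461fc9a4ed20da62fa9a39a91a4a9ea746425155558108c5257dd0c25897a94f91b58eac8b05646819d089687a8a97d96cbf0b8e580d108f6992f05815da49addd77aad72e21882296fd289d5504c12f669368c90578cb38991c474d06b14e83dc636614510360b54274911021fb4645f0d6a9630ab768284348b988f26e9ae6be632d8f19dc9f5781a7ae557be1d315248bdf02d476a98a0aaa0782138a043122217861d7a564245000))) (.node (nat_lit 6) (.leaf (nat_lit 0x1f821d3a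ac53820c827c6acaac7e1f565828243002982e05590bb8495d83c42a3a669113e334d4281e3495b06c4941929b7514d9ee74195cf181caa150ca0dc67145941d06705c0a2de6500a1515e77868a2706b491eb40c5252dcd620611a2323969a260993161d57cad064140361e2a0e29659c0d59a9565436c300be5093c4f3a18a8cd8f3a4e313a2e762993b57c5a01729822586212fe07578c9329ac3412692e686a9a334646489735ca2a8a40400c025b2243e9b88f1176025c989bf4644611cef3c1856192c1f29f3d48ba75288012da8ea7246028e8f6a88be09a0859e0d09c212f5623101d0aeb44ec867d4844dd36ab5f07bd324c4639c0fb74d009da7a1a5d5a51509d46e1bd1c475b26ccd22924527d427928d7a5434f49ea21ab9b14743e867245d71e82a0508160579f67c870095d0ac5e40f04e222b9580700e76ddca46922689b19a3673a31630e6144eb635878c04c24d51644386765837e56665980c4da3659464ccf67c3a9283f695a93564c47e6b6921585955558cb3321f30ca756e42450f46ec451d47b46dbd8b22b5c5702d8b52d2255ac4423241804f3aa2a1235fc8f49298639a79115f52e1e1b63e183610d62891e681e20e440a313f9b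4701c4fc730629dc67749d640a7953298744887deb24e6b07cdf2205344cdee7b4200955a832142f0c20b20e1aa34a4e713922d4045062552775de5d4a586c10880ab2bd7b04818570aa72c5f4368442c5b169c49fe7e158559bd41485e81b49d28d487aa233055702a068457a5982307a178603b90cce698d39264d105a899d239225a3843666c34374dc94d96654d835d5462e963a9da8be35648eca5d8160a378e04a12c8e98dfb5fd2a3e6a58ee047f52ba800801cb82dd6f5b96d004b22c477455b7981bc459101da5b5fa3f469d93f5539e29575dd03fa736b9af992651c8730fa90685608241a0a0c658d698402a06d3cacdf6215f4abeae4d4801feaaaa6135d81f045592c0a95dc0c258975254a77de03fc549c92779669511ada268f7b1469aa874385e7205c42909a01c3709054106c0f26e69d2093a470f5a231cc8054168661a5e16a02e9c39d4e63895134533b99053d9e0dce095cde0cc3265e529442e0b5297e48aa908f7fe034bea63ca3e7f9301e8f17e9b52249097d12900481265e6e5131e5186e9b49747410cf76f8ba2e4060162889e262cc00)) (.leaf (nat_lit 0x110999776adde824631e01a9789b7dc481443f3799b955a7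8f4ea8de548196e4127e0986c198a8974d68a66b520b3a3d7680c154f06f03875760b06c48b0a8504f6198e69a8210730da93997138a5381e356042295c4d4e25072201a4a6a260391e6b32655d7008e1d9033eeaba551b5d2446f1509c523a8e9e9d9e91026e015913c8cc0d832010fa91d688be5a3bc5e0048249d62a85be8754c9fe0ea7d949d0cd47d1116a22915490a1e828083a4d51612264d1ca88e3087cd7884448ed7a3b94ea01e56b88044c472741e52dd4512381c08f1850babe7d9d69d2b100a357d9b200391c64e5ee1952904595aa5721a08a0b0d2764ae7bdfc73c3d05c4a94a2c384e7861aa67cb833d434feb0771dd1f0b27c68707c9227a10405282e4d97b55c7351572e244d66d2f1fe1ec09259090ae633b23c2fe5965973614d155c4c380431a4ada142746a174c90aac5e49e8c6a892558c81180005186b78c851f85ba91884914f475bb7e236324ca9398b020370c166640f45599a61d596e6274800c9cc7d01c2f8080251e1c244c4aca8e2a65b6e9f69e12f1729c0606412cf329a462c58c028eb6963e0b4742880d991ce2f8fd619586dd894e80b1044f8a2586621a3b63a844dd8ba915eda14aa0f7809c0807a77c25a068b40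9557f66f2ed367262528dad1cc425c12e0a5062ad457e9d28fce969999958df34d838cc4565c16971af2a86d1502473112855148cab424019188ff829ac708b59f12c2f69b9813b74e044309a568fc97e48320f80c4060e18a5aa4d340b690e1b535bf592a0498c579a7903dff1fe7779db548aa55285d2102e7408c882941609f485f26e0f1784cb8d24c3399264cf9139a83a1789ec1017cc06f55b415c74dc56745e21b8f0420afa41da59e862d1f06ca054ad195d69616569124124cd5f1aa2b351d584d42aa8fe99669225c30507124dd65e50f83262074d8a11f425c5311823678db8aa406921638d9d601db7154099ead1de61a21604c41c2520da28b746298680a16cdf514a977ed6cab90d82da3306423716f6723129cd50ecba0f11722067a9e82548c79c1b65adea296a88508747a1e6d13054e51a983e7b05515c039a0f563a4b0d4330d24a3dd8d5f8da585f3706834b62d6c2994f91621a7206d4175e1223472086ac4396d7ad1ca309504ca47e4c23968957982551657118f5fcf693e490e97c905a2)))))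
 (.node (nat_lit 10) (.node (nat_lit 8) (.leaf (nat_lit 0x2699a26756959560f43ccf23c49725a6f9ba6d5815f578fa3e4f86d89b26a6c9ae6a5755c56cf73d8f5a7c992626599156554f03bc9525093098250911545113799e5791e38ca310b02b0a91b469197b1eb7aa458da350a42809d1845d167a5e879d1e8d2330882144510789e18c22f8b99865d96abaadab05a1645815cb62d59e6759cad2b3ac86017c5e1fcba2e59b66999ac6b0abc5d1705b0bcb82dd9464eaaaa456154b42ccb22c52c4ac3e0f61f879d1741cf4c12f1084188e2275dd67552e4b4400fe21881d474dd23952a4a5280f03b0ea1d8721b585cd730320c4304d9354d1c5711c370a2889c380dc364f13b4e9cb729c9aae2c8ac350d0334e5384ddc871dc63662a8a42e0b5324c5c17022689624a8aa1a81a468da22a8a92a0a719865aa2a7a99aa6a5a82c0af2b9571a869a96a4a8da7699a52b4ac2ae071a067a7a9d6819f298a519063189214811f068190623c8ee3a8e5dc76d27499250801f07a4290640449e077d2448d220741c06e3f8fa3d7edde7751d47016056388ddda765d88b5665965f978a027ce839ce65a96998e62290a33b8ed3b16859e61980a2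284eb3a8e9a4d6458d629765c96c9e2749c0e4e438dfe7f5fc922479180e0340c02cff3fa0480e0293a4d9301404c1205d0340a01801ff92e4a924110400f08d01401fa7e64490c0a024fd3f0fb370db3688220480a06809fe7e5bd6e388e13808821c86a1e86a15335cd7237cde3748521083a1283a09955c570360d71f87d9f67c5b56c5ae0a826086e5b86dd42505404fc5013e1083e0e6fdbe6f54851d466845414e0d8320b6f1bb6e945511439985214606815b56d13e4f44e1344c1846f1b8c831d8260696a56941cc72330cb61985a729ba68711c0ca3258460e99a62977386d1b06b318c5311805fd7e5f692a44bf2f8781de8ca2d8c62d8a30cc21f07ba428f64991640c13007a1e68ea358f6398d52cbd2f0bb1d8751d28aa26883358861daf6ba16854471194e5354c6cdb286a1912c4a55153549b16c21885c49121515414f9c9ad6b1ab8521384845110432254a5248e234d2345785de759d27324891358d55f17b9ee7a9e49023cd434d7a5e6789de766248c22c8a340cf339765d574846719c25494e527c9f17c109421074180400e5a966587e1f77d90f4390d7bc0801e5795a557d5f47cd0c42d0a944060165093dee7b5054100200400))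 (.node (nat_lit 9) (.leaf (nat_lit 0x25494e52691a3688f43ccf23c45013e6f9ba6d6fdbe6f50f4390d7bc6a1a60d8320b5755c56cad2b0ab81c060169ea75ee7b53e4f495250939e2779d9c871dc64611745a391c4708c22f8b9805fd7e340cf338cd0b82da5a95a51e6795e44d9354d1332388d8b22b5f17b330cb0b02b0aa1484e1259163588b42ccb22c40a026b1ac2af806007fd515414f9c8a22864e9364c6799d670ee3b4ec7384b12a5f979af6b8ff3f85a1645815e90a3de077d304bc8821c8687e1e5bd6e2fcbe068190627d9f1cd7311d470761d4742263f8fa3d63d8e634df378ddaac400fe99a62977a5e879d394e1379f89023e26896245d9755d0c6314c458422086759d273715c470d15451134486f1ba368d586614d6354380dc3682a098215a565582a8a92a0a701003aa2a7a99f87ddf652147519a126c9a95e56955a7699a53dcf63d69f14851996646d5b4415041906318a87a1a8575dd6755274992578c7c1ee3c8ee3a6318b628dc36cda3643e0f68aa2688769d97612a4a5285f47e1f621881715c0c13001d0701b02e4490d9464ce438c4511043986606c5b0405001745c16e1a8656a5a4ba2e41404c1205eaeab6ac7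f9fd7f14e5354c52ca027e5d9725b6b5ac6acfd3f0fb8b4561564b92a4966d9a664eb3a8e9a4c49122b4aceb2812038095454d52624a428e1685566594b62d40e0340c90a419019264590388e1381c210841a06809fdd1741cf4852047d1e1e0778761c86d6d5b16b2f4bc2ee1105815a3a8d779dd4b92d2148420ea2a86a07c9f17c142505404fc9725a1083e0e5815f578b02bcae55c0801e6c9ae6a6f1bb6e90c42d0a9446819e5093da067cf03bc4e1344c1862a8a57a5e4ca324290a027a4a91789e14c9312308b22a328c582604d2344320c4300be7b9ea7972dca7251b469197ec731ca23889735c8c33082007c1ea328b771db4b12b20881202388dd8861cd835c3c0ec3a0e684a0e82751d37492448d229147a1e6aaaa5fa7e54a5249e2749c862175a1672e0b70441003e63989b36c9034086017c5e1fe4891e4666197658e839ce63944711a348cd8460cd434c350d0339c670705c0445101b46c1ae2889d785dcc831c260942408e9ca6e9a7b1eb7a93c4ed3a65492246699a2676e5b86dd0942107418661965a966586a9a96a0fa3e4f86d85414ea5a92a37d5f47cd4551143998992620681556554a62940200400)) (.leaf (nat_lit 0x21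9751407443750c3485546689f97e9267b40f1be069c8d1256856647c1ecd81cd8958cd59fe3048c1205dbca9cd434e4e480701c6a11e57e5e1a00bc87990e98040144d120c85c3727a56d020765212e5f6daa333e8a1453c6ae105343a6e12d890b28ce347dd0c25897a94f91b58eac976210ec8ddfe459cd5f07f17a6e69c99a39613cd702290f91dd88b55462de83fa582e847a7ca337d582b99464e75541304bd9a4da32415e37923b811795e860205aa164bb3ddbe1404f2be0d05a36479735c9e692a8fa4191296af382632d8f19dc9f5781a7ae557be1d315ca5260b3fc0a418464a9bd3d5b36c97b9b080169a9a5e3e00e028e87d1f9ec064fba359e311716108910e09580c7320e1ac48e2350409a499210e09c722b58a358669f9371108c858e46869b155a52157599e668f117136224d1ee78023815c553e738a2272c1591a0674225a1ea2a5f52e240b165cc9a227b36c9c0e5f894c028024067e9616e6530e93755d63ae5e5b4f863c6c2a02b90d0a7d9695a8b38991c474d06b14e83dc63659ba19826041f044a6109c268d48014069bd410e1d0849876225c6027d9f2357d51f931248bdf02d476a98a0aaa0782138a064440e518944a6dc3c7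1e0e29e844eeb42a46b23cfa5acca148cd3380d0b0c217694456417fcea5dc860c13d4fa83661856180e0715d274da60ea81d0147c62ea009858a1b0fc405fcb9a814a29157025217cd0759965012388e547730335161373dce3a1d3a7a9d190945555604231496b01b99088cd24cddf92c24078f03bc653199c95cfc0615f35e7654a2b8b0bda61a838c829a8568693f9b51a8fddd77aad72e21882296fd2896ccc32eae3789124a59055e793e5018c4e6d5b41055170ce7a70c03051b7f4ee9a174846a9630ab768284348b988f26e9ae6bc49120e271100405356c04c5b96f935e9a328b9c15a375bb3d0531520a2b0297664691407461fc9a4ed20da62fa9a39a91a49539e12b4b139674fd959ea08025986609d1926c568185324c65d4a42108a0c0f5c9ab0bf0b8e580d108f6992f05815da49ad097d09b268f6a883e9c6ab87164701c1114757c813488a1289e549cb82dd67a1c9318a14510360b54274911021fb4645f0d46a87d9542ddb0a8aaacd8d52cb45b1c80ed4c879ad4e9dc7880b032a46e5e19501b2795c9e6891a596a08771e03122217861d7a564245000))))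
 (.node (nat_lit 12) (.node (nat_lit 11) (.leaf (nat_lit 0xfc730629dc67749d640a795329874565828243002982e05590bb8495d83eb44ec867d4844dd36ab5f07bd324c5ae6be64994721cc3ea41a15d4a586c10880ab2bd7b04818570aaa2de6500a1515e77868a2706b491eb43e867245d71e82a0508160579f67c258975254a77de03fc549c83b90cce698d39264d105a899d239204f3a18a8cd8f3a4e313a2e762993b4386765837e56665980c4da3659464cc73201505a19869785a80b06d7f4a8f9a963b811fd4aea03e9b88f1176025c989bf4662c8ad715c0b62d4b48956b2c5301e8f17e9b52249097d1290048124887deb24e6b07cdf2205344cdee7b442a3a669113e334d4281e3495b06c4639c0fb74d009da7a1a5d5a51509d5608241a0a0c658d698402a72c5f4368442c5b169c49fe7e1585540c5252dcd620611a2323969a26099870095d0ac5e40f04e222b9580700e49de59a5446b689a3dec51a5a3843666c34374dc94d96654d835d7c5a01729822586212fe07578c9328cf67c3a9283f695a93564c47e6b6929c39d4e63895134533b99053c0801cb82dd6f5b96d004b2118473bcf0615864b07ca7c4423241804f3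aa2a1235fc8f65e6e5131e5186e9b49747410cf76f8d62891e681e20e440a313f9b4701c5f821d3aac53820c827c6acaac7e1f4be09a0859e0d09c212f5623101d0add93f5539e29575dd03fa731aa34a4e713922d4045062552775de181caa150ca0dc67145941d06705c027d427928d7a5434f49ea21ab9b14784d7607c11564b02a577032233055702a068457a5982307a17860e29659c0d59a9565436c300be5093e31630e6144eb635878c04c24d516446c0f26e69d2093a470f5a29a98160a378e04a12c8e98dfb5cd728aa29010030096c89242450f46ec451d47b46dbd3d5297e48aa908f7fe034bea63ca3e7f8200955a832142f0c20b20e25064a6dd45367b9d06573c6e1bd1c475b26ccd2292454893cacdf6215f4abeae4d4801feaaaa66f505217a06d274a3521ea3161d57cad064140361e2a1db77291a489a26c668d9cea5e874385e7205c42909a01c3709054115462e963a9da8be35648ec6b0d049a4b9a1aa68cd191a1585955558cb3321f30ca756d9e0dce095cde0cc3265e529442e0b477455b7981bc459101da5b5fa3f4688ba75288012da8ea7246028e8f6a889298639a79115f52e1e1b63e183610ba2e4060162889e262cc00))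 (.leaf (nat_lit 0x2915eda14aa0f7809c0807a77c25a04481443f3799b955a78f4ea8de5481995aa5721a08a0b0d2764ae7bdfc73eaa3fa659a48970c141c493971af2a86d1502473112855148cab430da93997138a5381e356042295c4d72e244d66d2f1fe1ec09259090ae634c41c2520da28b7462986821b535bf592a0498c579a7903dff1fd913c8cc0d832010fa91d688be5a3bc851f85ba91884914f475bb7e2363256b7a8a5aa21421d1e879b425e7b0405f301bd56d0571d3788e3087cd7884448ed7a3b9ba7da784bc5ca70181904b59d4175e1223472086ac4396d7ad1ca328b409557f66f2ed367262528dad1cd6e4127e0986c198a8974d68a66b5203d05c4a94a2c384e7861aa67cb833dd65e50f83262074d8a11f424019188ff829ac708b59f12c2f69b4e25072201a4a6a260391e6b32655d3b23c2fe5965973614d155c4c38043285b37d452a5dfb5b2ae4367779db548aa55285d2102e7408c8805e0048249d62a85be8754c9fe0ea7cca9398b020370c166640f45599a61d3054e51a983e7b05515c039a056745e21b8f0420afa41da53a80795ae2011311c9d078f329a462c58c028eb6963e0b49504ca47e4c2396895798255165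7100b1044f8a2586621a3b63a844dd8b910999776adde824631e01a9789b7dd00a357d9b200391c64e5ee19529044124cd5f1aa2b351d584d428fce969999958df34d838cc4565c16760b06c48b0a8504f6198e69a8210707c9227a10405282e4d97b55c7351576dc550267ab4779868858248320f80c4060e18a5aa4d340b690e446f1509c523a8e9e9d9e91026e015e49e8c6a892558c81180005186b78d1722067a9e82548c79c1b682e4c3399264cf9139a83a1787a0a020e9354584899347280251e1c244c4aca8e2a65b52df3706834b62d6c2994f91621a7206c425c12e0a5062ad457e9d22ce8f5da030553c1bc0e1d5434feb0771dd1f0b27c6870a05311823678db8aa406921638d9d602604edd38110c2695a3f25f7008e1d9033eeaba551b5d0692b68509d1a85d3242ab18d1a3306423716f6723129cd50ecba0f2941609f485f26e0f1784cb652743351f4445a88a45525596e6274800c9cc7d01c2f808f563a4b0d4330d24a3dd8d5f8da586862d1f06ca054ad195d69616569125d4512381c08f1850babe7d9d69d2b0742880d991ce2f8fd619586dd894e98f5fcf693e490e97c905a2))) (.node (nat_lit 13) (.leaf (nat_lit 0x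201801ff6799d6716458d62585af6baa8a9ea695e569560a8260881e659908c22c8a0c8310c0290a02705c731c92c4acd835cc33092448d224852047cbd2f0bb388e1381c24b92d1b46c1ac26094240d4340cc7f248919be6e9b60d8320b9525394a51a7a9d6c5b05a969651937f9fd7f25a96658a96a4a8e699a26799a068159b6699981203809ad6b1ab33566594dc36cda4a9294a1274992578cc13002e0b48e234711c02c0ac2a02c220846f1b89023c380dc362fcbe4751c4c12f37cde3756859db36c9fa7e59865d966561083e0e9b26b9aaa2a86a0a7e5093e4b92a49ad2b3aca5d9725b5f616855aa6a5a87d5f47cdb96e1b76d956554d033cce4d9354d11845d168e4cc32c3e0f47e1f47c1ec1d0701b06819060761d474220872182f1003f318c531115451134e5384de7e358d55815f579bc6edba7c9f17c1ef6819f8621798e62aaaa992247919f87ddf669da66955a5655855db56d2b1ac2af93a4d9321484e128465f97882204800f03b0e82007c1e08c7a1e5324c4d2344ca3251b469197ed11440c831cd434d3c4ed3a1e07705815108412148420e619821a8664490eaeab6acaadbf6f9bd5755c56da468da2685ee7b4110400f1805f1789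e2749c0e447118b02bcae4310b42942505404fcf03bd765d574715c470de97a1e7479866161f87a7d9f290a3e3f8fa3d8f23b8ea8aa2688a1e86a1533886206017f5f9e6795e4721c7718d95f17b3e8f93e145511434250841d06298a512448290a3158550380d0310f4390d2b4ac2acf43ccf23c53e4f45d1705b050130484511043224a027e81a027f8761c86e429064044a8ea35c1701785dd8460dec7adea915e2785826057a5e5cb729c9a328b8e23788e22a1283a08a22844b1280a0245a1645815d4851d463dcf63d4aa2a4a829d0541101400ba2e4e438d4e5354c1a869018051404f2549424e719c22889e348ce9ca6e9a395d1741cf5b56c5ad92645909c9de775dc76d8861d735c9d474dd2a4a918ca318aa299ee7a9e49b268521440400c6418c62185515414f3b8ed3b0b42ccb22c4ff3f80801c6819c972584e1344c2e0b740d02529493a0e73996f5b9cd731e077d8f6398d52e26896249d6749ce99a629773a368d6308be2ea5a95a52789de766262c8ad8c62d8a769d9761d7759d5a4d715c0eb3a8e955153548fd3f0fb8b4b62d45414c99260661940200400)) (.leaf (nat_lit 0xc2176942668e585248bdf07bd539e216391a1786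5406eb01b9909ccd434e14510367294982c514f1ab33a4f9423b8129ea756e5be5e5b4f84b8902c407461fc5fcb9a80f55cd72aa58c2ad786802f7b0193ee2d87164499ed03cbda61a81aa1f656822c1594c93168d489d55091103945c80ed4c136224d219751409b5dd779e83fa58ad0a91acbf0b8e53999ba1983aa07498cb63c40280240449bb3d0c7321097d0e7a70dc9e95b29df7430cc32ca12897b9b080124482ce263ddbe012388e587620200968366176210ec738653199c36073626484382705c3122115905ff3cd70228b51daa66e92b4b29b155a52795c9e623349336664e4802d509d23fc0a41a105343a0e463139795e8642524d7a58f1b0a865cc9a22693b483528a455cae79a4a7682843487990e9a359e3121b701c11be069c8e320a6a42ddb0a80c1a06797529014064c12f8944a6de1e6b53a7b9e008dd10dd4399aad72cba11e9f23cfa5ae034423d46582604147c62e9dc9f5799fa585b0c053150e1ac49b268c030502076527d89625eae379e549c5a6a697389c44711d1404f51dcc0ce5c602619818561a377f9168ea573f01858cd59fc722b58a54a17860ea5dc8643e47760a0aaa0782139674855d667a2469659df92c2407870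1c511021fb1192a6f5b84b6242c9b56d0602055555a8ca2c2b90d0a9ecdb271a62fa9a025217cd07a3e9022e623ca01005135c584224431147534495a14568693f2aab36354b4225a084229bd41669360f1c7839dc7880b815c553c348554668a21880a337d5832852336992f05815c1f0468026162069eb9566530e937560a2b08e234f6a891b7f44b97db6a8ea53e491248b82de3e00e0240101341ac2be0d5161373e7d9f2746480e071cd5f07f1795f35e768c123048d619a7e4ddd7a553d4f95462d38a04fd959ea8f1171dc783c0efa84795f85f0d5b36ca338d041545c3381aa164bb0423149670568ddab1695a9f894e91a496659591296af6b9af0c85c825607c8134887c1ed1a8fcb45b07a8a97d96e0c0f5c90e1d084a32415e3792844eea46e62889df97ea296fd28651930342c6926b298427083f1021d315d63ac29766469150409a490fa71aacee9a174844cfa286d63ab29641579d67a1c931887d1f9356c04c53a0f718168d91e930e874e357d51f6c5681855d274da3666e69e2b8b1bca9c442324245000))))))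
noncomputable def cR_1 : Tr ℕ := (.node (nat_lit 21) (.node (nat_lit 17) (.node (nat_lit 15) (.leaf (nat_lit 0x100a357d644f23309504ca47ae604ed38941c81d0a203648320f8132aa3f8f563a4ba2d02555cb89135979e82827b041db714b3a3cca9398b9dde76d45311823760b06c4a36e9f67cdc1a0e5c6bcaa0f41712a2f65274120510fde49e8c6a18b47c1b7285b31a4ad53a805adea02c4113dd4512383b23c2fe915eda151917220851f85b442665dda33064238c567463f3a5a6505d78485e00482451434fdd65e6941600251cc36a4e6845310724c339596e56e4127e109704c15388e3007c92278f3299c0238124ce1b535bf572446f150656a95c890064627bd8f5fe6c800e40d832011f9308e5219d381201a4a6a991ce2f831018388de659a4350cc347f66f2ee6d2f1fe74083a4c5f3014099d7680c080dc3048aa55299e36e2a22c2a141f89e12f4b62d6c06d1502494a2c384453351f3799b956a2495636ca054ae757d452a1427795ae296a88a2586607023c61965965cd2a83de0acc67a9ea4621246adde824dc5bd9c5f9e21b999958df234720852758aa1196b07710f8309f4861c2457138a535589483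59264e27480261b0664b829946a687cd7841014a2462c47640d5f1a964a81268a67148ea31a08a0b0ff829ac100f693dc64e5ee3ea475a289579825510c268980e4793f5865618a5aa4d3408970e4a3dd8d4d9c98947b0249642551611bd56ead1dc154f166640f4174840ba40692164f6198e69a1729ca653e459cc44a1539e186a99f4445a69e3d3a8811800046575a5859a5dfb46a172011385087868ed8e90babe7d614d155c9c0807a77e825494f475bb18c7806a3129cd50ecf0420d360e33ab10e5b5be8754c9fddd1f262075f26e0c4aca078d58108a8a2dcf91380c9cca8974d6418ab0f9ec884442e4d97b58c028fbaae2b350c579a7903e9e9d9e9349d92b9c22d67c4b2490e9290465a3bd657115a3f25f2655d6253a2da430507124cda585ad1cc2b98e264d1ca59d0571d37986885806f038758d19a61c8c8819d6020841c181904b9c81b8cab42e0cf88a45526548186b78d691256cab90d82d3242ab111c9d0791e879b425cdd8ba9d2b0e010c25a04c79c1b68d8c926df72e83c2be90769970591ca320ea7cb27c6870a0d8a11f43c5e132e8e2a65b52e5713518a61a06a0e85e07d01c2f80a6b521457e9d21545700e3b5e8ee0b5cd454eb6963ea551b5d1d584d429a1ff1fe6e015fc73cbda6d7c905a2))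 (.node (nat_lit 16) (.leaf (nat_lit 0x24b92a498fe3e8f65795a557be348cdcb729c96fdbe6f5d7759d5a4db36c8bd2f0bb2d0b32c8c6314c4584a6294972588e234a027c82204804551444d09421074852047d1e3fcfe1144410c3c0ec3a1384d130610b82daa2a7a9a9ca6e9aad2b3ac8d9a428f5c5705a1675e9795755c56c2007c1e050130482c0ac2a02c0801d45511434e5384dd515414f9c92e4b59865d966318b629a468da268582606719c2659927d9f25d9725b5f5ee7b5e2785fa7e5da765d887e1e85a158a22782a09820711c06819c7a1e45d1705b0bcee3b4ec388e1380fa3e4f86d8d63554851d464f13b4e95454d52625304bc1d0701b0441003c290a02705c06016759d2739a66899e81a027f9fa5f9799464d8861da067d805fd7e8761c86e1484e1289a25890b181a057c9f17c1e6795e47f9fd7f1fb771db3acea3a4df378dd3dcf63d69f350d31cc721a8691f07b1805f179c871dc66f1bb6e9d474dd2395b16c24e9364c90a419025a9665841a368d495250932308b2289e2749c0e47e1f4bf2f8b62d4c831caa2a4a829c471183e0f45013c320c43044510415044751c3f4fc3ed735c96a5a57c5ed6057d5e81ea5a92a3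a6698a5eb1ac2af70a8ea346d1b06b19063188761d47422456154e839ce6370db368f43ccf23c4d2345f57d1f37a5e879e01801ff449de7762388a1a8662c8ae1083e0e6799d67192645906a9a96a266619859e2779da6c9ae6aa1283a099598660068190600e0340c0982509023010034f93d4c931529494a9294a2a2a86a0a5a95a52aeab6acaae8ca2d6d5b16b59163589765d574845565551b4691943d0e435274992578d0340849120400fc52144350d0331fcc1300b82dcca324ad2b0ab26c9a24891290a32208721a4490e388de5093e308be2e8b5c5711c36e5b86ddd1741cf739af6b96f5b966595785dd5a56558a7a9da4a91aaaa9a2a89a204b128421045414c380dc3615d1845d164310b4292448d2291501400992609023ca2284852108330cc22e8b9330cb2c0af2b9c1701b56d1cd731ad6b1ab3364891e468f23b8ea5494e52946328c4e438cd835cf03bcd033cce1bc6e198651e07716859162218821885e2a8a60d8320b55df87ddf67b1eb7aa0480e028e5e077e7b9ea799be6e9b687a1a854ce639899b6699963d8e635a7699a54fd8460d42505404d9354d14e5354c52d2c4ac160540a024220840200400)) (.leaf (nat_lit 0xf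35c08a2e847a7e377f9168e9304be16391a1136224d2484382705cb056441545c33ba685d259055e7931ae6be8ca2e0a2b100405a62fa9a025217cd4584dcfa009858a1b555567c81348967a1c930fa71aaeac17c35499ed03cd81cd89865d45026d350d30140697180609812d476a99c80ed4c7865406c6a87d95a08312208f3e96b456417fe25129b7a8d8561a6530e930ae4342a7b36c9c0e4d06b0cfa2a338d0321706d63ab23647d1fa09581b36c90409a492be0da3e9018081069eb956619825d4a52b4b2034423d464653199c2f6986a2b01b9909cddd77ab42a46b3085da524440e517da836621e6b53a2795c9e50b76c2a032178604b97db66e12d892010051344aa53e5d63ad695a9f894d4e83dc605a3647991296af6a8592ee11874c58f80380971610891192a6f4f52388d95cfc060e320a6a88cd24cd99ab5cb080254c93154e782fc2e3969b155a57b9e008c722b58a5486819c99a39617a0fe96176210ec73a7554270568dd0a5d9919356c04c18a91a49b56d11b7f4912488b988f26e8451d4b82dcf6a8911021fb599653a1d30fc4004231495a3521876219ba19248bdf07bc6f81a7258cd59fdd10dd4399a4e481b15a0618303d724fd9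59ea915a49ad5f35e7615a1a4fddf92c2407a218805a6a697a359e310ff0290641ce1ac4f76f9735ca3b812632d8f100a009025e5b4f84b8902c4b22ce264081d94a105343a21e643a5d525897771e202e891a5962aab36354b75e950342c4f53ea113b5749d368d1256858c1230483485546688701c438742128d5f547ca6109c238138a057f2e6a0012388e583aa07410e9ea75c0705e549c9b2682d509d239863138c0306ae379da0a10d5b96f6ecf41244801d187f15462d9464e6e69e32415e3790855d667815c553cd619a7e4dd0896a6f5067d9f01f044a0aaa071f07b6f2a77e5faa84795fa1c590a1289097d2145103615d4a2915751dcc0cc147c62e8b4642524d7a453150e2712693b48393e5039e9c330cbaa58c2ae3c45e2889c442307a8a97d96d0f91dd828cdf561cd5f07f1799a4da2b8b11a8fcf03be296fd289d192084224e59da64bc1605013de6929795ea7727d5e8217b9b0807b0193edca5260b2b8c7320dc9e95b1453c6ad786802f0c1f74319fa585b63c6c2a197326883391c474ca148cd3a9772183c71e0e29c0e072a46e4771e0b45b24245000))))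
 (.node (nat_lit 19) (.node (nat_lit 18) (.leaf (nat_lit 0x23363ce937e56665a634e4949415059031494b870095d1cb17d0d7bd27794025b2241ed1b6f48e98dfb8f63e7f94d9edb26ce142f2ae4d4807145941d3d27a884045062552564b068cd191a1f30ca78d5923b2970b82d5960a092b44ec863f1cc188936b9af3bcf0906012e0b71e5186e88ba752824a618e477455b73e0ba2e6b14e08359e0d09da0788391ad539e2212fe076a4d5930dc94d9665495135247ae7d9f15c2a8ff1527253db06c5509d5ee7b5698402a6025c2d8b58ee042425f4495f2b691a49217a1c81710a944e29659c8c58c39a23305575606c0f1f821d3a2f826820d62891e47dd93f6004b6a3a79115f6606f1168e806015e1a289ca0508160af5ec12061df780c932a6b690d835c533b990989bf464b48956b7f52ba80f512049350a078e7a1a5d57c8814d133319630d59a954513ad8d02a06846129b9a73161d76ddc9bd41a1d0e179cd620612b17903e8442c5b0be695104f3a18a0e19d9603b90cce6acc732274195cf348a4914c20b20e56eaaaa40400c451d44a12e034bea63ca686a8cb331da8bc3265e52705c09b147775de2a5770304611c442300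801e5e6e513900c00a60b7d4844de7719dd2a6a649940d878a819a36738a3521ea489054125436c3061e301317a598230792093a444f8cd74d009d939ac1f34181a0a0fa6e22c8ad7f4a9301e8f15f16805ccf67c3a968e10d857a70e72854579c5d71e82042202ad5e5254aa9c918092e1e1b64407696d7e8a2271f87d0742b1c071740fe9ce05590bb4daad7c1d640a79530721cd2c1f29fa848d7f16d004b22c4f76f86072a8527d427906a8d293a52135d92692d5555a963aa57378331fe2a8a4f46ee378e2a423dff250641b86f080254f2b37da993b59464d23921785a80b06c688c8e504e222b85a7127f9f9ada2585618f3aa16f5b9b4974745760f4c931a61d10fa90685ac342158595462d9e0dce07090ca0dc6a35e950e713922d7601f0469b7511c4755a830857d2af5cd7290914605824a5f9228982641c038561568f7b1469a8e313a2e6603136a4d105a899e1986a5093d5164617862470f5a2064142689b1b49d4268070e3c45d715c0f9a95fa6d48910c42a3a6618e703ec887deb2365608268b7994043e86725752961b3109625ca6089619283f6959b0d0ddaad4e638827c6ac084bd58840a313f9b69575cf6a89836123f46a262cc00))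 (.leaf (nat_lit 0x360c804a918849164a81268a4a5aa138941c83b23c2fc90064627bca16ce264d1caa38a996da83a1780b67206c154f1dd1f1062ae40692164f6198e4b9365ed34d838cc45ab47788a455247d01c2f3c5e132e3436961120510fd95aa572a457b68546aa8fe795ae918b17886e7e4c2395d4512381d0a2036862d1f06dd8f5fdab77a099b20039228961980895f1a9be8754c599903d05d2102e7403e7b2571342b98e32ad118a61a09a26b520b833dad1ccd8a11f4884441729c6f55bab10e5b47640e8509dd3810dc5bd9c5fa446f1507927a31a48320f81311722110999774028d5f40b1044f558124cc7023c61991ce2f9b28152b9d4f693e078d5811ec09259cc44a154528a2de0ea7d9a61c8c8805515c038ed7a3b8181904b415c74dd4b4728c2a25d358e7861aa4d9c9894a39881d9c523a8ea2495630c4060e23719ea77008e1a4ad9813b68cc190a01a4a6a965965ccff829ac101f5149913c8cc2147e16e1b535bf5716b7a86f038752c9f1a1d457e9d28099d60151610c4ac8f913a994f916219111680c9cdf26e24a3dd8d821077351565c16986885814ea00f3298567449504ca47acde66e551a08a0b12a83de0ace659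a69546d744c90aac55a3f25f0a0ba0f29e9d9e9204600018a5aa4d34282548261b06694a2c385fd9bcbba690f832238c1ba7da7b0414175e1217801208ca9398b9dde76d5094c1535c4e294e6d2f1fe1b4540927f2520d42eaf9f4fd6195846575a58599243a26df74a4113762e75613509a78f4ea349d92b89c0807a77c8970c472741e3ada58f8afa41da59d65711d82c1b107c9227a3f3a5a667ddb714cd47e274809f484350cc3438c83a4e1c2459264d2d8b5b02ce8f50d3f1097014c4608e5a3be36325ff1fd1e879b425c980e479614d155dc22d67c4b2977ec8044d8c028f04228957982952067f1cf096810507124d949d1596e694160f563a4b0ec8b0a850841014a199958df8bd4099d7680eb07712e0a59e36e2a7a0a000947930ce7cdc1a0c99574e010cbda6d6cab90d82cfa91d6853d1d6ecc579a7903e1421e6e0146b78cb690cc79c1b63eeab46a174309a8c4a73561f35e784bc5f3008d1c8215516e4127e0f41712a8b409557e1d65e4c36a4e672e244d65c6bcaa195310712758aa1020370c122a954a97a51a98631e01a719397ba1a3b63a8462b3529d2b1894e9691257c905a2))) (.node (nat_lit 20) (.leaf (nat_lit 0x1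480965b774fa848ca35061131592c126a455b97c169c84fa29198f503408b972080168e17cd9a00d3a6587d1fa1585a4d7a49725a70039a50ed7ba814a4c00b55521a5dcf599656927a03c7b834e68d86f6daa3134955be50365f7154dd214b370dc266283840a91c4709d1921a168335ae31a403ac758201367e76548c230e8e265613ce17761d791c8a2255462c024e19c35df216dc18b1ef4350e95e1c59264996303f29657d22914e3391ac341b56d185546673ddbe348d10ac1d8184b478dbad005019cbab4384216b2c66c5fd4c878648088e78957562a46e62b175f0a059d4de562d4860c2a9aa9a098d8958c5344c4548d5e81dbca9dec8247426242312181022d8b819051bb3d0d53581a0a0ad22e4601194656b341033ac56c41d069510b34e04188205357e6e0a12ed741204933e227f292248a70566953e732fcbe7e9f91b49d294a6071819b6267d0e093c82718565ceab7268666de81dcec5f232a7d2f69c0c0aa388dc6e850f863e5c090af90dd2a69695a92d4b9e549d7a5e56746e886ae537e2298aa874d65a710b286a1979a4a2689b6442150d876206c0f1114404aa651f931e13a20b4a8109e4946ca3a458fe3fe441f0e52f2356dd80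9ac1e08d1880d72432ac42437abc345bab2369314ca6e5241b1e15673a31279bd3d46a1a6348cdaa9a0791e9fd19cce0fea83ed60a54434528d58a1b60d842d8d80bc87702554e4019fe7e0c85c921d62ae620a58a151af449ff8bdda54e7827ca0806411d8ea7a9449799088c507ec9192ca8838f03bcb42125864d36a09052e87f179ca37ca277a118ecc924e7b68d285f69c39dd1a6290a3cf6a89829c53f500cc32d42699df780ed815e765d3c2dcb818081388598923f4683e0f60f5742261a666a1b387e3974c8d2b82651d8d52d7684d178f0411095a830114a5a2148519392098261a85000e8c7321a9515dc76dcc2aa4979007a11347165920cde89df6949ed7ba9ea75ada24090295c11925a6dd4a2e8ca94f99758e5182c035b16c1d03b901304391ae280ba514ee7c665f58945815cdc71c8f241419be21880c06fc9c9d550290a38f9fe11dcd78d752f51c4744e18d4e07e6a6856dac0360b6ae42a7d02133a145f0d53d63027230ac755d91c8f26e865198735e0f19dd2b04a0a7ace9a4e1d31524112945dcfda992c4f8170620045431221705c50f7c59ea0000)) (.leaf (nat_lit 0x2044222e4c60a748c86d6729cc9d1b4db2625b788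0891577254e0abcd835c706aa881160c4e81f411ff90187622208859d4e690a3e35430189dd653e0ff7ea5138e8156ca8288a18f02b7cdae0f1466504b81d5e9d192290b699837525ba1da982b957909144a97f86a197ad2486261184a5a59996fd4d86e5676d197f0721cd561f2935043f892a217d8d52dfe8f80292925145cb8486a4b2ab374deab9d63ae338d0b45b0f758c801fc53150631386819d1c921e76e6a44f93d94df8734929f9449a5ed7baa83cc8ca0cec739187640c889510c28e8a8392715f2b52b851c979926926ad60cbb5d09625ddc089fb3a88da167b20562585a79b8358714c1ed9ba5040350b12c90e95da650a058190f7c4c66385e415e044a685c0ce568eda0995168846d03253e5a035d82b077a68e6354d61352f70c993057d01de9919ea619858a2275518ba46927de3709dd14ee0b2d68a6a14a5a8f1a98250813811a0e598566d9f90690a948b82dc4a752080762f41c6c2e5a29a9675a243911c73725f97a6038893188590e03d0f826041982be974b92d722b3308c348c03931dd779539e1735c8915767f672295203a3f5f40a991a745b21a7c9f4ba6bda1a6d932adda45e58418880c569214f2a108b560cf28e6750d00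404283f9f611ce429c55632a36ddb16c2aaaa5217a215859c485c4c34e6f5ad643da79a19553a5d50541661052844bc1a6ac92c01791e35da13182a1310217ca3d238a64cd342ce267f51ba2e8c4d99a539be0ce4d785224c178708c0ad17e4a05013e991d59677c1144d711c4cd6aea76f0784c8e5170c76402c8ecfb8b66c51caa57265991b83ea388d8170486f1b8140642d0ba0f7313790601324ca6b6898344473eb13857a5e529974044751e47e9e88c2f68e8d1ad0980c1b02ce874c871748f2409e0edf53f23a348d167a80441113e47d9d98160920939c170065602b271a4f4540f2c1971d1bb878361622b8b09b268642500501a5c5ecda9ada43bcf0582098c01c80a5442da067ca98407e3318954a1f9c457802310793c74043225456a4791e8130a442104cba958a7b2472fcbeac1c55f066364e7a716e5be755400e965168e4ee5648a9c0f420e3294023091ac341028fdf063cc5a82256c94069448125b32813f468099561d0d1bda7dd7a54829e8f527d6d9b40a40def43535a1d752f66298cdf7292779400)))))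
 (.node (nat_lit 24) (.node (nat_lit 22) (.leaf (nat_lit 0x24b4202a616a21d17a6807f0cd4d9ee41015fc33054334d32567f6728ea36317e1223a26b5d18b296b2368791e91c476b07152c4ac2d515d5096434345685a6627ce256ca82e8b949e2f7cea963cae97cb8a7dbd0d0824040a94625119ba75031519a1371c78fd1a5a16733e8a6cd6a185040a64c5809d376a41ed7e96e91a49ee77017505cc0da0a5403a0e65d4a40280e3a19cc66589ba416186e1c590190508d2385a210adab5909c8070206313852146206b5347ca563c0ef9a1aa102717090b9515555aa83ce9c2f05b0bde6070fb2f860a5cd81bd4b531be3de8f660c44623b80963346824e84f1407c8b17d04e3347c6d646acaada79ba753789c76e4e09dcd5e057160f9a95a650a4f940fa6e1cb0ed4f2983e36653055ea6905c2ee112d16c67e9917a5a3f01b3d97222843701c11361e4dc068e1fb14d366acce4c9312408f0441f1c8736a4c0a50885d66a025247d847984f1a9a77631c45260e910ff7be1575d4399c4b128b71daa07682b41e7a2855882e1986965599149099464d69a0493188b3899df7827854e1451c309f67c45600a2e8ca24656647d1f8100987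81de70574e0abc6e2c18d039f48b881990ec73d2d4b8a2aa95722e5e3d41d79658419d1a62605b4f22f69b689eb40252428a329295155a8528a029cfe082557c263989af6ba874d5f97e9386c84c5de6f20eae2b06b481ed048185c1713486865683269628100145a394f197546097262b6e5288d105479e71643897180308c37a64d2795f9cd9a32e8887cd49fa37805198f4972583274e120f554718168ca4591aa76f173618893b579202304980c02e0d2bcaa5729ea75f143cc10ba933a62a8a4eb75a358da0f0fdc336eb460582921239b0e72199ea00c831e3e7f86688533a16652fdce564d79e509929d88b4451d5d03ba278a14e639f50352561183ac4e15ed7c439dd090c932a8666cd63540346dff44e057215252213749bb4be242c8210886a1a46425098265fd442408315a4f53e6fea10b1d992669511b56d0a9841de7882303d30248b1acc706297621ce63950c7dd87620eaa596f5b9e195c1e341ac88e22675394440444844230411083517cfd965e478c5d68e9a244f45ac71819899da477b0484a9b70f1ca8203785d406950240e183913f5fcb5a8cdf9d15e81c1a0a1921b0ab38c859b4b6125b63e1e84853ba11b06c61d3163c45c00))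 (.node (nat_lit 23) (.leaf (nat_lit 0x1f81da720a2235ae379ba973b25d4a6344c5ba77cf61ae2f0fa85666135d914734804258c3342289e0881ea9aa8b52d8e874d4d9edeb4b8dd30c072ec70764f86f9014de7f3cea8371e65f5417e83031c195620b64a746152324e8e4118d2151b3969a886204c12f57cada28cfa46419aa8923a580d54844a6135de7479725ce64a6e3d599700a9cb13a45488d63562683417644d4428985fd2579142699bfa867c9f5785dd366e62d7624f941ec91c1c038e768058028094824e45600121ac54a303f005019034099e27a9f3d45d3b93f97066ac9b2540431d02904d2a721e32bd6809cd31d5f6949d1a60d82591f2358b41da339113900ac8286397dea750387ed715541b02c91249795e83c1b2a76f2a42922e8a0c9579cc51c339dc7ca21ab935e969c887388ba319088a0c890b292d260f5b84d1321b8f2a8a810e49c010037b9ed0342c7fa3e4b44d725fd4f8e6922ae185051194c52ca5299002759c02219848fd66db66dd9464c142d1579285496df93b45b2188c1127854c691a8b82de01181a15184110aa53e5752f43b8c9bd8b22b9e98f1909467d1a20da49ae1e87dc1700d07d58962a7595089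7411150065794da718b0566999bc2f5b0c82b85371d285f90c7dc47a36794f437748de618621302b076861c6a31b4f79fa1a30974845db7701505a5a421e848481a49a2559650325eab646166657f1196394e11551946b32664959cb3048180c85c38c5f7fc979824c551ad419f35a969288a12f2144e59d28d9a3ed387803a3e9da4cc6f8cea63c6178607b7d0ce328212ae6c9087f178521455a068b10c63873e8b94e7353eb436c5a211ae6be0681495492abab181608820d20958259126762fcbe6ecf4a1d358c680a80df728cb3307a1e63fa70570d927600d942db32291021da59b56d8968366216855b46d69e3f996a58ea13c50529495901129c4b128e1ac4c658c5580ce9754b9041621a243abceb812666a1b16c15d83e8fa418460d186aa934ee841cc72300c13fc3f4e8771e269511c43881f8a95b2a23b0ba67098aa586444adc3709876211d471f143e3c45e298720e785e208025959f29a056a5001009de776358d840a76826552c19ce00b5d650d5c2e8c486d0e95c7d6a5163488f436108742303c9b268c55bc1e515d78e4909c2557be6298e71345f05b8a9092951fa3a80ab0715974f0f03bc9f2817c5ec00)) (.leaf (nat_lit 0x1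105d5a08324812d9219e3432d5e7cce973ce5a2a9d089b8051b1491db71547806168c67a199620e97d531806769c170f2948154f04d3f54a01dd13a8dd049b7710d30b27c6300a175a92f93b235e95acfb132557846f201ff519040f163678a91e6b36f8545053e1d9038d4caa164682dfb6a05b9c4fc5b4a28825313ca07a2655d82d5a92f7d09091e870a00b6417c8008278ca8670999ee29278925917a3ae630ad1ea20d204cdf8bc059baae31ce010d538a0960c63ca09522d0704719411460a464f3d938080f53641e52e6d15e3a11132555dd2e1546099b61410370d673001392a0ac823636810948c4c556694588e622958a47ae591443d43a5f80c855e27889c976d2af1d1966288845d0b8152d7c5689260e9fd7b454344a89d7b55c31501a9e8bac5d43b40334429729da47ccd9c230895fc50c862b07b66181545846b473a55fa06e7223dec4d5051b0c61fe409a8ba539df721af49e2c2695015a148dd33489587c236326ab060f802298a59c13bdac5c8a63cc6a57e188fde21b8b176093435e65b8c017e5c4e61b0e65b6e9f639c32a3cb393849825876691b1f60841e741a233330cfa7821755ce3980e6cdbb14077ab65a980404d1ea55c55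2f2381648b40a808407a2e58e7803344da1000114a6248b861431654b087514bf0e0692b4a5aa2770260474dc909db6480485809576549866698f8eea9a513106b5f846575269b241855149296f3e8196c01c6c8f4a5297a68bb878d8105712ad067f47e56923129de2dd8b88df228d3f0d916848b690e8e36dbfa7dc6091cd008e390a50a892e43d67475931d4c3211429a1959d9c222aaa3f80669c3e95e5e06a4c33863a9579759bca30e1875002461c68da4790a74dea42c00c9cdd77e5694c1096d4a1885f88287ca0d1999830844af1902a53db9566891ca6484c2e27d2164583834948f6670bc4e3e5e76ae620769ba64046a97f1b5ee2614d8a92556e7e9e5489ae548196c1c53a624c2169a6aa4ff70c89378c8460375de86619f5148b59114020e025d1bd3680fa36b4a842671cd50ec81a49dcac07872e1f35e933b1d281e581097062136444bd67e908981665cf142a1a511fe7404783e4b5849c4a23263c652a8c10d5f75992b2ca2d18a8423a4d5ce17469c03c0d0388d4036ac05ea37be3b3a199914ae422610fe2b26e759f66f4f4f714dae7941f9745e449a2))))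
 (.node (nat_lit 26) (.node (nat_lit 25) (.leaf (nat_lit 0x29c21e025160020c82a55404fc7e1f565068a88a4ad06c15592245ac1107d86265c2912aa184524b1e3494671a2896b5f74314d9ee746b9071826e465d445e6a9a45973dce99664259e6ab12dac5e7784954a25b491eb1f0d452d05620cd6c447945f6a368e3161d04c29825605661e091aa3b6400d63e3a4e868c300bce438cd19518a1218f9564f34043229f5964ba5a207088a6586218a017048c9328631392692dc4388db13e4648a1a864c13000400c0284cbb3e9b8662830f06c1c9bfa16318c8ef3c041108a040e9f3d5d9a749c4e0a1a8ea777d3a658f6a8a272a81859c1d2aca5899623120d2bd4880c86a64847fdfe50694a4dfa7e5ac9c07442c799da7a6c90d7c1509d65e97d1c474691a8504c2454aeae790987a6afaa52a24c62722b375d1a9b45d9ad16455d01605744510871552c8282dd5b57e220a80c8315a2348e7b5eea3e906bc4b418466325234e5763587114cea215164438904ec69cea8f63c0c5a2686388dc4d35d7e92983374e114e4c47dc73716e5bc09028cb3321f8b02303d9ea00f46ee303f102a1dbd30cc2862175e1775d8bc84a2f7699d4e4f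3aa2a176d34665e01c595a7a7d0e4a23fdb63e03f100544b91e361e25f58425eab7266098475411ab9ddb04290e1ee79531f442488a6d4680544a5e96205fc7ee92a46102a40e0716d8962b2c01e6cc497be71940891e8d26255223c902cc2186d5c880270acb957a08040269bc5f7551874c5b16a6844d121585572ead485e8975294beb47aa238a80b558162c4b8598a7839705c57f90c4c378519264d614e070d23920ee6a4368fc34695a439e3a8e5a067d5462df29588c1104a64a587cc3d0f993652358d9dc1cd330ec9e3e6a565d3c4d49fa800801d7a5e6168561400574844fea05b71c1bca0a7c3f46b0e99ba188b1d9539e1f143d081de7319466701c198a636089b364140660a2b0c658d69080ae82e0451e9a2169850d427f4801fd3e4f56c2d20f5740d0b0252d558a2e8c5254a244921e0d69c927795c5ac0642509a7b2b27191b7585e9b05c749d145267999cd7325c601ca37d2093a47604da31cc8816065c9732d96a55df894d4e63a8a33cd59699053e420dda83ada60cc328ece63942e0b49d4c5d8a91dd4dd3b28ea63c99a4d8a4404f14c9b58b5de1be7e672338d06e6e67f402846e9b41b4fb8b8f76f97c5ec06014bf2f8bd5d400))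 (.leaf (nat_lit 0x26c2f030939351d28a3d81205d8861ca143d7e0f4c67d8073adcf3b1f59651d1f1572e8979c8d2028d936a1786094190372140d0b1eb296826b428381a421d167a4442a0a78d233a3dc83ca43569378a5923ee2e208346bdb502d71778616817c15c3655556a55d7959f2871642762241d2183d99342b06f5488ed748445414d3d16a3d3541dab0b513a796353c65c719856101292a4c4287def954c7321509d4dbad0af835445dc5e2012e4b4cc32d054100274e9a828ac909149e1536caa5090551584f1408f2428c361b66de252698a9287757a6e0b5ff901b83ea1e6010d981f831291744e9a503c1b2040c4bb574754d1c504cf5a7e2889c638d54c212154642ba74dd726477b1e17896e5bdb06c5787e87f024f47187b4e558258fd6414f6aa68a88e109e1445c86a1ca910c895cd72758e3a5df13265b58d2f9490a0ec9ea368e8ae2c99265298926557b8fc586d2ae06ddd9ec4c24e4848c8c66a0e069beabc5d5d63a8e4b82de74145d8acc156ea0c2359c9fda9514a3290050186e1be234b1067cd2779542698b45b0d709aa31cc721003f2809f3a29b748b38992692d419bcf97000f0782e8691226e32624789f607820d3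3508e9127e14a2a8b416a40f1a99104454d5c0624699f20cde6b82a0313ba10bd9ae024da4d56cf7a25c3708992612a5fd0c7dcee7412b1b658a78d6aae362d94b8593e7edfc1e47aa60037565c105f094c7058a1b7d1090a5aca808868e12115e8a153352949aa0f3a05388c0fc7e6690cd300fa5139008738ca2897d4a26298dd92e6736ecd1ac99d4720b2b881182104808aac4cf0623c51c5b0bddc76dfe8f9cbab58f9e891491964e9795e9df78193651c16cc239dd8c82560906010428b3e25093e5f97a21881d4004e63967c798ab865a744e315b5529d8200958e539fd46dca37e83119ea120491a46a084228e0c399a5743a1d316963a9679686b0e83280e6a1d95c930147128833503408eda65299750b9510860c9c3bcf03f8ff300c111e06914dc71cb056551644c20d6676a0e2a85ab46213688aaa19e7478661962f76aa76f2806785f8dd4360582731cd5a56a611680e4381640e0709513605661229199b22d1f6fc193397617146686719c18b4022457d31926002fa6d5001f044bf1f93f404682c53212de3496a9aa84a2b5e41f515694675516b2c9b9a9166595ee7b5866169c39c00))) (.node (nat_lit 27) (.leaf (nat_lit 0x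d84620b23c0a20da648ccd33a91a4a7c770f25e9da4e9b98d4bb8489e0ecb393666551f9ab09b038431d129974791ea6c51dc73725f969cf2fd3ca80722903a6e0bc9f9378ce34a2d7151986744c45827036ab20501954ead29ce85a65b1a045178804824e054169510b7ad24aaa0d6352e31a580b4470615f36dfb4662b8b2207350a7058f459a78a5229185a210e7971ef2d1ae930501800c06cdeab83d0faa83cd752f61aa89d88b9735c863139d7a5642295c3ac1c59966459d680944d0bd36668ef3c0a228500a79994cc261ec4c905c49c9ed32294a4cd23448122c0b6021e435af6a91f79e77632b4525fc58ced418461481205db36ca2aa29ea7312c94a7a566398084a12cf9a94400fd314c8f6a0e2d07034225e9a35437e95d375c9a6dd4920b96ae03535570246616057599658da815d1db306a68bdbe6559627ca02b20a1f87d34cd44221c738750ac7f72e372a16a7c9285fa255b6143f99c65cfca7ca30209c0e59464e718fdc65c11d9aa987d16158855159419bc781dccb330af8ed4b9e402005df782328c69d5e13493e5079a4a07c1129951abd05412004564b498952348616cc7985d51f032188e25567364127795096161b46a093651c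a31a26849725a5674d7d074670ce389e15b839a9514071cc6b3fcfa9fe302f9bd3d5bca9e6398a896b43816604aa54c2c1c08e8cf9ba454ae217da51150539a16c4787613c2a87e9c7c255570aa1442e09d4a2b63da652d7cd076926b85a15a019e1b49d662193ecf75e6824e2a4844c09f5ba3c4060160f62eab2089a22a8e899a899df143c65240362e942a227b35d582b9f894e4490e3e7f82904d64978eca5cb72e0eb759509d48e08030a1d351b86f30cc25dd01a1431221826068fa4191451c2381568054f981ee3a45c0406124d9f681d93f5034080301213675b60882145e3c431f73416e9b5e17881a0a2597d588720ab579ca2a5899a4d55acca4aa9a3980d0b1d03b8b62d4691aab37f6071c4704ee843d1bb4e5dda8d83610850de0c5696f7b1406957f438e584110628d6486242c8442318e538e438c98266476b13f248913161d521a346d878217b5f03c1b2a16fdde5d8f86dde8510b195cc97491137e765485f0d5b04fa4981ab17fc5d1200f092963a8491901e4f628790e19d1129012f4c192815132508708e276c52578e238899ba1a17861b56d04110800)) (.leaf (nat_lit 0x27c708b518890065ac3fe0a1ba90a6e3334d8369a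3f3a4df6665664ce805a15731122aa5c6bc241b454301c7ad175268b44ee058125f568fc2282c1a1d92b8d2aa572655f6061cf8b0e194a186a8e705c4a0f4a63accf800e49b1397b9c6a357d40147a3811991dc3f47c1d13f7c6872ca446f1509c523a8e9e9d9e9611ca015913c8cc0d832010fa91d68110ee3bc5e0048249d62a85be8754c44c1ea7e389d06147e7d16a22915492b1e84b0837bd51100bd7f26e88c4587d9f8862f65cb89694e451e5194809fe324a60e52d0cac194981dd335d350d119d69d0a07926039721389426a806926b89d576394f6196c5d82c05022c2aa4d3441d8181e35398c36a6535c4e235d7a136afaad442388f40d74a551b83de04a8201e89c5eda1a4410416819bcbb7f5c98953640955a2dd12bc73961988a0ed8ea1a1044f02cce6a22e6c829464aba19707e9d2515e49e8c6a892558c8118000aca5b78c851f85ba91884914f475bba704b324ca9398b020370c166640f402a3e61c0d6e4be481589cc7d01c2f4e802ace1c77cc4518990946b6ea9a9e0a3171f8821ad8d8f308a468458c55a573759a0b4fb4b9597010689c761080c6dd8980957614d12fcec8f173965962c5a510ded2e4d92781f2492884101244a9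454961ec094d5cb891fe9b4bc4bc6498d8685ca22b5ce09eb14c90a66e5537a3d3a9a71443f122308ee061b06609a5d358a84127e5ba8011d4877a096ac780686399977440a0899f71c20342d3c7528f038751be48320f80c4060e18a5aa4d1397890e1b535bf592a0498c579a7956d371fe7779db548aa55285d2102e421da881f01612b486966e0f1784cb1264c131928dcf9340e0950b69ed5c17e296f40f7366b7fc56425e2978f07402b26c8c59d1a5da941a41527e852cdf2165698d15e7ec136ccc21490d5b2ae4f877705c58b66758261a210e2ddd707072835a046298a30d58c4a7909a33059c3716f93e410f08d9a6ac70d413f87124c147e60ca241d25579a11f43612d1aa99351f34ce13509d506cdb8a99e692169004608c535fd7c60283221b0a9d16548c79c1b6849ea086a85b48747a1e6d0a454ce5a99827b05515c03710f563a4b0d4330d24a3dd8d0e9a258697995172848919df5aaa8221a7282ead43d6b76e622954075a147ad1c25e8a57d304c62b944940483e551659a18f0ecf638e495f8ba674da))))))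
noncomputable def cR_2 : Tr ℕ := (.node (nat_lit 35) (.node (nat_lit 31) (.node (nat_lit 29) (.leaf (nat_lit 0x23155d8353c7a438639f61d12a659aea96d015066b16f5bc07aad77d4802220195336022f299075508e32da99a4e730a99801cc0c9e22796c63654862251ad3e2596944836434a84b20c16040485477bc915e6926fc4d4d4544624b8b1a85562d1f603559f58cdc15b5af5301772826a5cba69e478d8815789b4653905aa77b5235006f229764160a17e619ea1013dab0068a370e93e6a475c0ca16586d8b87ae729fe321152f1fcfe3153802874aae483529c70c284c27b88ddb108b3904ca6600ea19c712288790563f12802c85565e044131185a3931737b09a7c6151ed896aa4a2d9164d8992958b9742f4092d682241b57863a52a7c0fa0a3758593518734805998e0d1465f9d1583c64da3879360e63d8e24a42e3f65a8598a59639261f45c5e60a69a712a67401135ce33bcaa1b1b365a4287e0f16d2e23d779444c47cb2a75f2380c4096628a1a2939c60ae963e8da3aa896b40099e2e364766221257dde20a465bda69b09231cc867a3e9408b5d0a24894201ab07750b2b585a009c7a98793e117fc029a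1d60b6948087c421526966a46cbe84c3886c64651410105e3963f392ae6e81f9c16b9109d1a5958794e2410a2adfb0c0394713d61a0e1756a65e40738189e62b1c26663259304fb4a87e3017fa1e8f6b805042a873dc509e9b7e5510891d0fc78318a77c15a40483082ac6eeaf6f81a344d3354b4171cd54c49426308197e5c1e328de55f2044ca1c1884743d504789f5ca8c744378643121201692644314d12c6060a085d5ee2323d5a19d9d4a02e5d5036a53acf836e957202a96e493351a4dc68201603fe141d671a0e26105c910c09a04f72b13f8a46e3599c9cd242de0913a0b169840b25c6b03da8df3199174d14aa122a784502a65330d8f980e13a0f56c007a2c24a61cb11167aa96270a56a7872348dd3b4f440c461a8b02c5e75911124cde326a27ddb20f1dc2215c3c2051557d66e3b33125514a42d59a9e28d7a4f22b8139f21a6425789c3b251f864a5e4553b14a436c55d6d53a08dd3052a07d9440f9278f2216657b4188d76566769142f59f9b8867f1818d6077483300e6f3b8bc9fa2219cbf7f5a19b6380d549225042bdb7072b4340ce33eb36e41b9da3aa4d5b8d0871dd4b85d3c25d132ee450e8f337cec70021a4412a85d40d16ea409558dfa4012b15d919557a7f8a17a01d9ddb814eb27607149943))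 (.node (nat_lit 30) (.leaf (nat_lit 0x70684d1179883e4634b8df2de9e831ae67d707599e579bc629630f4b01511c00d1e46c2b4150704634785f795044a2c32acc3fa64cc538840ea696cc379e4f013e60366243e0a8a426b2c9cda1caf6da7031c735804d7a00879a04089f67b40b7764a7b9f5234d6216aa27293316780c0a269dac0b9916f46a5f9c55c6a7556895022aa693c29aa25416a1b21025a46005249081243a56068fb47e587bc4b33c7f380713a21e9c855729c42d9d2585ad5e08c4de9587c6d2fc7b5bc5936d82850fd4811440922458ff0363d8b56d68c3e5ed851855966478340696e1f976c237e203029e47a4064101f7f9ce1227c6d4369ecd40ee6781d522ecc0aae5e2ba92a18b36c66c19d940d1a23c59a36187a38432b2818fa3603a5a7e81e90de3015f405918a588a4e2a621d54a349f4f4aa9ea18848dc4c20f3b27d89cd39984ca1458991b99fdc99ddb02415866d138bc2943e4004d23920009482a449d41e9966f87e649ab109a6836715e57aac52981a9b4e8baa21422659d1f5443dd313854c3387981595ac80294c198d427925dc4200f6960b6022265e263746497d411994f2252a281646e98b244835994d2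6a114bc9e8a1433d57da5d4b880ef4ca0e3ba6184cda0bdd51ac218c651082598e00c8fdde8dd1a4852baa49854ea821939a508b854608b2217317372ca76dda42916b631626ed9c57dd760d777005a3b440041034242c9411905639401174464b618de1894a3e85f4cce31dcc32222559e985b2b456a9d5149d2e15132aa04ed56a712886ab00d4e4284183f2570510d904284562e7f2029157f70c52641bf1599874c922f0385b8c4398b5388ad3d93f1ba29706af0ce8a12aa113a6a2d0d28c1fd91ddf955f3011e579c472f46f32c972a668a303c5a680114ab9885330a760c4c639e196beac9faa4996916121b170f41254926d4815d34ab97c24e1c6060a6a61763c7c7455c4fa4f3f9fb9392678a3a431010264d098d74d8f2518ea4b568202a523d8e251aa20993721751a16598d5d68174624753ae086a10b7823c49d1d9311041a3307244075c7a11b49b9cf96cc90b69f1d2731966f17683708be14623971579b4c19d446394a551df0766017b1ea7ae007c9d80912505d5b239d05c8396c976141c6a08cd634f38745b3562b1c8e9824769d0414b095ab61628e8f2c481a8cc8974b94d5da095f101dff06e328ed0a)) (.leaf (nat_lit 0x1c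5711c30380d030f43ccf23c68ca2dcb729c905013048fa3e4f86da90a3dc871dc60441003cf73d8f5a7e8ea35c17000a024f03be8aa26882a8a92a281a027f799e5791e311c462c0af2ba87a1a857b1eb7aa4512c4a2b4ac2ae84a0e827a5e879d1e12448298a59f67c789e11144410e3c8ee3a509415005a1645815d785de4290640521475186017c5e1fd7c5ee3f8fa3d5154450c5d1705b0bd7a5e6388dd3e4f456155765d574844a027d826061f8790942107290a36198588e2243d0e434a22858460e218810c42d0a9449e2749c6017f5fa1d8721b58505410320c4307f9fd7f2699a267998bf2f8380dc368120380a6f9ba6d4fcc3308350d033806007fe6c9ae6a684c13002e0b5fa7e665990bd2f0bba8aa1a80dc36cda09825090236bdaeaa2a7a98e2384e00b02b0a80b6cdb2a96a4a8cdf378dd0a42809c176c5b0a7a9d360d7088216b5ac6ad214811f82a098219865d966548e23527499258420f8399e6759c9f8922452448d228360c82d9b669994cc9023d1d472068159464c8c22c8a225665946f1b92c4ae5494e525a9691cc724c12f96a599616859c711c12e4b65795a557bd6458d621b46c1ad2a4a5285f65093d364d534922479195a5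655855c781dd3c4ed3a93a4d9316057d5e81c7c1ed394e13792e4a9255d5715b29c7a1e5324c64490d56554761d474691a368882204804551444d1285a156a9a96a08821c8646d1a465fb86a1969da669485210834611745a39862176819f1f87d44510852138481a064186e5b86deaeab6acaacd23442007c1e6fdbe6f6b4aceb2364d63541d0701b6f1bb6eab1ac2af708d434c16055b56d2aaaa4d033cce3365f978c831c3e0f5f27c5f098e62330cb108417e1f77da61980ca324400fdf57d1f341a5d9725b318c53103c0ec3a0e5ee7b62889cff3f8972598c62d8a8b22b40d0226c9a649916422a8a501400992618f6398d52e26896243f4fc3ec95250931858861c661956f5ba328c54e5354c1a8695cd728da35551535486819d715c2348cd515414f9c86418c625b56c5ae308be2e8b54a525dc76c5013cb62d6759d273781df150532e8b99ee7a9e5de77452144b82de789de76625da765d81384d130b42ccb22c6719c0e839ce6a5a95a51d1741cf7380400cee3b4eca729ba69d7759d5a4c0801ceb3a8e9a6698a5dd474dd239406014e438e92a45cd7300200400))))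
 (.node (nat_lit 33) (.node (nat_lit 32) (.leaf (nat_lit 0xb02bcae4310b42942505404fcf03bea8a9ea695e569560a8260881e65991aa6a5a87d5f47cdb96e1b76d9565546a1a4060145013c95250936017f5f9e6795e4721c7718d95f17b1b46c1ac26094240d4340cc7f24891318c531115451134e5384de7e358d5a4a918ca318aa299ee7a9e45d1705b050130484511043224a027d9b6699981203809ad6b1ab33566596b1ac2af93a4d9321484e128465f978b82dd034094a524e839ce63968ca2e388de2388a84a0e822fcbe4751c4c12f37cde374781dc1605442104852108315d8c62d8a769d9761d7759d5a4d715c1765d574715c470de97a1e7479866148c22c8a0c8310c0290a02705c731c8d033cce4d9354d11845d168e4cc32e719c22889e348ce9ca6e9a3e8f93e145511434250841d06298a59be6e9b60d8320b9525394a51a7a9d5815f579bc6edba7c9f17c1ef6819f26c9a14851010031906318a81a027f8761c86e429064044a8ea34dc36cda4a9294a1274992578cc130082204800f03b0e82007c1e08c7a1e56f5b9cd731e077d8f6398d52ca22844b1280a0245a164585a1676cdb27e9f96619765a619821a86644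90eaeab6acaaceb3a8e955153548fd3f0fb8b4b62d4110400f1805f1789e2749c0e44711a01801ff6799d6716458d62585af6ba4b92a49ad2b3aca5d9725b5f61685501400ba2e4e438d4e5354c8f23b8ea8aa2688a1e86a1533886204852047cbd2f0bb388e1381c24b92d06819060761d474220872182f1003f771db621875cd72751d37490f4390d2b4ac2acf43ccf23c53e4f65a96658a96a4a8e699a26799a06815f87ddf669da66955a5655855db56d00801c6819c972584e1344c185e2785826057a5e5cb729c9088211bc6e2408f0e0370d911440c831cd434d3c4ed3a656308be2ea5a95a52789de766262c8ae1f87a7d9f290a3e3f8fa3d4b12b360d730cc2491234883e0f47e1f47c1ec1d0701b02dd1741cf5b56c5ad92645909c9de77449120a428c561540e0340c6c5b05a969651937f9fd7f21885e6398aaaaa64891e46915515414f3b8ed3b0b42ccb22c4ff3f9c1701785dd8460dec7adea0b82d2388d1c4700b02b0a9324c4d2344ca3251b469197ee26896249d6749ce99a629773a368d54851d463dcf63d4aa2a4a829d054121083e0e9b26b9aaa2a86a0a7e5093dbf6f9bd5755c56da468da2685ee7b45414c99260661940200400))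 (.leaf (nat_lit 0x855d667a2469659df92c24078701c616391a17865406eb01b9909ccd434e9b155a52795c9e623349336664e4823c45c771e0f03bea11e57e22e623ca01005135c5842244311475aa58c2ad786802f7b0193ee2d871647682843487990e9a359e3121b701c16b9af0c85c825607c813488a337d5832852336992f05815c1f045e83fa58ad0a91acbf0b8e53999ba18ba11e9f23cfa5ae034423d465826059464c0d0b1a49aca6109c238100404d06b0af8354584dcf124482ce263ddbe012388e4e27111c4745013d4773033179356c04c53a0f718168d91e930e874d11021fb1192a6f5b84b6242c9b56d214510367294982c514f1ab33a4f9402d509d23fc0a41a105343a0e4631385f0d5b36ca338d041545c334495a14568693f2aab36354b4225a499ed03cbda61a81aa1f656822c1591be069c8e320a6a42ddb0a80c1a0671f07b46a3f2d16c1ea2a5f68026162069eb9566530e937560a2b183aa07498cb63c40280240449bb3d0147c62e9dc9f5799fa585b0c0531503f1021d315d63ac29766469167d9f2746480e071cd5f07f61d8808025a0d985d8843b25c602619818561a377f9168ea357d51f6c5681855d274da3666e6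9cea5dc8643e47760a0aaa0782139674c2176942668e585248bdf07bd539e115905ff3cd70228b51daa66e92b4b13d4f95462d38a04fd959ea9ecdb271a62fa9a025217cd07a3e904b8902c407461fc5fcb9a80f55cd7265cc9a22693b483528a455cae79a4a7e253a469259965644a5abddc7880b815c553c348554668a21881c80ed4c136224d219751409b5dd77a1e6b53a7b9e008dd10dd4399aad72ea46e62889df97ea296fd2896ea53e491248b82de3e00e027dd0c330cb284a25ee6c2009625eae379e549c5a6a6977386d63ab29641579d67a1c931887d1f8602055555a8ca2c2b90d0a8ee04a7a9d5b96f9796d3e1795e8642524d7a58f1b0a829daa164bb0423149670568ddab1695a82108a6f5059a4d83c71e0e4c93168d489d550911039465d4a405019304be25129b7a8e0c0f5c90e1d084a32415e3792844ec8e234f6a891b7f44b97db631cc8425f439e9c3727a56ce1ac49b268c030502076527d90409a490fa71aacee9a174844cfa295f35e768c123048d619a7e4ddd7a54653199c36073626484382705c31222573f01858cd59fc722b58a54a178622b8b1bca9c442324245000))) (.node (nat_lit 34) (.leaf (nat_lit 0x6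88c8e54b8786d97a59823078721cd031494b24a618e62330557561ae6bdcd62061a79115f40a81a1184a649949826583612178603ea41a180d2fa98af5ec129e869756949a1aa4a5f9229752961b18e703edd86b0d0a908f7fc10880ab74d009d95249a4b8f9fe570aa5427568cd1919980c4da209f1ab109a01c37096f5b838676587e0874ea874385e1fc0801cdf95999ac53820dc81710a944b82dd9464c7e1f5054116d004b22c6142f095135809713d27a8808025a70e73e9b827d427915a8314e63a3c45e8d7a54399cc20b20e14cee642626fd198f66c51c3265e527c8814d2814205815c0400d9e0dce0221f7ac90fa19c9aad735ca57378334e6b07cc5d71e826562a8a42e0b5ee7b67d9f0025b224815642ed878c04c4407696d7e6b6895960a09231630e61dd156dcf849de53002982c513ad8d981bc45a3a9a5445760f545918fd1aa3dec51901141892425f44a212fe07579b26cc6a8d2934c07a3c57c5a0170606e1be713922d7e9b5224a6089613111c475dd77848124c9328d229245488f3aa0190529575e4d105a81108c3161d764fd0ee4333a418055f2b5539e1a634e49496a1235fc0361e2a1d03fa7353d23920212f56238c4e8b9b49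747410c6d274be09a0813ce862a5e6e5139026f50567834278cd8f3a479461ba3c9217a01d0ae993b4f76f8a3521ea3725365aae4d4807145941d062d8b5968e10d93cacdf6181caa15338b22b66c34374857d2af43283718d95c570360d7aaaa9705c02d2255aea72460204e222b9d640a79531209388ba7528870095d0fc7306224c6c0f2004b6a32b17903e7719dd2a6a6e69cf6a881c03a98746470f5a29a9df7804a12ccb330d4281e325897605828561610a8e9994952a378e15555a444f8cd6acff1527223a637ee1f30ca756db06c63b811592c14d9eda93564c5fd2a84d762506433d9f0e8f9a941f0469b7524a0fda59b5fd4aea02a57703274195cfa5e6b6909a26d8561a1986840a313f76ddc1184731cc8358a247a91a48ef3c015059a0788391ac668d9ce4b07ca7d785a80b06c701c4c658dda8bc451d5e1a289c582095518b90914a2de65001a0a2963a8f46eca1515e747d698402a8d5923b07b46dbd3d5247ae5436c304daad7c05a7127f9fa2889ce29659cad13b219cb17d0d7bcba2e43566a557d4844de8442c5b0bc060165093d324c456156262cc00)) (.leaf (nat_lit 0xe839ce6370db368f43ccf23c4d2345cb729c96fdbe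6f5d7759d5a4db36c81d0701b0441003c290a02705c060169ea7692a46aaaa68aa26889e2779da6c9ae6aa1283a0995986601144410c3c0ec3a1384d130610b82d7c9f17c1e6795e47f9fd7f1fb771db30cc22e8b9330cb2c0af2b96d5b16b59163589765d5748455655545511434e5384dd515414f9c92e4b64e9364c90a419025a9665841a368d46f1b866194781dc5a1645815c9b26892244a428c8821c8687e1e85a158a22782a0982111441054111d470fd3f0fb8b59b6699963d8e635a7699a54fd8460df57d1f37a5e879e01801ff449de774bd2f0bb2d0b32c8c6314c4584a6296759d2739a66899e81a027f9fa5f9784b128421045414c380dc36068190600e0340c098250902301003aa2a7a9a9ca6e9aad2b3ac8d9a428f3acea3a4df378dd3dcf63d69f350d3705c06d5b4735cc6b5ac6ad1b4691943d0e435274992578d034099865d966318b629a468da26858260495250932308b2289e2749c0e47e1f6218821885e2a8a60d8320b55e4490e388de5093e308be2e1c4701a0671e8791745c16d735c96a5a57c5ed6057d5e81d42505404d9354d14e5354c52d2c4ac6d1b06b19063188761d474224561564b92a498fe3e8f65795a557be348c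d4851d464f13b4e95454d52625304bd6f5b966595785dd5a565586799d67192645906a9a96a266619854551444d09421074852047d1e3fcfe8761c86e1484e1289a25890b181a05264982408f288a12148420ea2a86a0a5a95a52aeab6acaae8ca2c2007c1e050130482c0ac2a02c0801dc871dc66f1bb6e9d474dd2395b16c0e438cd835cf03bcd033cce334c1300b82dcca324ad2b0ab7b9ed789e17e9f9769d9760471183e0f45013c320c4300be7b9ea799be6e9b687a1a854ce6398a2388a1a8662c8ae1083e0e25c962388d2809f208812019464d8861da067d805fd7e5f51845d164310b4292448d22915014013e4f5324c54a5252a4a5285c5705a1675e9795755c56c731c86a1a47c1ec6017c5e1fe4891e468f23b8ea5494e52946328c449120400fc52144350d0339c670996649f67c9765c96cbf2f8b62d4c831caa2a4a829df87ddf67b1eb7aa0480e028e5e077dc5711c36e5b86ddd1741cf739af6b8ee3b4ec388e1380fa3e4f86d8d6356a5a92a3a6698a5eb1ac2af70a8ea34160540a024220840200400)))))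
 (.node (nat_lit 38) (.node (nat_lit 36) (.leaf (nat_lit 0x15f35e7615a1a4fddf92c2407a2188216391a1136224d2484382705cb05661e6b53a2795c9e50b76c2a032178607c1edbca9df97eaa11e57e4081d94a105343a21e643a5d5258977c81348967a1c930fa71aaeac17c358f80380971610891192a6f4f52388d93e5039e9c330cbaa58c2ac38742128d5f547ca6109c238138a048f3e96b456417fe25129b7a8d8561899a39617a0fe96176210ec73a75542746482108939676992f05815d6e5bdbb3d04912007461fc2be0da3e9018081069eb95566594e874c3f100108c5257919fa585b63c6c2a197326883391c4745a6a697a359e310ff0290641ce1ac441545c33ba685d259055e7931ae6bc4b97db66e12d892010051344aa53e61c590a1289097d21451036771e202e891a5962aab36354b75e95499ed03cd81cd89865d45026d350d395cfc060e320a6a88cd24cd99ab5cb8f1178a2271108c1ea2a5f57f2e6a0012388e583aa07410e9ea766530e930ae4342a7b36c9c0e4d06b270568dd0a5d9919356c04c18a91a485013de6929795ea7727d5e8215462d9464e6e69e32415e398660975294ad2c80d108f5a3521876219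ba19248bdf07bcca148cd3a9772183c71e0e29c0e071b15a0618303d724fd959ea915a49acf35c08a2e847a7e377f9168e9304beb42a46b3085da524440e517da836626f5067d9f01f044a0aaa0700a009025e5b4f84b8902c4b22ce26025217cd4584dcfa009858a1b5555605a3647991296af6a8592ee11874c5935e914c54389c49a4ed20cd1256858c1230483485546688701c5c80ed4c7865406c6a87d95a08312229b155a57b9e008c722b58a5486819e2b8b11a8fcf03be296fd2896c63138c0306ae379da0a10d1f47e825606cdb241026924451d4b82dcf6a8911021fb464dc9e95b1453c6ad786802f0c1f7430f76f9735ca3b812632d8f1a328b828ac40101698bea69d63ad695a9f894d4e83dc63654a2915751dcc0cc147c62e8b4642500d0b13d4fa844ed5d274da0140697180609812d476a9820095324c5539e0bf0b8e53990f91dd828cdf561cd5f07f1799a4d9c0705e549c9b2682d509d233e8a8ce340c85c1b58eac9b56d11b7f4912488b988f26e97b9b0807b0193edca5260b2b8c7320855d667815c553cd619a7e4dd08968653199c2f6986a2b01b9909cddd7786f81a7258cd59fdd10dd4399a4e482a46e4771e0b45b24245000))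 (.node (nat_lit 37) (.leaf (nat_lit 0x25436c3061e301317a5982307920939031494b870095d1cb17d0d7bd27796004b6a3a79115f6606f1168e8060155d83d324c6987443ea41a12854579c5d71e82042202ad5e5254a68cd191a1f30ca78d5923b2970b82d350a078e7a1a5d57c8814d133319635cd7290914605824a5f92292c1f29fa848d7f16d004b22c4f76fab14e08359e0d09da0788391ad539e04f3a18a0e19d9603b90cce6acc7320190509a26c6d27509a01c3708941906e1bc200953cacdf66025c2d8b58ee042425f449c17026c51ddd778a95dc0c06ca6089619283f6959b0d0ddaad4e63a444f8cd74d009d939ac1f34181a0a0025b2241ed1b6f48e98dfb8f63e7f9e1a289ca0508160af5ec12061df781ac342158595462d9e0dce0a9c918092e1e1b64407696d7e8a2275960a092b44ec863f1cc188936b9af0d59a954513ad8d02a06846129b9a7260990700e15855a3dec5186072a8527d427906a8d293a52135da212fe076a4d5930dc94d966549513674195cf348a4914c20b20e56eaaaa63c45d715c0f9a95fa6d48910e993b59464d23921785a80b57cada4692485e87205c4284611c442300801e5e6e513900827c6ac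084bd58840a313f9b69575c0d878a819a36738a3521ea489054123363ce937e56665a634e4949415059f821d3a2f826820d62891e47dd93f585618f3aa16f5b9b4974745f16805ccf67c3a968e10d857a70e77145941d3d27a884045062552564b0989bf464b48956b7f52ba80f512049a6dd44711d56a0c215f4abe05590bb4daad7c1d640a79530721cc8ba752824a618e477455b73e0ba2e5cd620612b17903e8442c5b0be695125093d5164617862470f5a29aa2a8a4f46ee378e2a423dff6c1b1542757b9ed5a6100aa686a8cb331da8bc3265e529468b7994043e86725752961b3109625cfa6e22c8ad7f4a9301e8f15367b6c9b3850bcab935200c932a6b690d835c533b99053d0ca0dc6a35e950e713922d7601f0447e1f41d0ac701c5d03fa733bcf0906012e0b71e5186e8c5875db7726f506874385e1fce313a2e6603136a4d105a899e198692692d5555a963aa5737833491eb9f67c570aa3fc549c80400c451d44a12e034bea63c842a3a6618e703ec887deb236560824688c8e504e222b85a7127f9f9ada24e29659c8c58c39a23305575606c0f0c00a60b7d4844de7719dd2a6a64994f6a89836123f46a262cc00)) (.leaf (nat_lit 0x2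9e9d9e9204600018a5aa4d3428254938941c83b23c2fc90064627bca16cc7023c61991ce2f9b28152b9d4f693e54819fc73c25a04141c4935c4e294e6d2f1fe1b4540927f2520d88a455247d01c2f3c5e132e34369612a25d358e7861aa4d9c9894a39881d7a0a000947930ce7cdc1a0c472741e3ada58f8afa41da59d65711ab77a099b20039228961980895f1a9913c8cc2147e16e1b535bf5716b7a8fbaad1a85d0c26a3129cd50ecb3a3d434fc425c05311823884441729c6f55bab10e5b60841dcd4559705a61a216025d2758aa1020370c122a954a97a51a98261b06694a2c385fd9bcbba690f832264d1caa38a996da83a1780b67206e078d5811ec09259cc44a154528a2dd949d1596e694160f563a4b42eaf9f4fd6195846575a58599243a120510fd95aa572a457b68546aa8fe9c523a8ea2495630c4060e23719ea72655d380432f69b5b2ae435d82c1b107c9227a3f3a5a667ddb715be8754c599903d05d2102e7403e7b06f038752c9f1a1d457e9d28099d6021f35e784bc5f3008d1c8215525a3be36325ff1fd1e879b41d903a142774e043716f6714ea00f3298567449504ca47ac631e01a719397ba1a3b63a8462b3529546d744c90aac55a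3f25f0a0ba0f0360c804a918849164a81268a4a5aa110999774028d5f40b1044f558124cc8044d8c028f0422895798217801208ca9398b9dde76d5094c1534f6198e4b9365ed34d838cc45ab4778ed7a3b8181904b415c74dd4b4728c5da03ac1dc4b829678db8a9a78f4ea349d92b89c0807a77c8970dd4512381d0a2036862d1f06dd8f5fe01a4a6a965965ccff829ac101f514a6e0146b78cb690cc79c1b682c83a4e1c2459264d2d8b5b09ad482e0cf6b473362847d1111680c9cdf26e24a3dd8d5f8c36a4e672e244d65c6bcaa19531072238c1ba7da7b0414175e120553c7747c418ab901a485a0ea7d9a61c8c8805515c039a08b0a850841014a199958df8bd4099c9b7dd29044dd8b9d584d42795ae918b17886e7e4c2395c0238692b6604eda33064238cfa91d6853d1d6ecc579a7903e1421ccd47e274809f484350cc3495c4d0ae638cab44629868151610c4ac8f913a994f9162196e4127e0f41712a8b409557e1d65e4980e479614d155dc22d67c4b2977ee446f1507927a31a48320f813117220de66e551a08a0b12a83de0ace659a69d2b1894e9691257c905a2))))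
 (.node (nat_lit 40) (.node (nat_lit 39) (.leaf (nat_lit 0x169214f2a108b560cf28e6750d00404db2625b7880891577254e0abcd835ddc089fb3a88da167b20562585a79b8d23459ea0110444f91f67661052844bc1a6ac92c01791e35da138f02b7cdae0f1466504b81d5e9d1926d03253e5a035d82b077a68e6354d69ada43bcf0582098c01c80a991d59677c1144d711c4cd6aea76f1561f2935043f892a217d8d52dfe8f93811a0e598566d9f90690a948b82ddec91cbf2fab07157c198d971a41804c9329ada260d111cf6e6a44f93d94df8734929f92e4b5c8accc230d2300e4c47db32813f468099561d0d1bda7dd7a54283f9f611ce429c55632a36ddb16c0706aa881160c4e81f411ff90187620358714c1ed9ba5040350b12c90e95d8160920939c170065602b2182a1310217ca3d238a64cd342ce26290b699837525ba1da982b957909141352f70c993057d01de9919ea619859510b6819f2a6101f8cc624784c8e5170c76402c8ecfb8b66c51c0292925145cb8486a4b2ab374deab84a752080762f41c6c2e5a29a9675a0e7a716e5be755400e965168e6b13857a5e529974044751e512697b5eeaa0f3232833b1dd779539e17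35c8915767f670829e8f527d6d9b40a40def43535a1cba6bda1a6d932adda45e58418880c6044222e4c60a748c86d6729cc9d1b52b851c979926926ad60cbb5d09625c871748f2409e0edf53f23a34e6f5ad643da79a19553a5d5054169dd653e0ff7ea5138e8156ca8288a1415e044a685c0ce568eda09951688426c9a19094014069717b36a4d785224c178708c0ad17e4a05013ca5a59996fd4d86e5676d197f0721cdd14ee0b2d68a6a14a5a8f1a9825080791e8130a442104cba958a5486f1b8140642d0ba0f7313714c5418c4e1a0674724879c590e03d0f826041982be97739028fdf063cc5a82256c94069448126aaaa5217a215859c485c4c8822167539a428f8d50c061a650a058190f7c4c66385e1fe4f4540f2c1971d1bb878361622b8b1fd46e8ba31366694e6f8334a97f86a197ad24862611862889d5462e91a49f78dc2704a1f9c457802310793c74043225456a4aa57265991b83ea388d817758eb8ce342d16c3dd6320243911c73725f97a6038893188ee5648a9c0f420e3294023091ac3429e88c2f68e8d1ad0980c1b02ce874d187640c889510c28e8a8392715f2b6295203a3f5f40a991a745b21a7c9f5752f66298cdf7292779400))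 (.leaf (nat_lit 0x2605b4f22f69b689eb40252428a329241015fc33054334d32567f6728ea347c8b17d04e3347c6d646acaada79b98460eb13857b5f10e774243486865683269628100145a394f19749e2f7cea963cae97cb8a7dbd0d08267e9917a5a3f01b3d97222843701c18315a4f53e6fea10b1d99243274e120f554718168ca4591aa76f1ee77017505cc0da0a5403a0e65d4a5c45260e910ff7be1575d4399c4b128d06b2238899d4e5110111244cdbad18160a4848e6c39c867ca563c0ef9a1aa1027170a7d9f1158028ba328919599a16183913f5fcb5a8cdf9d15e81c1a0a295155a8528a029cfe082557c26398a317e1223a26b5d18b296b2368791ea753789c76e4e09dcd5e057160f9a94c932a8666cd63540346dff546097262b6e5288d105479e7164384040a94625119ba75031519a1371c71361e4dc068e1fb14d366acce4c9319a5446d5b42a610779e208d73618893b579202304980c02e0d2bc0280e3a19cc66589ba416186e1c590b71daa07682b41e7a2855882e1986844230411083517cfd965e478d9ea00c831e3e7f8668853342e5455556aa0f3a70bc16c7d1f810098781de70574e0abd921b0ab38c859b4b6125b63e1e8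484a2aa95722e5e3d41d79658419d1a624b4202a616a21d17a6807f0cd4d9ee8f660c44623b80963346824e84f141d03ba278a14e639f5035255de6f20eae2b06b481ed048185c171096434345685a6627ce256ca82e8b92983e36653055ea6905c2ee112d16c1a86919094260997f5109019a32e8887cd49fa37805198f497259040a64c5809d376a41ed7e96e91a48885d66a025247d847984f1a9a7763187620eaa596f5b9e195c1e03e2a8a4eb75a358da0f0fdc301c0818c4e14851881ad4d0b3899df7827854e1451c300bc484a9b70f1ca8203785d406950240daf6ba874d5f97e9386c84c4711dac1c54b12b0b545755a650a4f940fa6e1cb0ed4f9ca057215252213749bb4be242c82108a5c600c230de99349e57e738fd1a5a16733e8a6cd6a1849023c1107c721cda9302943a530248b1acc706297621ce63950c7dcaa5729ea75f143cc10ba93064142348e168842b6ad64165599149099464d69a04931885d68e9a244f45ac71819899da477b2652fdce564d79e509929d88b4451d5e6070fb2f860a5cd81bd4b531be3dc6e2c18d039f48b881990ec73d2d4b93ba11b06c61d3163c45c00))) (.node (nat_lit 41) (.leaf (nat_lit 0x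2808407a2e58e7803344da1000114a4e973ce5a2a9d089b8051b1491db7148c4c556694588e622958a47ae591449f4859160e0d2523d99c2f3106b5f846575269b241855149296f175a92f93b235e95acfb132557846fa9e8bac5d43b40334429729da47ccdaa4ff70c89378c8460375de8e36dbfa7dc6091cd008e390a50a8a655d82d5a92f7d09091e870a00b6422c2695015a148dd33489587c23632607960425c1884d9112f59f6aa1d40091871a3691e429d370c63ca09522d07047194115ba7d8e70ca8f2ce4e126096d5c03c0d0388d4036ac05ea37be3b3a2248b861431654b087514bf0e0692b547806168c67a199620e97d531806743d43a5f80c855e27889c976d2af1d04e3e5e76ae620769ba64043e8196c01c6c8f4a5297a68bb878d8201ff519040f163678a91e6b36f8549c230895fc50c862b07b6618154584a19867d4522d644500838092e43d67475931d4c3211429a1959d97c8008278ca8670999ee2927892592ab060f802298a59c13bdac5c8a63ce908981665cf142a1a511fe742a42c00c9cdd77e5694c1091829193cf64e0203d4d9079876691b1f60841e741a23333199914ae422610fe2b26e759f66f4f65a980404d1ea55c5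52f2381648b409105d5a08324812d9219e3432d5e7cc10370d673001392a0ac823636810942a53db9566891ca6484c2e480485809576549866698f8eea9a5101dd13a8dd049b7710d30b27c6300a9260e9fd7b454344a89d7b55c31501952065b0714e9893085a699de2dd8b88df228d3f0d916848b690dfb6a05b9c4fc5b4a28825313ca07a1051b0c61fe409a8ba539df721af49ddcac07872e1f35e933b1d25d24c33863a9579759bca30e10166eab8c73804354e28259e65b8c017e5c4e61b0e65b52df75992b2ca2d18a8423a4d5ce17468a5aa2770260474dc909db6a705c3ca520553c134fd529966288845d0b8152d7c5688bd7f1b5ee2614d8a92556e7e9e5489ac415c4ab419fd1f95a48c4a5053e1d9038d4caa164682dad1ce957e81b9c88f7b135069bd3680fa36b4a842671cd50ec81a49c222aaa3f80669c3e95e5e5e8eb98c2b47a883481337c6a57e188fde21b8b1760934344783e4b5849c4a23263c652a8c10d4a1885f88287ca0d1999830844af1926d15e3a11132555dd2e1546099b614cfa7821755ce3980e6cdbb14077ab4f714dae7941f9745e449a2)) (.leaf (nat_lit 0x14d5c0624699f20cde6b82a0313ba10a143d7e0f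4c67d8073adcf3b1f5966040c4bb574754d1c504cf5a7e2889c48124691a82108a3830e66a60037565c105f094c7058a1b7d109a3dc83ca43569378a5923ee2e20834a88e109e1445c86a1ca910c895cd723bcf03f8ff300c111e06915d92e6736ecd1ac99d4720b2b8811813d16a3d3541dab0b513a796353c65c8c66a0e069beabc5d5d63a8e4b82dd81609cc735695a9845a0390ea77632095824180410a2cf8828ac909149e1536caa5090731c8400fca027ce8a6dd2394bf1f93f404682c53212de3496a9aa8bd9ae024da4d56cf7a25c3708992611d1f1572e8979c8d2028d936a17860638d54c212154642ba74dd726477b25743a1d316963a9679686b0a5aca808868e12115e8a1533529496bdb502d71778616817c15c3655556758e3a5df13265b58d2f9490a0ec9e371c72c159545913083599e104808aac4cf0623c51c5b0bddc76c719856101292a4c4287def954c732274145d8acc156ea0c2359c9fda9514381640e07095136056612291a5093e5f97a21881d4004e61545613c5023c90a30d86d8b38992692d419bcf97000f0784a2b5e41f515694675516b2c9b9a908e9127e14a2a8b416a40f1a99104466c2f030939351d28a3d81205d8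861e1e6010d981f831291744e9a503c1b18e539fd46dca37e83119eaa78d6aae362d94b8593e7edfc1e47a6b428381a421d167a4442a0a78d233024f47187b4e558258fd6414f6aa683b6994a65d42e5442183271300fa5139008738ca2897d4a26298d2183d99342b06f5488ed748445414d7b8fc586d2ae06ddd9ec4c24e4848e2f76aa76f2806785f8dd436a1795e9df78193651c16cc234b92d330cb41504009d3a692779542698b45b0d709aa36dd8b4022457d31926002fa6d5001f0452a5fd0c7dcee7412b1b658250640dc850342c7aca5a09e17896e5bdb06c5787e87f2003280e6a1d95c93014712883350340aa83ce814e2303f1f99a433a55d7959f2871642762241e8da3a2b8b264994a6249954e8e2a85ab46213688aaa19e747866195fe8f9cbab58f9e891491965427536eb42be0d51177178a3290050186e1be234b1067cd9b22d1f6fc193397617146686719c27c798ab865a744e315b5529d820096252698a9287757a6e0b5ff901b83e82e8691226e32624789f607820d335166595ee7b5866169c39c00))))))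
noncomputable def cR_3 : Tr ℕ := (.node (nat_lit 49) (.node (nat_lit 45) (.node (nat_lit 43) (.leaf (nat_lit 0x9d054625fdb45ae1caa62e3ed752f4b93e91977dcb6a0530508616df59664ba6282575d379d393a8ab81c9023d0240c9a26e2b8b0c1a32510c465061fd5b9b79a231ab0dd7d1094ad153c965691c31b8820302a64a7482a80a5198795cf484a9398e51e0774f53e154568de3852a503341c284336ed837feb08826a51991544ef2d128701da588091386b0e97684e9c9360e75d5f670ee4ed2578c4b128c93283f10260984d28694b63425082a16fcdbad1533090da88f6371c70981085e579da92a45cd730e438c4522c74226237793f2905215d862e2398e9ae6be84832497a59a56cad48d379f80601621771a1288501fd842d912901b26cc630b49c5b1f95fa2f9921b311ac342a53e4df7282904e1996a79a5a47821d1565963a13547d1e11c46aa9a08b4161f8616d5112c6247b5ee0649f0c1b8605fcab61e99d436394e90914521a318081a2e7594a10a1a9a679eb755272bcec7387c1ee325aaab1987305d6f4c1b6a8d795e83419c1b801706ea6b8ceaf381f7432262ccfd764951364f852886ae06815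9464d1d47076004433f8ff2589789e2830e8e7bc590e23b811419bd0e35552628b73dd16775c86945104483161f295a34599c21a06f02d714b0f1a997b5f20da0e9766de8749242b0e9a4c7a1e52f46cf85a5aa724722201209d8f9e83b27a5c600c5874bc524ce995c15842e028397e8f05f65b61d88922959fd5a741e44d8e72a0a72388d2d4f444ddb715a213c0e2005e7e253170328f9fe51269420d15321f78266280540bd822e9fb8f5b06c68783e4c7b19d578b04993a6540801d104a8b267d647607d1b44c24dada242b076a76f0e1ac5503010a7d8c73203d0fa5e97cd6861899f67c789e1298a50087522a3c45d426985a2128d9e2557c01f28c366f98580ab388a6d5018b5523f469456a45d21e8f9ee58250648956d3f23033d042eccb3304110a6298cd485a726429992a0b7515c664eb4e12291449122a83cce27102c03615952730a01aa91b937aae534be41cd73602108a9da79059c6115d2818264679997560aa481344cc0400e5d4a4c658c3c1b270a2a1217c359060151e6c42cd353d0040498266298a8bfa41067ce4ea6e85581d67a93c3b4ae55c922452d460f559da7718702140f0918c9dc371a41e80d726f66e8d6b2369f143e365a0d91a87108d734ba9fa81775e24490d56555324c48c11000))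 (.node (nat_lit 44) (.leaf (nat_lit 0xfc4550d388524a0924ece68e86c2e40a42d163012d184ac3ad3707a6451110408231a0db2ed361e0ae7bdad1ce174695d2641c4c43e2cd462a4493b8c235d2b2d1472916d739194f0e71e86a4a8e133c6f509a066417240b04d4dc2f0504f4b53543b8210770c898b8dd4fd4343117088573bccb49521010f254cc61e6563e952314f447c084987f31d49a1c26534f51f950489234914f3dc2e742363244e3e68c47280538c43cd5408407514c837a1d401392acea920d16f8541f51b238ec2a9e8282784bcf0420af4d04b59c42500d04a4e025d0f3ed1420aa829453aa5777f5de0b0d26922528dfc73d305dab3968258d09f8ad9f69827a16ae1365f4060494da96cc9e35a5881c74abeac8b5a8694a67528372cc11888b8299c8c4098e69a2e83c98067845cd66a0b7d51103e7e9a6655e9c496e05244e504e307c1581ca898fe182620f4c80ea3c3d6864479e4ba90335285d9d9bb7e08c88002919eb5a6720b61f6f67503593649e178c030caa658e7a160cc8ce922056e79a1a0dc149c08886d8b6618f5fde21b85ca7018905da21e1490cb66e559419db8de1e360019b16a1223d075eea86ab616159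9c6d5cc43a55606d0318f29457c451acb89a251055df7220d25195119556ae6f8aa407641a9799d6015ba667d2c4706c01b4163e5e08d705f1568415c65d07cd926981284cd8a6577fc2874e825584f772b068e246c4ff0a9fe1eca79f12c0ae633509c6aa03949e0a05d51d6b18057b2768e75df961a865d6b260a2317db75969d52e1c63086849ae796776f05b0d588a8e9e2118d5fa6e0145a59a79a9d640c187889b624e2893a9815650a8983646477b0009aa730329f839ea5ae62700656e9f620e939243a5f0647285e4498a6591ea21c5970bf0e1fa045f466e0c3928d5c03f93562719414f8fd23c4771c107ce381c56c412103b4c38d5fb7b4b7a281665cad1a5f204a2f37e8b999726788a824637261638c9b7dd38080d38b11884d33a444a3a23b289b24389557844a587c775489acfeaaa976515c199d8066429b56f6b1c286496424bda6c0b640a8a80b291674329bf428f13a4360e5e4181b85a1132013a624ce932219ec592f885639b59c6a50d24a475e9100da584777315740e59092b4985740bd276be84819d280029954515e57d5300669dd61da7f952328092eab44c3e12089c56744f693d5161226a41a2)) (.leaf (nat_lit 0x22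b1c26663259304fb4a87e3017fa1ea96d015066b16f5bc07aad77d480202f4092d682241b57863a52a7c0fa09031186a2c0b179d644449354c49426308197e5c1e328de55f2044b20c16040485477bc915e6926fc4d0a69a712a67401135ce33bcaa1b1b389c3b251f864a5e4553b149d5036a53acf836e957202a96e49335235006f229764160a17e619ea1013c766221257dde20a465bda69b09231dd20cc039bcee2f27e888673c02c971ac0f6a37cc6645d344c27b88ddb108b3904ca661a59a91b2fa130e21b19194980f337cec70021a4412a85d40d16ea428f6b805042a873dc509e9b7e55108a20195336022f299075508e32da99a63758593518734805998e0d1465f9d0de326a27ddb20f1dc2215c4ca1c1884743d504789f5ca8c744374d4544624b8b1a85562d1f603559f565a4287e0f16d2e23d779444c47cb290db1575b54e82374c14a811a4dc68201603fe141d671a0e26105ab0068a370e93e6a475c0ca16586d8c867a3e9408b5d0a24894201ab0774bf7f5a19b6380d549225042bd4aa122a784502a65330d8f03a8671c48a21e4158fc4a1410105e3963f392ae6e81f9c09558dfa4012b15d919557a7f8a17a0394713d61a0e1756a6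5e40738189e63155d8353c7a438639f61d12a659ae151ed896aa4a2d9164d8992958b9756270a56a7872348dd3b4f4082ac6eeaf6f81a344d3354b4171cd63654862251ad3e2596944836434a84a42e3f65a8598a59639261f45c5e6a35e93c8ae04e7c8699095c6060a085d5ee2323d5a19d9d4a02e4ba69e478d8815789b4653905aa77b5c60ae963e8da3aa896b40099e2e365142f59f9b8867f1818d6077d99c9cd242de0913a0b169844e00a1d2ab920d4a71c30a0029a1d60b6948087c4215202d5b8d0871dd4b85d3c25d132ee450e91d0fc78318a77c15a4048339cc2a6600730327889e5b1583c64da3879360e63d8e2316051557d66e3b33125514a42d59a9e2190c484805a49910c5344b8cdc15b5af5301772826a5e9d7c8e03102598a2868a4e359440f9278f2216657b4188d76566769c910c09a04f72b13f8a46e2e1eb9ca7f8c8454bc7f3f90b2b585a009c7a98793e117fdb7072b4340ce33eb36e41b9da3aa4ce13a0f56c007a2c24a61cb11167aa885565e044131185a3931737b09a7c56b9109d1a5958794e2410a2adfb0c01d9ddb814eb27607149943))))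
 (.node (nat_lit 47) (.node (nat_lit 46) (.leaf (nat_lit 0x218c651082598e00c8fdde8dd1a485ae67d707599e579bc629630f4b0151ce1227c6d4369ecd40ee6781d522ec495249b520574d2ae5f093041034242c9411905639401174464ba426b2c9cda1caf6da7031c735804da588a4e2a621d54a349f4f4aa9ea1823d8e251aa20993721751a0183f2570510d904284562e7f202916895022aa693c29aa25416a1b210259d41e9966f87e649ab109a6836715e4749cc659bc5da0dc22f8514fa307f64777e557cc04795e787c6d2fc7b5bc5936d82851a582d8088997898dd1925f5a4f38745b3562b1c8e9824769d0414b12baa49854ea821939a508b854608b11c00d1e46c2b4150704634785f7950c0aae5e2ba92a18b36c66c19d940d21c6060a6a61763c7c7455c618de1894a3e85f4cce31dcc3222257a00879a04089f67b40b7764a7b9f5848dc4c20f3b27d89cd39984ca145859663575a05d1891d4eb8217f70c52641bf1599874c922f0385ba46005249081243a56068fb47e587bd7aac52981a9b4e8baa21422659d1f623971579b4c19d446394a551c472f46f32c972a668a303c3f52045102489163fc0d8f5411994f2252a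281646e98b24495ab61628e8f2c481a8cc8974b94d54b880ef4ca0e3ba6184cda0bdd51ac70684d1179883e4634b8df2de9e831f976c237e203029e47a4064101f7faac9faa4996916121b170f4631626ed9c57dd760d777005a3b4400ea696cc379e4f013e60366243e0a88fa3603a5a7e81e90de3015f40591835d363c9463a92d5a080a955132aa04ed56a712886ab00d4e4284a269dac0b9916f46a5f9c55c6a7555138bc2943e4004d23920009482a449c7a11b49b9cf96cc90b69f6a2af0ce8a12aa113a6a2d0d2710b6749616b57823137a540294c198d427925dc4200f8b55b239d05c8396c976141c6a08cd636217317372ca76dda42916b1128b0cab30fe993314e211a23c59a36187a38432b28172a4f3f9fb9392678a3a431010264d09967a616cad15aa7545274b8234d6216aa27293316780c2646e67f726776c0905619b7050b7823c49d1d9311041a3307244074c4398b5388ad3d93f1ba2912ccf1fce01c4e887a72155443dd313854c3387981595ac9f0766017b1ea7ae007c9d80912505e80114ab9885330a760c4c639e196bd6d68c3e5ed851855966478340696e0835994d26a114bc9e8a1433d57da5dda095f101dff06e328ed0a))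 (.leaf (nat_lit 0x7ea726d4d43b6ecda98c643d2620252f72d1d324ba060e316dfe3ad5fa90ae0b1721a249aa4f67659505c8673c0d6763c215e4891242597e5a0212a86d774f274d1250401116b48ee981fde64b8d7031642ddae95dbf145c34a9a1164eaa76811c4d6630206c89f1e61e9c18121da94691e71c4d8d685aa0155c55ba99ff3996d090cc0d91175eb091e5c04c653be69a463d81969051b70fde03621c37aaf3ed6c498384621b836271c0dc1d82e5e9349e444535063ddf22be531410530cc05d82362502121105ee551ea7560215012122350c6bccd4399106440a328b9e0785de162ec466ad516620c7de902310722d8e4218d6c50913855865ac7bd509da4f2417c014bd8fd829c638306486b4259ddf8528d5385eb5f5397703d2c811595006aa6c02a2b841151f5a5480d9250a99389e3b265180c65617328aa2a09282c5e36193258eada5c30294ca09c1d312288b86fa12033b45f84d0413ce5451a660d1f2562205a0e7cd4c666ae266430c5447ee7d3e1df1dc475a84940d5203cd07b26b15e955d5a4516093e4f019a1f5b8290f12161022a69136689d3c64b2d1d83802b4e2379aa960d6a18be834fa041795a06cb89127c4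b60889a206d59c28da321293846884885c999fd7245378a2a5541a648d41cd2c7a462a6e419b83a3fdbc969b02d5f03d6542c25026e397403467d1620a9f3f197269277063237e1d9186a974262ae217e9487548002e7e2d8c7575c84ac4ca1839a9d5c3a2012b1b851a6714956984dd7850f24590022178510a61e8e0f81f62d547b84a33df19c87c94a8d470e4860899ea59344747d4be2fc00502b210e6401c677b55794492a2a734e961aae5e64c6e8a5a87351b6780e20e3a895e5105bd4f24275236321e71ae4dacc6129e7f8cca4712454a45a7e4e97f2a3578b3928e2769370a9d14f4331096f3b85d315caa94a08c543688fa82854a79c248d7f0a1de4d9ba7a0db18e4015a6f69cfe59e60525cc3087234e8995a748d08e041537a8ce00d785d15942ea0435a0019b36288f7021a5e4029ee8f9607552df483d9b53a021601ca02307141e580cb6525fab1620ca996fa2d4ec69815b4262076da9222119a51331b0f30b5d25097088ca824c9c930b9298124c5b94042f9a23e2f1884c1470ddd625eb196cad5ad6612c7b76d25616aa45dce204fd2859653df682d8fa1cd28b08a718e78013f))) (.node (nat_lit 48) (.leaf (nat_lit 0x1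67834270e19d962a1235fc8f49a26d65828240d59a956a7246028e898265698402a0c99794aa423dff9009625e142f0d835d7f4aa713922d40450625fd4aea0968e10d85756a0c3fc549ca034bea695cde0cc7f5820940c5252e004b6a3950db0c02f5760fa46921108c65193084bd588e29659c3002982c688c8e5a68f6a88df959992f826820668d9cea5cf3aa0dc94d963082c8386a8d293a50f9a942e0b4c658d49529297e48a10e3e7f9df7801a0a19e0dce08ee04775de0802566c3437641805db7701d0ad980c4da3648ba75287358818605590bb84a5093e3363ce97e0874e80d878a856d8561a31630e67d4844dc13888ae5618361235648ec7c8814d010880ab5798160895136aaaa6135d9fa6d4892425f448a95dc0c4f2b37da515398e23a637ecaf5ec124e6b07cd065518b24a618e4ac5e40f4daad7c1ef545913bcf03161d1f87d38c4e8bab44ec86144eb6352e1e1b63e01c03ab14e08313ce86292c1f29f3d419052ae4d48014cee641301e8f13c81f045ee7b5da8be378e1752961b3115c2a84a12e963a8887deb2564b012049a70e7215f4abd5f2b44611e993b4827c6acaae1c02574a79115f5878c04c24d324c479461baa1d0e179d0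3fa7353e1986877455b7a110b16dd640a79532178607b46dbda0508161d34027654a1585980971c170094190a608961884bf81e74195cf181caa15338f11787cc329e7a1a5d5175c7a09959091488cc155e7719dd2169c49fe7e8fd1a05416764fd415046d25d1d1cb17d0d981bc4597a5982307a98745c81710a979b944d785a80b06e9575dc516507989bf4657c5a0170629b7527d9f0451d555558639c0fb761509d4cb330f46ed0fa19c95367b324ca3e9b843283719539e0c7320f76f909a01c3708fc7306202a06845101da5b5f856155217a00801d2392040a313f49de5018054824e0fa90685247ac0400d2692c42a3a6699d3d27a882d2255accf67c3a1ad1c475b26ce6b6922c8ae8d7a5436c1b19a1aa8aa29a2de6501ae6be6e69e2889e8f7b1469a9a0788390ee433396d004b22c46d274ba2e669510721ce470f5a22e0b79bd411c071934416a0b62d66c51c6e1be4a0fda59b4025b2247868a272444f8cd6adac341a334646350a078ca1515e747d735c9a93564c348a49149f509e4495715c1a634e49358a2478a3521ea4896f5b86c0f264995ada26262cc00)) (.leaf (nat_lit 0x22b175f0a38995852411294a4d539e16f940d9784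e882d44979909cc521456dac0369b94906cd381062130e3391974f29ea76158586e850f8289de84407a11340ed7ba80f586a194f58c09cb63602f7b2091d0898716449a9156e267d0e06ce1f8e5160b00d7e9f936eb49d5509107c3966c5fd4c33e227f172432ac7248f241e81dcec5202596e280ba5194a3f4683faa0fb1cd783c4024e19c9f9bb3d0c7321d1a62537e1a49e80f08e9b750cc32d2d4b8b9720808d2335d4bd3ddbe0119465587622102a5178f0b421258419ae31a406826362648758ab81c3122281675373ce17761773f6a66e89f281f7154dd4a8109e623141fb8f64e4802dab90a1e156738205357e5f5ac340b72e1ada264d7a58f970248ecc924dc5964835293002c2a79a4a230ac7548770255262423121b9926597c169ca4f209c674c8d2b9586c5b01b49d01406290a32f2356de1e19202a489229d090deaf709419bd7c8ca9f774fa8493b9f199a143e0f560a54439dd2b048d77c85b0c0d5359a951690a3e298a87b834e6a6a8ba3142699e549c5a385f36aa684711d348d1acd040cc6c0f0711c041109934da82658eb1d60858c5344e620a58a549705c6562d48675e472292c4f81706201904852cdc3251b28e89192ca883a60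9867d021338c49e6f5b8284bb5d1b56d0602040902897258af90dd29eda34a0de89df655521a5dcf2689b764723c9390067f860408b62e8c0fc13e8a464565ceab099476354b740ee294a672ead8f9fe6026b0788e789570566953c345bab236a218812f69c0c328d4185f58945815e0f57514a3562829eb3a5c18b1ef4341a0a1dc76cf6a8a874d6361bdb6a8ea53e5df7817a5e59a00d3a1e47a138630ac1dac56c41d11442746495a831052e87f1781367e7611523578546bd127fd0f7c6a9aa95462e00454763a9ea662833f8ff3c0efa85000e85f0d46a1a44812585546676a0e2166245704649670039a5501695aa9c39ded7b9665959108543194660c85c06414a595f4890340a8666d7684d01304391ac1c6066d0e1085ac47735e37911880ea46e4bf2f9314c8c06fc9c8e237564b0371c708986999836121d3150e95cad22e46915cc2aa4960a714fe5a710b22c44d2565d639463b60579d6746e886ac7d1f9fd19cce5381f9aa0612d1e9325442c4aa651f1a168334114a5a2685ca37cc230dbca9e2f7699ea0000)))))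
 (.node (nat_lit 52) (.node (nat_lit 50) (.leaf (nat_lit 0x12b851c95587ca4c829e8f5a7dfd46ca42da668a5480ea4d785227a8d2344ee5648a0a0fe7d9b40c94f9cc53152418049b26a208844a752081e1323964f4540f9dd653e1b74b92d40a3f7c18414a110d61c5314b758eb36c9896dd14ee0ba7a230bc869510b8a227512697b2472e9af685187640c1352f70d69214f2a98791e93811a0e811088ba1f9c457162b1384d39bd6b6cca04fc029292578da650981608aa570590e23c0adf341a6b6906f1ba43910706aa88aaaa939e9c6e6a4415e0449dd7792a5fc87176991d596654a5a5999770227ec60a84c4585752f5e649a495043f8909f5b66d6968ba3037525ba3f5f40a9305e1c2abd9ea02703d08311ce429e5a035d88b463138c9328642519d4e41d8bd07170c7640b065c743fdfa94652722b363cc5a80bc1a6ac1ed9ba51d58ce3478808914b5a29a868e8d1ac9c6819f5518b7b5ee2fcbea6d932ae2254430264c15f68422d5855c130a566159b64c60a74a008c41e0917a5e5643da79468099545172e125d2058192093a659903d0f9ae0f1469a8ef3c014065c7370458313a485e85b96f4f93d9a170339539e21a8648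f241df04513901bf5361b3a88da14217ca3d7f26298ead60cbba885f6340a40def4353666876a60ae6469d16cc0ad17e4a11044632940231558ca8cac1de9a3986819dada240501a90a3c6c2e5a20b23b3edbb8783638e8156ca8308c3895b25024b005e4100d42c4b22d16c5dc953814a5a8f14260306c0b2a610a4692aa0f3ac1c5769179628e8a83901de9918cf28e6750c42105f90690a321b59c93c740432252997686554e9874346f46a4b2ab3750f7c5c1701b83e8260419412e07579608242d0ba5f9781f411ff856169d55094df8568eda09735c9eb4909e0ed711c4cd6ae5676d199ec815888e299334d0df7289625dfe8f935a1d4e6f833909149f27d1404f3e47d9d9ac341b16c0d53591c921e747e0d111cf9717b36a3543018049675a26c51e2b8b0a22852300e4c120495da1343a573dd63200d835c25080e874c7e33189549f78dc27232833b17c198d9718880c55f2b58661500404cba958a2e0b72746d515a90111d47815059d7a54deab8c66385e1fc65602b28e23605d982be9773a7464a300720283dcc4de603889318987621c485c4c03a59459cd24a7e6705a210915767f86261185f53f23a8e6a76f0721cda79b8b38992779400))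 (.node (nat_lit 51) (.leaf (nat_lit 0x28f660c47b9dc05d921b0ab81e5c6010102a511b8b06359a32e883398460c5d68e9aa54556a19fa645e0cc07020dbad06a1a51c474b71daa05cd86226057215209643435f09f67c1212a6dcd21a1959d4de2703906414904057f0885d66a994bf739cf9a5442408f42e54341ac28aaa55de6070fb1361e4de605b4f2a9987621c45260e92d080a930248b12c99ea01779bc83860e44fc0280e3a8e5a6508c9328aa570b3899278bdf341a0c56a2a8a56559a317e1226bdae1108c7ca562983e3647d1fa3f469d03b83274e12845040a64c1f22c5f551825c9aad3ba11188ee02505cc0d8e32166d694c230e25119ba039f48ba1f3527e672b1384913d16b528a029e5a3f01b02c631398160864252b0715da0ad073b5792014884dd215a1699a67456000f1ca822832696276e4e09c182348e3305433409491f6564d79e54c6d5b40441f5555688e2222e5e3d4be1829701a387ecbda6da2684eaa5a443fdef616a21d2b31c18a9d8c831eae2b06b5fcb5a8c67319964ea4f9428666e9ea75df782a963cae82d3d4f8eb75914908e89ad74a1d35104423c0ef94c157a8100996859e278a03d551c636960274dd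04e3347e2b6e52896db06c56334682829500e8b6125b63e1e9935d40c546206643b237805198f57b5f071819893f820954f65c88a10c521464848c982652c4ae7a285588c126031bb4be2427ce256ca8a2e8c0de1750204005167357815c581688434c959fc47984f14264a7622d2a6101c873aa0f367539075e5960d81bd4b14d366adeb402524296f5ba1575d435e9a01fd7621ce63963e7f9207b41237e745789ba416186cfa6e0d6355f143e7854e5f2e29f6f5bfa86358d99464d8b296b27e5fa0d45f9a1aa6905c2ec781dccfa294e638168ca4591aa41ed7e1b591ab2344151e79e1d3144f1425d4a5e84849e57e73371c74b52e25c96439dd092477b263989c0706206b534a166c39c867f5109002d515d53a61986a0d2bc21088ba2e68919599409034f1973e6a52b6ad6428ea3677630451d5de7882303da930294a70bc16d110111244dd1a61be3dd324c4a3291e195c1e12c4a5367b431f719a214cd705c41a0a21c591cb0ed4f9c80346dff3042ea4e1451c300bc342082c7664983c3f70d69a0493188791e9386c84c3f659790409c5c2abcb45b270574e06cd6a185f50352578ea76f291a49a79b8590e23c45c00)) (.leaf (nat_lit 0x2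151ed8948d401bc9558dfa0d2190c535151185ae442746060a0813103119b7072b4a3dae01429a69c4129380282c9728d7a4e7308c867a3e469371a2051557d63654861f96966a56e3421d53125098dd6164e7a2e1ebaa5b4055c60ae96384e83d4ab90db1a75f203a86748330e51c4f485565e065a4287e2b1c26699d142f476622128c55760d440f9272d54aa1020ab1bb3ccdf3b1ab0068a795583c4de325c910c029a12c8305873a270ed9c9cd0b2b620195334743f2fdfd4c27b4a42e3f5410123370562709d5036a57d0ba69e470bd024b53287062a7c1d9ddaa928b622976415004ac572ec848064b8b1a81a595879757b88c77c6a2c0d0338cf042a873ea674011a0c74aadac0f4f22ba998025022d74201603fd9b8eccc8946b4fa6c46cbe1dd4b85e308197e51873480b49ca7f066b16f4fa368ea6c007a2dec575b5380c471c4800e6f61a0e175104c46183c5b4b98c964c180d9f9b95f7788253c7a43a3c885999da2a786af6f81a70021a44dc3a4f92964da3aa27dc09a05d60b44048547018947e1242dd85a01808bca61e0c66866d88ddb96a166285e3956d6be56a78eb3e0db32e362055e682241b44743d50059b814d164d8998285f98591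9557a7f9a4991558b47d5389042a3d5a19d9d4b179eb36e41b71427a6cd738cef2aa48352a37cc139f1cc0c8a248942850759c525514a4259694483684c384f09744d7078ca316663834518c8456f01eab6896b4000929872c444e82309662a21e43b8bc5a997901a39317323d77944fb4a87e300867f2465bda618e7d8757b4188d764502a4d134cd504aa1752a475c0ca1479361b20f0f72b294809ef24579a499297a091389c7a9075508e29df08e035108b3596392623f3914c05c7234a957202a96c9b465395e18e9491e27d72a32b27618b9761013ca17a10c5344b559f57ec30280b95911124e3aa4d510886c6ce9c70c289806645d348699095de22796c35ab0776261059a9e10d2a21b191949143a5f20497e744bc7f3f9480222e36567aa9d3052a07da2868a4e158fc4a27e888673c0189e49a7c51f2c97fa1d818d607248c79966b599da94cc363c5c7356ea42586d8e63d8e2315dc2215c4fe291b87c4215202dbf135154ec5282c5a6118793e117fda99a55a404835248941241329989c17179aae6e81f72826a5cdd3b4f42be49336a77b40fa09d10dc7149943))))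
 (.node (nat_lit 54) (.node (nat_lit 53) (.leaf (nat_lit 0x1f976c23a25408a895ab6169d167a61e8021e620d665355132aa013049525f0766014aea926296229382ddc42da307f4d74d844a2d7aac5295fdc314a4f3f9fb0ea696ce156960b56c8e7401040d09302ab9786c12ccf6b99f5c1138bc29a00452acf559663991b93f5201d27352e203bd6d68c3e848dc4c0218c651949c7a11d41e9961c1a13450b7823c024472f58c589bb3ce1d16e460052445da23c61c604c43980294e909acb20bc8f63aaf0cd443dd1c00d1e885cc88e5c87c6d8fa36039411988d35aac9f8183f2577d0a269dac738489f1863786281dda095f880c0aa693c298a3a3cb1a096cad204089f626a114bd3b55a9c0f49b521ec7a9eb54ea821aa621d542f1d25864777cf251832ace06a6d3a641bf15a4e499e20de793c20d602225c8396c82c941192ba92a185a1fce07599e5790f9001398853308d0575a09fdc9451021966f4ca0e3b97b6146183cec9f42096638929b49b9be1f992179883e5274764c0906f32d9c57dd73562b1ca420490e4119a3620a6a4b5388198d5cda1caf264946aa8a129313851b0ad055cdcb55e6d2fc7b969fa0794f22485aaaa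499414436417842e645bd6d4369ed4a3e85f5c5f101de47a406a89505a881a8cc89755aa75ed02ddd27a2850d2886ab00d4574d2007c9d84e69422e8d27d3d2a9ad5e2557ccea4b43fa64baa2142661d324a3a4310113e603662465e265d850718158e5002cdb19b0671c4e86f18a58d23920009d831318e75d1899ddb0489161768398613369596647889cd39980c8fdde8ddcf96dab109a618d2e37d1041a33070972a5835ddc03a6091da56068fb47d87a3a1763cad3d827925b69c0c71cc8264ea11394c339070463429db7306755bc5990de30152a2809ca4e91610284562e7f06a5f9c53503b99d3338c7730dff06c1f7fa10258b94d545274b87b9f55f697390a1ab97c24d2505c608b27a8608c4de955a404795e75a080a94cc538847059d1f4385ba4d098f82a0dd1925f3358d4464b6503487a72154b01502a44a196bc753ae086a0905619b3fc0d8f5c22f8514f9d51ac696e2851611a484c90b69f9c579a7a0c9101d9a28c0f0ed100414b2587bc432b2817287c7455c4fc6e8a5dc4200f8b560135c85d4689a8b43487981595ac9f7951a42916b118e5294db60a1424416461646e98b316780c21b170f451e02916a7555522ec88896328ed0a))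 (.leaf (nat_lit 0x12c7a4625b424332a18be83066605240a8ae1049585aa90f245904a00d675331b0f3a2e781e05170d2a6499e038dc1d8ac6e0425beae26643074c48a1de4d9ba9186a9759808d899fe3329168084aa6b1ef540136525f4bdcb474899ea592e4a60494f619325650b0f121abcfb82226881470ddd63b2651807ea726d5026401e69a463d172667f61a5e40269da45159f4588285404848e5451a60054368a3830602162427523ba607f845b227d61aac6981690231072ce4a125033ddf22d8c75764b2d234239f03d51e71c4d571547b84a2b82c5c8e17ad7d05d8fa1e9b9066e0d91175d3e8105e7f1cc309151f5a545dce2040885e143ae3c2142d749425de162eda1164ea84c838e82e5e94699cee17431511fb8b86fa11e836c63098ab884d840848712454a46d774f29da4f24232ab162324ba060d11d1f54c5b94044b58eada810d610225b1266d59c28c97ac65b319585cd350edbb2a4677b6065a4147245378a7ba3e5824e093e69f3f1972350c6bd8347c95968fa82a486b41ca0236321e64b8d71dc7987a5e64db42608b63908389da5480f2be537212b131d83801054e542c235a16a8138cf7c6721a249aa5397703d470d2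8b03a3fdbcac2479715a06cb89107234d20364943f4a16590a61e8e0f9e48917088ca8119ab5469da047135a25795349e452558c572a7d3e1df80ced17e4015a6f7e948754804417b169f93a5d3449415f0052f63f0ca9938c5b7f8be2fc000be688f8bca5c3068006a69130e11868c84a4cad5ad6628aa2a08da98c643d157945b70fde08a9550687552df483cf01989a49dc13350e6462205a0e7cc54a78259de30715e71ac0c590b76ba706046e8a6076d98d6c5094dc2a341ec14105a1839a9c2b4e1ea33a5026c155c55ba987c94a8d3d9d9654b2045654008a719b02d4653be7c4b68995a749389e7da0b07d8b490965f89c9320c7dd8c080416f53c6004453506984dd786a528231700475a90413cfe59c0b9fa551ea75a8d5e116b460a716fa2d4ed5fa92b210d884c0a5328274e9b36288f6689d3c61b836271c2884887b76cb178e6202492a2a73870de3507366d4e87d6e0a4df87440a314c665c248d7f0a1f8528d50796032e4dacc6129e576fc876a51a6a1cd46e9222119a5055865d14f4339ac57a54c3301760d4e8806379aa9600d785d239740345d5ff398e48608673daa9b0e78013f))) (.node (nat_lit 55) (.leaf (nat_lit 0x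1e87515b67c236043e6e5d99c0ad7deb09405d03153974e3129576887e276110fe339ed416110f8908105100a568b461b3a04011923713cd5516760703c868f291477a44fd03c864de7da0e1e2691013640320d16528a059a7639d57988e7296d7c0ae9e1db79660100595acfb10ce793a8d19cc933a218edb14509318a204f085aa90a2aa9a1d6303e57c921054f4a6924eb4089fa7c5e2ceae5edd2531426ede370e267317f631a83d5ed6d58a3b07804cb515506a7170080a23e9a31e960741668fe7c319134cd19a321c446992b1e23647d8ac1a97d467be4a30dcd83523380328a02b4aa677d9e92f9676c061265ab811970199e328981a2570ccde2f503a814b4ac2127aaf4950ea96793947b098ba0de528b4c01c03894e2a8408a482b42842583122a48ff1b2a60c17338578a5d890d0df95605a4c8d772a22f1e17d66ea15ff1a49b469650119c6614a0a26a964da8b0c2a746e21d44828299ae717391c244dc2da5829d50781996699b58c977f86a7f164a25386c9cb4b5d7405bf82571968db60e90800cf64c0314203151ad56aa40bc24600d722d2183a2e2c4a99be6149ea12ee348a5243920b9a42a4a46da9e3653a0693e824e53288c4e9046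58e4cb35a846be6553c1128e156da4c110e88d41b1618f029a57c9c95b1766f873169a0555745f5f12c049220f30e97a721f40b81761d857444757a6617042912982ad4706186104ef8c591571091456134d35a1c0086d1b35280334c4294f0200124b2b311a4381d0b20dc185a2f3e2734c01f1bdc647839775797b159241aa5f98b3ba17710ea55a4bab05f2d0099893f41d1d84e1d7e936889fb4ea3a340cc8fa742dcc191c742725b035549f916254638f16a01d954c5a93ddeaaad72a5a639e9406e95d79dd3768a46dc575b9c0850e96402c1e4e2862a84212e520199929e47eb25bced97949685968f466259f9314024d2868045671df357dcf249df6d17749a566916945d9d87e029fd12a3cc71ac899a1f82e1926e1d81c6543da72a508c056252090da8dee16eb1864fe3c5529700e1c8dd91a0f6f03602d2f7144b7ad586b2386b93b020534549434831121de53528848b2ab46023cd84308407a7560a9b1d8a89b4350f4104f95139a4d116a92e651821883f27707543411c289cbf3d03b0b66c2bda663422281756f5e41f1d68c8271fc5201562a21fda3a425a04c)) (.leaf (nat_lit 0x201801ff6318b6296057d5e81dc170296a569495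e569561d8721b586639888821c861144410c290a02705c661953e4f4d6354b62d52448d2246117458aa2a4a8388e1381c252949168591601d0701b1384d13061248919be6e9b6268962492e4a925e3a328b735cc5a969609817d5f47ce3f8fa3dabaadab27b9ea7952e06815a468da27a5e879dad6b1ab335735c8ee3b4ec4a9294a10c42d0a944c831c2e0b49b268781dc110400f08c060146f1b8a428c3c0ec3a2fcbe405004c9313e8f93e17c5edb56d1de7759865d966561484e12a1e86a16a2a86a0a7e348ce5494e52a6698a5e5d9725b5f6238898f6398d7f9fd7f1cb729c9aad56554d033cce52147519214811f478b82dc4b1287e1f46819c2609424068190605d1705b2308b22889150532b4ac2ad15451135515354989360d759163589d7759d57c9f17c1ef611838b22b99664a3a8d92247919e6795e469da66956d5b16b2c5b36cab1ac2af8f23b8ea1083e0e29e719c095250930e0370d80e0340c02c7a1e5304bce438cca3250942107418ff3f8c1300f03bd3c4ed3a1c47001003108412789d2727d9f21a866328c6a5a92a36d9bf6f9bd5d9755d19b669994cddc76c2c0ac2a19063188852108315c47118b42ccb249d2649542505404fcd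434d5d5715b715c470e0480e028e58861e1f87a6198292a465a9665893a4d9328aa26889b26b9a9a18a2276017f5f9f87ddf6745d073dce5a16737cde3754e5354c46d1a465fb298a51404f2408f158550801f0790f4390d318c5310eb3a8e9a4d2c4ac761d47405013048320c4300bc99262789de7682a09822429064044aaaaa5af6b9715c1a067dec7adea915e077d9464d7a5e5b96e1b7a7a9d8da3585a15a1283a08a22843e0f40801c6d1b06b0e5364d5343dcf63d4bd2f0bb845034091d470ba2e4d234545511431a8690882112448208812025f97a218825093e9ca6e9a395c871dc65695956192645909c9fa7e5ee7b58661566595d474dd2a428f912438aa299a66899c8e23452144160546017c5e1fd515414f370db368b02bcae55d114400a0247c1ec97258350d033330cb415044b92d3a0e73996f5b9b16c1e2785aa6a5a899a0d8320b9d6749ceb4aceb2366388de308be2eaa2a7a9a81a027f9fa1885d9e6759c769d9761bc6edba3c5785dcf43ccf24e5384dcfd3f0fb8b4c3308400fca027c731c80200400))))))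
noncomputable def cR_4 : Tr ℕ := (.node (nat_lit 63) (.node (nat_lit 59) (.node (nat_lit 57) (.leaf (nat_lit 0x360c80449d62a867148ea37bccd47dcb891353b23c2fc1f2489e8a4692b50571d372be90769a83a1780b5691248970e620762b352406921673112855c22d67c34d838cc454309a47a1e6d05515c0331e706da0b36961120510fd6e4127e442665ddd02ce8f9e12f918b187091991ce2f94175e1225413291f3706835518f5fd2a83de07f66f2ee28961980892e0a54f475bb599903d081180005180c9ce57134995760841e9546d74809fc73cb833d29044b27c68788444201135458442eaf9f494835f51494099cdc5bd9c5fa1b535bf9dde76d648320f813294162915eda1a2d025540b1044f558425c08d1c8217e4c23952d8b5b07acf693e078d581260391e53d86639a68fbaae363259a61c6b78c7d01c2f8ed7a3b8472741e8993472967a74ac349d92b8e7861aa719397b8657747c592a049922a954a0c4060e23727d214c41c285b376dc568cc190a6d2f1fe965965ce104052803e8509d913c8cc1780120a446f1504b1949d0141c493362847d1d584d429a19d601bd56cf0420f9139195d6961661421c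3e7b28254a4a3dd8d8cab42f69b65c16568fc97dba7d8f32980251c742880d9d4de66e550986c199ab77a094257680d18a61a05b2ae43661a216025cba0f0c579a79174840b98a5aa4d341f26e0682282c94a2c3866c800e4452b0772238c14ea01e8281d4512382147e16cca9398b7927a31ab3565b95c4e294e01a4a6a22c2a141f81d903ab10e5b68957982a653e458869243a096816b4733762e515fa749a78f4ea2a25d358631e01a978154f0181904b3ada58fa8e2a65b52d894ea5c6bcaa2401918a3f3a5a667e604eca5aa251a9867a9c350cc3438c5f301e21b99264db28152baa8fe759790493314c4608e5a3be0ea7e6e01622915490a07b02496614d155cb9365ed5711a85c5ca718c028c4ac8fd61958952069ad4826df71bc0e1d56b7a93054d17220f563a4b0ec6d150243fe0a6b199958df8bdd3812659a50f8315f1a99e36e2a9ec10159d1930cea18b47c02b98ce010dcd4553242ab18d0fa91d686fa1d5329e9d9e910111169ff1fc8c880b690cf1784cba28b7a5dfbab4778c4a73561f35de56b883a4c7023c616dd95aa5720f41712900a357d9fd434fcc36a4e64e250721d82c1b128dc023aa462124020370c2a24956377e274809c0807a4d9c98961a3b63a845062ad1ca31657127206d7c905a2))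 (.node (nat_lit 58) (.leaf (nat_lit 0x1410fe24598566d9df04513900bf2f8a42da661352f70c60a84c45865442d1c921e7660afa5e0f731376704812690a3d0f7c615859bb8783638e8156d5a3b682a19553a5d5014063dd6320260388938e23605c126b0d036c9896ddc089fb5a4853caa6348d17b5ee54e785e97927d6d9b5187640c8a5480ea9e88c2f219752f531829d2799269269b64cab5788f2406a4b2ab1b0b96882c8ecfb8b67554274648d53597684e30072028e5876210e95db16c065602b294df8308c36b689874346f61a8655462e8ba32008c41e090a5a59997453b82e4d785227a8791ea044222e4ae14724ba6bda19a88717622544303f5f40a9a3a346b2726298d9412e072b077a6a4b005e478d60824deab9675a26c51c0e96516734929f92300e4c8344473dce75e9507d047fc40350b11558ca8db7705c06fd4d86cb5a29a84c17870aaf04c294a97f8a2277f51b87e7115c37525ba264c15f4217ca3d7f1a067d561f2934e04683a991d596655ec91e35430183198e179c485c4c18a2b8b06819c260402d0ba256c940694b45b25f979b83ea3294023288a116884054169717b369449a5dd77ab1384829e8f5a7de202245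3a88da168422d5855d9ea0218984617de3709d4e6f8331fd456a65676d195296a3c4c0ad17e4a042104458313a1ed9ba5047390a72a120939b9a912e4b641805b32813f00a4a4944a752081e132394e639e9c6b83c51a5a035d82f069ab0dd3bcf0a3a2a0e591a745b4260306c0b37dca2746d25897220317d4fc8e977254e09ec81588cf28e6750d104448ca0cec2455d9fc044751e47d35a1e77594f8415e0448d39bd6b2c89b26a338d1c737265992703d083160631383d0f8140658f316a08822169942aaaa993d1503dfe8f8b82dea76f17c198d971876a60ae01de99188e299334d0a9842a83cd735c9299740a40def360d769e6e401013e47d9d9d63ae43910aa570ee5648a224ff7ea519a170339643da7952c642519d4e605819217a0b065c7414c54164381bc6e40a3f7c24245186614b38987e3318954aa217d8d7e41a429711c4cd6aeb0714721cc250805013ccba958a7ad24a46924d99a4f1d010d3e4f5c8accc93291a02655434706aa880d61c530283f9f69498160a3c0adf36d03253d8414a115d26b6905172e120762f41c5c31d909cd6e5bcc86d672ab5832edda45e584189e0ed5f2b67c9f4e874d2779400)) (.leaf (nat_lit 0x1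665c02a02219848ca084ab81c200958548c930f5b84d0e317dff900771e0e7680580ee326f659126766289b2694d9eea76f1e8484eb812666f9014de771f288166657f119611834d9b98b601181a125524aaeac43a578d1316e8d82591f11e8d9e54ba58ea0140687a1f32ccc5b8a90905d3b93f9d65422527600d9719974f02888d6b2bd6809d6c320ae82e16854985fd257e4ed16e8b94e7353e358d9929d24b49832170ff0fd3a656a9aa891249db7705580ce94560019094a1d35242709555f2b40d0b0bc850262a96186e8923a587f53e399387803a2711d471f81da724a9c878e999bc2f21a836625c19ab2741115010b6cc8a1d0f03bcc70655888a0c891672cc12060c0305426988c112b436c40a7682121ac5499f468838c680a80f598a6308a27821715541b868c25d211319630d54844a48ab8613e9da4cd997c50f4c12f7b9ed288a18ec2e99e8e4118d4c86e3c8979824c47a6951264a6e3d4009d6707b7d0ce6ade1789eb4b8dda90a48b881a49a2519b16c01c039752f609582108742303d785dcb82de068155c2e8c43cea8935e96394e461aaa4e303f1a49acdf72a71345f07bddf3d86b2358b41d3d0ddd2a684f142919066a4b44d724a3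668fb761876226135de7414465306f8cea63c63c45d09630cd750387ec6d3de7e9fce1ac40a0262c8acbf2f8c55bc1e89a0d05c142d1575681a2c4b200402505fa0c08ba3190acc99925e41cc726c95010c65794da440876966d27ca09752974698431f7a78fe65a2f0fa8568ce444cde618621314a5259e27a9f341f56263fa70570dab0714c301cbb8a0c9579565940c02d5d83e7c9f4691a9ae6bc2d759436a1ec91ea53e4820d0d223d0d2d4b65e57a054162e410588d63559464c521466815a947548546ce5a8a810e5546b5067cdc438903409c17007a1e6951fa3a84d762b20a0ac1d5901129dbfa867854c5a2112c19ce070870764f8731470ce5eab64648a8fa40e874c3c1b25a4206890eaf93e5010442605821f5a945a218800400d6a5a41f8a95b2a1cb13a453f59b6da6c9087f17a567c9725cca529a17862298720ea28cf7fa3e4e59d9112b70d2093a7a63dbb3d14575e39809147348018e5f7aa861c6a36dc4b128dc7997d69c8873845546519493ba11913510a9285496c318e1cf3b1de776379ba9734c757d85371d285f9b46d42904cb05656d8957c5ec00))))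
 (.node (nat_lit 61) (.node (nat_lit 60) (.leaf (nat_lit 0x16a4bdf415a148de9f71824530425c0807fd469c230894fa065b07ae86619538a09686c3996dbca30e133217468154f10b8160474d2556e7e710d30b12a275ed866698f8ee4e9893481337cb1760930fa579781a304353a5cf3948c4c556a02101e9c827d2193cf646c7d03273422610fe6d15e3a33e9e084a1885f8140f714e0c9204b73001391347a957955b9564999ee29704ef6b0c3211429a0f1429e11bd1f3364a5bd180dd7774180676af1d0692b69ba64042d070a3cb368da4ab017a8c7640e957e8ab41a8dad2a12a9fb6a05b4146c319de2dd8b605dcac1105d5a0040dc35a5a980405c82a53c444c955755ce39a0a1f283609ae7956b3ec4c3442972a6c90615450de32092590a63cd959da1a511fe471941164e12609790a74dd4b8ece85883a5f67889c9721d452fc389881d9c4fc5b47f9026a88df228d241e1cb5053e6b473105716f4da03d040f1637f1432181c6c8f413df514a655d82d8b09a5428e36dbf572079604d3f54a4b5f15a1c909db6435489ace010e5c4e57975a8423a4d5cd1ea21e21b80669e3263c656300a31501a9a513085a69860a458766aa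42c199914ae7be8aa7422694588e4b9639e0acd9160e8591a0b23dec4d55a48c4a8bc81a48a2882532e94e77d3f0d91684a1f35e319e86680c855e10c5952c9f1e76ac318f1ba7da1d401c03c0d05f20020aab060f84b90f59ddaa42264ec8d7a5d43b4031195d4989e70c89774b85500e6cdbb466660c21107e5d579f3a042522d02992130b9b8051b188a562903344da10020d250f53641e9d0688cd694c1096d66f4f407744ea9260e9fd20121606d25481a630ae188feaa3f961271289e6ae31cc017c63a94b28b462a705c6598a296a85fc6d7b80b6423632650a89112f59f6a99e2a4792b07b66294a5e9a2ecb5911380820841dd77e62b26e7576dc596451045298f6670bd7a3ac6a57dc22284783e4b0ecdd049b75ed150d095765490a16c1c4f29488845e77024985362a0166e7996e930ce7dd664adbe151516121e3614020e025d09091e874cd22561cd008e3909884d8a07a1af49cb690e933b1d28d4ca06e727f47e099c735682548e70c891870e23500d9f547806160f50e97e248b8617c04e3e45d6a4bea9e8bac4c41ad7e636a93fde32a19c02298a591d64c7532c1665d9219e34a82b208c552f238166891c99b61477ab4af1905e449a2))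 (.leaf (nat_lit 0x8a5d90557dde208eb3e0db32c039bd351511865a4287d3287062a7e436c69c70c281f10854a0b169849c2450e9cc0c879360a77c125514a425969449658e498344d3354b404e7c4bc7f3f98793e114fe291b8d68ea93aa5b40542f4092d8ac7099a6740c4671c48178e58a9e14012b15c85565e05ae44274e13a0f52ac1d9dd4f1e90e6aa4a2d9868385da4a56a7aa475c0c2892250a141d671a0e380d5bf1346c6cd7c811154ec522bda99a65f9d151089dc2215c108b384c38a8df304aa17516d6bce0310848063c885999d8ba69e477182ba586060a08131142f63155d838547b624394713d01962709104c4611a595879b001e8b7b1b814def2457935ce33bd7078ca37959297a586dab0776261054922504904ca6621b19194199174d00b5ba9041d542385998e0d71427a6df96c83c8d881578fa368ea5d5ee231df67e6e8cdc1a75f2864315103e49e4b8b1a883c5b4b84743d500595d6d5235006f1d988849d5036a57d1d20cde22796c398f63895a404837fd9a9e2483529480a091393c25d132ee321149c7a8f72b2b36e41b434a85c5e6171cd8699095c0ea19410114aa109558dfa0d019ac5bd682241b58c964c180c6a2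c1ca09a978a1a29390c5344b315667689b46539a25ad0023d5a19d9d4867f1808bca65187348010aa1cf0daa27dd309eda59a82c970f337cec6ac01a28c867a3e469371a0aa2fdfd1012151ea6740118c2065fa85251f868e4c5cd4e2410a0929872c44ac9d89966b62e5d06279374ed3d1bc07aad5e18e948fb4a87e300b179c563f128ab9ba07e5330d8f980a17a18d952184a42e3f420ab1bb1468d7a6729fd85a0009a04d0338cf2d474aadd60b5242dc7752e1739cc2560f14743f814555f61013c9231e493367e888673c1558b47d23d779451e27d72a313a08e887923f390502a5919557a5200803e825fe875911124cb87ad0b2b5c910db7072b4766251ad3e96a1662aaf6f81a9e8f22ba998024da38783199b8eccc4e00a00a686727356e3421d567d51f2c9d10ddd3052a07da0a17e619196f69a957202a96cee2f2a77b62e364a02e5818d6075301709662692645ed062362376d1b2f9ac0f5c0086917fa20195338dd6164e8f6b8059b0de3252c830580a69a7115312509296270ecdc3a4f99408b5d080580ff129a19b4639f61d459362656a65e40738723489a7c5fb0c167aa87149943))) (.node (nat_lit 62) (.leaf (nat_lit 0xe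00ca280a66b9c6a12ee348a51a596b09405d33a218ec1a97d467be7876c024d286a6c762a0e6934450b46b224492211d84e7e4581761d857444757807655313a95692d787c4b06e1d81c6a92e65107a756092665a3d059a7638d91f62b6c51424c621f89d1a49b8b8b1541e00ad2a99e8d19cc903153975ca5b5f02ba4a30dce470917360d48c04671988fa6149c099893f3cc3a5e9c87d02e2789518c350f5f9316687e0104f9518c9883f0b864866258d8430848f16a170425d17dab05f2d0a99be857fde92f8dc2da5829e992b1e2755e6238e31295768a204f0aaa68757a1d456c4339e4e60d134cd4a0a26a265ab811dca88bc7860693e3a340cc5d9be1cd47061865ee742dd2884a566916945d0470a272fcf40ed12a3cc7159c77ce6d7794d96c0d550413be317c9c95b0fd875fa490e482e05a4c8d65c06678ca5120a9f0c6796602b5f78c0f95f1676c061964da8b06da9e36539f59b99f08d81216aa42919a321c4456b3eddf6d1772caad18277075438219d87da0555fb4e8c191e44a60ab7d95c42474271368898f029a580a7f9b0af0c44857dcf24840165668fd054f43e6e5d99c03437e559a42a4a4c2a746e21c981a0a05d5bd7b85bac52e5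201923c0814d5d79dd34d6870024c110e88d5c647a03151ad0c173384bd40ea0999cb4b4fa68c0f21a8b4610227e9f178b3aba3713cd5516760705a080a25c65a36d4b4ac213fc6ca9907a420042c83704a3855b686d1b352803a5906b93b0b079376467907c75851584d3768a46de734c01f1bc1b162193f8f16998d08915250d2806a8422451de911e960740a6924eb645b3a069762403141d7406570ccde922af495bf824cf64e0c48a92004647494ca71700f21a3c8e2861ac8e0271fd529700e1ca6553c1185a2f3e0575b9c0850cd31080049a93de17710658e4cb950f658a884bdc59794968594a287804de370e110fe333ba102292022d21839996699b346793947b099386c95aa903894e2a40295899cc628ec4de7da0e64a783602dfda3a252090da8e2313a410e5dd5e6639e9406e92cacc5201672a516f3b44b7ad587aaab294f0a11af6a97e62d8035ca10950ea956325dfe358b515506136403227b50584ad1426ed7f631a843e242061e26910a25ed6d46a7f1642e83794a2d300700502f091ec56490a09394c84690e073d572a5a0f6f11fac88c056425a04c)) (.leaf (nat_lit 0x2695fd521e60a3b0c8348611310b950db8adf312dc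d9153d64824079af6b965462881152056eb04103016d87620a32919d4e4f03be35279ba764703e0ff2fc39016814ea82288a15142b96cd77e058249e281d5e13495884548e66b524181d8e779d1e1748796908445107ad24682619c848a5925ab96c43563145197f12b4b07c55a9350662634df17e242c5fe8f8024d59976cf784a341ce9fa82a16fdd63ac691aa7b535cb958801fcb52d9509d46819c8f920ae6e6a45e1771b03c021949fa3b811ed7b82904c8c2a5d2395aa9dc0c888647fdc18aa514295f2b472850f5a1d9a4d1be27cbb5d10240c526cdfb3aa05790b4206557bda79b8354396b55527a52630594b9e61c591a65088d23a1d315f28945e414b80be03194ce939d32a0a7521a3346011892a036762b24373e97aa6aa9d12f03e2c0b906730b0919ea87e1e405008c0fc00c040ed79a9a9c5711f14e8a4594a4b81709ce1ac5389f1961c57c6d8be6f09c1ade077de13ba08075535fa532e4830d9675a0771e1c7370ca326600999053d479b0cb330e2712107a0e65a969722b39926548e91561dd77a2f76a328c5934f27f67229169f66325c0a8946c24044c4611cba36057740912ae786a5285f5158012d690122a88b930cf882028ea278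a2a73f83a9f4066557b3f6a36de9ea74d63560d2bc7d1f81067e730566f53257728b27947b3a5d534cd4281dc844bc8cdbd4d801a15335da13180de7c1b231a3d8184978e499e98f7f51b0240a92d265b6ad0cd59129224c13e08c2dad1079605013ce81d60e2ddc521866598cd6ac2806a441e9ce904c724c2c5118a62438166844ecc3309b83e97a8d8f13c86f1b8f46ecc03059701d371703297a5f6b68948444a6820096388de597d6922415782db188d12211c0949809a01b02e993b5149091c4750c7de5d62d436d5b467a808661a3e6157618160a0c56a8ea3570426b271a4f221c37a60f1d0196166a518982649b26951644e3391f4154da0dc85a3e90582095501c99c6d2761885e83662160fa2d8b9869c5a10c572abd5da6c432263c45d314c8f3aa0421043da94fb7b2477e9f907c1115971366987456e5bc4e18c0e4a5a8999d49348a9c01468973941c2381ac340968fcc4899f13758e08540694a5298226113f46a8b5890f0d2acaadd7a54822cdc960d4e9b68c25d6186e4a799752f43f102a23d99ba1800)))))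
 (.node (nat_lit 66) (.node (nat_lit 64) (.leaf (nat_lit 0x13c740437e41a428c86d6729cd29975a3a346b78808914b5a29a850da067e60388938c01c80a0f731376718762220886418049b2684a752089dd653e0784c8e593d1503c244b92d660afa5c65602b28e23605c129d1924c17870837525ba3f5f40a80b67a802783b5cd727ad245c471334217ca3d6fd4d86cea236854d26298c0a40defab5832eea217d8d52d36668029292534e6f5adb32813f695a65090e95c481257684cf758c801fcd5359ac341b16c11c921e76e6a4aaaa939e9c415e044ab071691a4aa83cdda45e5841a8422d58889510c0993057d4a0130a49f5b66d79926925410fe242ca8ba308e29933959db4667b20562584df728358714c40a3f7c18414a115d1d63acdeab815059d7a54c66385e734929f9c485c4c03a5945a39168846d03253cee5648a0a0fe7da5214c5433ca399e8e8a83901de9919ea108412fcbe5518b7b5eea6d932ad0980c1b5dc953814a5a8f1a98a9842008c41e598566d931829d23997a5e635430188344473e5c5ecda719675a2439126b6906f1b8706aa886ac590e181608aa5723c0adf3288a19b1478ae2c48c039308f241539e21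a865df04513900c0ad17e1da982b991a745b219104457c198d97de3709c8ca0cec738880c569214f2461d90304d4bdc3abc791e8ac1de9a8ca5008c55632a36dc6819d3e4f5217a16e5be685c0ce145cb849643da79468099550d81606100d42c6256c94092c01791e32d16c182a1310a5a5999770227edfc5d4bd4d687258977fa3e539be0ce4d78522290b699a295203a270d2345f53f23a2455d9fe189846118aa76f0ff7ea51170c7640b065c74225c8acc26041c1701b83e99412e0757a5f979608242d0b81f411ff67539324ca190940762f41d456a4b82dc9d1b4044751e47e9e88c2f36c9896dd14ee0b55e5442c87175dd7792a5fe991d5961404f909149f27d3e47d9d83d0f92093a65991ae0f1469a8e3a055b0b23b3edbb87836160c230e90a3dada24050186c2e5a271cdc3bcf0050191160c4e8e874cd835c250807e3318954a1f9c4574e04683a044222e8b6b1385004055f2b586614cba958a7b2478a227512692e9af686537e21585a755415a3b6826565a035d89c0f420c47390a72a0631387b66e9463cc5a80bc1a6ac376338d06a4b2aba19553a61d0d1bda7d0f7c4829e8f54ae14725561f293755fd46cb3898721cda79b92779400))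 (.node (nat_lit 65) (.leaf (nat_lit 0x2012a67989d0f20d821a2457a8fc8c23b555528aa501fd832551f931dc76d10835902d1f70c12919649495dd778411099a4d8c3308916921b468a182047405a12d6877cd07912439086c56c4876a672e1947be557ad247e8a055c8b3f9a55b53b94a5149de5632775a9690d08298e1a1840372eafa940d755bea342403c2108806362ab3cc15a68fa6b01b02c1107c02accda6d0293b29ea301706019050deab8d5358e874db93aa883360581863139a067d6e181372b55f25c9651e6c5c42e4cd592c0982666f5062621d96655156389c4be485d07c3322d3ee567ca8b3b827720dbac81334dcfa5cef3c28ea4823ab5c03802ca24e9a4dbca9cd07580c35eb172416348e539aa16fdbb3d007022a23da96071ab198c178caf0fe73431972182f1147519d7691a102758d7c67c0d8582348e134be79d560f98993d39178332408f619857fa3e8ae2c9addf312840c5f627d9282cff5a13f9b57f4a935156582894a81d00875a251a5f979932150d0f27a2a22f595436a260984b92e9178f04b12a194849318844232378e1809705d94d3a1e077462034ad2c20504670791e9fd46d2e4b42d7d685664cb9a5d8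5395c1ad2326a122ed725cd66126660dcb77c18f4520e29cbd5d5671d9402222542a747e4ae56215858c511a6a158b6419498fd5e2ae1885d0340a814e0a3291e89884c346a8748eb6e02a38405ab0dd731cd351b5739d0a7412ad001718d9a64ed6b4f9a52913dc1e70404709c339e9c04026a3e90716b003aa43399d8a4802fd844783d812766293e4f53c5b05b3025d790404467253e6e69e7d8a05784d814886d9054c52daa9a1097d06a1a4ac829e024961589e278564872709c6595c13449a4b31cc8545917e0b3a0a4e480ca3258b551055be7e9fc9b4c2115107b8b8aa8003a0e45a210bc851314c8fd7655d536405e17766e868c63282587465795ea8067a348cca59e2024585379a5b9505c5ada68888a10c721ce6599064251ed7b9531c23a6a54513c5095d0e9ec3b7fd4868c5214508969881bdfb7f2238d8899297b4a032a0cb22c55a8307d1f9633191d4706e5823d0d45f87e1e935e91c4a68e4590e220885ec91c9e83d134499842e248d5421d17c1517d5f9509d5ae080f5076953e29b6c0f26eaa9aa9b1028f1094e36f5d733ea36d8df72a8a0adb7025d4a98e46be9fa81c438a98745b26cc1a0a0dc71c00)) (.leaf (nat_lit 0x1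002d5491cd0b4a0f93802260613460849a5742e18f8beb2051b58248c8820d790754788f555d7a6ce420987668d787c7e7f4b3a3e743fd6d3880a3e10c4a4401fd3d2fa9657c6a6f9c10b217155a18d96b9d40d8d4ca048f0acd8e8b9739846c7c1b7179125140753a8005d997947682c492a1243b0ed3b9231f0aa7b81c4c58976e29082a6729a730430845c65897c0c9a6a9dcb078a141a5e52aa518c925911f334af190316961638c8845eae31df5148163e8e16159b096819d995735d6a6a0f261cf7f0485a8d80a9bf5706d7c5828c2286357620e68508a26c8ab11d3539ce9010784813796dc3225dd9c865a801d6c4c36923e0b6a2940355ea3a716a435a5127d67768199c525270aca7490765a80de422f543450394bccb3f54d141f88c4db10e4a6624457a87814779fa79162949c17025a6517e025fe525a04a565b95458402d905226baa69f6c0b9408614206f318dd3ccd00fd3e5066f21e38630ba13011ab1ac7a5e21b9ea8427d236459f298744009a8b1918ef968bc174fbaad039dc93434a73d5ec0fa993094f2d0664b8299b6660427b9583a331dcac0415c5ba7d9799923916e93a44035688aa0e4e8199c08d078205646946410c94acb2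151504b0533dca667a4d22e84561e14cc797820474e2d26972851ff1643c59a5555e8509c9b7dcd38b113200096b9b64853812ceb018e62c13a4989ea311c89c6752dc76cc1a0da416a99fa389d68e3d5e01b34aa19896928e25a42264e65c4f0154d98886a3c0d0f233cdf108c4424c04402f74a8254826a21bb4fdf98567825234ac451966ad6b40f5bc4e62df38765f0a2015ed1973899574d19220e651eb2928a2dc954396136944454bb0066c64d924c80e1c21e7b5ab79e1c245faa564965c458ce5488d7e18203681c2a3421550c5404463720c43dd515c683f14c7c9b821619ad2323218094e73031836442b98dfb1f5777f805730e5a191d581961124b354a07a2aa3f96c1c64f3d91b51c2ea488190cb61d2af888725f69e8286b78d757519d9315613e2195c3b8005a84a8b365b425d2a9ea67500134b53054cce378f40f6476f55b7787b00a97741e65ba9c17207962896f0249fe1b619f41358a8a9119b8864590a3c53b49cae020e83a9342b47a58ea8294698addf6bdc4a8e3b0ccbf8dc1f976406a4383501872165981ef189c9760a94148e701228923f861a2))))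
 (.node (nat_lit 68) (.node (nat_lit 67) (.leaf (nat_lit 0x362d6836e5a75821c1ace30d0ed30c0193dee931178d1210523916d7680c5a654df3169296d90125770ba675001665dde1ed062ad614a89e4f8ef188ba202b3352772fa96159d18fe450b1f7021f03ede28dcbf0ce4074d651013421d73840f768546174bc49daf918b17846f1a4f382e9b4b4cc1d2135299b7142f5d1489adfc775eb0811592d0b960039a2957e97ca354c149a86eeaa2cc2d3b97a3ad0e2541d98a3136db21e18b0897f63eae31c67a9cd74ca25349232da430e5e4946574260aa793a624485a96e71d9c5f8e71ca5f56da31988ca2a118ea3c0c68f53d781b61d5f5a56e05055552a09db7a20204d1f8cd189381a97aa294207a95421f1916c1cd3103b354c837925270059ba48345cb15d985a43e74276a304a2056f4dd4b2bc6478c2690a443f021019f67d1b498c2b9c0442ecf68386522136ac4cb6b47343e0c7e5d7071319e8c0358532a66a711995ca141d8d00fce2598098ba389690c7bd1307de01e56b7a86e984ea2c9c19f1a91a958186805380a6311217a36324a64f493436908993f50d71104475ed8d82107732004f015039fb49180674c2a66ad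1dc4d991b5824b7a1830a248a525a4575bf7b4294b95f26db7a12ab0e08d861504b0b91b1030624d4150400017811e96b13304a5d0f0c63762b1649a506a32b9c02391a85dd8724114a66f2b5b6ac9388a863815a060dcf2916d4be787c9f57e02a3fa3e402410927fa2d1d8a2af4d4a0615d2334bd114e129cf546c7d0427b948f2754a260588338758849fa6a9f9b0aaa848970e4a4041e7b00b7f91c4462f5a051965ba564975349185a223a582550702d11973a54819d92405f36a2949883a4d6424a7465144a9896211109cc0c3ea56805e608c85864f91396271a9787ca36c4996f55c61a20399c20ca870a11ea20d986d845461a0dc68579a689d206ade751c02065dc45993648b0a92941603a970e4854ac9b44fa449d4a1965c1ca7681b9c8a16cd6c1c66999539ad08223cfda04253b23d7cdf10109883ce010d75752b02e086394427596799a0d3d28e11a7903cffaa58766aa02a05ca70cf9c6123c50a88e301f9fd8ca494521e361534c0353055a6f1aa67cdc1827e5e58a12c94a755694e470f6a851557156249f58e6b87a58d3b981e57fddf01d08955228d40d9d6ac8b4caa612b1fd9e720f02944c3e22c34d0222c27a163b3a1be151a2))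 (.leaf (nat_lit 0x29c3f6722b22384993729f39606d274497e5ba244f696c44609198f56c2d280414807458c184a62f81805d3d4f9775e25442d4d9edeb289a58b0078926022cf86f87a7fd133cea8691e60e6ad4c83031e090301b64a7410523a20997318d21687945f688620290a304c292544d7b59d71894770ec0d6b49f87167de747a19869c07dd9959a172ba6f342454885414cbd076076445274a8d0ed25792ae379bfa8510444b62d5fe6e489228e3391ec91e0c56a5336058559554824ea05388cc63548451d4050187c1ee424aa9f3d45d96aab1b1af518695422e3ecad57c9e9b1e30ad682ac513f29a399097d1a0a2d1f76d8b73cdb9427f67028069ac1bdea430384ce180260b55ddf780b72e180972a76f2a44c0432fcc904904acc339dd0324c62935e937c88419d925d908881c2ed7492d26605b87f1fa978f2a89155f52801003a4a91564b04d99a284cf9b535aaa5292142335cd8c54c52c21088794a640021725ac768fdb66de388dd605d80b928d61ad319645b219da8be7854db26cd7a5e539180d9ac98561aa53e4b38997f11dbd30cc29e98f6b68935e8620cdc71e1e87e659904ea658962a753a22d4227dab1ae795a29a82c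035f572c2f84cc80a8d59ac9c0e9d4a6e3226279aa437429a6109ab338af8351a986a3974f7449738acb22c48d23a05818ee741e8484817b8da029655606e50646165c14d2856394e8c15139547a3a4959d7557a080c85c93c5f4de8c1c24c5506473a975a9694b92d8956d806414be3e1d2002497e3e88c7ee5f122a63c5705c502a604c328a509dc86787f178d434c0e82a110c59441c9639e7353d4868c5a21065198160568a4913f5003d0f8820d019050ed8d2768a2276ecf446dfd11914a81a79b8cb331014019b7e0570d9270f1a174c6a7627c21cdd726142f1178f16f5b9b46d69e1de3a7ca56344d2529495915d08e368d5a9514c658c554ee554357b571626c64350e574f1c23806819c1107c9a26c400fe84389ef80d1898e628a62a1e183808fe3fdc5ac2686aa0f3040f091970b9c32a8265864427e67999876211d4729575d98a0cc08701e785e2840a93aa96710567c0010089023c4a12d84a75168e4a06c1a80b50eabc105f0c486dd63ac7d38682141dd75420874a756e90a3cc585a0eac50f655de9c0e9a4c721ce7113e94854252a1f11f9964e9449a63b810f03bd2b4b0ba2e400))) (.node (nat_lit 69) (.leaf (nat_lit 0x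20d214cd72a1f1d03da9d748481107dc123da58ddf10a86c3067f6705c0c917059222a92a1fc734c4f86d848124e3390b45b0fc8c2745cdd5a42052197b0eea0959fa79d1f5066f49d1508cf32913a324de50da8a28cf89d9124ddc00dd8752782c6245bd6e88e22a91b9208340863b7d88135a0e7b2548e5681edc370a7c9f49a8958a2e9cc9e69613a72642348cc8c6aaaba2584561ed0964044cf46ee57438771e0d2345393dc390e807022755418e538b31a0e62809f386b1462036b85f96c6d2755555aaaaa64e039ef7c198850f104105926626b05820dcbab420799129a16a725832120b2b8bd5d47c4f4e0355292a10b029168e9b83e8632e2735b69c625cd2618d52e358d9816081d0ae6e69dbe8586b4c979a8c1594dea5fe8e2005eac1c56f284844374b288879a92284380641300f64dc9032d4043d2102c0c298a5018055367b5518b5c84da5153140b2544eb184043f8fb8b465199f90364c81a6016c9e67a9f3d44b12aae116668025003ca384d96a083816580972649959464e049225194a20885bfa84312201c44655a4a918bdda1909419e777490c7dcbe2fc8e234355757d4a0d02c0572f0713c904451257926951176aa1951d4ca99e4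f7941e0915a830ff76e2e13e9b5add68a0621327a63e805f1bd0b1f247a61a3c300bcd73603f102102a5c4389230890a264b9530b73a94f39c9b54a76764fd169ad55e4a7b9ff5a444ab0dd4f197026478093e59eaf9746029d5b86a195996521c5d7a64d8559d271e88e01ba883c9f8cc7026d4fdb06c68d570335e8726ddf88f245919a067d4537c894ec3e2ed2b2bcce6ae4b498e874d0240c5414c9564a933a4c7321247acf9a960f6bd7e4c12f69942a053844120435d7a56298a9de7758c898e5a6a42099e3566630d870a0dbaa987622dd03b901400511486a524ec319633bcf015855051fe41a5f97a8666c2904c46acd6286e437f4126d4a166564ad1a19a9b36c9f59668ba31785ddc89b161a61d18b22b77de052970a5d2d4b94868d35a1e3e789f341cdb2494646d0905ca2309344cc7d1f842104ac828dc71de1066581b86f8fd1a57cad51c47310010098861e709c5711a5cf738c36d2852461c689f49102706209580799adc6351858225a069fb7f29ea74284763d6921d365860b55e81e178602e34cab47108464c51e8daac99a4d8eda6497258b52da328c400)) (.leaf (nat_lit 0x195984228b62312e9f940666fe957e8cd1cd734f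c06682450f9b14909da391273616709668d2726127d9d5f726d083c0c5404ed30c174b94a9ed7f4de0d7c4f88f1d32ee395a848174e7808204a58d1390e5606132a356e65624d76a6c3067a5c03e7e87cd710970289b21bde1520019a80e989500d69145076880e1115f66e95d412a16312fa0dcb31e2f37e94162261c1eb9389f6b26901da66a89c494ec8f507820c4ac93661428a1c059b83d91c72a25e61acd5595c460d9173200aa10a13e223f24f3da604ec85756370e0dc86ddf46e975dcad961b45812d04d459b59f2d2466c121a21727a4b91b08c70e33075909f0607fe1520a0542eae3ec4a840f5196784e821551797589187055a60519659b0494954593035155ec34389db1d6b13ca52a8853572840558b8c08f729da0d8e97b0d1895ad2de4d69d3d9a1429243a7f1cf579f3719620a6704d539096793e86382cbd21e3a844495a60484c5b63e800795aa904c55e36324952bdb70c9175d0115359c08cd887971105b3285e21ba6c68d46685534c0de320a941457444bf7a0a06a4085b07178daf8a881a48448842b98cf11a1563d207a7897366321e9fb8602e7fa86618264e17e190f97c0882f1d20bcffaa61480ce6a058e4a2a55650d6d9c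1234b02525546031a694e0425b52c7c7768c472442d62c34da49ac006240a60aab1e16829c997b8aa0de1a47a2810266994042c6902916d9296f1fcc13908940ccc02d324b02c3cca657c6a71c477f47e4cd8897e6f50c03920b228e8a47c3f341ae795c5228cb6481b4ae01178e390867a9cfdab1673de0e7b53c9d981661102123136e1746a9d2b0146665e06a73032400ceaf1d1bc296536f55b6598a761c916a193a922890ce9314099d275b83b92e3f1f5d0828697d2b411963720184d02a53c8044c4338254269bb2a2a054a823762e3adf91656b7a9e76ada86943ca3526279d130a3e7d4ef82564402b331a8509e645128f2ce274806d792294088b4c41c3005f432a655477ab49883c099ddd720cbea5a1d36879a65190b65a2ac964258766997059d9241be152935ea3833cb85053e48cd20e4ba35a415f2b07727465251818507e106149b558492781ce159783b8199c5809e8247ca0c189d48ec86396aa3f8e8172124a81f9fd0f136a37bc8e702576e0aea717545a5d6754c5f5de1ed1da2cb690cd48ac0251da2))))))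
noncomputable def cR_5 : Tr ℕ := (.node (nat_lit 77) (.node (nat_lit 73) (.node (nat_lit 71) (.leaf (nat_lit 0x382f1ff56a4a1d28a728f23c58861ca18750732df20e9cc3ae9a74a5d4a4905591e2e903185b5a30d93699f681915466b6900d0b1eb120a86b6a709085451a82c044a09951a8693bdc804877939378a4956295220834360d202c6677a72860566866a1ec7ca55d758cc643a5742e225fa0d65d253401fab05a51174844b62d5775223daa41d6f4539d4b28915d83d66985efa4804a4c4261961588c732063138dbad1e84863b4f45e2016a5a43e0f505410023b5cf828ac1748776a2f086a53817b5f04f1411c4740a6bdb66dd8e268fb4d64357a6e3003016db83e9854261b9803c7c003a70e9a51f894e69800bb4f075924113cdc9aad01401508d56b68c7d4642b6c2a03d6477b04a12d6e5be9da793e2fc7fa2c14719554e64c4098c24c624620337c25a9a146a51379a8310c898ca3175805398c5979f39592f1ac9c7dd0c701c126099308c31259429c558fd46345bf06ddd2d2736424848c8c499966f2ad07a425d543999e077c4d76e76accd3061208159c9fd178f220884e33906e1be231cd7d96d9ba19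4269a7b535ae38aa34b12b98e6261183a65d03b27a63d9a4d9419bcf9a35c3abcc14442f26d738b64411e078201505a061e27e7722a624d43c01709e198696c1954f46a1768aa135c2a0315c2a8bd0de6792d594e9cba240f08e2c8ae5a4209e0edd4a6c72951286c6aaa7e36150b11f9787edfc4c53239e91755f4104c41b1659550d97180aa1ac3751521212114af791e3529490a413a05385518b2fa040cd3033039019cd3965f289069603f102772e44c065b4ac99d23d1f79c81181988308a080cf6e9451664044852145fe8f8f76fa262cd934920e56e378e0b72e09124a8e089c2764fd8256017032710093e25093cca324a428cee0069773846a1cab441a72197253a2e762b1386255b5fd46cf6a88a99f1ea294a68ce346c9b35ea658e5648710f7c6963a9674aa527da019a0361d93b560f40428833497259d33a2597d49d1b57f27d0aa3e903f8ff0b42e9f48e914dc71de993464252640d60245826379ab6aa1320e84794ae55d715c1539e02806a806785f5e63a6058201c084b52e281689466c51c0e071929d08d841229192722e0bab9bb339769045815e719c0fc89d8d57c794d0317e66d502b0715fa8593f8a06852c7a78933664d5359e12b68585488694678c14c9e5b9a90711c1ee7b61f879d1a6000))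 (.node (nat_lit 72) (.leaf (nat_lit 0x16e1197d4aa008aa409747a77d9d6000aab296a4db20868c3adca12df975d59995099689b82c674199f698527d40e4caa93fced30e3585e7c68e502aa101526a260a77b55c2655d70ce7068296ace133c14749746641776c9f844bd66a34a16141017280d763a23b04d2dabc7461844459e4534820d562498c51818d5f9ff1fdb8a78f4aa008a8c053c5b47d0686f05691a759c9690b61f545eb2919364aae31ce90d8099dc845496837d4ea005f302490e97c27537920d153c2a15698070ec6c45a446432d9534c22b982370e1f1819429bc6a954514fd556ec0669d844656d2c48d4ac4989a3e5e0702d291a3423098db391c6080d68a5290450a1356082a6794da92b4622ba5881eab3ec1665db32868210a2f2ac636aa6994a097dd4524d0d9b66607daf720dca4824730d93543b8cab45e93a76a2d1b8be28a30a0d8223cfd0766273dfca3cb34696b4b087599e9486710c187478cb1d628938f5005bfa8aa0a85be3dc0051a0ea7e708802f0c920529e7220cc8ccbc1769c171c4594ce932217a086394858658a65a223f13b760bf9ec10795ae312b2a39c707a452c87e7f56a1223d1f22549143251f8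952089a15f4304c3e2a6945174b845230b880a272265e4d5031da88a6eb1388276b019714e68e88a70853411a19b20f198a8691ee1966b521d45d6891c8184d0a0a1a121a4a57be579b897501f25584f8310fa401b3b9ce35db0705d10367d30a994e0c12786d4059c8c439855142e83c72c7834e2ca55fa5c11012a2320d546251c59de2630598e12f9e0073bdb6a96a7010f26e5b525a563ea1b9ea4b49c3358c817994c9fc6b78c0b640d248cd8879ea329500b1ec0f8c98da74651dd4c4a315dd5320de4768b724d43a98f5fe1c2448044c479065b52c9a4f5578365914107569a000ea42c284984415c5d9240b51dd817ee9798c2b239c0032aa740954390b815a8694a6505f0185005ee7e6786c7809c4e61638c25a04642bd449915e7cd3e421584f0158b8dd5e5d6ab69408a3f8607b7796c1c4fe0f5777fa5c24a428056f4a0b944879acdcd4551b1f62448983646479cc2e138f92b29d7d9ba3c0f36dd959da1a0dc6f784589118b6605e638c6591250d24a8767903cda586131ce8766ddc2ed024cc3f935884d81274cd06b4e00a2b0a2a9a16d1f334b7616398108b5cc434625f524318f00251cf693dbd56d052a5a2)) (.leaf (nat_lit 0x1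cd4ae5213c8103274819139026b6927872ca71348e218b969a88339f5965dd84cf8020721adda3dd95658f03be90a3c372165d4a670469c61988f0d987accab74d6a96d7e49a4b1905d08ced4b9f38a4cf7aa46ab8de2681c10d714726a54642708e0611832809f669366fea13f9b89fd01a75998d5385d0fc2fdbd3d46c0f1d14256162dfaab16e91d40694880c54957e3d8a1b04969c601ef9544b129e2786537e115800671d45e2015a8318160856156267a666a9dbc5f17b284a2770c0a99044164e480280694d361582b96c6be4c63cb08e4520b42705e2288e5c87d0d2b6b47edb14f64978c53150be65ea0a79774d2816e6118480400dec3413f7d18686df983cdd7244e18e75540b52da92a44450747f6f97aa09764e5b61cca30e8398c632814e17fd2c881f61807602c1b8b22b50a48336ad8e0a8234250c05b3b9d07529b5c973264988fd6036514299c3038822251da2da2684e339169959282400920dc846e07578b82de8a69e4521c4903d2d58e5841d8c9dcfd76405019e077cfa8527e4dc6a1a5d63ad6d894d780e0b258975398ea55d79368e50c0100a348cd0240cc19f1ba3c42e118186ba6847d597063a808eaa58c6a65069ba2a48848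2501e090aa5728c5c14629591abc3426c8a1d1f7431fd622087c8e85f40a1945815e64994c230e844ec3b278bc3fd9c57554aadac5be6d61698311620441f4fa277921e39df036d4a7f1192105aa92362ed3c8c29f5e100a15331c07159566716b068d480ac680cc202542f48cba6ae3754d5b83a1d314a401c9c5e62f4e99d77aa36dd35a1c8b1402aac59244a217310a945b26cc210890f7c64a79a099c4daac9bb3d06f1b9936527d76cf2515a9244925a1674627b55e5093c190523c45e8d2cda899dc09e91611c51049aa2d11e79d304bc3f100bd5d68666e83868fb05815795277fa3e3257fa683517e6298cd434e0138a7264032098612a51162a5e421cfa5e6f506439102c0350b951c455a73862172746da94f9864f6760dc71c771e1a067d2a95ce539a5a591ce0407c1311072a76549ada24d134a0a2b0590e10e329d2330cb51e6c230445564153d9ea01b46d43e0f6a26622d8b8df841898725f3b07b1706224d247acd57a224985ed3a60d8114b9e47a1e63baa94c486692c5ee31e94a4c7d1f8c8981d5aa4af635443596b2c8130a4f3aa1324c6158584210400))))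
 (.node (nat_lit 75) (.node (nat_lit 74) (.leaf (nat_lit 0x7c721a8614a0749bb6447f0cc2108877361406083ca5cf79c08616c0e07044ac1a1974a33a69e5385820c1f045dd779f894de549cb8840bb4c2994362b8581b3d887479e7701c14adcd94a282f427a942d49649ab8de970ea418b48640f6d45a91922386b10fc402c1599d192125aa761730a60e244ff376a4499899da91a496e05958239da719bc7859053ce874cb30420711502abcf09214c635d63acc03066f504312226143c3a1ae7d9f06313a1d3163c195346693626c9a5a56a4684d655396749625d66595f91a99c9f91ba344c8ed3533405328c4584d434d230dd4b098be821039b0e070d7f4aa4b1555204e1329cfe682acaae63989e220a73054c32ba2f510d9aca5e97ea16fd715c08f241f174039639eb15dc576da2291f5756948956d5464317ab33f26627d05398e52e8b99c5210c0d77826d1b256738ec2d4b66e0fa1e87960d842a419844849ea45a583d41e1a2b41e0908b1d85d5264c3b49d7be158180c02c4b1282e631e4730427d975570170484611cf3aa12e4b6298aa6836e2d8b802006378e111440693493701c08456008f9fe199ad6640400e0346201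9049535682658c95a21ba393c18a87260cea2242450aa89c189dcf978c414b10a9453e4f55f5b02363db47a83e601f39626b692058b02a52aa247c6d4be557c1a79ba1885c811829c39eb4120fb9a48d36834a9e723096f82d579424f51c75708853be792fe262ad5e7d10967c92724566e58a5d97256ca8431f7405004824e0b00d3ba60271f2605cf7a1be0bddf1e1a54fd56556594a6934929d0d9dc2326a518ac8290461a9a910f4202301ed4399e0d2bca22858b551cbab4142de125d19365164871ac340d68fd3aa053832ccca428f345fa9fd3ba10c831e8ba328945d33a1499811ab59c06589977f46124c671a03b27aaaaa4a52985c9369f1cc7271cdc56a0c0d51ca986e1bcdf72a0f5747e799b7a8e954217d522331d17a082242c94d9ecbc850e438e649964a54db65f17ba61d1509a67a5876f5775e1d4a6da95151d9d4f26e825824b1968704a2343888a10c590e1d93f40a025ed7b95017cf18da350a01a9510b9e07d3e2318c81d0ad0e95d880caa03d5c468c89581795ac7175d7e96e477b1b2141ff1519b809986b9fc464c658daf1923d13d3244e8633e398ea2288e8a14d16252837ed316ce4044a1f8799ea01b06c4521462088400))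 (.leaf (nat_lit 0x8c1b461831658a92595a3432d489ad077764d870b2555859d137079d515e903cab302c1106aaaa25b4581faa5667502015ecbc174fb911ed6f68b3a81c04803345c7a68bb47ccd4f278685592e5781d04d0b9772550e10478164c5299747d51e90a1660d91a311ca7a0a05d9926c700c12e6a150586145b4a2210652a8a07a0d7735ac0ac08092a2a4cdf5a23136de646def2be173328268d82086a518dec0f8485a8a94154e69e87525ba7daae31c1f9745e124967787b2655d2c6464fa705f936622432d95f1aa049512428e99715b600409089cf3e4d68a5f26e1a4a11541f4441891a79233384e2599108b9ee6954d4b08719ca47ac692b4831bc4a455067a5a961a7f5f5ea5acc837a51a98736b4060a8281c83325e5280de04a66452935412103e9d1ac68d3b5b7712973543b6300a6513d96c7c17c3f9163c7e1bb3522b8150b675804849f2d57a57288704e372e9fa58f3349d20bd34060472685b474fc8dd3363d429a2363265749dfe4bd979a86c2282d8f83c2e8204e2ad1dcce930b4876113997c9053f50d1116a06312250166e39c3275df95a628824bda6e00730363a414074236704e1d89e76e4a436774e98162e3f8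61c26e4ee6beaf74016054005188970d2340602234520d20e5c4be8e27a4a97f4c5a0432488e62256cbf0e259145c02380e4c8f529d007de3aa1a63531e19422f2ae1f5c84045c880e4641166154a838856e2baa373919a9cda6c0dd6caa1098290b27c2069220113864854621353e8097c31244509bd9b52cc082173340f693d446425e900fe7d176898c61e5d9241fb43e4b1589c1d4c3881587c1959da5a3bd627192d04cebaadbf1986e7896424a5881e625058d761c92de8a9ec10ac9d36c4f714c0c9ce8f2ce4e449096d5899b19840dfc4996f30a0b24de31adf156a604ec3a9249d1f84c9c81b151be3fea93c69c720cf2e2ac8b5bc1a19a9b52b036245d5562605812d925167e9e55e7ccd986cf0421b3286664e6752520d4088b629967f5dc9552089d9e6388f3f45c0f47a58c070640f752b43d29434dca76a1e36037869ff1fe6999647429df759793a23ba4460971879f54700855a623d3b2b0a38f855e2c83d679c5934a23248a5313cc10d42709404a75ab390dcaa0e5458a8a80a55b212a05516a9e78d51420970108ca2b2151c44621984a15a667e238c2a42c1ae794e010d534c1a2))) (.node (nat_lit 76) (.leaf (nat_lit 0x1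c015d6e5181a97e361b6a778094a3a4b3a9563aca69259b6659a64e4d1218651c184421e26aa63fc6ca95c77e11b6bd6d7dea22f8194b9480a9299a4a46ddda1f62b3648644a885cce10c0ef8c441900c81363f6999283523735394ca827515b7a1cca6c79265b228e130314cab4602ca992b1e2490e482d5d79dd3556860159f08d81380328a22313a415a83b8605e2ceae1a9fc590099893f048f1848c9a2a6a625c1425b8760716f100852af7bda0539fd588523e978601918f0d10c4b8388405ec69a248041e680b1289b6844e1942b51da5de97495c7860f23c119954f176b09406159db026cfea795e74447a46451dd208408a495349fccc8e8d06a17f630db5c65a35cf40f483aac67318289bdbd28175a746e3093007e73450936c518159c540ea02f5c95b1f2505849ed3d45496671980124381c4639e4e10cec39a46772a486d1672970075439ddd57988e8169323535a1c004e8a8a5085aa90a0a66b9c43977579108c78e23713cd52e837948f30e97a3dc226925d04e04141b6272a92e651aca2621dbf1bdfb18a644be7203e66284fd172b4808666b1668fa2e3d5a960c35376560b5ea568789f27e00ca9a70742b91f820f885a2f8ecce8862c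964da2c58d02d3101d957407a5820e22d21824762bc735d9be2050f8902152d2b0968f316153c153981ab7feb17b85b37e550d16134c5169d8e059a32fcf6151ad80c0d5525b155062d459864fc4709173959241eca68752aa950093b5282642c88a34646d17777ce31295765c0667a4c110e891c453b519a321ca84bb8d2639e9405f5f31fd459d81c8b4c01c1c87d02e710d245df070cbc404d48881e9d5820558a688cf328c18d4369516fa2d1143a295d1ba9b18809d051695005217279f96b969804a51ede37944975e8500536a008c49a39311b976d2a9b90d89482a60b09f681488e52495f73c5f2dc9f6d497801510413e5358b6a97e5f2303e658370b693d6814d631a2ac16102275496865e0ad2d195fa0f9bb430843620c49e44a59374cc7c759e4226538a83861d8505e1a3c83c30e4287e834f292828ab4784b7ad58a7cfb7f9652d2b354a5c039d928a67090cb18d0470a27422110fe3395c333798f029a56404c8f4cd262209e01b511f51f9c67d86ba8df172d6b6ce1d46a795092c9c1de1ca74984207b5720be9044c9535aa88ca4a3ba06920e929c0867596)) (.leaf (nat_lit 0x979b6a2395691ba2a389976047c6b4228fe4a8e1e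806dee429f56b06a77440a561b5e18c1127e2d5c05807357d05a2d112a51d168cc0f0ed718854c94456cf0882600e5c36418d5b855708e85fe1f9ce8a249f7785bf678315c4c26b989a9e08151706f163235099a40d36a3a055027ed8538c3d17d6d4d0b024db8799ed1e15a51863201ca2d0d112987639c81c5d845014009f0438fc069ea5899c05e759c4e62c4967360da8e6b4f12d07c339320c46d04418032bc6d1829da3cbc36cb80e0fd260019e22e3a539aa85b91591868d0a70a296c69a7d550f9597153e2b1ba3605d4e089a3617230b63a9ce4bd658a0363709b83e67032512ed7a339926547d2e4429769b19d945093f078477e16a935e376c09a5a1c280654f4f162c43860d5874878fa490280f462447a41c7e8aa9e80584a7b1243b3b1666d09a99928a805845e057cdab07529385962e91304dda922408bdf143c009d8ab449471915888a91979c92cc82878cf304c023db0a926c82d9b37434938fea483788db22420eaac946e4ae1ae4235deb5910d22a0a19aa69a93a59dbe37c41a207a9d215421b77913503a3508e43320839f5c734e111215d6d5434cc62a5ca713cef6cd4c5da617409c46639ac9af1d55298cc675a0767c533ada0a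01010b12040d267f0ff80826504bf93c5074d731454b53c56a0eaf0ad1f782589500449dfd8d2992111c1d95335aa98ac2f315d54b2640c8f3284c95f684ac02e3d5a755a3b01d51601a9296b4a247b7449d60a25aba85524775ec4c68cfa0b66e61a5595a5749027800288052221a948b687892ad3e04d690a3730c716614a41e71fc114b90b349a23e44e8cd6b74a70540958a5a5298f67c97791cf40627f75d843119a6aaa532c70acd75a314e621218c82a095de81252022595f148084cd41e068f07e7951e441df4c13b3521915dbd328e75fa362dddca600663e9e5155c7e62c67430266a8826931c92ba068e22e5311824501fe7125ca686fac46c1e4bd69993842681a27c0809e469747da318dc0b6a0ad6ee6560c3f5845c4ddc127d549dd4d52a27391cf184de0d599495b696a1680ca42c88172cf75a2826857912d361796c75012765157b0fb066418c2463c8747be7923a135c8d94c4ee8843a55eac2a24b05a3d7d250431167881097e26402a114a6f6616f380be9c8916c6864a82998923221ff5784530d8a)))))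
 (.node (nat_lit 80) (.node (nat_lit 78) (.leaf (nat_lit 0x20d519b89099a322ae4b9221ba5423e1778d2f24885036593d1a57b28645c160e845971c12f67c7e4cd33ea9a7a1e4f24a99aa609a4c868db00c981a58e398b654903741ca3e2962ce92769cd760b41304d139311d2708b18f39d009c97273d54770327f068076946789b50a293a1716355fa890a36a4e2fca10bc7b9e0514e80e1e8839fa8b5a5a7960f3a61d470d6890599178a406523ab25f8cd507bd6b784e36d494314440883c890093c1280b532310d82ee5d885186f5c5170a72100c11d5a60d124ecdf0910c57aa10a0181803e51db982d86492ad3c5b3344111f0866568d595aa948f6a6dd77195caa1073824b30c9f15c799d44f4dcc097aab7c26b2c290a160114a360cc0034188231875d9b48153d58994a26444a6123bd9f93c8a4706d2a1f49bc3f1180b80cd4a05196a5e50785d109446fe0861121acdb66c4d5575858e5353882743d58a92159152d2408204e563e9a27a68345210501bb8f19d32ab14c1251c2572461c6adfaa7504554561d49c9947e6020f0c47379e3a32e672b1f85dd7c9d90e9d1b0011dd2d4e558c611f630476265296c3ec20a5d9825d4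58aceb5cd905e62a630ed3f94b5c1d5545e00e20219a1135e436b63886c762742e5f89e6801b16840505bc8398249eb0a7daf34cab7de691044808dfd35a8444da37a21f455ba72c5955c810484b59a3e6585b2881f482b298e315365130a60709f39b8aaa327f810548c836566a5434dd920c128c7f1de7b14d342c46c191103f6064aa1378a28648ea409895b9d2539de0d5ff1a96d3f271254620062d731497b97d8bc072586762cec2e94f405d671cf5a71789e5089ddb2019df2de930ae090d06f7aa3d31e6a2bdf28893991d3fa8c2c92618386144168a338895d4390545529a194792b23888042533dda879a804681aa699b2654889cee5bd8a2962eaaa910ee2518c0224d7a9cd0b9e9ae021db2e5ce0940526865644e92e14c3fdd3710f2a66204da4d686a00a646858de830371c5e4900c99b4a97d40a702641ae5b55a885927d31a0a50dbe8fd97332b44b11f1ca5a234bc22c43941ed5d19358637581817ed383702a4255ba9e2346db77205f81c8703c495ecae7c66c0f44a05e0034a87459a67acbe988d97da682b68ea09fe142340c16a8ed9c160a007126abe618d553418141e0804ce8f59da4954f9a55d1724b24f9d95fce408511875ac))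 (.node (nat_lit 79) (.leaf (nat_lit 0x1364d5345394d53142505404fd2c4ae96a5694abaadab2a2a86a0a7e8ca2de6795e47f9fd7f1f27c5f07bddc76c8e234a027c9725882204804250841d214811f4551444d123fcfe9a66899e81a027f9d6749ce7297e5e6e5b86ddd1741cf715c470dc26bdae198651e0771bc6e16859160dc36cda3d0f33c8e839ce6394d23463c8ee3a9525394a4891e46916328c58c62d8a691a36899865d96655826043e0f45013c47118320c4300bcb62d4c831cbf2f8aa2a4a885a158a22787e1e82a0982166595785dd6f5b95a5655855c0e0340c098250901a0641805c0400d3c4ed3a551535494851d46685304be9ca6e9aad2b3acaa8a9ea63c690a3dec7adea81203809f87ddf6945e077c92244a428c9b2688821c8643d0e435274992546d1a465fb40d029be6e9b687a1a859ee7a9e54b98e626fdbe6f5d7759d572dca726ab6cdb21a8691f07b1cc721805f178e2384e03e8f93e0ee3b4ec738d6356429064096a599624e9364c47a368d592645906a9a96a19e6759c9f986614421045414c4b128380dc3615cba2e4cc32cc3308b02bcae86a198b22b88e228420f8396a5a57c5ed735c96057d5e81c1404c12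0b02b0a82007c1e08c0801d394e1375455053d45511439992e4b699a6297ac6b0abea5a92a36da8ea35e97a1e7806007fdf57d1f3419de7749023ca22849926085210834310b4292448d224611745a39405009b26b9aa84a0e829e2779d989986606f1bb6e9d474dd2721c7718d96c5b01a0671e8791c4701745c16cdf378dd3dcf63d4eb3a8e9a4cd434e3f8fa3d95e569564b92a4978e348cd8f6398d69da66959b669994cd8460c400fc5214449120350d0331fcb82dcca324c1300ad2b0ab862178aa29886208360c82d6859d7a5e5715c15d5715b29c110400f0a42809c1d0701b02c06015324c54a5253e4f52a4a528a4a91aaaa9a7a9da2a89a21e2785fa7e5ee7b5da765d88b48c22c8a2789d27095250931847e1f5054111d47111440fd3f0fb996649f67c9c6709765c96db56d1cd731c1701ad6b1ab3346418c621d8751d06d1b06b0e456154d835cf03bce438cd033cce8e2379424f912438c22f8b98861da067d9464d805fd7e5f43c0ec3a1384d13045110432242e0b4b42ccb2318c5310bd2f0bb844a62961484e1289a258921d8721b586068156458d625d9755d16d5b16b2c5565540a02422084160540200400)) (.leaf (nat_lit 0x7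b02496a255e6098a5aa4d340154f1cb891352541329248320f8130b3a3e6d2f1fe7e4c239431018388dd7680c2b98d65710b690c6f0387546575a593d8663939e186a99f85087a18b47c1d82c1b10f41712a2f5adea6ca054ac8b0a85094a2c38445296a85a449821072e0cf47a1e6d1be8754c270201ea3129cd50ecc4ac85e00482a457b685a33064238c0251d2758aa14aa0f780dc5bd9c5fa1c2460ea7c25a04ba0f28e2a65b52e2b3500c9ce21111c22d67c04933565b988e30240191895f1aa274821f35cff829ac101d584d421f4070be3b5e8ee0b4bda6e4a3dd8d719397b8980e479acdbd56cf563a4b4028d5f538941c877e7b040350cc349b20039201a4a6a5185f300da58529044995750571d3769e3d3a85d2102ea653e4588646a17120510fe7779db57cdc1a0d541a4ad3799b95522a954a4b62d6c1eba142795206232209c81b4c90aac4d360e3342eaf9f54f475bb7e2620763f3a5a6751448e0851f85ba69d65e599958df1c08f186a46212428d0f8319705a9d2b236324d8a11f425d8c02a8a2dd062ae9e9d9e93cca64c41c10970911bc542462c4948352e0a67148ea37bceb6963e46298681457e9d280a6e01536726253ea475a0fd6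19586dead1de8b40955644f2330742880d9d5db715fd9bcbb0d83201264738be1654099dad1ce5a3bd894ea61a21602046000240692167311285514201137927a3185311823971af2a86553a80a892558d9e36e2a1b4540927f795ae1ade3675808cab411c9d07aac4396d614d155c631e01a979f26e14175e123b23c2fd1099977742941608d1c821965965cdab77a094249f4851ca30e010c9b7dcf1784cb8d0fbaacf91383e7b0d2764ae7008e930ce4c153656a95c87640d9264e51a98682282c4b29546d746a0e85e05515c039a1fc73d516110c2688970d66640f47a0a09813baa8fe32a4e62c83a4dd3812659a4080dc30846264d1ca568fc97c141c49382d9a61e977ec5ca711116a1a3b63a285b36e9f66527402c4113df514a784bccd47e28961980896cab90d0606412e22915490a0dd8b9dd1f282548f0422078d58150d3f45c88159d130da939ab077067a9de21b97138a53558b27c68731e706d8afa41da59e57134c579a792a25d358b9365ed572490ea1b535bf5b9049f81f2489e8a58f5fd64a81260986c19a104052803cf693dff1fe6b521cd4557c905a2))))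
 (.node (nat_lit 82) (.node (nat_lit 81) (.leaf (nat_lit 0x2862d1f03fe0a6b09c0807a77cb690c481443f9c523a8d0babe7d9d499575e49e8c61a08a0b18534557131894e8a16ccf693e82548141c4931f4070bce7861aa9b4bc7f9d00094746298682994f9160d4330d0e3759796a0e85e1cc44a157f66f2ee9aa50589ad484445a20e9330da9398dc5bd9c254132911e879b425e2b352a4621244028d5f53242ab18d18c029ab77a09644f2330472741e52cfbaade21ba604ecdd8b8c579a7903c154f20ea7e238c08b0a8506f55b65c161097048aa552aad1dd1ca313054d9e36e2a0ed66640f42c9f1a1c1f2489e8a6784be8e2a65b1ec0925a528b0e1115596e4d8a11f4928f76352d8b5b07ad31070f1784cb4d9c98946d150249fe4c33a5713551610cd47d6e4127e920c83e12a83de0708b59f12c5a4494e2507207023c61a7a767a440952061d0a20365965973349d92b9ef1ade3aa8fe19ea79243a5b2ae4353d866398ed7a3b85e004824517680c5d2102e515fa74a3f3a5a667c5f30240692161545700d4175e122194099c5ca71cd455434fc080dc308455f1a96b7a9657123129cd5918b11a4ad4a41153d1d6ec7640d4ea025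a3bc631e01a97964a812602c4113d5a3f25f0a0f0421f9308e568cc1909d584d429a21421e6c800e42147e16ceb6963e0b51a85c360c804442665de9546d748088044dd381056745ff1fe1a3b63a6fa1d5306f03875760b06c4a387cd734d838cd0571d379dde76d5094b829ab10e5b661a216014c4608d7e946a67747c669876e9f6841014a090064626ca054ad8a5aa4d34025a06446f1503799b954980e479ace9d2b195aa572a892558cfd619586dce010d8f5fdf51488970cc79c1b682cb833c0c9ce1c245cb891359c81ba28b743e0c3d58e92e32ad0f91389f4868b409557e222915492a25d3597138a53559e8282211120841cb3a3d2758aa1418ab232209ec106665637c3e7b19d601db7148d1c821550b9365ed0606412cca9398b08ab0770a5aa0124ccba0f28957982a14273cca68d8c9719397b9e56b9c02389b7dcfa91d688be289619886d4d6fcafa41da59d0c2682b98cc4aca274803d05c4a369619881d2520d7cdc1a0dad1cdf26e19264e5c6bcaa196264d1ca81e35604261b066571949d2915eda10c4060e1195d696164bda6dd451238806929a9a78f4ea8de6e014ec8f0bf991ce2f88118000519fc73d17222659a6977ed7c905a2))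 (.leaf (nat_lit 0x8546ce5195e53686f8cea63c54a5258548c939d654225387803a272963aa8e4118d74111500fa769336644f14221880b05661786164044a78421d08d672cc125c55506c0b5e1771f5a9458455465118e5f7a9226fea13488f436b326649750387ed199f27d26c9a0c85c244924d9b98b4fd66db68de6ea5e444adc37087a1e5002759c7e0769ca3b0ba676a0df72808866120a2235ac262a96186ccb3319464e5d4a5876223fa70570d9e8486358d915802771f2880541600402028098a0c957a5a421de77520939cc51c3317881a49a21029da08486b15262a4d7a55c2e8c4868c25d222832242c81c0392c19ce0a1871a8da7221ce3b24f9402d759431b4f79f88ba319053dec91d0e95ddb7724b498e7680588bc3ea15051194c440876966d710e28d1316e9fd4f8e649d80365c61dc7877cf61ae48ab86142db3228749a54484d76294a65b62507e2a56c59995fc24270954985fd25792a76f1565940c3156f07a2683417061795ea5eab646515d78e5913510a9483c1b18e53a6298d4269aa42922e761c17028a33db46d66c9087f6926b4c12fa0d981edf433a1e87d5f2b616854ca084ab81cd07d589a46419aa9e3f996654521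44d31d5f672c4e916951fa3a809396752a721e39929b8f671345f07bca2284af5a027599700a96e2a42403cbc851d1a60d6356b0714a3668fba2e539cceb812666f9014de7f190945681a2c4b90416230c072ee118b22b0c63873c6890eaf1c1d93e1b79e98fad0db6c5b03cea867d1a20db254043a8a810e4de618621323c45c5d3b93f0f5b84d047a367952d1d4725c19ab24c86e3c93d0ddd2a69f143c2904c0400c2b076298720e2a0c030609580b82dc2289e084ee84605829e153451cd200731c8820d0691a909630cd6acff0fd3a964499da01181a151aa9aaa874d58460d4d9edf93b45b2fcbe5760f2d4b6050b455dbb3d28fa40e874e4a1525b5fa31a02a0461aaa4deb4b8ddab08c111fe8f90340a567c85371d287b9ed8c0fc785e2a666f0bc0d0b005018200956c320ae82d2d135c96789ea7e6815a947550c7dcc658e06815752f4c70655812c4a1688410442371e65f4e1ac5ae6bea53e5417e8302185580ce925524aac3b8c9bd3d5929d26135de768ce444d546b5067cc9f2828923a583609647ce317dff901974f035521122358b41c979824c478f03bd725ccac8296a5a57c5ec00))) (.node (nat_lit 83) (.leaf (nat_lit 0x1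f54440f4baad1321c630868481c4c66019e11758769fe2317db756217469cd66a0b9523280965a754b0795d266699952089dae7943e2cd46a35700fcb451ca46a5b3278d60e5e47e8117d0a9124eeab84d97e87428f166e0c390c235d2b4060494c4f3a436589c67391996207181b85a14f3dc2e901d9069c2864964245ca70f51f95065446555d80664238d8f5fd2248d246ae6f8aa6d5bdac101e21ba363259d600bda6c18905da59c4771c149c07d46e81754755053e5b9e6920d13509c6a8fd23e1a0ddbe15203949e01e4107ce382221b62c8e3b0aaa86015ee4a475e9349a48953d2d4d50ee490e885639b514ea95dc902c135979ba7da71a94347f5de0b0dc2f0507e083a4cda585fc73e0841d7c191ca2b0eb4dd87889b6ad2615d02f4c80e0290b4585a59a791ddcc55cf88fe183012d186a75903040e590914c2620f991448a24e49dafa3c3d685d3a095643cfb4521f6f675034ad1a4a1336291094034002919eb5b4b7a2a577fc284a4e025d699c82d5e01665ddcac2a829593649f204a2f37d6a1210e2565d07cf254cc6878d83a23b7c55a15cef32c019b0a26c8415c5254840469a3d075ee57844a58d926981662563e81b4163e1fcc752443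a55606d11884d5ba667d548c53d2ab6161520938080b11c1b047c0849a671b573934d38b08d70426534318f133a444a176766ec63726161eca79f12c3c108911e792e8b9997268e246c4a37a0a0a90335299e22a093fc2a7f9d09e12f2322026df70ae632bd3412c515e57d04e307c0924ece68e98364684819d25e9c496cfc4550d24e98156000a65581491394e2149289fa50a880669c72a246c2e6477b0009a93f50dea5acce9309f8ad9f70c899cc0c44c804c176ace2e3769f8393a6265a09634ac50c45c22989c0196219ec592f827a161d40186a18ed30e7a160cc01d452768e1c56c785e300cc8379d77e50484032a9963721392acea5d6b260a357eded19a92204feaa9b95668053a51055df1f1dd21e14138f9a515f115489ae432da8c4706b2e268682976515c419db8dcc43cd540860d251a8694b29151ea20cf1bd421d2af02d90179124f0e71eaac8b4a8a818a6586a4a8e18cca6752839d0ca6fdc5970bf0e19905e9e2118d4d8782ba3102639a6951612776f05b4410208dcb304627bc5674435622a31a0db2ec8b8299c5f8f693e6e015ad1ccba0f226a41a2)) (.leaf (nat_lit 0x5a164588f23b8e942505404fd785dc290a027a96a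4a8cdf378ddaadb16c03c0ec3a9765c96cc6314c4585ee7b49b26a2c8ad03409926459046d1a465aa6a5a8220872182f86a192d0b32c9da765d81384d130619c6703dcf63d5c871dc60441003c23a3a8d4b12b599651bc6e95253949d474dd23acea3a699a6297738060155a565584d9354d24891e46914781dd9e6759c49d264961083e0e29c92245e2784a62967d9f04511043226659902e0b5fa7e4bd2f0bb88e22290a36198543d0e436328c4661956f5b94e5354c52eb1ac2af0741c06dbc6edba3c4d434d5d5715b4e5384de4b92a4978c7a1e5d1741cf3a0e739a96a5694a4c0400dec7adea2c0af2ba87a1a854cc4b1299464d1d472068148c22c8a8761c86c9e2749c6017f5f97d415049be6e9b4380dc368120380a3930cc2abaadab01a064186e5b86ddb6348d18d2331a0675c5705455053c2609424a8aa1a80dc36cda365af6b85d1705b8fe3e8f545511439997a5e4952509389a25890fd3f0fb8b58861c4210663988cc32df87ddf6944ba2e5e077c5414e7b9ea79445106819f1f87d852138492e4b56859c711c25795a557bcf43ccf2715c470c0e0340c02e8ca2e308be2e190631896d5b16b2c54a526b4aceb20801f079bf6f9bda7cd63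56699a2670c8310c1fe7f5fc7ecbf2fa21880a22858460d0c42d0a66d9a6652448d228360c82d572408f799e5790aa2a4a8a06809fe7e11c4675dd6754ee3b4eca729ba68e502007559554c931912431d8751d0fa3e4f872dca7241404c1205e90a3d2a4a528591635886d1b06b0e65093d1845d1669da6694852108315e1885cb62d5dc76c5013e759d2739c83e0f65f978c831df27c5f0264988aa294050063d8e63456156388dd3e4f5765d5748442c0ac2aaa2a7a98e2384e0709b36c9304bd6a5a4731ca5a966583c0ef705c002809a2a89a20b82ddde77452146789de766251545113691a368882204801fe168549725a2889cff3f98c62d8a1003f98660328c97d5f47cc220869ea74d835dad6b1ab3346017c5e90a419014851d466857c5eeaaaa416055b56d0d033cce8da351a8695cd725515354a1f878a027d82605094210741a6c9ae6a0d4340ce01801ff448c1301e97a1e72b4ac2ae84a0e82654491219865d964852047e0a8260881c8e2356057d5e4f13b4ea4e9364c4787c1edcd730e438e92a440200400))))))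
noncomputable def cR_6 : Tr ℕ := (.node (nat_lit 91) (.node (nat_lit 87) (.node (nat_lit 85) (.leaf (nat_lit 0xb42ccb249d2649542505404fcd434e96a569495e569561d8721b586639898f6398d7f9fd7f1cb729c9aad565546a1a4220844912082204806017f5f9f87ddf6745d073dce5a167168591601d0701b1384d13061248912b4ac2ad15451135515354989360d7a428f912438aa299a66899c761d47405013048320c4300bc99261a468da27a5e879dad6b1ab335735cab1ac2af8f23b8ea1083e0e29e719c0cc32d054112e4b4e839ce63969ea76368d61685684a0e822fcbe405004c9313e8f93e0711c00400c421049e2749c0e59e6759c769d9761bc6edba3c5785dd5d5715b715c470e0480e028e58861c8821c861144410c290a02705c66194d033cce52147519214811f478b82de5f97a218825093e9ca6e9a37cde3754e5354c46d1a465fb298a59be6e9b6268962492e4a925e3a328b59163589d7759d57c9f17c1ef611832388d14851058151805f17a789de7682a09822429064044aaaaa4ee3b4ec4a9294a10c42d0a944c831c95250930e0370d80e0340c02c7a1e56f5b9b16c1e2785aa6a5a8998a2284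3e0f40801c6d1b06b5f17b6d5b4779dd6619765a7d9f21a866328c6a5a92a36d8f43ccf24e5384dcfd3f0fb8b4c33082c0ac2a19063188852108315c4711a01801ff6318b6296057d5e81dc17025494e52a6698a5e5d9725b5f6238891d470ba2e4d2345455114393a4d9328aa26889b26b9a9a18a22746117458aa2a4a8388e1381c252949068190605d1705b2308b22889150537b9ed6198559965751d37490f4390d318c5310eb3a8e9a4d2c4ae3f8fa3dabaadab27b9ea7952e06815e6795e469da66956d5b16b2c5b36c80a0247c1ec97258350d0331fde077d9464d7a5e5b96e1b7018051bc6e290a30f03b0e8ff3f8c1300f03bd3c4ed3a656308be2eaa2a7a9a81a027f9fa1885e1f87a6198292a465a966584f93d358d52d8b5491234884b1287e1f46819c260942408dc871dc65695956192645909c9fa7e45013c9023c561542007c1e735cc5a969609817d5f47ce2c8ae659928ea364891e46915515414f370db368b02bcae55d11441af6b9715c1a067dec7adea0b82d26c9a1e0770441003d304bce438cca325094210741a0d8320b9d6749ceb4aceb2366388dd364d5343dcf63d4bd2f0bb8450340a1484e12a1e86a16a2a86a0a7e348cdbf6f9bd5d9755d19b669994cddc76c400fca027c731c80200400))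 (.node (nat_lit 86) (.leaf (nat_lit 0x24d105a8372536597a59823079da8bd0fa19c9870095d09f509e4495db771fa6d4891e5186eaa423dff900060155d83db06c47e1f674195cf2854579dcd6206143283718d957cad5e16a02c533b99091c3d68a6a0b82d4daad7c27a1a5d5084bd588c46c9b35fd2a02007605821dd156dcb48956ba848d7f07b46dbd3d5836127719dd24e6b07cda0788391ad5a8304f3a18a5f16805ce29659c9f9ac341df781ada25592c109a01c3709ae6bd60825d93f53cacdf66025c6158601003a9c918095c2a856155dd778a3521ea488df959999283f694513ad8d53155559f52113774d009d967834270611c475fd4aea05b4012c88e98dfb8f63f469e1a289c1a232395c51650741819050c73229c39c6c0f19e0dce02425f449b49747480d2fa98f28a2275960a09042a3a667e0874e99525064698d39259b0d0dd02a0684612a58ea9f67c0700e9b14719a36739752961b72c5f4346a8d293a526f505980c4da6a4d5931878c04c24ccb3303ea41a15a6100a9d03fa7353eaaaa63c45cef3c22a8a6004b6a33e2993b4c932a5093da3346465254a9a54407c117205c42a2c8ac442324245092986398e9d640a79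7c8814d040a313f9b6142f0ff15272a3dec518a95dc0c06d054123363ce9298225843566a557bd2692cfc73062221f7ac8d62891e47c20094b62d4f3aa0451d52e1e1b60e19d960cf67c3a8c58c39a9a856162bd7b0485a7127f40450625521b49d989bf4652c1f29f0096c890b13daa2992650682854e78215f4abe05590bb350a078c827c6acaad4d9ed301e8f1979b944d297e48a10cba2e45d71e822b17903e8d7a54399e91a4923920d835e1786235648eca5cf9a94b82de378e2606f1164c931542750742b348a49161986895135209383265e529468b7994040c5252c6072a854ccc5874fa6e04611d735c88ba75281c87331963a55d7ab9352019464e6b691516461f30ca756c10880aba110b16e713922d761217a298745ee7b4701c4c20b20e5c570906013d1bba79115f49625d27796135da874385e1fce313a2e884bf81e5436c300be686a8150594e63a6e69e5737833491eb26099705c00361e2a23b8116f5b84a12d101da5b5fab44ec8618e703ecbe09a085786e1be814205804e222b93d27a886ac9a26c3b90cce968e10da23305575615462cc00a60b9113e336b14e08315e9b75048124f76fa3e7fa262cc00)) (.leaf (nat_lit 0xc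579a79174840b98a5aa4d341f26e1cb891353b23c2fc1f2489e8a4692b48d1c8217e4c23952d8b5b07acf693e5481a6b5209b7dc6f038755c4e294e01a4a6a22c2a141f81d90347a1e6d05515c0331e706da0b36961349d92b8e7861aa719397b8657747c9ec10159d1930cea18b47c0181904b3ada58fa8e2a65b52d894e92a83de07f66f2ee28961980892e0a5913c8cc1780120a446f1504b1949d28a2de977eead1de3129cd50eeaa3f9d65e4124cc531182388444201135458442eaf9f632ad0bda6d970595a3f25f0a2a462124020370c2a24956377e27480682282c94a2c3866c800e4452b07710571d372be90769a83a1780b569126078d581260391e53d86639a68fbaad6b7a93054d17220f563a4bab10e5b68957982a653e458869243a120510fd6e4127e442665ddd02ce8f592a049922a954a0c4060e23727d210ae6338043735154c90aac65c6bcaa2401918a3f3a5a667e604ed4f475bb599903d081180005180c9cc141c493362847d1d584d429a19d6021f35de56b883a4c7023c616de5a3be0ea7e6e01622915492520d7d452502673716f671ba7d8f32980251c742880d9d49c0807a4d9c98961a3b63a845062ad18a61a05b2ae43661a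216025cba0f0360c80449d62a867148ea37bccd47e915eda1a2d025540b1044f558425c05ca718c028c4ac8fd619582147e16cca9398b7927a31ab3565b973112855c22d67c34d838cc454309a8ed7a3b8472741e8993472967a74ac9966943e0c57c6a678db8a9a78f4ea2a25d358631e01a978154f14175e1225413291f3706835518f5fe6d2f1fe965965ce104052803e8509dff1fc8c880b690cf1784cb8d05f301e21b99264db28152b7f1cf2e0cf4a4112c9f1a1e1421c3e7b28254a4a3dd8d5f8c36a4e64e250721d82c1b128dc023a238c14ea01e8281d451238225c39881d8acd4901a485a363259a61c6b78c7d01c2f8086d150243fe0a6b199958df8bdd381025a05ad1ccdd8b9457e9d29e12f918b187091991ce2f931070a16cddb715a33064238cfa91d686fa1d5329e9d9e910111168a5aa251a9867a9c350cc3495c4d2655d82107a551b5d1bd56cf0420f9139195d69616595aa5720f41712900a357d9fd434fc7b02496614d155cb9365ed5711a85e1b535bf9dde76d648320f813294160de66e550986c199ab77a094257680d1ca31657127206d7c905a2))))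
 (.node (nat_lit 89) (.node (nat_lit 88) (.leaf (nat_lit 0x25676d195296a3c4c0ad17e4a042104a42da661352f70c60a84c45865442e22544303f5f40a9a3a346b2726298cd835da79b900404f91f6766b83c51a5a035d82f069ab0dd3bcf03dd6320260388938e23605c126b0d007d047fc40350b11558ca8db7705c014c54164381bc6e40a3f7c08ca0cec2455d9fc044751e47d35a1d31829d2799269269b64cab5788f241561f2934e04683a991d596655ec91deb49291a49366693c7404322620885a650aaaaa64f4540f94df8308c36b689874346f4a22845a2101505a5c5ecda7185172e120762f41c5c31d909cd6e5bc458313a1ed9ba5047390a72a1209391c921e7660afa5e0f73137670481259412e072b077a6a4b005e478d60825d63ae43910aa570ee5648aa3a2a0e591a745b4260306c0b37dca36c9896ddc089fb5a4853caa6348d16fd4d86cb5a29a84c17870aaf04c2990914619852ce261f8cc62677594f8415e0448d39bd6b2c89b2686a4b2ab1b0b96882c8ecfb8b67554235430183198e179c485c4c18a2b8b13e4f5c8accc93291a02655435fe8f8b82dea76f17c198d986a195518ba2e8c80231079449a5dd77ab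1384829e8f5a7cc86d672ab5832edda45e584189e0ee18984617de3709d4e6f8331fd456a5410fe24598566d9df04513900bf2fa044222e4ae14724ba6bda19a887176a83cd735c9299740a40def00a4a4944a752081e132394e639e9c38e8156d5a3b682a19553a5d501406734929f92300e4c8344473dce75e956753981606485e82c1971d177254e09ec81588cf28e6750d10445187640c8a5480ea9e88c2f219752f437525ba264c15f4217ca3d7f1a067c721cc250805013ccba958a548631383d0f8140658f316a061d8843a576c5b019580ac8b45b25f979b83ea32940230923c0adf36d03253d8414a115d26b691b9a912e4b641805b32813fa428f43df1856166ee1e0d8deab9675a26c51c0e965168e4ff7ea519a170339643da7952c642509d1b49625c880c5f53f23a7b5ee54e785e97927d6d9b52a5fe2889dfd46e1f9c457162a217d8d7e41a429711c4cd6aeb0716338d1c737265992703d0839d192354d65da138c01c8086819c260402d0ba256c940694706aa880d61c530283f9f69498160876a60ae01de99188e299334d0a9840a5a59997453b82e4d785227a8791e9e2022453a88da168422d5855d9ea015f2b67c9f4e874d2779400))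 (.leaf (nat_lit 0x169214f2461d90304d4bdc3abc791e9a3a346b78808914b5a29a850da067c8e29933959db4667b20562584df7285013e424527c9f4f91f676100d42c6256c94092c01791e32d16c660afa5c65602b28e23605c129d1926d03253cee5648a0a0fe7da5214c5471cdc3bcf0050191160c4e9f53f23a2455d9fe189846118aa76f00a40defab5832eea217d8d52d3666a008c41e598566d931829d23997a5e5ec91e2889d449a4ba6bda19a99d4e4c9328642501d8bd076e6a4aaaa939e9c415e0448a22866c51e2b8b12300e4c47c6a4b2aba19553a61d0d1bda7d0f7c4ac1de9a8ca5008c55632a36dc6819e60388938c01c80a0f7313767187620358714c40a3f7c18414a115d1d63ac3d0f92093a65991ae0f146182a1310a5a5999770227edfc5d4bd4c17870837525ba3f5f40a80b67a8033ca399e8e8a83901de9919ea108413a1d3360d7094201f8cc624ff7ea51170c7640b065c74225c8acc029292534e6f5adb32813f695a650a35430188344473e5c5ecda719675a2537e21585a755415a3b682655456a4b82dc9d1b4044751eac1c5a4692aa0f3769179608f241539e21a865df04513900829e8f54ae14725561f293755fd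46d7c198d97de3709c8ca0cec738880c53c740437e41a428c86d6729cd299749f5b66d79926925410fe242ca8ba3087175dd7792a5fe991d596145cb849643da79468099550d816069dd653e0784c8e593d1503c244b92d734929f9c485c4c03a5945a3916884a428f6b689014061b0b968a4d78522290b699a295203a270d2344217ca3d6fd4d86cea236854d26298d0980c1b5dc953814a5a8f1a98a9841004055f2b586614cba958a54a5f979608242d0b81f411ff354d66b0d06c5b04724879c590e181608aa5723c0adf34187b66e9463cc5a80bc1a6ac376338d13e4f5217a16e5be685c0ce882219060126c9a129d4820deab815059d7a54c66385e1fce3a055b0b23b3edbb87836160c230d35a1c9625dfe8f94e6f8332783b5cd727ad245c471334bf2f95462ded7ba9b64cab57a1f9c4574e04683a044222e8b6b138426041c1701b83e99412e0743a57120495da133dd63202439126b6906f1b8706aa886ae5a035d89c0f420c47390a72a06313a9e88c2f36c9896dd14ee0b55e5442e8422d58889510c0993057d4a0130a4c0ad17e1da982b991a745b21910444b3898721cda79b92779400))) (.node (nat_lit 90) (.leaf (nat_lit 0x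114081015ed8e248339fcd90015d2765541e512569d299b8580684908d9a5da7e40a37458656223a9307aced34d2b485910fc1da259970c2f3125b0ea31045267219d5ba8092a16174e189e0376de984874338e97865fa9c965150c9640313cad9b88c47c614f47899e2d698c8a10372d49968dbfa7e6a2a10500a4f678e4a89c12d02d5a8a3a61de91d1b2b157640c3a3d501596d64dfb4880ca504b324173b18685d887fa7d898d738a1d1e5df870db371e408dff0c598459525da60472388c1baa6a530c89a5d64e8d0196d6643c04e6a8525654081ea3a4d97950bb10ccd7516528087ac6280e1b20a6b34e56f11a7a6bd625f8395303c905817586f4ec852da782fa8c6d1433ecd03e5e718872835f77d4043ea0919e0c1a4f47c1f37da24879a020137ac9cc6016390825401476f8d69c0452f134abc860a1028f03d5444046842a64d45de44ab0834e8a275d67476373f22c212ae712399d8ba4e08278c249028e9ecc04a9e05913f820f8021f47ca653bc63864223cc9b2f6068ecf174973ac136422a40b1589cd0f4c569291d1181ed38cf6802103d5a1839878fa871f41873e746c4483323d9142a7407160cc2a4275445cbaa4ee1c1847f1ea02c5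589594165d91ee7c2ccd8072488d9926c04932c12a5d5c6905441001942a0518a7635152a4ae53db903494989c05b02e482330528a22d495c9c566a5aa98e501d09959a5579b79a0512c110631569241e44cb9a043427929a44103147a3a01684e61809898ac5a378905e58b88e964beab0da825ad7890d333805b9c4758512e880e73452c7a1cd970c61fd9c7197c538919b06649c8e510ff9be1f67def9610a2ca4c131aca94b7439bc25da9015ca508c76a22e54cbfa2de68562917c6c8061b5f46b52e9b5989f5d0896ad187724d86970a1821aa2775553c42e6d2adb67e05c3c8e68160433c7652a3a62888a0dd3054a1a55681103b97692a354d3052503d129e6b471d8586027739351f80e48e35ab6aa3f47c128ca4664606c6498df14ca0b9c9dd7b1fd829bd6895b26148a84aa9ac535fc817ba667613e1dc0637d823ac6e2e2571ccaf478931415f69db304d7166de297a1122a887563207e4b585282704763dae09a2a0d52d8869c0690345e85708302c42b6b5c915d968bdfa0248f5e9540fa3f1044da78a5435069495a1a9bb348fe504f7354657960f1b45e9f8da)) (.leaf (nat_lit 0x14d85daba18d720da6194ae562034612d75c3a60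4c6a680795d07962993b53c0c624044fc7f26957cf5a7cbf2fa338d1b26cca5299948b1c27d0034346c6169439e6058a1ba61d126a6c3ca43039ff301921d04320834a89a92ad6da0c8646c258ba2d86a193bcf01dc788a62a8c8169148b5ee736ec4f51a414701b0a881182a91699914e0d5017734279636048edda8f81e829be50c5d2cd966557a5e43d0f904415695a8405a17d5fa77630190519d4e55c258f80682867a809e1531a6a52a2639898460d2c4ae547dd0a946281faab1e9b1845fa8d9e34953d4fa2671d3a7fa4d03cf72526799a8ea351d40c0b5f28c9c850559a1689705c5ac1294c2116ea14afa75a59b6477b0eb75a1d315f2959673ba5b2b463a808836d6b8c1e8465fb52949199b555e18240cd360ba15c360240a43a4f7ce953246b58ca3399d25fd2a6926b0b00d545918ac3570c20481d85144d82198acc5b0bc8e236611c561011ee7bd8687e933a4c73227434c8a51e056e81c76e4044ce1ac4381655a8328a33c158f122918e438c6f1ba218810c0065215456344d2775de25da06d9752f52692ead72cf99915b83a350a5e41f681375b0552125d1b9a91dc91112350c12260626cf1a9a7c9f5c889430939fd3ec953d95e81d8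861e1e0f1d51c29c311ed426557c1809718e53935a1e6e69d178c5eaa78544fc4b5e14b5beaa4cd3440101190ac6a0dc21e827a62f0902312448554f49a9028040ca2c766414f389c4965f52746d74ce87403f4a0a4608e594008418ca4b839270721cd2107e3d139446f6b465cb22c4d6354b966c586d14282c8f9eccea224848c44232a76f1149085f64eaf380b72e09124a378e2651a8a7288a1330cb735cc0090b7d927796ae3797684d9f2aaa36dd8b1e4bb04df99253889dc9ab20f5749e0edd4a6e5a4209f974eca25ad0dc85564b07ac21459e178a15858671a0b64c87f200324edc63f410931609a0931847c1eea83cd15800451d531714337c50f3aa96871644a62273c98264c230dc07042278239809aaa8462a116c36826469e7479af6b93666a6f5058f9e9df4923a5427568d480ac1dac0b51792f4c00501a5e97e23281cea5e3f7651f6fe09130b4172b2366719c110798275c8df9fc46851529da102a4bca3d8a928fe049ca0b537671b83e82e5ce7ea4047624ff44417060511496659692a4442105f894c00)))))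
 (.node (nat_lit 94) (.node (nat_lit 92) (.leaf (nat_lit 0x9d3157da1e27abe360b1227aa686aa86ac02f3d0516a1de491fc8f563318f36a557279cc310ff7f82a030e1ac67854cd33525093d79a31520225a95577a414f5d47533688354d6406010927c15a243e5a681cab97a5f77121808a3611cfa02b31fc5e555567e9f99ada43add6a122bab09f619d2781277fcfa13da55016d894ef2984c8d02947e818a6b2718ee7417ba394c01254961765247410e75540deab91d47260984f668ca72a26298c95134dbad10381027344d29ed4d22c7601a579487d1f8e874e6e69e3209925790f714da2a0ead15ca1609d5a4c220854a6b48aa34479e50b7c50641e178605082a6d61621399e507d12901314ca2a0d4da2953e24c1345d1e79c3d0f86f1b9974f1da8bd481955b8fa4702d451a5587352a58a1b669360351a9161da465b8a032381c3a9dbc7ac1c7edc52dc8614a0d99d431b03c008018661a2fcbea2c4b9d9c82e4807a0198e58387cec73a9ea744561cce421f77be8f126739c8c13014219d5e9064a08c557056b2c4731c841108fd766a16fe2c0e0dd726a46e59464c3f10010451e3675391c4706d1b58ee4d05cbc850c330a15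8590e7d2514298188ce9152109a9cb2d483162303f1c09f4b21a2a5821e64001e03e9c39e1e292972e99e0cc1476d168e864250485e190620bd6ad0c01df04358f9ea0f5756859c15058594eeab8f2339305f4e0d94f4f0188615a96943c037ce8984c891197c6354b2388d045df44cac6e13f880a0a68e5360d744111a58ea0dc8519aa2838af6ee66039dd464b866c3016d299757f0ed617b0fe06c6aaa20b2b8312205c4d5c28fe3591a921b5285fa0c5698c9dded7b89023c4a5e98a62492245ac341929d109015f659965825602d16c90a31926659903420a993b5e940818048b666036888a2a50a96f9a151a439119f681d1a62034616f3719c1e47a54591959f29c48c2eccb332262cc250809b9bea33e05a5c13a51d5ca7e3702a2e8b5304bd2692d2e4b6a9aa94157db60a01a81a05324ca71c819fa537e1af6b87b1f04433e115d009789d85c4df658aa261bd3d5d7a55b16c2597d54e63a8a9c2120b82d801157529b2b49a6dd2c4ad209384e18c605b9379fc999b2a0786383edca21195a08c7321c421d33600e30e8979a6a63c82b07544564f1175724d0e45906b271239221c970392c0966e97338999a15fd46d5462c771e1b36c90441400))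 (.node (nat_lit 93) (.leaf (nat_lit 0x213a310d01c4312d7a7dd4997ca9415d1920aa4fdcb3188825423670686f0361b05099101385fda812b9d50f8313b980feaa8a07a05f054403ddfb5b539a71570e45a0694a229c22adcc9340a204962de4060a8332a3542e193594f861ed34d759e40fab477a04250f0baa7e0e3766e8d0721a83465920391de35e6a6864e8a2432bdd298cb28f9c431da000e8e2756e3ca3807ca216e1b409a667d6b7a99364aa6945031d9f253a110c13e5063d3b084440410406269c06174bca64c26ba7194e6b521cd455ff1fd1ea116025e23ac1df048670ed5978a7f532174688b23c04949882f9b2958bba68f693e1f7754657e8238e273c114208ad1a6ae58542190110be45574ee5e10a3c4de321228912d04e80910e62a2479f4b9619bb315c98cc458508726c6b0a11c6760b3823259dca73dfc438d4634d19cdee1e0441e5e00de1a17912a446068da44f2077a5d42c27e2141727a3f2d1bf571db715113ce5ea5d317ac5c1084c9549187033148218012f5ce9247e096d6a93fe26a415a7c4149c00511c75ac69d2b2363259705a61905b42690c70c89611519ed767bca73d61d400204e0191604f3d06e0c424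7726d58ea77e62a354d248ccd631097d68a55278418d00fd47008700a866a922c4a199815268a54099d70970f8299e44d41c14ca46c0086a4577551b1f4e88edc78b8cb2642b0b4da596684a4b68097461d9a3ea5d8e4fd365aa4d9e6a58599881d4218a8547c1ec0054a8985a42656765be4a589c683c982d5b88ea2150eb38ad175f80c15865a8427a15d8510cc0f47e036863a5557e18f5feb4515da78ceba1d80461b624d32039c123451965e76ae58301ac5c84e3e5ec0faab3ee9479556821072e0cf5a4495f2887d1be1509c4963136e035c6a32b9d74ce4b8f1b95f6668c1c81e99002d276bd2a9e8dc11a8f30d501c56c4d0183f2227869b4dcce931534c08e7009f2002262c260c861841ce491649bcdf8bca5aa0485aa77025f357913a79818b6ac66d85a94633b55b9f2202301b9ca06950bd95d4b96d3dabd6839d1d5611960e2528e490ea957e9a869455a604d1bc1e304350066c5ee01829216620474e699969320dbd2cd2c0b191411b11d09212a8b535f06ddd65e4291b4382c6a27fa0d678e5459663898e6ce12a35f62fe509d1770b9d924194919d028494219ba4ba373aab23125a3bd894e9ad1ccd8879a2)) (.leaf (nat_lit 0x1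482bd0d96a6e839607dda881c5401cf742caba960c9a9bc699f33c49919caa504f29a653a81f2565b77bc66258f02969e991b57b495004621d8150ed2a35cbc5b5cc764b46ae1b2204107d27308e1649df759516664006877204dc4ad207456e62cee80a7f1601b918dd531d2a12208f9c286182a4d018a0232888e0459a88d1e98d7a624ba8d07f12c7118203a3211aa9e28b4e49c4390282e279ac8e2473054d77859101fb598d67f8b99dc4a0d2627a139458d338e2f0246caa575318ce44100a54a109617711154d0c78069c9e6350b0361c9cb7a97bab9654683c1f4752f51c4a5da61d6c3f562a20201ec873892f499d75c9913adffa14820f419484be36d8c76dd05519c8e80c20eac488e66363fa368343cf951a10a9e586a9be57a66020532b5443d66c95aa37d55c6e9061a0983d1082a2a2826676e5a37c1b625c65298ef9969d7b9b41904d24e999da330a4331c1c879d79ad16945e268ba702306b0b5805d1e19759333e75a52270c824235e670d8192db04d4b59e8460de5e7ad3c464d56624a30d507805c109125a0d2acd2c3b56f04c789f9b332a5c360b373444059617e932592ab85986394ff8b00b2809203997885e3985789c8b88c82f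1246f17600a40d986984739038a817290900519d87d7d911c12c54aa488915822115639f6ad4b8e75c40d1e9956bccc9e2978a43509c8f7a5c660e4e6c9388c224a446d228215d97e702147e4c5a5a738c4260c06e715e45deb159d143fa9b27c2b855ca46d3a32cfa438aeaa20f9b5bf6a5f6a7c9b1a5452b10a95e6b82d5d7d1a529c52015093cd4082aa1949a46e1586840413d3e412508155667c4e18c001849c1d2124a0fb5ae1d9f28903c86abd253a59090a8fa185e0624c3695273e8187a3b6781d1e48437d2d48dd45c18e3a1fca0902a60a30a21971d184dcc9526251548b90d7f340c44c4b79d0480c6607953644cd166e7ba6a2b0e02a245ec72585921ae4eeb04c0ea5cc101f1336c4c8934bf54ddc17c3e8e56a35213474fc6209d1f8cd651116b64597d7c52cb68d85711c73169fda38430ea5b2ecb27628a8de1c16c1e924e053dd5a1e2290412202b247cec62a3ca2e80810850fc1c490c03798f775d3539968f4b051cf89be59a99f857dbd9446a2690c3d943836a4955a76ed5b4fc06145422a507952688215a7c5a255c5000d054f60693da0554022504c))))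
 (.node (nat_lit 96) (.node (nat_lit 95) (.leaf (nat_lit 0x72441578fe0f0f94c631880f6773890219dcc8724ea8da74a01330269942116b87714a9a8c184071466da5b219af1569e950e54dceb8c8937f6aa2aa7b022760fcd97e5c71c601a31f710c16a0668a7c2d3262ca944d318367a26da0e5d76cb513d098bdb1615d92526c4904a798316d4dd27560aba088edca4606b54ab29c8813c9e2892991990f6b21a0ae5a4f56d778ec9587aa285e885bb6a82e6048333904aa198741334bd9f1406d54d508dd5e56ca6451c32fc2c4c28d474e7498c8175ba6a026878ed231d5190b886541069968ce918ad623e48533e2030cc2121ed9726fa09e93103740248a4841295c29e27a010a87f9c11ba0c2c1dfa4cb799c22a00446cdf86d04b7ac1931cfa9adb076a8e2f5f48a1d618856a8a479f8094b690a108b71206456b41ce0b0154b61e000195d16d2788e59848784c5836844c9fce62e6187d4680c17d211643e0254d1a0a225711cee5b23621e9c4714f005928f2ac8255f37c9c3820e81d8266c1f15225a5e44200f47ba4d1e61f04266a99e0340fe2c46594cff220cc8a53e421474b01d278e145ea9641c65294d628f3415ab15c20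2d814695298d4953a9018568b225236f4ca046434e22d5b8962425885168171256561b0a97b944d39187ea84635cdd764c6a6a4a335dfb836b3281137155600e3e550e9479be26c215e01865d424a81269a4ca921d5dcd1234e884d7106d4898e9b8b8973bd6778c8aa810762e7153a102923d285125555c101c81ed395025258d725a9226fdad5e90da60998981e9859a7b00a595666f05f24a8995665091367366e261161b1cb82a3aab591544002ba798e5e574451a9cbb03d79245ef9a9997a8829790e139f6114d44d4e45ac17180d20e1e7314022bcde9c1c97fcd82a5fc0e5f3358bc9f00b988323c1e473c7f7616f0567da59063d50c858741652b4f24a5c1768a8fd74d0a4fd9d1f07d770586e121a540752589ac6411bcda569fa27eb046d695d47592d451a5a4035943563475049031610a1804e89a3dd1fa517f6c98650d9e239598e0dc90842abc7029dc0638a263c272c8e3a1db97c4f132de197c34916855f0b42f8cd119a37c88fa18fb0cddd14dce924ab0ee049d6739d2032b43a46640aad20169b785e4fa3d7e4ec292ce6040c7642cc18c627185446712e0d6643d9d22e8fca742f8880e4c9a27c0235d03c468ac816026351136d58))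 (.leaf (nat_lit 0x25025e660acc65e5ea4d6915ea875fc2c89cc57ac8f4d1ee3c4523d2190c5199e1c4469c31b51b1b276666a655d534d8b01a8e0312350c97e40d30359f2a9093928436618439cc2401ad1611ca01d405cc83047d135bf768804b40f84cb594da73bcaa639326d20f1e4d89799280549ab639aa86f8dd9036c03840ab1848aab1f151aa5924ee111dc0ba619e9c8880105a61295053699d8a3c82a6cc72483374a9585976165076f8673c2a95a03d6b2729fd08991bd124dc3dcac2cc42802ae28e6a69578205d08511e1e9949824b65cec8d1af1f9f02554750a905b96f08a181d92673db84366c4fa256b84f968f559c132d27e9108e32e98214eb93193501f7260bc0821e72e7497cc9378d11cd3153a0a01d5c6ce365f59a9204a86c1c5ca8c515444a9dd21cf393da81e245a485d1dd63560022bc3b8f4e2ac5fd54928589c262e5d27a2882dba73124a15a041868a69e14e4388c4cf29041899c9452709ed161ba0601207a819c9cc917a2968ac265d1858b83485cfa150605de6d685d60b53b7908c87e845286358221accd78ed8f280b95352f37489692561321575ce51799f9b8ca08cb6a2aa17d53d4b10115d6d060c03a986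678d9101fa2854c80d8737e4073a5556c75a09276dc6443a2a598165423c15541a75f62f57007ce911a4e5b2436c51f2c8fc1f10c3da88211df98ccd7816b8881aa889a7d0a6440e82a15f01551ac9f91c5884483609d8d6c05f3f4659bd0a9f1d5480d5799717a68d091958bd6568cf895cbf2e00b9a1bc4105b970fe12c0ea199b38e47870be06cd40bcff875eda9c3a6323eac09c7f95a8300099d220e4016aa3f391fc218b75900c626586d814605e28a53aa65e502938494ce43c9b5ee240a2425d6380d602a529e19a518227970118558a7019ca1c1132ee2d7183f475559654b04a894ac835f20416a4174d118255d2959607a8e934947e07f3492e055b99ac622e8c333074746830444740948020ed4545645c7271e757063364421839ef4f08ba5c7b8c0b179e62095b54fc99424373418399450a7e9c4dc8d7667d0a5ab78e810262376da2138f960819a8df311632120e6674ad42ca2484da3ed6a8b2117fd4f27eb40faab9c4a98155e94a938e890735334a488a2cf26a45141580036691a5bb171b296e1a585737b0d348eaf5509d564ae8343c3858a0a8307ee77075c57786b91896aa143))) (.node (nat_lit 97) (.leaf (nat_lit 0x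17252a9a6a6593e5ea30aaaa94c31807d0384997eb15d0ac3c5f11bcfc2ea515060c546243fc450fc30849ba71a6f869271dcb19daa1571a128815169a33d8a75c2943f469908be8512d70d4e405cc7be096edb08703da9266420242787935e4886110151db00ceea42b433c142bdf79b9e4974c06995794ca01748a2a0e9a5ce49e5df0a87b15aa74395f7988b938a99ae9f9851caba2e2d8eb7356012d430ce2740c3b4ad066e14485d2987a361360b4ddad881340828b3e9b3a70015a2376618d185758107c67919a3d942b56666cce9f1fe6c5135928d378b52506426c0546165a22817fe8e0ada08f917a253387cd18fe7f358c66098c1a0ca8f59318896142803160069c19a28348e2054eddc14db24f1117b9bf51a1972de2549d78ad4d4f4372046c042335cce661122aa42660df53697c6029d4295a0a0750bda2624b23b691a781cac8f27a65e2eca57ce69200921b52c5dd24a0c0239dce2ce74372493042927c74a159c5604a0e022942106f5538b5d6019384763b2f49352cc995c7106c55454704322a9d5201d8db5fe4a6d1ca71c1673dd541548839028a05e99ca648c8203c7a7ac3e2341d7a0bc7099f954f4086784014f779d1855287204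40c4176ad12501aa3e1560e41f17dec7066232098621865d91f8c58f5bcab7ca64468d5035fc15d9a57497768dd90d7a4c2ac5e483024908bcea62d6d1726c696543bd6c9ca981cc8c060e04365b0b02e28ce26164caa15e994845c67a751d308db76e5c01183a0d68732e0246d325a5619059d7869501c081444e6b1358e5ae86d391220a4c6827e4d488d9634c6519800396466557b7f591149f6588cc3423a21a58272712dc9191ea342555ac0f7032ab38e961085823e268c9420b5e3822137111e10d7d49ab32c26d3c0881c812a81d8641dd639592397e7c12e486af1052a9120d51c32541d0895b6078e8a6c11361a881a5a98ea24115b37cbf606939ddd95ba562844765df459d8726684a30c792e7d2d09a4fe40a1a033360f4d8367ed2f874041304f550672546a8863c665149f963290f3349c902dbe7140a6f14c8a5e02e2701ad079a1780947f2750b98216166733eda493cf509cae6d5f88d4ec6488704c8979e07494e193611a48b99eea64f90f5aa011f8851e06e2a9ed9aa3062a2c18dafab56ba64fe794d9970400685b458c4949fa516220f13a915498d1d2)) (.leaf (nat_lit 0xa0836b3599bc17e5f5159d30007761f710e8c439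ab2fe59848784fe9163d7e4ec291adca460c40dde98dce51426021ca1a1967384eb8c893104a570a22a742f4bd9f4ce18009004188f3565134d7b7bd792466b3b2704b67e0243f365f98807f90d19a6069610571c59532aab7310219c9e578de590f82125d9b6835d0048d2561ea8a7d28e2f50b304766a5d454a616681e28ab09016817125805d6139280d03a4e21b71e9a8c0522d9f346d0a7b2550b29715225108c388c7c4c2900059253d639aa5c56c9d3d4ee5b23640d6a489bf98c1b520a48f6100ce9c2ce8f85e4f308487b47b6c104046289c8d77eca31f6455a67c02e6233a7a2629f0b4c96853160ca770070a9cfb8d6a564da7aa4ad155dd14dce6b57a4361424258114d47d8152e58e725171b4367a0c64e8286028d624686ec5e885446712e832b2101b68cdda3be85990e055486404953a9af2edf58587443047a22570aa2654eb19046f175263219b07d826c550130f9215629ba8496d5f37c9c3d9de771bd4e5467220e0d62e25e9b2d0dd22c8333e825d6769ec08a24b02f2a81d5aa2e8fc748209264203d277fc635cdd71341469529810ab0ee4ea8e1c7186a8b26805a8156638370f3474825716d3985a6dd2066140066ae8223b7a899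a491371556790323c0244da6512590a563e425239501c7c94a5358a5041a65a098f2ac6e121160af5bdcd0c29e795346802570ca64524b18a967e8da56a44200f402a7f9a48a9e0e780e52935f004d075398b9c5a30327d2a5fc362a19187e81e2b74456a8a47651a4036aa2a9fd4705173dfe704a89202ea800e4c9a21e54974112415e3940237ba739d2755c85b605991baaf31c618c6279bd655825e3e89f5b8968b57c0e492584d65f5db2d44f550be334461de116ba8b226154de2f00d97a9aad6a0592b8fd74e2a7981009a004564a2e1d519158340f25da672327901a773a0ac0f202a921d931a64a812421885c6803dcdb9b081574ff3b56b47c2b0611a8e9eb8929919a06349b55e13e2395100191a520f0fa3f6fa1f491474b01d7c58c2c9356d1c44f431815dfa4cb77881708a394451e5c0e326a0a6c9b986542129870154b391571c9103c4cb786666142194d4c8a5e73143809d7f4f1161b1cb878b126d9e61943ad07382c60331ba0f4fe7644b96a136cdf81121a43dac4ac656348d388d122177a1c943a5e0))))))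
noncomputable def cR_7 : Tr ℕ := (.node (nat_lit 105) (.node (nat_lit 101) (.node (nat_lit 99) (.leaf (nat_lit 0xa5118e5840ed6515866c9064e864846535e1743a42049bc629636042c359068cd106d4369ec525fdc305d528923452690ad0577f1422ea885707c744b039285815951e6839f64b26dc75d10546c2b6da7031e63050cf7c9d8802a621d542612baa4269e9717758ea24e220a379b0b36c6081d4eb581d5674aca04434d13a91494ab0c17da0408aa25416a97020a2d0c4063a6f87e64862618de076712dcfb9cdae72c5d45e6689cd3aa8454d647244e9a5c04795e787e5d8a1028585968c3e5b4dd06c3c88a3b2f5a56b46f5a4f38745b14cc298a55064fd9d1852809f4f68d54ea821a017c1d95b86030d1c00d1ea1caf735cf574497869b3a2294fc6e0a9ee469751a1c86c2380d21c0f41a3857063d0342410109a66ad4a3e85f7ee4f3fa2c220bc7a0087993c29a9aa455723e4aa4a995ada42901f961112f851708ce4645859473044d82c9893f2570603b99cd4641bf15a3c42de08943885646005246795e758ea8287447ceca4cb85149d059f78097c24eaea3a411f6231b00b7262a9d63194421ace328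9a5f32e8c095c425d801d920a007b48a821e159666ad6bd4f8b49e4b1646e98b77e8a5056f4bc9a84481a8cc81b57b7f54b880ef7e81e968715b1a20bd0d96e603644f179883e5ac289a75e69e07131234a7a713b559e47a4067320f4d94044aa4705ed1021b170f4631626ee4004d0f0fcb59905a965845f9c51a8379e4f034470684bb3e0246684b568ee4ca0e90de30169881a8467dfe3cab2958a15a080a955132aa080c0a7e09c5cd440d6504b52e37c630b9916f5b30ea69862a70267f110ad75d9c57d2392000398ae9fa6b461b4729071acc90b69f381430cc958d6a1341c65d8509a17842961190b6769ff7c40239e09128ab9248e7415b2240f771088657d1a4b434a6a45861636214121a9bc236dcdc4c2128bc960c94760df53314e210da3c63e681872662e0a1159b8e31dd3393926789967507a5564d2a9677d2135200ea76b14a57a76c542153e4a1ef316780c1c06e5139b67719dde0323f995d32499849d1d9327c7384883244834c4949776a8293daab978c08d84d1fda89865487a72156b03ddf96a54c131000563951a9422d397b1ea7ad38a588a2a12581d148c0271c8d58ae760c4c694d7219a1436d822e4413340d8f4ff139b26e0835994da3cb128d2a2feaf3d4397cc8c2a69501d3782c4765dd2))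 (.node (nat_lit 100) (.leaf (nat_lit 0x7a89aa64e01c699258606450a1727e22a58425e6443740965954592a46fa679ee7c6d5ff121f10edceaae822ed4d934dc75113229924f4245a8724242c61d405b2393cc0116a4b36d75915155cc7b5301464d025825767d340825139d631a5215f2344aa3f988b5774be0b4c7a0e6b9ddc27944d9c27f9bc3f735f39b6022c8764662aa68718759a54010ab504259480858a15219ab8f55c2381f01975999270759069c720186a9315ed2721492609378b8593f0a77c8ad9a0af3c004a41df0c9fb5f6a96b8708c55e778d0099002985b3555a40c7f82689379714b12b6012e34501218fe179ad3b9a98328c0e0a80ddd92a5d86ccaa138469805f81dac5f80761a3255488630c80b83e781511811a5fe0d15a33a1a7408de9360c010dfe2e5f99b1f828291969181e5ba385e325108ac40e8489b9202950e7d5990f73c1e225128a09004cea5d13a1957a7258f09d321accc746b384e47170033bcb145dbb5dce02561e1025856cfb670eb7b8a14eda362478a82374b4ff869afaaa5b7f0359d5f7394c50c50c690f9a8497414bf471cb074e25e073891166740d4fe011143aa167a7a03d7d8c67b10e1b1d0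142b49194563594288775c8f82316e14a4c8550b74d610bc806419768553a524f1bde2260dfa29848b0c3714628963ba9c1b529a7841b238cab7c0b09a408a78d92f1eb19dc6491ef274eda76422391175c1a53e650451b6dd6f2925486d2252d1e390c97d5e63084ca000b9b9f42d2046e0f694946680995a1d51ba0a8d688819b0175581f5dc3063e4a65d01a5e0d0ac3368e2b9db1040a6c4578be0f34c835752f4c0003ca491609a815b40166655e36208cea5c17a4cb7128cb7866a05a789394e748da22d1488255a663c5b671329c30aab0928614191f702164d67207ce828d62549bda8c44802870f1e79e4bd13dea8851d851980a2956fcb6441a242aa23ea501a93364425729884e5a57112618e3a11ea86f1495a56715415a3e2b60c8157ccf704d67f65c9cc33294d20c1445650d8206855a634a18523661604028c28b838848b55c9659e3f6b23998e4806d4da3da962912cb83a4124f17695839a626414c517b5b6a7c22a12763127e0ad412456b3d1cc87d0724c0cabe4319aac23cf77e99551d8b21c7e88e53a6e1c4f99b03db91d0ba97e8d35e4089c4971e1148c9e594ec6ae0b6a1daa04d4a4836790b380cf1)) (.leaf (nat_lit 0x2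aa1094b204ee5e5963168f5ea1d6f82543ddd8e00844a484282169a610a5b74a62b9a4e91f606290d9901f6a225d67621215d5892711cca7905fe440ff474237a418408b35e1f82fd3e1fe7a568d71d2a12dc9b0d61c69c5830893a00d383dc5525546a530771d70465c7acccacd8c2955271c3d34285594495c57d090276a0b4a99813815c27d3813a1e6e689860686c5613d88c978ae6386e361bf0d0837aa258d19e0411980003528dc2a42e3d1345016aa327e02936454db480565fea51ecf247d41058aa4525507de187d868a29f58e8426a9717d9f97d4e5367b285591d585a821a739a06612d4ec945a67f8403f711a5a445a91d0411e367bde279e4f06a42015fd298cb490c93e4e31992f516b41c18b3867056d396c84d2c879aa1e88c5cd3dd7222cafaa58d14195a407613dd033898a1c8e6da2c54e0571a0e2c694855ee235f13365246a377fdfa7ec04919df4302690d0e1f05593a675eceb559890f9b8121284dd3f66482990ed65c67311c155c6f2c219110159bd1e6ea3518d88708a046d879dc91306176b5802d6a414d015563e99812958fe07a335b6450d9f9ac0ca184d495d6434683a60be1792e224b8a65c08320200917072583f630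7d1253d5cf8b45ca68bd7243c5422a6109033e9625a1474d46a3968149901b4ac38a925b9f0846541de506b95e278de644ababa12520316bc6a9f66866e628b9270360345a3c074fc7908010d065bc4ba785d2f1a27294f82911935676f222188e59b98357cdd9d5cb8243a2e8f04b05b6929b2547a354d64c8c864aad1ae130c1d4779233bc1b79a598bc0c7d6048ec009e53a02c992e5444c4f80bd609d09caca3daac1464de08a4e69b1750e1b4abe075b06939d742217ca35ac12a769c8e821e6a5f90792dd9421d80b1090ae4958a0b8e40163e5a349f32293d74433a70b60edc898e86302956a9d213223a9c6c57457390c323d1c7c80f402537b017415031449d804ad1c5474a8973a86566a8a498c6460a23ecec89c456f47842cbb43551019db930289f0466ee26a2c64671779b484a74df1020870db5165a3a04f12498265019ab1fc0ca44025227dde5a880e9963a561b04f21b78d33151660b543759703ea5b68673628078fd137b413486518c8224ae6b081cc0dd421cab12a2605acf331d766ce938587e881ab4d4a39e0da0e486a8e4a181da5cc2aa08418354c))))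
 (.node (nat_lit 103) (.node (nat_lit 102) (.leaf (nat_lit 0x28b3b827018d8aae8a0adb76d810099fa2815732e697619d8a4800cd785dd9842e24314469a8675da467aa058192692e6599041109932150d9f62815c5379a5b468a1820ab1e0776b8203d4d46d5ce341d60300b37aae8ed5554a840c5f626d30844bb521a361985564b00d45f59849999156389c134be79d671d9409b47d1f93515658804a99e6238d88910e4e480d1aa1d26c40a3c402accda365bb3d1795e9097d044232421b15b29da9515e2784b92e9108359040d02164382b55f198c178c791e98c9dcbc8513c5b05b0bc0372eafa3a9208dad3e694a4e98745c836eb23cc15a6809752a66ea8fa408b3f9a55395c1acbf6111e9319ba1a3550874158b641a102758d52c63138c7320642519a4d83c9e8a884d8148a541716b11d016854646203076953e1d0a741235eb1724dd354d68aa501fc9f64a0b5107b8b8fb148517fa3e2609987e1e0dcb77c12f921745583e624888950a94563318a252a0789d0f20e4a5ed285f8ca324eb6e02a094e36f5b40a4eca5c07022806786a1a6378e04876a676a04f14164871178f0b47dc30a05388822125c962bc3f9cdfd46d6a5a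5314c8c0975e4496a5035d5ab5c0382913dc1e03db26cc1334dcf3e9ac06ce46be9fa81c5ac16d4ee5248c9a8483d8127662a318c97c1517d5263f579f19f036161a067d51645ed7b8c330a2f595431b641531a68888a2d6877cd074ad2ca6db03cab4005c6058d2394e63a1d360c9547cff5a13f2aa000e8394225a8ae2c9bd41935e963d148387c3322d93d3917a747e4ae5611d47100875a26086891432a0cb22c58b550e1016ac75ccfa8e9ea3017062a23da348ccac82980970b8651ef9565743a709c44b129291964928ca47b24751e6c431972192e4b434208fd764404467253dbea34240b2893a5c1011c270c1a0a0ef3c01107dc43880ea90ce49de55c9734f93d82587465509d61885c8d2396e181379fdf82ce8254c708e8916921b58a60985aa9a0721ce4490c814119caa6aaa64eda85bf6e4eaa21dc76d7f4a85a211881bdfb7f26b77cc4898876587129a39458bd5d6567c89023e158586e5823d97e5e3f23056a0c4156f9f9cc734df7281905296071ab334a59e202780925845d94d3a655eb4927b0edff965704d21948493189dd779e89884c27a0f44d710b933664451d42d7d68598e1a1855d5364044a6e69c21089bca9ce7a70dc71c00))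 (.leaf (nat_lit 0xab11d35625db8a6406a4388dd39970123c2b3a4e9100cf233cdf129f26e21b619f48b49a5c843929986048845c019b2aa3f8d787dea8427dab5ad03c05730e53880a3e1574b8294ed272ba2719d4b0d57a8ea1124964212695d0b940861952235f823a7a0a5458483c980f6471591a5186d7c5829c170258a667a4d0fe675026f21e38400b55262195c3b355ab79d214e04b1a62b77d7c0c9a667d252727303119738a73d5be7042c4b2922068a2dcef96a0d7907526df77996e6159b2f543451dcac14501c4637026a21bb7e0492a12477672195a38f5780b4a9414e73a404082a6728d4061c858d3c0558e8b9735688aa0c4231109824858644d62a2a851ff1664457a870a2ae31d936496c1c47e7f48d9167c5bc4e62e864756043129101e99b666020e83a9c76cc1a716a43589e47ccd2e18f8bd081bcc618203681421ade302d9073dfc6f55b410c94ae308a18d9945f8088ba11586dc134b58c2e84c1cd0b4a20016a1245a1c244eb018e66bdc4a8ea772c1e96caca758364499575ec0fa17155a19aa432d895438bc1751e23d5534e2ca705c096810e52f32c415c54ea020c43d3f7e615208ec3b4eea801d6c41b34aa17b88e7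00784813769cc10c165981ef18936622611b1f093a06670c04402f74ab48c9119b8860f166956051de7e9e5f51493203a4f3d8b3a3e98744007ce1d97d961124b1fd3d2fa960427b4d0ad1e836905aa9449f59dda2bc64ac8146d4dd3ccd070a8d085545d5d45226b1216a7787b2c8545417620e685fe525a1e14cc797813054c11ab1ac3e4e008a8b365b425dfaa54b04e9268ec332fca141a5e528907642b98cd19229930a365ae7503474abd61368fbaadd7a6ce444c8081e589d9953f54d141ba7d817665d515e7825234ac5231f0aa30da48fa625a4a389522891c3225c6589c97621a8f0341791241e08a09523218094d0a3c68509c58a50163e8e18cc70879ed46d470ba743fd6d290b191a015eca07a15f1aa560e8ccaa0a5a389d066710c5a58588c8813e504c54059d9315613ea9a7db03602a6fc02a5dd07f8533dca26c9596e60474cce378f47886e84d184aa7a925971168c4701f976a518da80de4238dfb1f577839947ad4f2d0665723532a221c97d511152ed039dc9343587668096b9b6a25bc091cd75a9a16e3136d79992397947682c683f14c9fc519641c4c6a29429089a3f861a2))) (.node (nat_lit 104) (.leaf (nat_lit 0x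113715569587aa2814695290ce803ddc945c6d12e5a84da30327d6da6021d571c910a3e1793d2d9f8097aa6f595f346e03949e6040f9215626bcbb7d4ac0f2020c29e7941158e6a2f8cd11841295c2a7c2d325a9788177dc43a31fe704a879cc50e12b3be85818d2a24b04a0349a016a059e619436ec5e884a0836b31e512416616681e169b74820f0fa3f420dd22d41069965a9226feb19046f86158342a564d356d17c0e50623cd55718415c5b6060a6c8d77eca365ea66f539108c37e8da568209251f0ae3e4249e578de22856a8a475f93b0a5ad5e90d8dc8d389e40c8f07d28e2f6042ac3b4dcdb9b0367a0c66cdf8110a97f0d84fca1a18f132de1308487b43f365f90a9609790a7b24d7c0268026ea125b85874432a48764c4d1a0096019715b1de116ba22a742f6853160caf08a39439ab2fe480baa009d7f4f03d990e06d5782f2a80e93856638372b41ce0b5119c4b9666f05fa35e3940a2ac24066140065be87d2494c8333e098f2ac98c1b5205d498c8124f25d9a7aa5c44f4925865134d7b3d871655991b9b98647d91569ab5a8519c888c7c910803d24203c1846923951643e084339946900d1adca4621424258470d1220244da6542cc11da4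ea8e1c718815753a0a1808690f6b2a19187e81d6738666614211edb0412201fe43464fa27e550b01341d159295f37c9c11e8895da64a81270ca64524b274f5a2c898552f67d3329dc01c2a74451e966121e00e4c9a24586c72e1e554864f88e1d5aa86dc73cd1d20860331ba832b21025f5159d300237b96817125aba088ed474b01d7c6825d5b8484582923d8419b07d826c667230ad15431814d65f5ef5e4919accaaaeaf31d4212a7c02e62164ae838354c29002a7f9a5277fe3a7ac1c7ca5d9b6835d2aa2a9fd310377a445351f605577a1d90a55d45486a8b0ff3b56b624681958d8add13ae3224d4c8a6289ca981a56e25a2d40e97152255398b9c4b875464a51de7722654d885c462a58ee5b2368bc03009003ee355c0e326a9163d49740b126d01254ea5c951001912e8fc74a9a8c0522d96d398fe7663376807762739d2757584e26692630b29da7b0216f7369c2cd501327901a773a1dd14dce77e932dddb2d44f550ec9c1cc408671863189d870154b3927a260fd74e2a8b897a6c016494f1367839c635cdd7892991994a5358a2d0048d05173ce5140b9638943a5e0)) (.leaf (nat_lit 0x13e2b1ba5694618ea114a6f97d806a59e0c57120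e7d71e25aba854a1304ec12765154042c4823e9240a6052d07df25de5311905a2cc023db0a1e24ab62c67430718854c9419a93a9e48e84c7654cd65e8ce6498e9d67108a3f9291304dda486320a9339f02045e053f498495b629c4f3bd91868d084a7b125af1d5529d94d529471915825e6da88ad6ee65a059a6a82b47de092c168f5d8450149913f07a362dde71fe4235d6e155c2466b11b16b7483788c40a561b141d33dd682bc6da5a1c282154208d424cd41e5595a573558538c3d7392f594a13257d03029988d817538201ca2d1985bce055ca5ad0c26b98934e11121491dd7b6b0d4865ec3ec1940d267f00f4624416433932473d024501112a6a49b20b3e04d69099aa2095115b3c21e59dbe5c8d94c6a98ac2f6547d2e699398b18e1e806e489022f095de8103e2791a7cdab0067896a166cd4c5da9c28a5b0ecec59a63319d65c22739222a465e395691b9830fd613caa532e58950047d250430027c10e230477e1dca60114b9eb590e85fe1f938792f670541b224178630445cc51a09a11829d1953d3c5b779269036068f12409e005805f5b5348a03637284ac02e7992322089a36173444a61cbe9c8916c6891eea782054575b550c4c68cfa0b45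76f6418c2463fe02099e9071fa2aa0c46c189fdfe7111d1699b3743428dcc31e931c92b882600e5c337c413ba210e8c57552c10a5da6c67259cd7b90a7d5f143c00948089657c5d1f6075298b8e980ca4985d027069a7d556d09a99a0767c533adcf185c92cc828a8e265c5c4ddc127c70acd277f634459e2040fc069ea5896a9340663d0b3490d22a73a28927dda664c958a60eaae7e2d5c052d4f5e44ba3cbc62c4386135038da8e87e7942880522218b024db826e0f99cf569d568edff578b63a9c81c6864a9d1275826f16318a979b986328e75f8747bcbf93e7a0150441803621d7610c49729a1bccc0f0ed8ccfea4a14a428e22d90636881ea74ab0a80c8f365142836a39ac6a774ab44948086318dc0b6a0e1658ba4e6aa16cb2205cb7e639ac959716a0161a0a00de0d59933cc11f1ad552775d68c53884472264019c05de376c094f29e5155c688f913a0a19aa6915e16fe109a068694a63d8946e4ae1ac7357c56a0eaf4d85e5b0db2e0383221d21e3508e43055027ed1e441df752948b5ed1e2512ec075444530d8a)))))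
 (.node (nat_lit 108) (.node (nat_lit 106) (.leaf (nat_lit 0x2b6ccf2196798a83e7c585a2a014f9002ea7aabcf3a31a08dcbb688151c5f0291672f07d994d40aab02dd085bda32f4d77c96a9ecf4ac42c30c589ba4f274c46406876d86636a35f4c6279189bc5aa96ab0505431d9226d915c012346a41657845a11aa0c52641328c500309c9b517860b48c095a7cdc081fe6a82f0c1c74328d07cda528938bd0b1ba216fa197f5a97f17959a6242a2e2ce718804c079bf331fb6a22636c94620b2944280fc830cc67029de89d528f1473ea1e600ff089ac6d1026b563552ac419125203521153146366ac16702150d1468e8d24beb4098f7998888fcfd190b171a257e0be8f8866bcf5095f760c42135ae3f0633ee70289657d824accd64ad438f44e1bc231883221cf6a3ab20ea1c4144f8d1500dd4085e0087db88ad4f771299421b6ddb0729091fc36508388e5cb05db98743c4aa35a795141dc95ed41a25037b9280ed1485a6aa74ce70530964c963c0e14809aa8cf17a6b3046a7758aa99df60a589849f62d7225d7c44c5f15656362a76316e96a5f3426c18115992908c674321ed385757e4568b10f3e14b8ed763881d3c43906c851f8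292625e435689d42e67d74070e0a2c7088d0e5c6ad2e5d574c06815e21113582c4a0352e83d3110d1d7400474a0e1193895dc24d20d4da454e5e3841d475dd144066116554dcd38318e9100873dd6661e958207a1121938ad656240c4021ed20a0849579e800691735445264d2b24c234e438c0079d97238416f51f516928b4ab7228357c7c658786655900ceaa68742991c32a882a1cea70eb7b15a66caa9fa4b6d4721d9561d67c924912a59a241ea625a4a6cf092a60819ff3a5587ac4b25aae64d6491d3f3b27f1e5265f8ae3e5e12da803b694014c2a5673495b15548f2be465892729e81a58ee39533920b05fc272247a0848b1cc07206773f8b84c9f556ccd48e7820a4268693902875cde63bd697cca0232281a6769048030181101f49f59daa59e2d4e880d5796cdda3c19a5da557233650de9706b410771b08a060472697769a023981a6d8df1b65d58457811a7a61e49c9e588a8570ca5406380b612491bb5752da65fa8c94d14e43538e78519c7bc0b6f1c5a1a134f511531e08a5b2711ba488920f45d46e691856d76811a88d94e93b951877656b86a6746a5332d2c82448042a103cd598ca1949191717a732087620a6111ea813c5b2682fc5b))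 (.node (nat_lit 107) (.leaf (nat_lit 0x111f0860387a20c141e0808d4b11b22c63ce78a98c3b628648ea6d8a58b8ae7c66c2adf79a4a87d26f1b8093c2224e6204da1e4f21c6adfa01c9619c052686500c981a51358c612fa62364c2981c23025eaae985ade185de34be159152d8651e4ac38029c0575855698358181844d790c181803e0785d1081b168407a4bc22e10501bb835466e20a50dbe71214415668f9965aa3b6716890599150003417a9cd789e57c9d8b3a49da5fa0c0de090d20f0c4160e84587d1588d1b8851858994a2420a5c1da501aa696d3f2712295fa890a572a841d59a950d9d4b24f995a35659fa8b5a533a3d6714064441009c9723f94b5c1026256e7b2aaa443d128171044808c3f1180b71d280b6474fe4d6864a99a9d4115562cec2e9913a4b8638e62d8701f6307da682b5f39b8aa7c26b2c23138db524885034902081323888040f19906b8e5354493b7ed386b63886d476e60b511bf821416f20e0c8439423c674ca9099a3223f65ccc45a8a3385b2881f160a00705e29019a6d882310b9e9089dd0e9d1cd760b4994717906f7a87379e5c704bd6e9cb6ddc86f5c5911298499825d9e26d9b264951880133cda938bf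3824b30cdd920c19e1d95fdaa948f669e583cda4954f9a54fd819cf551dc75551781d2539de0d43b8960034a877f4d6a12033528146532312a30b2a00a6a6098561d49c53d017594c3fdd354903741ca47626a3a827fa8c9fe04a428580452250c5964f4696563e9a294cf76a1e696d563882737c243702a1d89d0b986492ad61121acd8249eb0a7ded5d2b14c125ab92e48ab44b11f1c8895d520aca6349aaf98523ab25f8cd875d9ae021b2019b00104c1344e4c6403263d31e3a32e7c7e4cd1655717e07170a73bd9f93d458ad428a54889e2d731497b8a10bc7b27c571e4a31fc779ece4085d7719d470dd17252a84de27f068808667fc6a18c0224da67ada37a1a9794d82ee5d29a49860e191a1637a4c868db0ac7e600f5a70f2a64f8a594a5b0fb8d0308c8368d833110220f28645e834528046a885927d3190f562a44315ea850956ea70949e681b3345b1355af34d935863795c919508f9688d0e4151554d94553419507bdb48153d891db2e5ce77cb7a4ddd2d4e50a0749c26d2a5f59a8af7ca672b1f85dea9a78810484b21c0f12484030475e51c1b4eb5cd903a171634ee5bd8a5ed7d8bc514e84f4dc534d111875ac)) (.leaf (nat_lit 0x2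2c840be78c869cc3e615f1135b2aa5de9b8dc60841a547f7a9b70019d84d4ba991f30c2089c90729a4256049753c1b4694f6415b29f548584aa531c85553a4d8bc775215a394232ee080a8443fab49c0823e5b88d86f472a20dc9e39e62890182b9f05c47c86103944a712e5f6d1e6646031499332e1f8768544893434d7a2d9e26dac4667ea2222320023e8bda0569011644ecd48de42a406351d288e89c6599f25a2645407598c60e1cf380f46fead04d080f12c5b92f5055f92060500743658c49d076a21528caa0557a8c826814b874180282ac3eda17bc329edcd1c2566d64a545c1514795ca5256cb109e0b996b14011d3d88564a697d6710d2a5416603aa112ac1b7560969819378e603dc5a6456639e90a0c0834f59d883751f460d101a93e23cdf9ad0ca603f635ba79cc4199560cd22a8cac8a41d775a771ccf1a2506c4e46ceaa6bc0a9245b53cdd8b66a6f02e7a010818b711a0f42d2da4a57570165e45d3c1501665850d24622a469489718a17b8eb03a6f2b5cb0a41f74cecabe7891084480b3801e13243aa0a8d45d323f59b5f9161f620a10d38e14959d754e0768fe3d4dccda4d997fc61262837e9181459486a9d014507f5ad88cc7005fb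9fccea508b46899661f94cd13130cc878c59d0213540859563349351928e8f1318c46b4ea5b809d9a18a514d6a00e1c9b48a369eb61db92e614036b35bd309686c4ad7b5b55954e4316a4e739c2a9c2d485c9761a23ba5c27e198d178124b6858a441a6621cef9d60a8a82b202453e181109d7a29fe11668770910f58643de40bd9086dae026a062436068c12bdc4239df9f1972763b4a5368c0655554c3c64c58a351b85f91d60509745780ba6824052ae6f8f35fdf81ce7a0c44a979f62a1c06a47a5ce64385012c81255c3ba726311d2662df399e77794482d52ea450e576548cd771714daae2e519bba869770c113a17c894b09b0ba2f02c289ed7593f10eb23a523204a61507e8857d8e514a3c4e680970e595788ca346872529e01822358d8a313490062955fc671aba009a3404f46e890714a5a1449664b551701ed6b05d5842a0e85d0263c88730717c8f7aa2b03b5d2079da1e1a38308c3fcdb84a070310498696720357b0c2096289e4f2479f7744409f59a3f0e2235e0a6d09611bd62857586012d1250c2728aca92fdaa76c92445b038c6793e3e1d5395d85e919b6))))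
 (.node (nat_lit 110) (.node (nat_lit 109) (.leaf (nat_lit 0x26c5d4e6610908a80c7d62f128fc88a1d4e84f20e6e38d2005233331dd1f2b41c18b2bea9635fa7ec04699dcac1534c1884da7b04179204ee6bc6a9f61474d46421d80b27c968ef17a982faa82c87978a367bea305d994a62b6de8426963061027a4408fe18598e23cca60ce407014e82c3a72e093795e27a3c80d163941b9c8f62325e5aa8c9fa4842821551f975d7c9982e10d2d6fe54055eb5b50e256a518c58a50c540585a80758d0aca76ae31c6b78e9c68cbb6c8a2225c35ee019e0da28d86a1a699953808226119bb7e1cc0dd425c0fa96ddb9302897d233493c86db09b4845dc13485ed19a432d9769ac861e2636d5f3039268a659144f124982881ab4d51c7c80f9e63d3b1966297f63da7018a81cab1a5c5f67cb4a99813fd1d08d7e47a8814a8e5a1d484c307650792cd5076629c15b385890f956015fd9083443e0c565b971962281e8a493f5e08b3dd72350ca1850c919df72007515c90f15057cdd9d6048ec00684fbaacc967862155a9a5a45029e0319031d9d1158546f96b7aa8034c934361e3629f8387d46cdc9d955ab4771b68d2ad066929b16e675013997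12e0a5611a1b1490ce26287869ce682563f81e4ddf66e98c296b36386e2b80844a38165052a4b19847a14d346b235045f056113200e821e6a2e8f04b22e49c0d4ade56ba604ed3d9bd3304a2c239b66e0484a1643468379e4f0694a455cd27ce0570d9818a4442417f9d00994d4c8c8359480c6120ae49424967996e30a99a3cb31eddea259b32c7ea4e166f627115ec402533d025a068b1919c302956aa518c82266250a8a085443b2767337d180063a845e40e5c2228a16ce0542d437582d8f8b833ceb5e84d95dbc4be253a436138f98a24e656901419160d9264d9002cbd1729a8e6aa1094b83dc552519800039a23136dc711c736b55a7c6643b482312b2a90b016911abd872a89187219214cd47c495c57d0908839d74a796f12d258c1f46d01c4c4995756c1c5cf7f0418354c9e92a54a829c41930c573929118067a9cb59119aa28657ba23650970c94774a4a0a9da59cfd23d80675a56a197058b71d2a10d4c1884443ca52251699fca73d4d787c3d91dd5512154514f829ca9d09c5800245e020be5881e17504382365d3e10409e4d5cdf726e85594d04f87f2fc1f78655131228906f70557712100fdff46a373a8099dc6c2e4ad1a6ac8b45d2f1a2))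 (.leaf (nat_lit 0xe05ba8304c51249bf9ca4837a435fcb393d3262a20499019795e4287b099093659b98db02a03a054750b8e59e4480c51c5da7e45a3d309d0a62185180820087a5945810d44153d299d84a53b2e9f07a95032a3b0cc177a6a853934ace2c22c0a24c627212b1a89a8b8b19d5df79566a8e8e831810307c1c0dfa06516f4fc62162476704c0af8cd0b672278c8a0076427513f9b8e65e47e0042d0ecf46985f0f9fa875aa94ddc564d58f8c39288212d44828d77b96c768e45bced53dd50bc3516aa7576b247c16110b571e5829c4125c195f6306b5699d0f581e2165c640e4453fe6256d8d889206111e719b3402086e58992c1013c90052059423a301d684d9fa4a6c7ecee62c4a0d2939cc05148e38bd0f7099823095279e7534c84d4b67ce6d4568fa52035f299521fe018862100e315f97ad6aa82064a2894f1f2ac5821989672d2d0ac9f6d5ed79aa55503c1d861421998ad2c2a63563a5a3cdbe918c938a847bc121e86e0456b3ede057cd32ca7d7018c49db69a859100f76a418179ac8e23f745a1434940094c7497139e19451a580a7f51e0d220496d0c49c61f6752a911f12c03d2641c244b772a521942a1c587a7a1c4c6a45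6a616b8ae432ab679633bde2850071526f448e815855002402f9d38d93344c0d14c8e37572a01af40a0b6de7c318a53c245724790b103981584eab08a9eca895155a88764b4094a14d9f5ad08a274227a168a99079eddd010832069585943a5dfd5e0e15fa115d6a94628b0c023791533326b3b1778f1d799a12735105901b1618f484f118c43085de570d1905a79640f1e072a3209615b8924cb3594a5b61b6ae543d8a40690e65a298d2af496a15828a65067090737d0aa2707488d9a59e7a3c88511cc191dfca08cd600fda46645d111855176a0570c86023d5273d9546555680460de698e4eb00c5073a767322697db22ad9333c770a5e370d9087923619bc52e4e6c4fe838da5c286348891ae7876e2552468261397e2ae0a0a37152f339614dead8a265a743602d1ba35382e1f699e9c50a01a6a005ea9b869406e86d1f5a4958bb96c5c109924929f0785b3e9a3aa8bd9a0e95ee5c360a2082573e52e2b231644dca1d066ee4c31e9083d8336c4e135659dcf8412247043f26c1f235f72b46909c6f2e5c49562d3425d786ac48a374f8bc1fc3817617469a255d733a941841ffa14bf934091b04c))) (.node (nat_lit 111) (.leaf (nat_lit 0x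220155896324a331255507e3019a9e0e4049cbaadb0a4690ab8286510037d0b1a8aa842657d99f29c516edb55749e8a10211d974b09198972510544265a819a855506261f4559f579c59874c653d209d16420e97abd61a3409739d1ac0d6380ee0592d8029916a4158c779316b240b344dc60368a340e936e956b41b9da49334ac26d429be50579ed4fc67571a069d4a179ec915679c223920347e8b749014606ac228e3468757f2610680ea19ac0f6b2760713f134181779186b5253b0ed96860458c8b9281fd2fc72865df230f6020f4aa29e6f5b43c405699ee6f0d4091d4395c0a2eaaa701f611103a22b1ed7d6023b2d9164a88e32d8b975a21365743cae51e0c7c86294a0e7bc17531cd171b190c864767a7c063834b05190e9ad5a24ea0a99574a4494623c8b17e5c239235d95f2043283063d4b7861e9127b21d7a4c54e0f1b2a080f308e7095d2a30bc28939a06365d1dd9f86e5b186679b7006a53e8f83e6a46e40099e586da35106115da803fd372f46f355d08503884de828673670424e0bb15c765a63d16d2f534316361f0b25c71c48a52021f1174a07f3998804168aa41e3629b209582526c5210d2be566904c8226d685141e0b489a5f7fd8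52c44a711af5b5900de4e484c45421c7a4589022447a05196666aa592990751499295a99a485a61910861b70c0a384eca7403a7dbfa9cf03c8f70193d7dea230c3a6619576e178d284275734ad3c4d43e3f630859995ee2d28de5599da0a67d34473729010fe3164d301d1fe7ed6e9822a8fc44780be46e4f13e075826e415402b4683bdbe829d50aeb4370ce3aa897200ca162e3643948978205dc88833322471b4358e0c7249eb2e07989df9224dd608195be8f09cd2ab41d9ddd60b688790564995202e6425a517e20f4f8a8430524115f950888691c1018e4c89f9f17908d3a6cc6c7063327103a0c95a85a301e0b6e8043ccf5186151c13366e2f304fb4d8a42d57fa1c6494d591a65556c972a50a0c9cc9e418324de04dc9a482098cd71e9d3444468dd83045530b92792e216296578c7d80d717982661e9a200d348c5f7aa7113a097c49a9a9a5141412ac2f4656a22de28a4432ea3e175ab072963acda33eb375c2a96e3aa4ced088e2ac68e73dae70815675de71562212755451f3164d6483684a7f9ca5e23d12806254b8b24544b3f975908029a1b814ea37cc6642143)) (.leaf (nat_lit 0x20018a225f2561288256a2d782540a0f0a502558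085976595e98d18dca880486417887a7d7f5c00ae976487d5765c2218fa682480d8a11a5389e657943f6a16f47a6f27a8655cd4005b034a6c9156d6883d91ded031eb5ce4a105e81ae2ba20d66c83258a697e9e30e1ae75a2993571696618145b6584f8ee7894576285a7ac9b407eaf41a7b23051671664fa8d162415a199179d997ce4ab01992de27bd6b9d6480729098d6a8f853891be85e0e0b5ee7ecd8a800d8f0105d2811717e7d0748652e558187dd9ba9a848e56423d12a1c9573013a8e159c5f1079db8bc7984df6365d4aa2310c206a389fa09115967f0da335fdd7708117864e7cea5052ab7c1881dc94a15679b9ac0cc008d66b5a5a41ec0ea89d17f194196990b29f8619193c2a778ff96c8440d8e8684309a967161b630693c5c8a7067872025550121d58a458ba7a1657881969ff72db60a5867620c06aae6e59a88c4c74e835ec8b9e5798859d8deb10829352835825bf7381d83c55611055de73262aa87e9d65c969da07608e56f2b41d64279c5fa2a928a11d5ba672366aaa5a3774021c2257a930335981ca775c9a68b03a6ee2a6a6432766d5c1e46806e67a086b4f535ced198c9464a93f82e29dd0544894254e408ac4a0cb1a9388489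a3a9164ec6839c163c8bd5510c04a30401802bc0f43e803e13544cc73cc223690a54c7a1413a315aaa302f4a8ad15d3714910535072f86c9a0e01e0c0434dd38cf93f47f2c28b0f1342c454a3caa28cf63087c5400433cd35051f2d5431011c95c2749cb4521240f9462cd2251c714c95b344b91cd44354ce020394854271e1110845501c4515dc0186f2dd257e491379df3ed6112c61455366e1391394c82d293a4ef3852c15a743b01b46d4f125048fc47548bc3193c460db028e69e85929490998df990fc00c3b2da4c46a461f9b13b96c7b226684f42710b7989b2e9b301dab4bc056be8967e492e13f1b5e942023911177c8e824cbba922e614344b437525d505e3852c767d4f79f0999c8a860dcfa85c123aa77480929831605f88518925ce258d2b8400b941316f5938f4ca248cc312b03708a1697d828fa5d4ae1750e8eab36e815451b7ab5cd134c89020d768602aceb9c2048759521a329829b7182148126948442fe5870e956d63420d5f340a29fa5e564804cc6480587954c12813d724b2a60a430d237f95c98a36))))))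
noncomputable def cR_8 : Tr ℕ := (.node (nat_lit 119) (.node (nat_lit 115) (.node (nat_lit 113) (.leaf (nat_lit 0x1ca214b51e4e87a8cc7ee8eabdbaa75780e5dc16e2636d14a29697890b2a65b0a591089894c27c67934300a66a26e57c083ca672622a7087e865da3d63b3189aa5c455649411a28790ee832908e4682dc82960530f8fb4b94b9953a660016382c4f45221e7a6205e4a51764d7a22a4b2be4429c4b5ad0cacc9d6e63330e25802b043c2d8c5bc2ec4981ce4724e634d839a41e54e6c604189bd50481df6519c8d52b11c28ab5fd190d50588059d79780ed384ac939cc1123eaaa9a76215416ab8b0a24de4a62e274b1a54aa7458c6a448ca9488871e0f3ac7797d970edee5c45755523a70936ba3f5be14776a34083c94dc62d09787ccd758dc3a5a69cc1451a6063003a19393f9ec9c592931361c411a2df0154e2106a13f4d2141617960b1d9fc9148122cae7456213d1835df4182222f4420319f9ed3b00284619a002ccfad02a080d8544c44cdd9a615849dd523caa170da7e21840db6a91c8a20ba159ef1c2133d11fa45609412431e70041aa02a616865c641422ae11676875ec2339e7520d666bc6151df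51969f6ecb04347ca491e8346296956a89b40d970ab8f70115a9a9069a01953d808e8ce87a015b2b20c91d24293034026dc38ab10439492819fe880637c63227c9e309b85b431428d07fc69838b21e01a5fe6d550159ae7e4c8063be9b07c12735382f1847e6b15b90e8b4bf1bd6445a8f231d092621815f3a652610e3c6c0c51fd73705b23ccf663e5e0ad3ca0d9603a794b5137d93e6a6595009b016a0798753b210784ea950b321aa50e977270305a9f2382293c501290ad2364d0dc7a4426698d4a5218a085a704d28238a3a167d1c9494897e2d8958f4cb548b88dc6e849250b9215784873cd617deb8683f72e4f210fc4d474609c003e5d504276c51514689175f7891d72a243636828d1e716a8c750b946c403c23685c6d904b1a51ad1295ba54de05d659e1dea042451187920e3821e85d2a70f638150d4098097157c8c0588751a225085c833711ce1ee04320356f62f2851c5386c655ab076645301c365070d2a919e02871be2fa2e66e7778c965755c944f83e8c9901ac132576d6a87b60a7e9b35a06651655692094fd9a4c67f5d8a03fe1691c9174a2b374599c9a21391188c995d500a987d70e5655e1b7a68d4644d919d3294733069e6fcd137d99a00074be7668c2598943426035f5859094d0bc1ba59db1acf9))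 (.node (nat_lit 114) (.leaf (nat_lit 0x26e21577402547a8cc4cc9950dbaa74b65f48e16cbd68e8025569789d30946b2b5912998929110909fc8a422381ca04c083c9c3a34c19987e5c88c3d59731a8f7ce30036898c4bf7925a0709b655b15e4823b0d5608742894b706028f001638b0aa4d421e7a6205e276838dcb87624b0ae4408e36849d451d296e4488b0bc4e14475c2d119bc8923405e509b6521443f7160e54dc80f60872d50480918e2401289f8c8ac505356b4538188059cb724a596a428939048bd9a4f9f62296e7353f30d2e7fe4a62cbe280dd27a7458db39f8ca398889ac1f95cfe1be3b5fe9286057025237e2881959b8596d23ea31ed8039e6a5da8c87c61439a4954de9cd60ac8706300346a011ddec9c592931fe9855d25a94155aa616a11d850349617941b3f534914817642a425623468467e981822289986560d79ee0300118108d855c4d520ae841a0544c47ec8b7d00c49d0d77426171a2a71711f1b6a926c24d7c15a939816c3d11f7b4143912431e70570e2558713646c642ae09cb19051b2e4a794e7520d66198cdace996ba9f6ec2c755037b91e075ab3b80aa89b40da17508f70100e719ce7120953c3c6584c8793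984d460c91d779ef564026dc38501cc945e005936881aca54474ad2a8adb8850317484e4ddb2079743fe0a0edc95520571d127e8063bdf783d5e41600894404c545855d62262897d64a089a7690892621056977d5268b99819cc51fe1a994693ccf663c6e2be0445e3a56a792867fa6aaa384edab290016a0798fc96020786563a17521aa55f8b54a0305aa966a0c03c47a4c02976e4d0dd019f1c21cd4aad18a294df57c9c7712f46511989494883a5e28a664cb5497a64e5e5ad250b92104a3341c5417deb5cd839bce3210757f4fb0fa6456c6dab4ab1a28134c941769b2ed0f0924363516125e7168974317ba1d843c04b5c25d676117c0648d40f7c5a681d659e090454a8ac1879224f061e82caa760594358522a9559a4ba11458876868b5d0864339a1064093c320356f4444b51c53a5c8e462835c05320c685cf0d13d6c13a871be89c438fe7778e8b04410394f83e8c967063338eb6d6a8a441a4c86a5a1afac4e937019aae3e7e5132d12c1e16f91ddf428c2694599c8da3427d88e8e2cc79a987d99cea02e1b7a498a14cf9190b086638aa9e6fc4f69e3d4500728e7636ca91caaf7453b0e4416794d0be0b7c88d96cf9)) (.leaf (nat_lit 0x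281d89f1f45a0cc6f08c7c931a5269848b68e84a9c8ede5649678a9a34215231923a49fb2fd7266dc30f40482ea795a50500ae554cc479885a58f6de41a5a644e8b442c9415586719987dcc3449a097a8a83a058e14c1e00b1a830174010706d259b52f02b779ab62d142dcca892b494cba41994749a480cfc2b4d54b29b92a4da8a705eda773eaa7bcb609c58344d32c1287f5aa5e61baa247a00c02e1992468b158c504c101908d73688980c930597481f1679702cc1f40c36634a3198171ce444d2b38f985a31ba631eb3aa9e78cc8518bd45e59aba7c12c5c7649910089014810e09312020884ee1e55e6b9da51d163a0f088e7237a3cab1bb7a96499e198fd0438536118358d924671c54465da3cf552521470f9539784fa9371df65b40f1fe8989652a10e94f51576d5c6b52f7451d270510b03100088240520e6748106b4a9dc922947098e4ed0a370dd4c50984e3a9b2636be0757d186416652a9f440ed50a7f8ae5715082606359720d3921a99953488f47c1ce668e21c17d165ec1d0a2124619a15d295b669a54a80d88b27e7e062840063e8672283f051b94150c6a0a72be1c91a789027388a4b74e025d96f4caab274022ac8c0486515c2e02011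104633d97c024fd4acac7517568a759269d960e69f61d9dea67f9cc6a5338a1ee13c374a5625c535740d44024e882a152e1f788eb44cc289a83ac84201d5b4f0db2ca4285e953352e8d1b0505b80744a1b03221c5b2782a1dde49a8978320f3ca657b4f87216c65a5a8a6ad520e72ed60761833ed745a0f747ccb4fe167e9f27019d22c7e8c5576ccff9a63da45bc58d8a705f938173084fe20276280950786e7f25f77de13b0da9c681956a9a088e6b0345a8150a4531d54d7116b5ea3396d543ccc4861e66d1918526ba68df41cb906c86359371169021565098161409298a30498e57255164df372819584a146c7aa1d7e565dd180b543538a5e6e8dde0818d2600e37a4719ec4375c252c4a94b4ce7a19535e01608d0a8e7a90d6e03a2f0bd4f0f0690303b8e4a833d0267dff75aa487a79ac51a364ef7d5f468608828c749550131bf1a26f2610f405b1984a6569bd5150e3c6b089e85a640a11ca417c2d20c72060449154313a324c156a62159b58779dbe945d54e47b0904d1788400c220f89ba957706aafa1a4f2f9195117f6c9582aa006248f49c0d8443a72e8d8ba09))))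
 (.node (nat_lit 117) (.node (nat_lit 116) (.leaf (nat_lit 0x295750e3774b49ce2a625dc665a51a4d202cd86588c4991720a191bd594200f72e891cd7d88c779393777c669aaa7a9206501467b5e24cc7a9803c7c0db0a69d5d05a510943f93244e146a68c365b564d2483a4f3049c5ce2d26e973b8017667b13da0a0e2f1fa4607dc7129820da019a0a241a5f1d15a9280d3ddc0a408b80d9a82891441a7219af6d80aa50b260d775223d971f831cddaa1ac3863712e4c9c0c23fdca3a95319233101225a5818e213a19b8ac4151658b126240e90001293a496679e004a53130dba080cf04e658e57a2ba84796595912d2e0ed07006734e526191898934098c4745d61dbdaa41d2bde41153e2fc7f87127589bb33aae949674a8a5a01e9526750ba8aabd395f1fe4acab11a878810e278d43c017451a8215529c9230de672f4123bdc81ed5c9221e22221530678c298001d18a06852c3492e798fc7c6b4279f83b5d54390a1b6150965d25835b1aaa9f6f9e62024411e075ec5c508e0086a5021923242d7f66c2816894410a20f46dc2f936818c5fb2ccd0748ba40c6194d5d411ef69a698228e089c26a8628409943c51a69cc3adf2299457d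8a751cde6ac26368332fa041d6494f04261961534023d69c3a4032c636151545b8632b1112d40ea3cf61d93b5603580a64960434b8df096a69743f7dd1e2415625a258faac059e821d7828d9b472090e5303301471a8b0e0bc7fd6f14d5b5da41160dc6c8289167d23a62505f1768b79ea99740ec53a2e5c91682c509ae0f3ca9e5550d4548484a5a1b9632c044a09bf06cd10313a868ada15e14fdfa859b9356b0a6dde1c1a186056951281c9bcab41e35a159fc788ac55640243909562a2996d940f4cb16e40248e2a8dae2ee3491e7498570a580774c9d4e0833208d7f0113cdc96cd1867c816620c22a1d41ca1761cf705c33a12c5b6439e17125e716c02c8ec8931060979f3315d6aacb9601884851968c7d544093e1c40c26e3003e9418446c9f4da321b4e606a7715ca99f1ea4d611a36b4329ec9546c594413f42b7385e63c9a3ed8e78ca87ac486d2b2066564bc6b6797f4493d7d5f455ea0a89798e85f1316014a6f014fa292635a9056915e430f93c59d23d1f0c8b652901542355ae91754e73350a1387187dee0c5f99b4794d15f99818715db9d84d53d6c1962c7806a95cd375d9c482058897e42d1a85da22aab308e278f0fc6558d318d70aaa1))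 (.leaf (nat_lit 0x13c9a411251cd3eccc0c24d5ac231ed1b3660a8f44136c019c188824adacc617696d6b9f6125657a1bd5e8b46a0e49503109267480632ca91520294ccc3964d3a5e321a4794d9b5225766b56e75468605a6671de341ea388a78f20b28d141b2a97eaad4627a5a4e56c26464cc0924f387d5452e75abc722a49d815c18ed51904fa920351d5ee2ed300326e6ac7f26927214f140e9b2de558584a260f4652585910166828149771e9f48769a600c16ec84241db265d3416960348091941110ce93d854197090db44026a4d65f7d4b044aae9d8075343b8dd569d0df83dbc798571e1f15ed7e0899fa3c38152729e14e35c3a298702beac8e27b458826d924502600ae952e4ff675ec33e5e58446258b5a2c129ad2e898953f4f68864c6113a040868b4be099955151f8808794cd52fdbe6a8b381e3f371490014a2851a82271ad0ab98df8895e73d5d96a59660e39ac4aa4409c3600554e7381a103759b6901725dd077d621f9e18ac1424a8a1d8bd4e2619b5683e0340aa113f97fa71ba5f04b20e7d0865b75163969997806a09e9e1f61b8797d19477346270da4a32a2375e89695375d5eb6dd67a4eab835152946b4443f3863aaaa42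53e143348c178c7a90ea13e2a48c450715d811c5644086283e7fd59531c25541aa1da1910c5155076ce173be6c2d9f03a00a165e54f88fa410e91460a96353a56f41213228506e67f16aa878e654a415399738cd3192cd263d92631ca291582815b71113625f9a60c6518d4862855c6313b1c8581fe57c427f06f719fd369fb61e302c44e0792ba0d0b2368e5106417266082848650a6bce38bc4c23998a81664313b8b89307ea116ccb945823acf98487417e8006d2f73d090b81968d1d1462c3b6564a9252e234a99b18550d9760172d5a80c7370c046358b2a157700c4a668c51e865e11c3c21c0186d800e080a0c5427900cc97be7c40853024f20dd6a43da702d9e5d1ed6b1d67749b22e816e0e77c858059a0790665c9d24b5cea74c22442d4d013618400f18e2b9c99dd178389f0e67e5082c19e948da22205222e81d10c712795c54990ac0de9003d4a2578a126a9ddc4f5329710874418159e2688476c9f33b80e4e66f91cc80ce50a20bca8d3f8a4323de4e9a12c03e92890fca091ea35e90bdbf761cc5b1f75e47c136a265e9f484881225286a62095433585d188a2009c74655e8f8acac86e))) (.node (nat_lit 118) (.leaf (nat_lit 0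x2862156e0464d3ed813129b20c0f83c4553db24280294d7b9d08c5410b1d8a8a919f8f91f081c00e134a963f39852984ba08ce59962a15eaa11cd2844bf239af335781e290868047543b4b49457a692deae6703c255ea56a6d262b2660b30fd297466eacde69ac5e0b22064cf40aa33456995f8c75ae8421cfe04e4b5fd6c8353872c2d6a8aca80158e923725a83a9561a0f1289cd3311240de21406f65258340bc8648f7c4bda3d8b12080805bb1ba43385bc13d475a8221fa669158615aab5cd537cd8f354038518d30a8a23527062370c13c71e9d698b0064313b9325c5c2610e4109a126ca62d92c4760b5045336e825b47260297508dc924eb2725e188ad6a6277293927463490cf629f2524799edf04125a39d6428dda4823d1a6a32a56276135841b74f5fc9381035c84a1db87f69c1d191a2df70010c8555110d927e08a4c0d8681fb4cca44f9b61a9e40a11017196ad0ef9bd580a45d73c08415ef5287c5e9896c4929427112deb462313dd5f24e1e0e9d6458f567460450f2105e1abcf326a6a731f5a26125e477436136c15280146389838140e381702080a8a12e1867e8ca5f0e61f81cec971678953a0c9dd06925976262b99eab05599d603d8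2145decab66875dd04aa222d19716e3509de54a0b25649030d4b35849621067b8068628e1e9139b2b04ad550aeb12d45f48a3b77ea12ac645a49e3a63ca89379123402e21a4a631fe2c9f5dc59a06928147e488a0cda6d1408301221a98632599e5ae014bb9e9773388b9d4d3950017d8c0640759ce52111360da29079217666058ce80dc1f2aa9a314703f24c7f8516e60e318fda15c125c718b4a75bc3e58582478b8329e0a7e930b9018e416a215443a701198e43e4f7d1482040c32e7c6e80d409ffa44af69c657213b8909f96ced695c649a764254da34075d54e85dac3c0ff5a0b178c663217d28034902a82851c716a619da438e48809006f60a134c91b29680dbea064268dc3988a506dc48ac33421ab5d8be12a575d0d19e1de10054365ce7e8994fdb56567f3787d512086fc098124637d45a5073a79110bd5788e3805e3668835071654c6a7075db905ad9de5561c91532567b5071ee951b58513a0950d72376801ac4c91d5c3ea6446de8092a91619a3e11974dd486c3d8b9e9468963e55d8722f66d99164b9095e78c12f875d21682656e165f28c94489351b39c8c1)) (.leaf (nat_lit 0x2246790899cc512a4c1957682573818c49a1dd6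7226211121bca62e20a5d5744b64e9c95610907216253016931a502898f934799a4834259da00b20e21d6a0fe1991e6187121d516aa1b23cb39fdf51ba40540880fa5f4ba112655553e410ddf3a0467119a966a427e8543261c7d0362d25a1656b12cff99a136151f9ed34801de2416116a594dca59d5ff4d6794852026212106019cd6d4e25860d3f8d85b9d0ab8522d1e1395b058472162c49150d4d79e05645158796226e7ea1d132f65e7a15f2ec32641844196351635694a1451927a4532f144590773ed1d15dfc9e03b4ea565b89385d2717047772554ec559d9fe2bc89886342485d4992560495685035983a2c1fd2683d95cca33136251f94f0ae0f27754e3d569f2a082d86061985ee8bda4a11f02e63e5486d8808a68e3041530609e330d026888b5646b551e1442835048c8a17828df11b1588fc9e831195bc2e655e59804c66e6d1d4562e9ef8349d62a33520749b9991384d309e4594765191b62c9c4ad4b1f9d851c8679a078a98c46a0b5ec687ee3765a86189db9ac451c10d9118969c4392d2f18c31924fd9a92c0e50e6607d530cb1126c191779299743e295797c55cf506a9b03dd6a75c635eae76511351d5040d1060f76b0f1391b38e1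daab6ac01dc802e8ca4a9a6b4f690d0475ca47366f71e27045aba70190a1bda28eb0928f360d90121f2b02c098e96d1be09ce838dba0acad5a806022ab7068b0a9bba24e60a6155c8259e9bc1eaaa93cea39e886fdd433ea0a7a9008cde00eb25098d3ccd26d693341d3049b2074f263940ad2b3700dda44f406ea204dd2989336c6080722e37c2f3c014a84ce13de2a7cb7079a6368d3036a87b6943041753aa672c0536cfc725600326339695081b0a15cca9c0e372a97281fa58ef0c050334e18c415841d1972512d9946b91800567359327a8be976a57ac0a5c6b04f51683d873e87f9f62c96c517b20e45c9fa65c41ec02888d58edaf25cb57d8340255c715003e4352fe451a81686a987e2b12355d8e8727427c0cdf71497d5ea3c56d49a90e267dc3991ce100f8921932090a6da713804873d0b4a46991a974aaa3206af77d881ce39a3a2b4308091d794a0a0528a70880031e3288e652a6040fd80259236dcee94a032aa705a1011253117e543b1b8489248657f5c2531813e239e070a8d809b9178ed5f8212a07c680c8)))))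
 (.node (nat_lit 122) (.node (nat_lit 120) (.leaf (nat_lit 0x2a71d983855480cc6f70956561a5268a0625c1849d151286255678a8845fe2e7c923011fb7ea3149c0f32e9247c2858e50501e71ec3e55d884b6266dc5ca58c256e7b275915ee1f71a100ee650be183268a6588d5e96b9100b8d1ff9080107254408d22f02b779ab3f08777e5f636b41b0ba5f4923b0859a18b2b6a91cdd04d55937e70155a7a68d658454a99466d0157a6587f5188dd0d0a647a002d7812564c095f1f13cdc454605022889825e0ba0f830c5678659eab025e6a892205c4f14b078926b38fa1e028183f5eb3a9b14ccc8160bd6a5296fc4678a419de2c98c8938c819b190296b1291d44c55e35e78165a8a669088c61a85456f4197aa57809108fd040964b9f0358d92467011869f53bdc95260d23cf95b53e5e29371c3a539c31fe896386b2a8e95dc881453b6b52fa7090429db0b20000115475dc9444d9a652968529229408e255709c372a01e58084d430e0403620757daa24c7152aab865d350a7f261642d882606357d121019118e62f48814310e5498265950651dec1d0a229a7280d3c121b66986d375af2667e0f14f660e43e86722a623d1b94149e45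9957a10e919da16c4c889363b6675d96f1ea9f42c022ac8c3c970684c1735c51055072856a2d8c1c8ac3b97520c4e4d1b04a29711d0f764277f80745de3405ee13e6b9665519a4aa6c1689d5a28cde2c58612ceb21a6463ca9ac8427313a574db9e45d67e953356a1aa9d505b8075e194e01452404302a90e850d90348197048c37b4f87214d8392a8a5be16a982ed609d89f629745a1cb82c3d4fc7e2fcc6a359d22e165c91e088ff8123d00c1a958fba38be092326c8fe201d861192abc6e7f0ca2dc4a748da9c681588d52a2066b0344b8d3aa0b51d56c0414c8e0697ce3004df068287344948503773ea25f8b906d13aa937114f069070388d4141940fd54669ce3d4642465b3d9bb7bca146d3279907935dd1805386d3839a6e5e4b8239b5424052c1662d04375ce152e835a4ce2bca76b832608d0a8cb31dd6e03953448627e233031f799a8233c9685c3075aa4614b20811a3668f9765c15e08828c7664639ceae1a26f8ae1d8a29e9844993aac8f21c05c1f401e43a28c9f62117cc06892b6e8449163a9d5734c07c39c7d9b5872baad0e5d54e55538274179a3a45b33309ba953d6f01e7964f7e5198ed080864ca10318b51c66c0d845f63ddc054a09))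 (.node (nat_lit 121) (.leaf (nat_lit 0x2a7750d17e4b09ce2a9f9ee689a51a4e408cd66588842d20256191bd6c4682a6e6891997d858708f15278473a1695ab6065013476de06847a9f0387c0ed0a68b56c6d534814413044e1063a9e739b36052484a333208359a2d23ab2370017666912184a0e2f1fa46035d00f5940ea019e8a27ee7116d6d94c1f3ddaea48877a1a3874913f9a7229c1aac08a98ae67d704da58971e6300f8a59ac386350fa3a978b5445b83cd381824f151225a5938da0f9adcaac4031b19d1420b0d91c058f1a417380a004a52f2d9d5038cf04e634797a2ca847de3e58149330db094226c4e527d91834804119e40476615bda34262cdf60c92c2fc618250c579d633aa59257b4a8a59de044b6750ba8aabd545a1f54f4c411a6c89d0e214f0350174518d279379c9230ee792a81234dd119d759221e2322850c7b8c2b3001c88847c9984d95267968686b427624375714c90a0861d1b65d0a899cda3a9f6f9f824e3211d6159c75508e0016ae029923242d7d2872657c78c2ba20eb724898ee7890d062bcd0748ba4147f92976409ef69a7b86eaa019c263c5e850a043c51a69b03d1f22994e792114d4f96ac1d3b04c2f9e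9172524f04262207510023d69c3c81555e38101395b85f314ff30820a44f61753b5ac4e79e628f430528fa0729497453796392915625a0c966a30120322d7123da44021c15d322e01473e9d0f0a97fd6f0fd74576411acee6d0289166126e64505f1768cb9a2b471cda5162e5951f89049a1a133a68c5550d4549d83a3f1b95f2d031a09bf090e30793a868c69a9df4fdde88dcb35eb0a6dfa1dd338b05692d28195d7a900c362229d87185c556401b348826722996d82128b71d240248e2ab1c02a25091e749f577aa00974c8454c9c3049a7cc2c3a9b76d52160c946622521a0a464a1761c66bdc33a13e56a31a057825e5f730119342f2ac649c1fc2b1bb6d8b960186461076687d54407375c410e6e31c4b8d1a04249852244168e606a800e4bc981ea51ca7aa699329ec954595c8413f410364626a88d3eda9944bb7ac4f6ca97066564c4586317f4492b7f9fd2c6a0a8979930630cd6414a6f084df242655a90366d6249cdea4d8b28d16114c34b91d542375628f6e8e7335250d47887ddc111dd9b4795196352c18715ed9fc3453d591ca187886a95cef6f18a45e058557e499088ad992f69802e20938fc655a82b4d503ea1)) (.leaf (nat_lit 0x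e49a5fd4b15f3eccc3d64e50c231ec1f1888e8f5aa86921a8588825cc98ab242d6d2d1f6a0c5c00886139ae2c53c8bc31092247a57999a915c9044ccdf9656f9fdf2aa95a1d4602246527cd42ba5d305a63b1f42e125614a78ce94995141b06a0b09b4627a5a4e5274a43ad82918f3631546ea1c84947751b08152f93c5902837010354d9ee70dc07be2b6867672d1d6e14c40e106b00b1444a260c875a405401c115db8552a831dea929a6018131cc6a60282648c04c477e589926903a1a28ece27fd7090c8103a885765f7d53241eae1fc07154b695d9da94c3a1c7d01457a05f1360dd968ba9bd91ac672a75675f1a53ba8c2be5b43856060c96d9e11ac970ae9568115559ec33e5e584ea9849e1c6029acbd28895042213da4c6115e3f5bd8b4be764ab3591fa894a8fda92fdbe104a165a533705d000872cdf8a09bf865957211a895e70c0263560760c271508b4413f5ede6a7a7381a9b5f8e76923a980a577d62a9d249b81424a8a5712e1dc960e58e3e0ca434e080178a194b35c4b20e7d422ac2a45a08999782a98e5536f21b9ddc95d938346270d8060d22375ca00e9ce4b5e26dd4e56128834ff741404443f14c171a64253e14519d3549bb87446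13c3d00d9a40535941c50e0080ce29419313c5744e5dc83dab911b9535124f6173bc730ec1b112415451c6c9d150638791b59d23555cd30a466228503169758ea8488a319c15399a38f15992cd263cf987cc299293a255b619f32000d240843356e862855c65667263580fc736687f06f24c11131fb61e3e6a17a07864125da2b28e5112b594b27de84ad10a5b197950da828480bc320953b8b9c646e70a7ccb944c064d92abc7417e807c1c19f9dd0b8195cd27859a73b6315ddea341179e46d1482a1a0092687980e6c2ee483c98b2a0e94c0c4a64701ca9c5fde53c275929b13fa110487a592a648c820327c408e18058d3e96a43e2c9559e709ed2dd94426ad2a8782159b8c858058b991613521d25d5379e1ca2442d4d105710400f1687557d87a34839ad9b5cf509fa4a60b8da226d1e367c1d10e8b2d47617990ac0de9622aaae378a1261f81a6ccb09702123d169edeb33a964f913299005568f91cf462a049a8bca8c9c0f9663de4d1089403e9299dfe8211ea3520a8271760ad6bc2018c7c1362038c5b004886625236eb34316b51549366267a1c74653a8c08d1846e))))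
 (.node (nat_lit 124) (.node (nat_lit 123) (.leaf (nat_lit 0x52214757a2543ed814ce647480f83d6f56cc6429fd8c0590f88c541e94be729819f8fd1f764aa5f1628a63e0da866e4ba08c58750f9a6aaa8ad6984431238644dda3974656aa3b754e26d5ae366916eeae3398b32c0c54e6d9f608884b30fc771f696acde69ac5e3fa83328b8916337e6993c9aca7e8d7302c04c165cd2bac06727c2d868ac891269025052c3069d8ea05282885d1360243de21420932417321d79a1bc408811983c3d880804b7582596308f13c5534656a60860a8b59b14c5fd5a09d8f35604a54dd7428a235db41a376a13c6207a0d49d77cbf30db03bdc26f8e4ad1cfa24df614b40a20b5da1f104611ed4d6026a17d8795434270924e94a6a627295672c063490cf6282157e9e1cde341231859642a52076a3d1a48928d34761352908a169fc8bd0c6453ea1db800a156d8d7a2c2600010a70d83e03d3f1b722d51681fb31210210741a90d476031704c1097184d580a5cd68642415252b6255e9894c65e48e7112deb4465a60d49654540e8827fcb15a17501d7e36de1abcf36b69721e4426e125e5297926f4c9527e9ce0ecf78140e380f07580a8a1b4a09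ab420910e453369a2971391f0620c9dd471ef1e2262b99e9e5470bc6e121f245e36282192f0c25ca224b19750e477cddc3c5bd1b6a73b9c935aa271c18074068613ba763915a0d5b14e7b6776194206c04066a1719af349c43a63c124cd7d63491998512631fc46261e559a06929e0454be882074b9409e1079987e38643ab094014bb9e948671309d59a9351b7d8c029d6e83a52110d439aa50781f082a46cce80dd2170057258707e24c4699b986736c82586d5c874718b5901167466582478f464c145ae930b90144e4b9fc6c43a708b15640e487d1772f5ea254995f4ff7c5169a5c53aa907228ea81cba98ed694ab0567642472a11141815585cc75c00d674f57c28f341baab4eb8eaa82841a2be5b4e1a438e4f449002ca0a331945526e441841a0085e1c3989ca4889e11c338ca7e5048812a575d16a831de1021e579468027c4fd2d24e88379d1a4ab26fc0900c0b29945a527b1e51899d5788e38961ec3b1a6071656c4907b9279049aac6493725faac220ac125b614564b61386f16d2a636801ad968d5c13ea9b00411092a9394d310d1974e65a15928b90b7f8c58a95d8724e145615ecb93f5e794c7625c834f5f753ce70e28c946a34d9632a0c1))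 (.leaf (nat_lit 0x25067ab28129e12a4c28e6578173818f080a626710518219050a62e1014f9a06ca4e5a55604ab4179eea4e726d62404d8f9349680c5facd9d7d8d80e11d6a28f0b2225780e169bd6aa441caaa7e285246406fc580316057e110ad7d6fa410de867dc9f119a966a4284c2aa7de2a1c367065a2199407a105edfa616a87a1c79be0f07d6121e59728cd7ae6e721e9a9ea61ee381066d7b27d72e5860d79838827a8d444605081c94c888a76162c46e759bc9ea2d6469b91588095727d29c735df9ed2e390326415b8ad4a7563569469a69929e453a49d79c49aa2a1d01e6b7943b71256654757eea420018832557147d79a6aa38158860b06481a8ea5604745de0d5983a6be6c1dc3d95cca331c61da6470cd60f1e46e63d986827c82d8602156a258bda47c68370a3e6e08b78c6c68e30899595622030e8d6886d4c08c6de70a45f07506b8a17819684229828fc62772995bc005ba7876c4c66e0124c022ea2940c6462a3373c957fd991384d73a77624947429862c636c1670065c744599da078a98ca5e349982685e37659f327a607f045236b186d6569c4392dae27031926897f95c026af660556edb6111fd275a192997ac1ef6197c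55cf51e915101434713635d0a976142ad45280d111cf74a0c72ecad84a5b4310b15d3502cac2f1144a4f690ea95100d2f6004d2511cd2a44c9225d513eceb140fe2c8b50121fa30661a0e95254f148e838d4e265b35a806020b72d1001514c3f4e61aa399f89b79d4d068b393cea39cfc5414133d23314a908cde0bd087498d3cca8318c0341401092d1f0f2639d341d094c4dd440f41252228942775702aa3223a2e37c033106f490ce13e1c326ab12da6368d32911f9f117304176e9204e07f36e884e65f0f95d2f9181e12b7d53d48471371044dc90458ef0c024294e18c4893fd47762272d96b4be951f94b2b96c9d0e5765259d40a5c50f73296779873e8055b62c768519ce36a50674653a26056478d58ecb00a0d9a00340e52c4ee8b3e4352fe1e0a4168691b9fd0d1c2638e88f519ed0ce8109d555ea3c611b449ce267d3c7e4c203cf89219316eae32d6438048522ac6b4a19191a6ad261750e97962046152bd06ab45c91d3f6b01058ca70882e3c60888d76a42670fd801e6a0550ee94a696c5e15a20a06dc020e543b152a8aa14497f4ce5321175072092e5029a153214ed5f8613481d5d0c8))) (.node (nat_lit 125) (.leaf (nat_lit 0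xc55b40961c45339e25f4d8671ba990d452c7c3b038905c749260331442a5fca58818b02387d2dac5e78dd057da6e6f8543ca520146f9f9de59c1d2ad2672c690c0e868c94524904585d9ad2c78c5212992960077800c9f439a7974850010ee303bc687406c1e94f8f9e5978c8a6a0451d6629cb820d458014d7c88da3037acd9d3ea351c1bca0903a7ca0310435dcd19518a0420d325d59bc5fa183d97eaf0b68f52a9558e5c191c05c590864c70f85ca00f666c3f39d296bc8a06df929961088ba70e0307c8fa41a58fc34ab49b3658299dd14520f051726521363956058b17b68923093aa52a109981f6551218f9a113168504c24506642049a60cceb2b96908065481c5154d024882665e98c954309b73fa815ba090398425eab45e6a7525b33591a6d46222ac259e6a35f4544bea116f3edb41b575000bd4c9b58b5eb8062e6328e181c94781c0c5a28f01889caa3b6406a9b3125ef95915488a23fdb68c5973d2851c9bf81a8a5e49154df82d96a55dfd201423d595ac12144189110355ae44aa8612bdf500e076ed483e1dc1cd339b062969ee8299f89015590ad199a482d0694dd61791b495ea4beb4211ffa66218a0173f0027c226588a5226719425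d470636e07138d4ea2df12169850decac89a838585cdd746a6d04570831c2618994f48b62ce9101c4a0cd28559e104f902e238aaae7912ba70878091d93df30ca3b39927989ca9c87835a173ccac0f1938bd762f2123f46b9f1c66a0f07de595006a26208461d316e1032c139a45973e57634d353297985b99fc6e3c4a4404f78cd9a895885ee516c4472c01e8ada73aa3d8d10047d2ea4446a2119028954a1e103c4b3022965a3a8da876f502219c1540cf5a1cc31a055b00d7a1d2328d5549fe5069498dc819d233b9a90d81a2a1650e8bb239342d0c31d8a1601cd4f82e6ca7b36c5709e482dd5b0a21ca4e430987e38a7642c796b49fa81354eaa777cc1021789e0b54e5110b0b237d7f395081de734e02f76e4b5ea755782b2e62027a7a8464676a9d271d9449079d1ae146493795f8882a938258e44f5755c9990d43d8136a47132a5682a8556a285a1886804432a356aa14fe4d614e04f0e4159fa6b2701d02186cb31fd581397c2fc064eca3a99dd4dea4684dd4d8d75f84d6ac75412928e265581838764c3845387824566776c10a4264a7ed313709d739d80a47b9e50e)) (.leaf (nat_lit 0x280401ca4a9974aa56ea9e5866a34de59164d849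7b30d849798018e1a19a51965f11f430181722ea246b1d74e9ed3f22b519951e0cc86d696218f53e008f91782ca62b4799aca10e8a31ce3b4491a64a70531b975a0e556082c1fb80d1427c6d1c6281658c14dc990c01606ae70eb435d9b4dd940cc561765642df44026c5c28e3468aa70e373c0d05c1f43458a889a1a84c5dcbd3051e49a474857a60a9f3228b690158bc761e88d3a0dd980de5e4df261237a24a108b654c362a198421ef7dd546f4a9a58a2a30230ac197f87c10c91501aa990c6329659d5107664e471e4860be8517e4be63141762501b08829750e9734f03dea332665335e03ee3599d4867c8c240464d82d87014961b80c9b15bd334ee801006e0f11b7e63a53589646a63995a54676529167ea012b15c830485143f369cbaa40800007386ad3665f30ab24d60a43e022c86c5258a9ee886c8d674293a6c200840c950873e27da1199170840d1f394257775a62dd645a21e9b9a3999038b9df049ce11d2e25c622f1ec495854c25b5d49e5b2732095fa15f893d073617d72217ac0679251d49205110726a14b87e3676102901b66f8f3732943ba8f6ccce276420a9047c25a15c5f0c4b589a2a348e7a04fd405db51e684fc4b2287b6707f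598160740f3a9d3a60f56d5bc881446c11f7992a84c9b4b09913c9529caf8263744e04104a41acb322279728db7080201803ab0e270129855c59dd50639114623d574ab55889694706b43b0923ca9d90840a556065138528657c2ede1919277a97497223588cb68a6f4f6308d0fe09a911d6824c9392145b1f9ee7d50a8cd3e2c5736bd9da6a5203aa13c4f921a743d1603b09c33c090602c55c8e0f54261cc5769de8c5c74b6af301c11864492de70157189d6d0e055201979fa86579fc425068c96e9a67c22e1d884c7095f2aa05e6ae2564e7f4f1eb931865e0645fc931a4542fc1109c0aa5ce43adbba90f659da7a3496371e301262382b3712ab678ae94d152e03e9ca7a62e9028013465b75395981e0f7558d9c6788fdff8e2068355b23da00e4ef58cd59b40b770921d04a4a04d1a216482484ae5d984b4a25347450e078fa6d2a01693866a830b83520d0c955058b5438a445124776a5416856a3122254a393fe9d3c9bf394eda55ae340d41bdfd0696b2e62c2042f0de874c5962aa417dab160eaa845c6145e9489e2))))))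
noncomputable def cR_9 : Tr ℕ := (.node (nat_lit 133) (.node (nat_lit 129) (.node (nat_lit 127) (.leaf (nat_lit 0x22d984d4602310d28a219db331633fa270a1760796e87618328b120c602d44f6a2569ac656f5f6a90967b2491845148e6e1e9f04ea4c1159a2980855c012a15d554af828710f1597f94faa67b4506baac6f8e0ac83a3aab5542858d372411c91870ce071dc1ac2b1641121b992729109d8564b2364a081a34fc6c858419040c8f269c4d51ea27b49b7bcf06c0d56e121a19d24e5e4244ee12247864c0789245e53c2e8e804cc25b01d7347540d9317d1d60dd92152fa41d79824b0c133a5deb4c65a89666589b90557359817a825467cf968505151bc18d075ad6f7c6659449793da43d493aa14187e1b99c0d85cb25ec24314b688c22a95be06996128eb1e68049e9b79d3621c356519916c7b8ca95a3c388b8d3058c8868c4096292f172060e538c0e4d1e922d26a05cc1f1ce4c9702e59750aa77ccf76885343c679a235401a0515dd3e8d642437409ac1754a1cdc22754c805c046a752886d62d8c37637ad14d272392827145e409ce7446c707fd4eacc4137d8a2b95c622778360229c3d5815f2960b0e66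41244c4969e3a88c7a29a6550d750f6920527d2a6255852f4ff318592d17a5a171209818c0364057da385c6b65e84d7c4acd8291fb0ecda63df954eae018027115a2ae05840a90020701206542798223b3883f719159e8a3545fc5498e7ea3e9e1c93649f8119135e3d846212e164854108982a5dd305fcbea2c847685e6ba5d8d12e33427080d1235eaa624a1199c756831ddaa9a88923d449349973cf89b4646ee44a4c78a45e64dc74a1d2097e5b918318ccce77c804a4d298c7ea119d169b71a50c262a152259694f40ac116d5ba06c9a85a538ac14848b77b8fb4fccf6fc2e95d3da8df714262428333ce8c4b488a20ed0244b8711f5d00b5a978794e710e4e11e929f9229f1d108423a50bb478b36780aa651ca09d623a223a40f4d6283242c8910e0b46a971407602f619dc68d0818a6f19a50a7d43a75f21f47f9489430db407d3e59d750a4cb8b1f88826c030f1955a93be9ca26455f998155b3608579fe967853b78ce42499b110e66adaf742431a08a51a7d42c4e69a586d8ec7d5389a49074e851d9693f4bf4a819341de611b10996585012305618a81c5b61e8bde031d11109891b113721873863c1009e7f5c545a70908db0ea720faaa37ab2ab2092c00556caa83c072b5584660055a0c8fd5e52c0372e03526af))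 (.node (nat_lit 128) (.leaf (nat_lit 0x1f14324f23d769ccc16248e8f4dd6c85055da08e9da49a832097297c0d7415b9bc9498c3988cfe939ff245af71aa7a9016ab2b2a45e27ed011c180a51a32b69d2c85aac2891ddfa9fd6d38497685b58dd24078e38a92886889a41f39680122e7b344d845c441fa4683e6b8d43e0d9397112e7386f3ec0e929593de6426dd94ee3e069df9f0df218666d9567c1740fcb5ad1991b29c31da5aa0636a5938da4c9c22b1e26e959536b448611225a43d6516c469b8516051658b8d0bb5f879011ef7b96679d38275f98b1ba8404d57dc1654b80a918794ed590a15ea598300641651a35912f6881ed8c4745d61dbd4f60d0ade48c2aa8a07f87127589bb131423996727821451e9526750b89550e012e93627c278c51b881d64a8523c207a00e0215529c9230ddc38995e3be6c408109221e22221531b0115f4001092fdb152c3492e7966d03190ab4497f2ceaf67a1b105d18ed25074684fa9f6f9e6202448c8172e45cab9a8296a5021923242d4d5c84b1683955c24cf46dc2f93515119335d44e4297c1f0cd39c1173293379c50609929a66389ab0828e75cd37d90495e9608ab1a6823acda6188aa6883389d3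c3f2498118610961534023d5f8954038444b35954855ac0a27d5dd5a268f63f603030354e9c03b22e289a72a6a61b583a6d1e7780aa2cbc66940819e821cb64be3f470195f4a4331609a8960e2254de163540f2d19d161a41a4ac9151177072ab695231799e9f542258538438668206cd271c1f3ca9e025d5a04845acee979630b22f459bf82c4f562025cc29465e1aad325bdb914d447dc90980d95c4563a09c989bc5060e1516e44cff30855640a89428a628c01ae38604cb16d9c781aaa8c658904991e741c6177c80742d2980083321db4d15d3ce6d1aa8435c818f01c7621d73d2d2290799667950a0852439e218a327119cb065e2d310601ba973150e4fd7b0f1884868536c7d545553e2680c1ca8a58239040a1d2b7f8479765282a7715c25441ea7f4b126148329ec3a65c595851d8af4185e63e8f1d18e78c247ae336d146824ea28e5b9083b9faa9a669802ea0a88b76585f33814351cb014fa4c0735a9cd37012750f93c6417751f0c9785287a5404a849ed43653185d23426187e920c531725007f01370a089a48d9d8cf53e136b8c3249b33ac5143e40480158883a74e865c0da0994729cbe660758e58d3199f2baa1)) (.leaf (nat_lit 0x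351da7150a66d8637da0aa7e6a564f6821f856104aa26469948a946919aa61455a7dc623dd56265063d108695ed81aa451940a9e093d4649814e048db7687b5d2990dc79675b344c38a628c0e62864c145322c5e4da5ce45352975d914764dc8811a29013a45d82d94d540b80d9155d5854de74496895c2aa88e345b82617447770c8170e37f0219cd38809c249dfd8645b5a0d824a884983d240eb9d561a2a044e53c7f9031e9c14722e620b7759d02e5c523cc52f2434c1c37192c75e3a1f67d312416c1b28ec2398e718be3c754c06554a610c68d5c46088427e173a05e4816d1057e9e02b0fe035a9340b27787c898c9f9180e68d98347de0aacca9d9804d56c4868d4ec4b17e705acff39cea4042a4d97f13d0e5749b3c1ef005a89a651a8df1512676a9f03be10a755c43e0d01c50838677c9a9001456d46829d423cd5b67e9e8310d41e0f9a1430091e288d637c7487a5d0359988971a69546680ca71100d0b16bc6f0c65e378355de9b03a5c54876375df53d19a38091d4301083e0cd9b54e5b35c9e230172088502e4d6b8b22f57d7224e921cb201d38de302d1d16254b750c97248b271d2204c28c48a728b32864c71e424cd7b45a953821c77644a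422a76c32044a05bcd2041496582da5117671e3389979880f6c51d1ce1b384771c551a58cd8759e4611b660ba101e236449331240ea8b850597fe8f77a793ba001627b4c4288b56623825855230a5819e85a84cec0f1225c8e94ea211543b0907c1e027804ed848653e5f51a90555c4d57aa281e0b68d0ba81606893d9be057d0fa9b05325e6d015a457c4c431ee148f1425417cd559426b3e0f29baa14284e185946b0cb8f64031d2e9c8222edc091e5f9864a8f8887309d028832448d218b592dab4c8878fcbe28dad924169f986919cf8ce24735006458b409e61c0cf4a6a930de479cbf64a7f0563833a8659d69a002f86a92896816412d7ece45e8d08ade55e01c118451b47f0681d15eb3594fb4aa117a6b4ab9ec0618e9f2263f58c738e563cd37a86c10d8d0652f89c6b7acfc122b27a287449fa58cd5a0a85344c1a4c2e4a1e1ab616862b0a0c2061c441581b1c86e078feac5624441fa112b12964abc7e8e57cab18a8a4962bdbc0213e684946f65499a556e0ac949bf6dca596a4f6ecb095c9a01258261b96f8932b5a00193f2a8a96e9b4996562b8a8966532ac95))))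
 (.node (nat_lit 131) (.node (nat_lit 130) (.leaf (nat_lit 0xa0a36484756d2722a47db26658d795da10cd8369698d220ab84777c78711ba43c652595b3e8b013df31bdad1860a0a4f69e4624c5504cc1f2b4537c253a920f6f50919e90275ee0492c6314d6541c64e714a24f3e6738b1226b8cd0ecb32928b93951a0cd1aaa2e1e9c7320cb381678c9539f8190312e63e5d02a7c2521009a56a9e092a8517d89a560f778cb2558753f16187ab412cdd59636384ca31d8a7ad2a1b68634ca2a3e4b53a2d230cc3247c72a22ac449a00d505624641e88a1256c0f39da0d0b1ed5fc0f4c1926e498578f46dd0c1a659a860c2e2436d4069b2679959f009a1505a9775c8691741f5fa455d55e2988ec7f6fc6a7f1793b0820c2013091a165d31c5e10ba7420d39908212f1168686045c5f7429685e405ece62151e1ace40dce57f5138605d5d91138e5c4f23c4fd4468d3e0013d012699b4de8cd4029a13199ff418ee46dd25f1198585a0c693802911fa120267a202998663a4505c758367f8c02e8cf8e02d2f5cda56410bd1873d7a2ba513a1c56a8c40063550c089be6a36e9e155ef3ac6880a9b8f8578c54622e6472da799947699368fe77219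7e7303473a0365833810be5dce92229c8563da322684442926272c5ac1b0d62d5ec6f15c5b9b4192062a5f76da57820996700b5699b4bc240358e4ed52069831cd6c08aac12100acc453f4df7789153c206065ea0a7b6792b09cb60f17d1ed6870cdc7708f761c131a1d40aad348b779a44278ce102468acaba8d206229d08d5d6110d2bdf4a7ce27808d1dd6a71a1c2262f1d2b211a60a16755301d6141362d38a391c528933bd059520e25cac7c4f15518641d595c9040eaa648c3e932292a19413582428175825a82c9ba812613a8a57d70350b97a4feac2af1296358879599c976c10645356612d0aa629fe78916889f458936142d0ed285711c924a49292fc1b7ee870513798d42aac0787e6b4061b8c2a9681be55d0894852a9495941555d5d77ca683fda82414570876700fb204f5751f88dc6395454aa0e728df96ac5e929af7a83fa525b9c0160393a97d9a096720e0c3061d17d4843e0bb815bb81d0e688929b90301623764c51105661e39a10c10799d0a1890c96f1c121788d05adb179041a5c5b91d496013265c2b52c114d261a6912a05b379c3d0e625a25731b9270d4ea27e58142a26e0a742ca53c04c440873c80388548365a5238d722964))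 (.leaf (nat_lit 0x25d8407f770af60483559dd491636cdf25508c6ecd83a45490280a29862d4e572c0e4c60288c77644bb4fe979a85166e9d1e9a173cb828d4040c552b8844b60696e3183c71269ad854479e815740e0325998e00517d426e828aa86686e417c4c35486b0aa456756875cbc7a80c92e6c0e55f4b0fb580fd0c95e0c6632ce84a358842d79ad2a208d1a13165359da482b2a46a146d951394a1210a79e9f5accc1341043224a80415b11f944df29a738389d2c0d16ae8c29d90295ca00e04926299ad8c386007e8739ed73505e104c999fe1c7c08b861bc3ac297894d1c8f67340f9a64e898934ed6665cdc61cbf7dc8d2d1aa478256f4e35ea3f8f99632c637a4b151449866528ba073686f825fd009c62ad2b21dd835c197549f2d9eb448c66784f08a5663879414a490e6d715ce3e84414e1f8e8528886c688b9545f5844330d8e649ddb4c9b0a68572a5e0178ee6e5c2475a61c28526e378f0e785a5a8527551d6f271b506cde63cca64d614e6018ae46100c21d58a55d7e3c93d16865a40f14a0569820b9da64a6def494989f5769c9097910d75265242a79f915590d25a52a5c8595eea5ac6990b83456d00a2004a2d305642d3b57c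0e16e4983a59d9445c0ba72ae8163242289a3c0698502560355f55d541b44b9224f83fa56a6aa44543d8970d345881a4722c118c44cea405aaf9a042930957f93c3d5c73905c220bea38013545d2b62d8be089888e081d92c86e6a426365bf869497d82418682a4944936544e862730db07a442dda5a1a1e140ec085b860955539b26c4cf77d2920185161de412b083546794baa79d2072591e212a51138e6ad2803c62d167fc143d2935d2367b0ce6708275a77956174dccd91e351d92f2a17f406139be2a3e41d7b9f95a9351a46d78da453c8f7d23b9f06aa1ded0ac9631506060ef5c6782265709df3874975e1a3aac2c3a092979d11f59a34caa181808a1c43e009636503003e9ba27970d44d91146279ab0e20ed7541c4a7254b80d106483da8e9802953569c157242020fe97c3767e9605ea810d77439235c1a021407452811a08a6dcea69c91530c16d87419d3893e48049c03ccbd2040d3fcc83407e83233928f0375d39627412d48279e68d1ac31c94885fc3dc1172267894a2acd6d1ec7c94e70660647ede850ca19c52107c5b60cac8c02f829af6b80046666219846f8fc7e0306a220a0e3d))) (.node (nat_lit 132) (.leaf (nat_lit 0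x2047155da25051d0cc0c24d848a740a876841a6658568c019c1880642951ccd232141969a8d1657a1bd2e176382503a0312a1c3481ac5d1edad0ad7ee2c3b4517cc476c9007f9b58b4b419215435b10f4de90090139ea6a8236601b4be809713d4c941a127a5a65119dc08de29924f387d5452e7550e62095290566565d51674fa920353f292890a4561ca1887fa3d27214f11f1f75e4e95be35a34f48e0ec5907a8f8ac350b540698875f60f22a6ec847788da390b735f25648091aad8bc4c38c4173a1790db41e5c67f46fa642c9f9429d8075357f64c0a9d1a707dbc798573fe952e43a298d72683835a729e14e67d7e08a600ad406527ba08826d924ab0702bdf15ec78905ec1346e58631a2d772595e71ca22f68a1d8f68864c1020257086226272aa39ac51f8808739c538a1be3897505d9b691490014a4b68606271520271ce9c2f1e73d48b3863a0fd95514269f1286800554e73058206963f37207a3108245621f9e130960780953f62680071725683e0342b8b11dc3b7e1ba2ea3620d112946b431633ba3d249b32ae9e1f61b878396b8fe13cbe0da4a32a2343c94375ff2cdeb6dd677bd3f076810865b9f5836a5964f99e53d6d185da178c7a92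56344c148e30830114f26964408629824dc0d532660260a46cd9910c5155cf1a9703bdc85e29495156165e5aa9dd26dd691460a944a956167316c760d26e51316aa878dc12760594a1a121f992c5063d926326e4c00c4b00f9a27f625317d0c6ac8525c519860469626c0513604d864d25f9a9356893361c45844d08389f45dd376c99ac1ad171c2841185c9d219a4f110ce7723ca81667520310e8883ea116ccb3943e95cf95acfb17d1482ca341dd10ba0936d1d34cc3964ea279255e849a98685b9d51b5399bc0e4ee6399c046358b0900b990c47d497acd1a2d91c3c21c01a5d4e1a84e81c5427900cc9a4d101ecd5554f20dd6a75cdf55e422ca9118d0e23e90765156e253a5858818d8791af8650a28506a762b77c2d7f15f109846018e0aa6d9de830792b5f512ab8b06c1f012e22205225f20d8ba614a81054990511a667181270eb2fd26a9c8eaa5fa1b1d042608159e236a321a6979695a805cb91cc80cce424e25a8eab300323de4e710a056dee2ec754591e261e90bdbf2290484e9b2dd0333ea28ee9f484888cce65cc722a6af1505d6ad2e00a6ba14126682851a5e)) (.leaf (nat_lit 0x322c25d251715306f5d19d7497d35c268e50f07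91c8ec018d5de439f280c6163dd41226aaa8a14e2a3328e882cb6521755f8aea006339a2b9a4c67092c83cd14e97ca747d714682c69954620375a05e5bb6647a9d43348506909f67e5e58bd02404134542b59c5785c692dc3dac94188dfe02dec93021420fc01e349064849a0a180d05b09973cbf272a753ccd990dc1d93f6bc37979bd29193555422e20e3ae16ac0c56d5831f95c75c369e03e698754ca8d55884199cb27688178f32ce7314c8f29c3f2e467855a87104b5765478c144664f035d977c067ac1a965a7720899f4f61c276a48513088c81a4546c0e76dd80111094c127802c44e8a81c823ca191b1ca59447668359d04aa4c553bc9fa3d626a478a7095539b81099c35030970bb52e1e6002f56a7f104bc51c8d87ea4834e77bc208f0fe000ff90c2543636811f06ce6ca6d376dd8e8305b34d12939098c4fb771ed7f5ea0225a062b1515613c283300e9622291c9640b9925b5d14d61aa9a61820cf1adce11a770e1a51c5941d173a4552214ea842af3069e3109b61dd5889892967c5dd8522ab33213037d916e934a60342ae60aac177e1e600e2e8c8154824040d27918ee9ca266ad8157ead4f4cc204b40edf5805e948e508f6389250b0311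e0161d38a662ea95524a86c66213daa280f5168e4111c725d3130ea11fdad58091ab221194ed8913e2b6851166f3646a62dcc1612e35627ad178075248fc287e90a029f37a1e47ed004ee9699cd298ce01017b6591895c119591d03de2458108e8237767b3944e4a28b21da37007c5646484d574a8885a5a2124b59e84c7045d3e0a2690319e4934a4f98486e6857aaba093b16b6b2860e8bea08aa9c61c5116f6d07365dbe630da97cd69b61828ea05524b0a50c8002279d0506e3e41e518ce944f2909a0e16116e141d67ba309291f7fdf791c2a410c7a7d726ba0538d4022d68a89bc0e59ba5c98540de1e665896872b0593dc4373452718a64b4831dd952692b0b67070d63240167681c9482746914960098b5333d06d67dc92492fa24805983c2c9113f5f47f1229341949637629bf618db9ba8e25a2854ca9a121b52a2a50c566c15b6609e4daa817d8233854641d0578f132d766e59e2be8c96e2ca694d21a7e1ed39846a56357074e6b324d8134fa171b6a04bdaa5465a9b25fd5823a1418a44009170925507df1809e1)))))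
 (.node (nat_lit 136) (.node (nat_lit 134) (.leaf (nat_lit 0x299521fe250162722a4eab01d1fba367878cfa62a20498010b47e3e5b9928610f07640a0b6bcb971255608459a80a2c13b465463846310c21951cb9fa9083d835d111991dd4e45215c321811c86db531dbb931880d673a1d06371a8855170ac48290ea7222f864b16c89a129df7fd412fe5d8b4d06662b4200d14c8e36dad8eea2545ec2100621a23532a717a45a76427513faaa2564d5e4065e7b54212e0e051fa675ca680d17795c06a24099e0699d3618d77b96c010c65352253cf31643301e2729dcc284517e5f64e0b8576698e4eb5fa053f01c0f49933dd7965a7454e54b8ac8c4241cc67a2e9c940cd600fd1ec1b1997b9a0e90fa3071924a7d923c9679e8c590d4a936750d0b705cfe4f4e34aeac7dd7323095279f15beaf5e2977f6820e52f46dce690e05ba832be334c2569b0446d98c49c5500056596773e02e92db78620d22dc37c03b9acec5dcd966d091c00c1f155970ce1525a7559e432ab4f8bc8dc121e86ea46ae8d882214887a168a996aa81eb9e42f52425899a58ca5f748781c80f5b4138419c8e2657246a1e4182f8234112d34d31a6a005ea1f874816e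9e70c6743d569586936a9181942a1c570a18da1263c6ac5d1fc38918c96f9633bde26445a639f5ad136a26064a0c1809443ed33260dfa065128828118a898db0259f8390ab2d0a039d1414185a32099ca486fe705891d00c5c0d8f03dd1f3a26f4489b07c3f2ca7d7008f804d476a8a4aa95859432d9f34d5165f4a35d429949846c67f73510849e6a9554a9221548cc79153495891f46d2244e8f4c274159355dc68c6465da18fdd19815840c091b04c358ee434ba56a981ac938f90e65a2955cc8592a116c8391d20636222ecaa248de42c4267e9284d5f08240651c19b5b34020804604a5945ace2c4d0a67612941e66234275d92c94e803484125c195582c80e85ac9a96b22e2957981c77aa64f27d40a6e1a829bc52e4e0c00517e1c61e9e0dd213d8b32b4e61006844d059f16b5ca111a68f8d4914dead8a171075d999e945fdc7960b502d1e3d27b6d0c49c61e48d909118f1617c039f496e88669d68e8c0079604ca419b8d813c90040a92f4dd11c6f428ff9895b8514e7a6a8540ca7a808200876f4f17853c7cab151cc37f0222289d73dc276dc5656570e8151d60c6068e1350f3b5ef38a846b8ae98617469a28d19818966009e59daa362db8924cb))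 (.node (nat_lit 135) (.leaf (nat_lit 0x881a079a426c7a981948e85acf25d975656a7584e794cb37ae6b2466021e6a348b426c86056a8401743d16d3992395197a98e5141ec2c9b13f2a44cd7f964ea33668794117c81c06c7b198b579269330eb9611c8d4fb9697e886a33f57b1507d075f1041e623267a489964ea53a566600d69b5e120c971d8fea8a7d2fda05a22338e575dd32a80201d0527387f6bc6a2141e9be8e2de55614c89957a6519ca85219588f9b87507c8498a6687cf95e5f4069b3991e9158d4974808b9025a8ec93e169f9703b40e7a061204197d4770608279cb9a30ee32983a299ba74ac9e9c2566ad450a78f9911919e1b06b2844035d908fd4a456ac3268b2aeae562719e4ad7e4a001c6d67463648148f61a1cd6e9ed136215a0083e28e068f18a556b2461f648a0480cd99dd8945eb336d8b8ec098c4018e8a637071000709e0a5809247e116316b45b276844a4630da5595eac5102aa73360052889c3d88b374df61e401c89e1bdfcaaa755ca5e582742a5fdac15f52e4155cde228f5274c31080f908c7abdc17f8a8a348d389991b9277fd5daa5199715ba24b08bc033818f8dcfa27c65635f346e702ba01496ab800af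46a725718e386071f97c0e52ca5d691784b0a4d393a2a391786d69e2fa8167cba9309509c784fc576109018093a66634127f76cf0861cd5bdf0934f7a0069a60282505f76287300d0924b61547c0a92004d0742565a50980b0496a22c92ded8cdda928cf6a686765b6a557d4201247c2b4f88e18a963be855c5aa3385d248219869c589dfa08bd658c4691a32c6473c4bca0d0b58e9b19e8f1729a4c10c11c5b26a48345a2319982ecf3a11f7919a11e964429820bccb698c1a7c0c4385922425a205a0ba5f8c1dd69d7390d9a30a932e126092916190d0356743d2e0989616228694d596cf89f1fb9114d731ca115de85dbf018ff834368212d7894089e387bdc05043c6f8230dc4472c5110c386f5318d942475ae841c5888414d9c312151755ad8ad43831ab83d2a8242d4d1b98554e14c3f6ddc9516204a1d753d0675929511e36b1b84d62d021fa02d49741114783a4e03405c4d8383501234829b2745ee879c44f5124155013219771370edb44e5031384a0ce5073d2b82d4c8a4320284f8ca146e9b08914871952751d39461c915478953b6ee130f6050c6124053c0583011a1d4bdd2551c851953899c786e39089bc4e9e0)) (.leaf (nat_lit 0x2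8b261f91c5cd97e4c634f212c867165c7410ba8553212411359aabdb299a0b2c81885d722940a8b0bf870af319ffa78f74587960eae76948a452d28e7b6f121199116ce674d8e025e8e4ca9c279f59cd2516eb03c44a9dc596f8614cd12a61f74a4781b5a92980f09d5d324c00116a8840b846078241c5d6132b02b87628006483e835a21fc4dc4260a50ac4e33fa3f678d0981041baa3201ea9a58a8d9503add36222d19eb25008a8ee7e1f45f658db43c7c995012f4a857a165a020878cb015b94b12f3bc438126a724fb1a2864506394d7f3b457a7d898d5225125939c3bab5d951c2f9c9e3a3cf545c225c61a880035a60d2d01a838c309240131991e9037065d7450c1f83d786ab0b48770d084f0a4a492e898145680687ccc89d55308230a15ba65f84aa3335c469d8586f63c792909d5271762e688dd1a9af9f6574412b701954d0e10e1f19e9bb4827f6ad19ad1422324f10581a75d452aa4205eb224d94fe3e674cf280957586f985059bc76722463e033a0d4b268075b9730096b8aa0806d74841a59112450ca16c254600ee112027ec776e18492c3264a2307c0e58cbb2a41755cb18a65e1c1cc125a08caa679d4c26c5e660478d0d89084e66ea0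548839591e1ca644007b9398f3d03e391868e9094eaac76146968e80f27c1a5ae90e013c0ae3156529e180960c2cc198bda337a744985ca6c9d7d282616398c44867c997ea8c9e5ba47c730d9f2020ca59a24049588acbe02615558111b1a86849f795b19e05a6fe6d1d1c6289307ba8a7f9390b86561e2259cc7848ab0aa0a0757683d6c5beb35048ba01ac4687f915b69894f3a98c3fd025249375e3d670ce1000c590c80796030619085707b5c23690e18197a9de853523515a6788cd0fe8544c62a566c72cfda353125a490c190a59b798d78098155ecb0310162d97a3d918801b55f48f960e60e9937bd074ec887124d638f3242a25508596dcf42892772aaa113d345e6348d54706b6aa977d9280a55c818105e5618941356651154377c135388548e0d49a29a271f3148d665230690df1588d6d094755ce13d8b77aa5209ec74a71544e9145dda05ad46cb52e56d2e8b8002142b42c86e897f53891cf90d26e1d5c7955dfa4e4a0c5910e5063966b728fc1404580e525f8eca1d15192a9245db9c1a74763734c53aa1e95388e4f9e0a50dc4355f5f0bc2a80d58a055dcb7))))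
 (.node (nat_lit 138) (.node (nat_lit 137) (.leaf (nat_lit 0x11a216155764d1d03d311f720d5b07e3053c697480239cb99d1da541d33f424a90d76691f842640e1fca959b948d41c57c29e51704c115d3e8c8502c62877066184b63fc9b5cc044357f28689049c55e54290180a29ea039c9a35468f17560c9d425ca51de671c5e2c2208dcf42b848a05f50e8c78491821c7757e4b0ee13076009bc2d38828a8205659239b4e09580a6c4f14b9053327e1f1e234a5f8e0ec13a255c9dda56262698b8cc804e5bb97a436a5bc346b35a8a61f9c2914421593f86953a5d8f14c035b58d8ac9576d27821930c2049ae9d3782c82431969fa8626610250618d9a40225e0a04741bab4d568d16852620f1f3ab9a4926574a06e6ac29384be9ba014a5ac4904d62a96525009ee94730ee94d644bc8c481996caa309562229fd081b7aa5349395c67c8446db84d5f83ed9125a9b001d45b9518b992a71d8291a0361337ed30aa9b66cde42b27c1723a520ef72c0c2b45d41c0873693529032e1891a1e0392718d9eba10463dc13a221e5f90ea08f590460a00f2615e150cf3a3dc6412992516b2dcfe7556c19d524e2b26a83f0555a6a217209562fca233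51211c6f5f61f05e581b1672f2020c88f829251b4bd0aa425005570c143d8a5a0dec505c443d0827a225da3b16c4a2ade527174035de8b14b15234621cea48065c4994067f7214427c092bd455dc5f48997246a109dad5a52a95598a89ff9104955e217b8731fcc34448e59816929604c48845da26d2ac0715e219f4630ed9e465016249e8b5131d99d4513a001a6a29640fc9cce68bdfe0d8c08392122c7058e540de0f099f6316601d64c4d8d36e41e3187646665a326122423859825843e4797a32892a7def0b87a6560624d5475a708c58e75ce3a62b42055832d106e9591ed377b42b37dae9b2032ed2b1ae593766a49a767454d260072cd4e5c0633c0785a21178daf320394b034672a84b51c9a6a66c0dc93e484e8796f41a33cc9971f24edbe4559e36e671c82182e6830833740622d2278d4eb2c84f9e090610d6685064ca8eaadb58e5136987dac0186fd554f24669eb17c263a7a7d0bc0b88d9481c4b36835831657e6a78348d674649dce961ddf530eaa45cf409f19744134019abe196951496cce91c103e9c0a1de82a13d1623e3e28542d0c86d8110de9a1a8b3e411870448fe3d1657b2a5e7114a38750a168aa03d6f2e8973962d1486a9ca2a))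 (.leaf (nat_lit 0xe11da209759d53179a50371d25b964b4919b06880251c707ae2691da35b50757c5107e7f4aa33231c358020161b5869665f4571a8cc225031597873a1f704499c9849f4c35a905375d91dc94954b097814665da25433432a655602174e70558ba12a780dc86a5ab1b4412dd421acd57993c9d981748882f04658eb49ddd37e1350a670835f13e1cc9008109e0bab4066813f911711bde36be2a4f9e22e20e9d5d05a5313d9d130a3eaa68892da6784b9481a74f6685a292621571fc90528174b9fd56c1d235043b81b4ad92700dc86ddf5d03245c9a6ee5487175662281011e350b647666994042828c5bdf63ce058ec86750219e13a3d23cacaae3ec4a189f2831850a1363f06320a748f4f73f87d0b0f519610164eb7e58fa001ea755e420e9635c4968ab2580f67a5c76c75388ac040385ad23a3e6b001a428e482c9249b2242fddc14823709fa25e07a79c63163184c5b8104faa10a31a14a0a5019a9f3fcd8329fb8602e15236650344557b6e65624e22760de44db7669ad795404722993141991a85c15d644ec3267ca80ed85dfc92a67484d301c9e47c3fa28e461878185335f04b8b6237bd9654e60a6c305d879874da5529c9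499b049492ba576e2914503504caf37e836312f3a05c84891311c7628e642d324b00b23aaa778a7265ee98c7c1f9e46aa4da2c051b24e27dac20241300f97c06459cfdab2423e9342e8d60e4428b1b3334735ce8e28808acd64400bd21e3a19cf27dd622ed3b8fe0f0a8487b5cf0ad839ce257b0d1520019a83d4896c7a9462cdc5228cb4a28163a193a85a22d2942436a55105359c045b42b658a594e382343c11152d0688638a4d7a9fa5f320c16daab9c616449cd641fea86351541ca885357269a249c1b9726949d6ba498ae536f0a546031a6809549976e91636d192a80d1ee4fa600e9895014047984e5364a660989028cf4966f90d6e7a66d67d452d4607fe15a8d0f134c78bdcb802a4a1d27511e76c8030e9e81c8ce2a54fa661e64dbfa5d7746c7a05a068e595405563c4680be85065875650da94e38045e0695a7242226e32846514c1e05849250cd00eca189e6e0f28d49951469bd7742d031be260a835dca8c08f1390e5612d062868b84c17df482869099385f90210eb08202421085756379e539094ef825f575a7aac6af111655fd379ecbe75c83115807cca41c690684b1349b19143e))) (.node (nat_lit 139) (.leaf (nat_lit 0x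b99a6902d68e7a8b779e6c20ea60ee326dd3162a4235e9c97d04128ad0418d81a3fa596298e34851bd1bd9f1fead9859b6e85e8f06315c0d668f68446023821ab11b5556e68dd78e60f7107906c85604ca9614ea84fba25a14806b28c42475b0514e42a571154e5aa44f64ddf2adc18045a24c92abd4a4619d8bcf3a1ca58780a144352f5dba14c5a4df16ada87f8771a01e614e83311254e09886a56519c0f859522b148daa5be434be9a455e03e58b241ee881d461daea46668b4a1690ce5cd039fd8f7d2950e0a88127023583954eb7edca5347b2086a7ac085d9b3798b27966e2ce6d350b407d000fd3a855de36d576450c59e970d27b22a37369925f50ba61b44f0ff2762a0527142a304ec9437012230655f235660292605b56672acd1f9192a7214f7e8862647694ced5fdc55dd7b4956da2c73000725062578e5e36249125f8468303d6837e6732c0890a05c44158ad0ef8599676a0373c3111017a129e301f6974c78accf9d41921c7588e545fa0d71a383a5333f8bf00424899605ae4b34da574d6356a123055609dd04a651905404b9276e4a02c64a699386d4e296d0711674364af030ec5a1805460b44454068746c441655e83366b99de1349af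991ec14975012134d5be298df8f56443584131c21a4e18eca7425305a5376f2170164d19113a6cfa404786308f0442e8b8c33d0950a87a6215d45a6534506551c0820501f42039a4f59a0a9f6a45c1244f8072909c89d466b5f07f1a90acc656c22860bb9e9fdaac2612c9a57d146257a3e2316da76414460d84e3c680766607d5cd510b62a88005497959613a9cb8154c964fda82331c0969154ba3cd0930b886d82ab9bb6663a17d2b7561d3764443a8a4d86c9222c356192fa0732d6508eaa9e1ff1fa1f38e5a8414970c1c184849a83aaa252359c77a4889a03c0183d3c139970e010d08244620394290126618406e00f19c5669d0fa512c4d1dc6fcde63a3e176220240286a240956c5792d941d2199c93b881542575d2a240853471dd0e5ce4f64e68a282b9f3326920dc0b13681309d865dd1809f71f032466823ddd67be1c4fc2d27e7c6c9ed9dcac8020c074185a8c8838fca9e7ea74031b4a28a5e250d72a2121ac92891d5cac1175e19e3c82c160476402f73147479ac48a8d680711b89e8d8132ea9f2f286988c47c84805833a648b9e66f39e8c549e426d32a8d79)) (.leaf (nat_lit 0xbb909d070cc58d64c6b8b40661a058c47108f900b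d2127e97c225e81a2ccb22864e9c80a619cf214bc8a569318e44b98f935007148374641451740e21d380776bd1e10a6121d5138a1b7757544e999799c540886086f288b1a380953d9d0de97455b08c4e18f99e4c8d63261ca60365d8ee166128d8787096c1051f9edfc4e09077961168ed7fc219d5377f67948520a356b615399ce14800ec0feab12c5b9d0275b4893fe0184c584716f845dfabd4d79c156468187962a411246e7f8986e7a013890326404073963ac44a3752da01927a4d5896b0590fe1d11d15d349e17f808ea856885c12717232238e980c559d9360ae2d884497805d499250f68a3647c5997e0b135a3d813acca331fea25318102a6027754d9903a964582d5c4cd1c692110dc462945ed9a54a5d881d836c45734a40f9e38b07b369d90365b551e19f117ab5da2fcb64be959700c66d2a072858582e8e5e51c0ce8fdc93f0565f2930752962848ad0fb72a3d340cf8ade4594fdaca8762d2827d4b1f88aacc86798173058ca181b2e5b14cd938e91a6ac8d71e30981d59118937e2e92ca36b03192476718a05f5d68f07d530cb8bdc86b4b592a3b75cc0048ba02cf5829f756d0ea766a67d4222e7d1490d5704f820f718cf19406a6508c5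054001e6c55c977b9f6190f690dcc43d30415cb9acbe574627e2092b1bd256572a09a681a10121f0a0b02aa556d1be2ae5493dba2bc295a8060213f994962b9bb252522b56e864a99e9bc4053e38e5694c936fd0c136a0a789b29da600d46ab98d3cc506d5ef1390b57869834f263aac52147991a57b4f482ea257d0a1c9fb1a0188304369c2f3c160a844c345e2a7d79838de68851566a8a45f08aa0753aa69bc0568c759b41456073945f18406746504a9d5a6913d9ba0f7c8ef0c0d2185a911a05081091b0e55e2381968400567151fa7aa271b6a57ad5686144aa68207d873e87f444c31acd37b01ea0d2b7d668408028885365c66a3177a6834554109a4793e4358a2456ce065cdf4a714576c1165a62421100ce9b350392e19803d49a91aa35e6770106610f892237209d26da716a23341dd3275b2919f327aa3205432458898d95264c27508091cb72712c528232980031c4788dc10953c60c3ca2d236de5a3993b09a705a07a8d1f917ce8961b8489245c83b85ce7182aa77092998984e9b917a590e8a509103360c8))))))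
noncomputable def cR_10 : Tr ℕ := (.node (nat_lit 147) (.node (nat_lit 143) (.node (nat_lit 141) (.leaf (nat_lit 0x29a66ca92ba9564d9c296994392e022942bc796669c1d5e37880497d0fa62971dd9e91406474a81da9b0f567a58549101d6747d2c0742a99aa18e6231d782c4629a7e241112f248835d54c4e7a155d7852591cbd8e04b1e1ce558059192622d5ba1d9f1560cac1274060631dd65708a3a210111d26504755ced23e7f0b1c39287a4ca931160f4d0037b2497102aa0680554ec4724b7a9d44d60e34cf124a127adf03b94b9f53674c435b8a43942d5600d4dc0748de6888e999533389e47444a4e25673d76488d429cea568916ea43795244e605741593ae7c5316f2240f46dd90c1be88093988dc84c56a39bd0c5494641194cb1108d60ba1436cda5e495999af289d895010992376fcc81bdc5251000ca527691a7f41e430f721a7098c61868999e945220f55941f7f230106245127b198bf5e8d94b1ae50e2542e2e7fa298c4873ce26619847e4f68bd0a080fd7dc24886710bdc78644cac6a65b14a59a9f7e0fc8f4d59a56ba9eaf1384d4adc62856d99c268f8fba2c0b6218d9a0bb721ef3323f095f61c1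a008ddf16ce118a8d6a4b4442a02e9fb6f0b2ad0be18d75ac94e6a28c8b6a1175870306e2cdaa19183acc5ca88cb95471945b78743796cde2691676c1463a32348dd9717786db95413f2d9b17818f04c1293d180e6908b036545b82e46537dfa5c6a845d859754f0e21c316a364aae5f8c277239416237c46d602ac19ea43105a2d5a51b1f25a1ee940178d28f1ada664458318a34b57f0ada71f90314ead16590a94859d0f826cc35f419412023d01b505781a2ab9d484589b00f140070f2812038cc188ad420e8fa58c836c9c28610d0ee7906a11141643e6734f62a6da5e4a1bb8e8d12766f261c90f96103a6d0a5ed8ed4d09e57271b315dca4aa17381709b89e8f1020a12972c4f5d13e9c9205edcc96a8454da1280b8121150066023a280ce1e551600d0e41024d25913965dd828cd5cc73549b40d658450094f1e835c024bc8d904493c09f9a8cf38df47a615824d087c7fa79cd5a93b9b24e701f590021a0d7233a6b6d58932a427ccfe57d21145e71a59505a08180b7a29a281e3647ea9a09a362e9d1793a6315ea264c301de089121f0726928817cc96280a3fd06a48006057c4c06a42201056783bc812ad9851a004263598616aaa276b148658ac200825a6770fd476b497704c14787b7fcad6ad979da9141cd814982))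 (.node (nat_lit 142) (.leaf (nat_lit 0x8a938a95182897aaf410323e67d1502751d879308c74e3933066650fa0c4305cab133499884a87508b77e190a408599daac1dd521d22aa4d48043a701a9a949415c28a17ca0dad9b0186144447d5d32e3a6b284304b85cc2f7b8986ae3ba6d5b485b43fa6b6763c292505e4195729a1161039c7497d4a6845c89ce08c13780d88618173a20f79c65342024e22e388e17b45b88204338767a20e5dcf19c59633db7174394b9e91d4e61050122635688fc70c53a25182f812a791ea0516220b7712a42193ca217829c13692706e96545e8a7164f21da30512d27042395526001ca5d5f470936c24265cff3615ea60465f9549a0575bdc18d9989064031c95946aa2e81b9a553a74c05817a8a939250a3a66670757f9718a514ad73c916c4615a0061b10c744ab90d8b96c2c5b83642c6d0122332112a42a9428375102a9746e1c1d03cc384c8d2854ac0ad436300e6a676474927391459c4c67aa621047912076a80d4a1c095083a9d9c1384da3d132e48594a784a40c30a2d1e83a94e82455b67892a9dda88c5b56243d3b280188d77dc5a5ee082897d6f0588062218d3b7fc9e7d8c302e093b8793ee29165f8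190d1800ed829e1a8e32999f037e257f21c1a5e41eceb0ec716121b7f4d3375f217d3f02a630f83c3a8e9815e652d2c08a24181f1284038761605aa8795317f85e898de72a55209644668b1f1e3298bf6e27b46d6214656724b4025a59e9b98695681a932392b9e5a6204b272d009f11a8bda77784901d632cc8095d6d0d10d1aa8c7edd6296493d1d8504d4149610d56cab26263d40764f292e4a235d5085426350fab56b85e7e6ccf86386b75d9525eae438333bc6f7bd938f5bb495835366f014c4782ab3f66da59554989da52a5532182c4c58fdb29fc159b94e49c48a563e318964e8f01fe864403f968bd041573904b409c8005698d0909cd2f045bf9d0a07359a13dc69647da8a451e29203d9f9d65871cb55d935a340287a3336d034f8e382deb27df44d9f9a85ec4c27299440985758359b355f536a2b2f0777aa0c68023608dc7cc556fa8719d3426a115c6a05444a49158a7c2ea15ae2ed5907e6453d74081bd48d998dc7e8b0d9772915692254181078b6159061cc003251187c9b422b45c0264f5913d6142bab34242d5a9fa6bc8f91cb0848f66419298025730af9205035a384cddbac8f791a130907241e8e1a0ca)) (.leaf (nat_lit 0x2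a73f43f5bab40ce5f9980a030dda3d2c626655ad09ac11aa2967304840ec43a5923011334c84649d5b32dee47cac58ce4ab1e74098202d88284bd6dc5c7ca2b03e7b4a5912e61f9a8205fdc10bd71324958e9db2e212911571253767801830e81ec50894af240621d4872446f635489717c0e5e0960857118b0a53d98d087f40d69e70154df7d854584d6a9ab26d2057a4ec4d68464dd52b6474502d249258dd552ea953ce6854415020931c06e0b81f070c5909ae9e944a31c62ee20860f1280ff9254766a1e55a081d9eb958687ecc8162263849d6fe317899d9dcc31ce2d93c8172190085454c10c7e41267e78164e07d49b88ccda86b16f6097a8eb4ea7c66dcc2a64b4403512d249015d5ce993be6d5241d774f9852aa2d9ef9ad7e53a671fc9463a5b09a552d48834e03190a37e1de7488d2c138002814748e394cf714e63b8d4921f029cbc04128692a04003c5b2af0e1846801704ce2a22615293f5c90bab913a35645e0820f44aa612101a7d654444896031251498aa595ceacdec3ed2e08a724ee048cdb637a5d69466a39126014f8f2503e9b0760723d1b97352aa0a397a1d69188c16cce889fe965c32d2164069f74c0209dda3ca173662a41669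615509b8562598c98828968b320cd07f067271f38c9d722cab4d807a0de31ea92345c73b4e96be4a7de062f80e4bda6844428da57219c063c255198641202045a39e45d35df11856a6ce9dab5b8835e139d39a019c750ae90d190d87c4823b57a2ca44f89b14d0789e301be169f4890149d92b628b25a26f06d81aac7e8a0c6262417656f8651e298784f19900e0a3a874266272a0471a4772008a1019250e5e4d0ca5e635429a29c515588530901618c3428851aa1773f2135714c651b2a5c4557e943611b13e895b43741ea20e97b82e7f4f9ff8c0f0372606a85234a3860d548f9063d5ad77c6b3d9bba4d2da1dfa799cf9348f180d586e00949ca2dd7a771b5744050b1665da2e43da952d175a44c0ac23194320f84ea8d753fa15569539f9aba70485629b709161368b5c03043aa410574842866849a1b46c15c18068c78f5ac9cd426c5cb30a1d2fe9e1c634939406621c81e0f1e5e4950974462117e293689f6ea2f915969d61a2910394c7d725870a9415f50d804096a274178db7b46a33290a96a96f20e794e34c68565dd02964c460312251c8fd592c69a3de6454819))))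
 (.node (nat_lit 145) (.node (nat_lit 144) (.leaf (nat_lit 0x26e5b4d328e69339e247806429ba9900a7ee343b284564e125660330759de793dc81414234057b3725b1ba2c9fcc53a8543c93735e38945de1de9c2ae1372d2b7cc2c3f1231c22345a5a7646a8466331d9216dc0329d22e83935a4949c010ed486b9787406c1e94f534bc3004b06e048bd666242e658762be3e7c90208a837110b06a35525bc0d88ea4e069b66719dcc4e60e0411577ea03185fa1a70304da2dce31c4f6505e892007941908644a9c6597de9566ca50ae4d3c1a8a68411013fa327daca0307e223921b53834ab6187098210dd18318ba94558a926468736ccb12d6896a92200e4e7e88589e5576d1b1120b4f0c34c0613e55aa8e1c0cdbf7fe31080655feb45c8d0248826665d5a95d13c273f9f84c60975097612ab45dd8039e7335910722e426ac60cbd6d031544be0e13268a8d1b64a001e65be8e6844d2c146841b5181c95f69b7d0fb8f0f81f6783b55823016771ef95a0d24d113fc175a4843d285554eb2828a5e491572817ba3244a7a20164a505736d80284a79a0355ae440124580032aa6076ee30060495593376a46174b68299f891b2508ad198fd44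c2f4e2a11798f8484c4bdc565caea66211f9b668c027c2265003f9983e5c5e9472470a14aa3e3f085f1662981d04e70e176293a15aa2638c40464f450d9858994f5a983dbd29ab30ddcd6150c7e41939490652ae2ec69075088091d5c0307d63b0aa14145ca9c968a789a3ccac0f22951e4b795256906b2e4e0229afa005c5892c262084600d9618c32ea41153b73e57464098f697984297da373c58887e961ed9a894a44b67ea48478041e4121d6f94c1f21e5f97c6c046a218d35124931e103cc89799320e3a8da873a48d41c08540cf1e0d19bc9f5b1d39700c7829d56e7b58cf5148e25dc943b88ba08fa9d9650e9e440d342d05051510484d24f8b8055feac1956dc640b5526e1a6a7e4309a28720a8674796b60575535162a73265f704682a9ed950a23a0b237d2002c8759e7394d06121765ea75578e79f220279fd78c629b0d52726b55c869d0ef989743795f23ce64a8258e4c2551532250d43d81abc637a814682a81c9d76189b86aaa67812909d658529855c616a905cc426b03d50e8b694b31fe407b12e2fcd816587a99dd948138b4dd4d80547deb6ad448adb11be655809669d2871c5340024904a9a459c2217552d6eac49d73a6a6e6337f10e))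 (.leaf (nat_lit 0x1ed041275061974aa52c87765a6a34c0e7da33849450dcb9a858018ceda1d228c1f175c304f47560ea632c7d588287d62b518c4a74d0a09697104153d108fa049e4dc2756da70af0e9c883e3c4640537a705608d302af55208701ff0091427d5f9e0f61658c14dc9959183d2742a2b46399b188c73b2695d64342c2c7de134a86965e8a9ace320109931dd03d4089cc5a359c5dc873ac2776a47484356ec7464e8139d2392d2d895b90c4dd9819217c3b6b4157a25a9e8fa1c1a570c4f7981e40155228a9a5a0d4e2553f4197fa5d3d491161aaa61b013536826000764f081e469cbea6cf85b08fa0d476c81b94d022f1a81696e3de5b255d14d1eb3ee57a505c67c8c988f35942d87014960b568d633bdab4ee1eac46e645f946e3a535c60f2243995a1b2b22a9167f40772d49830485ece1628acaa641002010fe0a549bf21676196ad43e026e951570da9ee8525167741438511c7e00c950bd5f896a10ce521cc0d1f34823507da62dd643568085c32754138b92479c5eaa08b9f137751ec495852d2a3175ca4be732086da202193907539b728e6eac0679242577e051115d3a4ae6790e760298f5286f846212673ba8f191992b642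0a9040924a9b5793a1b88984a4f1a4a2c2b431db5da6820e296f5291329766a487650d3a888990434adbc8805531818421709b21d6d289660c9380a19d6377f11763eb31acb374e0b278db56e038fc03ab1872c07b855c59dd6035d15006401c8ab62ea00d953260df7c23ba9d90841c75313513a22a65a92ede19481c42974970514e9ac68a91182597a4fe09a6f5ca1b6b9393085ba541a3f1ea934813c8454c59da6a467965e5acf921aae605500cc9c33c0947df4636a40f5423889a498118c4a51da0e759599fdf28bc124697fa88790e14473cd124e8657913035068c8f0158974b89b885944764411dce4cc7a32061349e005d865e1b35c67ea38542fdde4780a1fce43058223a2835a181aa7d299e30109029ca4622ab87d4b089112e03e9c84255a90281034497d361c181c73999579c471019fb8e206289c298da00e56f6c56815c0b77092a7e2a6d8ca1a216940166d47c98530264cd996367bcb64b0897368c598500b97a4fd0108d058b69312d731269e5f2926856a65452366393fc782c65f3961a1f932330d41bdfa7b8f16122c4f82f30c666bd6152808914402eaaa8458988e34945e2))) (.node (nat_lit 146) (.leaf (nat_lit 0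x20a2a556618fc0cddf15d836d98d6be9547e7da7d3d19dca0fa018a9f430e464d8e48a0c4075aa1a9ba609b06248f236509e6765d8953e26b830022b85c3512a5f68b3f99f45180a088b3b898944ef8e274369633d16ba6443498275f0b36d654505da4adf9471ce522b31bc19695f81500856d60338858c8d59807d2589e2047866deb41051999548f46c090620384974d9c2f4103290da904e1642d1ba9364dbe90aad59908682a22e9cf2b4140ba9d4b6630e289799381c861891175c41e851593a48708a5c3dd1228e7034e914cc4a70dfd6302c8721a54168515733141b921357343a46ab17668d7b63935ca1a00e6910943ea6a592775d25f3ec35820aa298554be33702576b27196079119f5861c91c6000a0c12d2981152571d90100581fc650fe72442491d53c69df7198251081a16db34a60d000af775b20bc3d1a03038a6e38de33c96c44673370bb0461f1f1d26794e3623a98631685491c2ab11de975907996a15beae330d0211010195c578d18b65e7ee678d203aa27e73063031538fc6b09888059583acff3749a9910614c396612388d440aa1d5e813159d02acd94005f8b8d2429a26e1f290ce51ecb607e1242e264596908d7024cf99b2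8139de2a19059eda925dbc0ed1babe474d292838cd865cb291ff084b9882944853293988966556b58fa384800d2e3f4342c61531da67d899928764ea9c51eb2a7a53501c8644a0a5c4449e0f40a227ea7536d675ec17a108a3b6853826f1403144d7f4c5571768c4a0c28a4094253ea809279dd7931bd9050fa8c4d532aa8ec8e7519d841858ad528f86d2f96189c90669eaa6e04a9a687709d20245554cf20de058a372dcc850d96491c57f18b96cf68d8de568ea5956e5de254613f325e54dda36e5f0544608be904b037a220529c07224121f9f35e21761d4a96a9648194638d6959ab8468f824a8819797be785d5ee9ea7f3a11da1c3c466b06a0526ecb83181c168051dcf35b40b27ce19b683230ec4557e26c3232e3582c012c0b56d0a206146ad24b1d13ba69c6648733c25250829858b24c0a5654640361e70a02a9c4b665ec270829a5035ca620115d57c1513eac885bf9007a7a1d59354d7063c43aa5130bc03d6a762077862c08213106a952da46ddf153de44e5840da8a17a306c5db605ae301d12b0f11a64f0ae1b2fdc47f98a43197489de37e5d3d48602a7c47891)) (.leaf (nat_lit 0x2a74304f4c42c9ccc144a92368dd6ca5029c548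e88874d20a297297e13a18ae6e4946bc395be606615278663465f150416ab1fc234923650144038a52592b49603e5d534819f0a49fc2063a9e4186a0f5245ac483208359889771466900122dc58cc4045c441fa4656508606385f9399e92e4ce7116e1439e0f3dc657b8877a0db875df1dcdf762654fc08a982a35e177f8ec1b1e68a4f87c8636a44a609961b9779f5b83ce00180e3359225a63712c1f71e6e51403972413481b0d91c818f126e1a4e938274a35e10d5684d57c73478b85d118a6d9a05149331a32a4a61a2514ad9107480732421e8fd105bd260aa5d69a0c8a08a0cd065d40490e132a5924b9278219dd3c286750b89550d545a299aa4c48c5c82f9d6214f014a07a018d4a9ff9c9235fe790995e145096c0b39221e768bfabd02115470026c88503708cf3a1c33b9b1190ab624370414c6781861e878edd22f5052669f6fa9ca20478c96159cfcab9a801542559923242da611ba38ba78caf24e579b62d65e7890dce0ac4e4297c7347f928b41ee9337a7b86d3e01a6663c5e5b52c75cd37d8673d2960894e790b17f4f918a0d960ce89de9170e68118662017ac0023d5f83ca0502d94612018545f314788ae107b4f617603848d079c72664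30528fa831f01b4d5795954c00aa2c1c3b6a30113b76618774dc1e61c15dfa5e96041e9d600254de1660cb20459d96e5a6d0ac91471a41c0ab695230cb711489ada2ac4435951f2ee344696c95497025d5a05290799b978135d831459bf2a24f83a025ccc671891aac9088e6f67d447dd323f9fb30c5692c9c6b90fa9158682229da615c0556420b14082900c01ac3e8d5793ed9c781aa50264090e491e74444b5aa15542c8454d288aa8fa5cb0959b76d5210fe898f0bc2181aa152d22a6a19a67952aa03846454b6a306f4115d9342f09dad9c1340a1bb6d97b0f042a11cf8f87d54407696688b9ca31e36124d87468dad24416a52829145f6251c1eaacc234f5f5329ec3a459865851d95c685ab389db1d0e1396247acd11a5f3824ea7e4586303b9f89f4d935846a0a88b7931ac0cd64351cb295a7779c15a87c8fd6249da67bd8b4be828c22c2891d541930309a6ea53185250d4ff87c8e8bc8f72500ac96352e089a69144c3453c0d98971789b33acef6f18aa0c155b83a499d030a3d899f455e20938758e4e00a45356ea1)))))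
 (.node (nat_lit 150) (.node (nat_lit 148) (.leaf (nat_lit 0x1ed51ea24f86a6d86341dbc4fe6a5666e6e909560072b498a8548a94a5680ab8155a420629bc9799651581f7a800314aa4519bd2b1bb9b464596140488476a8b9e46d71cbe1704944dc81b07c739322dc14849c1244839f6452386b9ed14764854bde529013a45d8aaa136b194719159e9850c0cf8f59135cb688c221f51867a1a058c8674e3926333383103d958fe4a1199c5a1715e9908f83d2416434293648110c9c592c0a2fe2c7762e621938703b1553c23e95638fe8853a0d8408741e5b973a52416c04807e39282718bc2086cc07094a1ce967853b330db989ae9745e0716d87a9a231e84ac10289347a48b10989445001825b7887206e38aac6f22a9c4d56c074c27104b17e705ae44971637e9e74da9b6d10e9a4f026def004a857506a8df183d5b2a9f02694519e6843e0d411b550e9d7c8a9002101429e999bf57e67194688310d7d9445720e0080b5a97837d8a104e893599888d85f84566a4c602310d0b1860ca4e25e378353557f938e710d8c376376ade430d0262d3787c3e0cd9b110e65c0ee9e017208dc4780d85cb263ce50e00e921cb2012977e302d03c22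6114a86e726773b1282068d44276728b35a40c0de424cd7b090c5a09d6470ffa402e05539812631f8d280d49abe293102516dfba12b027e026c5de611d5a0c771c5ad31a7275c5d099e6ac4564b23615db36092473c7b53ab37fe8f4757427a00ac97689c288b66135117855230a4cb5d6b45349c745229f16270d302e5d045a8c1e0278049d5319f3e6542980855c4d3c9a73c60b68e59694f4688533dc5194cfa9b13d558f593da43cc4c9680481a077e1be9489601a6b3e15e3d9a69604e184b8541814964031d2e336346362b91e5f599fd49a81730ed40cda5e4d39fea97f94f8a28049c7928d517f1dc0bd869183a08624735f9a24750251b1c27474cb5a39190a87aa288676de09ce8659ca121e7e11e9289488a212d78ce424a757011a3592086554a647f0692136459980fb7514b0b05aab9ec060bc5ca263f4760e57d2f48d7aa98548bb066204c6977acfc6c8580ae87449013a97738285344c15862a74a35ab6166bd973863c61d532e91f60cc98ea43660e98ca3b3883f128eb6596f08d7cab0740b5552be0a4145468494501f529e556e2a77cd426dc6943005824b095cef7b90a991b950493aa0669429f6a9a98204f266562b9a842df4a9895))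 (.node (nat_lit 149) (.leaf (nat_lit 0x20aa362f0ac772722a419321318d795233c9543693c42c500f84777e252948a04c656b55b6154a8851e9d496a14a07c4f69e5346cc6e24c1f7019e7c243a927b5f4ffa31352a8200488b0fd5d6addb33271a7e4b12aaf3cd223193a370b32906805955a0cd1aaa2e9749e13594641677995331124428b436c7a0289b6c2b34023098a09274510aa7daacba091b7645707c99c87a7aa955735236384d0256070516e5722259ab0a1e4f1b22d231936b29d62286ac6271519d482a3381de1201e2522c8220d0b0255bde46d1926e4c5548f42c90c4ec2224871606534be3ea466775d9f8008015438484a98597475203004860ca148ee6a246848e5423b0c03a5143091a514be831e10ba7420cd6905f5745fb869cd00c5f21617a5a405eda5741f31ace43b940441133a93d5111b38e5c5a4047497668c870005d8f213a683d950e538a69199ff47c374453f5f202691750c45b00a6ca6e12026b4686688663d8057775836014823dccf8e02d2106099242a51f973da67241b2fca13b67e4563550c081587f63c7b505ef3ae8b4647e018579285e4b29572da799a925e9368fc40754f5204c1739fa339a2811d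3170302229c9ae3a19e268444208c493e0c9539392d50e98c6d4a9306c606721f75ae479da1d586521c2236d5e30343c1a55e765831cd2d9660b8a026841710a1877a1bf709ee2e25ea220f14c7609cb6639bda79689c83b0388f7615f6b89940aad349828c9f871d969de46aa189890157287c9254d6110d2bcfe4a0a6782615b59771a1ca9a483c6b21188e1846f5311c3e90f35d38a381d2c1335cd058ce0ea249f0a474361b879d493c1040e88976aae962292a0cb320b7030175825aab27c96e5013a8a70475595be7a5f428a733e5af4dd2934cae0710155a906616c7daa786e789168226858936984b9aa714451c81951c793a25145a8f7ad626f1795600787e150427f95aa9680b93750802c5212cc74995116a653f299425a82405953d2b2b4fb7317e1f6448dc63956808ace728d18655468c5637a98c0bea09c24e770cd97d9a7b5c36a4c3060bc084bd2c4bb815bb629ec0cea19b9037f99b068981126f37dfc1a834494d53f4ab5e17f569dd788ca6d86403c41a5e9395d59601b25a91d52c111888d9b512a053141cde0e47825cef541270d6182b24c882a2618a78d1c45c9997f53e10d1713d48364e69818b6e964)) (.leaf (nat_lit 0x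51841b80468660483a69fc001636cdff21a946ec538298305280a28646be836140ea5e022020d6f84f33d316c65d1e29d1ea251f1435194041cf52b94d4b53c2f9183b5a4ad042855d40de54570699cd990791f3e62a6302898977176417c498aa2270aa4567568578d97b23600e6c6a55f19657670189d9d70c6179ac468b0608ed7926aa27d02b9798f0fdf078d2f4d95046ce7300f82a10a79e740f94caad088c8d15aa6f68c0545cdf298c965144a4a246ac3aa607ea086192c16470d02cdba5f6007e9703c09ea25e104dc01161c7688baa5621d22e930844fa72a140f3524e1c216a6c8574e616e4bf80e99a4172929066f60babcff0349232cde0114751449389000a6073686f8240b91868a057821e0161019678b627deb44830754bb08a5615ce6464a4484b9148a93e84436151781c588a6668a6d87ddbace70a7879911f54c9b05598e73a3a17a7d61e5c475ac899cd5da378f19524d118502d2c688271b593c63594ca64d61229d89940267dc11d5644d497875713bd2c2d0f14a0562f4e30ca8e4edef494c33b89b3d9090224211e2b242a79f827628d25a61a6a94b724c8ac48d6fdb656e525bde9a2d3066a7583d7c0e16e9368c6de0e945fd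a70c13a10c04141520063710212cc73848ea858d376481c8d6a54888627f0498970c8f6f2559268da1278830818117a0edad788957b606155753905ca9a5b990016821b10e2d8bc76aa95d081d92c8ce0e5102f02e4a94902a33728a52c09d498154e862732138e1272dca22bcf7140ec4587f84955539a89a93f77eb088dcb881de411291dca37a0ba0d9d27ec1f66d822323094c946b83c62c217ca4016e935d00c7a86e5808275a7706a63a5a6e91e35822b2121c4404db1054217cfe0b1f3a8157380d34807153d3408d0b2a86aa1dfe46896314253f45a4f4c4224fb455f93c97e4ad6c135ee81596131d11f5591b67c621808a17f528096d2501396b3346b70a69a465a8c679ab2199a1c740c4a5ec597dc266483da8ca77d953568c27410d7901d97e7a1013705d522b466439231ccd559807450ab7193959cea69c91332ae0d0eb19d3806d2243c993ce60a923e8fea58a5904cc2447a7b4b9979629f5628f5cde68d1a60d6ad885dd879dc72267685a58456d1edcf8e43366186071e52e0a19c643964f4150ac44c2f3a4b5281244146c550d7644fc7e0c66c8583963d))))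
 (.node (nat_lit 152) (.node (nat_lit 151) (.leaf (nat_lit 0xb62c010a32565306f6dd9e5617d35d29189c107a0d5aa813e5de439706ca0268dd43a26a21e13008bb13848394329e9755fa9a4e4c955e2b4b4657081a83e21a14f740d0c5b1ad2c4a5024d2949540f9bb6595c97cda23d06355c91a9e58be9e1b6654542b59c573f1faab97a179418fdfe695d63b2682161701cbe14c443908b414d07149979e33a7c72999190a56f2b00c6be5a540396d193555823792591c3b2d28d28d8c7dc7a57c369e179606964ecc555a2658c56401fbac8c316943905219243f2e689279907d44b576282a0143364f524a06fd9a5812c389877b489a1cf67701884166aa12393a4526a601c5ba6629094d52a854a86cc781e298b8f01b1ca149e6018359d04aa4ead868fd445ff6a5d191095970426e19c3525553aa352e1e639f023a7f3e8ff0820c87ea44724316d478f214000bc39e6c21aa55a42f46025a6d375d180235ef34cc481a258c4f11c1c826dea020379d8595164086403300e99b882a9d640b9927d0789f0ef8b41c820c8a811f929843840b76d941d1732a41242045a4aaf30502449fd69dd546827a65355dd85229ee33d3037c0a761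951de2a2ac0e4298a7e047a0cf28c81581561a7527918ee99c847f1a675c554f637412b0859c4151e923250338cb29e274fe974da8e9654f2e8ad035e325a6213c227643a2cd269216e6c2843cde0718687ac91944d1318a68913ea553a3aa6f201f967dcc161449090bad1780760988d2b1a6ab645f32415ba209d4c8759ca2098ce0101be665b395d4d5c4af03de224e5d130237741f82cca4a064aa98f7c47c5668b284e69ac88811a274c5c5223a43ea9845765fc319e51609a356d86e6843d2dd249316b6b2863d6344cc799c61c4b8dc291bc65d7b60c339d5140aa306d46b680e39907d801aa73c605023e41eac2fe944f110084389ddc7141ecace18119ce5887e3ae6d2068a271726b92092c1b82968a88736f59b47898978b82a8134267d1dab15f043735651fced9a483a613446c280b67070c667a01676a6137589888d696151a9a823d10162df62492f19cd91443c2ca8f27d6d6ad2293419838cc05ddf618db6221d6c65454e914c5130b0349cdcb25de401215014c217d428f6016a1d0578fb8e0a26e59d4749496e2c2b8114367e1ee803e236635f21252a18cd8134412d612004bd175468ee03691d2568fe8e69c4e117090309edc0185e1))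 (.leaf (nat_lit 0xa5215330ea42722a7c2b1689fba363e188d662a6c984e24387e3e41585e49564761160b7419700a8213902226991b13b4648a71581684219f0039f9d783d1d47cad125452124815d042d58499c11781bb8495c6524089d06700c426d170ae659ee9e7222f864b103616590c853d414aa5d6941916e535b5b214e2201ce72829b299ec4e4064d08d81e919457ea58423d8fbaaa5a17d4b67e5e7b4ca8723a6b18e168d7400206a5886fa24098c7324295d5ca7b838ab4ff28d7d7fe8c2d10a36e87809cc28523538807d4b8574902a0eb91605118e45824d6fe90a0479554e5484ac1f1d584244aa28966ccd1a5698c9ba8512c9a00f8244737579a7c6e0a93e9e8c51a118266750d0b705d635a00e5f2b27dc88598957f56f7c6af5e2a327a550e52f0edb78d0e043c566326b4c256881653b0af49d98002831120d73e57981ce79a7722dc34e91b8cdb65ddc9940371c0f18c5151a8ce15225090b3430da59c658dc129b992a9eae8d8827d1734b53d02dd9a817a8228580cd2a022d1ee5f748782a4e9420e81cd9c8e0483665c69c185fe940c9e834d31a69567ae1f874b606e115c86f3d4fd50c1e6a94a2f0f21c57093eab9923c6a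c5d9496c96da6068fe3bcc02959d7e93802136a72067a9e129c8f4fc307a4d89645e288f73f23913db025a2c0718d1663b6b441988bd3cc3e44c5233e709998372d050d8f00a17404e6f642156d03f2c90b37144804d476aa12fe8f26961205f38a15b4894d619d31fd1c6c67f7355f93218a949d05947548cc24dfe131891f58b9a9828f4646bc3c6e1dc68cc22e443831d192d581d4ed2c1253e9ae6553c46a981ade49e02d7be2955ddf12a8a6648391d202ac8e47987248de9f642405bc84d10346730d5c78b82c682796d49fa75ddacdf8219515012941d6288c275d97b8ae260951425cd0801b35242fab1de0526d6452453077aa686811d8a8a1a82a9257a4e4cc0564c4b2a8ea4252e7519e444e6102439c85c9516b0c5e7602958d4914dc044d5710756a86c232f9c196060a98bb3d0a407da89c61e1451219d8f1612b38c8591a88669d6839e2a4c3d4ca411e8df98e6904072615c68c2740ccc614116199f92628b541424a2b47d8876f40c304ba7cab0884947f022519543e1c276ce14342e0e9b940e3f18e8e1356e02596006843b8ae49a4a568746905578c8c711e59da971b4d5184cb))) (.node (nat_lit 153) (.leaf (nat_lit 0x1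ff26139418a297e4c0e19178086715d743662a85e4538d38f59aabd1523977828182bd720a96f5f02331e1759e8b914f7459ca94891acd487da9b28d226f05c8e4d226cfda21a325dfb3509f7c29517d256fc8a789a66e45947cd626512a60a17ceaa1b5a92980f84c125900c5a16a5980b5cd7a0797b840272b170014a75958e924354d9fc25a637bca051a5372d973463a981d442954a9dea9a4f924882960724787c44d4523eb066e7e1f673139a81b22d994d804e1404556010b331400876773912f3bda4a2475990fb1a1ad9f06338d7f0f0f09c47e37a7b7618093c3b4f5d92314a910564e24e6ac22818b10096386c152d174064ba5b593130cf680897065d1adcc6243d786ab0b6a01d9d52517da490557c1430a1f018cc89c0d568bf0a15b7c52ba523369cdd49e7a6f63c54c6a6ee76174dc68846a4195140eca01f89b5af4d0e16369916275481b045e84ad1df51ce795181a75040bde62054c40c494fe3e14599940957586f7392e1ddc39a0373e192189b5800c42c2118816b8aa082d41a5d6319c92450df79fc41964ee38935a3a6f6e18492cf60ce2307e2b00d5c0a4b855e1a561d21c10c3647a8caa6221eb6cc5e660476850113d968ec87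549ec0e98874dc99b87b3d58f0d2934b0733425b7f5dd512b1969853b514a05ae90d3115c21878018a0162b4b90820e6a8e08d6746dd214b6977d2823a0666944837d3314a8c9e4606f9860d9f2020c88841057629038be5642c8595e43cdb8d29c795b19e12316dc01d0fc734397ba8a24df96d86561d6231a1c8496c294b28157683cab029daaa48b441ac1911da782e42ea85fa4a4f902525fe9704d8dcce100c0324ca82560306192b82ba69dc3690e6ea3f202a25345aac84a3c4543991819e837d5c43fa67a36014dcfa93590a59261097809a0d0716e01e182da070ca852694b291403ac3f95a40609074ede79b030920f3241e8a8c85425cf1ba3670878466ad67aa4444d5471d18bc9da45282a4bb5c6245e561894bd026511564627a02110cd8e132721ed271297e8616523010d9f78c8d6d13c422619098b77aa55408397a9f544e9676ac1a68646c1b8302430c1732ca8096155a6044ea8f91d8a3d1009a9c7955420f98c0c4f24c0713966b1e5c69f44580d833aa57a1db246941ab9db9c0d71fd9c9045353de9212663fc4b4aa2e742268b0bc2a9558881d82cb7)) (.leaf (nat_lit 0x1b51d96c4e148531797086920e5b966217ce96688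109ec448e22691d392fa45864510827f639091c4e932c1f228e12b5665f443216090d9031c96773975704644d144550a583641375211a0488e62b698149ce3e1b89c7f6a65cd0d108e70567c61dcb80dc86a5ab118873225f1fcd54013c501506d87b5c06d58dcd4ba8b9359f026705a9f1a68db4945402d746f01ca1d8a91214135ffa8a2a4f90e31d61608df2bda76ba89299da6e28892e5e95e0f8fd314f5495ddbe4ecbb1ac9f6a80c9dd0c3101d2360172818a0d927028d29ddf82c327787e340fc3021f4b21713d1ea90b6812826441a23ce8315f6a66234706135c0d9e1a86b1dd6f4cf3ec2e0c0ff8318500e609506320a748f6919589b088d91957b290eb4228063c1ea74b17e5c3635c47ea241140f9e9a448c97388ac008a381ddba3d800025c0e1dc82237534ab8964814823a525a1d56ba7aa05be0084c4c474403b50a3197199927198da7ca9b329fb89c4a20636650348ca1034cfe0be067628a924e59869893e768ee29931415453a2f0ba994ec3258b71aa88a1fc40595765b901c9e47c50378e4618672194f2a42d8b6058e94354d36360625d8795ba9f9f69c9499b0aa68845e1aa4f745092029697412b4b52fa305c5605f56e8e4fea3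8c26e66027238fa45e1b0f1ee98c3126912529f874c0e2611a240f40e905870f9458495e1e8ab242aaa72574d61785d565b333455555c728808accc179a1e105ef1e0f246ca855d88480b9048947b5cf0ae69664bf7b2b0674269a83d41a20961462ccd2161604a1294a95f6c45a22e818cc893bd109b19c096b1869ea6c17f755f475d1152d222d1ebabd7a9f9422dd6474aab9c616792b4a162fa86351cc066bc60571837443325556624473d9132c1e9ab4c34607c3e0299b5976e9f0731192a821221e56b405989810fc9d669b73d4c29d5a504eae9026f90e1d94d524d5452d45378e153990f1bcb87faa78c4d468250611e76c828200fd158ce5f1333ccbd64dbfa5d687dc7a05a2295667929723c47724d90066848b202a94e3410390115a7242c1f5152ba514c1e083835659bb0eca186132264dc49a6493ab28f04b05e921b162750ee42ca0139e28498c06e868b85b24634828370065d5f90215cd12c8242106a381249e5a304695331f57599e6d2931c1655393751d6d3c07425a6b91859232906855e714ea41c3e))))))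
noncomputable def cR_11 : Tr ℕ := (.node (nat_lit 161) (.node (nat_lit 157) (.node (nat_lit 155) (.leaf (nat_lit 0x1a075084710b0270c79f89a5adfc9651d7cc29561531b4e7304386b1c5888cd59c67630e00ed098c8127858ba6a803de447ece65b6a189049a46190bd3b3586479d0b045049b0db86e871490278c21698eb0cd298a54c972a61e0f85bc445c12d1e4c6929157de46525d05e9949c9c028d765005f7bddb0567bab4409f4c2669b42d491985b822a418e8088b53a6f1d94841e59998136b28286f3c0f95e6ab32a1d51da7aa5234141d7c52281193a960f4a9853bc4634d5f5d6829e4e37e0fb09545725da8ceb4315d52f082354d729c3d9aa991f9de7b00d8dd30a41b2259339580a92cbb205d789c45729a80c8bf88061a34fc099f691c7d579eb03236a5c569ad31195699a463648344a072a906a8b11200d1040414420e10f18a99057855370e938858363a1521b15aa2450a04f600900a7c7b4ad1b001fd8987ca80c0274f50ddad1a18909e5a74c839960810ab365c4c885cd1714372c169463c012406e48b6097d23cb76442e97e741c6105dc5573a5006d24808895a831814244986e6654118174a0c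a2a785b6041f44ea82425b29211071f214d4ea1497870a04c85173c5e2a63502e4f4950a041e9a38624f187106074b88c99e4e8ba53654cb6b8ad71e712da6021e8f9f21e30ced6895056cd84fe550b26e852948d10f794dd63d566c6981a4d911daa1d4fd0157f8a0f4634a63790e7910335135588dc6bc7f575c153cee68e18914fe7b5142e854802384612f5b9b65ccf2600a86847aa18a13a494554868be54932233419dac27882ddf4191c960ae165842c9bf8f63e8fdbe98cb4a6ce2234e54f57b836af9dd9e5a0ce9891a061f40697c0e688168cf670c87094212aae1d161249fa45a0147c2b8242da4899aa951570d122273255ee08d4a2b1c65213658e8c799dc436969b6136e9b70fd7e2aa2b74517920986c0c97314d935f02ae8b0d5a53a96436a6f594df9a00f7a10c024078e5f910cfa8a84b976a71c1786d6063493485e956400e3fdea4451e3ce84979600c21a6a5885c4bea8e5280c773c57224c80758bd08a4995c9f2954b199a431230775c851a6687c3e83a75849bb638b96cd8601a428ee9d66dff49cb8a4c739eaac1d85d510e4138cc65820761200a8ec9c08ea8a25005fe464482c583162765b09b9fe8a1ad5955028789f5066b167c178c643279c32bc854f9d213e0c6acb3a712c55dbd4e41341de0))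 (.node (nat_lit 156) (.leaf (nat_lit 0x6767a888b29e97e7328d5d4a0e55105c2f9a86b139888a70f8d8962525c02240de349e337c51900a3ea4d6292cb061456218d5840c89f89b280a652cf79896c2ec60a55fb7921d27a7738217741486586332d9033982105c88227d87e90a9877600a8998e7a4a422682a649e28bd1f044269350a8de03455f304d1c6e8ab778523516153a05728e920a6e8458da88374f5d257cdc9c17d240b8a0aaf64deb3e41f0e6594eda4a5c5501a169b06e1d1bc59a0c5483c6e1231b023a0d088063a01cfd6c008161009754a3646f0747c4b29f31a8b669400d6134fdbd9ec2790d098f1ff441ed039226e4af8b461a3a2154e0b714ed1f66a30587a8c33509d6554dd9e984124b1a1aae665e13d01b28a544c59fa6c5a200eb5d5832caa16cc974ce25a1dc9049f48c5ee914ff93825760d15f113132204f299688c25b88c3e1ec3f157a12281ac655e1d436d602846265e8d5bdb64c278275584b5cd5185e2f5a66c934871561ceab95a575ac178ca444822e7e11700e4039167918a95fc2f210cf8256a4c86611a5aaa81e245fa6a9386b44f4a55c15c312b2896d4b62496554443142b12d5799a0880b80046dfd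76d0d929dc059efab6267c0853997b5f8b7aa0d2151948ae8071c107da304191d782470b1dd340bf4605186d35a51a72f16d234f67950281a7f2e8701921a73ce25649c0864943a3d7f91a7c809499be296341a0cd5a14f83dc038c879a6186329d0c9437315b35e754b87a5c67cacd9d79cef0687193d376a69116c4281d883ca5c5c8c01669c8e1e98789f9e4de849d75059b1a4c5638d398c3b70e0d654cc6bea41d9812b53e3b9ce8ec940a18b47a354900c1158a3249512e29369d3854368e6980644d7a189980fa22ab24144a052658090c764242607ba80b39b5763a9cb0fd4d58d2ba32537081c22d1268d3a6b84e4bd5e1f8382ba8f3c5731e164530481aaac2d1749bc811fc05452047690b9323602e50ad2277d58f3109623a2437dd5850344469a080537aa7196cf323eb094444035a18010777c2924c75a94b99ad773b1c40e9545a52a358c399c6d1e5b788e0e5403d6fd251c80aa150f7f23f004fe6ac04174fb97a72704a406047618f031e8a671450c219681bb9d02b92104905f9459f703d216d0aa404996c4ca5260a718e820e645e991a9c2d51dd1568e19da612262aa06a9661e63d415102554d9a5a585f)) (.leaf (nat_lit 0x5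466e028049b64d9c7e46a3052e020507fdb2664666b5695900497e1625c526c19e59c0658a046ac99aae451a29a58c1d674ef801ac80d9a9a9dc2316f82cc21b52f9549e116a3834ba085039b0e00b525a944327257959ce1b189a912622ce19ac091560cac1273b46b6da2a3888a8d2102ecb84a25a1c10123e6f4e117aa2594a6932f20f0a2720d2a7461399ba6d35de0472a60d5730a60e34cc99628a0ccd28c8074a8278a0bd268a4395e1379a70ad4b48c371fdde5fd2d570385c4c00b0782d976489f31c8ff374916ea9d0d9240aa058b0df8da64649d793da971dd97a1be0bd6c08d5fa221b7ddbd7a587721a81f1cc109f687289579605e56b60df8289d8125aa9f2376fcc81bd165b46979c8e769c62b41e868863de7098e914329b9e9453d8874781f2b2253662f5127ba710b428414b07b50e302fe262ae358acf52162e61984294888917a08062a393c884008811ba344cac64b24c02598cb6bc648f4d5a0895926af1384d6551a7ec94a0d3b8f86385e6000553a1044465ef3323f4e8d655d80989df16d5b3f61903cb47024e754a16f0b2ad0483ed75ac991045f438e4c1754969a072cc103f266acc5c9369f24071945b71f9e6059585b9c57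6da2550ee7c15a02977159b96298173df23b152691a3225c40e5f1741e562db82e5025649d7464a70da10898c7902e3c248532ae4f8463989f41623a40a6682ac3fa466d45a2d40e559b15a1ee9425e3a2158180c53858a79124ce654dc0d874e714ead1654d91cf39d081a55085f419844a920c1b50507a583d9d4f24747736140070842a0aa89c188c542aa880910f41e43f4257c7067906904a51e220a734f5d631c17651bb8e8d17ea7f5c9140f961696804d4cd8ed904d84b8e1f5879159f68b57496a05118f0654d13244c4f5d17e00d205ecb111e6863585281d22f9ca6200b949d37ac57638da7b0e4102a25c1cb1e9dd829ed7507363db47a8927259f090305554a9f88d9065431639a18cf8b68c0c68f824d087e22319cd5a826a16a0441b39013199c9833a873100532a423506737121144324012b96e08180b7848141b8eb47ea99a412546431782553cdb852a1128e9974a394ca704e1317cf15425c3a906a4a714fd0d4c29930cae056781f4f87f998518b0862299850f0ea331d148659fc3e8f978e77709471d6980ed0e595ae2bdfd1d9979d8615e03ca5d82))))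
 (.node (nat_lit 159) (.node (nat_lit 158) (.leaf (nat_lit 0x893a49ad06a97aaf8549b8e27d15097aca179300492260ab866651fa1406898ab186499ab24b91806584cd1488aab5daac13dace4792a4d82c7ca70429aa8b9ee1ea8d4e3a2559b0a28ac498367f8d63a95ce6532a5a902f9e82395a3ba6e80830b53fa6b6763c172797bc6fa069a23a10a084b8f65a8c4a489e6f711e5aa2598f817a0e0fa547f9d2a7799c59ba6da343e882a69d478a5a0e5dd81961249cd841c4538fe94242841a501224cb871a78bc39a26259c87e46a7c5722605a378c1730293ca21f3a445686e706ea648928a8ba4f08a1d0ba9d2081a815f74501c4d55f73884625be488dd6a55e4d879455f67703f5bda8379236f5bf31c83345aa2e81b40df84b4c05817a8a9e42149a4d234075133dd8a5a1cf2b4916c4725148b1b10c2b1d04cd8b3d8374482b42c6d2314450d6ea41db4282c88c383d42d084ab5b42a4c8d2411d10d8c86306236176474004718035c4c67a0424c02911e1aa8644a1c02ec958099c1384d8457f5f4942f1754a4636c969004102f4e75f9b67892a5d1c16851b6c03d3b15b039675485a3559b060b96f058805020313b7fc81551f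427d993b84669a9f1655303651800ed66a078a232999f0779185c5a2105391ed580445d6dda42d8d33fdf2078c9219b916c0f569593953852db821d1707df12844868d4d222034dd578b02045a364f9ad271643c14910ce3298bf4b1056d562155ab680b4024fd7ba638695681993115f9940fb278b2994d947a9e70cfc37c4401d632cc9d6b0f30d1910a1087edd6654a95add8505070a5df0d4f288572a39407656c2a0aa23dd51c1426bd90598f461dcc425113586b75ca509ccc648333bc195e69397dbb49583858e01ddc7782ab694e17a245498807a4b8305f54bdc84b8c25744f3897c49c0379d86718964e919196864405752a530e93139074888c51ea2d99c7533cb10ee40340a07360a054c66207da89551da920f19f33a71311b49da977b44770a3336e69729e3481eb02cc3a612ba85ec4c0be72c409867847e085ee1836985948057a92172498608dc5e05190a8719e9928e8f7f2a05444a658eb8a414a15ae950e91816553e7717a41662092dc127f9009a0a73a997540f117dfd04d061cc924fcf887c32a31465c0267750d976142b9486cc6e5a8fa6348d748b084a5b43d0e8e4259f8af74c31638f990ea951e5c75213090613518f0c0ca))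 (.leaf (nat_lit 0x22b7a06b3087c541616623c6ed73a90f0a5025960442fd48490b46092b7e51a4c499620777c2b4395bc8eaa38a1c38bd8fa38711742e2a4fe625f88503f6a16faa5be06ca0a65342f5544300d362a0322401345881de1952116306288a00510b91cc1c4da9811c02740ab666095fc368cc657f1943c5c8a713d289266794d8583b2da4c460c64f2ac064e48428d7b40fa75d6899a17b1661459c49cc1531a63ec9b0c9b998dab6cc071ee6f380f98e1ee9ea455b66c8b569989723557b3a0f4370e29b9113e279942848e5649a9592025e56dde1f40433cd39c016220556120f4b4fc2ba310c206a6a556b4186e2925c5a5934c51413a7acbe9c86f2dd257f61e9f5c60869b559ac95eae3303a0411789109538898145b985578c035015afa255104c5648ca42ca967142610d8e869f2104696584f8ede94fc6d1250453e8a1f81251eb26d51b9694a924b867d7d8285aa3c00a41022b1282e9155fa4266c4e54c7a429c173ea17fe9f8a5bf7381d7d87984da990e2a4a58045168514bc9480c18c2ba5dc09988b018eb5627f5766021a322348f47a7c38de33cc22368082295a3a95ca056b28e6b78273415772766d5c0df3e817284e7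a093319201471431004694d8a6c4380a9d103aa266a23130922ed0b848611c8ad15d2a821db164016c0d262c2c0deaa6aa416f5527dd3544cc71c2257aa378859d7081175cafa31081a1164edb7ab5cd69c3c9393261e170c5812992c7760e3f47f2c1d541cd4311c7068428b1fe5f25612a159c5f1056b36e8c9464660cca892d8d9657a0f9462cdc4a78241b1cc9f8d66ca88171df4c22e614341524a2a8452392265e9579ea5052ab88236378ce9d4822709aa0d62596645e5ef08c98028e636cdd3fe743409e204875550158dfaa00969ec8c418e13a4ef7ecf25b0901d5e44e5d4919b407eaf12003a44a7654a597c5e7647412d3879a4874e3e14d6aac2186464f0a5cb6da1c808670be0b481a486df430c6a0a03948542365005268b1b82d1820d76a1d68d787cc2725c20a4eb1502a77480943478302657962760d2e8fdca4fa04a999043d938f4ca32e352c52f864cd83186761a0726a880d0e6491f2d54187d371491091da20f4767d54b6b85f0780b3dcee5ba674756725285911769d88597560971dc57a3420d5f3b2513449544a873d4d73b66827de2a1a785d5039a48424e5b3da775d091))) (.node (nat_lit 160) (.leaf (nat_lit 0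x2632d1be691783b15056cd89600f266969b6133399e5a1c79c4ad604671d962351355ccf26020cac67632856218520246c08c30015df4191c805fa45a3443de594a4d8c2901c41a2adc862214a526e320cf670b91b8747054f575bd4b0b33b9a3862692785407c39088690504a998be730f35f8b8abe778368c4d9635343721d9d88cd0528ac71a6f84a957ec0b1d62f9524c462008e1e440d0e7284d064830b4641c0a02361ea3e7c5c43a11c4b2545c1660637d8e1042c2682a2242b8fe3d8f808160261e8282518d298de7c5ae654cb3953d5ee9d97a2b6507c0fd83120b14c4655a5a11f4c2a7198aa65505a4a8c81242520081d897d7c44ceb0cda66dc8c4c2891428141235582ae665d39a0d64a8ae275c52d4916d1551caab88061a34a8a5d9fa38624f2ac1ce7a7508468204430b67a80e3fd1b001fd7b81c48a7059e466a69ba1dc9549b565c4c8851200d1090c178c5db055ef668af8b5531b5586a8315ea8525e1c3da746ee0928ab45bc443e0bd201d6844d94e1012a91f5aa575ae991fa6a455f589e3a5e4fc55db2259337354638932a9d9189049a86606b587a8e7e36d4217975a4cfb095f87d0279123c01240522267c0027f11a06d24940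0d779ec88949920409eead2153e748634e9af4a1c38b09f2954b1e5704b45785664746103564953908a0dda6183839cc110cfa8a882754bc10ab3821dd93d370c8bf6a06a876861ad59550f0599bc14d933447b4ae9f28e727028239a174ee599e52799602041e94288b609b91a280a2035694ea4fccd57c1341de0079d94840a92e565b26b4502fa46191dcf15c85134d61499e86255a6c61a73e1b3dc3e83a756e8c7a962936a076b0605d1417da7d789929054723aa28965d401438dd8b47821409e33145d510e40ed8c3809096ea8642a0319345b57f2a67887e6ca602e7728b94dc27fce32dd7d23dbf494ed80eaa969e742c11199d72ec81aca0a1bcf92e8452856e4e55c4a4b266cc399dc42c09cac2516ce333d1e18e5f901d17741e63d62e34a0f9cca40627fa289b69ce90d2616e08a13d2f57a4ea7911a690d72ccc6584e688c05456561205614ef11a28a120b4b964530e885836221234141d8d9eb031fe464011fdb691e428ec067dcfd0911d7cc2924cdd7c8d729c3d73977155b032498249569898a3843c972a61e145a485b1698f311ed370fe6ae45a91765005f)) (.leaf (nat_lit 0xac5720c7b9f542aa56ea9e585c6145e59164d5a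cb98b0401b83c6b1736bce53b6951f430182195f0bb18d0f80a911d4c2aca393fccc86d696218f53d3866a8306c220a50071d2d5f92f98d979fa8664a70531b94381e024180b1334ee804ae5d984bf1658c3566d90c010f54299d4867e3f7fe380cc56174ea74e981e5c885c9913c957e24f41d5981e0f75458a8a8f6ccce2d6268a91e49a47484b80fa9f3209637205110fd405db951a51c1a62dda7a35237a24a6197854c360923c74293a6d546f4257c92e25ca72be094d9038b9dfab0e2700c6329659d67c22e4e471e45c6275b43a28c73348b4a260b298ad43255414f03dea3325c1184921d04a70eb435dda77a317f82d871603b1b80c868859fb80d146125e602874c59653589646a69480e5467652a824c9390a01007233ac58368a6f4f408000076a5416846f8ad467f41a75d3a5d25c5258a9ec931a454421ef7de10295583a0873e1114623d170840d297390eb23cde5e5645a21e728db7087c10c91579068c8a2a31ab895ec494412906b2cd2a84e73208134669c38dcf680399b170511b09251d490158be623814b87c4b2287b671b66f8f3411f09689a1a84c4a59e2b9cca50ee15c5f0c5772f4c114253454761e88dacdc4aae36761029007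f59a068355b9590b7d0f56d5bc882b019d1f7989e5b2902828e3468a08c2b065939fd3c6153096d75222799b9a39980201803501aa9909d5ba699dd5063a7da11990442702a2d376601917f2a198a9d9008021031ae340d45c8ba891e1919277a8b21b223588cb369cbaa445124772a9ed3f1167ea012145b1fa92a65d2122aa8461a19a417d8e656aa13c4f921a743d0149612813555820b002ddc606ae61cc52309011a6b285438a6653364492de7016182fa140e0552023b4491a04934745ce11e15715107661d884c72a696aa05e188bc8dd13811eb930422d9ad0ee886c8d68a15d2ad567ce5095dbba90f659cdf2628b691e3010726a1479a13f9082a39e815e9829ca7a62c9b4b15fa15b75380d05c1f4358d9c67866d37650160740f774d85f4ef58c5372557239e03ee35270cf6c56f4824827c6d1c576251fc425d6838fa6d2a016a008f9170b83520dd43a5cd226af302308d0fe386ad3656a31222549951e29d3c9bf946597c4651385297d3582a125ecc32042f0dd1b7e63a0999da69450fd3e2c66a34de9489e2)))))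
 (.node (nat_lit 164) (.node (nat_lit 162) (.leaf (nat_lit 0xc59703b8b13c20d606949ba4da8345c71fd9d3b0704b0d412a7818d6a299a183cf661d746b52d59a9a540df0c0985347299c2f9f46f755677781d91a4a07d147d8047c87d6a643761f908a4178c2549235030ad37a580150d95023801e502630445861123f814272e4015e41479e0476eb14d0b83394a851be68d5c855aa0fc7c5dd920e0b5a089d58529a80433ea64a784c60dd10fa7e36c5fa04ca5e9b660a8f515cc9e96d1f9c016818864193241a554814e2b3474a07f48a41c5d2a69f9adfea8d0872e44a417d1b21c044d82c82d3ca0d1a696320a17b2316399e5b9c698e1e3ba762f9b34fa992503aa48c6216ac5c4506e55e31c6a9c8c1530912ba69146264c8557167075964838ac5da18885c20c686059e17682640240035fb48e6d1610c921193fd134064b7c5f47dea9568158e82940a500024f480138e44b4ae027110fa89ff39a2f3fa3d0b1906c08ea0eab0dd2aa449c520bc82173222af84c7533d5b151bf1e5bb978eb98622a9d4455daf9e4c058995158783c062740353688f2fd52a60fd74deaa2a563826c14ca877189462629359fac96f208072cc2182c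0b88c92635ae49607a91415c1c9660c26c6733f1271ac653d610225ac5d49fa70cc5e059a1d4e85a8d9a0af3c594890d7664cd289cd0f25bab4844edb71a1a71055985e7f7218c3b665a31564f49541a53439df79201471fa8b8e72f42a0a23b478027b904049218cd8b28de946a47072324541e7d5f0018b16e910545d95fa429b92296803428a5139b55a47173e29178dc0ce9754d303a46e50ea825a7b358466022b5b0868a1361da1262099575a2354973952e1259a0d946278f94fe092edeb50a57658fb9d0e386c6d945c18dcf47769563c7a5ed171de4c0f634184baad1377b440615d423149a205c4cce19540f2a8a75f2202c172895d7109815fcf79bdab53e9b2de850c83467090610649dc93a760687e5d310e44e8b6ab9a657db8981bc1ecef8f0d9415b247e037a01766e5251de697e389142b8f8c302963090ab0390b7be593741b8d91b08249780087e1f34c4528b44f3a88da9839a382e5ad936284d680a4a0060a2d54868e8645c3a12a14a20a19cf811535ac0879c4d01d1a46f46652d5832cb4aaa7c830f399968a512f7f11211c9a502a515d97728489d4d278810875d259473a261122ce289c5b425269aa4e34d03739166d1392022a))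 (.node (nat_lit 163) (.leaf (nat_lit 0x1ca7f58e089765adbf6946a05df660d149cab016e31a41782dc2618e614155783cac1e53a9227c9108a17e1da5c0527691949ce4ba2a062191f9da6ae0362dc76a0666e5dd7dd6506e158b0db8e677a282d3ecf787258260f89a589acd172d42c5f13239d2a93e942840131ceb4d24b1ed9e79c4b7a8476615f5655c7e5f8731dc34c82898092ed4daae3e820e643e9d9944c34488781c29055038982321ef3292b4303f1b085778d52d1d559dd6605d77b59171200884e49729a41cee2a6078325d95508319664b1fb9e8de5528e162353ca6c268295e8b9340700eeb1105136c52f1742488a183c0322518d1cdcb5b562058977c9bd5e49b1fe382727051a5419c38618fe4e491066ae838f64f1b34767ea61205c4cb0767828cda3f17da266d2c9456b57e159c6292046e1f46a5ae69170496961220600205a18ea78cb8a3e494e0fa82ab210c2b155288c08098a342f1618963f1c94c2c283a80787459c65dd37ad5b0216061dbb64c145a8bea9d0b686aa1ae37ab2113fd734f86221e759022788c0f0c40e1d4ce492a49fe0d01ca81f023799b0669b47fc42648531662b9aa2d2fe710eaa98ea9f9594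1054c48528b98c330363c9e4032ae10396474ece3231e2350b34849e7e8d794d473c65f0da8d932452e84063dfc58d6c5d5f0149a75b9a36c8e0454201729e30dee3bc9541a683e43d45ab4882160a844a122ea55264cc02558a53a6872341f401365fdac764717218a7d5b7264576e97b1801c464dc9ba889686550d04139a0982322186e53e429cc300421f04a2942aa813c6d7054946c21211cf241e9751961e80657558700502267d40e4d890ae5390e4fea1a08cf50aa58480c0d09f3767b998d6300f41f4280f188441e55c99977c8e184a2805c3555cd4c476a7046488ed47a80a8d522a8a74451c520770dc1a5bcc9468ad9be461788b1291fa6674abe283486409493992504c1fe724a05d00a591a66f9f15a5bc76d3d49d1229a17a164a4d69393a672bd18650c13362f4a68c2daad9d8f53f5446da5986dd80b980632020f8546a9f36146802c9604e33a994b3623620e5e0784d6d50138551308115a045205372f6098f6a21450d3a1e8675d0249ec7495a578040e5a27845a6bd2d9acf39461a09e1e96cd952869502572c613315020d5843315337c7490e9248d95a6e8123cec4263b82d9b5dc490bde467dc56406f)) (.leaf (nat_lit 0x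14b868d29e17b33d922ee8d1bcea11985316994a22075e63320e51d1ad27d3d82dbe6a4a5a8e6a57cef0d6b2185b4206a71f8f50c19c2d2b0012509440141df50165343d117690b046464082c7962e05de2781f19624004dfe90c1b8f1260851579d1f45e349364e489e3785240a2314654aa309262a891ed4d6c04329c655d9406f04d9a0fa26265a7c5085c8d2b281384834d9c60b598aa45f5a43d8a882324325985a58d2b74c3c5c56c6bcb76b16f34d8e1d8be30cdf866b45d1c24e83489e10a6d573a4ad7312e289613e1481460999866819a718ca874a213d86a684f014d456dc939bcf388dd52b89d988e61c17ea54a04c292582a48745b64eae1f686370374ddc52f0d02e2af848d75f1ca3088c9e4d1735825aa945fccb7412d86c572d49e70d39894dba1d70361958a03f5945c3d26e56db950e05a899f2bc9185452568798288e2a88b6b950850ff0891e3f00c92e33095ec912308fa3f061df8100d3ed1202a36451257a9eb099109240e80d1c06a3d949f47791a7e1ff41a3795e5600df68b469aa84c3689bab6264e0360bea0215b8181b55726d2548f74447a58443a0ca98440a29799ec8a859891f2135444a3b471a2ddc7e8237663a0750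07f4147b8027a10c7c00796908001ef4140891c2a4364148415459e60adf99200f7f01c4041f46c278e4098052376c1e7384297ceb28e5ca706b60cbf9de1ea3c7563dab12154358789c8c44a977700334eeb315599374879f20d6a0b14c55967556a0a08a9864698baaae7d8adc84d16b38a8012d5217975356733028862d786cd882219a114aba75a4554f99a60f6e9421b25d1a1a50ea64291471c9643b25e2654c3c674a96716fc9657a6b4f9b2688ce506901dcbd6419738d9475a7fa5c395a18471c592c99e15a2c4cc805ca84a457d725cf9f8e766ce44f16e218de7052fab25b7118631c6da6aa19c29e54cf2636112428e510a918aa8298546d958268f761ccd518944b0674a497982983186e1ce6c105aa2713f6f60c13c386447f9d85d525b15e889a15cb8a431364b60bab12cc5853c49a0cb96822499d7368c4e6ee0e81d96575352c132210e05b56753a1f6321c9d47a35218600a13b9620fa933303b752229e8c160632475fb8bde4461dd48242058fd041e944e3549e3b762458e103066020490e951ed7cd099664f7c90a0924a019f70825502d040a6003fa4c))))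
 (.node (nat_lit 166) (.node (nat_lit 165) (.leaf (nat_lit 0x395a184099107ac82a08d78a81352531728328f51c069b15e88974a4838cef9a95f7dd049560b6f93d9d5ff1859f646a7778aba5eaf1699d19a069980141df5262683e97c07544551ab1223045c2aa4ccc0f9b8960da3aa5d595d849e3b8adc84d2857948e6699ba223932e8aa54705f84730e710792376c9d988e629c034f1406f04d94d0f0169e81c976ca333d8e2a016b7a5138d6146b950981df1bd9260699910b4ab68f1d58f05884aa84a91c425dc3b75222a321d59e014ea7e5d27423e1022da1048f70fe7d2eaab434b019ea194404941a718ca81d11d2b09b55d3e01d0c7c0939bcf32fc185194d6c0438c5190a0e487c736fe5637cec979647752090a2570d39a0dec12d9c65a8d444c5a2e9c1ad83100ca98427469e121e7c374b10254e4ddc50de4148415a3a11241cc90ced3d26e56df242a4f829b451e707e46869187a8a342aa9baa45f660568b133034fb8108d9dcd05982c4a52a7543d92cfc030d92d82e71e3a338cf9e17b808fd92a2075d2899df41f97f6aab2418c0a96a4195a802c9a6bc4c9006a58c387122473a085b5f1545a05726d256272214a0a4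e7115825a9cd490c71b69a7e82377197180b7172323087c8598907125768a3970eb558024d5456dc5396908001b6298546b22e3e0dba1d70791188be156b55296dd92918b6029478cb5ad2891ed8a0bd6f65014401fd23279346230952f4add30f24640811705731fdc98fcd3356735d6003fa4c86dd04b66c7d857615a3ac1ee2eea0a9864698a25852e0851579c83a04e12e00f53d3b700338dd2207cd48607a7464d3a0f59915a7b50e9520f6e9429e9fe149a56369d404afa46ae16d930189c3c43495c925804f6f60c3c217561ea5052c5ca842021327e5f064e00c14b868d2450b3162b13fc22479901dcbd1c9fb3108670844938a05d84173e1c35a1e589fc4e1325e67b22a0924665040f20e9958a0d842ca918aa8414087bda21a4ad1e6452b894a40518f8505a43172e29a4a0d5b9f85313f57a6b25a2620672090ee11a63320e547cc61ba984480a8d99e164b2179032f0a16d436948785644e6ee0ea7e12575e8521865b27f2161927930080de0d5885e1b346cb9176ac780177898e1d8be1b238324718857d0ad167987da18dc5c40e54d367182d8f12606ccd3044975a493a4f99a5557cd09966056e5439da03265a9632a38b4a5a5ab315599))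 (.leaf (nat_lit 0x2459849b59c7550a707f0ac331f5675b40a0ee3c69005805ab8e020cbf046206a0fc1565a4d189818717b08a96dcb7c4e41901282d618c8472d031a09146349e1e21f77096538693a9b70b0dc006b233aa5759db5329314a44618a89ee0043087890b1536333e88f3e1123e65e4f05c949a44021c130be7a6564c4584dc8c4442438dbf750d1a9cd405cf04a5f4716802e4333fc89321764be475217a82414305ca66dcd8be04296773a23154d930b83f49dd99a4485b804980f37ecf5a5c196c8655466647e05315739f5efa155f8fc6e9b444775ee8aa7eabe8f48e3c548708b0564cd7e49a152bd1e99eaa019c2a70f20541f3ddae1be2206958542372512160e6c310464602d6529f8f69d114035be144889a8749168de79884e165729545e69ca06f68d09aa8025d3a79ce6ce4aa18df0d1ed9fe234fdde920675d5644b11a74454ac109359449e03d80e847dcb22760e456346804b6146d90c2ba20ebad1c7369d5038cf992406da5f5e0977fc3c2a62665d0a6555c5a41d87a9452dac786545b13a365174c1281d07c7f904678802b82751cd243ead3540fa84a26a939964bc298c0971e6698b77c8364ac629351083192740e7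405f8a0c3083c9c63d3e40cca85e424b6890a9b9722b30000c75ea41295b02cc34b91d0ea019e998894869446c4f696409ab0e41c3096d94c5b8445060a3550476104ab7f449a1c81a2ced0a4e5089b1700e2ab10d98ea2234fb6a5704da588e4a4558bd695e4ac437a3a4e73d906847a781548e9551f971419255fc989d06176008706ab3d29a6c0f608291528fea654f5647248095864c69a9df630b58a023578d39bcd794124849816f1ea68a711345f95dfa9c87388425629d292e8c7100737484a06758d9625d20861d1b6117c78c996687d41e2e595456bdba808bb86c427a1381684055e38239be45aa64a9b537aa970d0e0d4b05a146919192860a868665f6164222b665431ee30a48e69d8798ee272d9f960268768cb93cd813e9b81c1e062983bd7b56a2d24ca39ad322e0577ce3e5814910e6e31cba4147f7242184d8b1a249501662b6292099c9ccec58c0a214e1732a0041883f4604d5eb0f8537965d22e7c0e1f05e64c18c9f6460d04dbb248322cdf6639138416a242654715d5ddb83a68a008db71aa33400d3246b335e21aa189e4aa0ec8842d960be411ddad67c1b29e951445d4ed6b))) (.node (nat_lit 167) (.leaf (nat_lit 0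x12257e9687daa37a747d9b36048d2740323c7b3c4b5988ef8dcb1abe875ba4e3999a622895d0860a47318ce99a9a73905207df0ac98a5e2568fcba3e0b396e9e61115a9d4914c78084391f68b5ee72aaddf325bc4a2077c4d69e1a53716825c101603671e7d4e2b10e818780cfa18aa79d05851ac8393575148771c39f8550c8231443d732054c5ae7be17a498b88901729434e5d58243b0584e11ea5542716ec880224d6e52a895fa9b1779bd93439dd558a4214252509f2b63394933336707b4e25b29a7f0131262c3ce402ee54644c124c561b0ac7b27f5acb6ab4980bc7293d87845a159502601193965d3c0b2452a698d6f3ea3e30009240da321a6044591aa8e9d9f2ace5765199429769a0a01919e918ea1204a119fb4be294ae2b44a67921b44d1d3842347154784dab7b97001c3175a0a4dc0a1303c72d448c8d07a1519dd1d88d54168375063672070258573f93f59e7c295e154cff355a9374ca7e28c9cd5ea5524880172728a5d54a09c4021ce766e4c6dd119ad45802085f84d24a6146aa353c99055a2a4d5d34d69402663650da360638e6e210240fa167f46d23a805b4f490571ab8cc68ce04855ba6c5c198141f2422f0d8764c43b996928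2b2888201a264212e45aa222c760023a8a0f678940808bf9698ea08af798fd681624783f07422285c9655d72f99f35d613d63c2e2a1619180088a1d42030e049edf43485e26c0d4995aa5dff4c22f58cfb4f98f86a58792832c2311841b0a0673a264a215752e8f5e699495596c67a7cc0c18050064a88b99792cec1bc800b1da316aa4319d424ae79684995643f2596357a7e4790700f225af614db5ca5ea7cb74c9ea531928702e0d5d182d3b4821d16c335994d8313c73e436f8c76fd896f443110451a44102c4f865b041a2d7013d7f8f278ea0548010e0f7911de71942319b8925ba204048e1298905f0b52787a7991651855b28c1c4519036b650849d283d36aa47f0c2905fc0e1ea988051ba91825ceb445dcd1d01e9558c86042195d829d98411db32dc241cd49d5f7a5123580df5a9a87389a278ed9a42a189c142e473ad9c560ce7d6b01a01a7a6852a48c28e3b30a5f8d51c5569180ea84b1133e63d8a9b52d25c3446e12d5ca711f15012175a438621539d02f6812adeb5f2536406b2547e0d13aab0911dc055f510a74b9981b686e0d60d2d29a399b62743c261c483)) (.leaf (nat_lit 0xac5680761432339e05f4d6629d5988f09986836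83c905d04927c2e14d2f1f3aa0948600b87d49ac6028d5037926e6f8403a6490846f625fa5ec263110b6e46910ce8668814b4a447c76a193e944520f5928f4097881e98457a315b840010de3034c7c71c591e94f965f79c0c1a69e94d573844cc2714e801447c89aa783ba618b37e371ddd7a0905a7c992ac305c0e392d9c0ae26325ba9bc639ac4a9c6af0b6914baa757e5c181ae5e190864c012c759dcf66905339d2970486091dd29a07018ba70de8034a3a49a59684da908e739949e5c8452130516560a0f6a5560115776e8922080a352a109981f65513daa9e9131b4494ca4506642049a6130f42c9690387245dc5154d02489568a04911392d5c9442785ba1c081a025db6482857525b33591a6d34232a3259f8aa5fd544bea116f3edb21695c000aa4c1b38b5eb8062e67aaa191b78e4251119993818880bd36e4063db5141ef95915488a2446ab90d973ae6a195bf81a8a5e4914e1e630d6a2c5f424d423d595ac1183fa7e0c44e56232a387f2cdfe0556175936375ee199a1a1c5e8fddc8758382c03580c61cd9b891fb929bb18909429ea4c699275ffad228884173f0027c20d578a50be5f8d25d4005f7287834545a75f127ab3531eca5c8d8486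b599bc4226d0b177895c2620a04ac87674f2151c4a0ce48898c104de08e168aaa57d93da708b79d018cdfc1164d3990c991b89c8713622b3a8c50e1818bd5d2a60e3f458981cf634d47963e5006a27e1b485d31d2142dc139ec6c71a576a0ef50eb29f5cb9d86ea4c90474f793da38318659de3734472d00c85da73ce589411c4594aa3c46a2107020824a1df0a83e31e2965a4c8e26c6f504229af540cf5f1b02b6055641f80dd2328d74ddf5506a6995d11ed233718e0e81a2ed720d8a826d462c0b6174a1601b14b02e6d2693b43909e4832d740a2093c6310747e38a7f498796b498a81474ea95784c802971a04c2550ff044ae3e97f3951a1c27354c897b6545ea75588102e6272166829e4676a8b20dd9449199d1c0146523e5638540f8f01c478485d97552d0d43d933b2470ceae61296556a288e2c8681649eac5b6a14fe3b61ce04f0d2159de6b25e16c05820af1856b0d5682fc224ec8fa51f954aad4ccf8520d55f8346ac5c40a908da635919f82a3a3843f8781b5b2807312546e534192f3b884365d80a46799d0e))))))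
noncomputable def cR_12 : Tr ℕ := (.node (nat_lit 175) (.node (nat_lit 171) (.node (nat_lit 169) (.leaf (nat_lit 0x1d93fc058328e6045f55a62a854a2b6826dc6b530b23a42a901f63ed5e364be4e0717026888c9a644e45e51a7f85166d1c06977520b8195d38347d358606ca0676a317780e1dd298e41879c89518e0a7d998487f20dd2538972cc2c91241a10c36e08c1521e67568512929d03e92dfd0252e5728a97e890c9860c55daa9f140962ab13f41d2208e97131892ba5ba990844124a616e13963122ae9e8c9650cc134a0ab65048c414caa889cdf299ec8d8646bcd14a8ac29d90335370be67925ef7f18c3866f84c117a173752702882b7e1e2a0c6d8614d3ac6a871bc23cf62f44080e4e414757156665cdc61cbfa0470705aa8889b544e35ea3f8f9966d89c9e4b17541b44a528ba07368147826c15936351b016a5c35c92514672da75865b56784f08a56638968980d90e014ecc23e84414e1f8e8274788a689c26f685844330d8e6a92605b12b45007a4209214ee54cb9875a6235f5096378f0e785a5a445eb7456f18cc6124de63cca64d617266d41a4603dce24d8a55d7e3c9cc21ca32a4c76b00276e34799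f945629a947b5b6655a6b39deb15057607d215ca9b9c4a89c9ab9f8869992543519000346128b3f004401594c02d3b57c0e195a8c3a52d6ba500b44d0a8b608ac8fd3f80656a8d60835556636fd4957ea25d43f4612041045ac1654f1c76207aa762c118f05c1270590e80812930749a9c33d5342ec80160e52bc7e354816ce058be327741c1e25d360916a4682d550869b4a0050085f22f1d7936547109e4f4db12e1baada57ce45090ec185525617d6e92d2a8cf979ad171852220faa50f40dd09e0ba3154223a590823845e9c8550c0403c62e969b86f3d0c06820e9ccce6705b50de4955fb728a591e35251ae3497f829fa8022a3e47c896645a9c82848b881a46f872a1e3b7b4297d27c26479a7a2b11cef5c5e50565714a86474285e1a32dc663a01977d471559a34db1211808a13a3e03963624a4c0c7fe51760ab71a14a55e942ce20ed3ead04a4e5679a6916483d4991b029b9984b44b2420228f5803767d1605d1f10da1abea04cd7417857a69f70986c550ea69c6e6ecc132c9527dcb93e48109313cdcd174a4840c83400177233928c437540961ea079cf18a7682d283c4768866b3dc734d6047b8134267d2601d94de16609d85e7b75869592a72408260e8c8c003404b04bc2ea657b1655b53e889fc306a1e37c23d))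 (.node (nat_lit 170) (.leaf (nat_lit 0x1049a1bc8180481c639a90f6d9a842db84366c428659bc696ee695829d29a6d6d10c9ac626e406558a7508a96e8980215f99cf29b90e6dc648640e58a3b63cd7a5d3c22c7d669b17908c4ee908b5862dd64030733263a4b87f3493aa65e563a3c104257e9638ad8d2800d91e5f229e6a608f4d1eb369910fd034c0d68818085056a398284cb503e917a9357fd1e370105a612985dc0b99036e374caae7b29364a014d832045af1fa345ba7977a5e37a83595e94c695740b92fde745a8c37e4061d73a512685db09057d6ce369ea423743d0bcff35296245e85e87502662169aba01d44727646c6c056005a1c31b51a88cb15f1006b458248d39fcc105cc846678711d3a047b0c5946b23574847166ad8586b716774f6a17d6651429f0060b2c1a1578f6564ae834f513e5a269f4a89f893d3e9619f3de0c0015a1a1a0418f4505f31449b7dea02a2592bd5800a7e9108e0696b88954276af4bc400d9feac09c0e23133ce5125e25d44a064d060c37279537f16d060c0918241f0e35b1744763833ab17f55276cfd89961a28760e59d120e6745894619e18029a208477e7b3a2847ec0b214c709e253ec83a252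b5ee240a0e790d9c45d277087044dca47dd61e4ba30ccca35769740a88578970fe16e7072514664d94845c6ca5b8616f089d54827c4464872e7275d9b454261756605a2a8e6aa1bc827628f3b844924c21e82a6624a10c2c89cc552ca27057f28c81319790ac453b596768804b6ac0c042525d95f8d89f4c492d973b0a58255da78669444d954fa7bdf6511a33e25750c96aa0075720a6aa053c2a67b5459584c690996d53f2a8f356c05151a982140a9cf96884e184b85406e07925604789169273e3317c4b86ab307cbd5c0fc390740b5c02ec9fad14f8a0bc0821e7e551ac9cd4cc9017a823569a5c61548e3e6b9c84427462d024b1c64de1f49285731e09cce198167a1a115aa2ca6e874887708cb632a751c9c76103b154b48c0cd8743c226032854c631ce4e6040503586c1c5ca9c53a3f65457074d10ce2f2c81b870be6162e0d14daa6024e0e278d013a88d218e05dc3eaae7162a2904ca498e4d21d2a774b35283a085e14a046938e98c9292228b64ceb931884487104a3d32cef94da79409799894a8d4855dbd2b1f151aa52ac038405369a546fe644160e554ada90937c8527b8f142508694671a9be9490783d477c095)) (.leaf (nat_lit 0x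227730511b23f561ec21aa7848611e20680ab46d855594993acfc301e56b42469d2e4ed46029839927e5e9c4635313d82918a79828918468f2b44044e53349766f6440dc11675db0499e4f94d53c0464e5e4fd736ed968b1d8a58cd1ed7b290dc45ca5765b96c6455be8c788b8380af46e167ce8aa4c655c07e3e9262d603722196c84a17248589fe272b0820571a8bd11d0a904d8581cf8d04d069a67863d9d0be4e4880866f07e7d77a469acb75089e01e810a2634aced08058a0a1427e07aa5c17ed68a49dc2fcf23152434621792a5364705548e3410832df475cf09345e140b439ca7285f963826111344a5456001b9a02ba1da86b1566246eaae3779e1f20625405d47dcc7439eb5ac6d104d34848a7c8c39385fa79ae85def2cce61a02f82ead19ce58c5f08608b83d1172e002e5204a1444d98c00277072695f9d65997d6455d4b50d9fe9d8c9d28995254d5466c0c9700d975996e171998d695874108aa378b1269df65c140d2571d68e6d21e478a93746f0e61ba6dbe5de52a70950ccdf288a835dd05a640ab88510ce826cb27f55b1744f38d0f201e9329a35b53d47e6da3638726109cd434d52a6a82aa18019e18a71d7c4cd142aca00d9bf4769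92522a6cc321e6952d9da460713682d78e209629496831875baa45dd25919384b0525a0352979883804175660085395065415606716427b4b28009c64471400ee0d70e8b7b48f488f33192f618e4a90cc799091f0ce14e2d8ae49aca3c410eea9a13565ff59e43a7e89305f549c563e03d8e6058eaa38c10b2ec92131d140ea2212237343c1c94b01587985a2a11329b81e169024dd849418855c231496416e479a9948d9825841712d5a1ae3ea827c1381957d8f0893c51cfe3deaf825637d96e8cdce7bab329a043f4663a44841a158ba8892e249b1e867cd55067a529920b07d5fdd59da3b33d07124c93b1ca8048c16651119b05b1c50ea0c311233d2355c869115b5869783fc7f241fa70887aa1ea308f574df8208634483f7000228da96ae67928ea3ec5402da597c2500e729c1480593a400600601d2358b71a858bcf94942e83a757c5853bd38a0d306916a4148925de03c49dac5fc5707a430bc322a120eaa57a42ab24c8a473454ac2ea9824e905d254a6a55889bc0c21c2b91a38a4f5e4770d5af8a19c99413025a1981510194c4407603c0e2619a6de5b964db4583e))))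
 (.node (nat_lit 173) (.node (nat_lit 172) (.leaf (nat_lit 0x3a5eea245d69132ae5c90b8de6a618069f5955629b1215d49691379b3a5c3fa9cfdaa50d0c5899952c628b558dcfa759b6847a146af0e16c40e1a290842c9c596c2663a671f869854f51b0159a151324958e9e82442e6ea2f27c66a39127c45d35daf04813522873c0ed961e292dcc2a5b92ee356980e4bc9b88ccda729937214774f95bc7f7b81b6066f5f5098fd39a019c9188c758753a5ec43d6481c2d1bd007f68b71a605002b059496686e248d97447b830e871cef108967f90607d4c602085e00109cad8748670257915be278c07e0dd89da89d009030db351ae3164260c1854c2f5c5c1a9a8d3ce257cce2884974441168e79651208cd439799294c7d7246434e034096b3044d12d0c79aa074e834d80754819992aa2d9ef904c626040955d983c79790ae90dd4819ce240705fe828e05234a7a6892a381f51649c5a8be78e5423c629f1440e5e05f04557e944896011295579248c2789f80b621825bab40cd6746a8a3deaba9435ac904a251b13e615293f660aa5d9c4a218d4c03e0d2a410574881d5361eb9019e550f285dda416029b5913e9cb85901a7e222bcb955a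11841934d6845092869010169f4892901a8cc2f05e28d470925d6d57a7725a2cc831f24a7e62b171f230a2e6ed613585416d9f9dd1d238e5a15974c4ee79c77252282a2348ec851b65c53c56944b8740a59319900d3c11ca73928fac0e686e00354c31ce2d0a18c9893e44e564b6736a631275bf154df7d9265561f0f057459dbab5b09b14d079fb32068284bd6de70035a79d4611820a3a874002814e0ac22a4880488225c893c81289b63fdfc19cd0708200b13a9ba923e24d9423d6b0c782e36428cea84821392e08a724de6391cfb1d83258853456135962a5e41d08d080dab16b44649d5b4cd320111ca69595a1ed47dca73604939904ece7835e17e9f79edaa385bd32a39a320e32cb02c4a68657e53a6b4d13d62c29195ff870f1282183107221d1e460e3ab08d0ee6602a5f5154b9491018c3d5b43741e26569665700f0212112a986d03043970611a005cfcaa1778b1d84512969458141b16e05f8a4da748cf1e080795de0a94161e1e2e821070b78489a6ae3e8c9d722cab7a8eb8259d9fc02068f4a4dc32d25963c25518712fe9eacea3346057a4ec55c499100565a869c4fe925509a5858f0936c86b3d9df465755cc43265237c2966f2764ac14))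 (.leaf (nat_lit 0x154968cda3a535e47401879208ea6c4f77fa26699dcab206496866489027c570a49e89dff4c27c48dcf3c53a6a1b4ac49a1fa66a0a5f7e4f26bd49948751dc085497b965119915128c560adcca0d1f31eaf781ed6b0f4694c540ca6755263d92c7f22e1ac7f66a6137dd00cc9cad1aa8b656a314c95d4e5da555d5b339c881edde68cc9810fa5f425130a12398fa02028acf90982f138ffaa5a24ddb67486f1365c6929a3e11c74e7f6841a011ea960fc9517753e904192200c2841201ac8cb6a63f4824a404220b12e3ce2958d56a15d63d62598da7ab8c68a80d085b85c65b2c19ea70930c4a21723c7761f9adc03a20d9f97fa8cb53282007c5b1b8634e4e556aaa5a5469e5ef8e9e243810009167c28b2f18d76e1c374092803478e9666d3da49be0707d199fa2e6a67a595828b381623901b54be2f50d659215d738ce228583728d8a2170d889420c16ad982b51e5bdbb440e0995df90859292103b9ec9a2213ec680e819074c82de934da4b1c85e0592b5b23d9467650096114a530d3f6294a865f6464690de9f369555ce99914aa71aa02146a4ca6e4cde63ad7859d8c4b4441c1609393c9c4cf7ce1564105a3cbf42e7065c71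2322036dd8980b8450390e01401d7c2a591309ee869ae428d0625f591c671e08025c1572a6d408b4a89fb79dc33a61d5b873156947095f7364c2bd1d67095044326dd172da132f61e1f001236147c94b9e90d6c9c14a98e399e1831808e6a55a8fe9a97e184868b159675480c0625c23b4a0ba979ba386224f996a44ac5e805039b0862743018ba208f10c7a1964d7e26771d6626c830ee0f9f4ec725e444813029da8f9139256450aaba5c920d6736668a3791a6f6624d27217c915b4be41e77858edaa0cc8243c265005a1c4a76303654591931572415ca9e388981b0efa54a786c4f1011b2c5bf3115b75cf06114405c6d1682e12a8461eb0345096b678619e8820e306c540f638a9d8554cd2716324542a04921766982a19309c0b80231492375793b391fd432347d1279404612c8b145cb5866f2c983a84810fc521da4f79687682242aead6f02d0303e81d6b67d3514c6058a33505d1a249d11d829d5887dcd5acc5006084839eb652693f5c835950604941080f6e65d460aea6e4480dd435cd851e351746408d38562438da814a61234df19ee1143c4912000091572ecd4a914d9b17482c4121c1e))) (.node (nat_lit 174) (.leaf (nat_lit 0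xd22c7f6c915332af60d1d9c48d76d36359695e4d89246c05c599d2155ba6743db47b6083e8b067ea0530cd185a737e0f07c93a20b83f6799bd046ddf4830f62a1aaa75496bc6661a1979849278368e19932405439d603c8f1f9ad46568ab57f47a72229d86764127d2b3ec748cdcd53e61851ea248a30ca3965cc50050c7526b42dbb7e2053c8a568aa8550d21413a6c5645d4d991c700585b9da125ad810f518a12242ece7895890bd9b8fc9c4a0fe1de2f7394d5f83a46a8689cbe3a629621a93860d07496a2e2c40a756e66441dbf7c2103bcac69aa45428c25e069b1ba1a04f009a17dcf30c4dc6923b4ed635b6315492f5d2483d0a6088da609ec74cb19dc1511c3091a3a659df244bd89a82458bcace4535e5f791d75be700608e0e24e8f99a0fc11159d93b54ba05ab88d6a0f18081e6e6e05413007681f53d433381a81a9b37ba92999c21d86e1783b04c57774eb52a856b8ca88441614e24b1e1730b69cc1c2243492a3764e3d4e5675ca2e5392a5de4c3e0a708dd1426892501e839052b6a379c99a39efa4e657047b1ac5a7550da349806a0a418afa85da230c28ae80450c0ac6440b8de5f5e873e289ec201e02d90e42678b58d1908059488043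10882a8a68710651900657d416da5756e9e7880e56a2da618e280241f57872d1f161347f09077973869fb4cc29120838ca9c6283e08488845c748c5c4f204a6cb362dc89812234602874c64c0a42c9e0632036561c1187121aa69a9c66c0673a254ac94651e533c6992dd8d72a5c480ce7fa2232d84101dca45921bc2c2021670d1c15538800621a408575436d6595669f78c12579f1a5453354ab09e5e5e9256f5ac18cec962ae50945954f07ce97138d02a42596cc34847c40e2a305fa4c82b11081794ffa51870e428210bf70127181317e47398e7e44a185c4a106c357fd379887211630aad29935600513daa6563a910a1e1f0110855dbe69650a94951480387a967c95c04140ab25a3b91b9fcc87266d098aa33c4d82d3e3dca24ba7d4457c2e89d06437644d49016502c7517ce45c151214b95edc59a42a2b8d3146094fcf95600c512b093ce344e7c599fd4d65d1b44a8d6aa4b64b63e17375e96728a31cfc7427a49a3612e908f16202879174e55b15321cb45da1336deb6628f3110074a78491011e90a559bc68e51a9c9a26c0086e9a7d95502548ad25239917a0d61)) (.leaf (nat_lit 0x2017a5f5644665ac6f5d19d3b1066b8e299a1dabc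8f510018d5de870c69a272898ee29436358a14e2a397e9947c541697541de7a0150a5c98811f208c7365db456c566c2150446852ce8190a3a82188dc1949532138338357d1743a2fa8654c968a0f32202b59da167e3377ccbac94188dfe02dec561b25fd8b7306a1724866a0a180d05362ca69fa42828188cd308dc1d93f3626b326ac884911ed42781963ac7e07df13489f8593b75e6a768cc698751e9c01f1a35c4f742e88178139e84c2d51c656622e4671f516041e24f06d4ccf44664f036772dce47adbc4a5a77208911dca595d8011db9908c23a4546c0e14676a4a191b0f22e02c21a8a81c820491094cf61c27d49835135e1a4d7ba3d833be5545e44745925b5b81099c059ff7d0bb2c5854251293a7f104bc1660561aa448698586b1514fe000ff1dce186e369a4c408838741376de25482400542f569805c98a149ed7f5ea7352a6e8208f1efa40a90b4e9622294ae573049553a9c9291109e61820cf948e59f1d99b1a5598921d23200e2e690ea6601e0b9b17c09b61dd588a2d120464f61e22ab332130a88940624939c342ae60a7cf10f287a45525ccd38305b25d9b919d41858f6ad8157dbe5dc3e2067b7de5d0c8b048e508f57a4d09d03157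38d0f09a392ea9552682a783f13d18611c952006111c740c79994de1fdad581936f4a45c1d3635782b5e41166f366343f0075196aaa500ad13e075248fea72fc9ca325b2be857ee2757296809b51002498c55839aa591c558c9070c4b6a1c450dc2774b473a759600945084a35569355184d1e969154b483298532ce73a3a423e0a2216002c990964f98486e15e386fe097494c6b1e57d9f92a2849c50e8ed6f3452c83ead3f4da32aaa9b5a0880dd8c136aa09e0c5b32b90506e3e5f8391a694574f080c252816e141d67b9544d60b0c03b91c2a410c7aae3135c8d0154022d6837c1a9452739a2b18ea14c4c3639e62b14772c43021dc718495a5a290ca7268723027003e56474d49e01c1aea6468874a28b625e30525485cf56512fa24801c5f89e61a6325c7f122565bb665793eeae87cdb9b9c1409018be832a90d52a2a8e97ca753a8410c92c2917d82338b624e9b578170f5766e59e7a00a7cc9973d6c44e7e55539846a5890653b437979af9d0fa905b6a04bd354584b8214224c81a1453c78009a938162ac0c599c4a)))))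
 (.node (nat_lit 178) (.node (nat_lit 176) (.leaf (nat_lit 0x320b06da26185325f2ca414283967caa655d78391c65c011289075a964eccd63d0c8cdc64f92d802a332a5406d78ad0b30e82a451ac948c2714c6998a007c4f808baa747d9a5b1845f554620694d82ddbb8f5019d433485ce67a9a4c5e51107b1e95fa04af59c575c1b25e58151aad88d3655dec930a57407501c49676484981a1804e84e8e41e284a2a753c61701a43f6ab198371b9bd4c237026ae5e81e95d6f510c56d43f1f81043c369e182378fc7e898028846be6f4a493178f35d673355dd08d835edb05b8e09a236044e878d60a14e35648b244067ae0a3b4df9b22d444f6982767b8d38adda05a45a1d5a2348a0127c39d5e248b09fc9505c823c9729726e596328f8359d2357bc553bd2b26962384ff7e28a539b861a40148301b22452e1e0f02f0391361625acddb87ea407653a4e10660770007890ca97544b4f2941a9c87ddff6dd8e0705b1467e939d11187423a914d5ea020ee82145ac5613c1178a655620c0989640b992851097f573a98710604d96d068c6770e0dd986383ee1a7b55221656081438aa9e3129061d0d88989085102d44176147320a469d916e9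fc7d03409c704fe07a71e600c4311e054819c1f12791a5a9c8bd1883d04d41aa4cc205765fe994e5e948ce466594925d35611e0161d6a9c25f1f1524241a072344e24b0f516a508be6ba31f98b2a11fc64051df502216ba592eeaa0a5198c1cb685b362d04160a214cbe520b68352466cac4c9d255a977a1e44cc7980df270c501cda8610b98ea843ad5d3a91d56de2a095c658a723e7b944d02709621cdb99103035ad5b00b278885a4da8d1779e8ce9945d3e12e370319e688274f95ae5e364b8508199621218d1a5fa27458269c61cac2166d2638edbe631a21bc54725714bea05524b2b5d44e0a679dcd82d9a73ce5121f08109b711a9102153490ea48459291f4de9b91cae730c7a7e191941593eac76568a89bc5f63f7ce8d541a6401c12f11b0a0593de2e414d49a822284833fa39a3c9f0b67099d6377a062320c398aba1a803b155225fb3d25d35e6d780a325080599805d27d1da984d1229360949593629bf109a372899a2cbf54c254621b528c1abc5619c0f8f12a7faa817c3e130d664108048f132cb46e6420ac971acc37d94d2191240a012c6a56361742dc7325a033cfa171b6456264f6b25a8690ec0c7716d6ae4400a832a0e983e954e9e1))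 (.node (nat_lit 177) (.leaf (nat_lit 0x1769515425040031e2a5d9a20d8976d8044aa24a16e904012447aa84f78006107485aa5a840e434d55e3205a7d8a09a6989da52a1863160722c29647a8c965770c071269877a5a03953c9204106052325a6abc7e7b0cea04a749e6a401c79e9ae859637986c9808998a9d97a37808f34c0110e435672912a54d93cd64986036d0f6b67574d56a0a1f3ee6e91a721a63c5b4f11248b12aa37e8b7014f497e58ab8a4936951a0d3621f437c8a46e386ed6c8a07b01875298293f1906ad4139dea81531418155959f28e0b7a1947d54836564090532758e301ee0d21d83dbc460b15cdb8441198b1b44ae260207f0989ea358d4163151d623046d791927be8a501698bc2828456ac0d07ad93aad4913c09308e98327d0e095038ac475993497454dcf02e229e21143285471d09a1c088d5f7e059a7d2a90846000472e57fa8092804f56c5aa0dd342ac1c7de12345e3678aa5ed4ca3898040339421086e4e56a93140870f6ac778cb084eb9c524752847116a9b61a436748b9951551a231ba444b85ad2e8adfc1daad96a4c0f89ba5265774dd4bdfb00d7260c8f89203608bf06923695c34eccf7c21905d619b1c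8412795f1cca01256bcdc179989169c53d79958132586fa24e87655d92d3920454079e0ac9a32727e7b5d748557599ca3f907861b24f60d029b7114b62cd173c2274b0f93355195c2d0484229597a68977c8e02d2a88e69e8f97010c7823585811840f082080c5405a23915b4e1c608e150c5cb2b9786cd1f0587016d156fe5d6f96f96e2a44e5c9017d1e42c15c4e62a8f2f1448ccd842c643b651630bd59d43aa89f0ac4c8d21482244515750a89362e093b1e1998ca0510e659d2540e17621e219098d9d65662119c22172a48fe3a12c8ea9a637e4f87fab4319a492a924dc660e81f2a1a1355c90c8c32bd20352204f8de2667bace7f9266b17c6b195816d92d120072d4f2896613e9a78b6b14e95591c191f46aa6ce27c4446e4b25c5b5458041dc749f02f9928b9c23579cea4c9cd63c3b518c4095e5838e352dc250a30144270b8be64688289da39a325395c03c806761c369df8f6a52423ba9c7c3bd867f508221d53fccc5614a85df3174fd7166f6b17a9ce0648a839553f1ba992b59b94e90548730d80d2ed3335d367396006c3f211a931ddc1360a84e07a1dd140a675a1b09dd0a704ee188ba009145f9bd4a4f67fe29)) (.leaf (nat_lit 0x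24aa1a951c6788ea8a96c7e4a202882999fc9084816876419d2b0064d2a360b02210aa26a26c6a9be55648c5184f0a44a90bdf0866ae9e4a0261a842506511b855402819801edf559c268a0d75286b245964914081c3434d2c17972046189153b74c13731c12c43b6b9b31b9ec5dc2088dc65503d3301b2d4fc5fccd004fa3a50b68cf1192657b5bd50851662345745d985df4698eaacbf048c94e89c78a3859080778e838120675ce07e4b5c43e496886b603624dba5dcb84c759096aa41812220c166a67445244cc60256b9929e67c952a805579f14fcf605eac6f2a29b49782006836539aea7040d8a762f972891f287926b49d8a450df38546f9d64093680a622402a14620358d5ea8a43c90cd4a3e3e9eaad5b814868d14c05b27d8d46d37844441f57e3f63954dc75ec1d8859b1c1e67bd416f89a6890c3bd3e18994400ae1a601410bb55c3723d9c48514645c216a5f775cf4e44a63e445b5ab4a82d2d82a3012666a93070eb368ca060b97254e0fc769f5e16815c21ce23d56325236581ba5204f67aa07520917e545e2aa61c9e8c15612507ac9b97d2663e44248a4e5ce251b0334ad03979eb654e70e9494468c60c829823f5a21b08a26ac6732887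8a064c690af15c689b25295a6ea860e0120a6084593e3b9deb315a5d8ba96a148e549e48ac388c5ff878bc224739ee3d38d321d17906a1f7ed4d728256c9b147938740a1641153552e16184440c42359949e2d4a5ac5942c8b1aa19604408a81e5f2701b5945476ec6d9c5f948d97394b8090c253086770c303cc77493c1186098ddb6196c275b75145329800295086a5b60acdc3e15f204f7398937e8c8078b751a1c18eaf6fc4b428b000d5b1411995d7a83c5c10d314763c5982e3ee94721e54ccea02c364b4ff80272384bd085629f04047cd6a2cb30e5e789e9ca08927f2220ca33392a991e83a6c4e8ddf685cac1fc7aa124669e599a2a419a69962a599c994d1d8814a70c5b4734677f9690a62a1ddf83f8ab5844d259a543d1c2c8727a5b06bd12541c40a0a36291878d357597003a166305576a325688a7b8df3c90e69a9f3d0ec564849417670d511057522cee37483780ba09cbe53dd54d8483040c32d1762cd9034d033a8e614852d0155d1e89f8ed08e9a715fd52cde0c12f4069264c8c9c2485bc4c4f5057dda13ccad01d58988474365a5f05445aa375dd95f4cf))))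
 (.node (nat_lit 180) (.node (nat_lit 179) (.leaf (nat_lit 0x26a45c61c51c50883555de5806580d7167e483d0d73a6415859d321850ca0b156614ec61469d1026a30311e9a965a19022a9a179eae6d01ba79cba68b35112096e32575dc7f4670ee4a68c163b8e0139963319a0d5817612c174c644c54706a804aa09b645a01672b4fe7a93f390206f6950a0f1490a02d55e2226221132875a78a03d36cf608e238e85190a2f8185e841df26d343240d74eab73c9c5ae38255291fa241adb8ac1ceab1caa654349501566207f064925a83b4df6616a29c345fd84165151aaa7045729bde2990989fd640bcac3f0727b2657841f6f2a27300f4ba05169164c4524f16e9ba341f55a71421a5d470e5260fa227f9998dcca934b16a4e83bcdd3ca070cc6e7ac9aa047f2ac1aaa5ba36014755d917209310664e4509a1709715c205b5a702a2d11f109238061e131668fc3c688ba028e23e0da0d95779470a10962b857a49bfac9d0a91c28358276d3a46ccb45e44278853fe5e095c7a7ca4500b75206365240678538b2460fcf33a8173997e8b93e89963444fb4a2ad070e5060137505b838994d4a199d6d56c86a6c29484739fa00872218eda45cc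e13de350e0a60b6297906d7ee832512f2c02e295beac4dc38cf55a1938f1a590cb893a310dc684413603a9d7485f5f60f97ca39a5224f44057e2d21e967002770d957fd2b2be2b79912a09b9056af088fa3b04d8f9970e96f92cb60c63331538452aa75ea676a0898e0c9b09f2c86f5165d201e03c02c72424809332a52d7a627a1639736b4078e73780b66e1f13e4c6a841699566011825cc7a841036586161dd1816c4754649cb940d58981c4a61b6a521b188563f46c68093588196ee936dcf93ae3d6722a91d830c2304dd1975aa58293078e6b274a2504828d82b720698127d7e5002a12a999e889569a1dfa9f2b3075b0a39069da197c9532250e625f3a35b15de7a42949124919d4777dc053507a4114e42e59845916364f3057a61e54638d301a906ca79945f5854bd41c4b7d94b6ce8f9d1792ec7854678235f11e4d601cbc5410855045628c310d7895c449598b9680835402a248a5d07562092530c0848746b4019408c5490f309754154a8528a6b10c238be11e1a94848961921298f858462fcd033e8b349ab5ee7b7ba727d2137b5091f07b7e27100e8ca208f9cd769c090535ef9dc8b85df01d9ae6bc003354f4358c5f21894e55640d1010ce))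 (.leaf (nat_lit 0x886c50026dc87a83d39a54848f22d0b38e6a75865339d757adc777c7021dc614176a4086816a81e4b23d214949233a23ba9a51349ec5d0681d6a47ec3b3b656185c47955da5a0c82d026bd77791c5332573b11c128743b83a886a31d8b93587d83695571e6769c37ba8e8dea5955660f054725e120e8c3f477a89118a0d85a22393ceb2d5faa82103ecd44187f199b32160e72c995e4e9104c8704b88e240a85213a9dd728fc83c841c9c287cf92de988286a701e9158521b48010c7b5aa5838d6f44a179655a7a0cd20609a64fe8208279d7b25e5a3283f2563fa74289ea6603541a0023669916b6429725b4b58467d9066d4aa05403249609d42032719e4294c52c01e5d905ac649606657398e159ee7f6200e009824bc166618a02546a129a4893c4eda19dd89a0d4768d8b65d55118016582269261002609e0214e924a72823154884e762c530631a2028125167c09a73680054b9283d9d9695a761d9c9892a97d344fa758646e05274095355101352d9d02da6760f54a62c6195b678c750e654d824261db6aa3d979274dc114f6851b00f2502c110036a18f64cfa4adae63697a1e700a9394953f4e02ba1a720418e6a4171f8ba5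f4a07cd6917a362b451938c1940b66d69e89d1535d7c9328a2acffaac57101de182887d47373113234f05c50585a94934f7451b27d0aca245f2291b8a44e92578155032b92057dcf745657c28d2c234380c392e911208c9284d3851a22db67c4397415e47cafaa9dc6adf23bd19860e21305d780a51c5f85889145a268e8c4370db846473c62545dd358df76c09a171f6291d48c85ba3e4813cda31a3c890f34629b918d9405647483e0bccb37a2aa7d58758598b4a924c5a0b86f1148f37e1a90e3e8adef5e9262a1ed109d55656775ca22aa8b160bf374531acf8441339114d4126e8c0905c1bf0187807436060a178aac2f994a4e64ab5806f8a70de2f9bcd38b8386f5f912eae4746508269889857fa678cd514346430aaf0706207c9e0642d7f1b95b94e355836de6dac6202710f53dce4389dac1e318db87f4890213255d494227d4797e8003481ccf0783501049068694269287a68aa67e7355033972239ff5fdb48047c342350cce441c9f06d4c30032558d111d6d6e8672eeb49a9524310b3961c916b32f2036ed6c604150c56b1ea04818308c61d28d0a5526cac9532f66b86d95299bc80892))) (.node (nat_lit 181) (.leaf (nat_lit 0x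2846d5dda31f89ccc72b8b41d1400c83173a6e05cb32bc449d1f78d567a0df635045a7a820fe6f7e430508762c9912c0ed9b4b13c27510db3275be9f82583d631fd47451fe2b58e6368d414e344d488a964838419c09c840245bdbd27a319407963cac7f5150e146089ee129bf588ba09a34a986e7493e2154943c784c0685aa1f02560344904363f20da08464540e657523daa1dc64d5e89cca26d8212e4c438e257d85a9c848f9d385da12fea16055c37e63269c511d84045221aea986a1201d01479cc84d4e7106148cde5752d3752470e434b2145e9772099e1a5b88bd33510ea45d0662e891924e0ac2a595711ee8863056460e95e52b6dceb50c2e8b9b928cb68142c93463a2aae62a618b11c8c1161f945008c18545437128262497220b642b4acde35fd7d71e4a4992936c9f440013686649d7c0017b60065ac992835c60a24b1d57e0be164a925266a366c70424ce1f1555980c7c437755d71f63a8ac0e33152124d09f0b7a94cf4215366aa48b63b999d60d9f003690885fc8f0c96648e5510776cd5a1d9c32e42809f512276041f3206691b0a5a15da0f6a22d5047615b9e02d99e049029380e689dccd7d1d9a19b61ea3202cc35d21991a5f72d8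3ac5e2028d21486a4bd2119e44abc957252e3c4e55e186920935da1800d1f35c976c416474abac1f2482645d5ca252470ea8177c357fce411a8e9e4e1ab4a82a8b9311ed9edaf9aa92804057003c800349ae800ee9f314232a6ac3827a140d6188c625a7f7366c0cd988d8725a22604a3773c883b0274310b225504fc877415904e256d28b65e2488d5a3fd96a755134d0a0a4ee219417460c53e5177814560c8656296ede07bd4c824e715d1a200e8248b81b5876f27d2859da3d6165241464218a208535698297346d3d399326ea3303ea01dd89288fc05695169886c2575594a6aa9a3e1721bcf24c43e81c8d3cc1d959fba6c59a599f1629c9548f9c4f4109029693687a204e5346b9ad86c60a45a26a45e964203e4914dcf7400fd93d703d6946916e07a1d6aca78701f68d1217cf64e039818a452c552f0717081b7a1ebaac4d961ec299c13ea622f4062f93513e39011ac13260361e7070517a6aa13a5e7a8082ecc26a0fb7853c280ef4445d695b222a547925b5b56c55c199ca5322e986985c300534ec5b7ea991013a3f81a8896b975e694a5c231e5060d91cda7a5e38)) (.leaf (nat_lit 0x537d6672ce0112a737a4c512e4da38a97e0510b5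e69da9005e925e50311a6a7c8afaa823a30488125b628189e656a791d0fc0fa083d76a853f19b28c076f2a08d039861f934872085c5a5d086a89893164540169d25f9102f87e555694745d80235d9308e7360799ae65324de4998c1f694720cf8a8899849a69e086f46b91a231fe71ac9ad3a94158067570e3468a167a124e1761baa36e4f92661c8d85b8f4d348e0c9428875cdb23ab3884c82448aab069576522e89fa56165253b3cdbf01480a692f536898b20b6910e1a0775b640385d10561b649201bea481a056a509618784485958a4e5b085a61a01aa518818b49cdd7301a64d3c4ac6356257399b20462b5fd181faae32895a854e4c69c30e15668fd5f03e4ce9d6f8f44e9771b57237d00a35d0389561526621190875c416a41531691749468a0d5c4495f599654243a1101925352c125982e6240d6aeb4465812324f57d4201a845292261c82071d5a29ee26e077daab1d2355d539778a2844016dea57d03884e7b4c0e51784e8242b71a9680c1d9dd242de3f392647dcaa46cbe03a869143a6d408a7e48351fb0c02c9704d7c26c69a5e800b46bc227383779e75674029a106198a69096b4b521644837fcc43825456d3d78c56330146c2ad77c3b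89d0f68c93099c0a6e391f0b6795cd170ae3c831865b31b22d1c4c1a1dd8300f1010f00f1dba0d8304e7c7080a35a697cca5319e80d9cf47cb20c9e19e8b07c44c976022d4a48cdc109662434a890db19e1e432cdc7581b1d96e8f93f141056ed782046059e47341c70aa0a6950414a8f5be7e108ff8519c3f8fa6e0006a14f4dd6a22ea95a146500eb6b00c5f8ce4945f8dd82064a725d3e1d631368fb889dca89ba3bd8804229788e94594856462578b12412ea65c33555158c585d0f841c65968ed4562447ab06b8ec3d90c1c24b9f4292e07a6120e7be63080558f08663a1e72ea76d0f52fc736509c65e177507b8c1534d896aa22827932281e023eb151145abd618958544e1a222a655d354a8d77481f6612c249fa83d9f428d17242863d295522e36632114039bc337ae708e035924cd42cad2e5fc11009a05142f6586da80774bb15c437f66031dea0d26e7b4ab1863aa4e4a59552444475cc2772a917f84f841011017a8bd7b4d1026589d7b0ac3dc1e74e8b4718d21e3b5c12802e6d68441898bc3ba7f9ca5955543))))))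
noncomputable def cR_13 : Tr ℕ := (.node (nat_lit 189) (.node (nat_lit 185) (.node (nat_lit 183) (.leaf (nat_lit 0x251d8a37d59d5ae37a526b1d1f34a67b91a9d20c02165657ad8f91c845397e57ddbac27f968692300f582b1518d244471419a18d03e224975f13e39586a38a6184a011e654b905a827790d91589e9324f44967864833278271ee6790a9834cfc2a8289a1c845dab9504177d4294aa9a1d5d761813b1152f27c95ab4764ed0f24aaa270484c53e00716c81a991f6f8e48613f1e0661bd333622a5e04b7819613a9b4b47972a9c9923e356884d9a6128b9831a75de035a0046211e1fd1d528f15a9fd4e81d815047501b1c895a34dc434b75d2016a49a0646d439758410198d57058542423930e926100a5bc3a04c8d511133b9b27695b05145ac9bf629e153cc64821ea9e4b62d502084d8f5cb3fa150b1c95c19851ceb2fa26a02af6c15e5fce9890104a8ab409c3679f414475098ac7126c531233bc3700085882489e5240e18d7e852771c208cbf40e076c5c67c57284e409a44f0a49c7ca142a2505c6ab3fdaf97dfb680c12da3624834220556e563642229daa1219b7499ada194023e2956141309161953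c251d297846375d367dfc4d602834157310c82e62a280687e449c9e3159e2626235860e8be60741ff5d93143cda8c1d11ad273c94979d646e00321c353cde8a88a93f52fa6641849937c1c73ee972747a1cc0b818d6779958b1ee1015685a8546159024e394d5a60dac2005c0b4f93115159d8c6f45d3ea492eaaa94442264223352c8c9c1289cdace5789cbd4514319c120ee552ed5c8fd970a8a57b69a0ac9f1318e7b1b4168010d8cb4894d7a8589e8112283d96281895103a94822e596026aa56195b19c714d12b528a596d0906aa421a2c57d2917aa4e389f8ca3202e6da9f9c47e0bc0824dfe37a355ec1c37cb54ee04a250a1ba316950b35d342606c068486aa0073e8b8ba0f061a836d19a100d5564f39c0e0fc631427d985ce3644960a2da30cf6666f1dd6e2c26d85e3c14c600c07da8e1d9d0c754cf70c6a47999b8ecae086917d8af4accea0c623a185246ae3993d46d323508e998a78a07c05c68449e46ed879361ba94050c85e6f24e3d5b326d73844394c0b87bd948e8d07dca14026e7e1c06686446aac774c0032ad8ae826b8f65511c9d61c931696e9e554a7317e5c82a333893841c9610c1f820e068da4755792c9393868f8265d758b30801e11070421372d1f975da21150996e21598f015d4b6d69e914cc))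 (.node (nat_lit 184) (.leaf (nat_lit 0x1af67913990f2581ec5e2a98a8be75e22661b34a17c799d18d4b2961015691666e20622337515d3d5ee37aa47a49f25002164400ac5f0ec254468259d517769782cf0432aa6ea49188071a80e2907b2449c2087d1bc4aa253580da16f8a94821370a245ece72f242a18d7a7d8a7c2a84f46800c4e0786d118772883615c9d236004e1619de2d3a8ac6ee56721b548d65a14d04b8bd9329a76cb87c8fb839bf31d347d9dc976263f99047e167f596aacef9ea596e2663cd69675098bd302e9df53841198082203a06030280141f23f9f4c963500a4a06a95f3abcf791129796b39466e565d02ce723122b65c211e0581802411c8e1542c18c8101271748b7ac52d79d5b9426c7e90a666703d0a88ba0430cd64561b9d8eb5c0d860d242b6554fa3e7d139505577de25645ce78cdb970d17259597e4e70d0468a10a7228524ca5ba870486b230a31944226c4c1a5aa815075bd4ca464372d826c8dc9f18f7362937660789567d5437fe576501722c870c4131d4440bc1914038005a38664d6e4cf7816aa3dfea6c261c44b1b89a278641484f9bd77792a6a30fd319ae901896f55f8d1148528a80a217ad50a60b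171d7d92a0c42da646105a0c5e1e83c25895018490a83d08009240b575630a3a1d671ea4ae1850a5b57ab07a21145ccd6695c9acf69e26574e399b60f351c42d12aac8c137d1d5e63d6c13229945a8d4f69ce4968a56de1f7f13138e7b8ca626311c0c8741cc531500010c1a1c80d08c8a5994d399fb93dca6a5086d9f181ea7316419fa9362cfc60679915c692cc08e0d3a120d6969e63944a65723a103a20cc4d921616126a2612a8990547625c862000c0b43e1161c649d68ddef369407e29d24c0b2484d1683707c7f1b1106915833ab45cd86714bb73dc148a178068d4dcab681bc52a6a3a6532e4ed9a57fa421a4beae2daad9194b67d1a3e6684183316c480a4162603f09c5d014fa556672feac7859346cd240a3c73085210790701b18439040343650d2bd849d164769525c50f89e945192c6b576978e09fe15495807796d3b13aa2d68a89ab2b9c0952085f95488e369d56b0b83523c0a044511c01d1f96c3892661d3f8eaa0521ed4edd9a55533c50e8268058d125d0cb91cc2922637622ca5a81355623e1b1828ff3ba736d2522c13c321f95ea1e49ea129d475d4e1479338edac8c5193945c1588903c2819ca108883)) (.leaf (nat_lit 0x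e12a5170359d4fdbb78c37030a89656d8ba92132267314a9c00213a302d27f985a71e90730a4b5a4582493070c1c118f356dc249d8106e6f414456ad809f4151ad557057f11056374a42c290954770525e664d20f833a10246120872041124d54320a0985d631ce3fce72ddd69c98b9e88879ccc50d3c4ae1a235f8515e9ad081a91eb802ad55d4705d357fea37c4065454ca657177e9426a2aa61502e1287849e231ed8193d4a8221f5cf8cceb9d4071405174632905b09acf81fc1a1c240568bd5f5fa58c550ec892f0cf9f0dc4646f6f432881af5e6546fd1b6600453952a596f7769a26228a554d2d88659aa22fdf6a35fe286b25ea214e8827a8c8519364b61623df2521ecaba8a5840a276a94a611a248ba01a60ae4a164f183e397124969508389161cdba0e21e6cd77969bc4619e5ace419188001873f4e32ca71736248edb29b8f215c1d1ca3a5768298daa1f10a2fa4e5945b2392c71a506b6121b4d88dcc43bc2e1b1ac650de2bd1404d9a685b891434048ae958661a67977a2962902264e65c29e67cce8e1c02ee433c16263ce5404ea2e5d06258e9d123855599a933908c7488fa7bcda288ada3a521ec1198996358420c0df44c716dc35889b1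5ee576e51566e836a4259345ca7e097edc7931a842dee850433187e4717e9913231613aa9d58c4e89ec051504f75e3620168a94c17c28f804a3ab17c88d340215453e9c5cddba5c968b29b54cba21ea17a1fdace07510234edfca81f729a9d228164c6887e5562716c18e2f3f0b31844d8b6253ec62006810a982839c50fc4734d098402c168e0280aaa32581e40e9819c350400d92685d5c9b67e8f0c9494f441819128f9562ab491850626c0e821590d0411b58143c44468196737822b634fe26ce95c8db2b11a04197999be4783103cab94e1b4425d5da4f4f9b4875e24821957e676563f32d1f3dd92a4d033b4b574d4b646775ba8709d8682dcb0f44b3450f834291806a19e76772276410025cec1d8399125c64e1c334755d41f120f6578d94858307a699468597da41e10d3024859c5e2412e7263e6ba683d42f0806e8f56074a353ba7800c5214dd48d1a0295744742d1d0099965b35e8668c2891c5f6da0c449ca919a243884a9de580eb029d4102d3880aa67d085790ca501394be18245f5509e6ac4835aaa830df3a2e0427eaf5e21f4ddd95249424cb176a9176095))))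
 (.node (nat_lit 187) (.node (nat_lit 186) (.leaf (nat_lit 0x2435228c38ddc9cd9370df874a6d071113d48f4a23c1ee262e003979b97f5d81518c31812861c11765533067914ea5a19e69646370633954d675f10be48358723a6782611c42e1d366594d5dd635d431d7a838fd4389c206513842a85621109b26900a421cd118b1120ef12a376dc8e810e824e36664567224d1b141a04652f8a067dec220d79fc28584ac17a6a5512d6d63d89cb48aa39970f95bdbf12e4c304e79519b6466c474a188a2446238a8529618065b96d1f502085a10e565430339f6aa47dda570c5a7107ad02d3557757964626953f28d492659d2060ca6345443452a7112a6610458f9f95c2974018849a66a255a5a5747ae300d83d4968a08d595d451a654a035e2ab82e5606da609449eac0e1048ca703b9cb7b596510cd928e053c20799ab292827b8852be130953634631900764ae2c0022b3cc8b448b71f1ff6be0d9dd3a7c1d028cce9a457729971c14392c96404ec0f2b32ed3b166ab7446a77e0b044c9a4434340dea0c8487cb0091aa7903e58a7e5253000519232a51d20160dba5b0135145b78099724bc07d578ecf25ce423dcb6226006ede814a8703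ca8168cf78e68532125a8266b5a81c65037c836ce20739c41fdf75186e3510326a75680312985c4e256199d76281482178131339928636d062aa23865e769db0556b019116896a27e92e4a9857f8921ae90508959e5de1f9f57189b34ca79748d3e0f01e63f2c8072e8fa1e1be73192142058580c4c652180ab54a6b9e8297cc736c4868bd53a4d1b97e9da91175f582a8110a7d7e010fea684e4fd200ed675741668ce4425220fd3e57c1758e9614cfb83c9e435c05ed3d9ca2da2c35abd94060c83ada6670da91cc286c1a754a2824824e42b546928ce604bdb68a4b97ec49602021e8bf02610968554d18e185d37d81b9bcae8d1e57168451c1d558c025de904285160a98d462538f48ea418a1713d9fc6d0476f20a310c34dcd895dd67658b6621e27c029848a46875a8d720216b41694851236b1600c10faa64f1058702e1113eb14293299d5b5e422a6d4b13521a3c3a3b4bdaca0ca393c9d9cf7ca1c81c193c4912d477988055fdb880da963cdd868ca9609d9b91e1a4a50b1667846f68a7c200e29241e541f4669c734a4e5027b398ffa2195056537085f641db1a17c32c0e9c6ad911ef21e8085c272b5ae101ea5d8378baa82cd2c96d13a78906f581))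 (.leaf (nat_lit 0x1d1260b3421761286e386018a83f15d1155c733d05e8816e3ee9b7a9b230830a75272a23e700cd11cbfa29e338c781daa45ce426faae0ed5e6200652da39881b06a5c4ea9c1801f9fd44026670859e9cd925421a8f65f0394660da04cd3065c274a9ff5d6780f00f7dd523253f4ac2b9b23124dd6824dd1b47e9156a7604911165a9c354147c6c4e88a5d9ac4c6718777d6126e4c593114106af87cde8d85b0f8a7a45ab959e4170ef5c27e731433219043dfc35e1061e17522b30a06a204cb6ea608e40822a5d3d6964004d07520a8d64196243b5c5900a105d8fa386939dda86250a41c827caf75e04a995544eb0211b7938ff2c4660ccc37d29f0b8ca80a0a1b043a2d0c84c83256576b22240871174a4361fb00a7453d2d9a59c6182299a335a1459b5984a423996619d94d01c7bac947698184f1316881c0813467eab23004295956bd8d0e02a04581a18978b56fad15844243201bb2ca8d7b4f7879eb22e5430172a544e281e181d0e11a8888e9e0bc707fa0e498a3269bd905168987412c3648563405a53f41e17d896c0d97e8400047a4ba3f6162b59c324966f382775d27c47a35740b4609bf9187d8a0618c917ab160a1553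7e22c8d2921e4cf7c91a5743d19ca99249d7263c5a522a84eb18a276d9096cde78745970842298bb965ae93cf25b2154124874ead59a0c7e4da5267b62814a0d4066a64090996e12c02e639f682601419e4056310b8219b4bd990957f04942611a14c8ae7ba7a705a82fa72795376a53997a995acfe2891255a1c3e05a132532f48792cc7342197c5031a1cd83cf046616a308948c2da81cb2b23a6f15a3a91f835c38be11a3cf1331e23b80c18d964914c304ab27a3b52a5a0646f4da983e9e81628056e753380a2189b5c4e4676211fe447522e2587282cdb9a803121e9a50bc948530e4553d9ec2d9fd46db56d0b55e50da249c208e956651344e5148baa889035906895dd3b2a50dd62372307117c539ca4f864034299b928a5d3586da49627196da74ec88059dc9a15ca0591001517c02c64e6b639549c13d04287474b95f6a976e4a2a8500c4927bd7a77d61351072b5cf38a058008f2356d3ccf98e0fc1469a8183a4615fa4cb8781f61d4d35ddd291dce7785431085935f33561462d7e4557b1150a37e031ac942ddd56501315a3771cb02397834aa84703409a84399387981513daaaa9ad95491))) (.node (nat_lit 188) (.leaf (nat_lit 0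x2a05f09e162633418a26d6d97c46121fb4202805dfd7d1060663e3d090004b29e04f1acf7856882152b8a48c2392356a4a3a1e8a06af4f5685edbd67a620d8b026952a715facda0969194751b04a44052587893c32ddf54cb1a6dbe0e59d0dccd2be926a8e1088387b9548e1bf4f8e01ec3ba029f6b15915e2539d89a2d62ac01a4723d4264309dfe785f32f540404507516b859392712c834ce63aab31d0aa29ff2d01b1b5671f1c3778b63d46f20e8c9d84967dc5971fc250185d507009e0401b9890320e94e6ac8dac4c83760c164cf74d8b5b138a849d031dd70934284c3820d3619cf5c06a1726831a490990479df27e5228f0151b9c88d29313674656133cca74a481190cc69a3760421195ed2f88a87d45289996d0d42ac2d5c697525b05a8dc041e3452564780d45e4594d789b1d9256945cd76658a4974a835a75702207c4d28ed6f094a08787437cc26d6856142e57869528ec299c952105909257e82c930167e1eaa19618d5925c9d5aa0a34e8603560e75e6daa82a21df69ea403e5a97288901e914cd9381ca57396371da32b5e4a651f66e468ccfd8d9973a4a9a0a9556d42886a94fd823445d1996e63cbf27ea544c0810e11a9d3b5f45f83c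61645d6841c19b90d4464e8080a7b01e941276516940a792e5cd3e0724c886a3e063b54772c201590f62204a7946ad0916f1740f83596daf544938a18023c77442550380945a5493c0f456a4110062e94c260736dd79a4030980b511c76798ac486989219a36da1872840f4bb575ae5f8eb89c62209a559920071ef91d0b8e5e5800230feac3f1cc2658d4c57aa8e059845b25cc49a5124b40b1465185c92591a28bd50849bb4a034131a71e1656c5f08aa3a1002440c058c17752e5e6d8960bead22d4486c558292e61dd114a9d4da18949da9a98c86aa24c05a15267114c9a250c2ce011b01d3ec033fcc09c1833bc671f5c61e9a488c7f5717f9c8ea18cf1a0cbc7d632506266e03c0c5ad53475998de611181a01130657011d876cf68b08410a776cc7936a1d710aa0ce8ea594f2e1986e8710a63135ce59f27e5555738ccaab9435612439a4b9fde93f9dc8b9377420b4d5d28266b314d99912aa3480138b79ce141c0f28fc0012e193ea7d4bc88558539ece42b8e26a1f780deb9041f4982b43a4d672228b6718acee3c041a1c7e6c960a6a65ac81317a596411aa9a6f3604a)) (.leaf (nat_lit 0x249266b3500286496b231111b9667750d7516a5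8504731d533108652b0021fb5c88fab24e1418d51c263d148768319f4293e854864332aa8e261e35ec1a6953b110b26d4e72920ca6e55289055889e32e930f54a5e5825cd196f120724c39b279a0227674553fa65a0e2b305eb570808c9c85f1259d2849b5106d0b17c90617569285ef7343b3125a0fa94029224b890a9e3d13cc2aac106794c7f41e33d589c54f80cd938a8d8c47f8992b791644fe56891de56887205f01f21b024e901d814b6067f1ca3751b52e2f15a8a08e7c992706e22c4621a491c4368b317a5159c9fa5e541017e4a40237d397e01b6a53624e445d457a3e33870a38024024aa15480d66d5e215031ed7a784c018cff1e59816a679de875a10a7450b73cc89765b97217638725142a62e43186a9a40362b46d75cf7245125b82c629440dcab6c4f925e1392e146ccf6505db631430aca0a62520fcc773801601287a00f3b59a5500c2f6aa1323457c837b6588a5bf5bd13a1a699d9026c20781245191c635d578067382535075a81d6287d9ac3b1215f6531ce99a700b614627b858455be8a9497fd5d6263b821e25d8947a84e2f0d81eaa290484771609c8459981265d5121a3656489a763783c967951e5dc9aa22300b9a24e020341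4e7f9166e57129d006b9c32fd2361a9505a6f87526611b23a8e5104c94f01869a350be8ba78432d060714dc5e11f72cfc6aca6a066a9ea0568c77a923a2390156c822f9c21452c595a004ce314d30221f510a9a95d91508272c28c0c2385b08a77e468549bab64c0b4a53342563d46764243cd70236396bc342a24814aaf019074c9901b2b2010ae1c0ca439d23bea505d9316de01d12771e16861e76ecce3f5a18f878aa09d8086f838053801567d317ccc53903c60d2f00e969647182cf0398b91711d195aa1da829ba759e21045188700e16d8482d44d97c0e3a0478803a31a923462d5547da9a3f12d9c534113b92a7a642835c136d537e5a74e819070d51193e255ec126a38f11c98668878ba7d16327250165563edad469ba2e27b9fe6b8897f19dbd34e1179a8589550051966645fa80222ec692d9176dd7498d347c69f3ae9193c398287ea262e128b73c41f691377dc00378322bcd419ab49288b7e96d4cc38654a93583561d3d086b191c6a848d23e25e9826274e1f43e21425d63d4ac1ae23761d03c90c9fa4d1a2ae)))))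
 (.node (nat_lit 192) (.node (nat_lit 190) (.leaf (nat_lit 0x1f4645756862daae09a6e4a3220845db05ed87330d84067f932978da483dd8d7d9ab8d26587e96842844fe804b58f630b2779dca4528464f260db45baac9aa2e2f509544020a9328056d6e61e8ce643394c4288b17de26e97e7f269ac61d410be34c4326a921f9be04a6e2450e73a7e479d4799603ecdd5196f611b5888bba359a565eb31544385fb3c57d9bd499dde773d9c35d0032e618b238ac8d095dbb78557372684ba52a227954dd325e74000fc258880386d56ca4950454f42414c6e0259b08e8b1d4c4164132044d5cc0a1506f1ec0511860254295093003c4f1f472198a20589309c5e4750c2300d1b0870bc0b0e43b1702b6514f00482138141009b1582126041818c01d21c20dfd1c533098792340746cf44a9b27b579a160b918f6a60ff2e52b3bd905d1f3a724b82918926233e5142cdf76b18e83e83a54b7834d95a8f56b5f244e05705e059a899ea5365dd6571122c5b62143f36e1496a757915e74a63a7a2a1445b31e70a3e157459e7a5717e98204028500039d8507304c2e145388c6168e0559ec6fe1943620aa63151e7d57e02964d59b230ab902391d55c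a7b552af86e6797e9329d955b1b88014d42ccf95511accae489347b97a6cdaa7156415c9489cee4e521528d2305df595c00f855a81262b0e7845069c9ca68dd91a83a8ec80470488607371a4289aa5892a3900eb2a93c76d9f5a5bd344c39723ea9d234d4af711636a58553989a7629988ab39925691da72e0441daf916a2ac0a55fda5a42169c4180cc6228415194921240462a870809f19c2d0d4640688e0207a7c64d0d8320749e06c9c0c0901e04b6ba9a1a4f80dda007df8224630643490e8a7bcc9a8596699203b53893d7850e5e569c82a13a3a613358de8e9e559ce849cad8e68c9421a8fea8975626a1c3554b638cb0ad2a691105309b77fd6b4ee6d904a63350f605707e4ec8d62b73588549fe6f18069e2fab66b395e381d502f108a39c980d7c1111f212600947f184173508a4d8118f43d10822266511d8a91c2a4160680b8a071c771288f1ac860305d0b03c8f1d814a253f94b9e0ea8a1ea665588dcda6c6174dd8675d5d6625b504bf95924a7d9d7a1d0775483f4df96273848f02e92c4c5a264e32886aa2d5104be99a064e0e0477c266709613cd2946a0c91e860780662cca40d3e454b43ea82a520e28c7c5dc315a09d4581c9f1767d592))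 (.node (nat_lit 191) (.leaf (nat_lit 0x26e279704724b7a8b8684a0531d5a2cc35f49b1d0aa66a7720969781d3070583199129a7e240fe909f38a406381b804c0a3a5c3aa4c852c7e594883d5972b6917f23007e8990cbf7da3f0948e655cd5e495368d76505b28a666bde7938016a4b4a34f022e6861862212838d4cc762540423202e38839d44d52972c4f860a954d4d6f02d119d782e5005e349b64914453716124e1d112a1b6e55045c918da400f498910c5505476b43f818935eccb24a3e638288f1028bda34b1e42196e6c53f2d94a7fe53674be264f82167457db5624ca3988ca180d95d101be4d5fe908b03901d2379a881c9a488d5a28eac19d8039e855769e87c7f4399b954f99cd64a5c7767815422011c1ec97d928e9f59f57625aa61558f61ea117449392077dc243f546914947640f46d5e38e8460eb319215835885acd59a5e800121108d62c4344d8b285184544ab418877f41e4310d7e41d1d599a71781a2abab68720168158f19f1593ad1676c14349243025e5d4e25587873859642a509d57905092e61192a75271731cccda62b47029f758116e90577239099ab37008a89b20ea2b508f70582073cd97121c53c38658338795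483d34115017e9ef5b0027243c501b078de20114889daca9c474f52a85dca8404474835549b40315b4461d0ddb74e605741127782234de584d6240e00830544bd4e889bb0be219c560a088d7691a94a2800eb27f90b8b9981ecac1861a98c693a8f66a86e2cde94824c5b66728676a6a8e384dba8e92086a07e0fc8f40e77e563a15c22aae5f8c24a0435aaa8634c7a4c7a4c8297b63b0ed1d981c21992ea659c294fa58c837b93141cff9912d488365c68a688b74dd7a606705610a0b91804a4f4644018deb5999f9bcd12745c7d0fb12e625d05aa90c41f2783bc811da9b2a10f06e316a11f142021b49749d679b1a03503e5de5d62ca77c0608dc2a7c5a658572a04a4454bbac18592233062032ba9564d82360522f5559ecba0c86b82a6b8b5c78644c9e9fb4113c3044e6f431525005165c4785e899ae50e254cdc61352b7313a825be8803096a809469d0b02b394dd37cc96285f338f46ce96a3c1a4c06a5f1c1ac4f23b8196da59775132c13e1c56f91de1494b56946c9c8ec3426185aaa2bc79a507d9e4f308e088109f9a8cf91926016658aa8c6fc4869e584500923e7f3b4bc196af7213b15c4163144226247c89a96cde)) (.leaf (nat_lit 0x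5156aa6a71100d0fbacd656094aa3d065589912dc2779af1bcb117cdb15db42a256924a36b4878fcbe339fc8ce05695ff068e14ec0c5519a1a90555d6f348a0394c37ea4e746219a94101c2b5fa7864c145307c7881e969b7294bb2164123cc5716824d0b443d0da20465e68a0c29146c029a1435419e025904b681700b54e55ea884d0f1225c9170b6940fd7710cac949bf7248b3249e6ca4744961759a6a7d3a15a5d5a8398a28c63c93834b7369d71c8e817a176a60f055fe4dcd7794d08ad0c0117b620446267d9841748df5194f93562679e133b05a2e07e38a7b4c428015a49b58b06d2a108ff044a478d7129db51a2aa88e348f5ab2feaf1296455507a91155d436ad0355ad9920a646e82690dc88b88d770c811c9b3c1efa482f8687938c710dd74a66a3420534868d5b133656b04a01da1a6f6893d65e6203de11ee7986c9f3e8ae165c7309d2204ea81055192093d6271adeb04e771d476375df7da0a18e1580ceb312407b1ea1b0d33da087e21e37c745e0403a5190295c9983d97d2e9c8224090047c4ca969558e975d9141f5986fa6e92027a1c1c62985735451427f8b0925a0d8670cb8c1c66f0962bc8074e374057c6c0b2935ae740832f498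6e658940ba70d6623a2d912908a8f17b8525082c4441fa112b4d97f0a99f5026b6e0bc5352646832aa69d56e895c12552d306527108e630213e68559a6d7d7e460398dc881d982cf31a6061e0d11c0cf799fd8645b841f03bcaa92ddb60e1d035e8520f8804ed849d53023c8c48a7289594cab3d1da91938086739799d545a89a4017c45ca00455a6ada2d240e90ba816099584a5a146cc77859f4944ca782ab89592246746b00095dcc8f8884591cab83357ea7122b23f09d73a3a8d8ad1991e288d62325c5480e0618e9f1a700d4718639094e4888b617503790677ca0e4800b5892c0e1324fda0019968a4297612939ded3ca0c68c583ba007a6241ba1c774e02e64f7cd8ca39492427a84454299b6704867ee4a0f8c7954a9269133f441a6ab15baa856104424249c13c4bd8d0659b54e5b750b0518fe462980ed6dab04ea850a6049ca15cb0423b6f654250cd6447a53d7a9d54499daaa78898ca1f306930b8d45ce458bdbb81d4e04a609d9804d587a0c20808629b1c431a359088473ca1930b3379f7966388607f1cdb1474d9124cc1b4f725c1649d8659e7e0c55d13d0e))))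
 (.node (nat_lit 194) (.node (nat_lit 193) (.leaf (nat_lit 0x250061214cc9832cb8114f66b17357565194cd6fc8b619e70510393288388e60c5a42f48674d47175742dde88e4e8a8117934bb8820e102b01dd6e4ac9d72cab0b1f33f25683623092447c4a152dc0138ca672636492815a68a50048fe4115e9185cc436698501983b5c73016b085009158c558da6ee612d1623493b9c82a0260aab2748ba5992e628a69d72079149157f638309cc4fcea6a0c12c04d17c2e1b87f250060822c3e97f9b98ba01ea95dbcaa65da9049704f22d8c69f953945df056085de8d75e307fcee868331e1e54240c6d0b923d903783c20ce96bd311a5674200e790df0e9914a59e612a31f25c87861a2e7b10a0b320fd9557a0d0ec3905a505fb01d107d8f175a40492953ce64549b0269951ceaf8408989e5e15287a24e18d24e1c9497081a4810510cf78a15b3d5ad0020346032688e71717651a70a19a1750e068d358090422a5f6f8f860171535583611c775ef48c7024e32431eb298db629b14e9648ac6f245797393d7f111451a9858eb3583b2107d1a8590e43512e5a9262f8024a7de7565a225b4a5624a32c968370f042de3728ad271b2a5d5a85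57e9be3d90808079b65c07b475f009a1f6744c1817c2ba261eaa6acc3e9e25205a478b4dda3d2706dd953c6c580c7259ae3d1552e9a70dd787e405449d020265a067a510bf5a666639cd6e4ff0450e03d0f8d8634ddb3234b55f5974bd8d1a21da0c47a9e2408a46950fe5aa05156935ec36861a6205a0745b57d11a8656f8f9069a67d1b55e541663399b479027b6712a9c4a84661d92d5ca9f3419a884a8715884d0120a69a9ae149b212a6e3b8f23a76c440bc0209c871d43027d99330cf394f9aacc98a94c651d84981d9f18f961e1ab5b84e0d41910146d8250e062f8c36943819e77ac87186e841424894c0a00daa982252be824aab434df2095e2a31c6779f855d6c5844f345258dcefa65519b6961fa674c8ac279c93545164cfb0adf5465cfa795f315da48983550462c5819d92caa28e87207035e641cd77553967d0d8045850a926dc238d64323a5ba94a2832795153e9fc1002c4125c6224273826ae128951ac480701f566aa5389b214a4178920b5fa44dfe8c4b36e930429ec7813c58e9038c820f52e6f48c29d870fddc7a4130a14a4da4f8cc17ac60f28285a28991d1c3a89d22f08881116005755205b14ca98469c6ae135726a6151f7b819))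 (.leaf (nat_lit 0x1314606a4084750cc02c8b0368613a9b421a4ba7e770dc075921f7b2431822d68ead27e52745775582460aa97f08f7d572189fb83e357188c420e70e4aa088be500dc3f8b4109156405da762186c050d1eb6d963a948335a029f0278997b75e6128606a01a90f1c9668105ea8a96df80fcdf5184b3386846ced42d294ec7c309e50c674622482005a6291d6ea7900e63752581d6b3699ff3484e406575e40c64dc5104e48ce0c5b01365cdd2b4cf438ee19849400e279a235298d1624e9e8f17a1840a87635200ac25528e5f0840d8460970e314fa920f5f22460d7ea4f4c1d514604a395789428a0dcc7708936d414ace6424b5028a80f93d4d2707a83578c5c6456987566aa02d6fe5e6716e8c08d861ce7de5cac5e067c2b5d607a328214e246a12e1513a440ab2f4b943c714b416450e1931bc1f5680016763aa747a1c215e7a25f172e0803da044596a2e85a4201279d24b1dead074951fd29c73430ec3f14737937140d01e8eb2dea162c593c032791b991a719d85e59610701f3a3463a4e165b60b722860949cab8ff73dfe13e7f100ae3f4524e1443a52f1bea25aa9e925b70e05f916a45860e0261a7d0e50ec64a3d999817c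22855a998f52dbb93622008c8221879edf9a11b31ee32abe295d02c688cd958e32910d34d3c2640b2f0ac45d0423912711707366203865662380da78784ca58a20928879c8017a6a3742535f42629a27ab1a41dd7661a815149235caf2cc1725d16354bb380a29959b7c0bf8283a22dc74fc8191db89118ca82750c1b516dbd879a7aca36131b1a1e5974c9d80d038ad1926d394a90a28090520fb3a13508d787b59d99a2e1a4145acc17d882331e20ce73649be6248469429135d6969af8d0796a91a2a5285087841d3634513294c38141167867a222f685ca8e4129767e9a21741472569ae8f19477699865ab4cc1f12a6a7686e90215115db5c506a6c6c8ed1c548f71fd233e4cb31804550ef49dc18fe948a01a5f9d99aeab6026d8f95c2e0951ae9c60c94a566f0615b3627d8e896a68f849149018c4324f654c573155153cb6a4641708436c96084a2a562379a585940480721357c2099297261ac7bd6f8501b9b14d3cd200b8f4531213c8564892531e2c0555d909b024c443666e6555e1b5592c41999c46aa9ee6069677c1d4c81e55573a62515fdad26a3d1c0ba7614e0207e3d51f3e9260bd50))) (.node (nat_lit 195) (.leaf (nat_lit 0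x10b5d589564fc0d13f0ed201303046a5d8ce088de8114a240fa6c20c8a9ed684d9ff54578235e4285730302755a0c0766e39a53a38143e29223d7c7c16f27d458093c269e34487d1428486e691024383a350b9a56284b099b43a5b000a903829e080b22ac110595ca4666a290e58d9545d8f2f87432d9e4445840d8070dd5692ada9017a6ea7acc0ba86984590da24a54045b414c26486266cc729d612de293263c17878630b51ada7159ed6c89536a060a5c03d40e39e6f0720b728549e21211d86498469c91b0c5144cc4d4854828dea25939599f35e94e962464a9ba3a0213e9c9734036bdab7c60373e7f8806a86679968719226a3ace296cfb97c359f5195a43c5c11f98e7142a575426721c6879535252008b45f2bc6c479a62f18b944d538dfba9822ad004a228ba8aa9a5d3e4c2ac670697e870688b4770ad5f9ec7d58d9de501fd9f934648c981175377e62176d282161a2314c1d85a51a2e8365e8525224a7c2663d17063930f136dd33d9ce035b80a2ab194793368d1229a456ae6084149da0a6453471585910c528fe5752c2226853e5688e0fa0e3b870132e8d94add0810c1525f26b000344d23bc0f714f075c1e82a26090a62192f24cc8805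3d798b82c0bd30e7a2265915e5c826478966b8e234a01cb048e406dd135cd634dad6459a6f2a34c8085daa80e92e5683359d13139255ca650ca615556e5ed77952761ea6d93a2b19a1e8fd444ee304a607210b151deb22df4535b16d538a08f7854071cdb73701574810a4dc4708253a9d63841f330bf00490956708e89b876628407e751b92804f5891856c2d6110f6204a411000fc397761385a2f4e9e18a9438fa9f1b8f9781bb6647b7b9905d006652a53f6a002a9cac9341b5df64e182ec60614ae8a1a3914b34198e1d4ac1657f25ca46742c311ae61cdd910a860e360de9448eb152e8fabe96a74917bd712a5fc6a63931597760552a9de31867659e26a0728c64f1dd6a06154351e77202a361bf7302faaa4a33a7418641a190810d5f5b5a144036581029f9fe329312d9e92712d201da108497e16c578444257d1456b4903d50a40262607d88e9266428a8c5481a87cec209408b09e3c8ed0adbe064de6d9c7394f3a1e7533de85049d54df78448155dd9661aa7f62792c6f90a22a147c9ce17300b9814d06cc05704ee6f409718f43fd1d37eb048a950e0235950711579)) (.leaf (nat_lit 0x26e6913d89c6d7a83e78e2c8e8186c05441a069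00bd212806492d12ced386522b4941262d88619175fc8a5b3090f63cdcd0480f7002e8e6168c48c7260f7c8ef96d54036895c9faa152a0709b29e9e8dc8274aa960874288b1a3a6751401895e935416450b36205e42ca95e5e09d9360ac7870a36848ee166596e4a5264bc4e23b75cc09f01a6346a3c6509b46b76e62045968bdc832e083dc63831935e85b785835ccac5064a6b4b52388059ddf6512945ea75690454d265e03a2296e0213f9956a0c1353f1f9612a04304d958229fa5fa5d150deb0590fe1bd4442004681a1a2d230f2885c1271f94e472a355509a60365d80a61a728708558aa113160ac9653f6914683290dec9c495561fe9853c40a945ed18878de1d8506d5efa181b63249914819dc2a602556d0aa85ce71822263e1f931ae2d268001aa109af47a74169e766218191f07ec8b9700c66e1b774e29048374466559b6a9038640565f2939814d0520b7b4f40192431e704ec261f1663665324dbfa994b1711b2e5951b04e688715c4cdacce835eab0642c754977b957075ab7528c37cd19a99f509cba480e718e504209189f883a736153984c588049077961934026de6c500070e4b83524b28daca567d1ca5a261b8852003b2754dc21abd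743fe0a7dcf58c08d71c2f2fce4a3c3b65d5e4143163a631e63c1f5d62250132a572a09a9e17f4d0a434ce69759a54a1019df11fd1130e3304dca8986e7a2696a543938b22867f73cd6095d36f4f038cdda1d8b4a2b112963a657544ea541c53961ff4ba964582d05d324c2a8145599ae28118234b14aad0fb122a257d0a1492f4661a0fd49489f64fa8a4943d8ba38244c9531993060d3c8695f8b617deb8c89f9bc0568c757f58a330c24ea546f8ab1a28105591909d02ee1d38077891a8298ae5210327855798a0a41e2195f567611311518d5c3315a681c707691d2228207d879224f6e8af9e42860492aa9dca107b810ba1154643de56269b4403380d7d2595d32035ab0445a48f5b5f49994f4868d5ad2015e9a0d177a755b43aad400438fdd94cc09715c4738f83ea5e67150338eb3482900dbc1ea345a0d8080e9371bba7e3e2f8869ec739116f91cb72726469547184da3404788dc19e93109e15808ea02d0d2c22b790cf9189d6c8408a9b1ab84f69e3d21dcc881d836e834ac1ea715c944416796c4491f31a057ccf9))))))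
noncomputable def cR_14 : Tr ℕ := (.node (nat_lit 203) (.node (nat_lit 199) (.node (nat_lit 197) (.leaf (nat_lit 0x26e568ef23e7b339e08e422495d59880841a5036a845b0e120a7c2e05ca02673dc9440c0b475673ba5b1ba189d8ac3cc403a5523563678dfa1c29c3120f6e53d7f0113f1231de1647e3f7646a29e65301921d1ae329d22e85736252430010dd367017171c591e94f510a931c3e091e98bd739f82e6585d2ce597c90401a837112606a374b5d70e89b3c6069b6791edb0552120ad15786a02b4639ae5e320ec32cd11e0f650603920098d1908643d97e3e796a7690a50423b3518da68411513fa7a61a5de80361534a085144da922c709940c1c88959dab8558a90b420666d55730a8963d220563c7789e882557b5090c6244f0b64c87f3796dab209131bf7fe43038725fe99594d02489568a5d5a97612027441e64be1c75097681b6481d808202335910962e46ea367caa6c844544be0f130666a916a53001f85beaa4cc342d134851b3191b75f69b7f4fb938dd1f68136d6b220047b9ef95a26200ff444175a49d3ae6a554f42668a5e4915d6787724444a6824d60a98393b580286119e84e5623205a45800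45a356175a3006050559a176a461d8c38758382db4508c61ccfd44c8954ea1189aa838334c5c565cb2ad2281faab668027c20d5005352c4b5e204402470a12ea465a015f1662b316c3570e2b6713a15aa26a4ab0b233451ce88ca04ad8e84dbd29a980edb161d2777419394a460aa52a0690991a79d015dc437fa4d03e10145b89c97ca308d3a8c50e2294d6547dd0a66c582e4e0219c19dc755793e27e1b4841f8f59e2dead0c93b71a5741c07962b29f42979235a4d8687ea819da38309052589a40478040c40a0a6f9431a21e5f96873046a21a83c1248e9df0a8c19c1812724c8e26c3c89a4640a540cf1c4e39bc98565d39701e78a8b5d26957cf5148e25c08137087a08df9fd720d9f6415462c049538fe460e44b0cc00df5ac195724600b537729a6a7e3107621744bb62c796b6056e9471ae95326716bc7c2f5db92ca23a0ae3e91708c8b5ee73929fb13d5d5ea75588e798227215f49445ea1cd720e862c48a9d0d39915b3e56328ce64a81c478b54e5380bd0d43d93abc5f7a81461296195bc6208e86a8e63012909bb81d29889cf1b692598426b04a5329d694af186407b14a2fcd61b185a51f9924138b4f852021459eb6ad4d85dcd1be635909669d287403f4701b904bca3d8a2315c9996eac4843668572e4f7cd0e))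 (.node (nat_lit 198) (.leaf (nat_lit 0x20aa124e7b529270f9061b0658dd772505f86c81d3c7a4509d22b0647c729b704e902694f2d8ad6611e9d4c586ead40848ab16258d60655212a99e78e59980736e80da3135701d941d300fd5d9f927136715ac1612aaf3cc1b6c86261cb38428192d4e8816aaaa2e1e1c4330c929d397995a4cd244292c1069d02a894cab3402539886f2c19b91498530ba0908a35cf0084ce1527a8a5574d9ec630c832cda780757062259a0da1e485522d230ca31c7a71c529de278796876889381de3d81e6b846acab03f8fd1150d4b83d98496548b86f410a3a5697871606301da3f9a42f2f19f7e88051d7c07ca339d749951046e660ca950129797e8d44c5f688c03a407741fe514889e1e10b83e748d6906441f5fb6a85d81142216179ba3a165a5308271ace430d4080e3969c5aa480138e5c34a3b20d415e1cc001cd8f26f15d92934580ee91a3d1647c374613f0e112690602fd437f456992120244273e199a23d80548208e6015d660ccf8e02d4f975a6c08a51156843552d220c4a13b5ab7e64716e429b07f63d6d5d9250d28b4669801a9a9285e2d21427cea219445e8d48f840754b12f4c151a00670ec00dd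3171a82fa159ae404e226846b408ea210d94555676190e98d595c88b4c60672026a7e359d897666521c2234b5f03fd8b1a4d9080f79edb590e0b8a1f7290ef474dc045bf7081d3d0929fe0f87d2f7cd85558b21e59d2a0e2039bc761492527c7c4a05a582420fc6204cac40baa189a812629625954726f9e47142c3c4df051b91ed972ae1c96e4f4a2088b08ea0a09aac1a3e903644674edee274c45fd058ce7326dcb0a5b6545b879d5f5c1040eaa3482ae05ea59c895341bb7aa581ba319e499a992313a8a5716e5958442df428a0e8a86433477668ae07101638658852b7d890a160c0a8616b4e59507e6d21a2bd6f535df1569e3a2517fc667ad3423d795611414e9c4328808aa9680b96363291a8612dac054d84f5d47e29942430a9d7b56d6c528fb21cf2745f58dc639268011e162a51124dce969b3030e199e249c22f79537244d30adc36a4ee419d77c8813d4bb814b762a360cea1a590f468514727d11213299fc1a8eb7bcd5095c668d7354ddd789931d1af03cdb9aa9395c6d600c634428725e84e88d9b6021a1b1048de0e65d87571541db69a182b24ca0c492d5908d09e4a961008843e11713d7757836a903c5f564)) (.leaf (nat_lit 0x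513fd521cdf36045f4526b0b94a2b66e1651753053405831bdf63ec9d2c1f06147146a681710353c4f33dc02a9d90811c069ee075d6741d3ad0f5359bc6c9c3396953b5a441c128e5410de544b0a17b19912ea83e62a63097775a120641a107b47e511521e67568618b59ce0e0bdfd6a52e28e5767047799440c5fb7f0468b0848ed3f1dd22a1c9977d8f0fe83881ae719bfa60e7a4cf834aae9e9ea031bb2deb2820d15aa0068c7fa50df29a9f5add72f2504a83a46c017c82192c16a74d0aa94e5566f84d33310623f67028931115e296c6d411882562e930605d5697d4402ae4e236164545e5015a54cbf9a5192a67e92a2b5463443a10290196d8de011d17541b38a8b1aa07368147800b918267dd7816a6d56c92678b619e7586430514e408a5601ce6a640da9dc209e903e8442c9bd8253b4797b68a0187e60425e13149686e855b12b5598e30a3a2156d61dd887528414bd996378f16e1d6144442d2c4fc18cc693c9c624ca64d611b25c5d85667cb424e7172028475713bd5c704c76b002734e30c8af71629a94c33b8253dab3022420610607d215c852628a89ca1a6a9674e4c843470540cb612525be7940159669eb7797c0e195934ac5523689e6c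44cc13a2ad281d473c063728d078f13841c4918d3764823cae46058861f8109654f07253655925027c5e57705d99d7a0ed29870749f2061f53e2ec80481da7e47e5d24410e058bc942ce631e25d360ce02691a48006adb402a334dccd6bc64a8c897109e4f5fa84aa4aac13a38f7090eca58058e17d6e9a87f9799790f88d3878e0faa5ad268659ecba0d94285c9066d581ae3094c764bc3c62c61a0a40208c06803e9d09197c5b50de41e95d459ff91e358c9081213a828db105d220e8f19a8648d57380d3a980e6f9c708eac6c4297d26aa5c79a789ba2487730f00568aa6e643c97e6c132136258b596131471553022ded589808a17f58c3952624139942948c2e6034425a8c5e942d12809348344a99886a04686483d498a7a01b9985ce51ab19dc7c581e703dca05db86cc2cabea0044d559857a68d44d9c952cea69c6e3310a0d0eb27dcb126a2ac02b3cddb49e3e8fd257bd905c050889e857d97960c9608fe5ce7682da60d50c886629160c4d6045dda58467d26148854336615e23a782e06959243964f40aa8ca70033a4d9042a18988a6dcd7646889fdb54b4882fa3d))))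
 (.node (nat_lit 201) (.node (nat_lit 200) (.leaf (nat_lit 0x989a0fa25e9e81c632a1a73c5a842ea7694aa42a4f7c9553e66958003149f001d0c2a462aa0f01a9a195e6b3e1046d55f99ea37c5a6a9864284ee5887563e8f0aa3045e1e84eaa791188bcd865628979643b2340b4745cc7f7062e0b1e5638762f9c77e9638ad8d40ced540b8459e60ac8f5d2740792376ca04c29261d1566d6a73582668b5ac8d59cd7596c2f082b315599984403292207e374c8eb9d6ab4925d5d9e9ad0e487c731e679778b7759d9524324c5ca07046108302281675d288812e7252685ea94a51202a369e92a7543d478ff089cb8a4311be3b6c848551ab0edd48883689938a2e5c911c34e625475fb8ca156b5528a8210e9e005de289038711d30f12b7a1946b235748ba54cea405377143719ea12c0509969f005077d4a7578f6965f3424f59915a67cafa89f8194685609a3dd080025a4f89b55ea5958ae295a07dea09a9597d258008395a18406a3d4705a676af4bddc9d8b4ac19c9e17b33ce598cc84d44a064d023677678592ca3f061df53dc64b1ae8f93488e3833ab12cc580fd9846d61a2a3c9f89d988e6074572309e18029a218b3027b3a1da2c5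ce631e109d1a6598aa247b8c5190a0e759c9c22d27708705fa95218de5b84730e7173136805b362178800fe930cba517f848232224d025ff8607a350dd21e7c44551a5a4537e14601c89394aa3092225b15e882a08d703a03924c25be973f64a80a99614c552e1a3491428c813186ea6204034fba10805c8e979cbf5968344e909f4c492cfc0305182548012509444d501bc4fdf65120f6e94250e056e5b451e0a6a896019b714d455044c84105021ef9b2a4518ef7b9a9822556e1bb8384e1865f91d7936925604789c8d606c7217c4b2881036e875c1976be3a324d1a15020464661a863707d7e64803e8e84490179d8a469a5c5006456c38c26441eb2109f1f0241ac7e648bba34c17a8e1982432f13315a2ca6cbd64077364b60b9ec8cc2523a805a5fe4f0cd876818e4448654c2140b1b4450503586dd04b69c5396d8b589745c00cd3b7f1cf8704189d3a0d14d6c0431b0e278e16ab58347ce05dc3ea4ccc20c9104ca41245c48242775fd59a7f34cc7900b9176ac5f2414841564eae16e215f4710496b9c00594d0f19a06998943c95d419bd2b26e56cf42ae9d691ed43a546fc4f265a21a4ad3cc939bca6151b68360c4353d559be94a0b68d5c9b495))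 (.leaf (nat_lit 0x1780b15c25cea5325f6de420303967c9d6ae658381d5a9153e49075a171a53a36d0c951c621d6c00a2434233944329e8b30e9f6804c902cc2285ae99a0a07e21464f71f1d484c64844215545039954609bb8e8101bda2775ce14e6d6cde51129e975c1a04af59c571d532508b817aad66d363750e961c42157001e273562f941d97344e9a68e79c48a7e6270a852b6160a158198ee5417d6d2370243e6992591d7f5d8984bd8ca6d0104c369e0b70f5f280cc5028bd58c561e53351a2c16aaf67521925835ec944a990a6636044bf09160184e35252c6fe3e050a06a987a462d46cf623a0808166aa12393a45a3c70985ba8f09b39d52a854a86cc705cc010cf09726e351e6018359d2357bd415cc769f537385099128a1b1866e240148e953aa352e1e63a94771133e8788401c87ea44724316eb36616d0022594dc821aa55a42fa10a97ddff2c83c76e93144c4058bc118f19826ca41ea020379d859ac59c5c8038a65572882a9d640b992a60ff440ef2260c060c8a811f928406a557236383ee1a0955e742307b9438a87b9f93537d0da18ab7d5fd2d44176292134a469d5622a393f8c109d5a7498aa723245cf211e0505561a7527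91a5a70c844d0de43c55aa593731445be68359e9768e4130cb08cbeaadf37f8993b54f5f029565e3a2c72344a622d7e5d5269221519d183cc929a9b17addf3944f318222eeaa7c602959cb2013135d04162b0679d3520b68341988c9f6c93f646977780f24d297e8fc9ca201cda8611be8f46a3ad4d8602b56de2a206d338a723e0f06cca271ad4f98fa5503034964b65271c884f0da42c5cad19675d3d2c4b40ec319e6822a84a6da5e365815e5249321218d1a3d4497ed009c61c289a44c1bc8ecb90fc339d6802b8456d65b3624f7007d4e0e241c60ab19a73d408a1f08127c294389de6b349ec51d718c5065887e95dc9204954a2191952092e0b06968a8a636f63f47a8d1b97a0995f745113f5452ea2e415651fe59714837d1fca1cac0b67099daf7a2062307169589888543b151a99163d07a62e9a780a36c1a134d805d09a4ae141892293609078cc81c91109a36221d1a0e854ded7e67f2c0349ce6fa31e40116e0162b17eae6653938108048746512e6e641476891acc30a95d75512409143e04b636968d09e6b1a033d855dd6b00626176b265d3b3710a03877655f8802832a0309ee64335e1))) (.node (nat_lit 202) (.leaf (nat_lit 0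x137a36017392e1be4c0e191248869a50f75472a85e4538516663e50e81770b506a080ae192ba162e8a731d7059c96914f7a0a6e399df51eb4a69f74bd226f05c65450a407624cdba31331492ba51f117d256fdd8788de6e45947c54a3a7e7d12da5d3e974e10895b5b15e591585a16a59957868b8838b9080ab0a217014235958e924357f934a2c73a4d2cac8e79be3b13d961c10c74954a9dea714f9780823b262479039feb1775448fd121f673340e097089705a057d6d5740a011753140087677940a33bcdc250fc700746c464441ac93c3b600f09c47e69a7b2283c38d7faa48b7694a910568024e188a605a110096386e055d8b28257c852373384d3622d9946d96d04625817853f0b6a03f50da24397b9cd04d608ae1f018cc2f95903a282b00fa549f7c04837da549e7a6f59854db36ee76175a436a3126e3934a584529c724667f1a9635f51627548067a0d1852091ace533a03da75cc0bde62054c1f234aad9a34e3d3928a43a5f418a23fa67710373e1926adb54e0c40b0b188212304185de0a2cc469c924abe9b44d853b65a6a9fd265cb6e04092cf60ce2383cc200c102b57a02d730310a981d46850111ea6221eb1a85e8f2323647a3463a65c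87549ec5f98842e6d729023d58f0d1ef282631386b4d48fac1453b841966804546590df915ca5878012fe060a57b8401e389a812a746dd21285f3a6116951af3763369dfb350979e4606f8420da96020c88855c044c056a27034b05bc1275da3125f8794689e12316e643ec754157da4895a21316d9ae61d6231a1c5ae1308574054b407c275588c4f5d99f0636b51da782e74ea80ea4aaa87b525361b0cf64c4c61229324ca064148a9720a8af7d88e689d66e99b202a25345a51a353c4d694a846c117a66681ddc3261397fcfa935907c926618b62a81d8321501d715e0170c919a3d4b4c2ac95d833a99c0f9cf80de772030920f3779e8a8c85745079784b998ffa154190aa49f45347109111297b49c09624860bb2dd612f226554e5156464a93a8bc61651fa9b2914a09d4c8cd8e0458b8d778ddb6d204740716798b242a5540831ba9f54655905406c91aa1e0b070a88b20732c242a56e5a53c8089a91d8a3d07971a6b3a6ae6098c0c4f229261945c74026a446304ec3f958eb46c69a1aad5088d9c19f1fe40674d553de9211c21e23627843420bd30e250980988a0d06d79)) (.leaf (nat_lit 0x1b53f613802b4530b7999b220c6b3b621a5df23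695c9ee2f650bd91e0189e455c8d384113639d19865532e0f761a90a5660e62e214190d87c98967418b3995ad7f2b0550210759d695216c633654c2379609cd9a979284d6a6869d561a538151061e6f4ee6c384628c4873206f1fc531e604ab1506d90285e5d58d0528896934d7556705aa957d9a3494d655cb26f20c46d8a9116d33d37a88c1aa9d631d610f9a70acdf194940888c6e09392c6e3ac1f66df9aa5492d5be80e2496d2b389589ddd43120d76d399ba0845d929909808c9106c322407e138758a61f281703451ea91784f1166460a776543169a7d623470cd67d599e0e018c8f6f44d1d02e0c0780704100c703a1ac20a74665ed3aa90299a16b8b94c2577411463e0ea76114c667636684c8bb8c15b9e8dc48e8c6a8280092f05c8d2683c0006c0e08e06193534272f248350a77c0ee3f212a7aa0859385b0ce47584965d231a18709276bda2a59f7329332fa352044b8e03411c20144770bc1622895926511c5f438e7665cc0932ad546028957c706583258b9aaa82fd341ea3922db901d2a47cd269a50109b02194f0942d2241565aaf54dfe681ab2d1008569f445f839a3f2b9c42c5e14f4f7a01e0559694209f284a325c5c0305f03c99aae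a3115ca8f0ab770faa0e1b602921cc31a3e7e52a9c42d5aa3686778f45f9cd870f9a0a342d9e85019e4fa72044541785d0346a184550266b4b80851e2a79a1e616933fcf2a1c2402d884817b57a89a45072bdc58f6287b144904aa7198173a203b2b25d450160142709d278131a05a765151222d3be7c722402a5455cdea19c3b4369843e7d52d225d9eb50cb844aae5e5644293f9c56f7914846444a844a98c06198600403f42433a280a626323da7f0b1e95062ca11033e0ad7263b6ea9441285098a5221e5190051c83d60d298f9b73d62b9d4dd57d42671cb90e1d39d527f6b15dcd578d6e949d797d7a4daa711852360e4101e71a4ac200761584c2e9fb3ce268ddbf7cd68a6d0181a223a5c392a193c4fea21908251830d3aa964f7317d0100e9b4b01f6810a8e529092078358e9bb5fd2d5c5faa39a4499c0939466623681dee971624325a74d2c341e25ad8c82d1a10c5b77c49068370046d0e87b15c4f5d0a8211b36a1249e4db575f13329943a426d1ef98165539fface143c0fba2dc7918597689b364129a65673d82)))))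
 (.node (nat_lit 206) (.node (nat_lit 204) (.leaf (nat_lit 0x11a51ced4b46a3689241cd3abc863183f9fdda659031b57c5e6140f5b86faac600670acb183cd6115f0582432012188d540c07f6449570d301f948465494247a310ad2d48ca6cdb4797fab67810daf20a37749b013a0e5a00f55590a3d05929c4252595c2011cdd84ee1330194a8e34660ee5182e05cac314dc1491c59a0411e27044c8985c592600a4c319160b7b9d9a00f19f4a36fc6b772a53c06e304ceab816750e30b1f11127748e2e309931bc3b4d4a23bd3626a549a15756da7361ea989d16ac29706b405639165a67d25352dac6945aa44537b2aa3ac495b9311c4f53f1383ccbb2f8046d2324f1a84446013e5b7a65622d8991e9206c1981e1ca5da4155b2969882162a979421310c818b093d12a545c4ad24198905390a45c57505067180a9bc367365163a8956a21024d29092c6669d40578001771069ea157a275335120c1a1f643465730838f00b2cca937d28140e8441431461d54a6575e40814262e062ac5815b45f9d25f259c87f66b73a2b57814a51e461c086e4f2aa0f9a7e152fd74291851f23d2dcb644d2638461a0e1127e307783ca80708d80e6cdcb73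ce5acd648222c1d18a1da8d9357d7296a8980c3890499c99488d72b8cb0890b534cf07e604616f5960d8ec844fc4a9e5f868818aa4e40e202702486128863c77975a956439668bd8c4fd862876d5df2a0b43250e2255326d2a47e7b084e627a336dd76868058b59da9c0166ddd905d621c48a42735cc2459d8d9b4642e586458791e1fc04d5f584f70f8fe3e9024e8f44dc40671952f1e57084d16e9667e22080a69b12e2345e7ea9c8796b075e8972ab095a0954d5068e7364dda6671960912c834540ca4964c31d3d3a5155898c788351f64e03625572a201db6a85bc6ea8476c3a864467d68c5c60a09e3e685d008d4f474932aa505166443d204a4de74dc7a38120aa8b0b66a7fa35272169f1975d6a667872a04887553e78eb018e756c5ed25d1b8a2a43d9bd018033e0a04e4fb0ca1b92d4a649e17eda3a6169798819ca7617556079725fa9a8e1aa6b88a95c1c5b0a74205679df215210502662bcd05304b849e01b2864c8a185c0230c7b2e9ff60d828e9f79e8cd042030de6e8a4cc56263918982aceca288e34551450ea0bd2f3812716252294d47ce70ac86991028825637ac8f8fdef1d58b5762487e697e433881ad724425ed00a09343fe2f9f9bb))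 (.node (nat_lit 205) (.leaf (nat_lit 0x6b840db026865084ea68fe12dee6f1970b12d56041461e617cf54287b8c2342c452599b515dc2444a433d909fa190c65a196790623d728a5522805f902a516c3860a7e69b804843b9d819d3b67c1b495640d1faa4e3a46c3fab4f81721e4bc2999da80c9ccaa5688b8d98723608a634ce8e1e8c17bc7ca30c31e2518201062043421791d8d17d0015318f0a155965f134e126314f9c17742e8a2d8c82465e64a3b5eea27de562f48d764df400c937944515b990c87484a22a4503987f6565f4f92a4d4b247d103a09e71e4016220165ec9a826676b00f55ea7c422ccad70ca348d650d9376901f6111e890c6929bd35e0b80cfca657291d800341760994198baa48737eca6262ae328337481c66ca17a1140eab474c952d5e7154f45743b44cbb00e6f2024b3144fa60fd03a824f4065f2048ddc52ae5c68939899db3a8c084c38639327d5566c2444062a2667d4c266475b687dcd5bde072d1c101be9248261684032028306e938da3ee35251d4ac83c5726e085995f4973ccf72b1163a4b74902068e5b0a95f9519c9cdd78544843d740494b1c8d22221a6c4895ea2b6b6a77b6425d67455005699ac30a52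5d90da2d8754e754b8d81e591526767e0ce85db22f2573c10311a8f41c449ed4d002582f88c77ea37ce5011cd6334908614a02189a146c6cdd0851e4a215a93c075458a0c169a94196aa6027dc98f85d468e39902b6621b181e58bc9a73d12159178020e1b570a704c6ea4d1f696519402c06a498714e8239169e332233c47e779711853f4b016541f029e27768eca856249e3c700af412770740fa05471c20938885918cb239af5b48aab0029a0758c5e116cf94249c7a8635802d759290926c8cdc1abd619ae6526e28739b814d81051fc218dd815fea45366941539ddd188a87209d5cd57a982f464a02e4543ea6909d93454ed3c8ae4ad3c0d563a80eb0b938029220e4e58b0ff7117f9fc116d24820d6ba5451834c43829d7ca256ba5d62e894304a8c8455a88baac746354e9e99a9e15b955e9a3477341f624e16249059c8049c4d412611a5c815e2227726d686b38843e8e207079960ddd11a5593d85e87606a90e48fde28a5316a41a984dc83dff31e4c6ed41a1d83a0dbf1366269d34905c62aaa859d2035653192aa8e46f6818602e2d2e068439ab78deb168ef754962d19e095285488fac6905b9066dcbf7f4139f143)) (.leaf (nat_lit 0x1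440e1cf5cd5d0649c3f69e83a6719c5c810e68d9396e17e254d8670305c23e9be941aa4bab61b89822495fc8cc77859057d98b22c4a419aea563f9b40a87625a8287280c475662741450d8f0278fc369ec6083a3b0cb39c5d809c160094090b087e5ba68416c17c6bc8a33d50345891e6033a05b328262bd376e5de03d164726ea5a3d102a2a1a49ab8523d5a58143774543984dc7ad5b068b87188364e703047a53e597dd873350401985735e0030ac3cd2d47853888e4150f2a0dc459e072e4a3a48ba70de803470655df7ea138521223a7b95a7995c7c53174a2dff3b45a884272a9316d22d04d1548a6aa6e3c28aa3a0643aa4613e5a482c3375942610dd79955054b172882666755e88954e547b591a3909201a646d562c96476c724cd6c181c944c846a9327606d13d2f9162f9081268917222441312a2d56955c63520f8430049ca891168d94c929e1460c5d42d958080a13f9b68326c1885e7f4eb771346fd8325aab668355ae409a29914246ad22089c1748e018b87630e517d192244447b9ad868e21f8f18241d8c6b019a4e0b111709976f0650716f582a86800b482b15b9bb8c93c0b8005d4bd6cd0d63db2121ef7c4027c0856a11429cb7595da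1b1945c85971d18219a39f9dd1b84e4a51d8d63b041a74648178c514acb458e061a5413d9070214aa3c46a225a1e2737f8e917d61084a54d9be8d009469269a69790439a767c922b31a0ef6a60f0c9d251d7d35de15681f5c5c021d9d9da182414993df3631b142a9c8ea6b08e1e8aea5a0042325d3971d750034a7c9f408df796630fcea314ee1620036581268292a4cc982980edab2fe9023cd5548d09c4745e24c8e03e31e29659e9618e05793e97c3d4011f2b6230a93a158c89789882284292a6995762ec0152c7b34d0f63a8c234bc534db15db5840188c2b226e4709639aa99e6dc6407a2c566a14fc1649eac5b5bd40d351fc055ecbe3490b629ac10e507e0037d64a7ec7331a2466de44b0de572664c03c3ed242a1660a1380bd6a974938367f1bea468577300076207533908640d6230c25517f394ff044ae3e9287884d8729325cf7a15cb588a62cc9d73a28721ea0506b9f5d944a198561712e74962779484754579a29f938c555a02b2ad3b6e9010391048664a46371c6a7a0a4dabc993d19f8282d7313d4b8e179d5f06e2a7147d6627a8444953a557c98d3510e))))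
 (.node (nat_lit 208) (.node (nat_lit 207) (.leaf (nat_lit 0x206ac5ff92e652dd994029e0f8789413e925b0abca6545673ad0512ca43c1b585d9b981ee3a60153d5605c7f680363a83c6684f92950802b06a28e89a217d92b8c0be6f4fd2d15e7e166a45af6a91f9c0da580b23edbf6f9958bdfb57cdb895206a4e3525f7934dc65e2e81ccc4862435a5a73e5f62a10442164c6a84d5149be0f62eab742593164533e6e45536a9ea676cc15ba6d3412e31a58344c783992339785f24f630c4619d1991fa15e29065bc1b00b2048b3347a9dc777d08c1003d1b67d282992015b084470602d6949a228821ac071cc1a24869490df14e0c45d8e4e2a4845d35f656641d59aea34e5dd4620b361704766a7599195657325d234e6c9118daaa0d5c9dfa9582789137529d4ddc163d167c9285a8bb6e6356ce2b690370ad5a6e0bc9f9297c69b8e67a5642c0e1a36891ca30d75627b87e9c7c0911c9b71da79240d400cbda68ca4a8621f03210800104261ec4c93ab424c022886e124640788d21895aca4c1384d0bc2508c9421c3107c6398a19005fd220b30929f1bc200c08e946786c8c0849f35396996ce88cd9e3764369ce6812a9532988092397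55c2d59c850fe6edef39e5c5355780e13675b64c911684ab621c87350a881e9a35437f9983d50c39183528ad8f579a08f7659fc515442c5e88b4f6a0dc78f8ac595ae42cfca12b379e66a4a3f71a71140600301425c55160091993030c04148121185e1a04527c9e01a18984991504a168a30209c0384326de37086a4d09d75c59814131100d17d417ae89728a96261c739081d03a3cca872e377b1405be7c770f20ec7541d096161b5ecf440e882e9421f4152a8718d02a874657262aa29ea258de605612e1a690177406854b5e58e2936ea867127290522715947815d889e65ce8f7d4efa1e32908a570e287913da5e76412801c0e5158af06c8f028838782877839518840d0890723a0d4b6058fa0fc291f87943c9821422074670cc2e09c515f974014ff4cdc049948a55123867452e905d4c243a7588d2fa59715a180380f88c5b1496272b9559cce2a51ed321273499f8f2816d1768568b5490d6b65e3b164786ae9fd022c162920b96ad7f91a3b3b8f964eac551f951d0658ced6b13f91d53ab4a78b2363c6a02fd3c4b2527311b61e080445d99e5498ccb86aa2760d55ae6916c0f82a093651a47a685b13b766a12844894c105b45c46461611da4e97a))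 (.leaf (nat_lit 0x1dd2ea94454d464e584f8b05e4e20c6217fd31a7d08831888d5d79d26f1c2ad4a5e86021747cc27264e33a2d1a0807d6773f8ef9043d174476960a4128f4ea041b4480615d8ca728799b6bd53a6cb10d4741bde336a573f1ce639f681aa809890156819adad3e983212b29cc634ba49701c82ed821306525d2bac61602a64498c66c23a1643b0a2a3509ed21cff391a194dbb1000f0b5737694c268de67270748f6114884d50d6d5aa34e8317960324e3630a77c54439853a1dc4572147997aaa55507cee8ba7f43139a20c808c7b0d8142adb993d9787117978048b298535d967a22464a56ea543751e1cd34a356a841a8a79d32cd898d95a06de1306af49cd8616464c0bd594eb13491a94e9645593108e0a43a42cf168dfc88e8a0807e1ca6c9e9d13491886cb676d510e4130dcdc5ecad62a264029d50df2180410a964941339a522285e55b00770cc098d7d935ca1400013d787a52823cf35fa429f4cb0847a16df455ea12296b8a5bf2b9a00c07929149a5a2a01a6045103529050bc173319f82d09a0967094f48f6793f548a98a68d0998e5867b9c2ad12f7aa681ad6d2d4d569d6180d3b2080c1087695a662a510a399938496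5494fa457187596a41b82b13f9117604a894e1fd69205428b773e303b25115a1a7912d3652384d8490dc5a1a781a49d515708926d6b82b2245f3c10f838ca7e5361fc1c110f75b8b4468cd675d88a299044a01de5d971bc8ad9273541a92070f0581f1123d63c41aaa0597c778522f1c791e4b97cbe00c66189eb846b320d5e8567e8f9ac12c240fd567e14627ced634aa6d2551d4340369a551df2511d358e78cd5b0688c80a09699b67ea38249ef651e0a4ea24f5f35c8013424c9a9214aaac30cf811a75759638360159a8b27871024329965a6f5b344e205d093a5498a70e0669752a0a2038332053c5a6089d9cc064571b09c7b26e470d19285119054772a751df763e273ecc76ae3f3c9fb1e28441c8d8015f055d52e6719168c0216f7883e2bdbe964e861c8ba828517132901b299d20aad7f79e18ab80226c679ee8072d114b1011840b2fd81849243e6375882c215f08958b396626dcdb0e095541166c59835d4b8bdd00b81e129687f9371f4cf688271245a8ed9531502a49903a8a35006a0144e98648719c14961956086ac06e10c1d2c9d48c5a983d0e9f02287d77040df94a5b46d4ea5cb8))) (.node (nat_lit 209) (.leaf (nat_lit 0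x6c37e0859dae64e580ad273e55a2e92009ddc665ad1988ca8628065851ca6ea4838804067f0be73a64aadd89a666235fa676188363609a56185b25a4b6a8d2a3fc25955d05e20b800087fa6f734360b6933000b9cc35669ab1511f0a634840e1621be4112d4e06a90e725622a9682a4988ba80b8838e2529210a103ac220596590b1254ae9d23c6b37a0a041391494b35c6e7782495e2ca91283aa38672740cdda9a0b9309ff011fd6bdd999e750d0517e66d390371fd1c30e0c4459e5c6a54a5595bc7b8b53725c6d3760903e0f3827122aa25cd9b6b09933c9f93d8c71ca440009946253ca6173d194ed7474da4174e684d47a70866fc658e4926ed6b55ab454e4505631700ca8704a77cab2d1e59d8c634a82980f1119f6029eb315b1a128e79a7781ab35487a6f16c654d119e8b1090b16ce785176749a38ec02458d05ca1121646855554693c890f44c146a6c888f00045d75751a2ac633686263cd8226a8f5858b7183e3a48391c3d364a531290a0df7089ec3c0ad2cca24316a86def604a6ac9543e21f8746f4297d28c476e96d9f04f792782b0b27e0167a91b4e99f1e4849218a720713ae3a005185229a21c5c3a212069490bcaeaaa7a121b62d68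16cc4c3583b7c12e3dc7541413930cca21363391e61e3006d0853ead278693562201d411e0fe4f58f160938f9a97542e85ce34fc82a621a6a1d7158fa2523f546ac2762e071095b9b460e919053294014935863d874101c3574184cc987ce5d988410f1f1a028c13966a2935281c456e5f3d476abc8940a7f3504d78423774b0362796d5f496d1000d126a9d61f880a657a0458e16a429f5402405578d50ab89c7454212e406517981e2f075078ad7b2563d63459206972fc3a7c8c7325f5970af7067ba78737155c886894d1ee04a4e6f4a789c50450b18663269616a5543812869ac430c1e99c1c20fd9618d2353a055c10f07d1da9d31a34969280e3ed6072591a9a5261070419635a25498d5e729924894d65c6424635601b823a6c11203a14bb2a9db05ded396653b0607ec058dd7ca59443710169c327a0bc2a202a1cb7a7e5e781a66247d1a113680ed1792f0e6534b16432249034fd36d7e6e47c4381e78a1e34e7e6c1245310d082445fdb7124a1aa55708598188773be2957dcb6424b030fc3696288cc1a514515dcc5dd3e3b85faa09b454bd2a43179e6a11453334cb)) (.leaf (nat_lit 0x117a917d9b2aa3245b044a117d2e63e82390ad49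2974c8a63ae493ec802246709c852c4f68f900ac66597a2f7d67e6948d1fa438010aa35889a9dd3605c1841046170a8dd547a551c05606e60805b5585a6379b450a7148d5ca615666ce9a11e7a49c40f08f77a3f535a0130839ddf4335d44dde274a44835d3831389bc54121bc7ea2971d448b4220cc511b5fd941c8881430583f0d5ba4b638485935406f0d1f24457f515b0545053f81203ccfa96a2706119598e38eb001c29738f59e0c07cead3c28e37c2c0710c529795ce0692d99a0cac7a1226515d3281f0167a2f1f18b23c5f864218a21d4eeaa4bf949879b4c676d154c1725e80e034742444b4819557e87295e441e9f3b0f9a2824061b3386622c9fe6ca12538230c44d701483fd046a52a01846115d7815347424583cc35ba0a6b153419c5782226f6264ae742803867949566271245372a1c5050d5da8b87da235e5c80db66ac3624d7c630ce4696ca8458140140120931e707e1af194710a90258aae6b9039044122e1e2a9ef93127556946dc7d2393f670be56a80394af98d912786a965da442a897ca95de4e7e48a1fccc3722e49675a40c23f2b39996f3ca3743c9410157674e747158a707b1f00002e1b2b8fd596b22e9853d2737b4d26fc4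f2046025c099a1d936618640d17453b61a132e432259469c9666a8da2d8fa8e863094879e4d42f6232cd691ac1a26968382314228962685919fc9baab31513a7582868d59511428c992ed5e8ede62207829ced91d6a8d5a4974b58090e52d758a8210827c2a1ec81e4d65c772307a1c8dba59196116d1689c26e169698a99ea6708020ace6ab29b358b890181a0492139eb8d996531b84a6397d9120f82d58e19726348758b4d96b83868111cc8213c991c34f6326f9fb895ad8555296c2f0e98351d67850390c1b98ad2856e24669547a50105c3b0dc2e0f5ff945a74bdcb501dc42dcf8413102043129d64d5e34598d4e8dda681d0069e3a27f2c1e10a0153de8fabcf1886306a1cd3ce996c4eaad069208731e66932dd85e24f6485e27c52174d3a9e4a810ab5d27d68c6e078952dd648cdf7260a48a0ef9093e6608411e3d7a926a55339d85904c9d304d09611ba812c9ae5777c62108269edf0a3171600f87194f68686796931d89000d1f582916edee920c867ce24257ba206c15c1902a172d1399851d94e0b310551980c))))))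
noncomputable def cR_15 : Tr ℕ := (.node (nat_lit 217) (.node (nat_lit 213) (.node (nat_lit 211) (.leaf (nat_lit 0x893a49521b31b9435ba906511135a8c519709300492070509af8e132349b11c9455ca8e5024b9180658461351d85048c512a951e4792a4d06d037e186718969ee1ea8d4e950e97212e30a3407513129963ae52532a5a902f9e8a73a9977dd14071771ddc79059817279a4e5f455f67702045a36664ee119302f9cb9a1e5aa0ed66a0745c1f7c47f9d2a779a69729c926182882a69d4ff7c81e2d43d3b1249cc40984d566df0779186c87a8b4cb870df1117d250bc9c87ea1910040bd819931161a55a0424e977b45686e706e9c02ec9510ce329a1d0ba9d20a0a0569ba020c7f41341884625be489a5384127f900a069a23983858e0699236f5bf31c8313ce25f20b1f29c28629050b8305e42168f7f0498367f3dd8a5a1070a5df1a262ac5d9971d40a1087ed8b3d8379f8af74e5d76ab0abe1526c8d748b088c383d42d29427850ae7e850731090d8c8631ab680b4474004703c67cce9093ca2002911e14f9ad272648928a4ea40340cf2c43b0e689894b3275ac1a5690055c89a530e9b67889e2ca6536687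19d819600f569675485a14e3f8217b6f0584e47b562034dc81552984ae3d96a3137a9f16553564e54e2598f8172fc4770a9424284860da616014080c5745d6dcdc5e0511e296838c9219b916d5b0380d9460052db821e8383e954b63336d4d2213b7fc0b30e10a084baa8644a1643c1498ba4f08a28281cd6d562154623617655476a48735cc0a05a378c131390744a974705a147a9e99c7569e2f01d635d52918cf30d1912b1d04cd0e8e4258488aab5cf2b4910d4f288619266ac22e13090267750d982ae19990598f461d047467d1525b43c212accc648333be092ddef1bdbb4943f5bda83fa6b2493f375a97a245498807a57a8aa9928e6c28a2b044d16a8ba49c0379c429aa8b80a856b91a9f057528e75f9f9940fb888c54048970cfc136115fd9c1392c4141a814c66207da88093f5ee600d713271311b49d9f3a46329984868dc59b9e3481eb55e2c7d09fa85ec292279bd841c67847c182e57168841398057a9219b68d0f9a42d8d36791b6c1f54bc9a4d2a0546358ea5730160464653a2551816553e771799d8f0195e55e4d8797102395a3b540f117d3557dce98de0aacf887c3225eb285caa23dd51b56d0aab41aa5e5a8fa635db4282c5ac6b75dd6654a94482b42c31638f990d3dacc6c4316c2a0cd1498f0c0ca))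 (.node (nat_lit 212) (.leaf (nat_lit 0x2917102aa3e8e6b0173b8dc69a7d6f8973111a838594c25464845320c228e7723dee1f92d2ae4b2c5a7369bd4c9341b1da7717c66092421495f60d175709a91d12256634b65d9372225d5694d1f10d32a3a134e66d86e2c02f4a86287a0368e438b18e4e5753fc022f1b7670f90969a701045484b4fde68984f59a41938fc4041c392af72029a64e93780a969db015fc1a61c232519d4ba67e4c909e03edbb2729e4f0f78605e98e05a36a8a16a10f8068be721d9f80e61985e7c8ce312d14249e87a9c71a822e021d1364147d944488b77cd881e4a60d1830b440a10465e2595c89d99d104e8548915e180dd3d822735baac0283c2979d12f334cc64e4054cbe1e1e41ca252645f580eb8a81b7f5c7228aa3f45714d965a2661b5ec55503205adab4476461610cc64d91b161d9984ad882643b0ef36dc53c42c6bc036ac821eaac94e4914a78840567fd9419c233e8e8a2c00a32a96e01e911180923c6784e971de5608e2ed0e809ef786578458f82ddd1726b285e207c2645d6a690872b94c18e7a5d08d684375596450d1f7d567a091135585708770251250473496060d94558df448474855f78e0ce010d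1036a6731d7a8aab594b373e7e19204105a25c4fe2bd286ce9c9e4bd5390f6761f132362195916c618adb9394203e0d739c016c8d44a67ba6c499b23b9565b83138458c95ec8b9cc3d5be4d4cdfe876684b0a96d5c6a60f53a8166f01dac4901f5b04ecc7198c361e5827a459a61b2a18409de537e21a49548c95f979000b8ac0fe4a695799d9057a907805d883d8230652111351a9190ac1547a349888065e3788c6b89deb942004245a359903b4c570dbfaba935ba7175833341240329d740122e49a606077eded280b2499d5528cf0d40e48e83261fa04ca44813d8c03829e8658896625401d586211137a56d53c518f9996b8a508506738652e2460ec8397de8455515b18b93e1a669b1a240772e96a7c19ac9b4655a83850c0615ca42657280b388f478df91552b32c91921aa0f01a42cd256dc94fa3f5859b3ca6e5ac9f8212e77c9b451315dd7363295142b49b6888284a6297a8a670226229807f6a6280e868a526face09a28e038cf32fde7680705410a300855762d40a478f54b7ca1447146109692527f288325f9d4046a5040d8a8dc174aa48495734c958e6817c07b84d472d46fa01800c6aa521d324c0f7c57f0c235)) (.leaf (nat_lit 0x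172402724aa1378a3d662215e62c0a61778d2f6716a8ecfc9c56d32cbc0aca57b6649acb07c1f899cac81e0b010583464aa6d497202e1d89d47eb44b18e398b61f40922695911347f4d6a125d360bb128170f5c38ea75950f56a5466e20d19c07259b57c93e86626279166649130ce092e89589940785d109d154e340e28c614ee5bd8a0408e222ac97d2322dd44c5ba83d420089318cf369e581a8f94fceb7a9ae0c813315ce76cb95d9030d8c132532799d82d1cd4888c8762b62d149357a3725a1495c55d409410c57aa118478200145f51caa628648ea7ac484f1045569d831486ddaa948f699a5519912889b05c58d3a263482b29c2041addf2de932f65c706827fa8e60e360d48260590462208905a1001ba890a57cf868e570149a195a06e505391d92c8d4a060302c3f1193639de536a4e2fdd3530ff054550e674aa9137313a07175388703a4b86455ba9d0919000251416f20e020af29d7c37e472881f16e7da216409e128a61c6adfa218111f18c3b62a0b21f5ee419dd2b0c0747b1f93367ca6a10019a66d907a78ad7da6858c28549c09229459a3e658ba0a92e34d117156b3f5881b89c158753f94b5c19b88e409e04171933a3d67779d253a1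a36e4ca459e2293d6d205958fa68960a810ba7e6a25e60708c2809b3a00b3a49da355290dc7e8c5685d11e4ec810484b5296c3ecca8f19d15c7927d15535c49a4ab7dcae7c66c1445313dee690f065ccc8fe144752828c7f1dde49fe967edc72429c5cc219099a32186492ad1248703e3886dad0ce5b8cda5964f42546200508576a61514741954771cf1706f08246858de1b18f4417831a2d0c4a09d8c097aab45dac0d0ec786ae9cdafa0dfcaa0996edef3ca653dda894cdd1b68a8d5d04d6b3611212341d16473a2d699f8e192618310238941a5ddd54e68d8b80e1e88305a276c57e3651a0645e2900c31eb09e8e37a4220f0444e0ef67e4fa910f561bf82144946a314187464845fd2723d4f405d6655e81c67b7802da1e0034a628c0454ddff1c930496b19e60a50dbe43559a94981a4035595a29a86a60be0903a72d9358637608d02c42511e974b61591551725650985f33d895b902601f39b8aa1384c134a97d66d26d0e3c4430283b2d4e577601a4285a647b79c8503492879b28e526abe613382f8bc3e06060844d790e3275d50728a146e6f1a1f4684a8819456f609))))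
 (.node (nat_lit 215) (.node (nat_lit 214) (.leaf (nat_lit 0x29554dd91cc321d2576ea65aae0b5dd173359a65910a30d264d1b18d6801266965b877697544772883691c1a5d155034212ba115cde2376601e83c17ab34a5e59a9053dd87830b963500a49263657f20891271f20660e7b6a05217d929c738e7b8c8902cc2001cc459401325644de01a364e70e5f9ccff3baa4511f428e0d054d860d242309f218fca4d8b3e0b28286926c4c34e848e1338edaca1cc832a075e8c2569700add4622331161b5a61c31e1d016894d6035bc0a042242a214421b66a411578a90a4ba30d898bdd6975dc39a70501f8a75cb60a430d57b0719b881166ce2266119879b125d3c251d88b2961d8121013e2b6556069e9143e0302d948b06d29c8a1497a635378eb961f1a66631091e5d4e17362963d808552527423206a610da41802411de485ab43d95c9ad02431cc900c66b85400053a016344994a2dff7a2a23ea491627a1181e1b52285dc121c1722d8c8acfb9a5d04352e2f64c3b56c9d1f381aa51f5a612aae8692f9b959944490a83d3a42f52a7d14062a0cd08e93187dfc4ed4e21033649be47daa81507a39fb455b26745180a21a2a4f39e917d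8394c02e06c48369ef57cf30fc271752b861ea534dc8b8a56de5a2c550a60090e06f610443880e2907b2be534fcb8a69dbabe72911717695204c750c4ab681bc4710b98a854623f65c6aa40062589529d47a84c071a4b5b9019e4597446b316419f8022646558a813563e7e5390945f0ed7c79928574f57b8e5696319218e9d927a9c8084104688031386859d11a08cb6ae3c3393a7f4bfab1e15626f3bc2c238559e07274cbb619c55b4ec779567d543234f015c78aaab022a673f6093c50e73c343d1bf16d4c7acb5756306863477d421e5ca0747e1c1149f19c8dcd618566811342601623c85898fe64213709206f65b425061c4419512da6cdf475799ddb9aa14f91837978e05d8cf6653235064468932680888d54a50b60c0a0051bb958ac865a735c4f90a39199b09fe004e161ac5469a1c812de01fc6c07d2c390ea5f9f0279a3a7e0f0603a248264aab2306509b15b89db552d3dab5c09b62d1f271748b78f44d149faa19ada3dfe5a85a48de7220f96290f67e082d1c4934bc8da755ad45a8ca602d0a1b8e840d727dd4155e61724be03de315a643c9602245c0a2a97b1788aa5c75c8328422645ce89521616122a8db6a19e345af6551319d36a20cc))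 (.leaf (nat_lit 0xe846c577a28b8a87458eaa8a4c66e0bc38c7e6fe0d4189f7a971ab8f35a5465100661e5b4c8296327e96122636693b41c1e57e8228a278b1ac08d5a03275d125ca49349809e8efa1c119c80167d3e66674609b2a955093c62a788680218712228c959879272b1b07464124495385001f1ab895e232cdd11e3c181ce44de4a99dbac8ca3d508142130b5fa3a9b49215d951b6480b90fa9a210c14f5928704c0328f4a9156a418676638c56da010e64eac4e9a49be6665e2b4e5f49f0dc5d637a49c6954b572e5a2ce02a617a7e48c76961934706cca83e46a0f45a0dc85a71fe7004486e5356c69094261c4039ada86781a9e2826140d138a10885f8e9797c098a9e266b43c1ec4d248eb8e205a39e587d093dcb0470cf2ca998108257865959c8354ff3e8aa4321574c367648aaa5f73f68c5312d4ee6e6880560c139fd6b2ad7d0249069ce49e64526aa17cd8b09e620aa5e6394552142a45c79f5ba14e0927688784be45cec99d96aad641da301460f6dd1a398c08f9f82eaad2d90d364350ba0c6f44f1b15a4044a1bd236d60122296775561b48e3c9e35dc5c9017fa401b1855488dd60c21769a7566c204bd3553c10a15813f23f6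81fb0e1d425d0a2a4d45ba4c310a77621a202030e4b43423672a204923457dcd155741e0db409577d6a254d866ba399b5665349905589a04144b2760653f6aa6c05929525e6416838b61d1157c7f29b290d347d904ce526be471c911732121a0ae3d9675ceb48a1f10bc5e940df9103a6b04931ce0298947b6939085d0d06610442498b77804870cc3a50871f4a019023545369841e66a65990001608903d2e2958892da1754c877eaf4dc17272716ee5f8d47f3b9181002ba7d8a7725d0214051c541dccc7b0cd82c56440bb73e516e6103622e1d56f28de7a8ce546459008d7a19f64d01f4c27301c314e2b1661041b9b19283316d0f89d6c3889381a9d886955e1ff554f018d25288d140e59716436f9d02f4ad8ce8d8b1eba91e95ece73ee0e8bdc158a7b595a54592ba260a7bdbc528216525c5040450d8f6542c1cc670a152a801d0fe685d8da12cc93d2701ac12865a34f00b538c59389622e3d7490b148f8479c97784695cf1580812fe9784558338af26d0723d6aace46359707b914850fe1e8de0ed1d892a881df22e0c28ed28029310394ba12776119c708e99a991486605702410dfd85883))) (.node (nat_lit 216) (.leaf (nat_lit 0x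211539f25c547784ca4de03a2aa021db93a026748d707dc03e40f58132352811863c9e8499566a28a430d57782c4369051674386345b2bdde9266e102419f06893e76242322ca0a7e5684edf3861497acb850dd95408204dc63bc216f8e906dcc38633150cd3c99137d9f33d998b45a2a8dd055d63d00e714ed09db4165fba387a966700e6489a4998de826b81d8153d79e2a4d9fe5854f7dcc1299ec20e4064e4a63231694ab404559e0644686e4285c484379855b9ed22a011096d0955433611d4411b7499b24552e57c2d3e291a9eaface97a76a2aba964a21f018a1518b62212a55c934e16a88c9e7c21323a798342f9762b10a6b1d19b8ed9c32463600b01758e2ec7b71cf178a0907a2000a24040d8399b87340c3ccd601cce364293b83b421d5259fd4d0847612f231f8546a60296f62a502f985780ac69de32d17944c673f66742e624668485e5811d0c9c8453f1820d91f4f83d96a22589275b53f4015e97d1459594449a612817a66b401289a3416ab2a17a48aac1af654e44b29f9c5230e9720a1b326db60baaa1e2269be4b5f8ea678d168ce0739c80520c2e6142a21e315921da511bc9130df42015676c9d8a1ea534944f1dd4a4867c54c2360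44e4957f17c8b0ff2b97f910b5689ef2f58f91e831880134e8c090e7704113e8e57b87274dd7971b09fdc49b2561f212571303ed644cd1b5b9a0481bd38844a3e88022b1aa00ba52ad08978516b298c3440a660f1245284641c70319671cd861f9891427d0fd6c4945697a082826d8944b9de195ac4f908a91618130075640c41a59a14d884792b818814e8c8261445cc9ca62957d56300d5d0497b070eb6feab9963a3423537a573b1c303692094ad000cb080b31dd0562d1d1fe3624a3919a6891a272f0a7768852e9e828e167d88b522024d5eda69e6a91ffa2e9c08ea50ad700697402559139189fa3d136541064d0c14b43d7683d75434485a517131583f83161e3468471418527e88940c6c6a0b74c60154de4509df2fc8f548f5938e394cdc8ba85870976c5cba4cf7740f0369aba40d5660a50a9d11adca1e5ba180c765a389d5bb991c9a19ad36db5060b186a215997a81d4027de51f46a86e3e0fa2993057842306a45f9cd1165c65915aa1b5dc60c5e4715a30a52856748fe1da1e2f83a604397d29019a79cf0b1c26f005349ac458323daa9506a35529b4b600268cc)) (.leaf (nat_lit 0xd9971e522c5c065a655e5318e2f4edb24f11116c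4006a5d301e40cd0f69cef696541cc8c0613a889fa12dff96e3f5b5ed14c2aa5d6ba64fe422a4999149f96348175ac0e79dc37911c94bdf2990ab8e8cc341c56709c7f9b19f24660cc3942106f6a06108e11cba375d532e7000c9724d9a8eccf3c5f12b09d0947f52e95729467b9bf35e488607c030704c5c13492e486afa3513590380884a980f4a965e2dc5a550a61496f8c58f874ed0355091cb37f60f51dbea30166011582d075d25fac5c809a6d7c2234756666cce09c6a19c95549d78ace38a98d4943f76cd4a09f9220720497e85a4b18255501c74a5e31d42f0a26e2bdf7134fc65cec64a351509800951890ff291ec9d658561e90c815a2d7bac927472ae9850d6816046165a20e0a043c419b851200a00c593611385d362c8477ce49e63062a2c772277528a4f8681596a345c02aa6c0b02e28da493cf5aa9ea3088d0743e9f6a96c1358e5ac3ce5681c3907c5f53693aae7140a9ca50fd5c04f0104c99cd5a46872f46b4dd7a1be06969a8820d308528900b07d6144b5c37380b645238951a571a1a85b401e847697c8c8b861ce8050921b4804f5ba828df2fd81440458129e9bdf627c740a5985a2371de424a9d153dde19466002732d1dd0f522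640db5fe4a2248704d4183251185d9a0e4359e0210c11ad15aa750a4668f651244b1774115ba88f798848405cc539d89e0b58cd73399ab67c9a7d1b69a2416756147a137129b6245728a1a3e9bc2ee8503c7a20985930e26be01310830249060aa66dd498d1d23ae2e2d89b014645168e7353345e89a9d0e57c3b08c349e8eaab66a2a07b4ae1f1f8ca8f59385cda0794295cc7786204d1ad3c006658fb855005c94aa69d0072747acb17eca768cf6004421608f4e5ae86cf8559aa4303079dfc2c9052640e3ba2673e364260d47c86029b3304dc925e23223c1d824718ae6d5f82b6b35f5261103105d3f5650b2522d654795b9cba5a21620081444e1f61ea40d8839a206c551c4412faa33c9764d8202445e58a593e5a944938871e82f1c239553165868a0369d9551a6297814c666122799e864a1295f39a5485744998cc90b56946d325e28680ccd6edef8246c04081639d63789614062630e95c6922e67b798a040c460e835996a857aac5e5308e08a4586e214789fcd6319b9815439485d93a980ae729156c8f8a99ae9f)))))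
 (.node (nat_lit 220) (.node (nat_lit 218) (.leaf (nat_lit 0x14f9055580caa9c2ae718d78a9b91c5eda1832585de242913d01b50ce392218186614ec55956a3025d1784279a99167e0a47116334834259d6b4f6a68b39fdf59963288e427e867359ce059a38808a49581256226719634c0daa2451a8bf5c85d4d2851a4c6958df73d5e60a742814a29e195fd243c4e46ccfe875a85fa27222792b03d36dcb0155d8e8727724b81a5a1656b74c123412c26de22b46f77ccf33244a656d7c4645de4a121f41f8c813a9c1d4eea35b85366280567ac9066f68a0a08b8409344c0a639c1022ab43477511640be28940517b25b031dd6f1ae3e2982e6847c1a140d668ed1218a8ca480b6aa1b23d23600968719a66cce052a1474505f16c16139a0c6331e58369d4572639ec429c95653a3757dff29675acdc0374b16f8407ce810dd6840449a6cf5069473b6435e8525f53616e4fa9c0e731eb0ae6961da4815264428e1f50e661055cd33975ea2f963516353cd290b0c27904d8cd481d1955bc2e71e073b19228514820a363d1727e0e39484aa8c38c53a9faa530029a24e610daf269a205d272359e422246ae022d2ad681514454b0f8034f070a9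0415e0cb1126c9c44b3fe66074f26c831a1cb7172684aa136151f6d693348fd879a660e26206772b83c389c4001588fc6c8da4655e531817075410345861991e2a0a4764d587de3a516e7e0655da4c944b66525e7a0bd5a5408bcfa4bc252f1e914e2e504799f62c1fdc9298ea62c9c46e0d2758a4649e831cd219c285a304e132a80bb0928f3ad538f55a7f8af9daaf714e12e1ba0e5f79f03332a2d1ea963bc1f4f4e8936112652e4c45f9529d03dd6798219b98d6960f485156c4824299301a73078de0d56024a4e5d12d85cf06d8fb40a148ad0c2007c75c1997c3694a6d119da5ec0170eb11b63e5483a2c1fd25cc47edf615d6a13e951ece7a21bf5525c7f162ac1ee6ee8b0a8918249846023640d9010d842c7651965158ba7bc4c79660045d86de90251a7089202319743e296c2002d6b44fd4c8e5881cc024d46ba983b868c512a676248e7813e060f76b038a00b217a6f4ae78070e00c1591e2475e52884a9fa79003f2158950721447740204c03495e6b115db5d407722ac1ba405403f2a604150c98e1498f15b7e4ab9eaa9728dc5c5b4289f2a082d88634226973e415508e9924c11a1844dc5a966a204dd279c269918c6a60b4891a3508741199))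 (.node (nat_lit 219) (.leaf (nat_lit 0x26891a27a66b405e401422020c138b8738924aa8416ab285870974a0fa1fe439a8a2aa69ba8c618f28181ce482de393851ac12b19a098c47ea5e9dace419f0689a439920022360f02eb1aa222152838a64c0f8d15402ea829502a878fe1d2826d895b186262622a41d67f3386f9760d0be149ee5784a561f21323a791643aa2c7a966709d89093e549d4892b51f01a778644b94a159d04785e5840d3fa28ca9cc26968af1e28fa2008470db26dea91d30ac857842300563b2c66c5569a96e35831d4a114629031a9a0815a5e18a8614a3d102499baa2aba9658197816aa6dc255fcff2b8934e16a6f56d684ed09db4168aa8b5ff885313b123489bfaaceb7718317934259fd0a83d5ac5b6ee038c8e84f16e68120945921d9b06bccf11907529677121a2ec7b6380134e8c5d94b43d153bd4d62a502f8d26b00542c435ec4d045f52058769ccd465047dcc153cba7a0a357a5f4001d388f1631f37e945279ec0d8fc609d03c0da2f14c32de15c5475f55a0c8d707dd21e48a67407791774b0c03799b7ecc6550fe469b6208a1694f5025ca5727d061d98a06b739c80518414cdd4b5e64780c3cdcd6644e4627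e4a4867751d68c6e5bd11041db201561c9a62c93346d646257c7252a55c88910b56884c5a517429493e0847612f6a86d915134c84f5d1f1049901f4d667d084400e714f45f85c8d89581139360e66e2234f9702ad01155684edf90adba38d3549d21161812a600268cc3b8d90a6015c83b6e460779fc4dcea0fd6c4955f0b52e06dcc3862a4f5e7788e56610298c34a7cdf75c9f795402e4f231438574fd73c19a79445cc9c6a5c619d630c20674cb452063670c93d942340339c5d61d1522fc8f2d9ae5604a081067d88b8589d350fb439b563611539f244a90355ab432721158b1dd05070655e0234261e6462ba39537b57aa50448f9ee9bdad244c37d2af5e49930a4d00df85448c82975434482f58f7bc006cdb299e2f7c0712cea758a82298f772e939ac70a71958e9df0369270e266902245a1b21dc03e40f8cda82dc6c451656508529dda90a6071c6a3824b7a6ad618c765a388dc1e9922ca45591923967a8075442506a50d59a31069971d13701a50deb2e0379855ba620e64c9487e027042439d802c05d9e289105367f9616f8e90863417ca524804498c82613a0b1c26f0ac615e094e8d9967a59a550a0492a2660f124)) (.leaf (nat_lit 0x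df288a8885e4a96355c8699cc1d84c3a831c53410823a43a7d67825d8a71919e5886680e96c234b531ab9269aaa27fc6775cae5dcf43112349c563e2905d25489dcc1462e222ad06e686013c51c229793f64e5974a75766945c56317646224c23564b2f2089bdab00d6d50de12c119384bd11d0a8e1c98429177496a683c92886a9dec454ac1ce177bdae9ad908c1d3891e07f49eabc57470c7850de962576585363cf2615454d129806b24e0c9065dc624126793e1c4d46c91f7a4a38d04d73e771927e7b813295e85a8824de9e9385f24cbaa62050f63912cf01e2695f81c0158752d460293b1f4aa03e952d9da4483f7005c92162301c443c2e3e5257e4a72857694cd299a718d9246b28e0e62b5b0855a2a0aa1ea21c655c2932aca0450793e84389501750cd1ed7b276b17f12f5fcf72490b2ed656d85572e0f444f18b2283899788c0b8c58e081949b60d70c3b269df2c507124cf1050c1627a52992654156040d9759935deb5086f2a4dd6c251119e6a90cc55e32a492a8027d0be70758766be5566265a30008a664484a6812b37406280e9d1fe5036d160f8804e51898a190618a0067818e4c181b534cbe4116fa5c9576c5e71c8c7c57886dbb0c9c1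57e403da262d52e091a7a12616894c544062e07a5f5bd91037140b439d5a1ae3e116a6236721a9357e01f56de38802d0e1be78a3d5646d5f1f4a21419ed0030c8a7ca42aa95e3a4fd198e410a456965f09408539506a82aa185a82c218b4523155d1d5b78468f2442669986a15a90b18268e8243a965251d0d9bfa2a167ccb23a09b3fc7e709f08608b264eb3f1bc0c21c046671c8e525d1a6e4847daab8dc6e6b44a8e8ca5e8da0d4b91850260e3b67034630ed23e8b7b4ef8f04e3b1562fdb48791e6cd5355152a00274b02898e8171a4d67cea13e413d43196ab07f89c6a0d10117369249839fa728c15863f110e68bc4044cad88809686604ca6e07928511367dce3634b301e895006c9b25c66c0c6e910151cd58212a8d66795307ee871654fa6c7c339099f09f81ea935a561d1223ccc6570fe7554d262834342b82a475905b560cb1a1de7d6ac949b15d4d84ce1d040fb9d0164e948a344841a15322a120ce02bd1b6e0b75adce5ba3345ca43708179e1f868d94153d4ac1700a7662da00519d0cd55069791de4f80ab4819d140c4c3b870480295a67f72184242992522a))))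
 (.node (nat_lit 222) (.node (nat_lit 221) (.leaf (nat_lit 0x28ea780b1c651608b8199888a9561f07d451a774a9c006415e5408f4318020b2359e7dcc6980ef7240d3e6315ca2b2606c94de92c2ae3541ca18a8114156f2b2634943f9879486b03e8b3e9535b46764d258259d0f4cb4f4598fe6a810bc6a617201a539e9840c9723a06aae9f5f56a109f99a03516d485d4ed016943a5a3210904ca07405891422197e505a0226cdbe060d0296847aa554a46e93d8a3ed5018c123ca5d7d5216688a489f49720e65864545c53da885a52d3f18bac4207984a2b0734b28c029e34cc618b2361a291740eb4588884c37301fc0ce3b512591b5676e8d1ad0aa7a0432ae2663ce3a65d580c302f45a5ee3e17d186a8ca7bc6f1e8a69162d1a8ba778f105cc997a2e549c40412623e083d414a260565d247ca5b105ed552305c54b3fdb1058d90e66388ca2654a78dd451788768a14744073a9d69b038a15e463a254ac72aa41e6e19f2151951e3a5da69308349b9d43b9913f629a08467b01aac0ce06d6495d998408b024f37214e18a35525f80f1af361738c9e212d2e281ee98478910cc0faaa358997714a5c0650e9f64820c72a8d031bdab25658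c96409e12ba807ac2d8066da6ce600915865a64685d9094f8bd6e6609148c1370e8a038c57c6640d9fd69117849435dc6050a9a73c1f34db76322426a7c794ada047059557478f0a40542d984418c88d2289c561291301251d9f889349b52bc489fe545892f6d2ad075b94022715640504e874c007fcbe9bdfe219133ddcb7c0c41a6334720d671cc3b2958f05c5d0838551b20a0299df30ecc73d28f71e0f47c8c8296c53440599052c5e026cd4705b6334479f65a4a8a9a0c93642af6fccfacd92254196ed28961e7a1c4408dc26509261a1f14a725bd9b49d4c5ae620fdc0044f8719106a0810ca6b2ee9700dd7a59461613592a7b2d18327cd7096a5994c399a3901292305a07ee7313029aa17f4224d4d076922a20a1ab5553a91d0e600a1412777661e615da9e0e0092491dd6041d7e5753c13674386a06b5cd02057685784fa188e07f8450927222a9db03695b9387557cb29e511869ce396161f97a0b93fa84de43e1d145db90d594e4b514c9e4324c560dd6b82c3715a1ed3842a1c6069d37c2aa8ddf2dc266caa49d8b313d3192d5e4dca38813657074086a636e7a139dd9c10b27675760b94ec7991827389ac0ae1b434565f1120bcbf7e80639293))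 (.leaf (nat_lit 0x2036c682525de75aaf6111c24a8909971644e35e8d7925688f59d12a160caa34115f7de6a2953d6fa0b1d152186a872941440939d882038895750f9980119c502a268a79b22f5443b98f8c0480ec3691cda6065695ccc916147208e0486c9f56544cbb52dd8166019809d3ed4c48d305d0a023c1e9c6955ba394f21d7d1ee988510104d94e063c8fa81da75f0d13d85e22c6f6b9348e25d7a6aba22735acc90f82caaa249ca224e1abab286911d2a4d211e11758a8f3a4e690d9b660445f8de30d55a00af49e0a1e62b40d502666541ea1945bc5209718c989d47a2b20551dba56aa2424ab7b66e220b514926aa52ea05fe335cc53e34255b80859932a373a0b16324d860dd08e3a0cde09c1af7147f458901f40f3625e790a4170917edad4e5208c970879114d41c1088a5b589a70e459e5c688f329853130083de5a55d96380f81a54a430736ddc26c21c4e89e0a457800cb6ceb25d58288299740851b4144bdc7849d99e4b73f1ec650170e03c5ce2e6396634e406a0a791a980088d571ea839f16d667449b9a350a4a26420678394b45f5f6a3aa44049641a0d6fe3c2fd878b0e1028d067a3f0b629754ff31283a40251dc2e46809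ac4dc92211905938858d3b4b813daa0de692a9f26d20f50d0e56e9d064fd1a22d7454e98522accd49f1ff160d909cbc455729e81871813124838fa233383d08831640b68cd6f65e4b98eb05ec7e27c2434a023152d735d72c9df9dc0d2006e85d29726a6821331da0c74c03a155e9b1f83c4410d04337d809398a8c4e73ad8387c101c84b591186561570d1da1e25774621a8079bdb62b5084f95878d195190528c54545a17f25f5e5252b8c1699619622a13956949a37ce1b508c0a9c20a51883f95340aae6b1f9175e52f9c10ade896cc2a69005b08c1801d700877ea92a6e7e79c474d8a206c5f47d37752911d5e616c7105609784b04ec05a581f1544042e593d59f6964f3e4f4692540fcea01894771400bdf5619fd9fcc721a6d76c64a29bba8159680a158ead045542e52b789c4359789317f02c450d56a668d5388ba62e261942a6f5779ad604fea5a7c0c198b394169479cb4a91b158704b2748da8431a04864460c016670cf3224a6161a8ee3564a7b769ce4528b4c86b2107c4c45a84d76ad12489d4d73c282707b7ac1aa31ef516103c1f02a49b26800a5c39435a9908ef36e550ea2f8a0ec))) (.node (nat_lit 223) (.leaf (nat_lit 0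x4966de41a54095c35611023321e37d2f175b16287172284244e683a1643113ac441778d5215f56dc990655f4e40925002110161b1ac7657f8c886982481e53a7d85069103696b218a4fa789e7e8d70b4fba298778993645c480266a9108a00ed47a9a1c05974127385db6da3d3d66f259a04104e4a2301567c9108a224fc7024a4d6934694bab5f1699be46068204a1382751e1d167036a365f3dd4c962a5605c39aa8e5529c119229fca40405b05c4f0ae0f2b15750567668aa9e8bf598c00391c29a502f5d886d7402964360205ccc706e158b0085815b931b92e98b71e03686a742e8339e45a5072172919f4436b57e159c15246d18e894163620e5e938774ddf3151aa405a2abe35509079e6014b08e799d5466ae0fddc34c827c9bd25c1f571363ce519ae9b48d953663b54d7709c2f12d9e79c6550e5a0e1863f8c8880e258a2e899f92951d9944ca760d01ca88840c8acb90a57a6c23c5c81d5c4cb062198a80657558925bf2e161894bc5d5635b0b38461c4f88c005445a59d2b67430568308110dd8044594786643f4646d53daa18371a6da414ea5848495fba8e56359e53b9927fc420d2474ece545d89acdf768dbb4546621dab1f9da3bc957baa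a1ae374a8e34c89f3767b1f1d766433a2e633d1529564d4e1ce45272ac1f46a5b846c6a21112a9a59349e83a18c8083e0696f3241e85e280115a57a466f0b6840032ae2303e272d42c5f1b28fd6e5d96b08a05818002ca1d0849d5f6242880d1602314c28830a981cf67be6ea55264ceab8f94d5e42a1fd16ad03d780d1221f86e89b071594f12d169af6406f7168123cec82e1a425567316d3c0bba209c9c2382d1d6490de77e9f8e8f29b09a24c390b84d1148b4a4cd8be315150a9ce044b8907a5cfa0a342026292c7b4d1f0149a73fda8ab147595972c27730d6a2f814280131780b14425824af29cce84aa9319cd55415312147b60a014ae87c128a4b7099786ba425c0761d47d0ec3a1862d970cf8e6a094cd47aceb63dfc102a2615c999e8c546991291fa14a336a781e9d465830a3e613e94f94a335210d9d9fe4c0927b1d29c4d04c4e4975b44403c621d3484db774f1900f89a4980c58e729fd4fea143a863a9e3a5c6e17d2b181b36347372e87234e98221843c47661ea19d46950326090032a22370f941a68a61209f9c2905505ec2415e13528b196cc567e43a4874)) (.leaf (nat_lit 0x8467d1b24d22aac91a398f12a0288292451a4604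d848507628cd6b0e3029a5219ce49898600d422d0c530598324a6a4b2471b26c60e86c235580e2d6ac186467f45a68226229ee59cb404e5c92c993b13f16e104395003ca758868ac662156043a80b6bdb0aa80944c528245f6ad0654a8d9e8927a8dd188b65541c6e2a0752561e27098c67384c40795b40c7151676a225835de86095f5ccc94ea350d5799d4f8372325683073d40289e91ca8a001481cd3c6d0ff5f5d995178746a60f1e06f8df3ca7b5ddfba01b94d43d8b0f71b1df5d80586a870faa4758206ea4eaa4976b553121a17fc5e776845a65d152b39444353cee171f9650392ceae91e5e539ae415fe994e73daa5031bfabcbd5253380c1158cb95d57a309dc4c5bba16a38ba064f86d01cbc8603a6f53710a33a9c103a4fa3057b0053b8d83fa7683280b780195112111993604aa29f46e3cc65798db0c542444182c5582158e94d2c389e17563950cc55762a69d0a12deb191864f43874d71074cb4608f9e62779d2051da22e2779688e4243660c6387047435171f5aa731c1986089658b735a32094148de48ae8b35883464e5065255f8d9896228368c42d929555c21db78b5344c8f476e31a06a170a9000c3b4e5011c1da3e46faa27c25504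2ee346f0413d67e1ae868c0a449d902fc80778163bc96a097c008c08920b05da6440886cd91231748bd7f87822828e4205154208d632161011f83e29875166a29361cd243cbe9fc9a762054e11a30d8d25185491120cd469e049a256005628930604c1d75102d95e8f240c62e81fab4e8380327e9d0226739481a564c726e66795570dd511eab406dec97cde3b6747be38590da3ac5090eb093c45748144b85d96eb29247c5503481c698064d1aa605794d9404629965035fc398586116f920777e024a64564a8ae09d6b7dd4b5a23fa5dcb331700acce341729b26b478212b21f144d17c58899e948e9e24adc4a6dc909a425a9897d0ad4bc7f9aa40a582a7c8795844da723e9902f2a4765282970e690ba9571cb0320289c9f61d1c84a453886459b96c2766d284d3010fb665b632996a44f07ce1527e9e660a840a3b66a718499d4009e474fc28d9b6709ca7e17022147b44c64e688f07e5b8aa096447144f67a197c29a15e3d5982c2952d139ca3c406356379be982bd6d88dc678d283f6131d597904fe2adb57007b7d4cf))))))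
noncomputable def cR : Tr ℕ := (.node (nat_lit 112) (.node (nat_lit 56) (.node (nat_lit 28) (.node (nat_lit 14) cR_0 cR_1) (.node (nat_lit 42) cR_2 cR_3)) (.node (nat_lit 84) (.node (nat_lit 70) cR_4 cR_5) (.node (nat_lit 98) cR_6 cR_7))) (.node (nat_lit 168) (.node (nat_lit 140) (.node (nat_lit 126) cR_8 cR_9) (.node (nat_lit 154) cR_10 cR_11)) (.node (nat_lit 196) (.node (nat_lit 182) cR_12 cR_13) (.node (nat_lit 210) cR_14 cR_15))))
noncomputable def cE : Tr (List ℕ) := (.node (nat_lit 112) (.node (nat_lit 56) (.node (nat_lit 28) (.node (nat_lit 14) (.node (nat_lit 7) (.node (nat_lit 3) (.node (nat_lit 1) (.leaf []) (.node (nat_lit 2) (.leaf [nat_lit 4, nat_lit 4]) (.leaf [nat_lit 4, nat_lit 7, nat_lit 5, nat_lit 0])))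
 (.node (nat_lit 5) (.node (nat_lit 4) (.leaf [nat_lit 1, nat_lit 6, nat_lit 7, nat_lit 3]) (.leaf [nat_lit 7, nat_lit 4, nat_lit 1, nat_lit 8, nat_lit 5, nat_lit 7, nat_lit 3, nat_lit 7, nat_lit 5, nat_lit 2, nat_lit 0])) (.node (nat_lit 6) (.leaf [nat_lit 1, nat_lit 7, nat_lit 4, nat_lit 8, nat_lit 7, nat_lit 4, nat_lit 7, nat_lit 4, nat_lit 7, nat_lit 5, nat_lit 3, nat_lit 2, nat_lit 0]) (.leaf [nat_lit 6, nat_lit 9, nat_lit 7, nat_lit 2, nat_lit 9, nat_lit 4, nat_lit 7, nat_lit 4, nat_lit 0, nat_lit 8, nat_lit 0, nat_lit 7, nat_lit 6, nat_lit 0, nat_lit 7, nat_lit 6, nat_lit 0, nat_lit 3, nat_lit 2, nat_lit 0]))))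
 (.node (nat_lit 10) (.node (nat_lit 8) (.leaf [nat_lit 4, nat_lit 7, nat_lit 3, nat_lit 5, nat_lit 3, nat_lit 2, nat_lit 0]) (.node (nat_lit 9) (.leaf [nat_lit 1, nat_lit 6, nat_lit 7, nat_lit 4]) (.leaf [nat_lit 7, nat_lit 4, nat_lit 1, nat_lit 8, nat_lit 5, nat_lit 7, nat_lit 3, nat_lit 7, nat_lit 6, nat_lit 2, nat_lit 0])))
 (.node (nat_lit 12) (.node (nat_lit 11) (.leaf [nat_lit 1, nat_lit 7, nat_lit 4, nat_lit 8, nat_lit 7, nat_lit 4, nat_lit 7, nat_lit 4, nat_lit 7, nat_lit 4, nat_lit 5, nat_lit 0]) (.leaf [nat_lit 6, nat_lit 9, nat_lit 7, nat_lit 2, nat_lit 9, nat_lit 4, nat_lit 7, nat_lit 4, nat_lit 0, nat_lit 8, nat_lit 0, nat_lit 7, nat_lit 6, nat_lit 0, nat_lit 7, nat_lit 6, nat_lit 3, nat_lit 1])) (.node (nat_lit 13) (.leaf [nat_lit 5, nat_lit 7, nat_lit 2, nat_lit 6, nat_lit 7, nat_lit 1, nat_lit 3, nat_lit 2, nat_lit 0]) (.leaf [nat_lit 7, nat_lit 4, nat_lit 1, nat_lit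 8, nat_lit 1, nat_lit 7, nat_lit 6, nat_lit 1, nat_lit 7, nat_lit 3, nat_lit 5, nat_lit 3, nat_lit 2, nat_lit 0])))))
 (.node (nat_lit 21) (.node (nat_lit 17) (.node (nat_lit 15) (.leaf [nat_lit 6, nat_lit 9, nat_lit 7, nat_lit 2, nat_lit 9, nat_lit 4, nat_lit 7, nat_lit 4, nat_lit 0, nat_lit 8, nat_lit 5, nat_lit 7, nat_lit 6, nat_lit 1, nat_lit 7, nat_lit 6, nat_lit 6, nat_lit 2]) (.node (nat_lit 16) (.leaf [nat_lit 4, nat_lit 6, nat_lit 4, nat_lit 7, nat_lit 3, nat_lit 2]) (.leaf [nat_lit 7, nat_lit 4, nat_lit 1, nat_lit 8, nat_lit 7, nat_lit 1, nat_lit 4, nat_lit 0, nat_lit 7, nat_lit 4, nat_lit 0, nat_lit 4, nat_lit 2])))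
 (.node (nat_lit 19) (.node (nat_lit 18) (.leaf [nat_lit 1, nat_lit 7, nat_lit 4, nat_lit 8, nat_lit 7, nat_lit 6, nat_lit 4, nat_lit 1, nat_lit 7, nat_lit 1, nat_lit 4, nat_lit 4, nat_lit 2, nat_lit 0]) (.leaf [nat_lit 6, nat_lit 9, nat_lit 7, nat_lit 2, nat_lit 9, nat_lit 4, nat_lit 7, nat_lit 4, nat_lit 0, nat_lit 8, nat_lit 1, nat_lit 7, nat_lit 6, nat_lit 0, nat_lit 7, nat_lit 1, nat_lit 4, nat_lit 4, nat_lit 0])) (.node (nat_lit 20) (.leaf [nat_lit 1, nat_lit 6, nat_lit 7, nat_lit 8, nat_lit 7, nat_lit 4, nat_lit 0, nat_lit 7, nat_lit 6, nat_lit 1, nat_lit 4, nat_lit 2]) (.leaf [nat_lit 0, nat_lit 4, nat_lit 7, nat_lit 8, nat_lit 0, nat_lit 7, nat_lit 6, nat_lit 4, nat_lit 7, nat_lit 6, nat_lit 3, nat_lit 2, nat_lit 0]))))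
 (.node (nat_lit 24) (.node (nat_lit 22) (.leaf [nat_lit 7, nat_lit 1, nat_lit 3, nat_lit 1, nat_lit 8, nat_lit 5, nat_lit 1, nat_lit 7, nat_lit 4, nat_lit 7, nat_lit 4, nat_lit 6, nat_lit 4, nat_lit 2, nat_lit 0]) (.node (nat_lit 23) (.leaf [nat_lit 7, nat_lit 8, nat_lit 6, nat_lit 3, nat_lit 8, nat_lit 5, nat_lit 0, nat_lit 7, nat_lit 1, nat_lit 4, nat_lit 4]) (.leaf [nat_lit 6, nat_lit 9, nat_lit 7, nat_lit 2, nat_lit 9, nat_lit 5, nat_lit 7, nat_lit 4, nat_lit 8, nat_lit 6, nat_lit 7, nat_lit 5, nat_lit 1])))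
 (.node (nat_lit 26) (.node (nat_lit 25) (.leaf [nat_lit 6, nat_lit 8, nat_lit 4, nat_lit 0, nat_lit 8, nat_lit 5, nat_lit 7, nat_lit 2, nat_lit 6, nat_lit 7, nat_lit 4, nat_lit 5, nat_lit 0]) (.leaf [nat_lit 3, nat_lit 7, nat_lit 4, nat_lit 1, nat_lit 8, nat_lit 7, nat_lit 6, nat_lit 1, nat_lit 7, nat_lit 1, nat_lit 5, nat_lit 1])) (.node (nat_lit 27) (.leaf [nat_lit 0, nat_lit 6, nat_lit 7, nat_lit 8, nat_lit 3, nat_lit 8, nat_lit 3, nat_lit 7, nat_lit 1, nat_lit 3, nat_lit 7, nat_lit 6, nat_lit 4, nat_lit 2, nat_lit 0]) (.leaf [nat_lit 0, nat_lit 9, nat_lit 7, nat_lit 3, nat_lit 9, nat_lit 6, nat_lit 4, nat_lit 8, nat_lit 3, nat_lit 8, nat_lit 5, nat_lit 7, nat_lit 2, nat_lit 6, nat_lit 7, nat_lit 3, nat_lit 5, nat_lit 2, nat_lit 0]))))))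
 (.node (nat_lit 42) (.node (nat_lit 35) (.node (nat_lit 31) (.node (nat_lit 29) (.leaf [nat_lit 9, nat_lit 4, nat_lit 7, nat_lit 9, nat_lit 6, nat_lit 8, nat_lit 3, nat_lit 1, nat_lit 8, nat_lit 5, nat_lit 0, nat_lit 7, nat_lit 4, nat_lit 1, nat_lit 4, nat_lit 2]) (.node (nat_lit 30) (.leaf [nat_lit 8, nat_lit 9, nat_lit 7, nat_lit 2, nat_lit 9, nat_lit 0, nat_lit 7, nat_lit 3, nat_lit 1, nat_lit 8, nat_lit 5, nat_lit 4, nat_lit 7, nat_lit 4, nat_lit 6, nat_lit 4, nat_lit 2, nat_lit 0]) (.leaf [nat_lit 3, nat_lit 7, nat_lit 3, nat_lit 5, nat_lit 3, nat_lit 2, nat_lit 0])))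
 (.node (nat_lit 33) (.node (nat_lit 32) (.leaf [nat_lit 5, nat_lit 7, nat_lit 2, nat_lit 6, nat_lit 7, nat_lit 0, nat_lit 3, nat_lit 1]) (.leaf [nat_lit 7, nat_lit 4, nat_lit 1, nat_lit 8, nat_lit 1, nat_lit 7, nat_lit 6, nat_lit 1, nat_lit 7, nat_lit 5, nat_lit 0])) (.node (nat_lit 34) (.leaf [nat_lit 1, nat_lit 7, nat_lit 4, nat_lit 8, nat_lit 7, nat_lit 6, nat_lit 1, nat_lit 7, nat_lit 6, nat_lit 3, nat_lit 2]) (.leaf [nat_lit 4, nat_lit 6, nat_lit 4, nat_lit 7, nat_lit 5, nat_lit 3, nat_lit 5]))))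
 (.node (nat_lit 38) (.node (nat_lit 36) (.leaf [nat_lit 7, nat_lit 4, nat_lit 1, nat_lit 8, nat_lit 7, nat_lit 1, nat_lit 4, nat_lit 0, nat_lit 7, nat_lit 3, nat_lit 0, nat_lit 3]) (.node (nat_lit 37) (.leaf [nat_lit 1, nat_lit 7, nat_lit 4, nat_lit 8, nat_lit 7, nat_lit 6, nat_lit 4, nat_lit 1, nat_lit 7, nat_lit 4, nat_lit 0, nat_lit 4]) (.leaf [nat_lit 6, nat_lit 9, nat_lit 7, nat_lit 2, nat_lit 9, nat_lit 4, nat_lit 7, nat_lit 4, nat_lit 0, nat_lit 8, nat_lit 1, nat_lit 7, nat_lit 6, nat_lit 0, nat_lit 7, nat_lit 4, nat_lit 1, nat_lit 4, nat_lit 2, nat_lit 0])))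
 (.node (nat_lit 40) (.node (nat_lit 39) (.leaf [nat_lit 0, nat_lit 4, nat_lit 7, nat_lit 8, nat_lit 0, nat_lit 7, nat_lit 6, nat_lit 4, nat_lit 7, nat_lit 6, nat_lit 1, nat_lit 3, nat_lit 1]) (.leaf [nat_lit 7, nat_lit 1, nat_lit 3, nat_lit 1, nat_lit 8, nat_lit 5, nat_lit 1, nat_lit 7, nat_lit 4, nat_lit 7, nat_lit 3, nat_lit 6, nat_lit 3])) (.node (nat_lit 41) (.leaf [nat_lit 6, nat_lit 9, nat_lit 7, nat_lit 2, nat_lit 9, nat_lit 5, nat_lit 7, nat_lit 4, nat_lit 8, nat_lit 6, nat_lit 7, nat_lit 0, nat_lit 6]) (.leaf [nat_lit 3, nat_lit 7, nat_lit 4, nat_lit 1, nat_lit 8, nat_lit 7, nat_lit 6, nat_lit 1, nat_lit 7, nat_lit 6])))))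
 (.node (nat_lit 49) (.node (nat_lit 45) (.node (nat_lit 43) (.leaf [nat_lit 5, nat_lit 8, nat_lit 6, nat_lit 1, nat_lit 8, nat_lit 0, nat_lit 4, nat_lit 0, nat_lit 7, nat_lit 3, nat_lit 5, nat_lit 2, nat_lit 0]) (.node (nat_lit 44) (.leaf [nat_lit 6, nat_lit 9, nat_lit 7, nat_lit 2, nat_lit 9, nat_lit 6, nat_lit 8, nat_lit 5, nat_lit 8, nat_lit 1, nat_lit 3, nat_lit 7, nat_lit 5, nat_lit 2]) (.leaf [nat_lit 9, nat_lit 4, nat_lit 7, nat_lit 9, nat_lit 6, nat_lit 8, nat_lit 3, nat_lit 1, nat_lit 8, nat_lit 5, nat_lit 0, nat_lit 7, nat_lit 3, nat_lit 1, nat_lit 4, nat_lit 2])))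
 (.node (nat_lit 47) (.node (nat_lit 46) (.leaf [nat_lit 8, nat_lit 9, nat_lit 7, nat_lit 2, nat_lit 9, nat_lit 0, nat_lit 7, nat_lit 3, nat_lit 1, nat_lit 8, nat_lit 5, nat_lit 4, nat_lit 7, nat_lit 3, nat_lit 6, nat_lit 3]) (.leaf [nat_lit 3, nat_lit 9, nat_lit 1, nat_lit 8, nat_lit 0, nat_lit 9, nat_lit 6, nat_lit 7, nat_lit 8, nat_lit 1, nat_lit 8, nat_lit 6, nat_lit 1, nat_lit 7, nat_lit 3, nat_lit 5, nat_lit 2, nat_lit 0])) (.node (nat_lit 48) (.leaf [nat_lit 1, nat_lit 7, nat_lit 4, nat_lit 8, nat_lit 0, nat_lit 7, nat_lit 6, nat_lit 7, nat_lit 4, nat_lit 6]) (.leaf [nat_lit 1, nat_lit 6, nat_lit 7, nat_lit 8, nat_lit 3, nat_lit 5, nat_lit 1, nat_lit 7, nat_lit 5, nat_lit 3, nat_lit 5, nat_lit 2, nat_lit 0]))))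
 (.node (nat_lit 52) (.node (nat_lit 50) (.leaf [nat_lit 0, nat_lit 4, nat_lit 7, nat_lit 8, nat_lit 6, nat_lit 7, nat_lit 6, nat_lit 0, nat_lit 7, nat_lit 4, nat_lit 4, nat_lit 0]) (.node (nat_lit 51) (.leaf [nat_lit 7, nat_lit 1, nat_lit 3, nat_lit 1, nat_lit 8, nat_lit 3, nat_lit 5, nat_lit 1, nat_lit 7, nat_lit 0, nat_lit 3, nat_lit 2]) (.leaf [nat_lit 9, nat_lit 4, nat_lit 7, nat_lit 9, nat_lit 6, nat_lit 8, nat_lit 3, nat_lit 1, nat_lit 8, nat_lit 0, nat_lit 7, nat_lit 6, nat_lit 4, nat_lit 7, nat_lit 0, nat_lit 4])))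
 (.node (nat_lit 54) (.node (nat_lit 53) (.leaf [nat_lit 8, nat_lit 9, nat_lit 7, nat_lit 2, nat_lit 9, nat_lit 0, nat_lit 7, nat_lit 3, nat_lit 1, nat_lit 8, nat_lit 5, nat_lit 7, nat_lit 4, nat_lit 7, nat_lit 0, nat_lit 3, nat_lit 2]) (.leaf [nat_lit 3, nat_lit 9, nat_lit 1, nat_lit 8, nat_lit 0, nat_lit 9, nat_lit 6, nat_lit 7, nat_lit 8, nat_lit 1, nat_lit 8, nat_lit 0, nat_lit 7, nat_lit 2, nat_lit 6, nat_lit 7, nat_lit 2, nat_lit 4, nat_lit 4, nat_lit 2, nat_lit 0])) (.node (nat_lit 55) (.leaf [nat_lit 9, nat_lit 0, nat_lit 4, nat_lit 9, nat_lit 1, nat_lit 9, nat_lit 0, nat_lit 8, nat_lit 5, nat_lit 1, nat_lit 8, nat_lit 7, nat_lit 4, nat_lit 5, nat_lit 1, nat_lit 7, nat_lit 5, nat_lit 3, nat_lit 1]) (.leaf [nat_lit 7, nat_lit 1, nat_lit 6, nat_lit 7, nat_lit 6, nat_lit 2])))))))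
 (.node (nat_lit 84) (.node (nat_lit 70) (.node (nat_lit 63) (.node (nat_lit 59) (.node (nat_lit 57) (.leaf [nat_lit 6, nat_lit 9, nat_lit 7, nat_lit 2, nat_lit 9, nat_lit 4, nat_lit 7, nat_lit 4, nat_lit 0, nat_lit 8, nat_lit 5, nat_lit 1, nat_lit 7, nat_lit 3, nat_lit 5, nat_lit 3, nat_lit 1]) (.node (nat_lit 58) (.leaf [nat_lit 0, nat_lit 4, nat_lit 7, nat_lit 8, nat_lit 3, nat_lit 7, nat_lit 6, nat_lit 7, nat_lit 6, nat_lit 1, nat_lit 3, nat_lit 2]) (.leaf [nat_lit 7, nat_lit 8, nat_lit 6, nat_lit 3, nat_lit 8, nat_lit 4, nat_lit 7, nat_lit 3, nat_lit 0, nat_lit 7, nat_lit 0, nat_lit 6, nat_lit 2, nat_lit 0])))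
 (.node (nat_lit 61) (.node (nat_lit 60) (.leaf [nat_lit 6, nat_lit 9, nat_lit 7, nat_lit 2, nat_lit 9, nat_lit 5, nat_lit 7, nat_lit 4, nat_lit 8, nat_lit 7, nat_lit 4, nat_lit 1, nat_lit 4, nat_lit 7, nat_lit 3, nat_lit 1, nat_lit 4, nat_lit 2]) (.leaf [nat_lit 9, nat_lit 4, nat_lit 7, nat_lit 9, nat_lit 6, nat_lit 8, nat_lit 3, nat_lit 1, nat_lit 8, nat_lit 7, nat_lit 5, nat_lit 3, nat_lit 7, nat_lit 4, nat_lit 5, nat_lit 2])) (.node (nat_lit 62) (.leaf [nat_lit 9, nat_lit 0, nat_lit 4, nat_lit 9, nat_lit 1, nat_lit 9, nat_lit 0, nat_lit 8, nat_lit 5, nat_lit 1, nat_lit 8, nat_lit 4, nat_lit 7, nat_lit 0, nat_lit 6, nat_lit 2, nat_lit 1]) (.leaf [nat_lit 4, nat_lit 8, nat_lit 7, nat_lit 4, nat_lit 0, nat_lit 7, nat_lit 6, nat_lit 1, nat_lit 4, nat_lit 2]))))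
 (.node (nat_lit 66) (.node (nat_lit 64) (.leaf [nat_lit 0, nat_lit 4, nat_lit 7, nat_lit 8, nat_lit 5, nat_lit 7, nat_lit 6, nat_lit 1, nat_lit 7, nat_lit 2, nat_lit 4, nat_lit 4, nat_lit 0]) (.node (nat_lit 65) (.leaf [nat_lit 3, nat_lit 7, nat_lit 0, nat_lit 6, nat_lit 8, nat_lit 7, nat_lit 5, nat_lit 4, nat_lit 7, nat_lit 6, nat_lit 4, nat_lit 6, nat_lit 2, nat_lit 1]) (.leaf [nat_lit 6, nat_lit 9, nat_lit 7, nat_lit 2, nat_lit 9, nat_lit 8, nat_lit 1, nat_lit 3, nat_lit 7, nat_lit 8, nat_lit 1, nat_lit 7, nat_lit 4, nat_lit 0, nat_lit 7, nat_lit 2])))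
 (.node (nat_lit 68) (.node (nat_lit 67) (.leaf [nat_lit 6, nat_lit 9, nat_lit 7, nat_lit 2, nat_lit 9, nat_lit 8, nat_lit 6, nat_lit 6, nat_lit 8, nat_lit 0, nat_lit 7, nat_lit 6, nat_lit 1, nat_lit 7, nat_lit 5, nat_lit 4, nat_lit 5, nat_lit 2]) (.leaf [nat_lit 8, nat_lit 0, nat_lit 7, nat_lit 6, nat_lit 6, nat_lit 8, nat_lit 0, nat_lit 6, nat_lit 7, nat_lit 3, nat_lit 0, nat_lit 3])) (.node (nat_lit 69) (.leaf [nat_lit 7, nat_lit 8, nat_lit 6, nat_lit 4, nat_lit 8, nat_lit 3, nat_lit 7, nat_lit 4, nat_lit 1, nat_lit 7, nat_lit 5, nat_lit 3, nat_lit 5, nat_lit 1]) (.leaf [nat_lit 6, nat_lit 9, nat_lit 7, nat_lit 2, nat_lit 9, nat_lit 6, nat_lit 6, nat_lit 1, nat_lit 8, nat_lit 3, nat_lit 7, nat_lit 1, nat_lit 3, nat_lit 7, nat_lit 3, nat_lit 5, nat_lit 2, nat_lit 0])))))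
 (.node (nat_lit 77) (.node (nat_lit 73) (.node (nat_lit 71) (.leaf [nat_lit 7, nat_lit 3, nat_lit 7, nat_lit 8, nat_lit 3, nat_lit 7, nat_lit 3, nat_lit 0]) (.node (nat_lit 72) (.leaf [nat_lit 6, nat_lit 9, nat_lit 7, nat_lit 2, nat_lit 9, nat_lit 6, nat_lit 3, nat_lit 7, nat_lit 8, nat_lit 6, nat_lit 4, nat_lit 1, nat_lit 7, nat_lit 1, nat_lit 6, nat_lit 0]) (.leaf [nat_lit 7, nat_lit 4, nat_lit 8, nat_lit 5, nat_lit 1, nat_lit 8, nat_lit 3, nat_lit 0, nat_lit 7, nat_lit 5, nat_lit 4, nat_lit 5])))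
 (.node (nat_lit 75) (.node (nat_lit 74) (.leaf [nat_lit 8, nat_lit 1, nat_lit 4, nat_lit 8, nat_lit 7, nat_lit 8, nat_lit 7, nat_lit 4, nat_lit 7, nat_lit 0, nat_lit 6, nat_lit 2, nat_lit 1]) (.leaf [nat_lit 6, nat_lit 9, nat_lit 7, nat_lit 2, nat_lit 9, nat_lit 4, nat_lit 8, nat_lit 7, nat_lit 8, nat_lit 6, nat_lit 4, nat_lit 7, nat_lit 4, nat_lit 5, nat_lit 2, nat_lit 0])) (.node (nat_lit 76) (.leaf [nat_lit 0, nat_lit 9, nat_lit 3, nat_lit 1, nat_lit 9, nat_lit 6, nat_lit 0, nat_lit 8, nat_lit 6, nat_lit 8, nat_lit 4, nat_lit 7, nat_lit 6, nat_lit 3, nat_lit 7, nat_lit 3, nat_lit 6, nat_lit 3, nat_lit 1]) (.leaf [nat_lit 4, nat_lit 7, nat_lit 9, nat_lit 6, nat_lit 4, nat_lit 9, nat_lit 8, nat_lit 0, nat_lit 7, nat_lit 6, nat_lit 6, nat_lit 8, nat_lit 3, nat_lit 7, nat_lit 6, nat_lit 7, nat_lit 4, nat_lit 6, nat_lit 2]))))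
 (.node (nat_lit 80) (.node (nat_lit 78) (.leaf [nat_lit 9, nat_lit 5, nat_lit 8, nat_lit 0, nat_lit 9, nat_lit 0, nat_lit 4, nat_lit 7, nat_lit 8, nat_lit 0, nat_lit 7, nat_lit 6, nat_lit 7, nat_lit 3, nat_lit 6, nat_lit 3, nat_lit 1]) (.node (nat_lit 79) (.leaf [nat_lit 5, nat_lit 1, nat_lit 7, nat_lit 5, nat_lit 1]) (.leaf [nat_lit 6, nat_lit 9, nat_lit 7, nat_lit 2, nat_lit 9, nat_lit 4, nat_lit 7, nat_lit 4, nat_lit 0, nat_lit 8, nat_lit 3, nat_lit 7, nat_lit 4, nat_lit 7, nat_lit 6, nat_lit 4, nat_lit 2])))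
 (.node (nat_lit 82) (.node (nat_lit 81) (.leaf [nat_lit 6, nat_lit 9, nat_lit 7, nat_lit 2, nat_lit 9, nat_lit 4, nat_lit 7, nat_lit 4, nat_lit 0, nat_lit 8, nat_lit 0, nat_lit 7, nat_lit 6, nat_lit 4, nat_lit 7, nat_lit 4, nat_lit 1, nat_lit 4, nat_lit 2, nat_lit 0]) (.leaf [nat_lit 7, nat_lit 8, nat_lit 6, nat_lit 3, nat_lit 8, nat_lit 7, nat_lit 6, nat_lit 1, nat_lit 7, nat_lit 6, nat_lit 4, nat_lit 6, nat_lit 2, nat_lit 0])) (.node (nat_lit 83) (.leaf [nat_lit 6, nat_lit 9, nat_lit 7, nat_lit 2, nat_lit 9, nat_lit 6, nat_lit 8, nat_lit 5, nat_lit 8, nat_lit 0, nat_lit 7, nat_lit 5, nat_lit 4, nat_lit 7, nat_lit 3, nat_lit 1, nat_lit 4, nat_lit 1]) (.leaf [nat_lit 1, nat_lit 4, nat_lit 7, nat_lit 6, nat_lit 4, nat_lit 6, nat_lit 0]))))))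
 (.node (nat_lit 98) (.node (nat_lit 91) (.node (nat_lit 87) (.node (nat_lit 85) (.leaf [nat_lit 7, nat_lit 1, nat_lit 6, nat_lit 7, nat_lit 1, nat_lit 6, nat_lit 1]) (.node (nat_lit 86) (.leaf [nat_lit 1, nat_lit 7, nat_lit 4, nat_lit 8, nat_lit 1, nat_lit 7, nat_lit 5, nat_lit 3, nat_lit 7, nat_lit 4, nat_lit 1, nat_lit 4, nat_lit 2, nat_lit 0]) (.leaf [nat_lit 6, nat_lit 9, nat_lit 7, nat_lit 2, nat_lit 9, nat_lit 4, nat_lit 7, nat_lit 4, nat_lit 0, nat_lit 8, nat_lit 5, nat_lit 1, nat_lit 7, nat_lit 0, nat_lit 5, nat_lit 2])))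
 (.node (nat_lit 89) (.node (nat_lit 88) (.leaf [nat_lit 0, nat_lit 4, nat_lit 7, nat_lit 8, nat_lit 3, nat_lit 7, nat_lit 6, nat_lit 7, nat_lit 4, nat_lit 6]) (.leaf [nat_lit 0, nat_lit 4, nat_lit 7, nat_lit 8, nat_lit 5, nat_lit 7, nat_lit 6, nat_lit 1, nat_lit 7, nat_lit 4, nat_lit 1, nat_lit 4, nat_lit 1])) (.node (nat_lit 90) (.leaf [nat_lit 0, nat_lit 9, nat_lit 7, nat_lit 3, nat_lit 9, nat_lit 4, nat_lit 5, nat_lit 8, nat_lit 6, nat_lit 3, nat_lit 7, nat_lit 0, nat_lit 3, nat_lit 2, nat_lit 0]) (.leaf [nat_lit 5, nat_lit 3, nat_lit 7, nat_lit 8, nat_lit 4, nat_lit 1, nat_lit 7, nat_lit 1, nat_lit 5, nat_lit 2, nat_lit 0]))))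
 (.node (nat_lit 94) (.node (nat_lit 92) (.leaf [nat_lit 6, nat_lit 8, nat_lit 3, nat_lit 8, nat_lit 0, nat_lit 7, nat_lit 5, nat_lit 4, nat_lit 7, nat_lit 6, nat_lit 1, nat_lit 3, nat_lit 2, nat_lit 0]) (.node (nat_lit 93) (.leaf [nat_lit 6, nat_lit 9, nat_lit 7, nat_lit 2, nat_lit 9, nat_lit 4, nat_lit 8, nat_lit 5, nat_lit 1, nat_lit 8, nat_lit 1, nat_lit 3, nat_lit 7, nat_lit 6, nat_lit 7, nat_lit 4, nat_lit 6, nat_lit 4, nat_lit 2, nat_lit 0]) (.leaf [nat_lit 9, nat_lit 0, nat_lit 4, nat_lit 9, nat_lit 1, nat_lit 9, nat_lit 4, nat_lit 7, nat_lit 4, nat_lit 8, nat_lit 5, nat_lit 8, nat_lit 5, nat_lit 7, nat_lit 6, nat_lit 1, nat_lit 7, nat_lit 4, nat_lit 0, nat_lit 4, nat_lit 1])))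
 (.node (nat_lit 96) (.node (nat_lit 95) (.leaf [nat_lit 0, nat_lit 6, nat_lit 9, nat_lit 3, nat_lit 1, nat_lit 9, nat_lit 3, nat_lit 5, nat_lit 7, nat_lit 8, nat_lit 7, nat_lit 3, nat_lit 7, nat_lit 0, nat_lit 5, nat_lit 2, nat_lit 0]) (.leaf [nat_lit 9, nat_lit 4, nat_lit 7, nat_lit 9, nat_lit 0, nat_lit 8, nat_lit 3, nat_lit 8, nat_lit 0, nat_lit 4, nat_lit 4, nat_lit 7, nat_lit 1])) (.node (nat_lit 97) (.leaf [nat_lit 3, nat_lit 8, nat_lit 9, nat_lit 6, nat_lit 9, nat_lit 8, nat_lit 6, nat_lit 0, nat_lit 7, nat_lit 6, nat_lit 8, nat_lit 6, nat_lit 7, nat_lit 4, nat_lit 2, nat_lit 1]) (.leaf [nat_lit 5, nat_lit 8, nat_lit 9, nat_lit 0, nat_lit 4, nat_lit 8, nat_lit 3, nat_lit 7, nat_lit 6, nat_lit 7, nat_lit 5, nat_lit 4, nat_lit 5, nat_lit 2])))))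
 (.node (nat_lit 105) (.node (nat_lit 101) (.node (nat_lit 99) (.leaf [nat_lit 3, nat_lit 8, nat_lit 9, nat_lit 6, nat_lit 9, nat_lit 0, nat_lit 8, nat_lit 3, nat_lit 8, nat_lit 1, nat_lit 8, nat_lit 4, nat_lit 7, nat_lit 6, nat_lit 0, nat_lit 7, nat_lit 6, nat_lit 1, nat_lit 3, nat_lit 2, nat_lit 1]) (.node (nat_lit 100) (.leaf [nat_lit 5, nat_lit 9, nat_lit 7, nat_lit 0, nat_lit 9, nat_lit 5, nat_lit 8, nat_lit 7, nat_lit 3, nat_lit 6, nat_lit 8, nat_lit 4, nat_lit 5, nat_lit 1, nat_lit 7, nat_lit 0, nat_lit 4, nat_lit 2, nat_lit 0]) (.leaf [nat_lit 9, nat_lit 2, nat_lit 9, nat_lit 0, nat_lit 9, nat_lit 4, nat_lit 7, nat_lit 4, nat_lit 8, nat_lit 1, nat_lit 8, nat_lit 1, nat_lit 7, nat_lit 6, nat_lit 1, nat_lit 7, nat_lit 5, nat_lit 3, nat_lit 5])))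
 (.node (nat_lit 103) (.node (nat_lit 102) (.leaf [nat_lit 3, nat_lit 7, nat_lit 0, nat_lit 6, nat_lit 8, nat_lit 4, nat_lit 4, nat_lit 0, nat_lit 7, nat_lit 6, nat_lit 3, nat_lit 1]) (.leaf [nat_lit 6, nat_lit 9, nat_lit 7, nat_lit 2, nat_lit 9, nat_lit 8, nat_lit 1, nat_lit 3, nat_lit 7, nat_lit 8, nat_lit 0, nat_lit 7, nat_lit 6, nat_lit 4, nat_lit 7, nat_lit 0, nat_lit 3])) (.node (nat_lit 104) (.leaf [nat_lit 5, nat_lit 8, nat_lit 9, nat_lit 0, nat_lit 4, nat_lit 8, nat_lit 1, nat_lit 4, nat_lit 7, nat_lit 6, nat_lit 0, nat_lit 3, nat_lit 2]) (.leaf [nat_lit 4, nat_lit 7, nat_lit 9, nat_lit 6, nat_lit 4, nat_lit 9, nat_lit 8, nat_lit 0, nat_lit 7, nat_lit 6, nat_lit 6, nat_lit 8, nat_lit 7, nat_lit 6, nat_lit 4, nat_lit 1, nat_lit 7, nat_lit 5, nat_lit 3, nat_lit 5, nat_lit 2]))))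
 (.node (nat_lit 108) (.node (nat_lit 106) (.leaf [nat_lit 6, nat_lit 9, nat_lit 4, nat_lit 0, nat_lit 9, nat_lit 8, nat_lit 7, nat_lit 5, nat_lit 7, nat_lit 8, nat_lit 0, nat_lit 7, nat_lit 6, nat_lit 1, nat_lit 7, nat_lit 5, nat_lit 4, nat_lit 5, nat_lit 2, nat_lit 0]) (.node (nat_lit 107) (.leaf [nat_lit 9, nat_lit 5, nat_lit 8, nat_lit 0, nat_lit 9, nat_lit 0, nat_lit 4, nat_lit 7, nat_lit 8, nat_lit 7, nat_lit 6, nat_lit 7, nat_lit 4, nat_lit 7, nat_lit 2, nat_lit 4, nat_lit 4, nat_lit 2]) (.leaf [nat_lit 1, nat_lit 7, nat_lit 9, nat_lit 6, nat_lit 9, nat_lit 7, nat_lit 5, nat_lit 1, nat_lit 8, nat_lit 1, nat_lit 7, nat_lit 6, nat_lit 3, nat_lit 7, nat_lit 3, nat_lit 6, nat_lit 3, nat_lit 2, nat_lit 1])))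
 (.node (nat_lit 110) (.node (nat_lit 109) (.leaf [nat_lit 6, nat_lit 9, nat_lit 7, nat_lit 2, nat_lit 9, nat_lit 0, nat_lit 3, nat_lit 1, nat_lit 8, nat_lit 4, nat_lit 6, nat_lit 4, nat_lit 7, nat_lit 5]) (.leaf [nat_lit 9, nat_lit 0, nat_lit 4, nat_lit 9, nat_lit 1, nat_lit 9, nat_lit 7, nat_lit 0, nat_lit 8, nat_lit 6, nat_lit 8, nat_lit 7, nat_lit 0, nat_lit 6, nat_lit 7, nat_lit 4, nat_lit 6, nat_lit 1])) (.node (nat_lit 111) (.leaf [nat_lit 9, nat_lit 4, nat_lit 7, nat_lit 9, nat_lit 1, nat_lit 4, nat_lit 8, nat_lit 5, nat_lit 8, nat_lit 1, nat_lit 3, nat_lit 7, nat_lit 4, nat_lit 6, nat_lit 4, nat_lit 2, nat_lit 1]) (.leaf [nat_lit 3, nat_lit 8, nat_lit 2, nat_lit 9, nat_lit 7, nat_lit 0, nat_lit 8, nat_lit 3, nat_lit 1, nat_lit 8, nat_lit 1, nat_lit 7, nat_lit 1, nat_lit 4, nat_lit 7, nat_lit 3, nat_lit 5, nat_lit 3, nat_lit 2, nat_lit 0]))))))))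
 (.node (nat_lit 168) (.node (nat_lit 140) (.node (nat_lit 126) (.node (nat_lit 119) (.node (nat_lit 115) (.node (nat_lit 113) (.leaf [nat_lit 5, nat_lit 9, nat_lit 0, nat_lit 9, nat_lit 6, nat_lit 6, nat_lit 8, nat_lit 1, nat_lit 8, nat_lit 7, nat_lit 5, nat_lit 7, nat_lit 4, nat_lit 7, nat_lit 3, nat_lit 6, nat_lit 3, nat_lit 1]) (.node (nat_lit 114) (.leaf [nat_lit 5, nat_lit 9, nat_lit 0, nat_lit 9, nat_lit 2, nat_lit 4, nat_lit 8, nat_lit 0, nat_lit 8, nat_lit 7, nat_lit 1, nat_lit 4, nat_lit 7, nat_lit 5, nat_lit 1]) (.leaf [nat_lit 3, nat_lit 9, nat_lit 3, nat_lit 0, nat_lit 9, nat_lit 0, nat_lit 8, nat_lit 0, nat_lit 7, nat_lit 4, nat_lit 7, nat_lit 6, nat_lit 0, nat_lit 3])))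
 (.node (nat_lit 117) (.node (nat_lit 116) (.leaf [nat_lit 7, nat_lit 1, nat_lit 9, nat_lit 4, nat_lit 1, nat_lit 9, nat_lit 6, nat_lit 1, nat_lit 8, nat_lit 6, nat_lit 4, nat_lit 8, nat_lit 7, nat_lit 4, nat_lit 1, nat_lit 4, nat_lit 7, nat_lit 3, nat_lit 2, nat_lit 0]) (.leaf [nat_lit 8, nat_lit 7, nat_lit 0, nat_lit 6, nat_lit 9, nat_lit 0, nat_lit 7, nat_lit 6, nat_lit 6, nat_lit 8, nat_lit 1, nat_lit 7, nat_lit 1, nat_lit 4, nat_lit 7, nat_lit 0, nat_lit 5, nat_lit 2, nat_lit 1])) (.node (nat_lit 118) (.leaf [nat_lit 7, nat_lit 9, nat_lit 6, nat_lit 7, nat_lit 9, nat_lit 0, nat_lit 8, nat_lit 6, nat_lit 8, nat_lit 4, nat_lit 8, nat_lit 1, nat_lit 6, nat_lit 7, nat_lit 6, nat_lit 6]) (.leaf [nat_lit 6, nat_lit 7, nat_lit 8, nat_lit 9, nat_lit 7, nat_lit 8, nat_lit 0, nat_lit 4, nat_lit 8, nat_lit 7, nat_lit 4, nat_lit 7, nat_lit 4, nat_lit 7, nat_lit 4, nat_lit 6, nat_lit 1]))))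
 (.node (nat_lit 122) (.node (nat_lit 120) (.leaf [nat_lit 3, nat_lit 9, nat_lit 3, nat_lit 0, nat_lit 9, nat_lit 8, nat_lit 6, nat_lit 7, nat_lit 4, nat_lit 4, nat_lit 8, nat_lit 1, nat_lit 3, nat_lit 7, nat_lit 6, nat_lit 7, nat_lit 3, nat_lit 6, nat_lit 3, nat_lit 2]) (.node (nat_lit 121) (.leaf [nat_lit 7, nat_lit 1, nat_lit 9, nat_lit 4, nat_lit 1, nat_lit 9, nat_lit 1, nat_lit 7, nat_lit 8, nat_lit 3, nat_lit 8, nat_lit 1, nat_lit 7, nat_lit 4, nat_lit 1, nat_lit 7, nat_lit 3, nat_lit 1, nat_lit 4, nat_lit 2]) (.leaf [nat_lit 8, nat_lit 7, nat_lit 0, nat_lit 6, nat_lit 9, nat_lit 6, nat_lit 0, nat_lit 8, nat_lit 6, nat_lit 8, nat_lit 6, nat_lit 3, nat_lit 7, nat_lit 6, nat_lit 4, nat_lit 2, nat_lit 0])))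
 (.node (nat_lit 124) (.node (nat_lit 123) (.leaf [nat_lit 7, nat_lit 9, nat_lit 6, nat_lit 7, nat_lit 9, nat_lit 1, nat_lit 8, nat_lit 7, nat_lit 4, nat_lit 4, nat_lit 8, nat_lit 5, nat_lit 1, nat_lit 7, nat_lit 3, nat_lit 6, nat_lit 3, nat_lit 1]) (.leaf [nat_lit 6, nat_lit 7, nat_lit 8, nat_lit 9, nat_lit 8, nat_lit 7, nat_lit 0, nat_lit 3, nat_lit 8, nat_lit 3, nat_lit 7, nat_lit 6, nat_lit 7, nat_lit 6, nat_lit 1, nat_lit 3, nat_lit 2])) (.node (nat_lit 125) (.leaf [nat_lit 3, nat_lit 6, nat_lit 9, nat_lit 0, nat_lit 9, nat_lit 4, nat_lit 8, nat_lit 7, nat_lit 4, nat_lit 8, nat_lit 2, nat_lit 6, nat_lit 7, nat_lit 0, nat_lit 6, nat_lit 2, nat_lit 1]) (.leaf [nat_lit 0, nat_lit 8, nat_lit 9, nat_lit 1, nat_lit 9, nat_lit 1, nat_lit 7, nat_lit 4, nat_lit 8, nat_lit 4, nat_lit 5, nat_lit 1, nat_lit 7, nat_lit 4, nat_lit 4, nat_lit 1])))))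
 (.node (nat_lit 133) (.node (nat_lit 129) (.node (nat_lit 127) (.leaf [nat_lit 9, nat_lit 1, nat_lit 8, nat_lit 4, nat_lit 4, nat_lit 9, nat_lit 6, nat_lit 6, nat_lit 8, nat_lit 1, nat_lit 8, nat_lit 0, nat_lit 7, nat_lit 4, nat_lit 7, nat_lit 3, nat_lit 1]) (.node (nat_lit 128) (.leaf [nat_lit 7, nat_lit 1, nat_lit 9, nat_lit 4, nat_lit 1, nat_lit 9, nat_lit 2, nat_lit 3, nat_lit 7, nat_lit 8, nat_lit 4, nat_lit 8, nat_lit 3, nat_lit 7, nat_lit 3, nat_lit 7, nat_lit 6, nat_lit 0]) (.leaf [nat_lit 7, nat_lit 6, nat_lit 9, nat_lit 1, nat_lit 9, nat_lit 7, nat_lit 5, nat_lit 7, nat_lit 8, nat_lit 7, nat_lit 4, nat_lit 7, nat_lit 4, nat_lit 7, nat_lit 1, nat_lit 4, nat_lit 4, nat_lit 2])))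
 (.node (nat_lit 131) (.node (nat_lit 130) (.leaf [nat_lit 7, nat_lit 0, nat_lit 6, nat_lit 9, nat_lit 4, nat_lit 4, nat_lit 8, nat_lit 1, nat_lit 8, nat_lit 0, nat_lit 7, nat_lit 3, nat_lit 0, nat_lit 7, nat_lit 6, nat_lit 4, nat_lit 1]) (.leaf [nat_lit 4, nat_lit 9, nat_lit 7, nat_lit 6, nat_lit 0, nat_lit 9, nat_lit 0, nat_lit 3, nat_lit 8, nat_lit 3, nat_lit 7, nat_lit 4, nat_lit 1, nat_lit 7, nat_lit 6, nat_lit 2, nat_lit 0])) (.node (nat_lit 132) (.leaf [nat_lit 9, nat_lit 8, nat_lit 9, nat_lit 0, nat_lit 9, nat_lit 3, nat_lit 8, nat_lit 3, nat_lit 1, nat_lit 8, nat_lit 7, nat_lit 5, nat_lit 3, nat_lit 7, nat_lit 3, nat_lit 5, nat_lit 2, nat_lit 1]) (.leaf [nat_lit 0, nat_lit 8, nat_lit 9, nat_lit 0, nat_lit 9, nat_lit 6, nat_lit 8, nat_lit 7, nat_lit 0, nat_lit 6, nat_lit 8, nat_lit 0, nat_lit 4, nat_lit 0, nat_lit 7, nat_lit 3, nat_lit 1]))))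
 (.node (nat_lit 136) (.node (nat_lit 134) (.leaf [nat_lit 1, nat_lit 9, nat_lit 6, nat_lit 0, nat_lit 9, nat_lit 8, nat_lit 7, nat_lit 6, nat_lit 6, nat_lit 8, nat_lit 7, nat_lit 5, nat_lit 1, nat_lit 7, nat_lit 3]) (.node (nat_lit 135) (.leaf [nat_lit 5, nat_lit 8, nat_lit 9, nat_lit 3, nat_lit 1, nat_lit 8, nat_lit 7, nat_lit 1, nat_lit 4, nat_lit 0, nat_lit 7, nat_lit 1, nat_lit 4, nat_lit 2, nat_lit 1]) (.leaf [nat_lit 8, nat_lit 4, nat_lit 0, nat_lit 7, nat_lit 9, nat_lit 6, nat_lit 7, nat_lit 8, nat_lit 7, nat_lit 6, nat_lit 0, nat_lit 7, nat_lit 5])))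
 (.node (nat_lit 138) (.node (nat_lit 137) (.leaf [nat_lit 7, nat_lit 6, nat_lit 8, nat_lit 3, nat_lit 9, nat_lit 3, nat_lit 8, nat_lit 1, nat_lit 8, nat_lit 1, nat_lit 7, nat_lit 6, nat_lit 4, nat_lit 7, nat_lit 0, nat_lit 3, nat_lit 1]) (.leaf [nat_lit 4, nat_lit 9, nat_lit 1, nat_lit 4, nat_lit 9, nat_lit 7, nat_lit 3, nat_lit 1, nat_lit 8, nat_lit 1, nat_lit 4, nat_lit 7, nat_lit 6, nat_lit 4, nat_lit 0])) (.node (nat_lit 139) (.leaf [nat_lit 7, nat_lit 9, nat_lit 6, nat_lit 1, nat_lit 9, nat_lit 6, nat_lit 3, nat_lit 8, nat_lit 1, nat_lit 8, nat_lit 0, nat_lit 7, nat_lit 6, nat_lit 4, nat_lit 7, nat_lit 0, nat_lit 3]) (.leaf [nat_lit 6, nat_lit 7, nat_lit 8, nat_lit 9, nat_lit 6, nat_lit 7, nat_lit 3, nat_lit 1, nat_lit 8, nat_lit 3, nat_lit 5, nat_lit 1, nat_lit 7, nat_lit 5, nat_lit 4, nat_lit 5, nat_lit 0]))))))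
 (.node (nat_lit 154) (.node (nat_lit 147) (.node (nat_lit 143) (.node (nat_lit 141) (.leaf [nat_lit 7, nat_lit 8, nat_lit 2, nat_lit 9, nat_lit 0, nat_lit 8, nat_lit 6, nat_lit 8, nat_lit 4, nat_lit 8, nat_lit 0, nat_lit 7, nat_lit 3, nat_lit 0, nat_lit 7, nat_lit 4, nat_lit 6, nat_lit 2]) (.node (nat_lit 142) (.leaf [nat_lit 1, nat_lit 7, nat_lit 9, nat_lit 3, nat_lit 9, nat_lit 6, nat_lit 8, nat_lit 4, nat_lit 8, nat_lit 7, nat_lit 8, nat_lit 7, nat_lit 5, nat_lit 7, nat_lit 4, nat_lit 7, nat_lit 0, nat_lit 4, nat_lit 1]) (.leaf [nat_lit 6, nat_lit 8, nat_lit 7, nat_lit 9, nat_lit 1, nat_lit 8, nat_lit 5, nat_lit 8, nat_lit 0, nat_lit 8, nat_lit 7, nat_lit 5, nat_lit 3, nat_lit 7, nat_lit 4, nat_lit 2])))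
 (.node (nat_lit 145) (.node (nat_lit 144) (.leaf [nat_lit 3, nat_lit 6, nat_lit 9, nat_lit 0, nat_lit 9, nat_lit 6, nat_lit 8, nat_lit 1, nat_lit 8, nat_lit 4, nat_lit 8, nat_lit 1, nat_lit 7, nat_lit 5, nat_lit 0, nat_lit 7, nat_lit 6, nat_lit 4, nat_lit 2]) (.leaf [nat_lit 0, nat_lit 8, nat_lit 9, nat_lit 1, nat_lit 9, nat_lit 5, nat_lit 0, nat_lit 8, nat_lit 4, nat_lit 8, nat_lit 7, nat_lit 1, nat_lit 4, nat_lit 0, nat_lit 7, nat_lit 5, nat_lit 1])) (.node (nat_lit 146) (.leaf [nat_lit 4, nat_lit 0, nat_lit 9, nat_lit 6, nat_lit 0, nat_lit 9, nat_lit 7, nat_lit 8, nat_lit 3, nat_lit 8, nat_lit 0, nat_lit 8, nat_lit 1, nat_lit 4, nat_lit 0, nat_lit 7, nat_lit 4, nat_lit 4, nat_lit 2, nat_lit 1]) (.leaf [nat_lit 7, nat_lit 1, nat_lit 9, nat_lit 4, nat_lit 1, nat_lit 9, nat_lit 1, nat_lit 8, nat_lit 3, nat_lit 8, nat_lit 1, nat_lit 7, nat_lit 4, nat_lit 1, nat_lit 7, nat_lit 3, nat_lit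 1, nat_lit 4, nat_lit 2]))))
 (.node (nat_lit 150) (.node (nat_lit 148) (.leaf [nat_lit 7, nat_lit 6, nat_lit 9, nat_lit 1, nat_lit 9, nat_lit 4, nat_lit 4, nat_lit 1, nat_lit 8, nat_lit 0, nat_lit 7, nat_lit 4, nat_lit 1, nat_lit 7, nat_lit 3, nat_lit 1, nat_lit 4, nat_lit 0]) (.node (nat_lit 149) (.leaf [nat_lit 7, nat_lit 0, nat_lit 6, nat_lit 9, nat_lit 1, nat_lit 8, nat_lit 4, nat_lit 7, nat_lit 6, nat_lit 8, nat_lit 7, nat_lit 3, nat_lit 6, nat_lit 7, nat_lit 5, nat_lit 4, nat_lit 5, nat_lit 1]) (.leaf [nat_lit 4, nat_lit 9, nat_lit 7, nat_lit 6, nat_lit 0, nat_lit 9, nat_lit 6, nat_lit 8, nat_lit 7, nat_lit 0, nat_lit 6, nat_lit 8, nat_lit 4, nat_lit 7, nat_lit 6, nat_lit 1, nat_lit 4, nat_lit 2, nat_lit 0])))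
 (.node (nat_lit 152) (.node (nat_lit 151) (.leaf [nat_lit 0, nat_lit 8, nat_lit 9, nat_lit 0, nat_lit 9, nat_lit 7, nat_lit 6, nat_lit 0, nat_lit 3, nat_lit 8, nat_lit 5, nat_lit 0, nat_lit 7, nat_lit 4, nat_lit 7, nat_lit 4, nat_lit 1, nat_lit 4, nat_lit 1]) (.leaf [nat_lit 1, nat_lit 9, nat_lit 6, nat_lit 0, nat_lit 9, nat_lit 7, nat_lit 1, nat_lit 6, nat_lit 8, nat_lit 0, nat_lit 8, nat_lit 1, nat_lit 7, nat_lit 5, nat_lit 3, nat_lit 7, nat_lit 4, nat_lit 5])) (.node (nat_lit 153) (.leaf [nat_lit 8, nat_lit 4, nat_lit 0, nat_lit 7, nat_lit 9, nat_lit 3, nat_lit 6, nat_lit 8, nat_lit 7, nat_lit 8, nat_lit 1, nat_lit 6, nat_lit 7, nat_lit 4, nat_lit 1, nat_lit 4, nat_lit 1]) (.leaf [nat_lit 4, nat_lit 9, nat_lit 1, nat_lit 4, nat_lit 9, nat_lit 8, nat_lit 7, nat_lit 6, nat_lit 1, nat_lit 8, nat_lit 7, nat_lit 3, nat_lit 0, nat_lit 7, nat_lit 3, nat_lit 5, nat_lit 2, nat_lit 0])))))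
 (.node (nat_lit 161) (.node (nat_lit 157) (.node (nat_lit 155) (.leaf [nat_lit 5, nat_lit 8, nat_lit 9, nat_lit 8, nat_lit 3, nat_lit 7, nat_lit 8, nat_lit 1, nat_lit 7, nat_lit 5, nat_lit 1, nat_lit 7, nat_lit 1, nat_lit 3, nat_lit 0]) (.node (nat_lit 156) (.leaf [nat_lit 9, nat_lit 0, nat_lit 9, nat_lit 1, nat_lit 7, nat_lit 4, nat_lit 8, nat_lit 3, nat_lit 8, nat_lit 0, nat_lit 7, nat_lit 4, nat_lit 7, nat_lit 0, nat_lit 3, nat_lit 2]) (.leaf [nat_lit 7, nat_lit 8, nat_lit 2, nat_lit 9, nat_lit 7, nat_lit 6, nat_lit 7, nat_lit 8, nat_lit 5, nat_lit 0, nat_lit 7, nat_lit 6, nat_lit 3, nat_lit 2, nat_lit 0])))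
 (.node (nat_lit 159) (.node (nat_lit 158) (.leaf [nat_lit 1, nat_lit 7, nat_lit 9, nat_lit 3, nat_lit 9, nat_lit 8, nat_lit 0, nat_lit 8, nat_lit 5, nat_lit 1, nat_lit 8, nat_lit 5, nat_lit 4, nat_lit 7, nat_lit 1, nat_lit 6, nat_lit 1]) (.leaf [nat_lit 4, nat_lit 0, nat_lit 9, nat_lit 6, nat_lit 0, nat_lit 9, nat_lit 8, nat_lit 7, nat_lit 0, nat_lit 4, nat_lit 8, nat_lit 1, nat_lit 7, nat_lit 5, nat_lit 0, nat_lit 7, nat_lit 4, nat_lit 6, nat_lit 2])) (.node (nat_lit 160) (.leaf [nat_lit 9, nat_lit 0, nat_lit 9, nat_lit 4, nat_lit 7, nat_lit 3, nat_lit 6, nat_lit 8, nat_lit 4, nat_lit 7, nat_lit 3, nat_lit 0, nat_lit 7, nat_lit 6, nat_lit 4, nat_lit 2, nat_lit 0]) (.leaf [nat_lit 0, nat_lit 8, nat_lit 9, nat_lit 1, nat_lit 9, nat_lit 1, nat_lit 7, nat_lit 4, nat_lit 8, nat_lit 0, nat_lit 7, nat_lit 6, nat_lit 1, nat_lit 7, nat_lit 1, nat_lit 5, nat_lit 2, nat_lit 0]))))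
 (.node (nat_lit 164) (.node (nat_lit 162) (.leaf [nat_lit 7, nat_lit 6, nat_lit 8, nat_lit 3, nat_lit 9, nat_lit 4, nat_lit 8, nat_lit 1, nat_lit 8, nat_lit 4, nat_lit 8, nat_lit 1, nat_lit 7, nat_lit 5, nat_lit 3, nat_lit 7, nat_lit 6, nat_lit 3, nat_lit 2]) (.node (nat_lit 163) (.leaf [nat_lit 4, nat_lit 7, nat_lit 8, nat_lit 9, nat_lit 1, nat_lit 8, nat_lit 4, nat_lit 7, nat_lit 6, nat_lit 8, nat_lit 3, nat_lit 7, nat_lit 4, nat_lit 7, nat_lit 0, nat_lit 5, nat_lit 0]) (.leaf [nat_lit 5, nat_lit 9, nat_lit 4, nat_lit 8, nat_lit 1, nat_lit 9, nat_lit 3, nat_lit 7, nat_lit 8, nat_lit 6, nat_lit 8, nat_lit 4, nat_lit 1, nat_lit 4, nat_lit 7, nat_lit 0, nat_lit 6, nat_lit 1])))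
 (.node (nat_lit 166) (.node (nat_lit 165) (.leaf [nat_lit 9, nat_lit 7, nat_lit 8, nat_lit 6, nat_lit 9, nat_lit 8, nat_lit 6, nat_lit 8, nat_lit 3, nat_lit 7, nat_lit 8, nat_lit 3, nat_lit 5, nat_lit 1, nat_lit 7, nat_lit 6, nat_lit 1, nat_lit 4, nat_lit 2, nat_lit 1]) (.leaf [nat_lit 7, nat_lit 9, nat_lit 4, nat_lit 0, nat_lit 9, nat_lit 7, nat_lit 3, nat_lit 1, nat_lit 8, nat_lit 0, nat_lit 7, nat_lit 6, nat_lit 7, nat_lit 4])) (.node (nat_lit 167) (.leaf [nat_lit 7, nat_lit 3, nat_lit 9, nat_lit 3, nat_lit 1, nat_lit 9, nat_lit 1, nat_lit 7, nat_lit 6, nat_lit 8, nat_lit 3, nat_lit 8, nat_lit 0, nat_lit 7, nat_lit 5, nat_lit 1, nat_lit 7, nat_lit 6, nat_lit 3, nat_lit 2, nat_lit 1]) (.leaf [nat_lit 3, nat_lit 6, nat_lit 9, nat_lit 0, nat_lit 9, nat_lit 8, nat_lit 7, nat_lit 6, nat_lit 8, nat_lit 5, nat_lit 3, nat_lit 0, nat_lit 7, nat_lit 6, nat_lit 1, nat_lit 4, nat_lit 2, nat_lit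 1])))))))
 (.node (nat_lit 196) (.node (nat_lit 182) (.node (nat_lit 175) (.node (nat_lit 171) (.node (nat_lit 169) (.leaf [nat_lit 4, nat_lit 9, nat_lit 7, nat_lit 6, nat_lit 0, nat_lit 9, nat_lit 5, nat_lit 7, nat_lit 8, nat_lit 4, nat_lit 0, nat_lit 7, nat_lit 6, nat_lit 3, nat_lit 2, nat_lit 1]) (.node (nat_lit 170) (.leaf [nat_lit 7, nat_lit 6, nat_lit 9, nat_lit 1, nat_lit 9, nat_lit 6, nat_lit 8, nat_lit 4, nat_lit 0, nat_lit 8, nat_lit 3, nat_lit 7, nat_lit 1, nat_lit 3, nat_lit 7, nat_lit 5, nat_lit 3, nat_lit 5, nat_lit 2, nat_lit 0]) (.leaf [nat_lit 4, nat_lit 9, nat_lit 1, nat_lit 4, nat_lit 9, nat_lit 4, nat_lit 1, nat_lit 8, nat_lit 1, nat_lit 7, nat_lit 4, nat_lit 7, nat_lit 3, nat_lit 5, nat_lit 3])))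
 (.node (nat_lit 173) (.node (nat_lit 172) (.leaf [nat_lit 4, nat_lit 4, nat_lit 9, nat_lit 5, nat_lit 8, nat_lit 6, nat_lit 1, nat_lit 8, nat_lit 1, nat_lit 3, nat_lit 7, nat_lit 4, nat_lit 1, nat_lit 4, nat_lit 2, nat_lit 1]) (.leaf [nat_lit 8, nat_lit 9, nat_lit 6, nat_lit 9, nat_lit 0, nat_lit 9, nat_lit 0, nat_lit 8, nat_lit 3, nat_lit 7, nat_lit 4, nat_lit 7, nat_lit 4, nat_lit 6, nat_lit 4, nat_lit 1])) (.node (nat_lit 174) (.leaf [nat_lit 7, nat_lit 6, nat_lit 9, nat_lit 7, nat_lit 0, nat_lit 9, nat_lit 8, nat_lit 1, nat_lit 7, nat_lit 4, nat_lit 1, nat_lit 8, nat_lit 1, nat_lit 4, nat_lit 7, nat_lit 3, nat_lit 0]) (.leaf [nat_lit 8, nat_lit 6, nat_lit 3, nat_lit 1, nat_lit 9, nat_lit 4, nat_lit 5, nat_lit 7, nat_lit 8, nat_lit 4, nat_lit 8, nat_lit 7, nat_lit 5, nat_lit 3, nat_lit 7, nat_lit 4, nat_lit 2, nat_lit 0]))))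
 (.node (nat_lit 178) (.node (nat_lit 176) (.leaf [nat_lit 0, nat_lit 8, nat_lit 9, nat_lit 0, nat_lit 9, nat_lit 4, nat_lit 7, nat_lit 4, nat_lit 1, nat_lit 8, nat_lit 1, nat_lit 8, nat_lit 7, nat_lit 5, nat_lit 0, nat_lit 7, nat_lit 1, nat_lit 4, nat_lit 0]) (.node (nat_lit 177) (.leaf [nat_lit 4, nat_lit 9, nat_lit 8, nat_lit 0, nat_lit 9, nat_lit 4, nat_lit 8, nat_lit 7, nat_lit 8, nat_lit 7, nat_lit 6, nat_lit 7, nat_lit 0, nat_lit 5, nat_lit 2, nat_lit 1]) (.leaf [nat_lit 5, nat_lit 9, nat_lit 4, nat_lit 1, nat_lit 9, nat_lit 6, nat_lit 7, nat_lit 8, nat_lit 4, nat_lit 7, nat_lit 6, nat_lit 3, nat_lit 7, nat_lit 1, nat_lit 4, nat_lit 2, nat_lit 1])))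
 (.node (nat_lit 180) (.node (nat_lit 179) (.leaf [nat_lit 6, nat_lit 9, nat_lit 4, nat_lit 2, nat_lit 9, nat_lit 8, nat_lit 1, nat_lit 7, nat_lit 3, nat_lit 1, nat_lit 8, nat_lit 0, nat_lit 7, nat_lit 6, nat_lit 7, nat_lit 6, nat_lit 1, nat_lit 4, nat_lit 2]) (.leaf [nat_lit 1, nat_lit 8, nat_lit 9, nat_lit 1, nat_lit 4, nat_lit 8, nat_lit 7, nat_lit 8, nat_lit 5, nat_lit 3, nat_lit 7, nat_lit 6, nat_lit 4, nat_lit 6, nat_lit 2])) (.node (nat_lit 181) (.leaf [nat_lit 3, nat_lit 9, nat_lit 2, nat_lit 1, nat_lit 9, nat_lit 6, nat_lit 0, nat_lit 3, nat_lit 8, nat_lit 0, nat_lit 7, nat_lit 6, nat_lit 0, nat_lit 7, nat_lit 1, nat_lit 3, nat_lit 2, nat_lit 0]) (.leaf [nat_lit 9, nat_lit 4, nat_lit 7, nat_lit 9, nat_lit 3, nat_lit 6, nat_lit 8, nat_lit 7, nat_lit 8, nat_lit 1, nat_lit 7, nat_lit 5, nat_lit 1, nat_lit 7, nat_lit 6, nat_lit 4, nat_lit 1])))))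
 (.node (nat_lit 189) (.node (nat_lit 185) (.node (nat_lit 183) (.leaf [nat_lit 0, nat_lit 8, nat_lit 3, nat_lit 9, nat_lit 6, nat_lit 0, nat_lit 8, nat_lit 6, nat_lit 8, nat_lit 5, nat_lit 7, nat_lit 6, nat_lit 1, nat_lit 7, nat_lit 4, nat_lit 1, nat_lit 4, nat_lit 0]) (.node (nat_lit 184) (.leaf [nat_lit 7, nat_lit 3, nat_lit 9, nat_lit 3, nat_lit 1, nat_lit 9, nat_lit 8, nat_lit 7, nat_lit 4, nat_lit 1, nat_lit 8, nat_lit 4, nat_lit 7, nat_lit 4, nat_lit 1]) (.leaf [nat_lit 7, nat_lit 6, nat_lit 9, nat_lit 1, nat_lit 9, nat_lit 6, nat_lit 7, nat_lit 3, nat_lit 1, nat_lit 8, nat_lit 4, nat_lit 1, nat_lit 4, nat_lit 7, nat_lit 4, nat_lit 6, nat_lit 4, nat_lit 1])))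
 (.node (nat_lit 187) (.node (nat_lit 186) (.leaf [nat_lit 3, nat_lit 9, nat_lit 6, nat_lit 2, nat_lit 1, nat_lit 9, nat_lit 3, nat_lit 8, nat_lit 5, nat_lit 8, nat_lit 6, nat_lit 4, nat_lit 7, nat_lit 4, nat_lit 6, nat_lit 2]) (.leaf [nat_lit 4, nat_lit 0, nat_lit 9, nat_lit 6, nat_lit 0, nat_lit 9, nat_lit 4, nat_lit 8, nat_lit 0, nat_lit 7, nat_lit 6, nat_lit 4, nat_lit 7, nat_lit 4, nat_lit 0, nat_lit 4, nat_lit 1])) (.node (nat_lit 188) (.leaf [nat_lit 8, nat_lit 6, nat_lit 3, nat_lit 1, nat_lit 9, nat_lit 7, nat_lit 6, nat_lit 1, nat_lit 8, nat_lit 1, nat_lit 6, nat_lit 7, nat_lit 3, nat_lit 1, nat_lit 4, nat_lit 2, nat_lit 0]) (.leaf [nat_lit 4, nat_lit 8, nat_lit 6, nat_lit 9, nat_lit 1, nat_lit 8, nat_lit 5, nat_lit 8, nat_lit 4, nat_lit 1, nat_lit 4, nat_lit 7, nat_lit 5, nat_lit 3, nat_lit 5, nat_lit 2]))))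
 (.node (nat_lit 192) (.node (nat_lit 190) (.leaf [nat_lit 6, nat_lit 3, nat_lit 1, nat_lit 9, nat_lit 8, nat_lit 5, nat_lit 7, nat_lit 6, nat_lit 8, nat_lit 1, nat_lit 7, nat_lit 5, nat_lit 4, nat_lit 7, nat_lit 1, nat_lit 3, nat_lit 1]) (.node (nat_lit 191) (.leaf [nat_lit 4, nat_lit 5, nat_lit 8, nat_lit 1, nat_lit 9, nat_lit 7, nat_lit 5, nat_lit 8, nat_lit 3, nat_lit 8, nat_lit 7, nat_lit 3, nat_lit 6, nat_lit 7, nat_lit 4, nat_lit 6, nat_lit 4, nat_lit 2, nat_lit 1]) (.leaf [nat_lit 3, nat_lit 6, nat_lit 9, nat_lit 0, nat_lit 9, nat_lit 8, nat_lit 5, nat_lit 7, nat_lit 6, nat_lit 0, nat_lit 7, nat_lit 6, nat_lit 4, nat_lit 2, nat_lit 1])))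
 (.node (nat_lit 194) (.node (nat_lit 193) (.leaf [nat_lit 6, nat_lit 8, nat_lit 7, nat_lit 9, nat_lit 6, nat_lit 8, nat_lit 4, nat_lit 8, nat_lit 7, nat_lit 5, nat_lit 4, nat_lit 7, nat_lit 6, nat_lit 3, nat_lit 2, nat_lit 0]) (.leaf [nat_lit 7, nat_lit 9, nat_lit 0, nat_lit 3, nat_lit 9, nat_lit 0, nat_lit 7, nat_lit 8, nat_lit 6, nat_lit 8, nat_lit 7, nat_lit 4, nat_lit 1, nat_lit 7, nat_lit 6, nat_lit 1, nat_lit 4, nat_lit 2, nat_lit 1])) (.node (nat_lit 195) (.leaf [nat_lit 7, nat_lit 9, nat_lit 6, nat_lit 1, nat_lit 9, nat_lit 4, nat_lit 8, nat_lit 4, nat_lit 8, nat_lit 3, nat_lit 7, nat_lit 6, nat_lit 7, nat_lit 0, nat_lit 4, nat_lit 2]) (.leaf [nat_lit 5, nat_lit 9, nat_lit 0, nat_lit 9, nat_lit 3, nat_lit 7, nat_lit 4, nat_lit 1, nat_lit 8, nat_lit 1, nat_lit 6, nat_lit 7, nat_lit 1, nat_lit 4, nat_lit 0]))))))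
 (.node (nat_lit 210) (.node (nat_lit 203) (.node (nat_lit 199) (.node (nat_lit 197) (.leaf [nat_lit 3, nat_lit 6, nat_lit 9, nat_lit 0, nat_lit 9, nat_lit 6, nat_lit 4, nat_lit 8, nat_lit 3, nat_lit 8, nat_lit 0, nat_lit 7, nat_lit 0, nat_lit 6, nat_lit 0]) (.node (nat_lit 198) (.leaf [nat_lit 7, nat_lit 0, nat_lit 6, nat_lit 9, nat_lit 3, nat_lit 1, nat_lit 7, nat_lit 4, nat_lit 8, nat_lit 4, nat_lit 0, nat_lit 7, nat_lit 6, nat_lit 4, nat_lit 6, nat_lit 0]) (.leaf [nat_lit 4, nat_lit 9, nat_lit 7, nat_lit 6, nat_lit 0, nat_lit 9, nat_lit 0, nat_lit 8, nat_lit 3, nat_lit 7, nat_lit 8, nat_lit 6, nat_lit 4, nat_lit 1, nat_lit 7, nat_lit 5, nat_lit 4, nat_lit 5])))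
 (.node (nat_lit 201) (.node (nat_lit 200) (.leaf [nat_lit 7, nat_lit 6, nat_lit 9, nat_lit 1, nat_lit 9, nat_lit 8, nat_lit 0, nat_lit 7, nat_lit 6, nat_lit 8, nat_lit 0, nat_lit 7, nat_lit 4, nat_lit 7, nat_lit 0, nat_lit 3, nat_lit 1]) (.leaf [nat_lit 0, nat_lit 8, nat_lit 9, nat_lit 0, nat_lit 9, nat_lit 3, nat_lit 7, nat_lit 8, nat_lit 3, nat_lit 7, nat_lit 6, nat_lit 4, nat_lit 7, nat_lit 3, nat_lit 0, nat_lit 3])) (.node (nat_lit 202) (.leaf [nat_lit 7, nat_lit 9, nat_lit 6, nat_lit 1, nat_lit 9, nat_lit 0, nat_lit 7, nat_lit 8, nat_lit 0, nat_lit 4, nat_lit 8, nat_lit 1, nat_lit 3, nat_lit 7, nat_lit 4, nat_lit 7, nat_lit 6, nat_lit 0, nat_lit 3]) (.leaf [nat_lit 7, nat_lit 8, nat_lit 2, nat_lit 9, nat_lit 8, nat_lit 1, nat_lit 7, nat_lit 3, nat_lit 1, nat_lit 8, nat_lit 4, nat_lit 1, nat_lit 7, nat_lit 3, nat_lit 6, nat_lit 3, nat_lit 2]))))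
 (.node (nat_lit 206) (.node (nat_lit 204) (.leaf [nat_lit 1, nat_lit 8, nat_lit 4, nat_lit 4, nat_lit 9, nat_lit 8, nat_lit 4, nat_lit 7, nat_lit 6, nat_lit 4, nat_lit 8, nat_lit 0, nat_lit 7, nat_lit 6, nat_lit 1, nat_lit 7, nat_lit 6, nat_lit 4, nat_lit 6, nat_lit 2, nat_lit 1]) (.node (nat_lit 205) (.leaf [nat_lit 9, nat_lit 4, nat_lit 7, nat_lit 9, nat_lit 7, nat_lit 6, nat_lit 0, nat_lit 8, nat_lit 3, nat_lit 8, nat_lit 1, nat_lit 7, nat_lit 5, nat_lit 1, nat_lit 7, nat_lit 3, nat_lit 5]) (.leaf [nat_lit 3, nat_lit 6, nat_lit 9, nat_lit 0, nat_lit 9, nat_lit 1, nat_lit 8, nat_lit 0, nat_lit 7, nat_lit 4, nat_lit 7, nat_lit 5, nat_lit 2, nat_lit 1])))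
 (.node (nat_lit 208) (.node (nat_lit 207) (.leaf [nat_lit 7, nat_lit 9, nat_lit 3, nat_lit 9, nat_lit 1, nat_lit 6, nat_lit 0, nat_lit 8, nat_lit 3, nat_lit 8, nat_lit 5, nat_lit 7, nat_lit 3, nat_lit 0, nat_lit 7, nat_lit 6, nat_lit 1, nat_lit 4]) (.leaf [nat_lit 8, nat_lit 5, nat_lit 8, nat_lit 2, nat_lit 1, nat_lit 9, nat_lit 6, nat_lit 4, nat_lit 8, nat_lit 3, nat_lit 8, nat_lit 1, nat_lit 3, nat_lit 7, nat_lit 3, nat_lit 0, nat_lit 3])) (.node (nat_lit 209) (.leaf [nat_lit 1, nat_lit 9, nat_lit 6, nat_lit 0, nat_lit 9, nat_lit 5, nat_lit 3, nat_lit 7, nat_lit 8, nat_lit 4, nat_lit 1, nat_lit 7, nat_lit 0, nat_lit 4, nat_lit 0]) (.leaf [nat_lit 5, nat_lit 9, nat_lit 5, nat_lit 4, nat_lit 9, nat_lit 5, nat_lit 7, nat_lit 8, nat_lit 0, nat_lit 8, nat_lit 1, nat_lit 7, nat_lit 5, nat_lit 0, nat_lit 7, nat_lit 3, nat_lit 2, nat_lit 0])))))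
 (.node (nat_lit 217) (.node (nat_lit 213) (.node (nat_lit 211) (.leaf [nat_lit 1, nat_lit 7, nat_lit 9, nat_lit 3, nat_lit 9, nat_lit 8, nat_lit 0, nat_lit 8, nat_lit 5, nat_lit 1, nat_lit 8, nat_lit 5, nat_lit 7, nat_lit 3, nat_lit 0, nat_lit 7, nat_lit 4, nat_lit 1, nat_lit 4, nat_lit 2]) (.node (nat_lit 212) (.leaf [nat_lit 4, nat_lit 9, nat_lit 6, nat_lit 0, nat_lit 9, nat_lit 8, nat_lit 4, nat_lit 6, nat_lit 8, nat_lit 0, nat_lit 7, nat_lit 5, nat_lit 1, nat_lit 7, nat_lit 4, nat_lit 5]) (.leaf [nat_lit 3, nat_lit 9, nat_lit 3, nat_lit 0, nat_lit 9, nat_lit 4, nat_lit 8, nat_lit 4, nat_lit 6, nat_lit 8, nat_lit 7, nat_lit 3, nat_lit 6, nat_lit 7, nat_lit 0, nat_lit 6])))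
 (.node (nat_lit 215) (.node (nat_lit 214) (.leaf [nat_lit 0, nat_lit 8, nat_lit 3, nat_lit 9, nat_lit 6, nat_lit 8, nat_lit 6, nat_lit 4, nat_lit 8, nat_lit 6, nat_lit 1, nat_lit 7, nat_lit 3, nat_lit 2, nat_lit 0]) (.leaf [nat_lit 7, nat_lit 3, nat_lit 9, nat_lit 3, nat_lit 1, nat_lit 9, nat_lit 8, nat_lit 4, nat_lit 8, nat_lit 7, nat_lit 8, nat_lit 7, nat_lit 4, nat_lit 4, nat_lit 0, nat_lit 7, nat_lit 4, nat_lit 4])) (.node (nat_lit 216) (.leaf [nat_lit 0, nat_lit 8, nat_lit 3, nat_lit 9, nat_lit 8, nat_lit 4, nat_lit 4, nat_lit 8, nat_lit 5, nat_lit 7, nat_lit 4, nat_lit 7, nat_lit 0]) (.leaf [nat_lit 1, nat_lit 9, nat_lit 6, nat_lit 9, nat_lit 8, nat_lit 7, nat_lit 5, nat_lit 1, nat_lit 8, nat_lit 3, nat_lit 6, nat_lit 7, nat_lit 3, nat_lit 0]))))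
 (.node (nat_lit 220) (.node (nat_lit 218) (.leaf [nat_lit 9, nat_lit 7, nat_lit 8, nat_lit 6, nat_lit 9, nat_lit 3, nat_lit 6, nat_lit 8, nat_lit 3, nat_lit 7, nat_lit 3, nat_lit 7, nat_lit 0, nat_lit 5]) (.node (nat_lit 219) (.leaf [nat_lit 7, nat_lit 8, nat_lit 6, nat_lit 9, nat_lit 1, nat_lit 7, nat_lit 4, nat_lit 1, nat_lit 8, nat_lit 0, nat_lit 7, nat_lit 6, nat_lit 0, nat_lit 7, nat_lit 3, nat_lit 5, nat_lit 2, nat_lit 0]) (.leaf [nat_lit 7, nat_lit 6, nat_lit 8, nat_lit 3, nat_lit 9, nat_lit 0, nat_lit 4, nat_lit 8, nat_lit 1, nat_lit 8, nat_lit 4, nat_lit 0, nat_lit 7, nat_lit 3, nat_lit 1, nat_lit 4, nat_lit 0])))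
 (.node (nat_lit 222) (.node (nat_lit 221) (.leaf [nat_lit 4, nat_lit 0, nat_lit 9, nat_lit 6, nat_lit 9, nat_lit 1, nat_lit 8, nat_lit 4, nat_lit 8, nat_lit 1, nat_lit 7, nat_lit 5, nat_lit 3, nat_lit 2]) (.leaf [nat_lit 9, nat_lit 4, nat_lit 9, nat_lit 8, nat_lit 9, nat_lit 1, nat_lit 8, nat_lit 2, nat_lit 4, nat_lit 7, nat_lit 4, nat_lit 7, nat_lit 6, nat_lit 6, nat_lit 1])) (.node (nat_lit 223) (.leaf [nat_lit 4, nat_lit 7, nat_lit 9, nat_lit 4, nat_lit 0, nat_lit 9, nat_lit 8, nat_lit 5, nat_lit 8, nat_lit 5, nat_lit 1, nat_lit 8, nat_lit 7, nat_lit 5, nat_lit 3, nat_lit 0, nat_lit 7, nat_lit 1, nat_lit 4, nat_lit 2, nat_lit 1]) (.leaf [nat_lit 5, nat_lit 9, nat_lit 4, nat_lit 1, nat_lit 9, nat_lit 1, nat_lit 8, nat_lit 4, nat_lit 7, nat_lit 6, nat_lit 8, nat_lit 3, nat_lit 7, nat_lit 3, nat_lit 7, nat_lit 0, nat_lit 6, nat_lit 0])))))))))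
theorem cw_0 : cR.l.l.all2 (fun c w => isProd 693 (nat_lit 10) (nat_lit 1023) U62.T c w) cE.l.l = true := by decide +kernel
theorem cw_1 : cR.l.r.l.all2 (fun c w => isProd 693 (nat_lit 10) (nat_lit 1023) U62.T c w) cE.l.r.l = true := by decide +kernel
theorem cw_2 : cR.l.r.r.all2 (fun c w => isProd 693 (nat_lit 10) (nat_lit 1023) U62.T c w) cE.l.r.r = true := by decide +kernel
theorem cw_3 : cR.r.l.l.all2 (fun c w => isProd 693 (nat_lit 10) (nat_lit 1023) U62.T c w) cE.r.l.l = true := by decide +kernel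
theorem cw_4 : cR.r.l.r.all2 (fun c w => isProd 693 (nat_lit 10) (nat_lit 1023) U62.T c w) cE.r.l.r = true := by decide +kernel
theorem cw_5 : cR.r.r.l.all2 (fun c w => isProd 693 (nat_lit 10) (nat_lit 1023) U62.T c w) cE.r.r.l = true := by decide +kernel
theorem cw_6 : cR.r.r.r.all2 (fun c w => isProd 693 (nat_lit 10) (nat_lit 1023) U62.T c w) cE.r.r.r = true := by decide +kernel
theorem cw : cR.all2 (fun c w => isProd 693 (nat_lit 10) (nat_lit 1023) U62.T c w) cE = true := (Tr.all2_node (Tr.all2_node cw_0 (Tr.all2_node cw_1 cw_2)) (Tr.all2_node (Tr.all2_node cw_3 cw_4) (Tr.all2_node cw_5 cw_6)))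
noncomputable def cW_0 : Tr (ℕ × List ℕ) := (.node (nat_lit 84) (.node (nat_lit 42) (.node (nat_lit 21) (.node (nat_lit 10) (.node (nat_lit 5) (.node (nat_lit 2) (.node (nat_lit 1) (.leaf ((nat_lit 1), [])) (.leaf ((nat_lit 2), []))) (.node (nat_lit 3) (.leaf ((nat_lit 3), [])) (.node (nat_lit 4) (.leaf ((nat_lit 4), [])) (.leaf ((nat_lit 5), [])))))
 (.node (nat_lit 7) (.node (nat_lit 6) (.leaf ((nat_lit 6), [])) (.leaf ((nat_lit 0), []))) (.node (nat_lit 8) (.leaf ((nat_lit 7), [])) (.node (nat_lit 9) (.leaf ((nat_lit 8), [])) (.leaf ((nat_lit 9), []))))))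
 (.node (nat_lit 15) (.node (nat_lit 12) (.node (nat_lit 11) (.leaf ((nat_lit 10), [])) (.leaf ((nat_lit 11), []))) (.node (nat_lit 13) (.leaf ((nat_lit 114), [nat_lit 2, nat_lit 4, nat_lit 2, nat_lit 0, nat_lit 4, nat_lit 2, nat_lit 0, nat_lit 2, nat_lit 3])) (.node (nat_lit 14) (.leaf ((nat_lit 12), [])) (.leaf ((nat_lit 0), [])))))
 (.node (nat_lit 18) (.node (nat_lit 16) (.leaf ((nat_lit 13), [])) (.node (nat_lit 17) (.leaf ((nat_lit 13), [nat_lit 1, nat_lit 3, nat_lit 2, nat_lit 2])) (.leaf ((nat_lit 14), [])))) (.node (nat_lit 19) (.leaf ((nat_lit 15), [])) (.node (nat_lit 20) (.leaf ((nat_lit 0), [])) (.leaf ((nat_lit 12), [])))))))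
 (.node (nat_lit 31) (.node (nat_lit 26) (.node (nat_lit 23) (.node (nat_lit 22) (.leaf ((nat_lit 16), [])) (.leaf ((nat_lit 17), []))) (.node (nat_lit 24) (.leaf ((nat_lit 18), [])) (.node (nat_lit 25) (.leaf ((nat_lit 19), [])) (.leaf ((nat_lit 20), [])))))
 (.node (nat_lit 28) (.node (nat_lit 27) (.leaf ((nat_lit 21), [])) (.leaf ((nat_lit 0), []))) (.node (nat_lit 29) (.leaf ((nat_lit 22), [])) (.node (nat_lit 30) (.leaf ((nat_lit 23), [])) (.leaf ((nat_lit 24), []))))))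
 (.node (nat_lit 36) (.node (nat_lit 33) (.node (nat_lit 32) (.leaf ((nat_lit 25), [])) (.leaf ((nat_lit 25), [nat_lit 2, nat_lit 3, nat_lit 1, nat_lit 0, nat_lit 2]))) (.node (nat_lit 34) (.leaf ((nat_lit 26), [])) (.node (nat_lit 35) (.leaf ((nat_lit 0), [])) (.leaf ((nat_lit 19), [nat_lit 1, nat_lit 1, nat_lit 4, nat_lit 0, nat_lit 4, nat_lit 2, nat_lit 0, nat_lit 2, nat_lit 0, nat_lit 1, nat_lit 0])))))
 (.node (nat_lit 39) (.node (nat_lit 37) (.leaf ((nat_lit 27), [])) (.node (nat_lit 38) (.leaf ((nat_lit 28), [])) (.leaf ((nat_lit 29), [])))) (.node (nat_lit 40) (.leaf ((nat_lit 6), [nat_lit 4, nat_lit 1, nat_lit 3, nat_lit 1, nat_lit 1, nat_lit 0, nat_lit 2])) (.node (nat_lit 41) (.leaf ((nat_lit 6), [nat_lit 2, nat_lit 2, nat_lit 4, nat_lit 3, nat_lit 0, nat_lit 4, nat_lit 1, nat_lit 0, nat_lit 3, nat_lit 0, nat_lit 1])) (.leaf ((nat_lit 0), []))))))))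
 (.node (nat_lit 63) (.node (nat_lit 52) (.node (nat_lit 47) (.node (nat_lit 44) (.node (nat_lit 43) (.leaf ((nat_lit 30), [])) (.leaf ((nat_lit 31), []))) (.node (nat_lit 45) (.leaf ((nat_lit 1), [])) (.node (nat_lit 46) (.leaf ((nat_lit 32), [])) (.leaf ((nat_lit 33), [])))))
 (.node (nat_lit 49) (.node (nat_lit 48) (.leaf ((nat_lit 119), [nat_lit 1, nat_lit 4, nat_lit 1, nat_lit 3, nat_lit 4, nat_lit 3, nat_lit 2, nat_lit 2, nat_lit 0, nat_lit 1])) (.leaf ((nat_lit 34), []))) (.node (nat_lit 50) (.leaf ((nat_lit 1), [])) (.node (nat_lit 51) (.leaf ((nat_lit 31), [])) (.leaf ((nat_lit 35), []))))))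
 (.node (nat_lit 57) (.node (nat_lit 54) (.node (nat_lit 53) (.leaf ((nat_lit 36), [])) (.leaf ((nat_lit 37), []))) (.node (nat_lit 55) (.leaf ((nat_lit 26), [nat_lit 2, nat_lit 2, nat_lit 3, nat_lit 2, nat_lit 2])) (.node (nat_lit 56) (.leaf ((nat_lit 38), [])) (.leaf ((nat_lit 39), [])))))
 (.node (nat_lit 60) (.node (nat_lit 58) (.leaf ((nat_lit 1), [])) (.node (nat_lit 59) (.leaf ((nat_lit 9), [nat_lit 2, nat_lit 2, nat_lit 0, nat_lit 3, nat_lit 2, nat_lit 0])) (.leaf ((nat_lit 40), [])))) (.node (nat_lit 61) (.leaf ((nat_lit 28), [nat_lit 2, nat_lit 4, nat_lit 2, nat_lit 3, nat_lit 4, nat_lit 3, nat_lit 0, nat_lit 1, nat_lit 0, nat_lit 1, nat_lit 1, nat_lit 0])) (.node (nat_lit 62) (.leaf ((nat_lit 41), [])) (.leaf ((nat_lit 42), [])))))))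
 (.node (nat_lit 73) (.node (nat_lit 68) (.node (nat_lit 65) (.node (nat_lit 64) (.leaf ((nat_lit 10), [nat_lit 2, nat_lit 2, nat_lit 0, nat_lit 3, nat_lit 2, nat_lit 0])) (.leaf ((nat_lit 1), []))) (.node (nat_lit 66) (.leaf ((nat_lit 43), [])) (.node (nat_lit 67) (.leaf ((nat_lit 155), [nat_lit 0, nat_lit 4, nat_lit 2, nat_lit 2, nat_lit 3, nat_lit 0])) (.leaf ((nat_lit 44), [])))))
 (.node (nat_lit 70) (.node (nat_lit 69) (.leaf ((nat_lit 45), [])) (.leaf ((nat_lit 46), []))) (.node (nat_lit 71) (.leaf ((nat_lit 11), [nat_lit 2, nat_lit 2, nat_lit 4, nat_lit 3, nat_lit 0, nat_lit 4, nat_lit 1, nat_lit 0, nat_lit 3, nat_lit 0, nat_lit 1])) (.node (nat_lit 72) (.leaf ((nat_lit 1), [])) (.leaf ((nat_lit 148), [nat_lit 2, nat_lit 4, nat_lit 2, nat_lit 0, nat_lit 4, nat_lit 3, nat_lit 0, nat_lit 1, nat_lit 0, nat_lit 1]))))))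
 (.node (nat_lit 78) (.node (nat_lit 75) (.node (nat_lit 74) (.leaf ((nat_lit 3), [])) (.leaf ((nat_lit 2), []))) (.node (nat_lit 76) (.leaf ((nat_lit 12), [nat_lit 3, nat_lit 2, nat_lit 0, nat_lit 2, nat_lit 3, nat_lit 2, nat_lit 0])) (.node (nat_lit 77) (.leaf ((nat_lit 47), [])) (.leaf ((nat_lit 151), [nat_lit 2, nat_lit 4, nat_lit 0, nat_lit 4, nat_lit 1, nat_lit 3, nat_lit 2, nat_lit 2, nat_lit 0])))))
 (.node (nat_lit 81) (.node (nat_lit 79) (.leaf ((nat_lit 48), [])) (.node (nat_lit 80) (.leaf ((nat_lit 49), [])) (.leaf ((nat_lit 50), [])))) (.node (nat_lit 82) (.leaf ((nat_lit 2), [])) (.node (nat_lit 83) (.leaf ((nat_lit 2), [nat_lit 1, nat_lit 1, nat_lit 3, nat_lit 2])) (.leaf ((nat_lit 50), [nat_lit 2, nat_lit 4, nat_lit 2, nat_lit 3, nat_lit 4, nat_lit 1, nat_lit 3, nat_lit 1])))))))))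
 (.node (nat_lit 126) (.node (nat_lit 105) (.node (nat_lit 94) (.node (nat_lit 89) (.node (nat_lit 86) (.node (nat_lit 85) (.leaf ((nat_lit 126), [nat_lit 2, nat_lit 3, nat_lit 4, nat_lit 0, nat_lit 2, nat_lit 0, nat_lit 1])) (.leaf ((nat_lit 51), []))) (.node (nat_lit 87) (.leaf ((nat_lit 52), [])) (.node (nat_lit 88) (.leaf ((nat_lit 53), [])) (.leaf ((nat_lit 54), [])))))
 (.node (nat_lit 91) (.node (nat_lit 90) (.leaf ((nat_lit 2), [])) (.leaf ((nat_lit 3), []))) (.node (nat_lit 92) (.leaf ((nat_lit 152), [nat_lit 1, nat_lit 4, nat_lit 1, nat_lit 0, nat_lit 3, nat_lit 0, nat_lit 2])) (.node (nat_lit 93) (.leaf ((nat_lit 55), [])) (.leaf ((nat_lit 143), [nat_lit 2, nat_lit 4, nat_lit 2, nat_lit 0, nat_lit 4, nat_lit 1, nat_lit 1]))))))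
 (.node (nat_lit 99) (.node (nat_lit 96) (.node (nat_lit 95) (.leaf ((nat_lit 15), [nat_lit 3, nat_lit 2, nat_lit 0, nat_lit 3, nat_lit 2, nat_lit 0])) (.leaf ((nat_lit 56), []))) (.node (nat_lit 97) (.leaf ((nat_lit 49), [nat_lit 3, nat_lit 0, nat_lit 1, nat_lit 0])) (.node (nat_lit 98) (.leaf ((nat_lit 57), [])) (.leaf ((nat_lit 57), [nat_lit 0, nat_lit 3, nat_lit 0])))))
 (.node (nat_lit 102) (.node (nat_lit 100) (.leaf ((nat_lit 3), [])) (.node (nat_lit 101) (.leaf ((nat_lit 58), [])) (.leaf ((nat_lit 59), [])))) (.node (nat_lit 103) (.leaf ((nat_lit 129), [nat_lit 2, nat_lit 4, nat_lit 2, nat_lit 0, nat_lit 4, nat_lit 3, nat_lit 1, nat_lit 1])) (.node (nat_lit 104) (.leaf ((nat_lit 129), [nat_lit 2, nat_lit 4, nat_lit 2, nat_lit 0, nat_lit 4, nat_lit 2, nat_lit 2, nat_lit 3, nat_lit 1, nat_lit 0])) (.leaf ((nat_lit 129), [nat_lit 2, nat_lit 4, nat_lit 2, nat_lit 0, nat_lit 4, nat_lit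 2, nat_lit 0, nat_lit 1, nat_lit 3])))))))
 (.node (nat_lit 115) (.node (nat_lit 110) (.node (nat_lit 107) (.node (nat_lit 106) (.leaf ((nat_lit 160), [nat_lit 2, nat_lit 4, nat_lit 2, nat_lit 0, nat_lit 4, nat_lit 1, nat_lit 3, nat_lit 2, nat_lit 0, nat_lit 2, nat_lit 0])) (.leaf ((nat_lit 3), []))) (.node (nat_lit 108) (.leaf ((nat_lit 129), [nat_lit 4, nat_lit 1, nat_lit 0, nat_lit 1, nat_lit 4, nat_lit 2, nat_lit 3, nat_lit 0, nat_lit 2])) (.node (nat_lit 109) (.leaf ((nat_lit 130), [nat_lit 0, nat_lit 2, nat_lit 4, nat_lit 3, nat_lit 1, nat_lit 0, nat_lit 1, nat_lit 3, nat_lit 0])) (.leaf ((nat_lit 60), [])))))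
 (.node (nat_lit 112) (.node (nat_lit 111) (.leaf ((nat_lit 166), [nat_lit 4, nat_lit 3, nat_lit 0, nat_lit 1, nat_lit 0, nat_lit 2, nat_lit 2])) (.leaf ((nat_lit 18), [nat_lit 2, nat_lit 4, nat_lit 1, nat_lit 0, nat_lit 3, nat_lit 0]))) (.node (nat_lit 113) (.leaf ((nat_lit 61), [])) (.node (nat_lit 114) (.leaf ((nat_lit 3), [])) (.leaf ((nat_lit 4), []))))))
 (.node (nat_lit 120) (.node (nat_lit 117) (.node (nat_lit 116) (.leaf ((nat_lit 62), [])) (.leaf ((nat_lit 62), [nat_lit 3, nat_lit 2, nat_lit 0, nat_lit 3, nat_lit 2, nat_lit 0]))) (.node (nat_lit 118) (.leaf ((nat_lit 24), [nat_lit 2, nat_lit 2, nat_lit 3, nat_lit 2, nat_lit 2])) (.node (nat_lit 119) (.leaf ((nat_lit 151), [nat_lit 2, nat_lit 4, nat_lit 2, nat_lit 0, nat_lit 4, nat_lit 0, nat_lit 2, nat_lit 3, nat_lit 0])) (.leaf ((nat_lit 5), [nat_lit 4, nat_lit 2, nat_lit 2, nat_lit 0, nat_lit 4, nat_lit 1, nat_lit 0, nat_lit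 2, nat_lit 2, nat_lit 0])))))
 (.node (nat_lit 123) (.node (nat_lit 121) (.leaf ((nat_lit 63), [])) (.node (nat_lit 122) (.leaf ((nat_lit 64), [])) (.leaf ((nat_lit 4), [])))) (.node (nat_lit 124) (.leaf ((nat_lit 148), [nat_lit 2, nat_lit 4, nat_lit 2, nat_lit 0, nat_lit 4, nat_lit 0, nat_lit 2, nat_lit 2])) (.node (nat_lit 125) (.leaf ((nat_lit 141), [nat_lit 4, nat_lit 2, nat_lit 3, nat_lit 0, nat_lit 4, nat_lit 1, nat_lit 3, nat_lit 1, nat_lit 0, nat_lit 1])) (.leaf ((nat_lit 65), []))))))))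
 (.node (nat_lit 147) (.node (nat_lit 136) (.node (nat_lit 131) (.node (nat_lit 128) (.node (nat_lit 127) (.leaf ((nat_lit 135), [nat_lit 1, nat_lit 1, nat_lit 4, nat_lit 0, nat_lit 1, nat_lit 4, nat_lit 1, nat_lit 0, nat_lit 1, nat_lit 3])) (.leaf ((nat_lit 4), []))) (.node (nat_lit 129) (.leaf ((nat_lit 64), [])) (.node (nat_lit 130) (.leaf ((nat_lit 21), [nat_lit 2, nat_lit 0, nat_lit 1])) (.leaf ((nat_lit 31), [nat_lit 3, nat_lit 2, nat_lit 2, nat_lit 3])))))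
 (.node (nat_lit 133) (.node (nat_lit 132) (.leaf ((nat_lit 66), [])) (.leaf ((nat_lit 67), []))) (.node (nat_lit 134) (.leaf ((nat_lit 144), [nat_lit 2, nat_lit 4, nat_lit 2, nat_lit 0, nat_lit 4, nat_lit 3, nat_lit 0, nat_lit 2, nat_lit 0, nat_lit 2, nat_lit 0])) (.node (nat_lit 135) (.leaf ((nat_lit 68), [])) (.leaf ((nat_lit 149), [nat_lit 2, nat_lit 4, nat_lit 0, nat_lit 4, nat_lit 2, nat_lit 2, nat_lit 0]))))))
 (.node (nat_lit 141) (.node (nat_lit 138) (.node (nat_lit 137) (.leaf ((nat_lit 4), [])) (.leaf ((nat_lit 69), []))) (.node (nat_lit 139) (.leaf ((nat_lit 133), [nat_lit 0, nat_lit 4, nat_lit 0, nat_lit 2, nat_lit 0, nat_lit 4, nat_lit 3, nat_lit 2, nat_lit 0, nat_lit 2, nat_lit 3, nat_lit 2, nat_lit 0])) (.node (nat_lit 140) (.leaf ((nat_lit 47), [nat_lit 2, nat_lit 4, nat_lit 3, nat_lit 0, nat_lit 4, nat_lit 0, nat_lit 1, nat_lit 1, nat_lit 0, nat_lit 2, nat_lit 0])) (.leaf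 ((nat_lit 63), [nat_lit 4, nat_lit 3, nat_lit 0, nat_lit 4, nat_lit 2, nat_lit 3, nat_lit 2, nat_lit 2, nat_lit 0, nat_lit 1])))))
 (.node (nat_lit 144) (.node (nat_lit 142) (.leaf ((nat_lit 140), [nat_lit 2, nat_lit 0, nat_lit 2, nat_lit 4, nat_lit 1, nat_lit 1, nat_lit 0, nat_lit 3])) (.node (nat_lit 143) (.leaf ((nat_lit 140), [nat_lit 2, nat_lit 4, nat_lit 2, nat_lit 3, nat_lit 4, nat_lit 2, nat_lit 2, nat_lit 0])) (.leaf ((nat_lit 4), [])))) (.node (nat_lit 145) (.leaf ((nat_lit 5), [])) (.node (nat_lit 146) (.leaf ((nat_lit 70), [])) (.leaf ((nat_lit 179), [nat_lit 2, nat_lit 4, nat_lit 2, nat_lit 0, nat_lit 4, nat_lit 2, nat_lit 3, nat_lit 1, nat_lit 0])))))))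
 (.node (nat_lit 157) (.node (nat_lit 152) (.node (nat_lit 149) (.node (nat_lit 148) (.leaf ((nat_lit 19), [nat_lit 1, nat_lit 1, nat_lit 3, nat_lit 1, nat_lit 1])) (.leaf ((nat_lit 161), [nat_lit 2, nat_lit 4, nat_lit 2, nat_lit 0, nat_lit 4, nat_lit 0, nat_lit 3, nat_lit 1, nat_lit 0, nat_lit 2, nat_lit 0]))) (.node (nat_lit 150) (.leaf ((nat_lit 71), [])) (.node (nat_lit 151) (.leaf ((nat_lit 137), [nat_lit 2, nat_lit 4, nat_lit 2, nat_lit 0, nat_lit 4, nat_lit 2, nat_lit 3, nat_lit 0, nat_lit 2, nat_lit 3])) (.leaf ((nat_lit 5), [nat_lit 2, nat_lit 3, nat_lit 1, nat_lit 0, nat_lit 2])))))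
 (.node (nat_lit 154) (.node (nat_lit 153) (.leaf ((nat_lit 5), [])) (.leaf ((nat_lit 34), [nat_lit 3, nat_lit 1, nat_lit 1, nat_lit 0]))) (.node (nat_lit 155) (.leaf ((nat_lit 72), [])) (.node (nat_lit 156) (.leaf ((nat_lit 180), [nat_lit 2, nat_lit 4, nat_lit 3, nat_lit 0, nat_lit 4])) (.leaf ((nat_lit 9), [nat_lit 1, nat_lit 1, nat_lit 3, nat_lit 1, nat_lit 1]))))))
 (.node (nat_lit 162) (.node (nat_lit 159) (.node (nat_lit 158) (.leaf ((nat_lit 58), [nat_lit 2, nat_lit 3, nat_lit 2])) (.leaf ((nat_lit 73), []))) (.node (nat_lit 160) (.leaf ((nat_lit 5), [])) (.node (nat_lit 161) (.leaf ((nat_lit 149), [nat_lit 2, nat_lit 4, nat_lit 0, nat_lit 4, nat_lit 2, nat_lit 2, nat_lit 0])) (.leaf ((nat_lit 74), [])))))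
 (.node (nat_lit 165) (.node (nat_lit 163) (.leaf ((nat_lit 6), [])) (.node (nat_lit 164) (.leaf ((nat_lit 154), [nat_lit 1, nat_lit 0, nat_lit 4, nat_lit 1, nat_lit 0, nat_lit 3, nat_lit 0, nat_lit 1])) (.leaf ((nat_lit 153), [nat_lit 1, nat_lit 0, nat_lit 4, nat_lit 1, nat_lit 0, nat_lit 3, nat_lit 0, nat_lit 1])))) (.node (nat_lit 166) (.leaf ((nat_lit 33), [nat_lit 4, nat_lit 2, nat_lit 2, nat_lit 0, nat_lit 4, nat_lit 0, nat_lit 1, nat_lit 3, nat_lit 1, nat_lit 1, nat_lit 0])) (.node (nat_lit 167) (.leaf ((nat_lit 75), [])) (.leaf ((nat_lit 140), [nat_lit 4, nat_lit 0, nat_lit 2, nat_lit 2, nat_lit 4, nat_lit 0, nat_lit 3, nat_lit 1, nat_lit 0, nat_lit 3]))))))))))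
noncomputable def cW_1 : Tr (ℕ × List ℕ) := (.node (nat_lit 252) (.node (nat_lit 210) (.node (nat_lit 189) (.node (nat_lit 178) (.node (nat_lit 173) (.node (nat_lit 170) (.node (nat_lit 169) (.leaf ((nat_lit 10), [nat_lit 2, nat_lit 0, nat_lit 4, nat_lit 0, nat_lit 4, nat_lit 2, nat_lit 2, nat_lit 0, nat_lit 2, nat_lit 0])) (.leaf ((nat_lit 56), [nat_lit 1, nat_lit 1, nat_lit 4, nat_lit 0, nat_lit 4, nat_lit 3, nat_lit 0, nat_lit 2, nat_lit 2, nat_lit 3, nat_lit 0]))) (.node (nat_lit 171) (.leaf ((nat_lit 6), [])) (.node (nat_lit 172) (.leaf ((nat_lit 135), [nat_lit 1, nat_lit 1, nat_lit 3, nat_lit 4, nat_lit 2, nat_lit 3, nat_lit 0])) (.leaf ((nat_lit 135), [nat_lit 4, nat_lit 1, nat_lit 0, nat_lit 1, nat_lit 4, nat_lit 1, nat_lit 1, nat_lit 0, nat_lit 1])))))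
 (.node (nat_lit 175) (.node (nat_lit 174) (.leaf ((nat_lit 139), [nat_lit 4, nat_lit 0, nat_lit 2, nat_lit 2, nat_lit 4, nat_lit 0, nat_lit 3, nat_lit 0, nat_lit 1, nat_lit 0])) (.leaf ((nat_lit 141), [nat_lit 1, nat_lit 0, nat_lit 4, nat_lit 2, nat_lit 0, nat_lit 4, nat_lit 3, nat_lit 0, nat_lit 1, nat_lit 1, nat_lit 3]))) (.node (nat_lit 176) (.leaf ((nat_lit 6), [])) (.node (nat_lit 177) (.leaf ((nat_lit 56), [nat_lit 1, nat_lit 1, nat_lit 4, nat_lit 0, nat_lit 4, nat_lit 3, nat_lit 0, nat_lit 2, nat_lit 2, nat_lit 3, nat_lit 0])) (.leaf ((nat_lit 76), []))))))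
 (.node (nat_lit 183) (.node (nat_lit 180) (.node (nat_lit 179) (.leaf ((nat_lit 132), [nat_lit 1, nat_lit 4, nat_lit 0, nat_lit 1, nat_lit 4, nat_lit 3, nat_lit 2, nat_lit 0, nat_lit 1, nat_lit 0])) (.leaf ((nat_lit 77), []))) (.node (nat_lit 181) (.leaf ((nat_lit 7), [])) (.node (nat_lit 182) (.leaf ((nat_lit 59), [nat_lit 0, nat_lit 2, nat_lit 4, nat_lit 0, nat_lit 4, nat_lit 2, nat_lit 2, nat_lit 3, nat_lit 0, nat_lit 2])) (.leaf ((nat_lit 78), [])))))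
 (.node (nat_lit 186) (.node (nat_lit 184) (.leaf ((nat_lit 169), [nat_lit 2, nat_lit 4, nat_lit 2, nat_lit 0, nat_lit 4, nat_lit 1, nat_lit 0, nat_lit 2, nat_lit 0, nat_lit 2])) (.node (nat_lit 185) (.leaf ((nat_lit 162), [nat_lit 2, nat_lit 4, nat_lit 2, nat_lit 0, nat_lit 4, nat_lit 0, nat_lit 1, nat_lit 1, nat_lit 0, nat_lit 2])) (.leaf ((nat_lit 79), [])))) (.node (nat_lit 187) (.leaf ((nat_lit 170), [nat_lit 2, nat_lit 4, nat_lit 2, nat_lit 0, nat_lit 4, nat_lit 1, nat_lit 0, nat_lit 3, nat_lit 2, nat_lit 2, nat_lit 0])) (.node (nat_lit 188) (.leaf ((nat_lit 8), [])) (.leaf ((nat_lit 7), [])))))))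
 (.node (nat_lit 199) (.node (nat_lit 194) (.node (nat_lit 191) (.node (nat_lit 190) (.leaf ((nat_lit 127), [nat_lit 2, nat_lit 4, nat_lit 2, nat_lit 0, nat_lit 4, nat_lit 3, nat_lit 2, nat_lit 0, nat_lit 2, nat_lit 3])) (.leaf ((nat_lit 21), [nat_lit 3, nat_lit 1, nat_lit 1, nat_lit 3]))) (.node (nat_lit 192) (.leaf ((nat_lit 80), [])) (.node (nat_lit 193) (.leaf ((nat_lit 144), [nat_lit 2, nat_lit 4, nat_lit 2, nat_lit 0, nat_lit 4, nat_lit 1, nat_lit 1, nat_lit 0, nat_lit 1, nat_lit 1])) (.leaf ((nat_lit 177), [nat_lit 0, nat_lit 2, nat_lit 4, nat_lit 2, nat_lit 0, nat_lit 4, nat_lit 3, nat_lit 0, nat_lit 1, nat_lit 0, nat_lit 1, nat_lit 0])))))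
 (.node (nat_lit 196) (.node (nat_lit 195) (.leaf ((nat_lit 134), [nat_lit 2, nat_lit 4, nat_lit 2, nat_lit 0, nat_lit 4, nat_lit 3, nat_lit 2, nat_lit 2, nat_lit 0, nat_lit 1, nat_lit 0])) (.leaf ((nat_lit 7), []))) (.node (nat_lit 197) (.leaf ((nat_lit 81), [])) (.node (nat_lit 198) (.leaf ((nat_lit 159), [nat_lit 4, nat_lit 1, nat_lit 0, nat_lit 1, nat_lit 4, nat_lit 0, nat_lit 2, nat_lit 3, nat_lit 0])) (.leaf ((nat_lit 73), [nat_lit 2, nat_lit 0]))))))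
 (.node (nat_lit 204) (.node (nat_lit 201) (.node (nat_lit 200) (.leaf ((nat_lit 190), [nat_lit 2, nat_lit 4, nat_lit 2, nat_lit 0, nat_lit 4, nat_lit 3, nat_lit 0, nat_lit 1, nat_lit 0, nat_lit 1, nat_lit 0])) (.leaf ((nat_lit 171), [nat_lit 4, nat_lit 2, nat_lit 0, nat_lit 4, nat_lit 0, nat_lit 2, nat_lit 2, nat_lit 3, nat_lit 2, nat_lit 2]))) (.node (nat_lit 202) (.leaf ((nat_lit 27), [nat_lit 2, nat_lit 4, nat_lit 2, nat_lit 3, nat_lit 4, nat_lit 3, nat_lit 1])) (.node (nat_lit 203) (.leaf ((nat_lit 7), [])) (.leaf ((nat_lit 82), [])))))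
 (.node (nat_lit 207) (.node (nat_lit 205) (.leaf ((nat_lit 8), [])) (.node (nat_lit 206) (.leaf ((nat_lit 83), [])) (.leaf ((nat_lit 84), [])))) (.node (nat_lit 208) (.leaf ((nat_lit 25), [nat_lit 0, nat_lit 2, nat_lit 2, nat_lit 3])) (.node (nat_lit 209) (.leaf ((nat_lit 85), [])) (.leaf ((nat_lit 86), []))))))))
 (.node (nat_lit 231) (.node (nat_lit 220) (.node (nat_lit 215) (.node (nat_lit 212) (.node (nat_lit 211) (.leaf ((nat_lit 147), [nat_lit 2, nat_lit 4, nat_lit 2, nat_lit 0, nat_lit 4, nat_lit 2, nat_lit 3, nat_lit 0, nat_lit 2, nat_lit 3])) (.leaf ((nat_lit 87), []))) (.node (nat_lit 213) (.leaf ((nat_lit 160), [nat_lit 2, nat_lit 4, nat_lit 2, nat_lit 0, nat_lit 4, nat_lit 3, nat_lit 1, nat_lit 0, nat_lit 1, nat_lit 3, nat_lit 0])) (.node (nat_lit 214) (.leaf ((nat_lit 8), [])) (.leaf ((nat_lit 76), [nat_lit 2, nat_lit 4, nat_lit 2, nat_lit 3, nat_lit 4, nat_lit 1, nat_lit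 1, nat_lit 3, nat_lit 1, nat_lit 0])))))
 (.node (nat_lit 217) (.node (nat_lit 216) (.leaf ((nat_lit 150), [nat_lit 0, nat_lit 2, nat_lit 4, nat_lit 2, nat_lit 0, nat_lit 4, nat_lit 2, nat_lit 2, nat_lit 3, nat_lit 2])) (.leaf ((nat_lit 124), [nat_lit 2, nat_lit 4, nat_lit 2, nat_lit 0, nat_lit 4, nat_lit 1, nat_lit 0, nat_lit 1, nat_lit 1, nat_lit 3]))) (.node (nat_lit 218) (.leaf ((nat_lit 196), [nat_lit 2, nat_lit 4, nat_lit 2, nat_lit 0, nat_lit 4, nat_lit 1, nat_lit 1, nat_lit 3, nat_lit 1, nat_lit 1])) (.node (nat_lit 219) (.leaf ((nat_lit 195), [nat_lit 2, nat_lit 4, nat_lit 2, nat_lit 0, nat_lit 4, nat_lit 1, nat_lit 1, nat_lit 3, nat_lit 1, nat_lit 1])) (.leaf ((nat_lit 132), [nat_lit 2, nat_lit 4, nat_lit 2, nat_lit 0, nat_lit 4, nat_lit 0, nat_lit 1, nat_lit 1, nat_lit 3]))))))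
 (.node (nat_lit 225) (.node (nat_lit 222) (.node (nat_lit 221) (.leaf ((nat_lit 8), [])) (.leaf ((nat_lit 60), [nat_lit 2, nat_lit 3, nat_lit 4, nat_lit 0, nat_lit 1, nat_lit 0, nat_lit 1, nat_lit 3, nat_lit 0]))) (.node (nat_lit 223) (.leaf ((nat_lit 149), [nat_lit 0, nat_lit 2, nat_lit 4, nat_lit 3, nat_lit 1, nat_lit 0, nat_lit 1, nat_lit 3, nat_lit 0])) (.node (nat_lit 224) (.leaf ((nat_lit 149), [nat_lit 1, nat_lit 0, nat_lit 4, nat_lit 2, nat_lit 0, nat_lit 4, nat_lit 3, nat_lit 0, nat_lit 2, nat_lit 0, nat_lit 2])) (.leaf ((nat_lit 149), [nat_lit 4, nat_lit 1, nat_lit 3, nat_lit 0, nat_lit 4, nat_lit 2, nat_lit 3, nat_lit 0, nat_lit 1, nat_lit 1, nat_lit 0])))))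
 (.node (nat_lit 228) (.node (nat_lit 226) (.leaf ((nat_lit 134), [nat_lit 2, nat_lit 4, nat_lit 2, nat_lit 2, nat_lit 0, nat_lit 4, nat_lit 2, nat_lit 0, nat_lit 1, nat_lit 3, nat_lit 2, nat_lit 0])) (.node (nat_lit 227) (.leaf ((nat_lit 138), [nat_lit 2, nat_lit 4, nat_lit 2, nat_lit 2, nat_lit 0, nat_lit 4, nat_lit 2, nat_lit 0, nat_lit 1, nat_lit 3, nat_lit 2, nat_lit 0])) (.leaf ((nat_lit 8), [])))) (.node (nat_lit 229) (.leaf ((nat_lit 88), [])) (.node (nat_lit 230) (.leaf ((nat_lit 193), [nat_lit 2, nat_lit 4, nat_lit 2, nat_lit 0, nat_lit 4, nat_lit 1, nat_lit 0, nat_lit 1, nat_lit 1])) (.leaf ((nat_lit 9), [])))))))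
 (.node (nat_lit 241) (.node (nat_lit 236) (.node (nat_lit 233) (.node (nat_lit 232) (.leaf ((nat_lit 180), [nat_lit 2, nat_lit 4, nat_lit 2, nat_lit 0, nat_lit 4, nat_lit 0, nat_lit 2, nat_lit 0, nat_lit 2, nat_lit 3])) (.leaf ((nat_lit 83), [nat_lit 2, nat_lit 0, nat_lit 3, nat_lit 2]))) (.node (nat_lit 234) (.leaf ((nat_lit 147), [nat_lit 4, nat_lit 2, nat_lit 0, nat_lit 4, nat_lit 0, nat_lit 2, nat_lit 3, nat_lit 0, nat_lit 1, nat_lit 0])) (.node (nat_lit 235) (.leaf ((nat_lit 151), [nat_lit 2, nat_lit 4, nat_lit 2, nat_lit 0, nat_lit 4, nat_lit 2, nat_lit 0, nat_lit 1, nat_lit 1, nat_lit 3, nat_lit 2])) (.leaf ((nat_lit 9), [])))))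
 (.node (nat_lit 238) (.node (nat_lit 237) (.leaf ((nat_lit 193), [nat_lit 2, nat_lit 4, nat_lit 2, nat_lit 0, nat_lit 4, nat_lit 1, nat_lit 0, nat_lit 1, nat_lit 1])) (.leaf ((nat_lit 167), [nat_lit 2, nat_lit 4, nat_lit 2, nat_lit 0, nat_lit 4, nat_lit 3, nat_lit 2, nat_lit 0, nat_lit 2, nat_lit 0]))) (.node (nat_lit 239) (.leaf ((nat_lit 131), [nat_lit 2, nat_lit 4, nat_lit 2, nat_lit 0, nat_lit 4, nat_lit 3, nat_lit 2, nat_lit 2, nat_lit 0, nat_lit 1])) (.node (nat_lit 240) (.leaf ((nat_lit 124), [nat_lit 1, nat_lit 4, nat_lit 0, nat_lit 1, nat_lit 4, nat_lit 3, nat_lit 0, nat_lit 1, nat_lit 0, nat_lit 1])) (.leaf ((nat_lit 89), []))))))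
 (.node (nat_lit 246) (.node (nat_lit 243) (.node (nat_lit 242) (.leaf ((nat_lit 188), [nat_lit 1, nat_lit 4, nat_lit 0, nat_lit 1, nat_lit 4, nat_lit 2, nat_lit 0, nat_lit 3, nat_lit 0, nat_lit 2])) (.leaf ((nat_lit 127), [nat_lit 1, nat_lit 0, nat_lit 2, nat_lit 4, nat_lit 3, nat_lit 0, nat_lit 1, nat_lit 1, nat_lit 3, nat_lit 0]))) (.node (nat_lit 244) (.leaf ((nat_lit 184), [nat_lit 4, nat_lit 3, nat_lit 0, nat_lit 4, nat_lit 2, nat_lit 3, nat_lit 0, nat_lit 2])) (.node (nat_lit 245) (.leaf ((nat_lit 59), [nat_lit 0, nat_lit 4, nat_lit 0, nat_lit 4, nat_lit 0, nat_lit 1, nat_lit 3, nat_lit 0])) (.leaf ((nat_lit 9), [])))))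
 (.node (nat_lit 249) (.node (nat_lit 247) (.leaf ((nat_lit 90), [])) (.node (nat_lit 248) (.leaf ((nat_lit 139), [nat_lit 4, nat_lit 2, nat_lit 3, nat_lit 0, nat_lit 4, nat_lit 2, nat_lit 3, nat_lit 1, nat_lit 0])) (.leaf ((nat_lit 10), [])))) (.node (nat_lit 250) (.leaf ((nat_lit 170), [nat_lit 2, nat_lit 4, nat_lit 2, nat_lit 0, nat_lit 4, nat_lit 0, nat_lit 3, nat_lit 2, nat_lit 0, nat_lit 1])) (.node (nat_lit 251) (.leaf ((nat_lit 48), [nat_lit 3, nat_lit 1, nat_lit 1])) (.leaf ((nat_lit 87), [nat_lit 4, nat_lit 2, nat_lit 3, nat_lit 4, nat_lit 1, nat_lit 3, nat_lit 2, nat_lit 0, nat_lit 1])))))))))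
 (.node (nat_lit 294) (.node (nat_lit 273) (.node (nat_lit 262) (.node (nat_lit 257) (.node (nat_lit 254) (.node (nat_lit 253) (.leaf ((nat_lit 154), [nat_lit 2, nat_lit 4, nat_lit 2, nat_lit 0, nat_lit 4, nat_lit 0, nat_lit 2, nat_lit 0, nat_lit 3, nat_lit 2, nat_lit 0])) (.leaf ((nat_lit 10), []))) (.node (nat_lit 255) (.leaf ((nat_lit 139), [nat_lit 4, nat_lit 2, nat_lit 3, nat_lit 0, nat_lit 4, nat_lit 2, nat_lit 3, nat_lit 1, nat_lit 0])) (.node (nat_lit 256) (.leaf ((nat_lit 91), [])) (.leaf ((nat_lit 201), [nat_lit 1, nat_lit 4, nat_lit 2, nat_lit 2, nat_lit 3, nat_lit 2])))))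
 (.node (nat_lit 259) (.node (nat_lit 258) (.leaf ((nat_lit 92), [])) (.leaf ((nat_lit 123), [nat_lit 0, nat_lit 4, nat_lit 2, nat_lit 2, nat_lit 3, nat_lit 0]))) (.node (nat_lit 260) (.leaf ((nat_lit 198), [nat_lit 0, nat_lit 4, nat_lit 3, nat_lit 2])) (.node (nat_lit 261) (.leaf ((nat_lit 158), [nat_lit 4, nat_lit 2, nat_lit 3, nat_lit 4, nat_lit 2, nat_lit 0, nat_lit 1, nat_lit 3])) (.leaf ((nat_lit 194), [nat_lit 4, nat_lit 0, nat_lit 2, nat_lit 4, nat_lit 0, nat_lit 4, nat_lit 1, nat_lit 1, nat_lit 0, nat_lit 1, nat_lit 1]))))))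
 (.node (nat_lit 267) (.node (nat_lit 264) (.node (nat_lit 263) (.leaf ((nat_lit 93), [])) (.leaf ((nat_lit 10), []))) (.node (nat_lit 265) (.leaf ((nat_lit 164), [nat_lit 1, nat_lit 0, nat_lit 4, nat_lit 2, nat_lit 0, nat_lit 4, nat_lit 0, nat_lit 1, nat_lit 1])) (.node (nat_lit 266) (.leaf ((nat_lit 94), [])) (.leaf ((nat_lit 11), [])))))
 (.node (nat_lit 270) (.node (nat_lit 268) (.leaf ((nat_lit 95), [])) (.node (nat_lit 269) (.leaf ((nat_lit 96), [])) (.leaf ((nat_lit 97), [])))) (.node (nat_lit 271) (.leaf ((nat_lit 98), [])) (.node (nat_lit 272) (.leaf ((nat_lit 11), [])) (.leaf ((nat_lit 94), [])))))))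
 (.node (nat_lit 283) (.node (nat_lit 278) (.node (nat_lit 275) (.node (nat_lit 274) (.leaf ((nat_lit 45), [nat_lit 3, nat_lit 2, nat_lit 4, nat_lit 1, nat_lit 0, nat_lit 3, nat_lit 2, nat_lit 2, nat_lit 0])) (.leaf ((nat_lit 45), [nat_lit 4, nat_lit 3, nat_lit 1, nat_lit 4, nat_lit 0, nat_lit 3]))) (.node (nat_lit 276) (.leaf ((nat_lit 201), [nat_lit 4, nat_lit 3, nat_lit 1, nat_lit 4, nat_lit 2, nat_lit 0, nat_lit 2, nat_lit 0, nat_lit 1, nat_lit 0])) (.node (nat_lit 277) (.leaf ((nat_lit 74), [nat_lit 2, nat_lit 2, nat_lit 4, nat_lit 2, nat_lit 0, nat_lit 4, nat_lit 2, nat_lit 3, nat_lit 0, nat_lit 1, nat_lit 0])) (.leaf ((nat_lit 155), [nat_lit 3, nat_lit 0, nat_lit 4, nat_lit 1, nat_lit 1, nat_lit 0, nat_lit 2, nat_lit 0])))))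
 (.node (nat_lit 280) (.node (nat_lit 279) (.leaf ((nat_lit 99), [])) (.leaf ((nat_lit 11), []))) (.node (nat_lit 281) (.leaf ((nat_lit 100), [])) (.node (nat_lit 282) (.leaf ((nat_lit 210), [nat_lit 3, nat_lit 4, nat_lit 2, nat_lit 3, nat_lit 4, nat_lit 2, nat_lit 3, nat_lit 2])) (.leaf ((nat_lit 159), [nat_lit 2, nat_lit 4, nat_lit 2, nat_lit 0, nat_lit 4, nat_lit 2, nat_lit 2, nat_lit 0, nat_lit 3, nat_lit 1, nat_lit 0]))))))
 (.node (nat_lit 288) (.node (nat_lit 285) (.node (nat_lit 284) (.leaf ((nat_lit 187), [nat_lit 4, nat_lit 2, nat_lit 3, nat_lit 0, nat_lit 4, nat_lit 0, nat_lit 3, nat_lit 1, nat_lit 0, nat_lit 2, nat_lit 0])) (.leaf ((nat_lit 23), [nat_lit 2, nat_lit 4, nat_lit 2, nat_lit 2, nat_lit 0, nat_lit 4, nat_lit 0, nat_lit 3, nat_lit 1, nat_lit 1, nat_lit 0]))) (.node (nat_lit 286) (.leaf ((nat_lit 65), [nat_lit 3, nat_lit 4, nat_lit 3, nat_lit 0, nat_lit 4, nat_lit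 0, nat_lit 2, nat_lit 3, nat_lit 0, nat_lit 2, nat_lit 0])) (.node (nat_lit 287) (.leaf ((nat_lit 12), [])) (.leaf ((nat_lit 144), [nat_lit 4, nat_lit 2, nat_lit 0, nat_lit 4, nat_lit 0, nat_lit 2, nat_lit 3, nat_lit 2, nat_lit 0])))))
 (.node (nat_lit 291) (.node (nat_lit 289) (.leaf ((nat_lit 13), [])) (.node (nat_lit 290) (.leaf ((nat_lit 147), [nat_lit 2, nat_lit 4, nat_lit 2, nat_lit 0, nat_lit 4, nat_lit 1, nat_lit 3, nat_lit 2, nat_lit 0, nat_lit 2, nat_lit 0])) (.leaf ((nat_lit 72), [nat_lit 1, nat_lit 1, nat_lit 3, nat_lit 0, nat_lit 1, nat_lit 0])))) (.node (nat_lit 292) (.leaf ((nat_lit 129), [nat_lit 2, nat_lit 4, nat_lit 2, nat_lit 0, nat_lit 4, nat_lit 3, nat_lit 1, nat_lit 0, nat_lit 1, nat_lit 3, nat_lit 0])) (.node (nat_lit 293) (.leaf ((nat_lit 41), [nat_lit 2, nat_lit 2, nat_lit 3])) (.leaf ((nat_lit 99), [nat_lit 0, nat_lit 3, nat_lit 4, nat_lit 1, nat_lit 0, nat_lit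 3]))))))))
 (.node (nat_lit 315) (.node (nat_lit 304) (.node (nat_lit 299) (.node (nat_lit 296) (.node (nat_lit 295) (.leaf ((nat_lit 16), [nat_lit 0, nat_lit 2, nat_lit 0, nat_lit 3])) (.leaf ((nat_lit 101), []))) (.node (nat_lit 297) (.leaf ((nat_lit 13), [])) (.node (nat_lit 298) (.leaf ((nat_lit 202), [nat_lit 2, nat_lit 4, nat_lit 2, nat_lit 0, nat_lit 4, nat_lit 0, nat_lit 2, nat_lit 3, nat_lit 0, nat_lit 2, nat_lit 0])) (.leaf ((nat_lit 136), [nat_lit 2, nat_lit 4, nat_lit 2, nat_lit 0, nat_lit 4, nat_lit 0, nat_lit 1, nat_lit 3, nat_lit 0])))))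
 (.node (nat_lit 301) (.node (nat_lit 300) (.leaf ((nat_lit 102), [])) (.leaf ((nat_lit 162), [nat_lit 2, nat_lit 4, nat_lit 2, nat_lit 0, nat_lit 4, nat_lit 3, nat_lit 2, nat_lit 0, nat_lit 3, nat_lit 0]))) (.node (nat_lit 302) (.leaf ((nat_lit 13), [])) (.node (nat_lit 303) (.leaf ((nat_lit 101), [])) (.leaf ((nat_lit 83), [nat_lit 2, nat_lit 0, nat_lit 2, nat_lit 3, nat_lit 0, nat_lit 2]))))))
 (.node (nat_lit 309) (.node (nat_lit 306) (.node (nat_lit 305) (.leaf ((nat_lit 142), [nat_lit 2, nat_lit 4, nat_lit 2, nat_lit 0, nat_lit 4, nat_lit 1, nat_lit 3, nat_lit 0, nat_lit 2, nat_lit 0])) (.leaf ((nat_lit 13), [nat_lit 0, nat_lit 2, nat_lit 4, nat_lit 0, nat_lit 4, nat_lit 0, nat_lit 1, nat_lit 3, nat_lit 2, nat_lit 2]))) (.node (nat_lit 307) (.leaf ((nat_lit 194), [nat_lit 3, nat_lit 0, nat_lit 4, nat_lit 3, nat_lit 2, nat_lit 2])) (.node (nat_lit 308) (.leaf ((nat_lit 100), [nat_lit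 1, nat_lit 1, nat_lit 4, nat_lit 0, nat_lit 1, nat_lit 4, nat_lit 2, nat_lit 0, nat_lit 2, nat_lit 3, nat_lit 2, nat_lit 2])) (.leaf ((nat_lit 14), [])))))
 (.node (nat_lit 312) (.node (nat_lit 310) (.leaf ((nat_lit 173), [nat_lit 0, nat_lit 2, nat_lit 4, nat_lit 2, nat_lit 0, nat_lit 4, nat_lit 2, nat_lit 0, nat_lit 3])) (.node (nat_lit 311) (.leaf ((nat_lit 51), [nat_lit 2, nat_lit 3, nat_lit 0, nat_lit 4, nat_lit 0, nat_lit 3, nat_lit 1])) (.leaf ((nat_lit 103), [])))) (.node (nat_lit 313) (.leaf ((nat_lit 156), [nat_lit 1, nat_lit 1, nat_lit 4, nat_lit 0, nat_lit 4, nat_lit 1, nat_lit 1, nat_lit 3, nat_lit 0, nat_lit 1])) (.node (nat_lit 314) (.leaf ((nat_lit 14), [])) (.leaf ((nat_lit 100), [nat_lit 1, nat_lit 1, nat_lit 4, nat_lit 0, nat_lit 1, nat_lit 4, nat_lit 2, nat_lit 0, nat_lit 2, nat_lit 3, nat_lit 2, nat_lit 2])))))))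
 (.node (nat_lit 325) (.node (nat_lit 320) (.node (nat_lit 317) (.node (nat_lit 316) (.leaf ((nat_lit 104), [])) (.leaf ((nat_lit 105), []))) (.node (nat_lit 318) (.leaf ((nat_lit 106), [])) (.node (nat_lit 319) (.leaf ((nat_lit 96), [nat_lit 2, nat_lit 4, nat_lit 3, nat_lit 2, nat_lit 2, nat_lit 3])) (.leaf ((nat_lit 183), [nat_lit 3, nat_lit 1, nat_lit 4, nat_lit 2, nat_lit 2, nat_lit 0, nat_lit 3, nat_lit 1, nat_lit 0])))))
 (.node (nat_lit 322) (.node (nat_lit 321) (.leaf ((nat_lit 104), [nat_lit 2, nat_lit 4, nat_lit 3, nat_lit 2, nat_lit 4, nat_lit 2, nat_lit 2, nat_lit 3, nat_lit 0, nat_lit 2, nat_lit 0])) (.leaf ((nat_lit 14), []))) (.node (nat_lit 323) (.leaf ((nat_lit 204), [nat_lit 1, nat_lit 0, nat_lit 4, nat_lit 1, nat_lit 3, nat_lit 2])) (.node (nat_lit 324) (.leaf ((nat_lit 205), [nat_lit 4, nat_lit 2, nat_lit 4, nat_lit 2, nat_lit 0, nat_lit 4, nat_lit 2, nat_lit 0, nat_lit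 2, nat_lit 3, nat_lit 2])) (.leaf ((nat_lit 166), [nat_lit 4, nat_lit 1, nat_lit 1, nat_lit 3, nat_lit 4, nat_lit 3, nat_lit 2, nat_lit 0, nat_lit 2, nat_lit 3]))))))
 (.node (nat_lit 330) (.node (nat_lit 327) (.node (nat_lit 326) (.leaf ((nat_lit 130), [nat_lit 1, nat_lit 0, nat_lit 4, nat_lit 0, nat_lit 2, nat_lit 3, nat_lit 1, nat_lit 0])) (.leaf ((nat_lit 215), [nat_lit 2, nat_lit 0, nat_lit 4, nat_lit 0, nat_lit 4, nat_lit 0, nat_lit 3, nat_lit 1, nat_lit 0, nat_lit 2, nat_lit 2]))) (.node (nat_lit 328) (.leaf ((nat_lit 94), [nat_lit 3, nat_lit 2, nat_lit 4, nat_lit 3, nat_lit 0, nat_lit 1, nat_lit 0, nat_lit 2])) (.node (nat_lit 329) (.leaf ((nat_lit 14), [])) (.leaf ((nat_lit 107), [])))))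
 (.node (nat_lit 333) (.node (nat_lit 331) (.leaf ((nat_lit 167), [nat_lit 2, nat_lit 4, nat_lit 2, nat_lit 0, nat_lit 4, nat_lit 2, nat_lit 0, nat_lit 2, nat_lit 3, nat_lit 0])) (.node (nat_lit 332) (.leaf ((nat_lit 15), [])) (.leaf ((nat_lit 76), [nat_lit 2, nat_lit 4, nat_lit 2, nat_lit 3, nat_lit 4, nat_lit 3, nat_lit 2, nat_lit 2, nat_lit 3])))) (.node (nat_lit 334) (.leaf ((nat_lit 151), [nat_lit 2, nat_lit 4, nat_lit 2, nat_lit 0, nat_lit 4, nat_lit 1, nat_lit 3, nat_lit 0, nat_lit 1])) (.node (nat_lit 335) (.leaf ((nat_lit 90), [nat_lit 0, nat_lit 1, nat_lit 0, nat_lit 2])) (.leaf ((nat_lit 57), [nat_lit 4, nat_lit 0, nat_lit 2, nat_lit 0, nat_lit 4, nat_lit 2, nat_lit 2, nat_lit 3, nat_lit 0, nat_lit 1]))))))))))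
noncomputable def cW_2 : Tr (ℕ × List ℕ) := (.node (nat_lit 420) (.node (nat_lit 378) (.node (nat_lit 357) (.node (nat_lit 346) (.node (nat_lit 341) (.node (nat_lit 338) (.node (nat_lit 337) (.leaf ((nat_lit 168), [nat_lit 0, nat_lit 2, nat_lit 4, nat_lit 3, nat_lit 1, nat_lit 0, nat_lit 1, nat_lit 3, nat_lit 0])) (.leaf ((nat_lit 29), [nat_lit 0, nat_lit 4, nat_lit 0, nat_lit 2, nat_lit 0, nat_lit 4, nat_lit 2, nat_lit 0, nat_lit 2, nat_lit 0]))) (.node (nat_lit 339) (.leaf ((nat_lit 28), [nat_lit 0, nat_lit 4, nat_lit 0, nat_lit 2, nat_lit 0, nat_lit 4, nat_lit 2, nat_lit 0, nat_lit 2, nat_lit 0])) (.node (nat_lit 340) (.leaf ((nat_lit 87), [nat_lit 1, nat_lit 1, nat_lit 4, nat_lit 0, nat_lit 4, nat_lit 2, nat_lit 0, nat_lit 1, nat_lit 3, nat_lit 0])) (.leaf ((nat_lit 73), [nat_lit 4, nat_lit 3, nat_lit 1, nat_lit 4, nat_lit 1, nat_lit 0, nat_lit 1, nat_lit 0, nat_lit 2])))))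
 (.node (nat_lit 343) (.node (nat_lit 342) (.leaf ((nat_lit 15), [])) (.leaf ((nat_lit 169), [nat_lit 2, nat_lit 4, nat_lit 2, nat_lit 0, nat_lit 4, nat_lit 2, nat_lit 0, nat_lit 2, nat_lit 3, nat_lit 0]))) (.node (nat_lit 344) (.leaf ((nat_lit 16), [nat_lit 0, nat_lit 3, nat_lit 0])) (.node (nat_lit 345) (.leaf ((nat_lit 16), [])) (.leaf ((nat_lit 142), [nat_lit 2, nat_lit 4, nat_lit 2, nat_lit 0, nat_lit 4, nat_lit 0, nat_lit 2, nat_lit 3, nat_lit 0, nat_lit 2, nat_lit 0]))))))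
 (.node (nat_lit 351) (.node (nat_lit 348) (.node (nat_lit 347) (.leaf ((nat_lit 180), [nat_lit 2, nat_lit 4, nat_lit 2, nat_lit 0, nat_lit 4, nat_lit 1, nat_lit 1, nat_lit 3, nat_lit 2, nat_lit 2, nat_lit 0])) (.leaf ((nat_lit 55), [nat_lit 2, nat_lit 4, nat_lit 0, nat_lit 3, nat_lit 4, nat_lit 0, nat_lit 1, nat_lit 1, nat_lit 0, nat_lit 2, nat_lit 0]))) (.node (nat_lit 349) (.leaf ((nat_lit 143), [nat_lit 2, nat_lit 4, nat_lit 2, nat_lit 0, nat_lit 4, nat_lit 3, nat_lit 1])) (.node (nat_lit 350) (.leaf ((nat_lit 106), [nat_lit 0, nat_lit 2, nat_lit 2, nat_lit 4, nat_lit 1, nat_lit 3])) (.leaf ((nat_lit 26), [nat_lit 1, nat_lit 3, nat_lit 1])))))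
 (.node (nat_lit 354) (.node (nat_lit 352) (.leaf ((nat_lit 153), [nat_lit 2, nat_lit 4, nat_lit 2, nat_lit 0, nat_lit 4, nat_lit 0, nat_lit 3, nat_lit 2, nat_lit 0, nat_lit 1])) (.node (nat_lit 353) (.leaf ((nat_lit 16), [])) (.leaf ((nat_lit 76), [nat_lit 4, nat_lit 2, nat_lit 4, nat_lit 0, nat_lit 4, nat_lit 3, nat_lit 2, nat_lit 2, nat_lit 0, nat_lit 1, nat_lit 0])))) (.node (nat_lit 355) (.leaf ((nat_lit 188), [nat_lit 1, nat_lit 4, nat_lit 0, nat_lit 4, nat_lit 2, nat_lit 0, nat_lit 3, nat_lit 2, nat_lit 0, nat_lit 2])) (.node (nat_lit 356) (.leaf ((nat_lit 145), [nat_lit 0, nat_lit 4, nat_lit 0, nat_lit 1, nat_lit 4, nat_lit 0, nat_lit 3, nat_lit 2, nat_lit 0])) (.leaf ((nat_lit 30), [nat_lit 4, nat_lit 2, nat_lit 4, nat_lit 2, nat_lit 0, nat_lit 4, nat_lit 3, nat_lit 0, nat_lit 2, nat_lit 2, nat_lit 3, nat_lit 2, nat_lit 0])))))))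
 (.node (nat_lit 367) (.node (nat_lit 362) (.node (nat_lit 359) (.node (nat_lit 358) (.leaf ((nat_lit 197), [nat_lit 1, nat_lit 4, nat_lit 0, nat_lit 1, nat_lit 4, nat_lit 0, nat_lit 3, nat_lit 0, nat_lit 2, nat_lit 0])) (.leaf ((nat_lit 40), [nat_lit 4, nat_lit 0, nat_lit 4, nat_lit 0, nat_lit 1, nat_lit 3]))) (.node (nat_lit 360) (.leaf ((nat_lit 16), [])) (.node (nat_lit 361) (.leaf ((nat_lit 172), [nat_lit 2, nat_lit 0, nat_lit 4, nat_lit 3, nat_lit 0, nat_lit 2, nat_lit 3])) (.leaf ((nat_lit 103), [nat_lit 0, nat_lit 2, nat_lit 2, nat_lit 4, nat_lit 3, nat_lit 1, nat_lit 1])))))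
 (.node (nat_lit 364) (.node (nat_lit 363) (.leaf ((nat_lit 18), [])) (.leaf ((nat_lit 107), [nat_lit 1, nat_lit 0, nat_lit 1, nat_lit 4, nat_lit 3, nat_lit 0, nat_lit 2, nat_lit 0, nat_lit 3, nat_lit 0]))) (.node (nat_lit 365) (.leaf ((nat_lit 183), [nat_lit 0, nat_lit 2, nat_lit 0, nat_lit 4, nat_lit 3, nat_lit 0, nat_lit 2, nat_lit 2, nat_lit 3, nat_lit 2, nat_lit 0])) (.node (nat_lit 366) (.leaf ((nat_lit 36), [nat_lit 0, nat_lit 2, nat_lit 4, nat_lit 2, nat_lit 2, nat_lit 3, nat_lit 0, nat_lit 1])) (.leaf ((nat_lit 215), [nat_lit 3, nat_lit 4, nat_lit 2, nat_lit 3, nat_lit 4, nat_lit 3, nat_lit 0, nat_lit 2, nat_lit 2, nat_lit 3, nat_lit 2]))))))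
 (.node (nat_lit 372) (.node (nat_lit 369) (.node (nat_lit 368) (.leaf ((nat_lit 173), [nat_lit 2, nat_lit 4, nat_lit 2, nat_lit 0, nat_lit 4, nat_lit 1, nat_lit 0, nat_lit 1, nat_lit 3, nat_lit 2, nat_lit 0])) (.leaf ((nat_lit 173), [nat_lit 2, nat_lit 4, nat_lit 2, nat_lit 0, nat_lit 4, nat_lit 2, nat_lit 3, nat_lit 2, nat_lit 2]))) (.node (nat_lit 370) (.leaf ((nat_lit 163), [nat_lit 0, nat_lit 4, nat_lit 2, nat_lit 0, nat_lit 4, nat_lit 3, nat_lit 1, nat_lit 1, nat_lit 0, nat_lit 3, nat_lit 0])) (.node (nat_lit 371) (.leaf ((nat_lit 18), [])) (.leaf ((nat_lit 101), [nat_lit 2, nat_lit 4, nat_lit 0, nat_lit 4, nat_lit 0, nat_lit 1, nat_lit 0, nat_lit 3, nat_lit 0])))))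
 (.node (nat_lit 375) (.node (nat_lit 373) (.leaf ((nat_lit 174), [nat_lit 2, nat_lit 4, nat_lit 2, nat_lit 0, nat_lit 4, nat_lit 1, nat_lit 0, nat_lit 3, nat_lit 0, nat_lit 1])) (.node (nat_lit 374) (.leaf ((nat_lit 19), [nat_lit 3, nat_lit 2, nat_lit 0, nat_lit 3, nat_lit 2, nat_lit 0])) (.leaf ((nat_lit 19), [])))) (.node (nat_lit 376) (.leaf ((nat_lit 64), [nat_lit 0, nat_lit 1, nat_lit 3, nat_lit 2, nat_lit 2])) (.node (nat_lit 377) (.leaf ((nat_lit 62), [nat_lit 3, nat_lit 2, nat_lit 0, nat_lit 2, nat_lit 3, nat_lit 0])) (.leaf ((nat_lit 175), [nat_lit 1, nat_lit 3, nat_lit 4, nat_lit 3, nat_lit 2, nat_lit 2, nat_lit 3]))))))))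
 (.node (nat_lit 399) (.node (nat_lit 388) (.node (nat_lit 383) (.node (nat_lit 380) (.node (nat_lit 379) (.leaf ((nat_lit 20), [])) (.leaf ((nat_lit 23), [nat_lit 2, nat_lit 4, nat_lit 2, nat_lit 2, nat_lit 0, nat_lit 4, nat_lit 0, nat_lit 1, nat_lit 3, nat_lit 0, nat_lit 2, nat_lit 0]))) (.node (nat_lit 381) (.leaf ((nat_lit 187), [nat_lit 4, nat_lit 2, nat_lit 3, nat_lit 0, nat_lit 4, nat_lit 2, nat_lit 0, nat_lit 2])) (.node (nat_lit 382) (.leaf ((nat_lit 63), [nat_lit 3, nat_lit 0, nat_lit 2, nat_lit 0, nat_lit 2, nat_lit 0])) (.leaf ((nat_lit 63), [nat_lit 2, nat_lit 2, nat_lit 3, nat_lit 1, nat_lit 0])))))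
 (.node (nat_lit 385) (.node (nat_lit 384) (.leaf ((nat_lit 174), [nat_lit 2, nat_lit 4, nat_lit 3, nat_lit 0, nat_lit 4, nat_lit 1, nat_lit 0, nat_lit 1, nat_lit 3, nat_lit 0])) (.leaf ((nat_lit 176), [nat_lit 2, nat_lit 4, nat_lit 2, nat_lit 0, nat_lit 4, nat_lit 1, nat_lit 0, nat_lit 1, nat_lit 3, nat_lit 0]))) (.node (nat_lit 386) (.leaf ((nat_lit 21), [])) (.node (nat_lit 387) (.leaf ((nat_lit 20), [])) (.leaf ((nat_lit 62), [nat_lit 1, nat_lit 1, nat_lit 3, nat_lit 2, nat_lit 0]))))))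
 (.node (nat_lit 393) (.node (nat_lit 390) (.node (nat_lit 389) (.leaf ((nat_lit 200), [nat_lit 2, nat_lit 4, nat_lit 2, nat_lit 0, nat_lit 4, nat_lit 2, nat_lit 0, nat_lit 2, nat_lit 3, nat_lit 2, nat_lit 2])) (.leaf ((nat_lit 108), []))) (.node (nat_lit 391) (.leaf ((nat_lit 177), [nat_lit 1, nat_lit 0, nat_lit 1, nat_lit 4, nat_lit 0, nat_lit 1, nat_lit 3, nat_lit 1, nat_lit 1, nat_lit 0])) (.node (nat_lit 392) (.leaf ((nat_lit 68), [nat_lit 4, nat_lit 0, nat_lit 4, nat_lit 2, nat_lit 2, nat_lit 0])) (.leaf ((nat_lit 144), [nat_lit 0, nat_lit 2, nat_lit 4, nat_lit 0, nat_lit 4, nat_lit 0, nat_lit 2, nat_lit 2, nat_lit 3])))))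
 (.node (nat_lit 396) (.node (nat_lit 394) (.leaf ((nat_lit 47), [nat_lit 1, nat_lit 1, nat_lit 4, nat_lit 0, nat_lit 4, nat_lit 3, nat_lit 1, nat_lit 0, nat_lit 3, nat_lit 0, nat_lit 2])) (.node (nat_lit 395) (.leaf ((nat_lit 65), [nat_lit 4, nat_lit 2, nat_lit 3, nat_lit 4, nat_lit 3, nat_lit 0])) (.leaf ((nat_lit 20), [])))) (.node (nat_lit 397) (.leaf ((nat_lit 183), [nat_lit 0, nat_lit 4, nat_lit 3, nat_lit 0, nat_lit 1, nat_lit 3])) (.node (nat_lit 398) (.leaf ((nat_lit 69), [nat_lit 4, nat_lit 2, nat_lit 0, nat_lit 2, nat_lit 4, nat_lit 3, nat_lit 1, nat_lit 0, nat_lit 1, nat_lit 3])) (.leaf ((nat_lit 108), [nat_lit 1, nat_lit 0, nat_lit 4, nat_lit 0, nat_lit 1, nat_lit 3, nat_lit 0, nat_lit 2])))))))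
 (.node (nat_lit 409) (.node (nat_lit 404) (.node (nat_lit 401) (.node (nat_lit 400) (.leaf ((nat_lit 98), [nat_lit 0, nat_lit 2, nat_lit 0, nat_lit 4, nat_lit 0, nat_lit 1, nat_lit 3])) (.leaf ((nat_lit 109), []))) (.node (nat_lit 402) (.leaf ((nat_lit 21), [])) (.node (nat_lit 403) (.leaf ((nat_lit 22), [])) (.leaf ((nat_lit 136), [nat_lit 2, nat_lit 4, nat_lit 2, nat_lit 0, nat_lit 4, nat_lit 1, nat_lit 1, nat_lit 3, nat_lit 0])))))
 (.node (nat_lit 406) (.node (nat_lit 405) (.leaf ((nat_lit 197), [nat_lit 2, nat_lit 4, nat_lit 2, nat_lit 0, nat_lit 4, nat_lit 2, nat_lit 0, nat_lit 2, nat_lit 0, nat_lit 3, nat_lit 0])) (.leaf ((nat_lit 218), [nat_lit 4, nat_lit 2, nat_lit 4, nat_lit 0, nat_lit 1, nat_lit 0, nat_lit 1, nat_lit 3, nat_lit 0]))) (.node (nat_lit 407) (.leaf ((nat_lit 218), [nat_lit 4, nat_lit 2, nat_lit 4, nat_lit 1, nat_lit 3, nat_lit 0, nat_lit 1])) (.node (nat_lit 408)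 (.leaf ((nat_lit 179), [nat_lit 1, nat_lit 4, nat_lit 0, nat_lit 1, nat_lit 4, nat_lit 2, nat_lit 3, nat_lit 0, nat_lit 1, nat_lit 1])) (.leaf ((nat_lit 70), [nat_lit 0, nat_lit 1, nat_lit 0, nat_lit 1, nat_lit 3, nat_lit 0]))))))
 (.node (nat_lit 414) (.node (nat_lit 411) (.node (nat_lit 410) (.leaf ((nat_lit 22), [])) (.leaf ((nat_lit 65), [nat_lit 3, nat_lit 4, nat_lit 3, nat_lit 0, nat_lit 4, nat_lit 3, nat_lit 0, nat_lit 2, nat_lit 2, nat_lit 3, nat_lit 2]))) (.node (nat_lit 412) (.leaf ((nat_lit 150), [nat_lit 2, nat_lit 4, nat_lit 2, nat_lit 0, nat_lit 4, nat_lit 2, nat_lit 0, nat_lit 3, nat_lit 0, nat_lit 2, nat_lit 0])) (.node (nat_lit 413) (.leaf ((nat_lit 169), [nat_lit 2, nat_lit 4, nat_lit 2, nat_lit 0, nat_lit 4, nat_lit 3, nat_lit 0, nat_lit 1, nat_lit 3])) (.leaf ((nat_lit 137), [nat_lit 0, nat_lit 4, nat_lit 2, nat_lit 0, nat_lit 4, nat_lit 0, nat_lit 2, nat_lit 0, nat_lit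 1, nat_lit 0])))))
 (.node (nat_lit 417) (.node (nat_lit 415) (.leaf ((nat_lit 109), [nat_lit 4, nat_lit 2, nat_lit 4, nat_lit 2, nat_lit 3, nat_lit 0, nat_lit 2])) (.node (nat_lit 416) (.leaf ((nat_lit 208), [nat_lit 1, nat_lit 1, nat_lit 4, nat_lit 0, nat_lit 4, nat_lit 2, nat_lit 0, nat_lit 2, nat_lit 3, nat_lit 2])) (.leaf ((nat_lit 66), [nat_lit 4, nat_lit 1, nat_lit 1, nat_lit 3, nat_lit 4, nat_lit 1, nat_lit 3, nat_lit 0, nat_lit 2])))) (.node (nat_lit 418) (.leaf ((nat_lit 198), [nat_lit 2, nat_lit 4, nat_lit 0, nat_lit 3, nat_lit 4, nat_lit 3, nat_lit 1, nat_lit 1, nat_lit 3, nat_lit 0, nat_lit 2])) (.node (nat_lit 419) (.leaf ((nat_lit 209), [nat_lit 2, nat_lit 3, nat_lit 0, nat_lit 4, nat_lit 1, nat_lit 3, nat_lit 2, nat_lit 0, nat_lit 2])) (.leaf ((nat_lit 22), [])))))))))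
 (.node (nat_lit 462) (.node (nat_lit 441) (.node (nat_lit 430) (.node (nat_lit 425) (.node (nat_lit 422) (.node (nat_lit 421) (.leaf ((nat_lit 68), [nat_lit 0, nat_lit 3, nat_lit 2, nat_lit 0, nat_lit 2, nat_lit 0])) (.leaf ((nat_lit 85), [nat_lit 1, nat_lit 1, nat_lit 0, nat_lit 1, nat_lit 1]))) (.node (nat_lit 423) (.leaf ((nat_lit 24), [])) (.node (nat_lit 424) (.leaf ((nat_lit 70), [nat_lit 3, nat_lit 2, nat_lit 0, nat_lit 2, nat_lit 3, nat_lit 2, nat_lit 0])) (.leaf ((nat_lit 70), [nat_lit 1, nat_lit 0, nat_lit 3, nat_lit 0, nat_lit 1, nat_lit 0])))))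
 (.node (nat_lit 427) (.node (nat_lit 426) (.leaf ((nat_lit 104), [nat_lit 3, nat_lit 1, nat_lit 4, nat_lit 3, nat_lit 0, nat_lit 1, nat_lit 0, nat_lit 1, nat_lit 0])) (.leaf ((nat_lit 178), [nat_lit 2, nat_lit 2, nat_lit 4, nat_lit 3, nat_lit 0, nat_lit 4, nat_lit 3, nat_lit 2, nat_lit 0, nat_lit 3, nat_lit 2]))) (.node (nat_lit 428) (.leaf ((nat_lit 110), [])) (.node (nat_lit 429) (.leaf ((nat_lit 165), [nat_lit 3, nat_lit 4, nat_lit 3, nat_lit 0, nat_lit 4, nat_lit 3, nat_lit 0, nat_lit 1])) (.leaf ((nat_lit 71), [nat_lit 0, nat_lit 1, nat_lit 4, nat_lit 0, nat_lit 2, nat_lit 0, nat_lit 1, nat_lit 3]))))))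
 (.node (nat_lit 435) (.node (nat_lit 432) (.node (nat_lit 431) (.leaf ((nat_lit 172), [nat_lit 1, nat_lit 0, nat_lit 4, nat_lit 3, nat_lit 0, nat_lit 2, nat_lit 3])) (.leaf ((nat_lit 24), []))) (.node (nat_lit 433) (.leaf ((nat_lit 213), [nat_lit 2, nat_lit 4, nat_lit 2, nat_lit 0, nat_lit 4, nat_lit 1, nat_lit 1, nat_lit 0, nat_lit 3, nat_lit 1])) (.node (nat_lit 434) (.leaf ((nat_lit 48), [nat_lit 3, nat_lit 0, nat_lit 1, nat_lit 1, nat_lit 3])) (.leaf ((nat_lit 199), [nat_lit 2, nat_lit 4, nat_lit 2, nat_lit 0, nat_lit 4, nat_lit 3, nat_lit 1, nat_lit 0, nat_lit 1])))))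
 (.node (nat_lit 438) (.node (nat_lit 436) (.leaf ((nat_lit 152), [nat_lit 1, nat_lit 4, nat_lit 3])) (.node (nat_lit 437) (.leaf ((nat_lit 25), [])) (.leaf ((nat_lit 185), [nat_lit 1, nat_lit 4, nat_lit 1, nat_lit 3, nat_lit 4, nat_lit 3, nat_lit 1, nat_lit 0, nat_lit 3, nat_lit 0])))) (.node (nat_lit 439) (.leaf ((nat_lit 33), [nat_lit 0, nat_lit 1])) (.node (nat_lit 440) (.leaf ((nat_lit 26), [])) (.leaf ((nat_lit 106), [nat_lit 0, nat_lit 2, nat_lit 2, nat_lit 4, nat_lit 1, nat_lit 1, nat_lit 3])))))))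
 (.node (nat_lit 451) (.node (nat_lit 446) (.node (nat_lit 443) (.node (nat_lit 442) (.leaf ((nat_lit 73), [nat_lit 1, nat_lit 3, nat_lit 1, nat_lit 0, nat_lit 1, nat_lit 0])) (.leaf ((nat_lit 56), [nat_lit 4, nat_lit 1, nat_lit 3, nat_lit 0, nat_lit 4, nat_lit 1, nat_lit 0, nat_lit 1, nat_lit 3]))) (.node (nat_lit 444) (.leaf ((nat_lit 184), [nat_lit 4, nat_lit 2, nat_lit 3, nat_lit 0, nat_lit 4, nat_lit 2, nat_lit 3, nat_lit 2, nat_lit 2])) (.node (nat_lit 445) (.leaf ((nat_lit 46), [nat_lit 4, nat_lit 0, nat_lit 2, nat_lit 4, nat_lit 0, nat_lit 4, nat_lit 3, nat_lit 2, nat_lit 2, nat_lit 0, nat_lit 1])) (.leaf ((nat_lit 98), [nat_lit 2, nat_lit 3, nat_lit 2, nat_lit 0, nat_lit 4, nat_lit 1, nat_lit 0])))))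
 (.node (nat_lit 448) (.node (nat_lit 447) (.leaf ((nat_lit 194), [nat_lit 0, nat_lit 2, nat_lit 4, nat_lit 2, nat_lit 3, nat_lit 0, nat_lit 1])) (.leaf ((nat_lit 215), [nat_lit 4, nat_lit 0, nat_lit 3, nat_lit 4, nat_lit 0, nat_lit 3, nat_lit 2, nat_lit 0, nat_lit 1]))) (.node (nat_lit 449) (.leaf ((nat_lit 102), [nat_lit 4, nat_lit 0, nat_lit 3, nat_lit 4, nat_lit 3, nat_lit 0])) (.node (nat_lit 450) (.leaf ((nat_lit 26), [])) (.leaf ((nat_lit 187), [nat_lit 2, nat_lit 4, nat_lit 1, nat_lit 3, nat_lit 1, nat_lit 1, nat_lit 0, nat_lit 2, nat_lit 0]))))))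
 (.node (nat_lit 456) (.node (nat_lit 453) (.node (nat_lit 452) (.leaf ((nat_lit 175), [nat_lit 1, nat_lit 4, nat_lit 0, nat_lit 1, nat_lit 4, nat_lit 1, nat_lit 1, nat_lit 3, nat_lit 0, nat_lit 1, nat_lit 0])) (.leaf ((nat_lit 159), [nat_lit 4, nat_lit 3, nat_lit 0, nat_lit 4, nat_lit 2, nat_lit 0, nat_lit 1, nat_lit 0, nat_lit 1]))) (.node (nat_lit 454) (.leaf ((nat_lit 81), [nat_lit 4, nat_lit 2, nat_lit 2, nat_lit 0, nat_lit 4, nat_lit 0, nat_lit 1, nat_lit 3, nat_lit 1, nat_lit 1, nat_lit 0])) (.node (nat_lit 455) (.leaf ((nat_lit 27), [])) (.leaf ((nat_lit 96), [nat_lit 4, nat_lit 0, nat_lit 4, nat_lit 0, nat_lit 3, nat_lit 1, nat_lit 1, nat_lit 0])))))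
 (.node (nat_lit 459) (.node (nat_lit 457) (.leaf ((nat_lit 171), [nat_lit 4, nat_lit 1, nat_lit 0, nat_lit 2, nat_lit 4, nat_lit 3, nat_lit 0])) (.node (nat_lit 458) (.leaf ((nat_lit 55), [nat_lit 1, nat_lit 4, nat_lit 3, nat_lit 1, nat_lit 4, nat_lit 0, nat_lit 3, nat_lit 1, nat_lit 0, nat_lit 3])) (.leaf ((nat_lit 152), [nat_lit 2, nat_lit 4, nat_lit 3, nat_lit 0, nat_lit 4, nat_lit 2, nat_lit 2, nat_lit 0, nat_lit 2])))) (.node (nat_lit 460) (.leaf ((nat_lit 29), [])) (.node (nat_lit 461) (.leaf ((nat_lit 35), [nat_lit 4, nat_lit 0, nat_lit 2, nat_lit 2, nat_lit 4, nat_lit 3, nat_lit 0, nat_lit 1])) (.leaf ((nat_lit 58), [nat_lit 1, nat_lit 1, nat_lit 4, nat_lit 0, nat_lit 1, nat_lit 4, nat_lit 2, nat_lit 3, nat_lit 0, nat_lit 1, nat_lit 0]))))))))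
 (.node (nat_lit 483) (.node (nat_lit 472) (.node (nat_lit 467) (.node (nat_lit 464) (.node (nat_lit 463) (.leaf ((nat_lit 189), [nat_lit 4, nat_lit 2, nat_lit 4, nat_lit 0, nat_lit 4, nat_lit 0, nat_lit 2, nat_lit 2, nat_lit 3, nat_lit 2, nat_lit 2, nat_lit 0])) (.leaf ((nat_lit 79), [nat_lit 2, nat_lit 4, nat_lit 3, nat_lit 2, nat_lit 4, nat_lit 3, nat_lit 1, nat_lit 0, nat_lit 3, nat_lit 0, nat_lit 2]))) (.node (nat_lit 465) (.leaf ((nat_lit 219), [nat_lit 4, nat_lit 3, nat_lit 1, nat_lit 4, nat_lit 1, nat_lit 0, nat_lit 1, nat_lit 3, nat_lit 2])) (.node (nat_lit 466) (.leaf ((nat_lit 192), [nat_lit 4, nat_lit 0, nat_lit 1, nat_lit 4, nat_lit 3, nat_lit 0, nat_lit 1, nat_lit 0])) (.leaf ((nat_lit 111), [])))))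
 (.node (nat_lit 469) (.node (nat_lit 468) (.leaf ((nat_lit 29), [])) (.leaf ((nat_lit 190), [nat_lit 2, nat_lit 4, nat_lit 2, nat_lit 0, nat_lit 4, nat_lit 2, nat_lit 0, nat_lit 2, nat_lit 3]))) (.node (nat_lit 470) (.leaf ((nat_lit 30), [])) (.node (nat_lit 471) (.leaf ((nat_lit 145), [nat_lit 2, nat_lit 4, nat_lit 2, nat_lit 0, nat_lit 4, nat_lit 1, nat_lit 1, nat_lit 3, nat_lit 1, nat_lit 1])) (.leaf ((nat_lit 78), [nat_lit 2, nat_lit 3, nat_lit 1, nat_lit 0, nat_lit 2]))))))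
 (.node (nat_lit 477) (.node (nat_lit 474) (.node (nat_lit 473) (.leaf ((nat_lit 78), [nat_lit 1, nat_lit 3, nat_lit 1, nat_lit 0, nat_lit 1, nat_lit 0])) (.leaf ((nat_lit 195), [nat_lit 1, nat_lit 0, nat_lit 2, nat_lit 4, nat_lit 0, nat_lit 3, nat_lit 2, nat_lit 0, nat_lit 2, nat_lit 0]))) (.node (nat_lit 475) (.leaf ((nat_lit 206), [nat_lit 2, nat_lit 0, nat_lit 4, nat_lit 1, nat_lit 0, nat_lit 1, nat_lit 0, nat_lit 2])) (.node (nat_lit 476) (.leaf ((nat_lit 92), [nat_lit 4, nat_lit 2, nat_lit 0, nat_lit 2, nat_lit 4, nat_lit 3, nat_lit 0, nat_lit 1, nat_lit 0, nat_lit 1])) (.leaf ((nat_lit 77), [nat_lit 1, nat_lit 4, nat_lit 3, nat_lit 1, nat_lit 4, nat_lit 3, nat_lit 0, nat_lit 2])))))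
 (.node (nat_lit 480) (.node (nat_lit 478) (.leaf ((nat_lit 220), [nat_lit 4, nat_lit 2, nat_lit 2, nat_lit 0, nat_lit 4, nat_lit 0, nat_lit 1, nat_lit 3, nat_lit 0])) (.node (nat_lit 479) (.leaf ((nat_lit 103), [nat_lit 1, nat_lit 1, nat_lit 4, nat_lit 0, nat_lit 1, nat_lit 4, nat_lit 0, nat_lit 2, nat_lit 2, nat_lit 0, nat_lit 2, nat_lit 0])) (.leaf ((nat_lit 30), [])))) (.node (nat_lit 481) (.leaf ((nat_lit 102), [nat_lit 0, nat_lit 4, nat_lit 0, nat_lit 1, nat_lit 4, nat_lit 0, nat_lit 2, nat_lit 0, nat_lit 1, nat_lit 3, nat_lit 2, nat_lit 0])) (.node (nat_lit 482) (.leaf ((nat_lit 95), [nat_lit 1, nat_lit 1, nat_lit 0, nat_lit 3, nat_lit 1])) (.leaf ((nat_lit 209), [nat_lit 1, nat_lit 0, nat_lit 4, nat_lit 2, nat_lit 0, nat_lit 4, nat_lit 3, nat_lit 0, nat_lit 2, nat_lit 0, nat_lit 2])))))))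
 (.node (nat_lit 493) (.node (nat_lit 488) (.node (nat_lit 485) (.node (nat_lit 484) (.leaf ((nat_lit 189), [nat_lit 4, nat_lit 1, nat_lit 0, nat_lit 2, nat_lit 4, nat_lit 0, nat_lit 3, nat_lit 1])) (.leaf ((nat_lit 207), [nat_lit 3, nat_lit 1, nat_lit 0, nat_lit 4, nat_lit 3, nat_lit 2, nat_lit 0, nat_lit 1]))) (.node (nat_lit 486) (.leaf ((nat_lit 31), [])) (.node (nat_lit 487) (.leaf ((nat_lit 195), [nat_lit 2, nat_lit 4, nat_lit 2, nat_lit 0, nat_lit 4, nat_lit 3, nat_lit 1, nat_lit 1, nat_lit 3, nat_lit 0, nat_lit 2])) (.leaf ((nat_lit 151), [nat_lit 2, nat_lit 4, nat_lit 2, nat_lit 0, nat_lit 4, nat_lit 3, nat_lit 2, nat_lit 2, nat_lit 0, nat_lit 2, nat_lit 0])))))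
 (.node (nat_lit 490) (.node (nat_lit 489) (.leaf ((nat_lit 150), [nat_lit 2, nat_lit 4, nat_lit 2, nat_lit 0, nat_lit 4, nat_lit 3, nat_lit 2, nat_lit 2, nat_lit 0, nat_lit 2, nat_lit 0])) (.leaf ((nat_lit 75), [nat_lit 2, nat_lit 4, nat_lit 2, nat_lit 3, nat_lit 4, nat_lit 3, nat_lit 1]))) (.node (nat_lit 491) (.leaf ((nat_lit 32), [])) (.node (nat_lit 492) (.leaf ((nat_lit 203), [nat_lit 2, nat_lit 4, nat_lit 2, nat_lit 2, nat_lit 0, nat_lit 4, nat_lit 2, nat_lit 2, nat_lit 3, nat_lit 1, nat_lit 0])) (.leaf ((nat_lit 163), [nat_lit 1, nat_lit 1, nat_lit 3, nat_lit 4, nat_lit 1, nat_lit 0, nat_lit 3, nat_lit 0, nat_lit 2, nat_lit 0]))))))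
 (.node (nat_lit 498) (.node (nat_lit 495) (.node (nat_lit 494) (.leaf ((nat_lit 186), [nat_lit 3, nat_lit 4, nat_lit 0, nat_lit 3, nat_lit 2, nat_lit 2, nat_lit 3])) (.leaf ((nat_lit 217), [nat_lit 2, nat_lit 2, nat_lit 4, nat_lit 2, nat_lit 0, nat_lit 4, nat_lit 1, nat_lit 1, nat_lit 3, nat_lit 0]))) (.node (nat_lit 496) (.leaf ((nat_lit 155), [nat_lit 1, nat_lit 4, nat_lit 0, nat_lit 4, nat_lit 1, nat_lit 0, nat_lit 3])) (.node (nat_lit 497) (.leaf ((nat_lit 104), [nat_lit 2, nat_lit 0, nat_lit 2, nat_lit 4, nat_lit 1, nat_lit 3, nat_lit 2, nat_lit 0, nat_lit 2])) (.leaf ((nat_lit 33), [])))))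
 (.node (nat_lit 501) (.node (nat_lit 499) (.leaf ((nat_lit 193), [nat_lit 2, nat_lit 4, nat_lit 2, nat_lit 0, nat_lit 4, nat_lit 2])) (.node (nat_lit 500) (.leaf ((nat_lit 148), [nat_lit 2, nat_lit 4, nat_lit 2, nat_lit 0, nat_lit 4, nat_lit 3, nat_lit 0, nat_lit 1, nat_lit 0, nat_lit 1, nat_lit 0])) (.leaf ((nat_lit 34), [])))) (.node (nat_lit 502) (.leaf ((nat_lit 50), [nat_lit 2, nat_lit 0, nat_lit 3, nat_lit 2, nat_lit 2, nat_lit 0])) (.node (nat_lit 503) (.leaf ((nat_lit 38), [nat_lit 1, nat_lit 3, nat_lit 0, nat_lit 1])) (.leaf ((nat_lit 190), [nat_lit 2, nat_lit 2, nat_lit 4, nat_lit 2, nat_lit 0, nat_lit 4, nat_lit 3, nat_lit 0, nat_lit 2, nat_lit 2, nat_lit 3, nat_lit 2, nat_lit 0]))))))))))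
noncomputable def cW_3 : Tr (ℕ × List ℕ) := (.node (nat_lit 588) (.node (nat_lit 546) (.node (nat_lit 525) (.node (nat_lit 514) (.node (nat_lit 509) (.node (nat_lit 506) (.node (nat_lit 505) (.leaf ((nat_lit 196), [nat_lit 2, nat_lit 4, nat_lit 2, nat_lit 0, nat_lit 4, nat_lit 2, nat_lit 0, nat_lit 2, nat_lit 3, nat_lit 0])) (.leaf ((nat_lit 34), []))) (.node (nat_lit 507) (.leaf ((nat_lit 148), [nat_lit 2, nat_lit 4, nat_lit 2, nat_lit 0, nat_lit 4, nat_lit 3, nat_lit 0, nat_lit 1, nat_lit 0, nat_lit 1, nat_lit 0])) (.node (nat_lit 508) (.leaf ((nat_lit 84), [nat_lit 3, nat_lit 0, nat_lit 1, nat_lit 0, nat_lit 1, nat_lit 0])) (.leaf ((nat_lit 84), [nat_lit 2, nat_lit 0, nat_lit 2, nat_lit 3, nat_lit 2, nat_lit 0])))))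
 (.node (nat_lit 511) (.node (nat_lit 510) (.leaf ((nat_lit 90), [nat_lit 4, nat_lit 0, nat_lit 2, nat_lit 2, nat_lit 4, nat_lit 2, nat_lit 0, nat_lit 3, nat_lit 1, nat_lit 1, nat_lit 0])) (.leaf ((nat_lit 197), [nat_lit 2, nat_lit 4, nat_lit 2, nat_lit 0, nat_lit 4, nat_lit 1, nat_lit 1, nat_lit 0, nat_lit 1, nat_lit 1]))) (.node (nat_lit 512) (.leaf ((nat_lit 179), [nat_lit 2, nat_lit 4, nat_lit 2, nat_lit 0, nat_lit 4, nat_lit 0, nat_lit 2, nat_lit 0, nat_lit 1, nat_lit 3, nat_lit 2])) (.node (nat_lit 513) (.leaf ((nat_lit 70), [nat_lit 2, nat_lit 3, nat_lit 1, nat_lit 0, nat_lit 2, nat_lit 0])) (.leaf ((nat_lit 171), [nat_lit 4, nat_lit 2, nat_lit 0, nat_lit 4, nat_lit 1]))))))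
 (.node (nat_lit 519) (.node (nat_lit 516) (.node (nat_lit 515) (.leaf ((nat_lit 34), [])) (.leaf ((nat_lit 197), [nat_lit 0, nat_lit 2, nat_lit 0, nat_lit 4, nat_lit 1, nat_lit 3, nat_lit 1, nat_lit 0, nat_lit 1]))) (.node (nat_lit 517) (.leaf ((nat_lit 198), [nat_lit 0, nat_lit 2, nat_lit 4, nat_lit 3, nat_lit 1, nat_lit 0, nat_lit 1, nat_lit 3, nat_lit 0])) (.node (nat_lit 518) (.leaf ((nat_lit 99), [nat_lit 2, nat_lit 4, nat_lit 2, nat_lit 0, nat_lit 4, nat_lit 0, nat_lit 2, nat_lit 0, nat_lit 1, nat_lit 3])) (.leaf ((nat_lit 155), [nat_lit 1, nat_lit 4, nat_lit 3, nat_lit 1, nat_lit 4, nat_lit 3, nat_lit 1, nat_lit 0, nat_lit 1, nat_lit 3])))))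
 (.node (nat_lit 522) (.node (nat_lit 520) (.leaf ((nat_lit 181), [nat_lit 3, nat_lit 4, nat_lit 2, nat_lit 3, nat_lit 0, nat_lit 4, nat_lit 2, nat_lit 3, nat_lit 2])) (.node (nat_lit 521) (.leaf ((nat_lit 98), [nat_lit 1, nat_lit 1, nat_lit 4, nat_lit 0, nat_lit 1, nat_lit 4, nat_lit 1, nat_lit 1, nat_lit 0, nat_lit 1, nat_lit 1, nat_lit 0])) (.leaf ((nat_lit 34), [])))) (.node (nat_lit 523) (.leaf ((nat_lit 199), [nat_lit 2, nat_lit 4, nat_lit 2, nat_lit 0, nat_lit 4, nat_lit 2, nat_lit 0, nat_lit 2, nat_lit 3, nat_lit 0])) (.node (nat_lit 524) (.leaf ((nat_lit 184), [nat_lit 2, nat_lit 4, nat_lit 2, nat_lit 0, nat_lit 4, nat_lit 1, nat_lit 0, nat_lit 2, nat_lit 0, nat_lit 2, nat_lit 0])) (.leaf ((nat_lit 35), [])))))))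
 (.node (nat_lit 535) (.node (nat_lit 530) (.node (nat_lit 527) (.node (nat_lit 526) (.leaf ((nat_lit 56), [nat_lit 4, nat_lit 1, nat_lit 3, nat_lit 0, nat_lit 4, nat_lit 0, nat_lit 3, nat_lit 2, nat_lit 2])) (.leaf ((nat_lit 87), [nat_lit 2, nat_lit 3, nat_lit 1, nat_lit 0, nat_lit 2]))) (.node (nat_lit 528) (.leaf ((nat_lit 41), [nat_lit 4, nat_lit 1, nat_lit 3, nat_lit 4, nat_lit 2, nat_lit 0, nat_lit 1, nat_lit 3, nat_lit 2])) (.node (nat_lit 529) (.leaf ((nat_lit 38), [])) (.leaf ((nat_lit 201), [nat_lit 1, nat_lit 4, nat_lit 2, nat_lit 0, nat_lit 2, nat_lit 0, nat_lit 3])))))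
 (.node (nat_lit 532) (.node (nat_lit 531) (.leaf ((nat_lit 201), [nat_lit 1, nat_lit 4, nat_lit 2, nat_lit 0, nat_lit 1, nat_lit 0, nat_lit 1])) (.leaf ((nat_lit 88), [nat_lit 3, nat_lit 0, nat_lit 2, nat_lit 0, nat_lit 2, nat_lit 0]))) (.node (nat_lit 533) (.leaf ((nat_lit 176), [nat_lit 2, nat_lit 4, nat_lit 2, nat_lit 0, nat_lit 4, nat_lit 2, nat_lit 3, nat_lit 0, nat_lit 1])) (.node (nat_lit 534) (.leaf ((nat_lit 207), [nat_lit 4, nat_lit 0, nat_lit 1, nat_lit 4, nat_lit 2, nat_lit 3, nat_lit 1, nat_lit 0, nat_lit 2, nat_lit 0])) (.leaf ((nat_lit 40), []))))))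
 (.node (nat_lit 540) (.node (nat_lit 537) (.node (nat_lit 536) (.leaf ((nat_lit 200), [nat_lit 4, nat_lit 0, nat_lit 4, nat_lit 0, nat_lit 2, nat_lit 2, nat_lit 3, nat_lit 0])) (.leaf ((nat_lit 200), [nat_lit 2, nat_lit 2, nat_lit 4, nat_lit 1, nat_lit 1, nat_lit 0, nat_lit 1, nat_lit 1]))) (.node (nat_lit 538) (.leaf ((nat_lit 89), [nat_lit 1, nat_lit 4, nat_lit 1, nat_lit 3, nat_lit 4, nat_lit 1, nat_lit 3, nat_lit 2])) (.node (nat_lit 539) (.leaf ((nat_lit 154), [nat_lit 1, nat_lit 4, nat_lit 1, nat_lit 3, nat_lit 4, nat_lit 2, nat_lit 3, nat_lit 1, nat_lit 0])) (.leaf ((nat_lit 157), [nat_lit 0, nat_lit 1, nat_lit 4, nat_lit 3, nat_lit 2, nat_lit 2, nat_lit 3])))))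
 (.node (nat_lit 543) (.node (nat_lit 541) (.leaf ((nat_lit 41), [])) (.node (nat_lit 542) (.leaf ((nat_lit 91), [nat_lit 1, nat_lit 0, nat_lit 3, nat_lit 0])) (.leaf ((nat_lit 91), [nat_lit 2, nat_lit 0, nat_lit 1, nat_lit 0, nat_lit 1, nat_lit 0])))) (.node (nat_lit 544) (.leaf ((nat_lit 161), [nat_lit 2, nat_lit 4, nat_lit 2, nat_lit 0, nat_lit 4, nat_lit 1, nat_lit 0, nat_lit 2, nat_lit 0, nat_lit 2])) (.node (nat_lit 545) (.leaf ((nat_lit 55), [nat_lit 1, nat_lit 0, nat_lit 2, nat_lit 0])) (.leaf ((nat_lit 84), [nat_lit 2, nat_lit 4, nat_lit 0, nat_lit 3, nat_lit 4, nat_lit 2, nat_lit 2, nat_lit 0, nat_lit 1, nat_lit 0]))))))))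
 (.node (nat_lit 567) (.node (nat_lit 556) (.node (nat_lit 551) (.node (nat_lit 548) (.node (nat_lit 547) (.leaf ((nat_lit 203), [nat_lit 2, nat_lit 4, nat_lit 2, nat_lit 0, nat_lit 4, nat_lit 1, nat_lit 3, nat_lit 2])) (.leaf ((nat_lit 90), [nat_lit 2, nat_lit 3, nat_lit 0, nat_lit 2, nat_lit 3]))) (.node (nat_lit 549) (.leaf ((nat_lit 90), [nat_lit 0, nat_lit 3, nat_lit 0, nat_lit 2])) (.node (nat_lit 550) (.leaf ((nat_lit 42), [])) (.leaf ((nat_lit 91), [nat_lit 3, nat_lit 0, nat_lit 1, nat_lit 0, nat_lit 2, nat_lit 2])))))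
 (.node (nat_lit 553) (.node (nat_lit 552) (.leaf ((nat_lit 193), [nat_lit 2, nat_lit 4, nat_lit 2, nat_lit 2, nat_lit 0, nat_lit 4, nat_lit 3, nat_lit 2, nat_lit 0, nat_lit 1])) (.leaf ((nat_lit 217), [nat_lit 4, nat_lit 0, nat_lit 2, nat_lit 3, nat_lit 1, nat_lit 0]))) (.node (nat_lit 554) (.leaf ((nat_lit 219), [nat_lit 2, nat_lit 3, nat_lit 0, nat_lit 4, nat_lit 3, nat_lit 1, nat_lit 1, nat_lit 3])) (.node (nat_lit 555) (.leaf ((nat_lit 79), [nat_lit 1, nat_lit 4, nat_lit 0, nat_lit 1, nat_lit 4, nat_lit 1, nat_lit 3, nat_lit 0, nat_lit 1, nat_lit 0])) (.leaf ((nat_lit 99), [nat_lit 2, nat_lit 4, nat_lit 3, nat_lit 2, nat_lit 4, nat_lit 0, nat_lit 3, nat_lit 1, nat_lit 0, nat_lit 2, nat_lit 0]))))))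
 (.node (nat_lit 561) (.node (nat_lit 558) (.node (nat_lit 557) (.leaf ((nat_lit 165), [nat_lit 3, nat_lit 1, nat_lit 0, nat_lit 4, nat_lit 1, nat_lit 0, nat_lit 3, nat_lit 0, nat_lit 1, nat_lit 0])) (.leaf ((nat_lit 42), []))) (.node (nat_lit 559) (.leaf ((nat_lit 205), [nat_lit 4, nat_lit 1, nat_lit 3, nat_lit 4, nat_lit 3, nat_lit 2, nat_lit 0, nat_lit 2, nat_lit 3, nat_lit 2])) (.node (nat_lit 560) (.leaf ((nat_lit 221), [nat_lit 2, nat_lit 4, nat_lit 2, nat_lit 0, nat_lit 4, nat_lit 0, nat_lit 2, nat_lit 3, nat_lit 0, nat_lit 1, nat_lit 0])) (.leaf ((nat_lit 221), [nat_lit 2, nat_lit 4, nat_lit 2, nat_lit 0, nat_lit 4, nat_lit 0, nat_lit 2, nat_lit 3, nat_lit 0, nat_lit 1])))))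
 (.node (nat_lit 564) (.node (nat_lit 562) (.leaf ((nat_lit 217), [nat_lit 4, nat_lit 2, nat_lit 2, nat_lit 0, nat_lit 4, nat_lit 2, nat_lit 3, nat_lit 0, nat_lit 2])) (.node (nat_lit 563) (.leaf ((nat_lit 43), [])) (.leaf ((nat_lit 165), [nat_lit 1, nat_lit 0, nat_lit 1, nat_lit 4, nat_lit 2, nat_lit 0, nat_lit 3, nat_lit 2, nat_lit 0])))) (.node (nat_lit 565) (.leaf ((nat_lit 191), [nat_lit 1, nat_lit 0, nat_lit 4, nat_lit 2, nat_lit 0, nat_lit 4, nat_lit 2, nat_lit 2, nat_lit 0, nat_lit 3, nat_lit 1])) (.node (nat_lit 566) (.leaf ((nat_lit 45), [])) (.leaf ((nat_lit 44), [])))))))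
 (.node (nat_lit 577) (.node (nat_lit 572) (.node (nat_lit 569) (.node (nat_lit 568) (.leaf ((nat_lit 54), [nat_lit 0, nat_lit 3, nat_lit 4, nat_lit 2, nat_lit 3, nat_lit 0, nat_lit 1, nat_lit 0, nat_lit 2])) (.leaf ((nat_lit 211), [nat_lit 3, nat_lit 2, nat_lit 0, nat_lit 4, nat_lit 0, nat_lit 1, nat_lit 0, nat_lit 3, nat_lit 0]))) (.node (nat_lit 570) (.leaf ((nat_lit 206), [nat_lit 2, nat_lit 4, nat_lit 2, nat_lit 0, nat_lit 4, nat_lit 1, nat_lit 0, nat_lit 1, nat_lit 3])) (.node (nat_lit 571) (.leaf ((nat_lit 207), [nat_lit 0, nat_lit 4, nat_lit 0, nat_lit 4, nat_lit 1, nat_lit 0, nat_lit 1, nat_lit 3, nat_lit 0])) (.leaf ((nat_lit 223), [nat_lit 2, nat_lit 4, nat_lit 2, nat_lit 3, nat_lit 4, nat_lit 2, nat_lit 3, nat_lit 0, nat_lit 1, nat_lit 1, nat_lit 0])))))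
 (.node (nat_lit 574) (.node (nat_lit 573) (.leaf ((nat_lit 80), [nat_lit 2, nat_lit 2, nat_lit 3, nat_lit 0, nat_lit 2, nat_lit 0])) (.leaf ((nat_lit 44), []))) (.node (nat_lit 575) (.leaf ((nat_lit 192), [nat_lit 1, nat_lit 3, nat_lit 0, nat_lit 4, nat_lit 3, nat_lit 1, nat_lit 1, nat_lit 0, nat_lit 2, nat_lit 0])) (.node (nat_lit 576) (.leaf ((nat_lit 200), [nat_lit 4, nat_lit 1, nat_lit 3, nat_lit 4, nat_lit 3, nat_lit 2, nat_lit 2, nat_lit 0])) (.leaf ((nat_lit 53), [nat_lit 2, nat_lit 0, nat_lit 2, nat_lit 4, nat_lit 3, nat_lit 0, nat_lit 2, nat_lit 0, nat_lit 2, nat_lit 0]))))))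
 (.node (nat_lit 582) (.node (nat_lit 579) (.node (nat_lit 578) (.leaf ((nat_lit 220), [nat_lit 3, nat_lit 4, nat_lit 2, nat_lit 3, nat_lit 0, nat_lit 4, nat_lit 3, nat_lit 0, nat_lit 1, nat_lit 0, nat_lit 1, nat_lit 1, nat_lit 0])) (.leaf ((nat_lit 181), [nat_lit 2, nat_lit 3, nat_lit 4, nat_lit 0, nat_lit 2, nat_lit 0, nat_lit 1, nat_lit 3, nat_lit 2]))) (.node (nat_lit 580) (.leaf ((nat_lit 111), [nat_lit 0, nat_lit 2, nat_lit 4, nat_lit 2, nat_lit 2, nat_lit 3, nat_lit 0, nat_lit 2, nat_lit 0])) (.node (nat_lit 581) (.leaf ((nat_lit 44), [])) (.leaf ((nat_lit 75), [nat_lit 4, nat_lit 2, nat_lit 4, nat_lit 2, nat_lit 0, nat_lit 4, nat_lit 3, nat_lit 0, nat_lit 1, nat_lit 1])))))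
 (.node (nat_lit 585) (.node (nat_lit 583) (.leaf ((nat_lit 209), [nat_lit 2, nat_lit 3, nat_lit 2, nat_lit 0, nat_lit 4, nat_lit 2, nat_lit 0, nat_lit 1, nat_lit 1, nat_lit 3, nat_lit 2])) (.node (nat_lit 584) (.leaf ((nat_lit 192), [nat_lit 4, nat_lit 1, nat_lit 3, nat_lit 0, nat_lit 4, nat_lit 2, nat_lit 3, nat_lit 0, nat_lit 1, nat_lit 1, nat_lit 0])) (.leaf ((nat_lit 111), [nat_lit 2, nat_lit 2, nat_lit 0, nat_lit 4, nat_lit 0, nat_lit 3, nat_lit 1, nat_lit 0, nat_lit 2, nat_lit 0])))) (.node (nat_lit 586) (.leaf ((nat_lit 109), [nat_lit 3, nat_lit 1, nat_lit 4, nat_lit 3, nat_lit 1, nat_lit 1, nat_lit 0])) (.node (nat_lit 587) (.leaf ((nat_lit 181), [nat_lit 4, nat_lit 0, nat_lit 2, nat_lit 0, nat_lit 4, nat_lit 3, nat_lit 0, nat_lit 2])) (.leaf ((nat_lit 44), [])))))))))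
 (.node (nat_lit 630) (.node (nat_lit 609) (.node (nat_lit 598) (.node (nat_lit 593) (.node (nat_lit 590) (.node (nat_lit 589) (.leaf ((nat_lit 45), [])) (.leaf ((nat_lit 105), [nat_lit 3, nat_lit 4, nat_lit 0, nat_lit 3, nat_lit 0]))) (.node (nat_lit 591) (.leaf ((nat_lit 74), [nat_lit 0, nat_lit 2, nat_lit 4, nat_lit 2, nat_lit 2, nat_lit 0, nat_lit 1, nat_lit 0])) (.node (nat_lit 592) (.leaf ((nat_lit 66), [nat_lit 3, nat_lit 2, nat_lit 0, nat_lit 4, nat_lit 0, nat_lit 1, nat_lit 0])) (.leaf ((nat_lit 86), [nat_lit 4, nat_lit 2, nat_lit 3, nat_lit 0, nat_lit 4, nat_lit 0, nat_lit 2, nat_lit 2, nat_lit 3, nat_lit 2, nat_lit 2])))))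
 (.node (nat_lit 595) (.node (nat_lit 594) (.leaf ((nat_lit 158), [nat_lit 2, nat_lit 4, nat_lit 2, nat_lit 3, nat_lit 4, nat_lit 2, nat_lit 3, nat_lit 2])) (.leaf ((nat_lit 211), [nat_lit 2, nat_lit 4, nat_lit 2, nat_lit 0, nat_lit 4, nat_lit 2, nat_lit 3, nat_lit 0, nat_lit 2]))) (.node (nat_lit 596) (.leaf ((nat_lit 46), [])) (.node (nat_lit 597) (.leaf ((nat_lit 86), [nat_lit 4, nat_lit 0, nat_lit 1, nat_lit 4, nat_lit 1, nat_lit 0, nat_lit 1, nat_lit 3, nat_lit 0])) (.leaf ((nat_lit 92), [nat_lit 4, nat_lit 2, nat_lit 2, nat_lit 0, nat_lit 4, nat_lit 2, nat_lit 3]))))))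
 (.node (nat_lit 603) (.node (nat_lit 600) (.node (nat_lit 599) (.leaf ((nat_lit 206), [nat_lit 4, nat_lit 2, nat_lit 3, nat_lit 4, nat_lit 3, nat_lit 1, nat_lit 0])) (.leaf ((nat_lit 48), [nat_lit 0, nat_lit 2, nat_lit 4, nat_lit 2, nat_lit 0, nat_lit 1, nat_lit 1, nat_lit 3, nat_lit 2]))) (.node (nat_lit 601) (.leaf ((nat_lit 212), [nat_lit 2, nat_lit 4, nat_lit 2, nat_lit 0, nat_lit 4, nat_lit 2, nat_lit 3, nat_lit 0, nat_lit 2, nat_lit 3])) (.node (nat_lit 602) (.leaf ((nat_lit 52), [nat_lit 3, nat_lit 4, nat_lit 2, nat_lit 3, nat_lit 0, nat_lit 4, nat_lit 1, nat_lit 3, nat_lit 1, nat_lit 0])) (.leaf ((nat_lit 51), [nat_lit 3, nat_lit 4, nat_lit 2, nat_lit 3, nat_lit 0, nat_lit 4, nat_lit 1, nat_lit 3, nat_lit 1, nat_lit 0])))))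
 (.node (nat_lit 606) (.node (nat_lit 604) (.leaf ((nat_lit 100), [nat_lit 2, nat_lit 2, nat_lit 4, nat_lit 3, nat_lit 0, nat_lit 4, nat_lit 1, nat_lit 0, nat_lit 3, nat_lit 0, nat_lit 1])) (.node (nat_lit 605) (.leaf ((nat_lit 46), [])) (.leaf ((nat_lit 105), [nat_lit 1, nat_lit 4, nat_lit 0, nat_lit 4, nat_lit 1, nat_lit 3, nat_lit 0])))) (.node (nat_lit 607) (.leaf ((nat_lit 184), [nat_lit 2, nat_lit 4, nat_lit 2, nat_lit 0, nat_lit 4, nat_lit 3, nat_lit 0, nat_lit 2, nat_lit 0, nat_lit 2])) (.node (nat_lit 608) (.leaf ((nat_lit 50), [])) (.leaf ((nat_lit 49), [])))))))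
 (.node (nat_lit 619) (.node (nat_lit 614) (.node (nat_lit 611) (.node (nat_lit 610) (.leaf ((nat_lit 101), [nat_lit 0, nat_lit 3, nat_lit 0])) (.leaf ((nat_lit 101), [nat_lit 0]))) (.node (nat_lit 612) (.leaf ((nat_lit 61), [nat_lit 1, nat_lit 4, nat_lit 0, nat_lit 4, nat_lit 0, nat_lit 3, nat_lit 1, nat_lit 0, nat_lit 2, nat_lit 2, nat_lit 0])) (.node (nat_lit 613) (.leaf ((nat_lit 80), [nat_lit 4, nat_lit 1, nat_lit 0, nat_lit 1, nat_lit 4, nat_lit 2, nat_lit 3, nat_lit 0, nat_lit 1, nat_lit 0, nat_lit 2])) (.leaf ((nat_lit 214), [nat_lit 4, nat_lit 1, nat_lit 3, nat_lit 4, nat_lit 1, nat_lit 0, nat_lit 3, nat_lit 2])))))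
 (.node (nat_lit 616) (.node (nat_lit 615) (.leaf ((nat_lit 214), [nat_lit 2, nat_lit 3, nat_lit 4, nat_lit 1, nat_lit 0, nat_lit 1, nat_lit 0, nat_lit 2, nat_lit 0])) (.leaf ((nat_lit 110), [nat_lit 1, nat_lit 0, nat_lit 4, nat_lit 3, nat_lit 2, nat_lit 0, nat_lit 2, nat_lit 0]))) (.node (nat_lit 617) (.leaf ((nat_lit 74), [nat_lit 1, nat_lit 1, nat_lit 4, nat_lit 0, nat_lit 4, nat_lit 2, nat_lit 3, nat_lit 2, nat_lit 2, nat_lit 0, nat_lit 1])) (.node (nat_lit 618) (.leaf ((nat_lit 49), [])) (.leaf ((nat_lit 173), [nat_lit 3, nat_lit 1, nat_lit 0, nat_lit 4, nat_lit 2, nat_lit 3, nat_lit 0, nat_lit 1, nat_lit 0]))))))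
 (.node (nat_lit 624) (.node (nat_lit 621) (.node (nat_lit 620) (.leaf ((nat_lit 166), [nat_lit 4, nat_lit 3, nat_lit 1, nat_lit 4, nat_lit 1, nat_lit 0, nat_lit 1, nat_lit 3, nat_lit 2])) (.leaf ((nat_lit 60), [nat_lit 0, nat_lit 2, nat_lit 2, nat_lit 4, nat_lit 3, nat_lit 1, nat_lit 1]))) (.node (nat_lit 622) (.leaf ((nat_lit 186), [nat_lit 2, nat_lit 4, nat_lit 2, nat_lit 3, nat_lit 4, nat_lit 1, nat_lit 0, nat_lit 3, nat_lit 0, nat_lit 1])) (.node (nat_lit 623) (.leaf ((nat_lit 79), [nat_lit 1, nat_lit 1, nat_lit 4, nat_lit 0, nat_lit 1, nat_lit 4, nat_lit 0, nat_lit 1, nat_lit 0, nat_lit 2, nat_lit 2])) (.leaf ((nat_lit 51), [])))))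
 (.node (nat_lit 627) (.node (nat_lit 625) (.leaf ((nat_lit 216), [nat_lit 2, nat_lit 4, nat_lit 2, nat_lit 0, nat_lit 4, nat_lit 2, nat_lit 0, nat_lit 1, nat_lit 1, nat_lit 3, nat_lit 2])) (.node (nat_lit 626) (.leaf ((nat_lit 53), [nat_lit 2, nat_lit 4, nat_lit 0, nat_lit 3, nat_lit 4, nat_lit 2, nat_lit 0, nat_lit 2, nat_lit 0, nat_lit 3, nat_lit 0])) (.leaf ((nat_lit 222), [nat_lit 3, nat_lit 1, nat_lit 0, nat_lit 4, nat_lit 0, nat_lit 1, nat_lit 1, nat_lit 3, nat_lit 2])))) (.node (nat_lit 628) (.leaf ((nat_lit 52), [])) (.node (nat_lit 629) (.leaf ((nat_lit 82), [nat_lit 0, nat_lit 4, nat_lit 0, nat_lit 2, nat_lit 3, nat_lit 0])) (.leaf ((nat_lit 70), [nat_lit 4, nat_lit 2, nat_lit 4, nat_lit 2, nat_lit 2, nat_lit 3, nat_lit 0]))))))))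
 (.node (nat_lit 651) (.node (nat_lit 640) (.node (nat_lit 635) (.node (nat_lit 632) (.node (nat_lit 631) (.leaf ((nat_lit 204), [nat_lit 2, nat_lit 2, nat_lit 4, nat_lit 2, nat_lit 0, nat_lit 4, nat_lit 0, nat_lit 2])) (.leaf ((nat_lit 194), [nat_lit 1, nat_lit 4, nat_lit 0, nat_lit 3, nat_lit 2, nat_lit 2, nat_lit 3]))) (.node (nat_lit 633) (.leaf ((nat_lit 98), [nat_lit 4, nat_lit 2, nat_lit 4, nat_lit 1, nat_lit 3])) (.node (nat_lit 634) (.leaf ((nat_lit 205), [nat_lit 2, nat_lit 4, nat_lit 0, nat_lit 3, nat_lit 4, nat_lit 0, nat_lit 3, nat_lit 1, nat_lit 0, nat_lit 2, nat_lit 2, nat_lit 0])) (.leaf ((nat_lit 52), [])))))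
 (.node (nat_lit 637) (.node (nat_lit 636) (.leaf ((nat_lit 100), [nat_lit 4, nat_lit 1, nat_lit 3, nat_lit 4, nat_lit 3, nat_lit 0, nat_lit 2, nat_lit 0, nat_lit 3])) (.leaf ((nat_lit 218), [nat_lit 4, nat_lit 2, nat_lit 4, nat_lit 0, nat_lit 4, nat_lit 0, nat_lit 2, nat_lit 2, nat_lit 3, nat_lit 2, nat_lit 2, nat_lit 0]))) (.node (nat_lit 638) (.leaf ((nat_lit 73), [nat_lit 3, nat_lit 2, nat_lit 2, nat_lit 4, nat_lit 1, nat_lit 1, nat_lit 0])) (.node (nat_lit 639) (.leaf ((nat_lit 58), [nat_lit 3, nat_lit 2, nat_lit 4, nat_lit 1, nat_lit 1, nat_lit 0])) (.leaf ((nat_lit 179), [nat_lit 4, nat_lit 0, nat_lit 2, nat_lit 4, nat_lit 0, nat_lit 4, nat_lit 1, nat_lit 3, nat_lit 2, nat_lit 0]))))))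
 (.node (nat_lit 645) (.node (nat_lit 642) (.node (nat_lit 641) (.leaf ((nat_lit 179), [nat_lit 2, nat_lit 3, nat_lit 4, nat_lit 2, nat_lit 2, nat_lit 0, nat_lit 1])) (.leaf ((nat_lit 52), []))) (.node (nat_lit 643) (.leaf ((nat_lit 219), [nat_lit 2, nat_lit 4, nat_lit 2, nat_lit 0, nat_lit 4, nat_lit 2, nat_lit 0, nat_lit 2, nat_lit 3])) (.node (nat_lit 644) (.leaf ((nat_lit 189), [nat_lit 2, nat_lit 0, nat_lit 4, nat_lit 0, nat_lit 4, nat_lit 0, nat_lit 3, nat_lit 1, nat_lit 0, nat_lit 2, nat_lit 2])) (.leaf ((nat_lit 204), [nat_lit 1, nat_lit 4, nat_lit 0, nat_lit 4, nat_lit 3, nat_lit 0, nat_lit 1, nat_lit 0, nat_lit 1, nat_lit 1])))))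
 (.node (nat_lit 648) (.node (nat_lit 646) (.leaf ((nat_lit 60), [nat_lit 2, nat_lit 2, nat_lit 0, nat_lit 4, nat_lit 1, nat_lit 0, nat_lit 3, nat_lit 2, nat_lit 0])) (.node (nat_lit 647) (.leaf ((nat_lit 107), [nat_lit 4, nat_lit 2, nat_lit 2, nat_lit 0, nat_lit 4, nat_lit 3, nat_lit 2, nat_lit 0, nat_lit 3, nat_lit 0])) (.leaf ((nat_lit 54), [])))) (.node (nat_lit 649) (.leaf ((nat_lit 220), [nat_lit 4, nat_lit 1, nat_lit 3, nat_lit 4, nat_lit 3, nat_lit 2, nat_lit 0, nat_lit 2, nat_lit 3, nat_lit 2])) (.node (nat_lit 650) (.leaf ((nat_lit 66), [nat_lit 1, nat_lit 1, nat_lit 3, nat_lit 4, nat_lit 2, nat_lit 3, nat_lit 1])) (.leaf ((nat_lit 208), [nat_lit 1, nat_lit 1, nat_lit 3, nat_lit 4, nat_lit 1, nat_lit 1, nat_lit 3, nat_lit 0, nat_lit 1, nat_lit 0])))))))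
 (.node (nat_lit 661) (.node (nat_lit 656) (.node (nat_lit 653) (.node (nat_lit 652) (.leaf ((nat_lit 191), [nat_lit 3, nat_lit 0, nat_lit 4, nat_lit 1, nat_lit 0, nat_lit 3, nat_lit 0, nat_lit 1, nat_lit 0])) (.leaf ((nat_lit 110), [nat_lit 0, nat_lit 4, nat_lit 0, nat_lit 2, nat_lit 0, nat_lit 4, nat_lit 1, nat_lit 0, nat_lit 1, nat_lit 0, nat_lit 2, nat_lit 0]))) (.node (nat_lit 654) (.leaf ((nat_lit 64), [])) (.node (nat_lit 655) (.leaf ((nat_lit 69), [nat_lit 1, nat_lit 3, nat_lit 4, nat_lit 2, nat_lit 2])) (.leaf ((nat_lit 205), [nat_lit 2, nat_lit 4, nat_lit 2, nat_lit 0, nat_lit 4, nat_lit 2, nat_lit 3, nat_lit 2, nat_lit 2, nat_lit 0])))))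
 (.node (nat_lit 658) (.node (nat_lit 657) (.leaf ((nat_lit 205), [nat_lit 2, nat_lit 4, nat_lit 2, nat_lit 0, nat_lit 4, nat_lit 0, nat_lit 3, nat_lit 1, nat_lit 0, nat_lit 3, nat_lit 0])) (.leaf ((nat_lit 97), [nat_lit 2, nat_lit 2, nat_lit 4, nat_lit 0, nat_lit 1, nat_lit 3, nat_lit 1, nat_lit 1, nat_lit 0]))) (.node (nat_lit 659) (.leaf ((nat_lit 66), [])) (.node (nat_lit 660) (.leaf ((nat_lit 221), [nat_lit 0, nat_lit 2, nat_lit 4, nat_lit 2, nat_lit 0, nat_lit 4, nat_lit 3, nat_lit 0, nat_lit 2, nat_lit 0, nat_lit 2])) (.leaf ((nat_lit 222), [nat_lit 0, nat_lit 2, nat_lit 4, nat_lit 3, nat_lit 1, nat_lit 0, nat_lit 1, nat_lit 3, nat_lit 0]))))))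
 (.node (nat_lit 666) (.node (nat_lit 663) (.node (nat_lit 662) (.leaf ((nat_lit 216), [nat_lit 4, nat_lit 0, nat_lit 2, nat_lit 3, nat_lit 0, nat_lit 2])) (.leaf ((nat_lit 71), []))) (.node (nat_lit 664) (.leaf ((nat_lit 102), [nat_lit 1, nat_lit 4, nat_lit 3, nat_lit 1, nat_lit 0])) (.node (nat_lit 665) (.leaf ((nat_lit 108), [nat_lit 4, nat_lit 1, nat_lit 3, nat_lit 4, nat_lit 3, nat_lit 0, nat_lit 2, nat_lit 2, nat_lit 3])) (.leaf ((nat_lit 222), [nat_lit 4, nat_lit 2, nat_lit 0, nat_lit 4, nat_lit 3, nat_lit 0, nat_lit 2, nat_lit 2, nat_lit 3, nat_lit 2])))))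
 (.node (nat_lit 669) (.node (nat_lit 667) (.leaf ((nat_lit 223), [nat_lit 1, nat_lit 0, nat_lit 1, nat_lit 4, nat_lit 0, nat_lit 1, nat_lit 3, nat_lit 1, nat_lit 1, nat_lit 0])) (.node (nat_lit 668) (.leaf ((nat_lit 97), [nat_lit 1, nat_lit 3, nat_lit 4, nat_lit 0, nat_lit 2, nat_lit 0, nat_lit 3])) (.leaf ((nat_lit 207), [nat_lit 2, nat_lit 4, nat_lit 3, nat_lit 0, nat_lit 4, nat_lit 1, nat_lit 1, nat_lit 3, nat_lit 0, nat_lit 1])))) (.node (nat_lit 670) (.leaf ((nat_lit 96), [nat_lit 3, nat_lit 2, nat_lit 0, nat_lit 4, nat_lit 1, nat_lit 3, nat_lit 1, nat_lit 1])) (.node (nat_lit 671) (.leaf ((nat_lit 77), [])) (.leaf ((nat_lit 223), [nat_lit 4, nat_lit 0, nat_lit 2, nat_lit 2, nat_lit 4, nat_lit 0, nat_lit 1, nat_lit 0, nat_lit 3]))))))))))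
noncomputable def cW_4 : Tr (ℕ × List ℕ) := (.node (nat_lit 756) (.node (nat_lit 714) (.node (nat_lit 693) (.node (nat_lit 682) (.node (nat_lit 677) (.node (nat_lit 674) (.node (nat_lit 673) (.leaf ((nat_lit 113), [])) (.leaf ((nat_lit 114), []))) (.node (nat_lit 675) (.leaf ((nat_lit 115), [])) (.node (nat_lit 676) (.leaf ((nat_lit 116), [])) (.leaf ((nat_lit 117), [])))))
 (.node (nat_lit 679) (.node (nat_lit 678) (.leaf ((nat_lit 118), [])) (.leaf ((nat_lit 112), []))) (.node (nat_lit 680) (.leaf ((nat_lit 119), [])) (.node (nat_lit 681) (.leaf ((nat_lit 120), [])) (.leaf ((nat_lit 121), []))))))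
 (.node (nat_lit 687) (.node (nat_lit 684) (.node (nat_lit 683) (.leaf ((nat_lit 122), [])) (.leaf ((nat_lit 123), []))) (.node (nat_lit 685) (.leaf ((nat_lit 2), [nat_lit 0, nat_lit 2, nat_lit 4, nat_lit 2, nat_lit 0, nat_lit 4, nat_lit 1, nat_lit 1, nat_lit 0])) (.node (nat_lit 686) (.leaf ((nat_lit 124), [])) (.leaf ((nat_lit 112), [])))))
 (.node (nat_lit 690) (.node (nat_lit 688) (.leaf ((nat_lit 125), [])) (.node (nat_lit 689) (.leaf ((nat_lit 125), [nat_lit 4, nat_lit 3, nat_lit 1, nat_lit 4, nat_lit 1, nat_lit 0, nat_lit 3, nat_lit 0, nat_lit 2])) (.leaf ((nat_lit 126), [])))) (.node (nat_lit 691) (.leaf ((nat_lit 127), [])) (.node (nat_lit 692) (.leaf ((nat_lit 112), [])) (.leaf ((nat_lit 124), [])))))))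
 (.node (nat_lit 703) (.node (nat_lit 698) (.node (nat_lit 695) (.node (nat_lit 694) (.leaf ((nat_lit 128), [])) (.leaf ((nat_lit 129), []))) (.node (nat_lit 696) (.leaf ((nat_lit 130), [])) (.node (nat_lit 697) (.leaf ((nat_lit 131), [])) (.leaf ((nat_lit 132), [])))))
 (.node (nat_lit 700) (.node (nat_lit 699) (.leaf ((nat_lit 133), [])) (.leaf ((nat_lit 112), []))) (.node (nat_lit 701) (.leaf ((nat_lit 134), [])) (.node (nat_lit 702) (.leaf ((nat_lit 135), [])) (.leaf ((nat_lit 136), []))))))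
 (.node (nat_lit 708) (.node (nat_lit 705) (.node (nat_lit 704) (.leaf ((nat_lit 137), [])) (.leaf ((nat_lit 137), [nat_lit 3, nat_lit 2, nat_lit 2, nat_lit 4, nat_lit 2, nat_lit 0, nat_lit 3, nat_lit 2, nat_lit 0, nat_lit 2, nat_lit 0]))) (.node (nat_lit 706) (.leaf ((nat_lit 138), [])) (.node (nat_lit 707) (.leaf ((nat_lit 112), [])) (.leaf ((nat_lit 131), [nat_lit 0, nat_lit 4, nat_lit 0, nat_lit 3, nat_lit 0, nat_lit 1])))))
 (.node (nat_lit 711) (.node (nat_lit 709) (.leaf ((nat_lit 139), [])) (.node (nat_lit 710) (.leaf ((nat_lit 140), [])) (.leaf ((nat_lit 141), [])))) (.node (nat_lit 712) (.leaf ((nat_lit 118), [nat_lit 3, nat_lit 4, nat_lit 3])) (.node (nat_lit 713) (.leaf ((nat_lit 118), [nat_lit 4, nat_lit 3, nat_lit 0, nat_lit 4, nat_lit 1, nat_lit 3, nat_lit 2])) (.leaf ((nat_lit 112), []))))))))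
 (.node (nat_lit 735) (.node (nat_lit 724) (.node (nat_lit 719) (.node (nat_lit 716) (.node (nat_lit 715) (.leaf ((nat_lit 142), [])) (.leaf ((nat_lit 143), []))) (.node (nat_lit 717) (.leaf ((nat_lit 113), [])) (.node (nat_lit 718) (.leaf ((nat_lit 144), [])) (.leaf ((nat_lit 145), [])))))
 (.node (nat_lit 721) (.node (nat_lit 720) (.leaf ((nat_lit 7), [nat_lit 4, nat_lit 0, nat_lit 2, nat_lit 0, nat_lit 4, nat_lit 0, nat_lit 1, nat_lit 1, nat_lit 3, nat_lit 0])) (.leaf ((nat_lit 146), []))) (.node (nat_lit 722) (.leaf ((nat_lit 113), [])) (.node (nat_lit 723) (.leaf ((nat_lit 143), [])) (.leaf ((nat_lit 147), []))))))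
 (.node (nat_lit 729) (.node (nat_lit 726) (.node (nat_lit 725) (.leaf ((nat_lit 148), [])) (.leaf ((nat_lit 149), []))) (.node (nat_lit 727) (.leaf ((nat_lit 138), [nat_lit 2, nat_lit 2, nat_lit 4, nat_lit 3, nat_lit 0, nat_lit 4, nat_lit 3, nat_lit 0, nat_lit 2, nat_lit 3, nat_lit 0, nat_lit 1, nat_lit 0])) (.node (nat_lit 728) (.leaf ((nat_lit 150), [])) (.leaf ((nat_lit 151), [])))))
 (.node (nat_lit 732) (.node (nat_lit 730) (.leaf ((nat_lit 113), [])) (.node (nat_lit 731) (.leaf ((nat_lit 121), [nat_lit 1, nat_lit 1, nat_lit 3, nat_lit 4, nat_lit 0, nat_lit 1, nat_lit 1, nat_lit 0])) (.leaf ((nat_lit 152), [])))) (.node (nat_lit 733) (.leaf ((nat_lit 140), [nat_lit 2, nat_lit 3, nat_lit 2, nat_lit 0, nat_lit 4, nat_lit 2, nat_lit 3, nat_lit 2, nat_lit 2, nat_lit 0, nat_lit 1, nat_lit 0])) (.node (nat_lit 734) (.leaf ((nat_lit 153), [])) (.leaf ((nat_lit 154), [])))))))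
 (.node (nat_lit 745) (.node (nat_lit 740) (.node (nat_lit 737) (.node (nat_lit 736) (.leaf ((nat_lit 122), [nat_lit 1, nat_lit 1, nat_lit 3, nat_lit 4, nat_lit 0, nat_lit 1, nat_lit 1, nat_lit 0])) (.leaf ((nat_lit 113), []))) (.node (nat_lit 738) (.leaf ((nat_lit 155), [])) (.node (nat_lit 739) (.leaf ((nat_lit 43), [nat_lit 3, nat_lit 4, nat_lit 2, nat_lit 2, nat_lit 0, nat_lit 3])) (.leaf ((nat_lit 156), [])))))
 (.node (nat_lit 742) (.node (nat_lit 741) (.leaf ((nat_lit 157), [])) (.leaf ((nat_lit 158), []))) (.node (nat_lit 743) (.leaf ((nat_lit 123), [nat_lit 4, nat_lit 3, nat_lit 0, nat_lit 4, nat_lit 1, nat_lit 3, nat_lit 2])) (.node (nat_lit 744) (.leaf ((nat_lit 113), [])) (.leaf ((nat_lit 36), [nat_lit 3, nat_lit 4, nat_lit 2, nat_lit 3, nat_lit 0, nat_lit 4, nat_lit 2, nat_lit 2, nat_lit 0, nat_lit 1]))))))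
 (.node (nat_lit 750) (.node (nat_lit 747) (.node (nat_lit 746) (.leaf ((nat_lit 115), [])) (.leaf ((nat_lit 114), []))) (.node (nat_lit 748) (.leaf ((nat_lit 124), [nat_lit 2, nat_lit 3, nat_lit 1])) (.node (nat_lit 749) (.leaf ((nat_lit 159), [])) (.leaf ((nat_lit 39), [nat_lit 4, nat_lit 1, nat_lit 0, nat_lit 1, nat_lit 4, nat_lit 2, nat_lit 2, nat_lit 0, nat_lit 3, nat_lit 1])))))
 (.node (nat_lit 753) (.node (nat_lit 751) (.leaf ((nat_lit 160), [])) (.node (nat_lit 752) (.leaf ((nat_lit 161), [])) (.leaf ((nat_lit 162), [])))) (.node (nat_lit 754) (.leaf ((nat_lit 114), [])) (.node (nat_lit 755) (.leaf ((nat_lit 114), [nat_lit 4, nat_lit 2, nat_lit 2, nat_lit 0, nat_lit 4, nat_lit 3, nat_lit 1, nat_lit 0, nat_lit 1, nat_lit 0])) (.leaf ((nat_lit 162), [nat_lit 2, nat_lit 2, nat_lit 4, nat_lit 3, nat_lit 0, nat_lit 4, nat_lit 3, nat_lit 2, nat_lit 0, nat_lit 2, nat_lit 0])))))))))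
 (.node (nat_lit 798) (.node (nat_lit 777) (.node (nat_lit 766) (.node (nat_lit 761) (.node (nat_lit 758) (.node (nat_lit 757) (.leaf ((nat_lit 14), [nat_lit 0, nat_lit 2, nat_lit 2, nat_lit 4, nat_lit 2, nat_lit 2, nat_lit 3, nat_lit 0, nat_lit 1])) (.leaf ((nat_lit 163), []))) (.node (nat_lit 759) (.leaf ((nat_lit 164), [])) (.node (nat_lit 760) (.leaf ((nat_lit 165), [])) (.leaf ((nat_lit 166), [])))))
 (.node (nat_lit 763) (.node (nat_lit 762) (.leaf ((nat_lit 114), [])) (.leaf ((nat_lit 115), []))) (.node (nat_lit 764) (.leaf ((nat_lit 40), [nat_lit 4, nat_lit 0, nat_lit 1, nat_lit 0, nat_lit 1, nat_lit 1])) (.node (nat_lit 765) (.leaf ((nat_lit 167), [])) (.leaf ((nat_lit 31), [nat_lit 1, nat_lit 0, nat_lit 4, nat_lit 2, nat_lit 0, nat_lit 4, nat_lit 2, nat_lit 0, nat_lit 3, nat_lit 2, nat_lit 2]))))))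
 (.node (nat_lit 771) (.node (nat_lit 768) (.node (nat_lit 767) (.leaf ((nat_lit 127), [nat_lit 0, nat_lit 1, nat_lit 4, nat_lit 0, nat_lit 1, nat_lit 3, nat_lit 2])) (.leaf ((nat_lit 168), []))) (.node (nat_lit 769) (.leaf ((nat_lit 161), [nat_lit 1, nat_lit 1, nat_lit 3, nat_lit 4, nat_lit 0, nat_lit 1, nat_lit 3, nat_lit 1, nat_lit 1])) (.node (nat_lit 770) (.leaf ((nat_lit 169), [])) (.leaf ((nat_lit 169), [nat_lit 1, nat_lit 1, nat_lit 3, nat_lit 2, nat_lit 2, nat_lit 0])))))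
 (.node (nat_lit 774) (.node (nat_lit 772) (.leaf ((nat_lit 115), [])) (.node (nat_lit 773) (.leaf ((nat_lit 170), [])) (.leaf ((nat_lit 171), [])))) (.node (nat_lit 775) (.leaf ((nat_lit 17), [nat_lit 4, nat_lit 2, nat_lit 0, nat_lit 2, nat_lit 4, nat_lit 1, nat_lit 0, nat_lit 1, nat_lit 3, nat_lit 2])) (.node (nat_lit 776) (.leaf ((nat_lit 17), [nat_lit 2, nat_lit 4, nat_lit 2, nat_lit 0, nat_lit 4, nat_lit 3])) (.leaf ((nat_lit 17), [nat_lit 4, nat_lit 1, nat_lit 1, nat_lit 3, nat_lit 4, nat_lit 2, nat_lit 3, nat_lit 0, nat_lit 2, nat_lit 0])))))))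
 (.node (nat_lit 787) (.node (nat_lit 782) (.node (nat_lit 779) (.node (nat_lit 778) (.leaf ((nat_lit 48), [nat_lit 1, nat_lit 4, nat_lit 0, nat_lit 1, nat_lit 4, nat_lit 2, nat_lit 2, nat_lit 3, nat_lit 2, nat_lit 2, nat_lit 0])) (.leaf ((nat_lit 115), []))) (.node (nat_lit 780) (.leaf ((nat_lit 17), [nat_lit 2, nat_lit 4, nat_lit 2, nat_lit 0, nat_lit 4, nat_lit 0, nat_lit 1, nat_lit 0, nat_lit 1, nat_lit 3])) (.node (nat_lit 781) (.leaf ((nat_lit 18), [nat_lit 4, nat_lit 2, nat_lit 4, nat_lit 0, nat_lit 3, nat_lit 0, nat_lit 2, nat_lit 0])) (.leaf ((nat_lit 172), [])))))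
 (.node (nat_lit 784) (.node (nat_lit 783) (.leaf ((nat_lit 54), [nat_lit 3, nat_lit 4, nat_lit 3, nat_lit 2, nat_lit 0, nat_lit 2, nat_lit 3, nat_lit 2, nat_lit 0])) (.leaf ((nat_lit 130), [nat_lit 1, nat_lit 3, nat_lit 0, nat_lit 4, nat_lit 0, nat_lit 3, nat_lit 2]))) (.node (nat_lit 785) (.leaf ((nat_lit 173), [])) (.node (nat_lit 786) (.leaf ((nat_lit 115), [])) (.leaf ((nat_lit 116), []))))))
 (.node (nat_lit 792) (.node (nat_lit 789) (.node (nat_lit 788) (.leaf ((nat_lit 174), [])) (.leaf ((nat_lit 174), [nat_lit 0, nat_lit 1, nat_lit 4, nat_lit 0, nat_lit 1, nat_lit 3, nat_lit 2]))) (.node (nat_lit 790) (.leaf ((nat_lit 136), [nat_lit 2, nat_lit 2, nat_lit 4, nat_lit 3, nat_lit 0, nat_lit 4, nat_lit 3, nat_lit 0, nat_lit 2, nat_lit 3, nat_lit 0, nat_lit 1, nat_lit 0])) (.node (nat_lit 791) (.leaf ((nat_lit 39), [nat_lit 4, nat_lit 1, nat_lit 1, nat_lit 3, nat_lit 4, nat_lit 2,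 nat_lit 2, nat_lit 0, nat_lit 1])) (.leaf ((nat_lit 117), [nat_lit 1, nat_lit 4, nat_lit 1, nat_lit 3, nat_lit 2, nat_lit 0, nat_lit 2])))))
 (.node (nat_lit 795) (.node (nat_lit 793) (.leaf ((nat_lit 175), [])) (.node (nat_lit 794) (.leaf ((nat_lit 176), [])) (.leaf ((nat_lit 116), [])))) (.node (nat_lit 796) (.leaf ((nat_lit 36), [nat_lit 4, nat_lit 2, nat_lit 3, nat_lit 0, nat_lit 4, nat_lit 2, nat_lit 0, nat_lit 1, nat_lit 1, nat_lit 3, nat_lit 2, nat_lit 0])) (.node (nat_lit 797) (.leaf ((nat_lit 29), [nat_lit 1, nat_lit 1, nat_lit 4, nat_lit 0, nat_lit 1, nat_lit 4, nat_lit 1, nat_lit 0, nat_lit 1, nat_lit 1])) (.leaf ((nat_lit 177), []))))))))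
 (.node (nat_lit 819) (.node (nat_lit 808) (.node (nat_lit 803) (.node (nat_lit 800) (.node (nat_lit 799) (.leaf ((nat_lit 23), [nat_lit 2, nat_lit 4, nat_lit 0, nat_lit 4, nat_lit 0, nat_lit 3, nat_lit 2, nat_lit 2, nat_lit 3])) (.leaf ((nat_lit 116), []))) (.node (nat_lit 801) (.leaf ((nat_lit 176), [])) (.node (nat_lit 802) (.leaf ((nat_lit 133), [nat_lit 2, nat_lit 2, nat_lit 3, nat_lit 1, nat_lit 0])) (.leaf ((nat_lit 143), [nat_lit 4, nat_lit 3, nat_lit 1, nat_lit 4, nat_lit 3, nat_lit 2, nat_lit 2, nat_lit 3, nat_lit 0])))))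
 (.node (nat_lit 805) (.node (nat_lit 804) (.leaf ((nat_lit 178), [])) (.leaf ((nat_lit 179), []))) (.node (nat_lit 806) (.leaf ((nat_lit 32), [nat_lit 1, nat_lit 1, nat_lit 4, nat_lit 0, nat_lit 1, nat_lit 4, nat_lit 1, nat_lit 0, nat_lit 1, nat_lit 3, nat_lit 0])) (.node (nat_lit 807) (.leaf ((nat_lit 180), [])) (.leaf ((nat_lit 37), [nat_lit 4, nat_lit 1, nat_lit 3, nat_lit 4, nat_lit 2, nat_lit 0, nat_lit 2, nat_lit 0, nat_lit 1, nat_lit 0]))))))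
 (.node (nat_lit 813) (.node (nat_lit 810) (.node (nat_lit 809) (.leaf ((nat_lit 116), [])) (.leaf ((nat_lit 181), []))) (.node (nat_lit 811) (.leaf ((nat_lit 21), [nat_lit 0, nat_lit 2, nat_lit 4, nat_lit 2, nat_lit 0, nat_lit 4, nat_lit 3, nat_lit 2, nat_lit 2, nat_lit 0, nat_lit 1, nat_lit 0])) (.node (nat_lit 812) (.leaf ((nat_lit 159), [nat_lit 0, nat_lit 1, nat_lit 4, nat_lit 3, nat_lit 1, nat_lit 1, nat_lit 0, nat_lit 3, nat_lit 0])) (.leaf ((nat_lit 175), [nat_lit 4, nat_lit 2, nat_lit 2, nat_lit 0, nat_lit 4, nat_lit 0, nat_lit 3, nat_lit 0, nat_lit 1, nat_lit 0])))))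
 (.node (nat_lit 816) (.node (nat_lit 814) (.leaf ((nat_lit 28), [nat_lit 3, nat_lit 2, nat_lit 2, nat_lit 4, nat_lit 0, nat_lit 2, nat_lit 0, nat_lit 3, nat_lit 0])) (.node (nat_lit 815) (.leaf ((nat_lit 28), [nat_lit 0, nat_lit 4, nat_lit 0, nat_lit 1, nat_lit 4, nat_lit 3, nat_lit 1, nat_lit 0, nat_lit 2])) (.leaf ((nat_lit 116), [])))) (.node (nat_lit 817) (.leaf ((nat_lit 117), [])) (.node (nat_lit 818) (.leaf ((nat_lit 182), [])) (.leaf ((nat_lit 67), [nat_lit 4, nat_lit 1, nat_lit 1, nat_lit 3, nat_lit 4, nat_lit 0, nat_lit 1, nat_lit 1, nat_lit 3, nat_lit 1])))))))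
 (.node (nat_lit 829) (.node (nat_lit 824) (.node (nat_lit 821) (.node (nat_lit 820) (.leaf ((nat_lit 131), [nat_lit 2, nat_lit 0, nat_lit 4, nat_lit 0, nat_lit 4, nat_lit 0, nat_lit 2, nat_lit 2, nat_lit 3, nat_lit 2])) (.leaf ((nat_lit 49), [nat_lit 4, nat_lit 2, nat_lit 0, nat_lit 2, nat_lit 4, nat_lit 1, nat_lit 0, nat_lit 1, nat_lit 0, nat_lit 2]))) (.node (nat_lit 822) (.leaf ((nat_lit 183), [])) (.node (nat_lit 823) (.leaf ((nat_lit 25), [nat_lit 4, nat_lit 1, nat_lit 1, nat_lit 3, nat_lit 4, nat_lit 1, nat_lit 0, nat_lit 3, nat_lit 0, nat_lit 1, nat_lit 0])) (.leaf ((nat_lit 117), [nat_lit 3, nat_lit 2, nat_lit 2, nat_lit 4, nat_lit 2, nat_lit 0, nat_lit 3, nat_lit 2, nat_lit 0, nat_lit 2, nat_lit 0])))))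
 (.node (nat_lit 826) (.node (nat_lit 825) (.leaf ((nat_lit 117), [])) (.leaf ((nat_lit 146), [nat_lit 2, nat_lit 0, nat_lit 2, nat_lit 4, nat_lit 1, nat_lit 1, nat_lit 0, nat_lit 1, nat_lit 1, nat_lit 0]))) (.node (nat_lit 827) (.leaf ((nat_lit 184), [])) (.node (nat_lit 828) (.leaf ((nat_lit 68), [nat_lit 0, nat_lit 2, nat_lit 4, nat_lit 2, nat_lit 0, nat_lit 4, nat_lit 0, nat_lit 1, nat_lit 3, nat_lit 2, nat_lit 2])) (.leaf ((nat_lit 121), [nat_lit 2, nat_lit 0, nat_lit 4, nat_lit 0, nat_lit 4, nat_lit 0, nat_lit 2, nat_lit 2, nat_lit 3, nat_lit 2]))))))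
 (.node (nat_lit 834) (.node (nat_lit 831) (.node (nat_lit 830) (.leaf ((nat_lit 170), [nat_lit 0, nat_lit 3, nat_lit 4, nat_lit 3, nat_lit 1, nat_lit 0, nat_lit 2, nat_lit 2, nat_lit 0])) (.leaf ((nat_lit 185), []))) (.node (nat_lit 832) (.leaf ((nat_lit 117), [])) (.node (nat_lit 833) (.leaf ((nat_lit 37), [nat_lit 4, nat_lit 1, nat_lit 3, nat_lit 4, nat_lit 2, nat_lit 0, nat_lit 2, nat_lit 0, nat_lit 1, nat_lit 0])) (.leaf ((nat_lit 186), [])))))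
 (.node (nat_lit 837) (.node (nat_lit 835) (.leaf ((nat_lit 118), [])) (.node (nat_lit 836) (.leaf ((nat_lit 42), [nat_lit 3, nat_lit 4, nat_lit 2, nat_lit 3, nat_lit 0, nat_lit 4, nat_lit 2, nat_lit 2, nat_lit 0, nat_lit 3, nat_lit 2, nat_lit 0])) (.leaf ((nat_lit 41), [nat_lit 3, nat_lit 4, nat_lit 2, nat_lit 3, nat_lit 0, nat_lit 4, nat_lit 2, nat_lit 2, nat_lit 0, nat_lit 3, nat_lit 2, nat_lit 0])))) (.node (nat_lit 838) (.leaf ((nat_lit 145), [nat_lit 3, nat_lit 2, nat_lit 2, nat_lit 0, nat_lit 2])) (.node (nat_lit 839) (.leaf ((nat_lit 187), [])) (.leaf ((nat_lit 28), [nat_lit 4, nat_lit 0, nat_lit 2, nat_lit 0, nat_lit 4, nat_lit 1, nat_lit 3, nat_lit 0, nat_lit 1, nat_lit 0]))))))))))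
noncomputable def cW_5 : Tr (ℕ × List ℕ) := (.node (nat_lit 924) (.node (nat_lit 882) (.node (nat_lit 861) (.node (nat_lit 850) (.node (nat_lit 845) (.node (nat_lit 842) (.node (nat_lit 841) (.leaf ((nat_lit 122), [nat_lit 3, nat_lit 2, nat_lit 4, nat_lit 3, nat_lit 0, nat_lit 2, nat_lit 2, nat_lit 3, nat_lit 0])) (.leaf ((nat_lit 168), [nat_lit 4, nat_lit 0, nat_lit 2, nat_lit 2, nat_lit 4, nat_lit 0, nat_lit 1, nat_lit 3]))) (.node (nat_lit 843) (.leaf ((nat_lit 118), [])) (.node (nat_lit 844) (.leaf ((nat_lit 23), [nat_lit 0, nat_lit 1, nat_lit 4, nat_lit 0, nat_lit 1, nat_lit 0, nat_lit 2])) (.leaf ((nat_lit 23), [nat_lit 2, nat_lit 4, nat_lit 0, nat_lit 4, nat_lit 0, nat_lit 2, nat_lit 3, nat_lit 0, nat_lit 2])))))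
 (.node (nat_lit 847) (.node (nat_lit 846) (.leaf ((nat_lit 27), [nat_lit 0, nat_lit 4, nat_lit 0, nat_lit 2, nat_lit 0, nat_lit 4, nat_lit 0, nat_lit 2, nat_lit 2, nat_lit 3, nat_lit 2, nat_lit 2, nat_lit 0])) (.leaf ((nat_lit 29), [nat_lit 4, nat_lit 2, nat_lit 0, nat_lit 2, nat_lit 4, nat_lit 0, nat_lit 2, nat_lit 0, nat_lit 1]))) (.node (nat_lit 848) (.leaf ((nat_lit 118), [])) (.node (nat_lit 849) (.leaf ((nat_lit 168), [nat_lit 4, nat_lit 0, nat_lit 2, nat_lit 2, nat_lit 4, nat_lit 0, nat_lit 1, nat_lit 3])) (.leaf ((nat_lit 188), []))))))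
 (.node (nat_lit 855) (.node (nat_lit 852) (.node (nat_lit 851) (.leaf ((nat_lit 20), [nat_lit 1, nat_lit 4, nat_lit 0, nat_lit 1, nat_lit 4, nat_lit 3, nat_lit 1, nat_lit 0, nat_lit 3, nat_lit 0, nat_lit 2])) (.leaf ((nat_lit 189), []))) (.node (nat_lit 853) (.leaf ((nat_lit 119), [])) (.node (nat_lit 854) (.leaf ((nat_lit 171), [nat_lit 2, nat_lit 0, nat_lit 4, nat_lit 0, nat_lit 4, nat_lit 1, nat_lit 0, nat_lit 1, nat_lit 1, nat_lit 0])) (.leaf ((nat_lit 190), [])))))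
 (.node (nat_lit 858) (.node (nat_lit 856) (.leaf ((nat_lit 57), [nat_lit 4, nat_lit 1, nat_lit 0, nat_lit 1, nat_lit 4, nat_lit 3, nat_lit 0, nat_lit 1, nat_lit 3])) (.node (nat_lit 857) (.leaf ((nat_lit 50), [nat_lit 4, nat_lit 2, nat_lit 4, nat_lit 0, nat_lit 4, nat_lit 0, nat_lit 2, nat_lit 0, nat_lit 1])) (.leaf ((nat_lit 191), [])))) (.node (nat_lit 859) (.leaf ((nat_lit 58), [nat_lit 2, nat_lit 2, nat_lit 4, nat_lit 2, nat_lit 0, nat_lit 4, nat_lit 2, nat_lit 0, nat_lit 1, nat_lit 3])) (.node (nat_lit 860) (.leaf ((nat_lit 120), [])) (.leaf ((nat_lit 119), [])))))))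
 (.node (nat_lit 871) (.node (nat_lit 866) (.node (nat_lit 863) (.node (nat_lit 862) (.leaf ((nat_lit 15), [nat_lit 0, nat_lit 2, nat_lit 4, nat_lit 2, nat_lit 0, nat_lit 4, nat_lit 2, nat_lit 0, nat_lit 2, nat_lit 3, nat_lit 0])) (.leaf ((nat_lit 133), [nat_lit 2, nat_lit 0, nat_lit 4, nat_lit 0, nat_lit 4, nat_lit 1, nat_lit 0, nat_lit 1, nat_lit 1, nat_lit 3]))) (.node (nat_lit 864) (.leaf ((nat_lit 192), [])) (.node (nat_lit 865) (.leaf ((nat_lit 32), [nat_lit 4, nat_lit 2, nat_lit 0, nat_lit 2, nat_lit 4, nat_lit 3, nat_lit 1, nat_lit 1])) (.leaf ((nat_lit 65), [nat_lit 1, nat_lit 4, nat_lit 1, nat_lit 3, nat_lit 4, nat_lit 1, nat_lit 0, nat_lit 3])))))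
 (.node (nat_lit 868) (.node (nat_lit 867) (.leaf ((nat_lit 22), [nat_lit 3, nat_lit 4, nat_lit 2, nat_lit 3, nat_lit 0, nat_lit 4, nat_lit 2, nat_lit 0, nat_lit 3])) (.leaf ((nat_lit 119), []))) (.node (nat_lit 869) (.leaf ((nat_lit 193), [])) (.node (nat_lit 870) (.leaf ((nat_lit 47), [nat_lit 4, nat_lit 1, nat_lit 0, nat_lit 1, nat_lit 4, nat_lit 3, nat_lit 2, nat_lit 2, nat_lit 0, nat_lit 2])) (.leaf ((nat_lit 185), [nat_lit 4, nat_lit 2, nat_lit 3, nat_lit 4, nat_lit 1, nat_lit 0, nat_lit 2]))))))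
 (.node (nat_lit 876) (.node (nat_lit 873) (.node (nat_lit 872) (.leaf ((nat_lit 78), [nat_lit 4, nat_lit 0, nat_lit 1, nat_lit 4, nat_lit 1, nat_lit 1, nat_lit 3, nat_lit 0, nat_lit 2])) (.leaf ((nat_lit 59), [nat_lit 4, nat_lit 1, nat_lit 0, nat_lit 1, nat_lit 4, nat_lit 1, nat_lit 0, nat_lit 1, nat_lit 3]))) (.node (nat_lit 874) (.leaf ((nat_lit 139), [nat_lit 1, nat_lit 0, nat_lit 1, nat_lit 1, nat_lit 3])) (.node (nat_lit 875) (.leaf ((nat_lit 119), [])) (.leaf ((nat_lit 194), [])))))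
 (.node (nat_lit 879) (.node (nat_lit 877) (.leaf ((nat_lit 120), [])) (.node (nat_lit 878) (.leaf ((nat_lit 195), [])) (.leaf ((nat_lit 196), [])))) (.node (nat_lit 880) (.leaf ((nat_lit 137), [nat_lit 3, nat_lit 2, nat_lit 0, nat_lit 4, nat_lit 3, nat_lit 0, nat_lit 1, nat_lit 0, nat_lit 2, nat_lit 2, nat_lit 0])) (.node (nat_lit 881) (.leaf ((nat_lit 197), [])) (.leaf ((nat_lit 198), []))))))))
 (.node (nat_lit 903) (.node (nat_lit 892) (.node (nat_lit 887) (.node (nat_lit 884) (.node (nat_lit 883) (.leaf ((nat_lit 35), [nat_lit 4, nat_lit 1, nat_lit 1, nat_lit 3, nat_lit 4, nat_lit 1, nat_lit 0, nat_lit 3, nat_lit 0, nat_lit 1, nat_lit 0])) (.leaf ((nat_lit 199), []))) (.node (nat_lit 885) (.leaf ((nat_lit 48), [nat_lit 4, nat_lit 0, nat_lit 1, nat_lit 4, nat_lit 1, nat_lit 3, nat_lit 1, nat_lit 1, nat_lit 0])) (.node (nat_lit 886) (.leaf ((nat_lit 120), [])) (.leaf ((nat_lit 188),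 [nat_lit 1, nat_lit 0, nat_lit 4, nat_lit 0, nat_lit 1, nat_lit 3, nat_lit 0, nat_lit 2])))))
 (.node (nat_lit 889) (.node (nat_lit 888) (.leaf ((nat_lit 38), [nat_lit 1, nat_lit 4, nat_lit 2, nat_lit 0, nat_lit 4, nat_lit 2, nat_lit 2, nat_lit 0, nat_lit 3, nat_lit 2, nat_lit 0])) (.leaf ((nat_lit 12), [nat_lit 4, nat_lit 0, nat_lit 2, nat_lit 4, nat_lit 0, nat_lit 4, nat_lit 1, nat_lit 0, nat_lit 1, nat_lit 0, nat_lit 2, nat_lit 0]))) (.node (nat_lit 890) (.leaf ((nat_lit 84), [nat_lit 3, nat_lit 4, nat_lit 2, nat_lit 3, nat_lit 0, nat_lit 4, nat_lit 2, nat_lit 2, nat_lit 0, nat_lit 3, nat_lit 1])) (.node (nat_lit 891) (.leaf ((nat_lit 83), [nat_lit 3, nat_lit 4, nat_lit 2, nat_lit 3, nat_lit 0, nat_lit 4, nat_lit 2, nat_lit 2, nat_lit 0, nat_lit 3, nat_lit 1])) (.leaf ((nat_lit 20), [nat_lit 1, nat_lit 0, nat_lit 4, nat_lit 2, nat_lit 0, nat_lit 4, nat_lit 3, nat_lit 1, nat_lit 0,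 nat_lit 3, nat_lit 0, nat_lit 2]))))))
 (.node (nat_lit 897) (.node (nat_lit 894) (.node (nat_lit 893) (.leaf ((nat_lit 120), [])) (.leaf ((nat_lit 172), [nat_lit 2, nat_lit 4, nat_lit 3, nat_lit 2, nat_lit 4, nat_lit 2, nat_lit 0, nat_lit 1, nat_lit 0, nat_lit 1, nat_lit 0]))) (.node (nat_lit 895) (.leaf ((nat_lit 37), [nat_lit 4, nat_lit 2, nat_lit 4, nat_lit 0, nat_lit 3, nat_lit 0, nat_lit 2, nat_lit 0])) (.node (nat_lit 896) (.leaf ((nat_lit 37), [nat_lit 1, nat_lit 4, nat_lit 3, nat_lit 1, nat_lit 4, nat_lit 2, nat_lit 0, nat_lit 2, nat_lit 3, nat_lit 0, nat_lit 2, nat_lit 0])) (.leaf ((nat_lit 37), [nat_lit 4, nat_lit 0, nat_lit 2, nat_lit 4, nat_lit 0, nat_lit 4, nat_lit 0, nat_lit 1, nat_lit 1, nat_lit 3, nat_lit 0])))))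
 (.node (nat_lit 900) (.node (nat_lit 898) (.leaf ((nat_lit 22), [nat_lit 3, nat_lit 4, nat_lit 3, nat_lit 0, nat_lit 4, nat_lit 3, nat_lit 0, nat_lit 2, nat_lit 2, nat_lit 3])) (.node (nat_lit 899) (.leaf ((nat_lit 26), [nat_lit 3, nat_lit 4, nat_lit 3, nat_lit 0, nat_lit 4, nat_lit 3, nat_lit 0, nat_lit 2, nat_lit 2, nat_lit 3])) (.leaf ((nat_lit 120), [])))) (.node (nat_lit 901) (.leaf ((nat_lit 200), [])) (.node (nat_lit 902) (.leaf ((nat_lit 81), [nat_lit 4, nat_lit 2, nat_lit 4, nat_lit 0, nat_lit 4, nat_lit 1, nat_lit 3, nat_lit 1, nat_lit 1])) (.leaf ((nat_lit 121), [])))))))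
 (.node (nat_lit 913) (.node (nat_lit 908) (.node (nat_lit 905) (.node (nat_lit 904) (.leaf ((nat_lit 68), [nat_lit 4, nat_lit 0, nat_lit 1, nat_lit 4, nat_lit 3, nat_lit 1, nat_lit 1, nat_lit 3, nat_lit 0, nat_lit 2])) (.leaf ((nat_lit 195), [nat_lit 2, nat_lit 0, nat_lit 2, nat_lit 4, nat_lit 1, nat_lit 3, nat_lit 2, nat_lit 0, nat_lit 1, nat_lit 0]))) (.node (nat_lit 906) (.leaf ((nat_lit 35), [nat_lit 4, nat_lit 1, nat_lit 0, nat_lit 1, nat_lit 4, nat_lit 2, nat_lit 2, nat_lit 3, nat_lit 1, nat_lit 1])) (.node (nat_lit 907) (.leaf ((nat_lit 39), [nat_lit 4, nat_lit 2, nat_lit 0, nat_lit 2, nat_lit 4, nat_lit 3, nat_lit 0, nat_lit 2, nat_lit 3, nat_lit 0, nat_lit 1])) (.leaf ((nat_lit 121), [])))))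
 (.node (nat_lit 910) (.node (nat_lit 909) (.leaf ((nat_lit 81), [nat_lit 4, nat_lit 2, nat_lit 4, nat_lit 0, nat_lit 4, nat_lit 1, nat_lit 3, nat_lit 1, nat_lit 1])) (.leaf ((nat_lit 55), [nat_lit 4, nat_lit 1, nat_lit 1, nat_lit 3, nat_lit 4, nat_lit 1, nat_lit 0, nat_lit 2, nat_lit 0, nat_lit 2, nat_lit 0]))) (.node (nat_lit 911) (.leaf ((nat_lit 19), [nat_lit 4, nat_lit 2, nat_lit 4, nat_lit 0, nat_lit 4, nat_lit 3, nat_lit 1, nat_lit 0, nat_lit 3, nat_lit 0, nat_lit 2])) (.node (nat_lit 912) (.leaf ((nat_lit 12), [nat_lit 0, nat_lit 4, nat_lit 0, nat_lit 4, nat_lit 1, nat_lit 0, nat_lit 1, nat_lit 3, nat_lit 0])) (.leaf ((nat_lit 201), []))))))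
 (.node (nat_lit 918) (.node (nat_lit 915) (.node (nat_lit 914) (.leaf ((nat_lit 76), [nat_lit 4, nat_lit 2, nat_lit 3, nat_lit 4, nat_lit 1, nat_lit 0, nat_lit 2, nat_lit 2])) (.leaf ((nat_lit 15), [nat_lit 4, nat_lit 0, nat_lit 2, nat_lit 0, nat_lit 1, nat_lit 3, nat_lit 0]))) (.node (nat_lit 916) (.leaf ((nat_lit 72), [nat_lit 3, nat_lit 4, nat_lit 2])) (.node (nat_lit 917) (.leaf ((nat_lit 171), [nat_lit 4, nat_lit 2, nat_lit 4, nat_lit 3, nat_lit 0, nat_lit 4, nat_lit 1, nat_lit 0, nat_lit 1, nat_lit 0])) (.leaf ((nat_lit 121), [])))))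
 (.node (nat_lit 921) (.node (nat_lit 919) (.leaf ((nat_lit 202), [])) (.node (nat_lit 920) (.leaf ((nat_lit 27), [nat_lit 2, nat_lit 2, nat_lit 4, nat_lit 2, nat_lit 0, nat_lit 3, nat_lit 2, nat_lit 0])) (.leaf ((nat_lit 122), [])))) (.node (nat_lit 922) (.leaf ((nat_lit 58), [nat_lit 4, nat_lit 2, nat_lit 0, nat_lit 4, nat_lit 0, nat_lit 1, nat_lit 0, nat_lit 2, nat_lit 2])) (.node (nat_lit 923) (.leaf ((nat_lit 160), [nat_lit 2, nat_lit 4, nat_lit 0, nat_lit 3, nat_lit 4, nat_lit 2, nat_lit 0, nat_lit 2, nat_lit 0, nat_lit 1])) (.leaf ((nat_lit 199), [nat_lit 3, nat_lit 2, nat_lit 2, nat_lit 4, nat_lit 2, nat_lit 0, nat_lit 1, nat_lit 3])))))))))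
 (.node (nat_lit 966) (.node (nat_lit 945) (.node (nat_lit 934) (.node (nat_lit 929) (.node (nat_lit 926) (.node (nat_lit 925) (.leaf ((nat_lit 42), [nat_lit 4, nat_lit 2, nat_lit 3, nat_lit 0, nat_lit 4, nat_lit 0, nat_lit 1, nat_lit 1, nat_lit 3, nat_lit 1])) (.leaf ((nat_lit 122), []))) (.node (nat_lit 927) (.leaf ((nat_lit 27), [nat_lit 2, nat_lit 2, nat_lit 4, nat_lit 2, nat_lit 0, nat_lit 3, nat_lit 2, nat_lit 0])) (.node (nat_lit 928) (.leaf ((nat_lit 203), [])) (.leaf ((nat_lit 89), [nat_lit 4, nat_lit 2, nat_lit 2, nat_lit 0, nat_lit 4, nat_lit 2, nat_lit 3, nat_lit 2, nat_lit 2, nat_lit 0, nat_lit 1])))))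
 (.node (nat_lit 931) (.node (nat_lit 930) (.leaf ((nat_lit 204), [])) (.leaf ((nat_lit 11), [nat_lit 3, nat_lit 4, nat_lit 2, nat_lit 2, nat_lit 0, nat_lit 3]))) (.node (nat_lit 932) (.leaf ((nat_lit 86), [nat_lit 2, nat_lit 0, nat_lit 4, nat_lit 0, nat_lit 4, nat_lit 3, nat_lit 0, nat_lit 1, nat_lit 0])) (.node (nat_lit 933) (.leaf ((nat_lit 46), [nat_lit 1, nat_lit 0, nat_lit 4, nat_lit 3, nat_lit 1, nat_lit 1, nat_lit 3, nat_lit 0, nat_lit 2, nat_lit 0])) (.leaf ((nat_lit 82), [nat_lit 1, nat_lit 4, nat_lit 3, nat_lit 1, nat_lit 4, nat_lit 2, nat_lit 2, nat_lit 0, nat_lit 3]))))))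
 (.node (nat_lit 939) (.node (nat_lit 936) (.node (nat_lit 935) (.leaf ((nat_lit 205), [])) (.leaf ((nat_lit 122), []))) (.node (nat_lit 937) (.leaf ((nat_lit 52), [nat_lit 1, nat_lit 4, nat_lit 3, nat_lit 1, nat_lit 4, nat_lit 2, nat_lit 0, nat_lit 2, nat_lit 0, nat_lit 3])) (.node (nat_lit 938) (.leaf ((nat_lit 206), [])) (.leaf ((nat_lit 123), [])))))
 (.node (nat_lit 942) (.node (nat_lit 940) (.leaf ((nat_lit 207), [])) (.node (nat_lit 941) (.leaf ((nat_lit 208), [])) (.leaf ((nat_lit 209), [])))) (.node (nat_lit 943) (.leaf ((nat_lit 210), [])) (.node (nat_lit 944) (.leaf ((nat_lit 123), [])) (.leaf ((nat_lit 206), [])))))))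
 (.node (nat_lit 955) (.node (nat_lit 950) (.node (nat_lit 947) (.node (nat_lit 946) (.leaf ((nat_lit 157), [nat_lit 3, nat_lit 2, nat_lit 4, nat_lit 1, nat_lit 3])) (.leaf ((nat_lit 157), [nat_lit 1, nat_lit 4, nat_lit 2, nat_lit 3, nat_lit 0, nat_lit 1, nat_lit 1, nat_lit 0]))) (.node (nat_lit 948) (.leaf ((nat_lit 89), [nat_lit 2, nat_lit 0, nat_lit 2, nat_lit 4, nat_lit 1, nat_lit 1, nat_lit 3, nat_lit 1, nat_lit 1])) (.node (nat_lit 949) (.leaf ((nat_lit 186), [nat_lit 4, nat_lit 1, nat_lit 0, nat_lit 1, nat_lit 4, nat_lit 1, nat_lit 3, nat_lit 1])) (.leaf ((nat_lit 43), [nat_lit 4, nat_lit 2, nat_lit 3, nat_lit 4, nat_lit 1, nat_lit 1, nat_lit 3, nat_lit 2, nat_lit 0])))))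
 (.node (nat_lit 952) (.node (nat_lit 951) (.leaf ((nat_lit 211), [])) (.leaf ((nat_lit 123), []))) (.node (nat_lit 953) (.leaf ((nat_lit 212), [])) (.node (nat_lit 954) (.leaf ((nat_lit 98), [nat_lit 2, nat_lit 4, nat_lit 2, nat_lit 2, nat_lit 0, nat_lit 4, nat_lit 1, nat_lit 0, nat_lit 1, nat_lit 3, nat_lit 0])) (.leaf ((nat_lit 47), [nat_lit 4, nat_lit 2, nat_lit 0, nat_lit 2, nat_lit 4, nat_lit 1, nat_lit 3, nat_lit 2, nat_lit 0]))))))
 (.node (nat_lit 960) (.node (nat_lit 957) (.node (nat_lit 956) (.leaf ((nat_lit 75), [nat_lit 2, nat_lit 4, nat_lit 3, nat_lit 2, nat_lit 4, nat_lit 1, nat_lit 1, nat_lit 3, nat_lit 0, nat_lit 2])) (.leaf ((nat_lit 135), [nat_lit 3, nat_lit 1, nat_lit 4, nat_lit 3, nat_lit 1, nat_lit 1, nat_lit 3]))) (.node (nat_lit 958) (.leaf ((nat_lit 177), [nat_lit 1, nat_lit 3, nat_lit 4, nat_lit 1, nat_lit 0, nat_lit 3, nat_lit 2, nat_lit 2])) (.node (nat_lit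 959) (.leaf ((nat_lit 124), [])) (.leaf ((nat_lit 32), [nat_lit 1, nat_lit 1, nat_lit 4, nat_lit 0, nat_lit 1, nat_lit 4, nat_lit 1, nat_lit 0, nat_lit 1, nat_lit 3, nat_lit 2])))))
 (.node (nat_lit 963) (.node (nat_lit 961) (.leaf ((nat_lit 125), [])) (.node (nat_lit 962) (.leaf ((nat_lit 35), [nat_lit 1, nat_lit 4, nat_lit 0, nat_lit 1, nat_lit 4, nat_lit 2, nat_lit 2, nat_lit 3, nat_lit 2, nat_lit 2, nat_lit 0])) (.leaf ((nat_lit 184), [nat_lit 4, nat_lit 3, nat_lit 1, nat_lit 4, nat_lit 0, nat_lit 3, nat_lit 1, nat_lit 0, nat_lit 2, nat_lit 2, nat_lit 0])))) (.node (nat_lit 964) (.leaf ((nat_lit 17), [nat_lit 4, nat_lit 0, nat_lit 1, nat_lit 4, nat_lit 1, nat_lit 3, nat_lit 1, nat_lit 1, nat_lit 0])) (.node (nat_lit 965) (.leaf ((nat_lit 153), [nat_lit 1, nat_lit 4, nat_lit 3, nat_lit 1, nat_lit 4, nat_lit 2, nat_lit 0, nat_lit 1, nat_lit 3, nat_lit 0])) (.leaf ((nat_lit 211), [nat_lit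 3, nat_lit 0, nat_lit 4, nat_lit 3, nat_lit 2, nat_lit 0, nat_lit 1]))))))))
 (.node (nat_lit 987) (.node (nat_lit 976) (.node (nat_lit 971) (.node (nat_lit 968) (.node (nat_lit 967) (.leaf ((nat_lit 128), [nat_lit 3, nat_lit 2, nat_lit 2, nat_lit 4, nat_lit 3, nat_lit 1, nat_lit 0, nat_lit 2, nat_lit 2, nat_lit 0])) (.leaf ((nat_lit 213), []))) (.node (nat_lit 969) (.leaf ((nat_lit 125), [])) (.node (nat_lit 970) (.leaf ((nat_lit 90), [nat_lit 4, nat_lit 3, nat_lit 2, nat_lit 2, nat_lit 4, nat_lit 2, nat_lit 0, nat_lit 3, nat_lit 1, nat_lit 0])) (.leaf ((nat_lit 24), [nat_lit 4, nat_lit 2, nat_lit 0, nat_lit 2, nat_lit 4, nat_lit 2, nat_lit 3, nat_lit 1, nat_lit 0, nat_lit 2])))))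
 (.node (nat_lit 973) (.node (nat_lit 972) (.leaf ((nat_lit 214), [])) (.leaf ((nat_lit 50), [nat_lit 4, nat_lit 2, nat_lit 4, nat_lit 0, nat_lit 4, nat_lit 2, nat_lit 0, nat_lit 1, nat_lit 3]))) (.node (nat_lit 974) (.leaf ((nat_lit 125), [])) (.node (nat_lit 975) (.leaf ((nat_lit 213), [])) (.leaf ((nat_lit 195), [nat_lit 3, nat_lit 4, nat_lit 2, nat_lit 3, nat_lit 0, nat_lit 4, nat_lit 1]))))))
 (.node (nat_lit 981) (.node (nat_lit 978) (.node (nat_lit 977) (.leaf ((nat_lit 30), [nat_lit 4, nat_lit 1, nat_lit 1, nat_lit 3, nat_lit 4, nat_lit 2, nat_lit 2, nat_lit 0, nat_lit 3, nat_lit 1])) (.leaf ((nat_lit 125), [nat_lit 2, nat_lit 4, nat_lit 0, nat_lit 3, nat_lit 4, nat_lit 2, nat_lit 3, nat_lit 2, nat_lit 2, nat_lit 0]))) (.node (nat_lit 979) (.leaf ((nat_lit 82), [nat_lit 0, nat_lit 4, nat_lit 3, nat_lit 1, nat_lit 0, nat_lit 2, nat_lit 2, nat_lit 0])) (.node (nat_lit 980) (.leaf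 ((nat_lit 212), [nat_lit 0, nat_lit 4, nat_lit 2, nat_lit 0, nat_lit 4, nat_lit 3, nat_lit 1, nat_lit 0, nat_lit 3, nat_lit 0, nat_lit 2, nat_lit 0])) (.leaf ((nat_lit 126), [])))))
 (.node (nat_lit 984) (.node (nat_lit 982) (.leaf ((nat_lit 61), [nat_lit 4, nat_lit 2, nat_lit 0, nat_lit 2, nat_lit 4, nat_lit 1, nat_lit 0, nat_lit 3, nat_lit 0, nat_lit 2])) (.node (nat_lit 983) (.leaf ((nat_lit 163), [nat_lit 3, nat_lit 1, nat_lit 0, nat_lit 4, nat_lit 1, nat_lit 0, nat_lit 1, nat_lit 0])) (.leaf ((nat_lit 215), [])))) (.node (nat_lit 985) (.leaf ((nat_lit 44), [nat_lit 3, nat_lit 4, nat_lit 2, nat_lit 3, nat_lit 0, nat_lit 4, nat_lit 3, nat_lit 1, nat_lit 1, nat_lit 3])) (.node (nat_lit 986) (.leaf ((nat_lit 126), [])) (.leaf ((nat_lit 212), [nat_lit 0, nat_lit 4, nat_lit 2, nat_lit 0, nat_lit 4, nat_lit 3, nat_lit 1, nat_lit 0, nat_lit 3, nat_lit 0, nat_lit 2, nat_lit 0])))))))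
 (.node (nat_lit 997) (.node (nat_lit 992) (.node (nat_lit 989) (.node (nat_lit 988) (.leaf ((nat_lit 216), [])) (.leaf ((nat_lit 217), []))) (.node (nat_lit 990) (.leaf ((nat_lit 218), [])) (.node (nat_lit 991) (.leaf ((nat_lit 208), [nat_lit 0, nat_lit 4, nat_lit 0, nat_lit 2, nat_lit 0, nat_lit 4, nat_lit 2, nat_lit 2, nat_lit 3, nat_lit 0, nat_lit 1, nat_lit 0])) (.leaf ((nat_lit 71), [nat_lit 4, nat_lit 0, nat_lit 4, nat_lit 2, nat_lit 0, nat_lit 3, nat_lit 2])))))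
 (.node (nat_lit 994) (.node (nat_lit 993) (.leaf ((nat_lit 216), [nat_lit 2, nat_lit 3, nat_lit 4, nat_lit 1, nat_lit 0, nat_lit 1, nat_lit 1, nat_lit 3])) (.leaf ((nat_lit 126), []))) (.node (nat_lit 995) (.leaf ((nat_lit 92), [nat_lit 0, nat_lit 2, nat_lit 2, nat_lit 4, nat_lit 0, nat_lit 1, nat_lit 0, nat_lit 2, nat_lit 0])) (.node (nat_lit 996) (.leaf ((nat_lit 93), [nat_lit 1, nat_lit 0, nat_lit 4, nat_lit 0, nat_lit 2, nat_lit 0, nat_lit 1, nat_lit 3, nat_lit 2])) (.leaf ((nat_lit 54), [nat_lit 4, nat_lit 2, nat_lit 0, nat_lit 2, nat_lit 4, nat_lit 3, nat_lit 2, nat_lit 0, nat_lit 2, nat_lit 3]))))))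
 (.node (nat_lit 1002) (.node (nat_lit 999) (.node (nat_lit 998) (.leaf ((nat_lit 18), [nat_lit 3, nat_lit 1, nat_lit 0, nat_lit 4, nat_lit 1, nat_lit 3, nat_lit 2, nat_lit 0, nat_lit 2, nat_lit 0])) (.leaf ((nat_lit 103), [nat_lit 4, nat_lit 1, nat_lit 3, nat_lit 4, nat_lit 1, nat_lit 3, nat_lit 2, nat_lit 0, nat_lit 2]))) (.node (nat_lit 1000) (.leaf ((nat_lit 206), [nat_lit 1, nat_lit 1, nat_lit 4, nat_lit 0, nat_lit 4, nat_lit 2, nat_lit 3, nat_lit 1, nat_lit 0, nat_lit 2, nat_lit 0])) (.node (nat_lit 1001) (.leaf ((nat_lit 126), [])) (.leaf ((nat_lit 219), [])))))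
 (.node (nat_lit 1005) (.node (nat_lit 1003) (.leaf ((nat_lit 55), [nat_lit 2, nat_lit 4, nat_lit 2, nat_lit 0, nat_lit 4, nat_lit 1, nat_lit 1, nat_lit 0])) (.node (nat_lit 1004) (.leaf ((nat_lit 127), [])) (.leaf ((nat_lit 188), [nat_lit 1, nat_lit 0, nat_lit 2, nat_lit 4, nat_lit 0, nat_lit 3, nat_lit 1, nat_lit 0, nat_lit 2, nat_lit 2])))) (.node (nat_lit 1006) (.leaf ((nat_lit 39), [nat_lit 1, nat_lit 0, nat_lit 4, nat_lit 2, nat_lit 0, nat_lit 4, nat_lit 1, nat_lit 1, nat_lit 0])) (.node (nat_lit 1007) (.leaf ((nat_lit 202), [nat_lit 2, nat_lit 0, nat_lit 2, nat_lit 4, nat_lit 3, nat_lit 0, nat_lit 1, nat_lit 0, nat_lit 1])) (.leaf ((nat_lit 169), [nat_lit 1, nat_lit 0, nat_lit 1, nat_lit 4, nat_lit 1, nat_lit 3, nat_lit 1, nat_lit 0, nat_lit 1]))))))))))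
noncomputable def cW_6 : Tr (ℕ × List ℕ) := (.node (nat_lit 1092) (.node (nat_lit 1050) (.node (nat_lit 1029) (.node (nat_lit 1018) (.node (nat_lit 1013) (.node (nat_lit 1010) (.node (nat_lit 1009) (.leaf ((nat_lit 56), [nat_lit 4, nat_lit 2, nat_lit 4, nat_lit 0, nat_lit 3, nat_lit 0, nat_lit 2, nat_lit 0])) (.leaf ((nat_lit 141), [nat_lit 1, nat_lit 4, nat_lit 1, nat_lit 3, nat_lit 4, nat_lit 1, nat_lit 0, nat_lit 3, nat_lit 2, nat_lit 0]))) (.node (nat_lit 1011) (.leaf ((nat_lit 140), [nat_lit 1, nat_lit 4, nat_lit 1, nat_lit 3, nat_lit 4, nat_lit 1, nat_lit 0, nat_lit 3, nat_lit 2, nat_lit 0])) (.node (nat_lit 1012) (.leaf ((nat_lit 199), [nat_lit 1, nat_lit 4, nat_lit 1, nat_lit 3, nat_lit 4, nat_lit 0, nat_lit 3, nat_lit 1, nat_lit 1, nat_lit 3])) (.leaf ((nat_lit 185), [nat_lit 1, nat_lit 0, nat_lit 4, nat_lit 0, nat_lit 2, nat_lit 0, nat_lit 1, nat_lit 0])))))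
 (.node (nat_lit 1015) (.node (nat_lit 1014) (.leaf ((nat_lit 127), [])) (.leaf ((nat_lit 57), [nat_lit 2, nat_lit 4, nat_lit 2, nat_lit 0, nat_lit 4, nat_lit 1, nat_lit 1, nat_lit 0]))) (.node (nat_lit 1016) (.leaf ((nat_lit 128), [nat_lit 1, nat_lit 1, nat_lit 3, nat_lit 2, nat_lit 2, nat_lit 0])) (.node (nat_lit 1017) (.leaf ((nat_lit 128), [])) (.leaf ((nat_lit 30), [nat_lit 4, nat_lit 3, nat_lit 2, nat_lit 2, nat_lit 4, nat_lit 2, nat_lit 0, nat_lit 3, nat_lit 1, nat_lit 0]))))))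
 (.node (nat_lit 1023) (.node (nat_lit 1020) (.node (nat_lit 1019) (.leaf ((nat_lit 68), [nat_lit 0, nat_lit 2, nat_lit 4, nat_lit 2, nat_lit 0, nat_lit 4, nat_lit 0, nat_lit 1, nat_lit 0, nat_lit 2, nat_lit 2])) (.leaf ((nat_lit 167), [nat_lit 0, nat_lit 1, nat_lit 4, nat_lit 0, nat_lit 1, nat_lit 0, nat_lit 3]))) (.node (nat_lit 1021) (.leaf ((nat_lit 31), [nat_lit 1, nat_lit 4, nat_lit 2, nat_lit 0, nat_lit 4, nat_lit 0, nat_lit 2, nat_lit 0, nat_lit 1])) (.node (nat_lit 1022) (.leaf ((nat_lit 218), [nat_lit 4, nat_lit 2, nat_lit 2, nat_lit 0, nat_lit 4, nat_lit 0, nat_lit 2, nat_lit 0, nat_lit 1])) (.leaf ((nat_lit 138), [nat_lit 1, nat_lit 1, nat_lit 3, nat_lit 4, nat_lit 2, nat_lit 0, nat_lit 1, nat_lit 1, nat_lit 3, nat_lit 2])))))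
 (.node (nat_lit 1026) (.node (nat_lit 1024) (.leaf ((nat_lit 41), [nat_lit 4, nat_lit 2, nat_lit 0, nat_lit 4, nat_lit 0, nat_lit 1, nat_lit 0, nat_lit 2, nat_lit 2])) (.node (nat_lit 1025) (.leaf ((nat_lit 128), [])) (.leaf ((nat_lit 188), [nat_lit 1, nat_lit 0, nat_lit 4, nat_lit 0, nat_lit 1, nat_lit 3, nat_lit 0, nat_lit 2, nat_lit 0])))) (.node (nat_lit 1027) (.leaf ((nat_lit 76), [nat_lit 4, nat_lit 1, nat_lit 0, nat_lit 2, nat_lit 4, nat_lit 3, nat_lit 0])) (.node (nat_lit 1028) (.leaf ((nat_lit 33), [nat_lit 4, nat_lit 3, nat_lit 2, nat_lit 2, nat_lit 4, nat_lit 3, nat_lit 2, nat_lit 0])) (.leaf ((nat_lit 142), [nat_lit 4, nat_lit 2, nat_lit 3, nat_lit 4, nat_lit 1, nat_lit 0, nat_lit 3, nat_lit 2, nat_lit 2])))))))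
 (.node (nat_lit 1039) (.node (nat_lit 1034) (.node (nat_lit 1031) (.node (nat_lit 1030) (.leaf ((nat_lit 85), [nat_lit 4, nat_lit 1, nat_lit 0, nat_lit 1, nat_lit 4, nat_lit 3, nat_lit 1, nat_lit 1, nat_lit 3, nat_lit 1])) (.leaf ((nat_lit 152), [nat_lit 4, nat_lit 1, nat_lit 0, nat_lit 1, nat_lit 4, nat_lit 0, nat_lit 2, nat_lit 0, nat_lit 1, nat_lit 0]))) (.node (nat_lit 1032) (.leaf ((nat_lit 128), [])) (.node (nat_lit 1033) (.leaf ((nat_lit 60), [nat_lit 1, nat_lit 0, nat_lit 4, nat_lit 2, nat_lit 0, nat_lit 1, nat_lit 3])) (.leaf ((nat_lit 215), [nat_lit 1, nat_lit 4, nat_lit 0, nat_lit 4, nat_lit 3])))))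
 (.node (nat_lit 1036) (.node (nat_lit 1035) (.leaf ((nat_lit 130), [])) (.leaf ((nat_lit 219), [nat_lit 2, nat_lit 2, nat_lit 4, nat_lit 3, nat_lit 0, nat_lit 4, nat_lit 2, nat_lit 0, nat_lit 2, nat_lit 3, nat_lit 2, nat_lit 0]))) (.node (nat_lit 1037) (.leaf ((nat_lit 71), [nat_lit 1, nat_lit 0, nat_lit 4, nat_lit 3, nat_lit 0, nat_lit 2, nat_lit 3])) (.node (nat_lit 1038) (.leaf ((nat_lit 148), [nat_lit 2, nat_lit 4, nat_lit 2, nat_lit 3, nat_lit 4, nat_lit 0, nat_lit 3, nat_lit 0, nat_lit 2])) (.leaf ((nat_lit 103), [nat_lit 1, nat_lit 0, nat_lit 2, nat_lit 4, nat_lit 1, nat_lit 0, nat_lit 1, nat_lit 0]))))))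
 (.node (nat_lit 1044) (.node (nat_lit 1041) (.node (nat_lit 1040) (.leaf ((nat_lit 61), [nat_lit 2, nat_lit 4, nat_lit 2, nat_lit 0, nat_lit 4, nat_lit 3, nat_lit 0, nat_lit 2, nat_lit 2, nat_lit 3])) (.leaf ((nat_lit 61), [nat_lit 1, nat_lit 0, nat_lit 4, nat_lit 2, nat_lit 0, nat_lit 4, nat_lit 2, nat_lit 3, nat_lit 2, nat_lit 2]))) (.node (nat_lit 1042) (.leaf ((nat_lit 51), [nat_lit 4, nat_lit 2, nat_lit 0, nat_lit 2, nat_lit 4, nat_lit 2, nat_lit 2, nat_lit 3, nat_lit 2, nat_lit 2, nat_lit 0])) (.node (nat_lit 1043) (.leaf ((nat_lit 130), [])) (.leaf ((nat_lit 213), [nat_lit 0, nat_lit 4, nat_lit 0, nat_lit 4, nat_lit 2, nat_lit 3, nat_lit 0, nat_lit 1, nat_lit 0, nat_lit 2])))))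
 (.node (nat_lit 1047) (.node (nat_lit 1045) (.leaf ((nat_lit 62), [nat_lit 1, nat_lit 0, nat_lit 4, nat_lit 2, nat_lit 0, nat_lit 4, nat_lit 0, nat_lit 2, nat_lit 0, nat_lit 3, nat_lit 1])) (.node (nat_lit 1046) (.leaf ((nat_lit 131), [nat_lit 0, nat_lit 1, nat_lit 4, nat_lit 0, nat_lit 1, nat_lit 3, nat_lit 2])) (.leaf ((nat_lit 131), [])))) (.node (nat_lit 1048) (.leaf ((nat_lit 176), [nat_lit 0, nat_lit 4, nat_lit 1, nat_lit 0, nat_lit 2, nat_lit 3, nat_lit 0])) (.node (nat_lit 1049) (.leaf ((nat_lit 174), [nat_lit 2, nat_lit 4, nat_lit 3, nat_lit 2, nat_lit 4, nat_lit 3, nat_lit 1, nat_lit 0, nat_lit 2])) (.leaf ((nat_lit 63), [nat_lit 2, nat_lit 2, nat_lit 4, nat_lit 3, nat_lit 0, nat_lit 4, nat_lit 0, nat_lit 2, nat_lit 3, nat_lit 0, nat_lit 1, nat_lit 0]))))))))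
 (.node (nat_lit 1071) (.node (nat_lit 1060) (.node (nat_lit 1055) (.node (nat_lit 1052) (.node (nat_lit 1051) (.leaf ((nat_lit 132), [])) (.leaf ((nat_lit 135), [nat_lit 4, nat_lit 3, nat_lit 2, nat_lit 4, nat_lit 2, nat_lit 0]))) (.node (nat_lit 1053) (.leaf ((nat_lit 75), [nat_lit 4, nat_lit 3, nat_lit 2, nat_lit 2, nat_lit 4, nat_lit 0, nat_lit 2, nat_lit 0, nat_lit 3, nat_lit 2, nat_lit 0])) (.node (nat_lit 1054) (.leaf ((nat_lit 175), [nat_lit 4, nat_lit 3, nat_lit 1, nat_lit 4, nat_lit 1, nat_lit 3, nat_lit 0, nat_lit 2])) (.leaf ((nat_lit 175), [nat_lit 3, nat_lit 2, nat_lit 0, nat_lit 4, nat_lit 2, nat_lit 0, nat_lit 1])))))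
 (.node (nat_lit 1057) (.node (nat_lit 1056) (.leaf ((nat_lit 62), [nat_lit 2, nat_lit 0, nat_lit 2, nat_lit 4, nat_lit 2, nat_lit 0, nat_lit 2, nat_lit 0, nat_lit 3])) (.leaf ((nat_lit 64), [nat_lit 4, nat_lit 2, nat_lit 0, nat_lit 4, nat_lit 0, nat_lit 3, nat_lit 0, nat_lit 2, nat_lit 0]))) (.node (nat_lit 1058) (.leaf ((nat_lit 133), [])) (.node (nat_lit 1059) (.leaf ((nat_lit 132), [])) (.leaf ((nat_lit 174), [nat_lit 3, nat_lit 2, nat_lit 0, nat_lit 4, nat_lit 0, nat_lit 2, nat_lit 0, nat_lit 2, nat_lit 3, nat_lit 0]))))))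
 (.node (nat_lit 1065) (.node (nat_lit 1062) (.node (nat_lit 1061) (.leaf ((nat_lit 88), [nat_lit 3, nat_lit 4, nat_lit 2, nat_lit 3, nat_lit 0, nat_lit 4, nat_lit 0, nat_lit 2, nat_lit 0, nat_lit 2])) (.leaf ((nat_lit 220), []))) (.node (nat_lit 1063) (.leaf ((nat_lit 65), [nat_lit 3, nat_lit 1, nat_lit 4, nat_lit 2, nat_lit 3, nat_lit 0, nat_lit 1])) (.node (nat_lit 1064) (.leaf ((nat_lit 180), [nat_lit 3, nat_lit 2, nat_lit 4, nat_lit 2, nat_lit 0, nat_lit 1, nat_lit 1, nat_lit 3, nat_lit 2, nat_lit 0])) (.leaf ((nat_lit 32), [nat_lit 3, nat_lit 4, nat_lit 2, nat_lit 3, nat_lit 0, nat_lit 4, nat_lit 2, nat_lit 2, nat_lit 0, nat_lit 3, nat_lit 1, nat_lit 0])))))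
 (.node (nat_lit 1068) (.node (nat_lit 1066) (.leaf ((nat_lit 159), [nat_lit 3, nat_lit 2, nat_lit 4, nat_lit 0, nat_lit 3, nat_lit 1, nat_lit 0, nat_lit 2, nat_lit 0])) (.node (nat_lit 1067) (.leaf ((nat_lit 177), [nat_lit 4, nat_lit 1, nat_lit 0, nat_lit 2, nat_lit 4])) (.leaf ((nat_lit 132), [])))) (.node (nat_lit 1069) (.leaf ((nat_lit 71), [nat_lit 0, nat_lit 4, nat_lit 0, nat_lit 2, nat_lit 0, nat_lit 4, nat_lit 3, nat_lit 1, nat_lit 1, nat_lit 0])) (.node (nat_lit 1070) (.leaf ((nat_lit 181), [nat_lit 4, nat_lit 0, nat_lit 2, nat_lit 4, nat_lit 0, nat_lit 4, nat_lit 2, nat_lit 2])) (.leaf ((nat_lit 220), [nat_lit 1, nat_lit 4, nat_lit 0, nat_lit 4, nat_lit 2, nat_lit 2, nat_lit 0, nat_lit 3, nat_lit 2, nat_lit 0])))))))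
 (.node (nat_lit 1081) (.node (nat_lit 1076) (.node (nat_lit 1073) (.node (nat_lit 1072) (.leaf ((nat_lit 210), [nat_lit 4, nat_lit 0, nat_lit 1, nat_lit 4, nat_lit 3, nat_lit 0, nat_lit 2, nat_lit 0, nat_lit 3, nat_lit 0])) (.leaf ((nat_lit 221), []))) (.node (nat_lit 1074) (.leaf ((nat_lit 133), [])) (.node (nat_lit 1075) (.leaf ((nat_lit 134), [])) (.leaf ((nat_lit 24), [nat_lit 4, nat_lit 2, nat_lit 3, nat_lit 0, nat_lit 4, nat_lit 1, nat_lit 0, nat_lit 3, nat_lit 0, nat_lit 1, nat_lit 0])))))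
 (.node (nat_lit 1078) (.node (nat_lit 1077) (.leaf ((nat_lit 85), [nat_lit 1, nat_lit 4, nat_lit 0, nat_lit 1, nat_lit 4, nat_lit 1, nat_lit 0, nat_lit 1, nat_lit 3, nat_lit 0])) (.leaf ((nat_lit 106), [nat_lit 0, nat_lit 4, nat_lit 0, nat_lit 1, nat_lit 4, nat_lit 0, nat_lit 2, nat_lit 3, nat_lit 2, nat_lit 0]))) (.node (nat_lit 1079) (.leaf ((nat_lit 106), [nat_lit 2, nat_lit 3, nat_lit 0, nat_lit 4, nat_lit 2, nat_lit 2, nat_lit 3, nat_lit 0, nat_lit 1])) (.node (nat_lit 1080) (.leaf ((nat_lit 67), [nat_lit 4, nat_lit 2, nat_lit 3, nat_lit 0, nat_lit 4, nat_lit 0, nat_lit 3])) (.leaf ((nat_lit 182), [nat_lit 4, nat_lit 2, nat_lit 2, nat_lit 0, nat_lit 4, nat_lit 2, nat_lit 3, nat_lit 0, nat_lit 1, nat_lit 0]))))))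
 (.node (nat_lit 1086) (.node (nat_lit 1083) (.node (nat_lit 1082) (.leaf ((nat_lit 134), [])) (.leaf ((nat_lit 177), [nat_lit 3, nat_lit 4, nat_lit 1, nat_lit 3, nat_lit 0]))) (.node (nat_lit 1084) (.leaf ((nat_lit 38), [nat_lit 4, nat_lit 1, nat_lit 0, nat_lit 1, nat_lit 4, nat_lit 0, nat_lit 2, nat_lit 3, nat_lit 0, nat_lit 2, nat_lit 0])) (.node (nat_lit 1085) (.leaf ((nat_lit 57), [nat_lit 4, nat_lit 2, nat_lit 4, nat_lit 3, nat_lit 0, nat_lit 4, nat_lit 0, nat_lit 2, nat_lit 0, nat_lit 2])) (.leaf ((nat_lit 25), [nat_lit 4, nat_lit 0, nat_lit 3, nat_lit 4, nat_lit 1])))))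
 (.node (nat_lit 1089) (.node (nat_lit 1087) (.leaf ((nat_lit 221), [nat_lit 4, nat_lit 0, nat_lit 2, nat_lit 4, nat_lit 0, nat_lit 4, nat_lit 0, nat_lit 3, nat_lit 1, nat_lit 0, nat_lit 1])) (.node (nat_lit 1088) (.leaf ((nat_lit 96), [nat_lit 1, nat_lit 0, nat_lit 1, nat_lit 4, nat_lit 3, nat_lit 2, nat_lit 0, nat_lit 2, nat_lit 3, nat_lit 2])) (.leaf ((nat_lit 178), [nat_lit 2, nat_lit 4, nat_lit 2, nat_lit 0, nat_lit 4, nat_lit 1, nat_lit 1, nat_lit 3, nat_lit 0, nat_lit 1])))) (.node (nat_lit 1090) (.leaf ((nat_lit 86), [nat_lit 4, nat_lit 2, nat_lit 3, nat_lit 0, nat_lit 4, nat_lit 3, nat_lit 1, nat_lit 1, nat_lit 0, nat_lit 2])) (.node (nat_lit 1091) (.leaf ((nat_lit 97), [nat_lit 2, nat_lit 4, nat_lit 3, nat_lit 2, nat_lit 4, nat_lit 2, nat_lit 2, nat_lit 3, nat_lit 2, nat_lit 0])) (.leaf ((nat_lit 134), [])))))))))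
 (.node (nat_lit 1134) (.node (nat_lit 1113) (.node (nat_lit 1102) (.node (nat_lit 1097) (.node (nat_lit 1094) (.node (nat_lit 1093) (.leaf ((nat_lit 180), [nat_lit 4, nat_lit 2, nat_lit 3, nat_lit 4, nat_lit 1, nat_lit 3, nat_lit 2])) (.leaf ((nat_lit 197), [nat_lit 2, nat_lit 4, nat_lit 0, nat_lit 3, nat_lit 4, nat_lit 2, nat_lit 0, nat_lit 3, nat_lit 0, nat_lit 2, nat_lit 0]))) (.node (nat_lit 1095) (.leaf ((nat_lit 136), [])) (.node (nat_lit 1096) (.leaf ((nat_lit 182), [nat_lit 2, nat_lit 3, nat_lit 1])) (.leaf ((nat_lit 182), [nat_lit 1, nat_lit 4, nat_lit 3, nat_lit 1, nat_lit 4, nat_lit 0, nat_lit 3, nat_lit 2])))))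
 (.node (nat_lit 1099) (.node (nat_lit 1098) (.leaf ((nat_lit 216), [nat_lit 4, nat_lit 2, nat_lit 0, nat_lit 2, nat_lit 4, nat_lit 0, nat_lit 1, nat_lit 3, nat_lit 2, nat_lit 2, nat_lit 0])) (.leaf ((nat_lit 66), [nat_lit 2, nat_lit 3, nat_lit 2, nat_lit 0, nat_lit 4, nat_lit 0, nat_lit 2, nat_lit 0, nat_lit 2, nat_lit 3, nat_lit 0]))) (.node (nat_lit 1100) (.leaf ((nat_lit 222), [])) (.node (nat_lit 1101) (.leaf ((nat_lit 53), [nat_lit 0, nat_lit 2, nat_lit 0, nat_lit 4, nat_lit 3, nat_lit 1, nat_lit 1, nat_lit 0, nat_lit 3, nat_lit 0])) (.leaf ((nat_lit 183), [nat_lit 0, nat_lit 1, nat_lit 3, nat_lit 2, nat_lit 0]))))))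
 (.node (nat_lit 1107) (.node (nat_lit 1104) (.node (nat_lit 1103) (.leaf ((nat_lit 60), [nat_lit 4, nat_lit 2, nat_lit 4, nat_lit 0, nat_lit 1, nat_lit 3, nat_lit 0])) (.leaf ((nat_lit 136), []))) (.node (nat_lit 1105) (.leaf ((nat_lit 101), [nat_lit 4, nat_lit 0, nat_lit 2, nat_lit 4, nat_lit 0, nat_lit 4, nat_lit 2, nat_lit 0, nat_lit 3, nat_lit 0, nat_lit 2])) (.node (nat_lit 1106) (.leaf ((nat_lit 160), [nat_lit 2, nat_lit 4, nat_lit 0, nat_lit 3, nat_lit 4, nat_lit 0, nat_lit 3, nat_lit 2, nat_lit 0, nat_lit 2, nat_lit 0])) (.leaf ((nat_lit 87), [nat_lit 4, nat_lit 2, nat_lit 0, nat_lit 2, nat_lit 4, nat_lit 2, nat_lit 0, nat_lit 2, nat_lit 0, nat_lit 1])))))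
 (.node (nat_lit 1110) (.node (nat_lit 1108) (.leaf ((nat_lit 40), [nat_lit 4, nat_lit 1, nat_lit 3, nat_lit 4, nat_lit 3, nat_lit 1, nat_lit 0, nat_lit 2, nat_lit 0])) (.node (nat_lit 1109) (.leaf ((nat_lit 137), [])) (.leaf ((nat_lit 73), [nat_lit 4, nat_lit 2, nat_lit 4, nat_lit 0, nat_lit 4, nat_lit 2, nat_lit 0, nat_lit 3, nat_lit 1, nat_lit 0])))) (.node (nat_lit 1111) (.leaf ((nat_lit 145), [nat_lit 2, nat_lit 2, nat_lit 4, nat_lit 3, nat_lit 0, nat_lit 4, nat_lit 2, nat_lit 2, nat_lit 0, nat_lit 2])) (.node (nat_lit 1112) (.leaf ((nat_lit 138), [])) (.leaf ((nat_lit 218), [nat_lit 3, nat_lit 2, nat_lit 2, nat_lit 4, nat_lit 1, nat_lit 0, nat_lit 3, nat_lit 0])))))))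
 (.node (nat_lit 1123) (.node (nat_lit 1118) (.node (nat_lit 1115) (.node (nat_lit 1114) (.leaf ((nat_lit 185), [nat_lit 2, nat_lit 2, nat_lit 4, nat_lit 3, nat_lit 0, nat_lit 4, nat_lit 2, nat_lit 2, nat_lit 0, nat_lit 3, nat_lit 2])) (.leaf ((nat_lit 168), [nat_lit 2, nat_lit 2, nat_lit 4, nat_lit 2, nat_lit 2, nat_lit 0, nat_lit 3, nat_lit 2]))) (.node (nat_lit 1116) (.leaf ((nat_lit 72), [nat_lit 2, nat_lit 4, nat_lit 3, nat_lit 0, nat_lit 4, nat_lit 0, nat_lit 3, nat_lit 2, nat_lit 2, nat_lit 3])) (.node (nat_lit 1117) (.leaf ((nat_lit 158), [nat_lit 0, nat_lit 2, nat_lit 4, nat_lit 2, nat_lit 0, nat_lit 4, nat_lit 0, nat_lit 3, nat_lit 1, nat_lit 1, nat_lit 0])) (.leaf ((nat_lit 210), [nat_lit 2, nat_lit 2, nat_lit 4, nat_lit 3, nat_lit 0, nat_lit 4, nat_lit 1, nat_lit 0, nat_lit 1, nat_lit 1, nat_lit 0])))))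
 (.node (nat_lit 1120) (.node (nat_lit 1119) (.leaf ((nat_lit 82), [nat_lit 4, nat_lit 2, nat_lit 4, nat_lit 0, nat_lit 2, nat_lit 0, nat_lit 3, nat_lit 1])) (.leaf ((nat_lit 103), [nat_lit 3, nat_lit 4, nat_lit 3, nat_lit 0, nat_lit 4, nat_lit 3, nat_lit 1, nat_lit 1, nat_lit 3, nat_lit 1]))) (.node (nat_lit 1121) (.leaf ((nat_lit 214), [nat_lit 4, nat_lit 0, nat_lit 3, nat_lit 4, nat_lit 3, nat_lit 0, nat_lit 2, nat_lit 2, nat_lit 3])) (.node (nat_lit 1122) (.leaf ((nat_lit 138), [])) (.leaf ((nat_lit 75), [nat_lit 0, nat_lit 4, nat_lit 1, nat_lit 3, nat_lit 1, nat_lit 1, nat_lit 0]))))))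
 (.node (nat_lit 1128) (.node (nat_lit 1125) (.node (nat_lit 1124) (.leaf ((nat_lit 63), [nat_lit 1, nat_lit 4, nat_lit 0, nat_lit 1, nat_lit 4, nat_lit 3, nat_lit 0, nat_lit 2, nat_lit 2, nat_lit 3])) (.leaf ((nat_lit 47), [nat_lit 4, nat_lit 2, nat_lit 0, nat_lit 4, nat_lit 0, nat_lit 2, nat_lit 3, nat_lit 0, nat_lit 1]))) (.node (nat_lit 1126) (.leaf ((nat_lit 193), [nat_lit 3, nat_lit 2, nat_lit 2, nat_lit 0, nat_lit 2])) (.node (nat_lit 1127) (.leaf ((nat_lit 139), [])) (.leaf ((nat_lit 208), [nat_lit 2, nat_lit 4, nat_lit 3, nat_lit 2, nat_lit 4, nat_lit 0, nat_lit 1, nat_lit 3, nat_lit 2])))))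
 (.node (nat_lit 1131) (.node (nat_lit 1129) (.leaf ((nat_lit 59), [nat_lit 4, nat_lit 1, nat_lit 3, nat_lit 0, nat_lit 4, nat_lit 2, nat_lit 0, nat_lit 1, nat_lit 1, nat_lit 3, nat_lit 2, nat_lit 0])) (.node (nat_lit 1130) (.leaf ((nat_lit 167), [nat_lit 0, nat_lit 1, nat_lit 4, nat_lit 1, nat_lit 1, nat_lit 3, nat_lit 1, nat_lit 0])) (.leaf ((nat_lit 40), [nat_lit 4, nat_lit 1, nat_lit 1, nat_lit 3, nat_lit 4, nat_lit 0, nat_lit 1, nat_lit 3, nat_lit 2, nat_lit 2, nat_lit 0])))) (.node (nat_lit 1132) (.leaf ((nat_lit 141), [])) (.node (nat_lit 1133) (.leaf ((nat_lit 147), [nat_lit 1, nat_lit 1, nat_lit 3, nat_lit 4, nat_lit 2, nat_lit 3, nat_lit 1])) (.leaf ((nat_lit 170), [nat_lit 2, nat_lit 2, nat_lit 0, nat_lit 4, nat_lit 3, nat_lit 1, nat_lit 0]))))))))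
 (.node (nat_lit 1155) (.node (nat_lit 1144) (.node (nat_lit 1139) (.node (nat_lit 1136) (.node (nat_lit 1135) (.leaf ((nat_lit 77), [nat_lit 4, nat_lit 2, nat_lit 0, nat_lit 2, nat_lit 4, nat_lit 2, nat_lit 0, nat_lit 2, nat_lit 3])) (.leaf ((nat_lit 191), [nat_lit 0, nat_lit 2, nat_lit 4, nat_lit 2, nat_lit 0, nat_lit 4, nat_lit 2, nat_lit 0, nat_lit 2, nat_lit 0, nat_lit 1]))) (.node (nat_lit 1137) (.leaf ((nat_lit 107), [nat_lit 0, nat_lit 2, nat_lit 4, nat_lit 0, nat_lit 4, nat_lit 2, nat_lit 0, nat_lit 3, nat_lit 0])) (.node (nat_lit 1138) (.leaf ((nat_lit 80), [nat_lit 4, nat_lit 3, nat_lit 2, nat_lit 4, nat_lit 3, nat_lit 2, nat_lit 2])) (.leaf ((nat_lit 223), [])))))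
 (.node (nat_lit 1141) (.node (nat_lit 1140) (.leaf ((nat_lit 141), [])) (.leaf ((nat_lit 78), [nat_lit 0, nat_lit 2, nat_lit 4, nat_lit 2, nat_lit 0, nat_lit 4, nat_lit 1, nat_lit 1, nat_lit 0]))) (.node (nat_lit 1142) (.leaf ((nat_lit 142), [])) (.node (nat_lit 1143) (.leaf ((nat_lit 33), [nat_lit 3, nat_lit 4, nat_lit 2, nat_lit 3, nat_lit 0, nat_lit 4, nat_lit 2, nat_lit 2, nat_lit 0, nat_lit 3, nat_lit 1])) (.leaf ((nat_lit 190), [nat_lit 3, nat_lit 2, nat_lit 2, nat_lit 4, nat_lit 2, nat_lit 0, nat_lit 3, nat_lit 2, nat_lit 0, nat_lit 2, nat_lit 0]))))))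
 (.node (nat_lit 1149) (.node (nat_lit 1146) (.node (nat_lit 1145) (.leaf ((nat_lit 190), [nat_lit 2, nat_lit 2, nat_lit 4, nat_lit 3, nat_lit 0, nat_lit 4, nat_lit 2, nat_lit 2, nat_lit 0, nat_lit 3, nat_lit 2])) (.leaf ((nat_lit 83), [nat_lit 0, nat_lit 4, nat_lit 2, nat_lit 0, nat_lit 4, nat_lit 2, nat_lit 3, nat_lit 2]))) (.node (nat_lit 1147) (.leaf ((nat_lit 94), [nat_lit 4, nat_lit 3, nat_lit 2, nat_lit 2, nat_lit 4, nat_lit 3, nat_lit 2, nat_lit 2, nat_lit 0])) (.node (nat_lit 1148) (.leaf ((nat_lit 204), [nat_lit 4, nat_lit 2, nat_lit 0, nat_lit 4, nat_lit 3, nat_lit 1, nat_lit 0, nat_lit 3, nat_lit 0, nat_lit 2])) (.leaf ((nat_lit 189), [nat_lit 4, nat_lit 0, nat_lit 2, nat_lit 4, nat_lit 0, nat_lit 4, nat_lit 3, nat_lit 1, nat_lit 0, nat_lit 3, nat_lit 0, nat_lit 2])))))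
 (.node (nat_lit 1152) (.node (nat_lit 1150) (.leaf ((nat_lit 108), [nat_lit 0, nat_lit 2, nat_lit 2, nat_lit 4, nat_lit 2, nat_lit 2, nat_lit 3, nat_lit 1, nat_lit 1])) (.node (nat_lit 1151) (.leaf ((nat_lit 215), [nat_lit 4, nat_lit 2, nat_lit 3, nat_lit 0, nat_lit 4, nat_lit 2, nat_lit 2, nat_lit 3, nat_lit 2, nat_lit 0])) (.leaf ((nat_lit 142), [])))) (.node (nat_lit 1153) (.leaf ((nat_lit 214), [nat_lit 4, nat_lit 0, nat_lit 3, nat_lit 4, nat_lit 3, nat_lit 0, nat_lit 1, nat_lit 1, nat_lit 3])) (.node (nat_lit 1154) (.leaf ((nat_lit 207), [nat_lit 0, nat_lit 1, nat_lit 4, nat_lit 0])) (.leaf ((nat_lit 97), [nat_lit 1, nat_lit 4, nat_lit 3, nat_lit 1, nat_lit 4, nat_lit 2, nat_lit 0, nat_lit 2, nat_lit 3, nat_lit 0, nat_lit 2, nat_lit 0])))))))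
 (.node (nat_lit 1165) (.node (nat_lit 1160) (.node (nat_lit 1157) (.node (nat_lit 1156) (.leaf ((nat_lit 77), [nat_lit 4, nat_lit 0, nat_lit 1, nat_lit 4, nat_lit 0, nat_lit 3, nat_lit 1, nat_lit 1, nat_lit 3, nat_lit 0])) (.leaf ((nat_lit 95), [nat_lit 0, nat_lit 2, nat_lit 4, nat_lit 0, nat_lit 3, nat_lit 1, nat_lit 0, nat_lit 3, nat_lit 0]))) (.node (nat_lit 1158) (.leaf ((nat_lit 143), [])) (.node (nat_lit 1159) (.leaf ((nat_lit 83), [nat_lit 1, nat_lit 4, nat_lit 0, nat_lit 1, nat_lit 4, nat_lit 1])) (.leaf ((nat_lit 39), [nat_lit 4, nat_lit 2, nat_lit 3, nat_lit 0, nat_lit 4, nat_lit 2, nat_lit 2, nat_lit 0, nat_lit 1])))))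
 (.node (nat_lit 1162) (.node (nat_lit 1161) (.leaf ((nat_lit 38), [nat_lit 4, nat_lit 2, nat_lit 3, nat_lit 0, nat_lit 4, nat_lit 2, nat_lit 2, nat_lit 0, nat_lit 1])) (.leaf ((nat_lit 187), [nat_lit 1, nat_lit 0, nat_lit 1, nat_lit 1, nat_lit 3]))) (.node (nat_lit 1163) (.leaf ((nat_lit 144), [])) (.node (nat_lit 1164) (.leaf ((nat_lit 91), [nat_lit 4, nat_lit 0, nat_lit 2, nat_lit 0, nat_lit 4, nat_lit 1, nat_lit 0, nat_lit 2, nat_lit 0])) (.leaf ((nat_lit 51), [nat_lit 1, nat_lit 1, nat_lit 3, nat_lit 4, nat_lit 0, nat_lit 3]))))))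
 (.node (nat_lit 1170) (.node (nat_lit 1167) (.node (nat_lit 1166) (.leaf ((nat_lit 74), [nat_lit 1, nat_lit 0, nat_lit 1, nat_lit 4, nat_lit 3, nat_lit 1, nat_lit 1, nat_lit 0, nat_lit 2, nat_lit 0])) (.leaf ((nat_lit 105), [nat_lit 4, nat_lit 2, nat_lit 4, nat_lit 2, nat_lit 2, nat_lit 3, nat_lit 1, nat_lit 1, nat_lit 0]))) (.node (nat_lit 1168) (.leaf ((nat_lit 43), [nat_lit 4, nat_lit 3, nat_lit 2, nat_lit 2, nat_lit 4, nat_lit 2, nat_lit 3, nat_lit 0])) (.node (nat_lit 1169) (.leaf ((nat_lit 216), [nat_lit 3, nat_lit 1, nat_lit 4, nat_lit 0, nat_lit 1, nat_lit 3, nat_lit 2, nat_lit 0])) (.leaf ((nat_lit 145), [])))))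
 (.node (nat_lit 1173) (.node (nat_lit 1171) (.leaf ((nat_lit 81), [nat_lit 1, nat_lit 1, nat_lit 4, nat_lit 0, nat_lit 1, nat_lit 4, nat_lit 3, nat_lit 1, nat_lit 1, nat_lit 0, nat_lit 2])) (.node (nat_lit 1172) (.leaf ((nat_lit 36), [nat_lit 4, nat_lit 0, nat_lit 1, nat_lit 4, nat_lit 1, nat_lit 1, nat_lit 3, nat_lit 0, nat_lit 2])) (.leaf ((nat_lit 146), [])))) (.node (nat_lit 1174) (.leaf ((nat_lit 162), [nat_lit 3, nat_lit 4, nat_lit 2, nat_lit 3, nat_lit 0, nat_lit 4, nat_lit 3, nat_lit 0, nat_lit 1, nat_lit 0, nat_lit 1, nat_lit 1, nat_lit 0])) (.node (nat_lit 1175) (.leaf ((nat_lit 150), [nat_lit 1, nat_lit 1, nat_lit 3, nat_lit 4, nat_lit 3, nat_lit 0, nat_lit 2, nat_lit 0])) (.leaf ((nat_lit 78), [nat_lit 3, nat_lit 4, nat_lit 0, nat_lit 1, nat_lit 0, nat_lit 3, nat_lit 0]))))))))))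
noncomputable def cW_7 : Tr (ℕ × List ℕ) := (.node (nat_lit 1260) (.node (nat_lit 1218) (.node (nat_lit 1197) (.node (nat_lit 1186) (.node (nat_lit 1181) (.node (nat_lit 1178) (.node (nat_lit 1177) (.leaf ((nat_lit 84), [nat_lit 2, nat_lit 4, nat_lit 2, nat_lit 0, nat_lit 4, nat_lit 1, nat_lit 1, nat_lit 0])) (.leaf ((nat_lit 146), []))) (.node (nat_lit 1179) (.leaf ((nat_lit 36), [nat_lit 4, nat_lit 0, nat_lit 1, nat_lit 4, nat_lit 1, nat_lit 1, nat_lit 3, nat_lit 0, nat_lit 2])) (.node (nat_lit 1180) (.leaf ((nat_lit 196), [nat_lit 0, nat_lit 3, nat_lit 1, nat_lit 0, nat_lit 2, nat_lit 2, nat_lit 0])) (.leaf ((nat_lit 196), [nat_lit 4, nat_lit 2, nat_lit 2, nat_lit 0, nat_lit 4, nat_lit 3, nat_lit 2, nat_lit 0, nat_lit 3, nat_lit 0])))))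
 (.node (nat_lit 1183) (.node (nat_lit 1182) (.leaf ((nat_lit 202), [nat_lit 1, nat_lit 0, nat_lit 4, nat_lit 2, nat_lit 0, nat_lit 4, nat_lit 2, nat_lit 0, nat_lit 3, nat_lit 2, nat_lit 2, nat_lit 0])) (.leaf ((nat_lit 85), [nat_lit 4, nat_lit 2, nat_lit 0, nat_lit 2, nat_lit 4, nat_lit 3, nat_lit 1, nat_lit 1]))) (.node (nat_lit 1184) (.leaf ((nat_lit 67), [nat_lit 4, nat_lit 0, nat_lit 1, nat_lit 4, nat_lit 1, nat_lit 1, nat_lit 0, nat_lit 2])) (.node (nat_lit 1185) (.leaf ((nat_lit 182), [nat_lit 4, nat_lit 0, nat_lit 2, nat_lit 2, nat_lit 4, nat_lit 0, nat_lit 2, nat_lit 0, nat_lit 1, nat_lit 3, nat_lit 0])) (.leaf ((nat_lit 59), [nat_lit 4, nat_lit 1, nat_lit 0, nat_lit 1, nat_lit 4, nat_lit 1, nat_lit 3, nat_lit 2, nat_lit 2]))))))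
 (.node (nat_lit 1191) (.node (nat_lit 1188) (.node (nat_lit 1187) (.leaf ((nat_lit 146), [])) (.leaf ((nat_lit 85), [nat_lit 0, nat_lit 1, nat_lit 4, nat_lit 0, nat_lit 2, nat_lit 0, nat_lit 3, nat_lit 2, nat_lit 0]))) (.node (nat_lit 1189) (.leaf ((nat_lit 86), [nat_lit 4, nat_lit 2, nat_lit 4, nat_lit 0, nat_lit 3, nat_lit 0, nat_lit 2, nat_lit 0])) (.node (nat_lit 1190) (.leaf ((nat_lit 211), [nat_lit 2, nat_lit 4, nat_lit 2, nat_lit 3, nat_lit 4, nat_lit 0, nat_lit 1, nat_lit 0])) (.leaf ((nat_lit 43), [nat_lit 1, nat_lit 3, nat_lit 4, nat_lit 0])))))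
 (.node (nat_lit 1194) (.node (nat_lit 1192) (.leaf ((nat_lit 69), [nat_lit 4, nat_lit 0, nat_lit 3, nat_lit 4, nat_lit 0, nat_lit 3, nat_lit 1, nat_lit 1, nat_lit 3, nat_lit 0])) (.node (nat_lit 1193) (.leaf ((nat_lit 210), [nat_lit 4, nat_lit 1, nat_lit 0, nat_lit 2, nat_lit 4, nat_lit 0, nat_lit 1, nat_lit 3])) (.leaf ((nat_lit 146), [])))) (.node (nat_lit 1195) (.leaf ((nat_lit 87), [nat_lit 2, nat_lit 4, nat_lit 2, nat_lit 0, nat_lit 4, nat_lit 1, nat_lit 1, nat_lit 0])) (.node (nat_lit 1196) (.leaf ((nat_lit 72), [nat_lit 4, nat_lit 2, nat_lit 0, nat_lit 2, nat_lit 4, nat_lit 1, nat_lit 0])) (.leaf ((nat_lit 147), [])))))))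
 (.node (nat_lit 1207) (.node (nat_lit 1202) (.node (nat_lit 1199) (.node (nat_lit 1198) (.leaf ((nat_lit 168), [nat_lit 2, nat_lit 4, nat_lit 0, nat_lit 4, nat_lit 3, nat_lit 2, nat_lit 2, nat_lit 0, nat_lit 2])) (.leaf ((nat_lit 199), [nat_lit 3, nat_lit 2, nat_lit 2, nat_lit 4, nat_lit 2, nat_lit 0, nat_lit 3, nat_lit 2, nat_lit 0, nat_lit 2, nat_lit 0]))) (.node (nat_lit 1200) (.leaf ((nat_lit 153), [nat_lit 2, nat_lit 0, nat_lit 4, nat_lit 3, nat_lit 1, nat_lit 1, nat_lit 0, nat_lit 3])) (.node (nat_lit 1201) (.leaf ((nat_lit 150), [])) (.leaf ((nat_lit 89), [nat_lit 1, nat_lit 3, nat_lit 4, nat_lit 0, nat_lit 1, nat_lit 1, nat_lit 0, nat_lit 2, nat_lit 0])))))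
 (.node (nat_lit 1204) (.node (nat_lit 1203) (.leaf ((nat_lit 89), [nat_lit 4, nat_lit 2, nat_lit 2, nat_lit 0, nat_lit 4, nat_lit 3, nat_lit 1, nat_lit 0, nat_lit 2, nat_lit 0])) (.leaf ((nat_lit 200), [nat_lit 4, nat_lit 3, nat_lit 1, nat_lit 4, nat_lit 1, nat_lit 3, nat_lit 0, nat_lit 2]))) (.node (nat_lit 1205) (.leaf ((nat_lit 64), [nat_lit 4, nat_lit 0, nat_lit 1, nat_lit 4, nat_lit 3, nat_lit 1, nat_lit 0, nat_lit 1, nat_lit 3, nat_lit 0])) (.node (nat_lit 1206) (.leaf ((nat_lit 95), [nat_lit 2, nat_lit 4, nat_lit 2, nat_lit 3, nat_lit 4, nat_lit 1, nat_lit 0, nat_lit 1])) (.leaf ((nat_lit 152), []))))))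
 (.node (nat_lit 1212) (.node (nat_lit 1209) (.node (nat_lit 1208) (.leaf ((nat_lit 88), [nat_lit 3, nat_lit 4, nat_lit 1, nat_lit 3, nat_lit 1, nat_lit 0, nat_lit 1, nat_lit 0])) (.leaf ((nat_lit 88), [nat_lit 1, nat_lit 3, nat_lit 4, nat_lit 3, nat_lit 2, nat_lit 0, nat_lit 2, nat_lit 0]))) (.node (nat_lit 1210) (.leaf ((nat_lit 201), [nat_lit 1, nat_lit 0, nat_lit 2, nat_lit 4, nat_lit 1, nat_lit 3, nat_lit 1])) (.node (nat_lit 1211) (.leaf ((nat_lit 42), [nat_lit 3, nat_lit 1, nat_lit 0, nat_lit 4, nat_lit 0, nat_lit 3, nat_lit 1, nat_lit 0, nat_lit 2, nat_lit 2, nat_lit 0])) (.leaf ((nat_lit 45), [nat_lit 4, nat_lit 3, nat_lit 2, nat_lit 4, nat_lit 2, nat_lit 0, nat_lit 3, nat_lit 2, nat_lit 2])))))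
 (.node (nat_lit 1215) (.node (nat_lit 1213) (.leaf ((nat_lit 153), [])) (.node (nat_lit 1214) (.leaf ((nat_lit 203), [nat_lit 2, nat_lit 2, nat_lit 4, nat_lit 3, nat_lit 0, nat_lit 4, nat_lit 2, nat_lit 0, nat_lit 2, nat_lit 0, nat_lit 3])) (.leaf ((nat_lit 203), [nat_lit 2, nat_lit 4, nat_lit 0, nat_lit 3, nat_lit 4, nat_lit 2, nat_lit 3])))) (.node (nat_lit 1216) (.leaf ((nat_lit 49), [nat_lit 4, nat_lit 1, nat_lit 0, nat_lit 1, nat_lit 4, nat_lit 3, nat_lit 0, nat_lit 1, nat_lit 3])) (.node (nat_lit 1217) (.leaf ((nat_lit 167), [nat_lit 3, nat_lit 0, nat_lit 4, nat_lit 2, nat_lit 2, nat_lit 3, nat_lit 2, nat_lit 0])) (.leaf ((nat_lit 196), [nat_lit 0, nat_lit 2, nat_lit 4, nat_lit 2, nat_lit 0, nat_lit 4, nat_lit 3, nat_lit 2, nat_lit 0, nat_lit 2, nat_lit 3]))))))))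
 (.node (nat_lit 1239) (.node (nat_lit 1228) (.node (nat_lit 1223) (.node (nat_lit 1220) (.node (nat_lit 1219) (.leaf ((nat_lit 91), [nat_lit 4, nat_lit 2, nat_lit 0, nat_lit 2, nat_lit 4, nat_lit 2, nat_lit 0, nat_lit 3, nat_lit 0, nat_lit 2, nat_lit 0])) (.leaf ((nat_lit 202), [nat_lit 2, nat_lit 4, nat_lit 3, nat_lit 2, nat_lit 4, nat_lit 1, nat_lit 3, nat_lit 1, nat_lit 1]))) (.node (nat_lit 1221) (.leaf ((nat_lit 202), [nat_lit 2, nat_lit 4, nat_lit 3, nat_lit 2, nat_lit 4, nat_lit 2, nat_lit 2, nat_lit 3, nat_lit 0])) (.node (nat_lit 1222) (.leaf ((nat_lit 154), [])) (.leaf ((nat_lit 203), [nat_lit 3, nat_lit 2, nat_lit 4, nat_lit 1, nat_lit 0, nat_lit 3, nat_lit 2, nat_lit 2, nat_lit 0])))))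
 (.node (nat_lit 1225) (.node (nat_lit 1224) (.leaf ((nat_lit 81), [nat_lit 0, nat_lit 4, nat_lit 0, nat_lit 2, nat_lit 0, nat_lit 4, nat_lit 0, nat_lit 1, nat_lit 1, nat_lit 3, nat_lit 1])) (.leaf ((nat_lit 105), [nat_lit 0, nat_lit 4, nat_lit 2, nat_lit 0, nat_lit 4, nat_lit 3, nat_lit 1, nat_lit 0, nat_lit 3, nat_lit 0]))) (.node (nat_lit 1226) (.leaf ((nat_lit 107), [nat_lit 4, nat_lit 2, nat_lit 2, nat_lit 0, nat_lit 4, nat_lit 3, nat_lit 0, nat_lit 1, nat_lit 1, nat_lit 3])) (.node (nat_lit 1227) (.leaf ((nat_lit 191), [nat_lit 2, nat_lit 4, nat_lit 2, nat_lit 0, nat_lit 4, nat_lit 0, nat_lit 2, nat_lit 0])) (.leaf ((nat_lit 211), [nat_lit 1, nat_lit 1, nat_lit 3, nat_lit 4, nat_lit 0, nat_lit 1]))))))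
 (.node (nat_lit 1233) (.node (nat_lit 1230) (.node (nat_lit 1229) (.leaf ((nat_lit 53), [nat_lit 0, nat_lit 2, nat_lit 0, nat_lit 4, nat_lit 1, nat_lit 1, nat_lit 0, nat_lit 2, nat_lit 0])) (.leaf ((nat_lit 154), []))) (.node (nat_lit 1231) (.leaf ((nat_lit 93), [nat_lit 4, nat_lit 0, nat_lit 4, nat_lit 1, nat_lit 1, nat_lit 0])) (.node (nat_lit 1232) (.leaf ((nat_lit 109), [nat_lit 1, nat_lit 4, nat_lit 2, nat_lit 0, nat_lit 4, nat_lit 2, nat_lit 3, nat_lit 2, nat_lit 2])) (.leaf ((nat_lit 109), [nat_lit 0, nat_lit 2, nat_lit 4, nat_lit 2, nat_lit 0, nat_lit 4, nat_lit 3, nat_lit 0, nat_lit 2, nat_lit 2, nat_lit 3])))))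
 (.node (nat_lit 1236) (.node (nat_lit 1234) (.leaf ((nat_lit 105), [nat_lit 0, nat_lit 4, nat_lit 0, nat_lit 2, nat_lit 0, nat_lit 4, nat_lit 2, nat_lit 0, nat_lit 1])) (.node (nat_lit 1235) (.leaf ((nat_lit 155), [])) (.leaf ((nat_lit 53), [nat_lit 2, nat_lit 4, nat_lit 0, nat_lit 4, nat_lit 0, nat_lit 2, nat_lit 3, nat_lit 0, nat_lit 2, nat_lit 0])))) (.node (nat_lit 1237) (.leaf ((nat_lit 79), [nat_lit 2, nat_lit 3, nat_lit 0, nat_lit 4, nat_lit 3, nat_lit 2, nat_lit 2, nat_lit 0, nat_lit 2])) (.node (nat_lit 1238) (.leaf ((nat_lit 157), [])) (.leaf ((nat_lit 156), [])))))))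
 (.node (nat_lit 1249) (.node (nat_lit 1244) (.node (nat_lit 1241) (.node (nat_lit 1240) (.leaf ((nat_lit 166), [nat_lit 4, nat_lit 0, nat_lit 2, nat_lit 2, nat_lit 4, nat_lit 2, nat_lit 0, nat_lit 2, nat_lit 3, nat_lit 2, nat_lit 0])) (.leaf ((nat_lit 99), [nat_lit 1, nat_lit 4, nat_lit 1, nat_lit 3, nat_lit 4, nat_lit 0, nat_lit 1, nat_lit 0, nat_lit 1, nat_lit 1]))) (.node (nat_lit 1242) (.leaf ((nat_lit 94), [nat_lit 0, nat_lit 4, nat_lit 2, nat_lit 0, nat_lit 4, nat_lit 0, nat_lit 3, nat_lit 0, nat_lit 2, nat_lit 0])) (.node (nat_lit 1243) (.leaf ((nat_lit 95), [nat_lit 2, nat_lit 4, nat_lit 0, nat_lit 4, nat_lit 1, nat_lit 3, nat_lit 2, nat_lit 2, nat_lit 0])) (.leaf ((nat_lit 111), [nat_lit 4, nat_lit 0, nat_lit 2, nat_lit 0, nat_lit 4, nat_lit 0, nat_lit 1, nat_lit 1, nat_lit 0, nat_lit 2, nat_lit 0])))))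
 (.node (nat_lit 1246) (.node (nat_lit 1245) (.leaf ((nat_lit 192), [nat_lit 0, nat_lit 4, nat_lit 2, nat_lit 0])) (.leaf ((nat_lit 156), []))) (.node (nat_lit 1247) (.leaf ((nat_lit 80), [nat_lit 2, nat_lit 3, nat_lit 2, nat_lit 0, nat_lit 4, nat_lit 2, nat_lit 2, nat_lit 3, nat_lit 2])) (.node (nat_lit 1248) (.leaf ((nat_lit 88), [nat_lit 0, nat_lit 4, nat_lit 2, nat_lit 0, nat_lit 4, nat_lit 2, nat_lit 0, nat_lit 1])) (.leaf ((nat_lit 165), [nat_lit 2, nat_lit 4, nat_lit 3, nat_lit 0, nat_lit 4, nat_lit 3, nat_lit 2, nat_lit 2]))))))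
 (.node (nat_lit 1254) (.node (nat_lit 1251) (.node (nat_lit 1250) (.leaf ((nat_lit 108), [nat_lit 2, nat_lit 3, nat_lit 4, nat_lit 1, nat_lit 3, nat_lit 2, nat_lit 0, nat_lit 1, nat_lit 0])) (.leaf ((nat_lit 69), [nat_lit 2, nat_lit 4, nat_lit 3, nat_lit 0, nat_lit 4, nat_lit 0, nat_lit 2, nat_lit 3, nat_lit 0, nat_lit 2, nat_lit 0]))) (.node (nat_lit 1252) (.leaf ((nat_lit 223), [nat_lit 3, nat_lit 4, nat_lit 3, nat_lit 0, nat_lit 4, nat_lit 3, nat_lit 1, nat_lit 0, nat_lit 1, nat_lit 3])) (.node (nat_lit 1253) (.leaf ((nat_lit 156), [])) (.leaf ((nat_lit 187), [nat_lit 4, nat_lit 1, nat_lit 3, nat_lit 0, nat_lit 4, nat_lit 1, nat_lit 0, nat_lit 2, nat_lit 3, nat_lit 0])))))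
 (.node (nat_lit 1257) (.node (nat_lit 1255) (.leaf ((nat_lit 97), [nat_lit 0, nat_lit 3, nat_lit 4, nat_lit 1, nat_lit 1, nat_lit 3, nat_lit 2])) (.node (nat_lit 1256) (.leaf ((nat_lit 80), [nat_lit 4, nat_lit 0, nat_lit 2, nat_lit 4, nat_lit 0, nat_lit 4, nat_lit 0, nat_lit 1, nat_lit 1, nat_lit 3, nat_lit 0])) (.leaf ((nat_lit 223), [nat_lit 4, nat_lit 1, nat_lit 0, nat_lit 2, nat_lit 4, nat_lit 2, nat_lit 3, nat_lit 0, nat_lit 1, nat_lit 0])))) (.node (nat_lit 1258) (.leaf ((nat_lit 221), [nat_lit 1, nat_lit 0, nat_lit 4, nat_lit 2, nat_lit 0, nat_lit 2, nat_lit 3, nat_lit 2, nat_lit 2])) (.node (nat_lit 1259) (.leaf ((nat_lit 69), [nat_lit 0, nat_lit 4, nat_lit 0, nat_lit 2, nat_lit 2, nat_lit 0, nat_lit 2, nat_lit 0])) (.leaf ((nat_lit 156), [])))))))))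
 (.node (nat_lit 1302) (.node (nat_lit 1281) (.node (nat_lit 1270) (.node (nat_lit 1265) (.node (nat_lit 1262) (.node (nat_lit 1261) (.leaf ((nat_lit 157), [])) (.leaf ((nat_lit 217), [nat_lit 3, nat_lit 4, nat_lit 2, nat_lit 3, nat_lit 1, nat_lit 0, nat_lit 2, nat_lit 0]))) (.node (nat_lit 1263) (.leaf ((nat_lit 186), [nat_lit 4, nat_lit 2, nat_lit 2, nat_lit 0, nat_lit 4, nat_lit 1, nat_lit 1, nat_lit 3, nat_lit 0])) (.node (nat_lit 1264) (.leaf ((nat_lit 178), [nat_lit 1, nat_lit 0, nat_lit 4, nat_lit 2, nat_lit 0, nat_lit 4, nat_lit 2, nat_lit 3, nat_lit 0, nat_lit 2, nat_lit 0])) (.leaf ((nat_lit 198), [nat_lit 2, nat_lit 4, nat_lit 2, nat_lit 3, nat_lit 4, nat_lit 1, nat_lit 0, nat_lit 2, nat_lit 0])))))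
 (.node (nat_lit 1267) (.node (nat_lit 1266) (.leaf ((nat_lit 46), [nat_lit 2, nat_lit 4, nat_lit 2, nat_lit 2, nat_lit 0, nat_lit 4, nat_lit 1, nat_lit 1, nat_lit 3, nat_lit 2, nat_lit 2])) (.leaf ((nat_lit 99), [nat_lit 0, nat_lit 4, nat_lit 0, nat_lit 1, nat_lit 4, nat_lit 0, nat_lit 1, nat_lit 0, nat_lit 1, nat_lit 1, nat_lit 0]))) (.node (nat_lit 1268) (.leaf ((nat_lit 158), [])) (.node (nat_lit 1269) (.leaf ((nat_lit 198), [nat_lit 4, nat_lit 2, nat_lit 4, nat_lit 2, nat_lit 0, nat_lit 4, nat_lit 0, nat_lit 3, nat_lit 2, nat_lit 2, nat_lit 3, nat_lit 0])) (.leaf ((nat_lit 204), [nat_lit 2, nat_lit 0, nat_lit 4, nat_lit 3, nat_lit 2, nat_lit 2]))))))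
 (.node (nat_lit 1275) (.node (nat_lit 1272) (.node (nat_lit 1271) (.leaf ((nat_lit 94), [nat_lit 1, nat_lit 0, nat_lit 2, nat_lit 4, nat_lit 1, nat_lit 1, nat_lit 0, nat_lit 3, nat_lit 1])) (.leaf ((nat_lit 160), [nat_lit 2, nat_lit 3, nat_lit 2, nat_lit 0, nat_lit 4, nat_lit 0, nat_lit 3, nat_lit 2, nat_lit 0, nat_lit 1]))) (.node (nat_lit 1273) (.leaf ((nat_lit 100), [nat_lit 4, nat_lit 1, nat_lit 1, nat_lit 3, nat_lit 4, nat_lit 1, nat_lit 0, nat_lit 3, nat_lit 0, nat_lit 1, nat_lit 0])) (.node (nat_lit 1274) (.leaf ((nat_lit 164), [nat_lit 0, nat_lit 2, nat_lit 4, nat_lit 2, nat_lit 0, nat_lit 4, nat_lit 0, nat_lit 2])) (.leaf ((nat_lit 163), [nat_lit 0, nat_lit 2, nat_lit 4, nat_lit 2, nat_lit 0, nat_lit 4, nat_lit 0, nat_lit 2])))))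
 (.node (nat_lit 1278) (.node (nat_lit 1276) (.leaf ((nat_lit 212), [nat_lit 4, nat_lit 3, nat_lit 0, nat_lit 4, nat_lit 1, nat_lit 3, nat_lit 2])) (.node (nat_lit 1277) (.leaf ((nat_lit 158), [])) (.leaf ((nat_lit 217), [nat_lit 3, nat_lit 4, nat_lit 2, nat_lit 3, nat_lit 0, nat_lit 4, nat_lit 0, nat_lit 2, nat_lit 0, nat_lit 1])))) (.node (nat_lit 1279) (.leaf ((nat_lit 72), [nat_lit 4, nat_lit 1, nat_lit 0, nat_lit 1, nat_lit 4, nat_lit 2, nat_lit 0, nat_lit 3, nat_lit 2])) (.node (nat_lit 1280) (.leaf ((nat_lit 162), [])) (.leaf ((nat_lit 161), [])))))))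
 (.node (nat_lit 1291) (.node (nat_lit 1286) (.node (nat_lit 1283) (.node (nat_lit 1282) (.leaf ((nat_lit 213), [nat_lit 1, nat_lit 1, nat_lit 3, nat_lit 2, nat_lit 2, nat_lit 0])) (.leaf ((nat_lit 213), [nat_lit 4, nat_lit 0, nat_lit 2, nat_lit 2, nat_lit 4, nat_lit 3, nat_lit 1, nat_lit 1, nat_lit 3, nat_lit 1, nat_lit 0]))) (.node (nat_lit 1284) (.leaf ((nat_lit 173), [nat_lit 3, nat_lit 4, nat_lit 3, nat_lit 0, nat_lit 4, nat_lit 3, nat_lit 1, nat_lit 0, nat_lit 3, nat_lit 0, nat_lit 2, nat_lit 0])) (.node (nat_lit 1285) (.leaf ((nat_lit 192), [nat_lit 1, nat_lit 4, nat_lit 0, nat_lit 4, nat_lit 2, nat_lit 2, nat_lit 0, nat_lit 1])) (.leaf ((nat_lit 102), [nat_lit 2, nat_lit 3, nat_lit 2, nat_lit 0, nat_lit 4, nat_lit 2, nat_lit 2, nat_lit 0, nat_lit 3, nat_lit 2, nat_lit 0])))))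
 (.node (nat_lit 1288) (.node (nat_lit 1287) (.leaf ((nat_lit 102), [nat_lit 2, nat_lit 4, nat_lit 2, nat_lit 2, nat_lit 0, nat_lit 4, nat_lit 2, nat_lit 0, nat_lit 3, nat_lit 1, nat_lit 0])) (.leaf ((nat_lit 222), [nat_lit 0, nat_lit 2, nat_lit 0, nat_lit 4, nat_lit 0, nat_lit 2, nat_lit 2, nat_lit 3, nat_lit 2]))) (.node (nat_lit 1289) (.leaf ((nat_lit 186), [nat_lit 4, nat_lit 1, nat_lit 3, nat_lit 0, nat_lit 4, nat_lit 2, nat_lit 0, nat_lit 2, nat_lit 3, nat_lit 2])) (.node (nat_lit 1290) (.leaf ((nat_lit 161), [])) (.leaf ((nat_lit 61), [nat_lit 0, nat_lit 4, nat_lit 0, nat_lit 4, nat_lit 0, nat_lit 1, nat_lit 1, nat_lit 3, nat_lit 0]))))))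
 (.node (nat_lit 1296) (.node (nat_lit 1293) (.node (nat_lit 1292) (.leaf ((nat_lit 54), [nat_lit 0, nat_lit 2, nat_lit 4, nat_lit 0, nat_lit 4, nat_lit 2, nat_lit 0, nat_lit 3, nat_lit 0])) (.leaf ((nat_lit 172), [nat_lit 1, nat_lit 4, nat_lit 0, nat_lit 4, nat_lit 3]))) (.node (nat_lit 1294) (.leaf ((nat_lit 74), [nat_lit 4, nat_lit 0, nat_lit 2, nat_lit 0, nat_lit 4, nat_lit 1, nat_lit 0, nat_lit 1, nat_lit 1])) (.node (nat_lit 1295) (.leaf ((nat_lit 191), [nat_lit 4, nat_lit 1, nat_lit 0, nat_lit 1, nat_lit 4, nat_lit 0, nat_lit 3, nat_lit 0, nat_lit 1, nat_lit 0])) (.leaf ((nat_lit 163), [])))))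
 (.node (nat_lit 1299) (.node (nat_lit 1297) (.leaf ((nat_lit 104), [nat_lit 4, nat_lit 2, nat_lit 0, nat_lit 2, nat_lit 4, nat_lit 3, nat_lit 0, nat_lit 2, nat_lit 3, nat_lit 0, nat_lit 1])) (.node (nat_lit 1298) (.leaf ((nat_lit 165), [nat_lit 1, nat_lit 0, nat_lit 1, nat_lit 4, nat_lit 2, nat_lit 2, nat_lit 0, nat_lit 3, nat_lit 2, nat_lit 0])) (.leaf ((nat_lit 110), [nat_lit 0, nat_lit 2, nat_lit 4, nat_lit 1, nat_lit 3, nat_lit 2, nat_lit 0, nat_lit 2, nat_lit 0])))) (.node (nat_lit 1300) (.leaf ((nat_lit 164), [])) (.node (nat_lit 1301) (.leaf ((nat_lit 194), [nat_lit 1, nat_lit 4, nat_lit 3, nat_lit 1, nat_lit 0, nat_lit 2])) (.leaf ((nat_lit 182), [nat_lit 4, nat_lit 0, nat_lit 2, nat_lit 4, nat_lit 0, nat_lit 4, nat_lit 1, nat_lit 3, nat_lit 2, nat_lit 0, nat_lit 1, nat_lit 0]))))))))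
 (.node (nat_lit 1323) (.node (nat_lit 1312) (.node (nat_lit 1307) (.node (nat_lit 1304) (.node (nat_lit 1303) (.leaf ((nat_lit 92), [nat_lit 3, nat_lit 4, nat_lit 1, nat_lit 3, nat_lit 1, nat_lit 1, nat_lit 0, nat_lit 2])) (.leaf ((nat_lit 82), [nat_lit 4, nat_lit 1, nat_lit 1, nat_lit 3, nat_lit 4, nat_lit 3, nat_lit 0, nat_lit 2, nat_lit 0, nat_lit 3]))) (.node (nat_lit 1305) (.leaf ((nat_lit 210), [nat_lit 0, nat_lit 3, nat_lit 4, nat_lit 2, nat_lit 3, nat_lit 1, nat_lit 0, nat_lit 2])) (.node (nat_lit 1306) (.leaf ((nat_lit 93), [nat_lit 0, nat_lit 2, nat_lit 4, nat_lit 0, nat_lit 4, nat_lit 0, nat_lit 3, nat_lit 1, nat_lit 1, nat_lit 3, nat_lit 0])) (.leaf ((nat_lit 164), [])))))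
 (.node (nat_lit 1309) (.node (nat_lit 1308) (.leaf ((nat_lit 212), [nat_lit 4, nat_lit 2, nat_lit 0, nat_lit 2, nat_lit 4, nat_lit 3, nat_lit 0, nat_lit 2, nat_lit 2, nat_lit 3, nat_lit 0])) (.leaf ((nat_lit 106), [nat_lit 4, nat_lit 2, nat_lit 0, nat_lit 2, nat_lit 4, nat_lit 2, nat_lit 0, nat_lit 2, nat_lit 3]))) (.node (nat_lit 1310) (.leaf ((nat_lit 185), [nat_lit 2, nat_lit 4, nat_lit 0, nat_lit 1, nat_lit 3, nat_lit 1, nat_lit 1])) (.node (nat_lit 1311) (.leaf ((nat_lit 170), [nat_lit 1, nat_lit 1, nat_lit 4, nat_lit 0, nat_lit 4, nat_lit 3, nat_lit 1, nat_lit 1, nat_lit 3, nat_lit 0, nat_lit 2, nat_lit 0])) (.leaf ((nat_lit 67), [nat_lit 0, nat_lit 4, nat_lit 3, nat_lit 0, nat_lit 1, nat_lit 0, nat_lit 1, nat_lit 0]))))))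
 (.node (nat_lit 1317) (.node (nat_lit 1314) (.node (nat_lit 1313) (.leaf ((nat_lit 67), [nat_lit 1, nat_lit 3, nat_lit 0, nat_lit 4, nat_lit 3, nat_lit 0, nat_lit 1, nat_lit 0, nat_lit 1, nat_lit 0])) (.leaf ((nat_lit 164), []))) (.node (nat_lit 1315) (.leaf ((nat_lit 107), [nat_lit 0, nat_lit 2, nat_lit 4, nat_lit 2, nat_lit 0, nat_lit 4, nat_lit 1, nat_lit 1, nat_lit 0])) (.node (nat_lit 1316) (.leaf ((nat_lit 77), [nat_lit 4, nat_lit 1, nat_lit 3, nat_lit 4, nat_lit 1, nat_lit 3, nat_lit 2, nat_lit 0, nat_lit 2])) (.leaf ((nat_lit 92), [nat_lit 0, nat_lit 1, nat_lit 4, nat_lit 2, nat_lit 2, nat_lit 0, nat_lit 1])))))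
 (.node (nat_lit 1320) (.node (nat_lit 1318) (.leaf ((nat_lit 172), [nat_lit 0, nat_lit 4, nat_lit 0, nat_lit 4, nat_lit 0, nat_lit 2, nat_lit 3, nat_lit 1, nat_lit 0])) (.node (nat_lit 1319) (.leaf ((nat_lit 219), [nat_lit 2, nat_lit 0, nat_lit 3, nat_lit 0, nat_lit 2, nat_lit 0])) (.leaf ((nat_lit 166), [])))) (.node (nat_lit 1321) (.leaf ((nat_lit 108), [nat_lit 4, nat_lit 0, nat_lit 4, nat_lit 1, nat_lit 1, nat_lit 0])) (.node (nat_lit 1322) (.leaf ((nat_lit 178), [nat_lit 4, nat_lit 1, nat_lit 3, nat_lit 0, nat_lit 4, nat_lit 2, nat_lit 0, nat_lit 3, nat_lit 1, nat_lit 0])) (.leaf ((nat_lit 96), [nat_lit 3, nat_lit 4, nat_lit 2, nat_lit 3, nat_lit 0, nat_lit 4, nat_lit 1])))))))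
 (.node (nat_lit 1333) (.node (nat_lit 1328) (.node (nat_lit 1325) (.node (nat_lit 1324) (.leaf ((nat_lit 79), [nat_lit 2, nat_lit 4, nat_lit 3, nat_lit 0, nat_lit 4, nat_lit 3, nat_lit 2, nat_lit 0, nat_lit 1, nat_lit 0])) (.leaf ((nat_lit 222), [nat_lit 2, nat_lit 4, nat_lit 3, nat_lit 2, nat_lit 4, nat_lit 2, nat_lit 0, nat_lit 3, nat_lit 1, nat_lit 1, nat_lit 0]))) (.node (nat_lit 1326) (.leaf ((nat_lit 176), [])) (.node (nat_lit 1327) (.leaf ((nat_lit 181), [nat_lit 4, nat_lit 2, nat_lit 4, nat_lit 3, nat_lit 0, nat_lit 4, nat_lit 1, nat_lit 1, nat_lit 3, nat_lit 0, nat_lit 2, nat_lit 0])) (.leaf ((nat_lit 93), [nat_lit 4, nat_lit 2, nat_lit 3, nat_lit 0, nat_lit 4, nat_lit 0, nat_lit 2, nat_lit 0, nat_lit 2])))))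
 (.node (nat_lit 1330) (.node (nat_lit 1329) (.leaf ((nat_lit 93), [nat_lit 1, nat_lit 4, nat_lit 2, nat_lit 0, nat_lit 4, nat_lit 0, nat_lit 3, nat_lit 0, nat_lit 2, nat_lit 0])) (.leaf ((nat_lit 209), [nat_lit 0, nat_lit 2, nat_lit 4, nat_lit 0, nat_lit 3, nat_lit 1, nat_lit 1, nat_lit 3]))) (.node (nat_lit 1331) (.leaf ((nat_lit 178), [])) (.node (nat_lit 1332) (.leaf ((nat_lit 109), [nat_lit 4, nat_lit 0, nat_lit 2, nat_lit 4, nat_lit 0, nat_lit 4, nat_lit 2, nat_lit 0, nat_lit 3, nat_lit 0, nat_lit 2, nat_lit 0])) (.leaf ((nat_lit 110), [nat_lit 4, nat_lit 2, nat_lit 4, nat_lit 0, nat_lit 3, nat_lit 0, nat_lit 2, nat_lit 0]))))))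
 (.node (nat_lit 1338) (.node (nat_lit 1335) (.node (nat_lit 1334) (.leaf ((nat_lit 104), [nat_lit 3, nat_lit 4, nat_lit 0, nat_lit 3, nat_lit 1, nat_lit 1])) (.leaf ((nat_lit 183), []))) (.node (nat_lit 1336) (.leaf ((nat_lit 214), [nat_lit 4, nat_lit 2, nat_lit 4, nat_lit 3, nat_lit 0, nat_lit 2, nat_lit 2, nat_lit 3, nat_lit 0])) (.node (nat_lit 1337) (.leaf ((nat_lit 220), [nat_lit 2, nat_lit 4, nat_lit 3, nat_lit 2, nat_lit 4, nat_lit 0, nat_lit 3, nat_lit 0, nat_lit 1, nat_lit 0])) (.leaf ((nat_lit 110), [nat_lit 4, nat_lit 2, nat_lit 0, nat_lit 4, nat_lit 2, nat_lit 3, nat_lit 1, nat_lit 1])))))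
 (.node (nat_lit 1341) (.node (nat_lit 1339) (.leaf ((nat_lit 111), [nat_lit 3, nat_lit 1, nat_lit 4, nat_lit 2, nat_lit 3, nat_lit 0, nat_lit 1])) (.node (nat_lit 1340) (.leaf ((nat_lit 209), [nat_lit 2, nat_lit 2, nat_lit 4, nat_lit 3, nat_lit 0, nat_lit 4, nat_lit 0, nat_lit 3, nat_lit 2, nat_lit 0, nat_lit 1])) (.leaf ((nat_lit 95), [nat_lit 3, nat_lit 4, nat_lit 3, nat_lit 0, nat_lit 4, nat_lit 2, nat_lit 2, nat_lit 3, nat_lit 1, nat_lit 0])))) (.node (nat_lit 1342) (.leaf ((nat_lit 208), [nat_lit 4, nat_lit 3, nat_lit 1, nat_lit 4, nat_lit 2, nat_lit 2, nat_lit 0, nat_lit 3, nat_lit 2, nat_lit 0])) (.node (nat_lit 1343) (.leaf ((nat_lit 189), [])) (.leaf ((nat_lit 111), [nat_lit 4, nat_lit 0, nat_lit 2, nat_lit 2, nat_lit 4, nat_lit 2, nat_lit 2, nat_lit 3, nat_lit 2, nat_lit 2, nat_lit 0]))))))))))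
noncomputable def cW : Tr (ℕ × List ℕ) := (.node (nat_lit 672) (.node (nat_lit 336) (.node (nat_lit 168) cW_0 cW_1) (.node (nat_lit 504) cW_2 cW_3)) (.node (nat_lit 1008) (.node (nat_lit 840) cW_4 cW_5) (.node (nat_lit 1176) cW_6 cW_7)))
theorem cc : allR 0 224 (cosChk (nat_lit 10) (nat_lit 1023) (U62.L.map Lev.b) v1T nT cR 6 224 cW) = true := by decide +kernel
theorem cl {G : Type*} [Group G] [Finite G] {X : Type*} [MulAction G X] {pt : ℕ → X} (C : Ch G 693 (nat_lit 10) (nat_lit 1023) pt U62.T U62.L) : Lets G 693 (nat_lit 10) (nat_lit 1023) pt cR := lets_words C.lets cE cw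

end H8.U6
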