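import Cfsg.Agent.H8.U6d

/-! H8.U6e: overgroups of 3^4:A6 in U6(2) (generated certificate) -/

set_option autoImplicit false
set_option maxRecDepth 200000

set_option linter.all false
open Subgroup 

namespace H8.U6

noncomputable def eCE_0 : Tr (ℕ × List ℕ × List (List ℕ)) := (.node (nat_lit 84) (.node (nat_lit 42) (.node (nat_lit 21) (.node (nat_lit 10) (.node (nat_lit 5) (.node (nat_lit 2) (.node (nat_lit 1) (.leaf ((nat_lit 0), [], [])) (.leaf ((nat_lit 1), [], [[nat_lit 1, nat_lit 0, nat_lit 1, nat_lit 4, nat_lit 2, nat_lit 2, nat_lit 3, nat_lit 1], [nat_lit 0, nat_lit 4, nat_lit 0, nat_lit 1, nat_lit 4, nat_lit 0, nat_lit 3, nat_lit 2, nat_lit 2, nat_lit 3], [nat_lit 99, nat_lit 1, nat_lit 99, nat_lit 1, nat_lit 0, nat_lit 4, nat_lit 0, nat_lit 2, nat_lit 0, nat_lit 2, nat_lit 0]]))) (.node (nat_lit 3) (.leaf ((nat_lit 1), [], [[nat_lit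 1, nat_lit 0, nat_lit 1, nat_lit 4, nat_lit 2, nat_lit 2, nat_lit 3, nat_lit 1], [nat_lit 0, nat_lit 4, nat_lit 0, nat_lit 1, nat_lit 4, nat_lit 0, nat_lit 3, nat_lit 2, nat_lit 2, nat_lit 3], [nat_lit 1, nat_lit 4, nat_lit 99, nat_lit 2, nat_lit 4, nat_lit 99, nat_lit 2, nat_lit 4, nat_lit 2, nat_lit 0, nat_lit 4, nat_lit 0, nat_lit 1, nat_lit 0, nat_lit 1, nat_lit 0]])) (.node (nat_lit 4) (.leaf ((nat_lit 1), [], [[nat_lit 1, nat_lit 0, nat_lit 1, nat_lit 4, nat_lit 2, nat_lit 2, nat_lit 3, nat_lit 1], [nat_lit 0, nat_lit 4, nat_lit 0, nat_lit 1, nat_lit 4, nat_lit 0, nat_lit 3, nat_lit 2, nat_lit 2, nat_lit 3], [nat_lit 1, nat_lit 1, nat_lit 99, nat_lit 4, nat_lit 1, nat_lit 99, nat_lit 4, nat_lit 1, nat_lit 0, nat_lit 2, nat_lit 4, nat_lit 1, nat_lit 1]])) (.leaf ((nat_lit 1), [], [[nat_lit 1, nat_lit 0, nat_lit 1, nat_lit 4, nat_lit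 2, nat_lit 2, nat_lit 3, nat_lit 1], [nat_lit 0, nat_lit 4, nat_lit 0, nat_lit 1, nat_lit 4, nat_lit 0, nat_lit 3, nat_lit 2, nat_lit 2, nat_lit 3], [nat_lit 1, nat_lit 99, nat_lit 1, nat_lit 1, nat_lit 99, nat_lit 2, nat_lit 3, nat_lit 0, nat_lit 4, nat_lit 2, nat_lit 0, nat_lit 3, nat_lit 2, nat_lit 2, nat_lit 0]])))))
 (.node (nat_lit 7) (.node (nat_lit 6) (.leaf ((nat_lit 1), [], [[nat_lit 1, nat_lit 0, nat_lit 1, nat_lit 4, nat_lit 2, nat_lit 2, nat_lit 3, nat_lit 1], [nat_lit 0, nat_lit 4, nat_lit 0, nat_lit 1, nat_lit 4, nat_lit 0, nat_lit 3, nat_lit 2, nat_lit 2, nat_lit 3], [nat_lit 1, nat_lit 3, nat_lit 0, nat_lit 99, nat_lit 4, nat_lit 0, nat_lit 99, nat_lit 3, nat_lit 1, nat_lit 0, nat_lit 4, nat_lit 3, nat_lit 1, nat_lit 0, nat_lit 3]])) (.leaf ((nat_lit 1), [], [[nat_lit 1, nat_lit 0, nat_lit 1, nat_lit 4, nat_lit 2, nat_lit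 2, nat_lit 3, nat_lit 1], [nat_lit 0, nat_lit 4, nat_lit 0, nat_lit 1, nat_lit 4, nat_lit 0, nat_lit 3, nat_lit 2, nat_lit 2, nat_lit 3], [nat_lit 1, nat_lit 3, nat_lit 99, nat_lit 1, nat_lit 1, nat_lit 0, nat_lit 99, nat_lit 3, nat_lit 1, nat_lit 4, nat_lit 0]]))) (.node (nat_lit 8) (.leaf ((nat_lit 1), [], [[nat_lit 1, nat_lit 0, nat_lit 1, nat_lit 4, nat_lit 2, nat_lit 2, nat_lit 3, nat_lit 1], [nat_lit 0, nat_lit 4, nat_lit 0, nat_lit 1, nat_lit 4, nat_lit 0, nat_lit 3, nat_lit 2, nat_lit 2, nat_lit 3], [nat_lit 1, nat_lit 4, nat_lit 99, nat_lit 4, nat_lit 99, nat_lit 99, nat_lit 3, nat_lit 4, nat_lit 2, nat_lit 3, nat_lit 4, nat_lit 3, nat_lit 0, nat_lit 2, nat_lit 0, nat_lit 3]])) (.node (nat_lit 9) (.leaf ((nat_lit 1), [], [[nat_lit 1, nat_lit 0, nat_lit 1, nat_lit 4, nat_lit 2, nat_lit 2, nat_lit 3, nat_lit 1], [nat_lit 0, nat_lit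 4, nat_lit 0, nat_lit 1, nat_lit 4, nat_lit 0, nat_lit 3, nat_lit 2, nat_lit 2, nat_lit 3], [nat_lit 2, nat_lit 2, nat_lit 99, nat_lit 0, nat_lit 2, nat_lit 0, nat_lit 4, nat_lit 0, nat_lit 1, nat_lit 1, nat_lit 3, nat_lit 2, nat_lit 0]])) (.leaf ((nat_lit 1), [], [[nat_lit 1, nat_lit 0, nat_lit 1, nat_lit 4, nat_lit 2, nat_lit 2, nat_lit 3, nat_lit 1], [nat_lit 0, nat_lit 4, nat_lit 0, nat_lit 1, nat_lit 4, nat_lit 0, nat_lit 3, nat_lit 2, nat_lit 2, nat_lit 3], [nat_lit 4, nat_lit 1, nat_lit 99, nat_lit 4, nat_lit 99, nat_lit 2, nat_lit 4, nat_lit 2, nat_lit 3, nat_lit 4, nat_lit 3, nat_lit 0, nat_lit 2, nat_lit 2, nat_lit 3, nat_lit 0]]))))))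
 (.node (nat_lit 15) (.node (nat_lit 12) (.node (nat_lit 11) (.leaf ((nat_lit 1), [], [[nat_lit 1, nat_lit 0, nat_lit 1, nat_lit 4, nat_lit 2, nat_lit 2, nat_lit 3, nat_lit 1], [nat_lit 0, nat_lit 4, nat_lit 0, nat_lit 1, nat_lit 4, nat_lit 0, nat_lit 3, nat_lit 2, nat_lit 2, nat_lit 3], [nat_lit 1, nat_lit 0, nat_lit 99, nat_lit 99, nat_lit 2, nat_lit 3, nat_lit 4, nat_lit 0, nat_lit 2, nat_lit 0, nat_lit 2, nat_lit 0]])) (.leaf ((nat_lit 1), [], [[nat_lit 1, nat_lit 0, nat_lit 1, nat_lit 4, nat_lit 2, nat_lit 2, nat_lit 3, nat_lit 1], [nat_lit 0, nat_lit 4, nat_lit 0, nat_lit 1, nat_lit 4, nat_lit 0, nat_lit 3, nat_lit 2, nat_lit 2, nat_lit 3], [nat_lit 1, nat_lit 1, nat_lit 99, nat_lit 4, nat_lit 99, nat_lit 2, nat_lit 2, nat_lit 0, nat_lit 4, nat_lit 2, nat_lit 3, nat_lit 0]]))) (.node (nat_lit 13) (.leaf ((nat_lit 1), [], [[nat_lit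 1, nat_lit 0, nat_lit 1, nat_lit 4, nat_lit 2, nat_lit 2, nat_lit 3, nat_lit 1], [nat_lit 0, nat_lit 4, nat_lit 0, nat_lit 1, nat_lit 4, nat_lit 0, nat_lit 3, nat_lit 2, nat_lit 2, nat_lit 3], [nat_lit 4, nat_lit 0, nat_lit 99, nat_lit 4, nat_lit 2, nat_lit 99, nat_lit 0, nat_lit 2, nat_lit 4, nat_lit 0, nat_lit 4, nat_lit 1, nat_lit 3, nat_lit 1, nat_lit 1, nat_lit 0, nat_lit 2]])) (.node (nat_lit 14) (.leaf ((nat_lit 1), [], [[nat_lit 1, nat_lit 0, nat_lit 1, nat_lit 4, nat_lit 2, nat_lit 2, nat_lit 3, nat_lit 1], [nat_lit 0, nat_lit 4, nat_lit 0, nat_lit 1, nat_lit 4, nat_lit 0, nat_lit 3, nat_lit 2, nat_lit 2, nat_lit 3], [nat_lit 0, nat_lit 1, nat_lit 1, nat_lit 99, nat_lit 1, nat_lit 99, nat_lit 0, nat_lit 3, nat_lit 4, nat_lit 0, nat_lit 2, nat_lit 0, nat_lit 2, nat_lit 0]])) (.leaf ((nat_lit 1), [], [[nat_lit 1, nat_lit 0, nat_lit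 1, nat_lit 4, nat_lit 2, nat_lit 2, nat_lit 3, nat_lit 1], [nat_lit 0, nat_lit 4, nat_lit 0, nat_lit 1, nat_lit 4, nat_lit 0, nat_lit 3, nat_lit 2, nat_lit 2, nat_lit 3], [nat_lit 1, nat_lit 4, nat_lit 1, nat_lit 1, nat_lit 99, nat_lit 99, nat_lit 4, nat_lit 0, nat_lit 2, nat_lit 4, nat_lit 0, nat_lit 4, nat_lit 0, nat_lit 1, nat_lit 1, nat_lit 3, nat_lit 2]])))))
 (.node (nat_lit 18) (.node (nat_lit 16) (.leaf ((nat_lit 1), [], [[nat_lit 1, nat_lit 0, nat_lit 1, nat_lit 4, nat_lit 2, nat_lit 2, nat_lit 3, nat_lit 1], [nat_lit 0, nat_lit 4, nat_lit 0, nat_lit 1, nat_lit 4, nat_lit 0, nat_lit 3, nat_lit 2, nat_lit 2, nat_lit 3], [nat_lit 0, nat_lit 1, nat_lit 99, nat_lit 99, nat_lit 4, nat_lit 99, nat_lit 1, nat_lit 4, nat_lit 2, nat_lit 0, nat_lit 2, nat_lit 3, nat_lit 2, nat_lit 0]])) (.node (nat_lit 17) (.leaf ((nat_lit 1), [], [[nat_lit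 1, nat_lit 0, nat_lit 1, nat_lit 4, nat_lit 2, nat_lit 2, nat_lit 3, nat_lit 1], [nat_lit 0, nat_lit 4, nat_lit 0, nat_lit 1, nat_lit 4, nat_lit 0, nat_lit 3, nat_lit 2, nat_lit 2, nat_lit 3], [nat_lit 1, nat_lit 0, nat_lit 99, nat_lit 3, nat_lit 1, nat_lit 0, nat_lit 99, nat_lit 3, nat_lit 0, nat_lit 4, nat_lit 3, nat_lit 0]])) (.leaf ((nat_lit 1), [], [[nat_lit 1, nat_lit 0, nat_lit 1, nat_lit 4, nat_lit 2, nat_lit 2, nat_lit 3, nat_lit 1], [nat_lit 0, nat_lit 4, nat_lit 0, nat_lit 1, nat_lit 4, nat_lit 0, nat_lit 3, nat_lit 2, nat_lit 2, nat_lit 3], [nat_lit 0, nat_lit 99, nat_lit 99, nat_lit 3, nat_lit 2, nat_lit 4, nat_lit 2, nat_lit 0, nat_lit 1, nat_lit 0, nat_lit 1, nat_lit 0]])))) (.node (nat_lit 19) (.leaf ((nat_lit 1), [], [[nat_lit 1, nat_lit 0, nat_lit 1, nat_lit 4, nat_lit 2, nat_lit 2, nat_lit 3, nat_lit 1], [nat_lit 0, nat_lit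 4, nat_lit 0, nat_lit 1, nat_lit 4, nat_lit 0, nat_lit 3, nat_lit 2, nat_lit 2, nat_lit 3], [nat_lit 2, nat_lit 4, nat_lit 3, nat_lit 99, nat_lit 99, nat_lit 1, nat_lit 1, nat_lit 4, nat_lit 0, nat_lit 1, nat_lit 4, nat_lit 0, nat_lit 1, nat_lit 1, nat_lit 3, nat_lit 0]])) (.node (nat_lit 20) (.leaf ((nat_lit 1), [], [[nat_lit 1, nat_lit 0, nat_lit 1, nat_lit 4, nat_lit 2, nat_lit 2, nat_lit 3, nat_lit 1], [nat_lit 0, nat_lit 4, nat_lit 0, nat_lit 1, nat_lit 4, nat_lit 0, nat_lit 3, nat_lit 2, nat_lit 2, nat_lit 3], [nat_lit 4, nat_lit 1, nat_lit 4, nat_lit 99, nat_lit 4, nat_lit 99, nat_lit 1, nat_lit 1, nat_lit 4, nat_lit 0, nat_lit 1, nat_lit 4, nat_lit 0, nat_lit 2, nat_lit 0, nat_lit 3]])) (.leaf ((nat_lit 1), [], [[nat_lit 1, nat_lit 0, nat_lit 1, nat_lit 4, nat_lit 2, nat_lit 2, nat_lit 3, nat_lit 1], [nat_lit 0, nat_lit 4, nat_lit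 0, nat_lit 1, nat_lit 4, nat_lit 0, nat_lit 3, nat_lit 2, nat_lit 2, nat_lit 3], [nat_lit 1, nat_lit 0, nat_lit 2, nat_lit 99, nat_lit 1, nat_lit 0, nat_lit 1, nat_lit 99, nat_lit 0, nat_lit 1, nat_lit 4, nat_lit 0, nat_lit 2, nat_lit 3, nat_lit 1]])))))))
 (.node (nat_lit 31) (.node (nat_lit 26) (.node (nat_lit 23) (.node (nat_lit 22) (.leaf ((nat_lit 1), [], [[nat_lit 1, nat_lit 0, nat_lit 1, nat_lit 4, nat_lit 2, nat_lit 2, nat_lit 3, nat_lit 1], [nat_lit 0, nat_lit 4, nat_lit 0, nat_lit 1, nat_lit 4, nat_lit 0, nat_lit 3, nat_lit 2, nat_lit 2, nat_lit 3], [nat_lit 3, nat_lit 99, nat_lit 2, nat_lit 99, nat_lit 1, nat_lit 0, nat_lit 4, nat_lit 2, nat_lit 3, nat_lit 1, nat_lit 0, nat_lit 2, nat_lit 0]])) (.leaf ((nat_lit 1), [], [[nat_lit 1, nat_lit 0, nat_lit 1, nat_lit 4, nat_lit 2, nat_lit 2, nat_lit 3, nat_lit 1], [nat_lit 0, nat_lit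 4, nat_lit 0, nat_lit 1, nat_lit 4, nat_lit 0, nat_lit 3, nat_lit 2, nat_lit 2, nat_lit 3], [nat_lit 1, nat_lit 99, nat_lit 0, nat_lit 1, nat_lit 99, nat_lit 2, nat_lit 0, nat_lit 4, nat_lit 2, nat_lit 0, nat_lit 1, nat_lit 0, nat_lit 1, nat_lit 0]]))) (.node (nat_lit 24) (.leaf ((nat_lit 1), [], [[nat_lit 1, nat_lit 0, nat_lit 1, nat_lit 4, nat_lit 2, nat_lit 2, nat_lit 3, nat_lit 1], [nat_lit 0, nat_lit 4, nat_lit 0, nat_lit 1, nat_lit 4, nat_lit 0, nat_lit 3, nat_lit 2, nat_lit 2, nat_lit 3], [nat_lit 3, nat_lit 1, nat_lit 99, nat_lit 3, nat_lit 0, nat_lit 99, nat_lit 4, nat_lit 0, nat_lit 4, nat_lit 2, nat_lit 0, nat_lit 2, nat_lit 0, nat_lit 3]])) (.node (nat_lit 25) (.leaf ((nat_lit 1), [], [[nat_lit 1, nat_lit 0, nat_lit 1, nat_lit 4, nat_lit 2, nat_lit 2, nat_lit 3, nat_lit 1], [nat_lit 0, nat_lit 4, nat_lit 0, nat_lit 1, nat_lit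 4, nat_lit 0, nat_lit 3, nat_lit 2, nat_lit 2, nat_lit 3], [nat_lit 3, nat_lit 1, nat_lit 99, nat_lit 99, nat_lit 2, nat_lit 3, nat_lit 0, nat_lit 4, nat_lit 2, nat_lit 3, nat_lit 1, nat_lit 0, nat_lit 2, nat_lit 0]])) (.leaf ((nat_lit 1), [], [[nat_lit 1, nat_lit 0, nat_lit 1, nat_lit 4, nat_lit 2, nat_lit 2, nat_lit 3, nat_lit 1], [nat_lit 0, nat_lit 4, nat_lit 0, nat_lit 1, nat_lit 4, nat_lit 0, nat_lit 3, nat_lit 2, nat_lit 2, nat_lit 3], [nat_lit 0, nat_lit 2, nat_lit 99, nat_lit 99, nat_lit 2, nat_lit 3, nat_lit 4, nat_lit 3, nat_lit 0, nat_lit 1, nat_lit 0, nat_lit 2]])))))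
 (.node (nat_lit 28) (.node (nat_lit 27) (.leaf ((nat_lit 1), [], [[nat_lit 1, nat_lit 0, nat_lit 1, nat_lit 4, nat_lit 2, nat_lit 2, nat_lit 3, nat_lit 1], [nat_lit 0, nat_lit 4, nat_lit 0, nat_lit 1, nat_lit 4, nat_lit 0, nat_lit 3, nat_lit 2, nat_lit 2, nat_lit 3], [nat_lit 1, nat_lit 1, nat_lit 99, nat_lit 2, nat_lit 0, nat_lit 99, nat_lit 1, nat_lit 3, nat_lit 4, nat_lit 2, nat_lit 3, nat_lit 1, nat_lit 0, nat_lit 2, nat_lit 0]])) (.leaf ((nat_lit 1), [], [[nat_lit 1, nat_lit 0, nat_lit 1, nat_lit 4, nat_lit 2, nat_lit 2, nat_lit 3, nat_lit 1], [nat_lit 0, nat_lit 4, nat_lit 0, nat_lit 1, nat_lit 4, nat_lit 0, nat_lit 3, nat_lit 2, nat_lit 2, nat_lit 3], [nat_lit 4, nat_lit 1, nat_lit 4, nat_lit 99, nat_lit 4, nat_lit 99, nat_lit 0, nat_lit 4, nat_lit 3, nat_lit 0, nat_lit 2, nat_lit 0, nat_lit 3]]))) (.node (nat_lit 29) (.leaf ((nat_lit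 1), [], [[nat_lit 1, nat_lit 0, nat_lit 1, nat_lit 4, nat_lit 2, nat_lit 2, nat_lit 3, nat_lit 1], [nat_lit 0, nat_lit 4, nat_lit 0, nat_lit 1, nat_lit 4, nat_lit 0, nat_lit 3, nat_lit 2, nat_lit 2, nat_lit 3], [nat_lit 4, nat_lit 0, nat_lit 99, nat_lit 99, nat_lit 2, nat_lit 4, nat_lit 2, nat_lit 0, nat_lit 4, nat_lit 3, nat_lit 1]])) (.node (nat_lit 30) (.leaf ((nat_lit 1), [], [[nat_lit 1, nat_lit 0, nat_lit 1, nat_lit 4, nat_lit 2, nat_lit 2, nat_lit 3, nat_lit 1], [nat_lit 0, nat_lit 4, nat_lit 0, nat_lit 1, nat_lit 4, nat_lit 0, nat_lit 3, nat_lit 2, nat_lit 2, nat_lit 3], [nat_lit 2, nat_lit 4, nat_lit 3, nat_lit 99, nat_lit 99, nat_lit 1, nat_lit 4, nat_lit 0, nat_lit 4, nat_lit 0, nat_lit 1, nat_lit 0, nat_lit 1]])) (.leaf ((nat_lit 1), [], [[nat_lit 1, nat_lit 0, nat_lit 1, nat_lit 4, nat_lit 2, nat_lit 2, nat_lit 3, nat_lit 1],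 [nat_lit 0, nat_lit 4, nat_lit 0, nat_lit 1, nat_lit 4, nat_lit 0, nat_lit 3, nat_lit 2, nat_lit 2, nat_lit 3], [nat_lit 2, nat_lit 2, nat_lit 0, nat_lit 99, nat_lit 1, nat_lit 99, nat_lit 1, nat_lit 1, nat_lit 3, nat_lit 4, nat_lit 2, nat_lit 0, nat_lit 3, nat_lit 2, nat_lit 2, nat_lit 0]]))))))
 (.node (nat_lit 36) (.node (nat_lit 33) (.node (nat_lit 32) (.leaf ((nat_lit 1), [], [[nat_lit 1, nat_lit 0, nat_lit 1, nat_lit 4, nat_lit 2, nat_lit 2, nat_lit 3, nat_lit 1], [nat_lit 0, nat_lit 4, nat_lit 0, nat_lit 1, nat_lit 4, nat_lit 0, nat_lit 3, nat_lit 2, nat_lit 2, nat_lit 3], [nat_lit 0, nat_lit 1, nat_lit 99, nat_lit 99, nat_lit 2, nat_lit 4, nat_lit 2, nat_lit 3, nat_lit 1, nat_lit 0, nat_lit 2, nat_lit 0]])) (.leaf ((nat_lit 1), [], [[nat_lit 1, nat_lit 0, nat_lit 1, nat_lit 4, nat_lit 2, nat_lit 2, nat_lit 3, nat_lit 1], [nat_lit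 0, nat_lit 4, nat_lit 0, nat_lit 1, nat_lit 4, nat_lit 0, nat_lit 3, nat_lit 2, nat_lit 2, nat_lit 3], [nat_lit 0, nat_lit 1, nat_lit 1, nat_lit 99, nat_lit 2, nat_lit 3, nat_lit 0, nat_lit 4, nat_lit 0, nat_lit 2, nat_lit 3, nat_lit 1]]))) (.node (nat_lit 34) (.leaf ((nat_lit 1), [], [[nat_lit 1, nat_lit 0, nat_lit 1, nat_lit 4, nat_lit 2, nat_lit 2, nat_lit 3, nat_lit 1], [nat_lit 0, nat_lit 4, nat_lit 0, nat_lit 1, nat_lit 4, nat_lit 0, nat_lit 3, nat_lit 2, nat_lit 2, nat_lit 3], [nat_lit 2, nat_lit 2, nat_lit 99, nat_lit 0, nat_lit 99, nat_lit 3, nat_lit 4, nat_lit 3, nat_lit 0, nat_lit 1, nat_lit 0, nat_lit 2]])) (.node (nat_lit 35) (.leaf ((nat_lit 1), [], [[nat_lit 1, nat_lit 0, nat_lit 1, nat_lit 4, nat_lit 2, nat_lit 2, nat_lit 3, nat_lit 1], [nat_lit 0, nat_lit 4, nat_lit 0, nat_lit 1, nat_lit 4, nat_lit 0, nat_lit 3, nat_lit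 2, nat_lit 2, nat_lit 3], [nat_lit 4, nat_lit 1, nat_lit 99, nat_lit 1, nat_lit 99, nat_lit 0, nat_lit 2, nat_lit 4, nat_lit 0, nat_lit 4, nat_lit 3, nat_lit 1, nat_lit 1, nat_lit 0, nat_lit 2, nat_lit 0]])) (.leaf ((nat_lit 1), [], [[nat_lit 1, nat_lit 0, nat_lit 1, nat_lit 4, nat_lit 2, nat_lit 2, nat_lit 3, nat_lit 1], [nat_lit 0, nat_lit 4, nat_lit 0, nat_lit 1, nat_lit 4, nat_lit 0, nat_lit 3, nat_lit 2, nat_lit 2, nat_lit 3], [nat_lit 4, nat_lit 0, nat_lit 99, nat_lit 4, nat_lit 99, nat_lit 2, nat_lit 4, nat_lit 0, nat_lit 3, nat_lit 4, nat_lit 0, nat_lit 2, nat_lit 3, nat_lit 2, nat_lit 0]])))))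
 (.node (nat_lit 39) (.node (nat_lit 37) (.leaf ((nat_lit 1), [], [[nat_lit 1, nat_lit 0, nat_lit 1, nat_lit 4, nat_lit 2, nat_lit 2, nat_lit 3, nat_lit 1], [nat_lit 0, nat_lit 4, nat_lit 0, nat_lit 1, nat_lit 4, nat_lit 0, nat_lit 3, nat_lit 2, nat_lit 2, nat_lit 3], [nat_lit 1, nat_lit 3, nat_lit 0, nat_lit 99, nat_lit 1, nat_lit 0, nat_lit 99, nat_lit 2, nat_lit 0, nat_lit 4, nat_lit 0, nat_lit 2, nat_lit 0, nat_lit 2, nat_lit 0]])) (.node (nat_lit 38) (.leaf ((nat_lit 1), [], [[nat_lit 1, nat_lit 0, nat_lit 1, nat_lit 4, nat_lit 2, nat_lit 2, nat_lit 3, nat_lit 1], [nat_lit 0, nat_lit 4, nat_lit 0, nat_lit 1, nat_lit 4, nat_lit 0, nat_lit 3, nat_lit 2, nat_lit 2, nat_lit 3], [nat_lit 2, nat_lit 2, nat_lit 99, nat_lit 99, nat_lit 0, nat_lit 2, nat_lit 4, nat_lit 0, nat_lit 4, nat_lit 0, nat_lit 2, nat_lit 0, nat_lit 1, nat_lit 3, nat_lit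 2]])) (.leaf ((nat_lit 1), [], [[nat_lit 1, nat_lit 0, nat_lit 1, nat_lit 4, nat_lit 2, nat_lit 2, nat_lit 3, nat_lit 1], [nat_lit 0, nat_lit 4, nat_lit 0, nat_lit 1, nat_lit 4, nat_lit 0, nat_lit 3, nat_lit 2, nat_lit 2, nat_lit 3], [nat_lit 99, nat_lit 99, nat_lit 2, nat_lit 2, nat_lit 4, nat_lit 2, nat_lit 0, nat_lit 1, nat_lit 0, nat_lit 1, nat_lit 0]])))) (.node (nat_lit 40) (.leaf ((nat_lit 1), [], [[nat_lit 1, nat_lit 0, nat_lit 1, nat_lit 4, nat_lit 2, nat_lit 2, nat_lit 3, nat_lit 1], [nat_lit 0, nat_lit 4, nat_lit 0, nat_lit 1, nat_lit 4, nat_lit 0, nat_lit 3, nat_lit 2, nat_lit 2, nat_lit 3], [nat_lit 1, nat_lit 1, nat_lit 99, nat_lit 1, nat_lit 1, nat_lit 3, nat_lit 4, nat_lit 2, nat_lit 0, nat_lit 1, nat_lit 1, nat_lit 3, nat_lit 2]])) (.node (nat_lit 41) (.leaf ((nat_lit 1), [], [[nat_lit 1, nat_lit 0, nat_lit 1, nat_lit 4,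 nat_lit 2, nat_lit 2, nat_lit 3, nat_lit 1], [nat_lit 0, nat_lit 4, nat_lit 0, nat_lit 1, nat_lit 4, nat_lit 0, nat_lit 3, nat_lit 2, nat_lit 2, nat_lit 3], [nat_lit 1, nat_lit 0, nat_lit 99, nat_lit 2, nat_lit 99, nat_lit 2, nat_lit 0, nat_lit 4, nat_lit 1, nat_lit 0, nat_lit 2, nat_lit 0, nat_lit 2]])) (.leaf ((nat_lit 1), [], [[nat_lit 1, nat_lit 0, nat_lit 1, nat_lit 4, nat_lit 2, nat_lit 2, nat_lit 3, nat_lit 1], [nat_lit 0, nat_lit 4, nat_lit 0, nat_lit 1, nat_lit 4, nat_lit 0, nat_lit 3, nat_lit 2, nat_lit 2, nat_lit 3], [nat_lit 1, nat_lit 0, nat_lit 2, nat_lit 99, nat_lit 2, nat_lit 99, nat_lit 2, nat_lit 3, nat_lit 4, nat_lit 2, nat_lit 3, nat_lit 1, nat_lit 0, nat_lit 2, nat_lit 0]]))))))))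
 (.node (nat_lit 63) (.node (nat_lit 52) (.node (nat_lit 47) (.node (nat_lit 44) (.node (nat_lit 43) (.leaf ((nat_lit 1), [], [[nat_lit 1, nat_lit 0, nat_lit 1, nat_lit 4, nat_lit 2, nat_lit 2, nat_lit 3, nat_lit 1], [nat_lit 0, nat_lit 4, nat_lit 0, nat_lit 1, nat_lit 4, nat_lit 0, nat_lit 3, nat_lit 2, nat_lit 2, nat_lit 3], [nat_lit 4, nat_lit 0, nat_lit 99, nat_lit 2, nat_lit 0, nat_lit 4, nat_lit 0, nat_lit 4, nat_lit 1, nat_lit 3, nat_lit 2, nat_lit 0, nat_lit 2, nat_lit 0]])) (.leaf ((nat_lit 1), [], [[nat_lit 1, nat_lit 0, nat_lit 1, nat_lit 4, nat_lit 2, nat_lit 2, nat_lit 3, nat_lit 1], [nat_lit 0, nat_lit 4, nat_lit 0, nat_lit 1, nat_lit 4, nat_lit 0, nat_lit 3, nat_lit 2, nat_lit 2, nat_lit 3], [nat_lit 99, nat_lit 1, nat_lit 99, nat_lit 2, nat_lit 4, nat_lit 2, nat_lit 3, nat_lit 4, nat_lit 1, nat_lit 0, nat_lit 1, nat_lit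 0, nat_lit 2, nat_lit 0]]))) (.node (nat_lit 45) (.leaf ((nat_lit 1), [], [[nat_lit 1, nat_lit 0, nat_lit 1, nat_lit 4, nat_lit 2, nat_lit 2, nat_lit 3, nat_lit 1], [nat_lit 0, nat_lit 4, nat_lit 0, nat_lit 1, nat_lit 4, nat_lit 0, nat_lit 3, nat_lit 2, nat_lit 2, nat_lit 3], [nat_lit 0, nat_lit 1, nat_lit 99, nat_lit 99, nat_lit 1, nat_lit 1, nat_lit 4, nat_lit 0, nat_lit 1, nat_lit 4, nat_lit 1, nat_lit 0, nat_lit 2, nat_lit 3]])) (.node (nat_lit 46) (.leaf ((nat_lit 1), [], [[nat_lit 1, nat_lit 0, nat_lit 1, nat_lit 4, nat_lit 2, nat_lit 2, nat_lit 3, nat_lit 1], [nat_lit 0, nat_lit 4, nat_lit 0, nat_lit 1, nat_lit 4, nat_lit 0, nat_lit 3, nat_lit 2, nat_lit 2, nat_lit 3], [nat_lit 0, nat_lit 1, nat_lit 99, nat_lit 0, nat_lit 99, nat_lit 1, nat_lit 1, nat_lit 3, nat_lit 4, nat_lit 1, nat_lit 1, nat_lit 0, nat_lit 3, nat_lit 1, nat_lit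 0]])) (.leaf ((nat_lit 1), [], [[nat_lit 1, nat_lit 0, nat_lit 1, nat_lit 4, nat_lit 2, nat_lit 2, nat_lit 3, nat_lit 1], [nat_lit 0, nat_lit 4, nat_lit 0, nat_lit 1, nat_lit 4, nat_lit 0, nat_lit 3, nat_lit 2, nat_lit 2, nat_lit 3], [nat_lit 0, nat_lit 2, nat_lit 99, nat_lit 4, nat_lit 99, nat_lit 4, nat_lit 1, nat_lit 3, nat_lit 4, nat_lit 3, nat_lit 0, nat_lit 2, nat_lit 2, nat_lit 3, nat_lit 0]])))))
 (.node (nat_lit 49) (.node (nat_lit 48) (.leaf ((nat_lit 1), [], [[nat_lit 1, nat_lit 0, nat_lit 1, nat_lit 4, nat_lit 2, nat_lit 2, nat_lit 3, nat_lit 1], [nat_lit 0, nat_lit 4, nat_lit 0, nat_lit 1, nat_lit 4, nat_lit 0, nat_lit 3, nat_lit 2, nat_lit 2, nat_lit 3], [nat_lit 3, nat_lit 99, nat_lit 2, nat_lit 99, nat_lit 2, nat_lit 3, nat_lit 0, nat_lit 4, nat_lit 3, nat_lit 0]])) (.leaf ((nat_lit 1), [], [[nat_lit 1, nat_lit 0, nat_lit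 1, nat_lit 4, nat_lit 2, nat_lit 2, nat_lit 3, nat_lit 1], [nat_lit 0, nat_lit 4, nat_lit 0, nat_lit 1, nat_lit 4, nat_lit 0, nat_lit 3, nat_lit 2, nat_lit 2, nat_lit 3], [nat_lit 0, nat_lit 2, nat_lit 99, nat_lit 3, nat_lit 4, nat_lit 3, nat_lit 0]]))) (.node (nat_lit 50) (.leaf ((nat_lit 1), [], [[nat_lit 1, nat_lit 0, nat_lit 1, nat_lit 4, nat_lit 2, nat_lit 2, nat_lit 3, nat_lit 1], [nat_lit 0, nat_lit 4, nat_lit 0, nat_lit 1, nat_lit 4, nat_lit 0, nat_lit 3, nat_lit 2, nat_lit 2, nat_lit 3], [nat_lit 2, nat_lit 2, nat_lit 0, nat_lit 99, nat_lit 2, nat_lit 99, nat_lit 1, nat_lit 0, nat_lit 1, nat_lit 4, nat_lit 2, nat_lit 0, nat_lit 1, nat_lit 0, nat_lit 1, nat_lit 0]])) (.node (nat_lit 51) (.leaf ((nat_lit 1), [], [[nat_lit 1, nat_lit 0, nat_lit 1, nat_lit 4, nat_lit 2, nat_lit 2, nat_lit 3, nat_lit 1], [nat_lit 0, nat_lit 4, nat_lit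 0, nat_lit 1, nat_lit 4, nat_lit 0, nat_lit 3, nat_lit 2, nat_lit 2, nat_lit 3], [nat_lit 4, nat_lit 99, nat_lit 1, nat_lit 1, nat_lit 0, nat_lit 99, nat_lit 2, nat_lit 4, nat_lit 2, nat_lit 3, nat_lit 4, nat_lit 0, nat_lit 1, nat_lit 0, nat_lit 3]])) (.leaf ((nat_lit 1), [], [[nat_lit 1, nat_lit 0, nat_lit 1, nat_lit 4, nat_lit 2, nat_lit 2, nat_lit 3, nat_lit 1], [nat_lit 0, nat_lit 4, nat_lit 0, nat_lit 1, nat_lit 4, nat_lit 0, nat_lit 3, nat_lit 2, nat_lit 2, nat_lit 3], [nat_lit 2, nat_lit 4, nat_lit 1, nat_lit 99, nat_lit 1, nat_lit 99, nat_lit 4, nat_lit 3, nat_lit 1, nat_lit 4, nat_lit 3, nat_lit 1, nat_lit 1, nat_lit 3, nat_lit 0, nat_lit 2]]))))))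
 (.node (nat_lit 57) (.node (nat_lit 54) (.node (nat_lit 53) (.leaf ((nat_lit 1), [], [[nat_lit 1, nat_lit 0, nat_lit 1, nat_lit 4, nat_lit 2, nat_lit 2, nat_lit 3, nat_lit 1], [nat_lit 0, nat_lit 4, nat_lit 0, nat_lit 1, nat_lit 4, nat_lit 0, nat_lit 3, nat_lit 2, nat_lit 2, nat_lit 3], [nat_lit 2, nat_lit 4, nat_lit 2, nat_lit 0, nat_lit 99, nat_lit 3, nat_lit 0, nat_lit 99, nat_lit 4, nat_lit 3, nat_lit 1, nat_lit 4, nat_lit 1, nat_lit 1, nat_lit 3, nat_lit 2, nat_lit 2, nat_lit 0]])) (.leaf ((nat_lit 1), [], [[nat_lit 1, nat_lit 0, nat_lit 1, nat_lit 4, nat_lit 2, nat_lit 2, nat_lit 3, nat_lit 1], [nat_lit 0, nat_lit 4, nat_lit 0, nat_lit 1, nat_lit 4, nat_lit 0, nat_lit 3, nat_lit 2, nat_lit 2, nat_lit 3], [nat_lit 1, nat_lit 99, nat_lit 99, nat_lit 4, nat_lit 0, nat_lit 4, nat_lit 3, nat_lit 1, nat_lit 0, nat_lit 2, nat_lit 2]])))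 (.node (nat_lit 55) (.leaf ((nat_lit 1), [], [[nat_lit 1, nat_lit 0, nat_lit 1, nat_lit 4, nat_lit 2, nat_lit 2, nat_lit 3, nat_lit 1], [nat_lit 0, nat_lit 4, nat_lit 0, nat_lit 1, nat_lit 4, nat_lit 0, nat_lit 3, nat_lit 2, nat_lit 2, nat_lit 3], [nat_lit 2, nat_lit 2, nat_lit 99, nat_lit 0, nat_lit 99, nat_lit 0, nat_lit 1, nat_lit 4, nat_lit 3, nat_lit 0, nat_lit 1, nat_lit 0, nat_lit 2, nat_lit 0]])) (.node (nat_lit 56) (.leaf ((nat_lit 1), [], [[nat_lit 1, nat_lit 0, nat_lit 1, nat_lit 4, nat_lit 2, nat_lit 2, nat_lit 3, nat_lit 1], [nat_lit 0, nat_lit 4, nat_lit 0, nat_lit 1, nat_lit 4, nat_lit 0, nat_lit 3, nat_lit 2, nat_lit 2, nat_lit 3], [nat_lit 0, nat_lit 99, nat_lit 2, nat_lit 99, nat_lit 2, nat_lit 2, nat_lit 0, nat_lit 4, nat_lit 0, nat_lit 3, nat_lit 2, nat_lit 0, nat_lit 2]])) (.leaf ((nat_lit 1), [], [[nat_lit 1, nat_lit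 0, nat_lit 1, nat_lit 4, nat_lit 2, nat_lit 2, nat_lit 3, nat_lit 1], [nat_lit 0, nat_lit 4, nat_lit 0, nat_lit 1, nat_lit 4, nat_lit 0, nat_lit 3, nat_lit 2, nat_lit 2, nat_lit 3], [nat_lit 3, nat_lit 99, nat_lit 1, nat_lit 99, nat_lit 2, nat_lit 2, nat_lit 4, nat_lit 2, nat_lit 0, nat_lit 2, nat_lit 3, nat_lit 0, nat_lit 2]])))))
 (.node (nat_lit 60) (.node (nat_lit 58) (.leaf ((nat_lit 1), [], [[nat_lit 1, nat_lit 0, nat_lit 1, nat_lit 4, nat_lit 2, nat_lit 2, nat_lit 3, nat_lit 1], [nat_lit 0, nat_lit 4, nat_lit 0, nat_lit 1, nat_lit 4, nat_lit 0, nat_lit 3, nat_lit 2, nat_lit 2, nat_lit 3], [nat_lit 0, nat_lit 1, nat_lit 1, nat_lit 99, nat_lit 1, nat_lit 99, nat_lit 2, nat_lit 4, nat_lit 3, nat_lit 0]])) (.node (nat_lit 59) (.leaf ((nat_lit 1), [], [[nat_lit 1, nat_lit 0, nat_lit 1, nat_lit 4, nat_lit 2, nat_lit 2, nat_lit 3, nat_lit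 1], [nat_lit 0, nat_lit 4, nat_lit 0, nat_lit 1, nat_lit 4, nat_lit 0, nat_lit 3, nat_lit 2, nat_lit 2, nat_lit 3], [nat_lit 1, nat_lit 0, nat_lit 2, nat_lit 99, nat_lit 4, nat_lit 2, nat_lit 0, nat_lit 4, nat_lit 99, nat_lit 0, nat_lit 1, nat_lit 4, nat_lit 0, nat_lit 2, nat_lit 2, nat_lit 3, nat_lit 2, nat_lit 2, nat_lit 0]])) (.leaf ((nat_lit 1), [], [[nat_lit 1, nat_lit 0, nat_lit 1, nat_lit 4, nat_lit 2, nat_lit 2, nat_lit 3, nat_lit 1], [nat_lit 0, nat_lit 4, nat_lit 0, nat_lit 1, nat_lit 4, nat_lit 0, nat_lit 3, nat_lit 2, nat_lit 2, nat_lit 3], [nat_lit 4, nat_lit 1, nat_lit 99, nat_lit 4, nat_lit 99, nat_lit 1, nat_lit 0, nat_lit 4, nat_lit 1, nat_lit 0, nat_lit 3, nat_lit 0, nat_lit 2]])))) (.node (nat_lit 61) (.leaf ((nat_lit 1), [], [[nat_lit 1, nat_lit 0, nat_lit 1, nat_lit 4, nat_lit 2, nat_lit 2, nat_lit 3, nat_lit 1], [nat_lit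 0, nat_lit 4, nat_lit 0, nat_lit 1, nat_lit 4, nat_lit 0, nat_lit 3, nat_lit 2, nat_lit 2, nat_lit 3], [nat_lit 4, nat_lit 99, nat_lit 3, nat_lit 0, nat_lit 99, nat_lit 4, nat_lit 0, nat_lit 2, nat_lit 0, nat_lit 4, nat_lit 0, nat_lit 3, nat_lit 2, nat_lit 0, nat_lit 2]])) (.node (nat_lit 62) (.leaf ((nat_lit 1), [], [[nat_lit 1, nat_lit 0, nat_lit 1, nat_lit 4, nat_lit 2, nat_lit 2, nat_lit 3, nat_lit 1], [nat_lit 0, nat_lit 4, nat_lit 0, nat_lit 1, nat_lit 4, nat_lit 0, nat_lit 3, nat_lit 2, nat_lit 2, nat_lit 3], [nat_lit 2, nat_lit 99, nat_lit 99, nat_lit 4, nat_lit 2, nat_lit 2, nat_lit 0, nat_lit 4, nat_lit 0, nat_lit 1, nat_lit 3, nat_lit 0, nat_lit 2]])) (.leaf ((nat_lit 1), [], [[nat_lit 1, nat_lit 0, nat_lit 1, nat_lit 4, nat_lit 2, nat_lit 2, nat_lit 3, nat_lit 1], [nat_lit 0, nat_lit 4, nat_lit 0, nat_lit 1, nat_lit 4, nat_lit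 0, nat_lit 3, nat_lit 2, nat_lit 2, nat_lit 3], [nat_lit 1, nat_lit 0, nat_lit 2, nat_lit 99, nat_lit 2, nat_lit 0, nat_lit 99, nat_lit 0, nat_lit 3, nat_lit 4, nat_lit 0, nat_lit 3, nat_lit 2, nat_lit 2]])))))))
 (.node (nat_lit 73) (.node (nat_lit 68) (.node (nat_lit 65) (.node (nat_lit 64) (.leaf ((nat_lit 1), [], [[nat_lit 1, nat_lit 0, nat_lit 1, nat_lit 4, nat_lit 2, nat_lit 2, nat_lit 3, nat_lit 1], [nat_lit 0, nat_lit 4, nat_lit 0, nat_lit 1, nat_lit 4, nat_lit 0, nat_lit 3, nat_lit 2, nat_lit 2, nat_lit 3], [nat_lit 2, nat_lit 4, nat_lit 99, nat_lit 4, nat_lit 99, nat_lit 4, nat_lit 1, nat_lit 3, nat_lit 0, nat_lit 4, nat_lit 2, nat_lit 2, nat_lit 0, nat_lit 1]])) (.leaf ((nat_lit 1), [], [[nat_lit 1, nat_lit 0, nat_lit 1, nat_lit 4, nat_lit 2, nat_lit 2, nat_lit 3, nat_lit 1], [nat_lit 0, nat_lit 4, nat_lit 0, nat_lit 1, nat_lit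 4, nat_lit 0, nat_lit 3, nat_lit 2, nat_lit 2, nat_lit 3], [nat_lit 1, nat_lit 3, nat_lit 0, nat_lit 99, nat_lit 0, nat_lit 1, nat_lit 99, nat_lit 1, nat_lit 0, nat_lit 1, nat_lit 4, nat_lit 0, nat_lit 1, nat_lit 1, nat_lit 3, nat_lit 2, nat_lit 0]]))) (.node (nat_lit 66) (.leaf ((nat_lit 1), [], [[nat_lit 1, nat_lit 0, nat_lit 1, nat_lit 4, nat_lit 2, nat_lit 2, nat_lit 3, nat_lit 1], [nat_lit 0, nat_lit 4, nat_lit 0, nat_lit 1, nat_lit 4, nat_lit 0, nat_lit 3, nat_lit 2, nat_lit 2, nat_lit 3], [nat_lit 1, nat_lit 99, nat_lit 1, nat_lit 99, nat_lit 3, nat_lit 4, nat_lit 0, nat_lit 2, nat_lit 0, nat_lit 3, nat_lit 0]])) (.node (nat_lit 67) (.leaf ((nat_lit 1), [], [[nat_lit 1, nat_lit 0, nat_lit 1, nat_lit 4, nat_lit 2, nat_lit 2, nat_lit 3, nat_lit 1], [nat_lit 0, nat_lit 4, nat_lit 0, nat_lit 1, nat_lit 4, nat_lit 0, nat_lit 3, nat_lit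 2, nat_lit 2, nat_lit 3], [nat_lit 2, nat_lit 4, nat_lit 2, nat_lit 99, nat_lit 2, nat_lit 4, nat_lit 2, nat_lit 0, nat_lit 4, nat_lit 1, nat_lit 0, nat_lit 2, nat_lit 2]])) (.leaf ((nat_lit 1), [], [[nat_lit 1, nat_lit 0, nat_lit 1, nat_lit 4, nat_lit 2, nat_lit 2, nat_lit 3, nat_lit 1], [nat_lit 0, nat_lit 4, nat_lit 0, nat_lit 1, nat_lit 4, nat_lit 0, nat_lit 3, nat_lit 2, nat_lit 2, nat_lit 3], [nat_lit 0, nat_lit 99, nat_lit 1, nat_lit 99, nat_lit 0, nat_lit 2, nat_lit 4, nat_lit 2, nat_lit 0, nat_lit 1, nat_lit 0, nat_lit 1, nat_lit 0]])))))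
 (.node (nat_lit 70) (.node (nat_lit 69) (.leaf ((nat_lit 1), [], [[nat_lit 1, nat_lit 0, nat_lit 1, nat_lit 4, nat_lit 2, nat_lit 2, nat_lit 3, nat_lit 1], [nat_lit 0, nat_lit 4, nat_lit 0, nat_lit 1, nat_lit 4, nat_lit 0, nat_lit 3, nat_lit 2, nat_lit 2, nat_lit 3], [nat_lit 4, nat_lit 0, nat_lit 99, nat_lit 2, nat_lit 0, nat_lit 99, nat_lit 0, nat_lit 4, nat_lit 0, nat_lit 4, nat_lit 0, nat_lit 2, nat_lit 2, nat_lit 0, nat_lit 2]])) (.leaf ((nat_lit 1), [], [[nat_lit 1, nat_lit 0, nat_lit 1, nat_lit 4, nat_lit 2, nat_lit 2, nat_lit 3, nat_lit 1], [nat_lit 0, nat_lit 4, nat_lit 0, nat_lit 1, nat_lit 4, nat_lit 0, nat_lit 3, nat_lit 2, nat_lit 2, nat_lit 3], [nat_lit 4, nat_lit 1, nat_lit 99, nat_lit 1, nat_lit 99, nat_lit 1, nat_lit 3, nat_lit 4, nat_lit 0, nat_lit 2, nat_lit 0, nat_lit 3, nat_lit 1, nat_lit 0]]))) (.node (nat_lit 71)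 (.leaf ((nat_lit 1), [], [[nat_lit 1, nat_lit 0, nat_lit 1, nat_lit 4, nat_lit 2, nat_lit 2, nat_lit 3, nat_lit 1], [nat_lit 0, nat_lit 4, nat_lit 0, nat_lit 1, nat_lit 4, nat_lit 0, nat_lit 3, nat_lit 2, nat_lit 2, nat_lit 3], [nat_lit 1, nat_lit 3, nat_lit 99, nat_lit 4, nat_lit 99, nat_lit 99, nat_lit 0, nat_lit 1, nat_lit 4, nat_lit 0, nat_lit 2, nat_lit 2, nat_lit 3, nat_lit 2, nat_lit 2, nat_lit 0]])) (.node (nat_lit 72) (.leaf ((nat_lit 1), [], [[nat_lit 1, nat_lit 0, nat_lit 1, nat_lit 4, nat_lit 2, nat_lit 2, nat_lit 3, nat_lit 1], [nat_lit 0, nat_lit 4, nat_lit 0, nat_lit 1, nat_lit 4, nat_lit 0, nat_lit 3, nat_lit 2, nat_lit 2, nat_lit 3], [nat_lit 2, nat_lit 4, nat_lit 99, nat_lit 1, nat_lit 99, nat_lit 0, nat_lit 4, nat_lit 2, nat_lit 0, nat_lit 4, nat_lit 3, nat_lit 0, nat_lit 2, nat_lit 0]])) (.leaf ((nat_lit 1), [], [[nat_lit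 1, nat_lit 0, nat_lit 1, nat_lit 4, nat_lit 2, nat_lit 2, nat_lit 3, nat_lit 1], [nat_lit 0, nat_lit 4, nat_lit 0, nat_lit 1, nat_lit 4, nat_lit 0, nat_lit 3, nat_lit 2, nat_lit 2, nat_lit 3], [nat_lit 4, nat_lit 0, nat_lit 99, nat_lit 2, nat_lit 2, nat_lit 0, nat_lit 99, nat_lit 4, nat_lit 1, nat_lit 3, nat_lit 0, nat_lit 4, nat_lit 1, nat_lit 0, nat_lit 1, nat_lit 1, nat_lit 3, nat_lit 0]]))))))
 (.node (nat_lit 78) (.node (nat_lit 75) (.node (nat_lit 74) (.leaf ((nat_lit 1), [], [[nat_lit 1, nat_lit 0, nat_lit 1, nat_lit 4, nat_lit 2, nat_lit 2, nat_lit 3, nat_lit 1], [nat_lit 0, nat_lit 4, nat_lit 0, nat_lit 1, nat_lit 4, nat_lit 0, nat_lit 3, nat_lit 2, nat_lit 2, nat_lit 3], [nat_lit 2, nat_lit 2, nat_lit 99, nat_lit 4, nat_lit 1, nat_lit 1, nat_lit 99, nat_lit 3, nat_lit 2, nat_lit 0, nat_lit 4, nat_lit 3, nat_lit 2, nat_lit 2, nat_lit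 3, nat_lit 0]])) (.leaf ((nat_lit 1), [], [[nat_lit 1, nat_lit 0, nat_lit 1, nat_lit 4, nat_lit 2, nat_lit 2, nat_lit 3, nat_lit 1], [nat_lit 0, nat_lit 4, nat_lit 0, nat_lit 1, nat_lit 4, nat_lit 0, nat_lit 3, nat_lit 2, nat_lit 2, nat_lit 3], [nat_lit 4, nat_lit 0, nat_lit 99, nat_lit 0, nat_lit 99, nat_lit 2, nat_lit 4, nat_lit 0, nat_lit 4, nat_lit 2, nat_lit 2, nat_lit 3, nat_lit 1, nat_lit 1]]))) (.node (nat_lit 76) (.leaf ((nat_lit 1), [], [[nat_lit 1, nat_lit 0, nat_lit 1, nat_lit 4, nat_lit 2, nat_lit 2, nat_lit 3, nat_lit 1], [nat_lit 0, nat_lit 4, nat_lit 0, nat_lit 1, nat_lit 4, nat_lit 0, nat_lit 3, nat_lit 2, nat_lit 2, nat_lit 3], [nat_lit 0, nat_lit 2, nat_lit 99, nat_lit 2, nat_lit 99, nat_lit 0, nat_lit 3, nat_lit 4, nat_lit 0, nat_lit 1, nat_lit 3, nat_lit 1, nat_lit 1]])) (.node (nat_lit 77) (.leaf ((nat_lit 1), [],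 [[nat_lit 1, nat_lit 0, nat_lit 1, nat_lit 4, nat_lit 2, nat_lit 2, nat_lit 3, nat_lit 1], [nat_lit 0, nat_lit 4, nat_lit 0, nat_lit 1, nat_lit 4, nat_lit 0, nat_lit 3, nat_lit 2, nat_lit 2, nat_lit 3], [nat_lit 2, nat_lit 2, nat_lit 99, nat_lit 2, nat_lit 99, nat_lit 4, nat_lit 1, nat_lit 3, nat_lit 4, nat_lit 2, nat_lit 3, nat_lit 1, nat_lit 0, nat_lit 2]])) (.leaf ((nat_lit 1), [], [[nat_lit 1, nat_lit 0, nat_lit 1, nat_lit 4, nat_lit 2, nat_lit 2, nat_lit 3, nat_lit 1], [nat_lit 0, nat_lit 4, nat_lit 0, nat_lit 1, nat_lit 4, nat_lit 0, nat_lit 3, nat_lit 2, nat_lit 2, nat_lit 3], [nat_lit 2, nat_lit 2, nat_lit 0, nat_lit 99, nat_lit 4, nat_lit 99, nat_lit 2, nat_lit 3, nat_lit 2, nat_lit 0, nat_lit 4, nat_lit 0, nat_lit 2, nat_lit 0, nat_lit 1, nat_lit 3, nat_lit 2]])))))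
 (.node (nat_lit 81) (.node (nat_lit 79) (.leaf ((nat_lit 1), [], [[nat_lit 1, nat_lit 0, nat_lit 1, nat_lit 4, nat_lit 2, nat_lit 2, nat_lit 3, nat_lit 1], [nat_lit 0, nat_lit 4, nat_lit 0, nat_lit 1, nat_lit 4, nat_lit 0, nat_lit 3, nat_lit 2, nat_lit 2, nat_lit 3], [nat_lit 2, nat_lit 2, nat_lit 0, nat_lit 99, nat_lit 1, nat_lit 0, nat_lit 99, nat_lit 3, nat_lit 2, nat_lit 4, nat_lit 3, nat_lit 0]])) (.node (nat_lit 80) (.leaf ((nat_lit 1), [], [[nat_lit 1, nat_lit 0, nat_lit 1, nat_lit 4, nat_lit 2, nat_lit 2, nat_lit 3, nat_lit 1], [nat_lit 0, nat_lit 4, nat_lit 0, nat_lit 1, nat_lit 4, nat_lit 0, nat_lit 3, nat_lit 2, nat_lit 2, nat_lit 3], [nat_lit 2, nat_lit 4, nat_lit 3, nat_lit 99, nat_lit 3, nat_lit 99, nat_lit 1, nat_lit 0, nat_lit 2, nat_lit 4, nat_lit 1, nat_lit 3, nat_lit 0, nat_lit 2, nat_lit 0]])) (.leaf ((nat_lit 1), [],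 [[nat_lit 1, nat_lit 0, nat_lit 1, nat_lit 4, nat_lit 2, nat_lit 2, nat_lit 3, nat_lit 1], [nat_lit 0, nat_lit 4, nat_lit 0, nat_lit 1, nat_lit 4, nat_lit 0, nat_lit 3, nat_lit 2, nat_lit 2, nat_lit 3], [nat_lit 2, nat_lit 4, nat_lit 1, nat_lit 99, nat_lit 1, nat_lit 0, nat_lit 2, nat_lit 4, nat_lit 3, nat_lit 2, nat_lit 2, nat_lit 0, nat_lit 1]])))) (.node (nat_lit 82) (.leaf ((nat_lit 1), [], [[nat_lit 1, nat_lit 0, nat_lit 1, nat_lit 4, nat_lit 2, nat_lit 2, nat_lit 3, nat_lit 1], [nat_lit 0, nat_lit 4, nat_lit 0, nat_lit 1, nat_lit 4, nat_lit 0, nat_lit 3, nat_lit 2, nat_lit 2, nat_lit 3], [nat_lit 1, nat_lit 3, nat_lit 99, nat_lit 1, nat_lit 99, nat_lit 2, nat_lit 3, nat_lit 2, nat_lit 0, nat_lit 4, nat_lit 0, nat_lit 3, nat_lit 2, nat_lit 0, nat_lit 2]])) (.node (nat_lit 83) (.leaf ((nat_lit 1), [], [[nat_lit 1, nat_lit 0, nat_lit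 1, nat_lit 4, nat_lit 2, nat_lit 2, nat_lit 3, nat_lit 1], [nat_lit 0, nat_lit 4, nat_lit 0, nat_lit 1, nat_lit 4, nat_lit 0, nat_lit 3, nat_lit 2, nat_lit 2, nat_lit 3], [nat_lit 1, nat_lit 4, nat_lit 1, nat_lit 1, nat_lit 99, nat_lit 0, nat_lit 99, nat_lit 3, nat_lit 4, nat_lit 2, nat_lit 3, nat_lit 0, nat_lit 4, nat_lit 1]])) (.leaf ((nat_lit 1), [], [[nat_lit 1, nat_lit 0, nat_lit 1, nat_lit 4, nat_lit 2, nat_lit 2, nat_lit 3, nat_lit 1], [nat_lit 0, nat_lit 4, nat_lit 0, nat_lit 1, nat_lit 4, nat_lit 0, nat_lit 3, nat_lit 2, nat_lit 2, nat_lit 3], [nat_lit 1, nat_lit 1, nat_lit 0, nat_lit 99, nat_lit 1, nat_lit 1, nat_lit 3, nat_lit 4, nat_lit 3, nat_lit 0]])))))))))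
 (.node (nat_lit 126) (.node (nat_lit 105) (.node (nat_lit 94) (.node (nat_lit 89) (.node (nat_lit 86) (.node (nat_lit 85) (.leaf ((nat_lit 1), [], [[nat_lit 1, nat_lit 0, nat_lit 1, nat_lit 4, nat_lit 2, nat_lit 2, nat_lit 3, nat_lit 1], [nat_lit 0, nat_lit 4, nat_lit 0, nat_lit 1, nat_lit 4, nat_lit 0, nat_lit 3, nat_lit 2, nat_lit 2, nat_lit 3], [nat_lit 4, nat_lit 1, nat_lit 99, nat_lit 99, nat_lit 1, nat_lit 4, nat_lit 1, nat_lit 3, nat_lit 4, nat_lit 3, nat_lit 0, nat_lit 1, nat_lit 0, nat_lit 1, nat_lit 1, nat_lit 0]])) (.leaf ((nat_lit 1), [], [[nat_lit 1, nat_lit 0, nat_lit 1, nat_lit 4, nat_lit 2, nat_lit 2, nat_lit 3, nat_lit 1], [nat_lit 0, nat_lit 4, nat_lit 0, nat_lit 1, nat_lit 4, nat_lit 0, nat_lit 3, nat_lit 2, nat_lit 2, nat_lit 3], [nat_lit 4, nat_lit 99, nat_lit 2, nat_lit 2, nat_lit 99, nat_lit 2, nat_lit 0, nat_lit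 4, nat_lit 0, nat_lit 4, nat_lit 1, nat_lit 0, nat_lit 3, nat_lit 2, nat_lit 2, nat_lit 0]]))) (.node (nat_lit 87) (.leaf ((nat_lit 1), [], [[nat_lit 1, nat_lit 0, nat_lit 1, nat_lit 4, nat_lit 2, nat_lit 2, nat_lit 3, nat_lit 1], [nat_lit 0, nat_lit 4, nat_lit 0, nat_lit 1, nat_lit 4, nat_lit 0, nat_lit 3, nat_lit 2, nat_lit 2, nat_lit 3], [nat_lit 4, nat_lit 1, nat_lit 4, nat_lit 99, nat_lit 0, nat_lit 4, nat_lit 0, nat_lit 1, nat_lit 4, nat_lit 0, nat_lit 2, nat_lit 2, nat_lit 3, nat_lit 2, nat_lit 2]])) (.node (nat_lit 88) (.leaf ((nat_lit 1), [], [[nat_lit 1, nat_lit 0, nat_lit 1, nat_lit 4, nat_lit 2, nat_lit 2, nat_lit 3, nat_lit 1], [nat_lit 0, nat_lit 4, nat_lit 0, nat_lit 1, nat_lit 4, nat_lit 0, nat_lit 3, nat_lit 2, nat_lit 2, nat_lit 3], [nat_lit 1, nat_lit 3, nat_lit 0, nat_lit 99, nat_lit 2, nat_lit 99, nat_lit 1, nat_lit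 1, nat_lit 3, nat_lit 4, nat_lit 3, nat_lit 0, nat_lit 1, nat_lit 0, nat_lit 2]])) (.leaf ((nat_lit 1), [], [[nat_lit 1, nat_lit 0, nat_lit 1, nat_lit 4, nat_lit 2, nat_lit 2, nat_lit 3, nat_lit 1], [nat_lit 0, nat_lit 4, nat_lit 0, nat_lit 1, nat_lit 4, nat_lit 0, nat_lit 3, nat_lit 2, nat_lit 2, nat_lit 3], [nat_lit 1, nat_lit 1, nat_lit 0, nat_lit 99, nat_lit 1, nat_lit 99, nat_lit 1, nat_lit 4, nat_lit 0, nat_lit 1, nat_lit 1, nat_lit 3, nat_lit 2, nat_lit 0]])))))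
 (.node (nat_lit 91) (.node (nat_lit 90) (.leaf ((nat_lit 1), [], [[nat_lit 1, nat_lit 0, nat_lit 1, nat_lit 4, nat_lit 2, nat_lit 2, nat_lit 3, nat_lit 1], [nat_lit 0, nat_lit 4, nat_lit 0, nat_lit 1, nat_lit 4, nat_lit 0, nat_lit 3, nat_lit 2, nat_lit 2, nat_lit 3], [nat_lit 1, nat_lit 1, nat_lit 0, nat_lit 99, nat_lit 1, nat_lit 3, nat_lit 99, nat_lit 4, nat_lit 2, nat_lit 2, nat_lit 0, nat_lit 4, nat_lit 3, nat_lit 0, nat_lit 2, nat_lit 2, nat_lit 3, nat_lit 0]])) (.leaf ((nat_lit 1), [], [[nat_lit 1, nat_lit 0, nat_lit 1, nat_lit 4, nat_lit 2, nat_lit 2, nat_lit 3, nat_lit 1], [nat_lit 0, nat_lit 4, nat_lit 0, nat_lit 1, nat_lit 4, nat_lit 0, nat_lit 3, nat_lit 2, nat_lit 2, nat_lit 3], [nat_lit 2, nat_lit 4, nat_lit 2, nat_lit 0, nat_lit 99, nat_lit 4, nat_lit 0, nat_lit 99, nat_lit 3, nat_lit 4, nat_lit 2, nat_lit 3, nat_lit 4, nat_lit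 0, nat_lit 2, nat_lit 0, nat_lit 1, nat_lit 3, nat_lit 2]]))) (.node (nat_lit 92) (.leaf ((nat_lit 1), [], [[nat_lit 1, nat_lit 0, nat_lit 1, nat_lit 4, nat_lit 2, nat_lit 2, nat_lit 3, nat_lit 1], [nat_lit 0, nat_lit 4, nat_lit 0, nat_lit 1, nat_lit 4, nat_lit 0, nat_lit 3, nat_lit 2, nat_lit 2, nat_lit 3], [nat_lit 3, nat_lit 1, nat_lit 99, nat_lit 2, nat_lit 99, nat_lit 3, nat_lit 2, nat_lit 0, nat_lit 4, nat_lit 0, nat_lit 2, nat_lit 3, nat_lit 1]])) (.node (nat_lit 93) (.leaf ((nat_lit 1), [], [[nat_lit 1, nat_lit 0, nat_lit 1, nat_lit 4, nat_lit 2, nat_lit 2, nat_lit 3, nat_lit 1], [nat_lit 0, nat_lit 4, nat_lit 0, nat_lit 1, nat_lit 4, nat_lit 0, nat_lit 3, nat_lit 2, nat_lit 2, nat_lit 3], [nat_lit 1, nat_lit 4, nat_lit 1, nat_lit 99, nat_lit 4, nat_lit 99, nat_lit 2, nat_lit 3, nat_lit 0, nat_lit 4, nat_lit 3, nat_lit 0, nat_lit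 1]])) (.leaf ((nat_lit 1), [], [[nat_lit 1, nat_lit 0, nat_lit 1, nat_lit 4, nat_lit 2, nat_lit 2, nat_lit 3, nat_lit 1], [nat_lit 0, nat_lit 4, nat_lit 0, nat_lit 1, nat_lit 4, nat_lit 0, nat_lit 3, nat_lit 2, nat_lit 2, nat_lit 3], [nat_lit 2, nat_lit 4, nat_lit 99, nat_lit 3, nat_lit 0, nat_lit 2, nat_lit 3, nat_lit 0, nat_lit 1]]))))))
 (.node (nat_lit 99) (.node (nat_lit 96) (.node (nat_lit 95) (.leaf ((nat_lit 1), [], [[nat_lit 1, nat_lit 0, nat_lit 1, nat_lit 4, nat_lit 2, nat_lit 2, nat_lit 3, nat_lit 1], [nat_lit 0, nat_lit 4, nat_lit 0, nat_lit 1, nat_lit 4, nat_lit 0, nat_lit 3, nat_lit 2, nat_lit 2, nat_lit 3], [nat_lit 1, nat_lit 4, nat_lit 2, nat_lit 99, nat_lit 4, nat_lit 1, nat_lit 0, nat_lit 1, nat_lit 4, nat_lit 2, nat_lit 0, nat_lit 2, nat_lit 0, nat_lit 1, nat_lit 0]])) (.leaf ((nat_lit 1), [], [[nat_lit 1, nat_lit 0,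 nat_lit 1, nat_lit 4, nat_lit 2, nat_lit 2, nat_lit 3, nat_lit 1], [nat_lit 0, nat_lit 4, nat_lit 0, nat_lit 1, nat_lit 4, nat_lit 0, nat_lit 3, nat_lit 2, nat_lit 2, nat_lit 3], [nat_lit 99, nat_lit 99, nat_lit 4, nat_lit 2, nat_lit 4, nat_lit 0, nat_lit 4, nat_lit 1, nat_lit 0, nat_lit 2, nat_lit 2, nat_lit 0]]))) (.node (nat_lit 97) (.leaf ((nat_lit 1), [], [[nat_lit 1, nat_lit 0, nat_lit 1, nat_lit 4, nat_lit 2, nat_lit 2, nat_lit 3, nat_lit 1], [nat_lit 0, nat_lit 4, nat_lit 0, nat_lit 1, nat_lit 4, nat_lit 0, nat_lit 3, nat_lit 2, nat_lit 2, nat_lit 3], [nat_lit 2, nat_lit 4, nat_lit 2, nat_lit 99, nat_lit 99, nat_lit 1, nat_lit 3, nat_lit 0, nat_lit 4, nat_lit 1, nat_lit 0, nat_lit 1, nat_lit 0, nat_lit 2, nat_lit 0]])) (.node (nat_lit 98) (.leaf ((nat_lit 1), [], [[nat_lit 1, nat_lit 0, nat_lit 1, nat_lit 4, nat_lit 2, nat_lit 2,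 nat_lit 3, nat_lit 1], [nat_lit 0, nat_lit 4, nat_lit 0, nat_lit 1, nat_lit 4, nat_lit 0, nat_lit 3, nat_lit 2, nat_lit 2, nat_lit 3], [nat_lit 1, nat_lit 4, nat_lit 2, nat_lit 99, nat_lit 99, nat_lit 2, nat_lit 0, nat_lit 2, nat_lit 4, nat_lit 3, nat_lit 0, nat_lit 1, nat_lit 0, nat_lit 2, nat_lit 2, nat_lit 0]])) (.leaf ((nat_lit 1), [], [[nat_lit 1, nat_lit 0, nat_lit 1, nat_lit 4, nat_lit 2, nat_lit 2, nat_lit 3, nat_lit 1], [nat_lit 0, nat_lit 4, nat_lit 0, nat_lit 1, nat_lit 4, nat_lit 0, nat_lit 3, nat_lit 2, nat_lit 2, nat_lit 3], [nat_lit 4, nat_lit 99, nat_lit 99, nat_lit 1, nat_lit 99, nat_lit 0, nat_lit 4, nat_lit 0, nat_lit 1, nat_lit 4, nat_lit 3, nat_lit 0, nat_lit 2, nat_lit 3]])))))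
 (.node (nat_lit 102) (.node (nat_lit 100) (.leaf ((nat_lit 1), [], [[nat_lit 1, nat_lit 0, nat_lit 1, nat_lit 4, nat_lit 2, nat_lit 2, nat_lit 3, nat_lit 1], [nat_lit 0, nat_lit 4, nat_lit 0, nat_lit 1, nat_lit 4, nat_lit 0, nat_lit 3, nat_lit 2, nat_lit 2, nat_lit 3], [nat_lit 99, nat_lit 2, nat_lit 99, nat_lit 3, nat_lit 0, nat_lit 4, nat_lit 1, nat_lit 0, nat_lit 1, nat_lit 3, nat_lit 0]])) (.node (nat_lit 101) (.leaf ((nat_lit 1), [], [[nat_lit 1, nat_lit 0, nat_lit 1, nat_lit 4, nat_lit 2, nat_lit 2, nat_lit 3, nat_lit 1], [nat_lit 0, nat_lit 4, nat_lit 0, nat_lit 1, nat_lit 4, nat_lit 0, nat_lit 3, nat_lit 2, nat_lit 2, nat_lit 3], [nat_lit 2, nat_lit 2, nat_lit 0, nat_lit 99, nat_lit 99, nat_lit 99, nat_lit 2, nat_lit 4, nat_lit 3, nat_lit 1, nat_lit 1, nat_lit 3, nat_lit 1, nat_lit 0]])) (.leaf ((nat_lit 1), [], [[nat_lit 1, nat_lit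 0, nat_lit 1, nat_lit 4, nat_lit 2, nat_lit 2, nat_lit 3, nat_lit 1], [nat_lit 0, nat_lit 4, nat_lit 0, nat_lit 1, nat_lit 4, nat_lit 0, nat_lit 3, nat_lit 2, nat_lit 2, nat_lit 3], [nat_lit 0, nat_lit 1, nat_lit 1, nat_lit 99, nat_lit 0, nat_lit 1, nat_lit 99, nat_lit 1, nat_lit 1, nat_lit 3, nat_lit 4, nat_lit 2, nat_lit 2, nat_lit 3]])))) (.node (nat_lit 103) (.leaf ((nat_lit 1), [], [[nat_lit 1, nat_lit 0, nat_lit 1, nat_lit 4, nat_lit 2, nat_lit 2, nat_lit 3, nat_lit 1], [nat_lit 0, nat_lit 4, nat_lit 0, nat_lit 1, nat_lit 4, nat_lit 0, nat_lit 3, nat_lit 2, nat_lit 2, nat_lit 3], [nat_lit 4, nat_lit 0, nat_lit 99, nat_lit 1, nat_lit 99, nat_lit 4, nat_lit 3, nat_lit 0, nat_lit 4, nat_lit 3, nat_lit 0, nat_lit 1, nat_lit 1]])) (.node (nat_lit 104) (.leaf ((nat_lit 1), [], [[nat_lit 1, nat_lit 0, nat_lit 1, nat_lit 4, nat_lit 2, nat_lit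 2, nat_lit 3, nat_lit 1], [nat_lit 0, nat_lit 4, nat_lit 0, nat_lit 1, nat_lit 4, nat_lit 0, nat_lit 3, nat_lit 2, nat_lit 2, nat_lit 3], [nat_lit 1, nat_lit 4, nat_lit 1, nat_lit 1, nat_lit 99, nat_lit 4, nat_lit 0, nat_lit 2, nat_lit 4, nat_lit 0, nat_lit 4, nat_lit 0, nat_lit 1, nat_lit 1, nat_lit 3, nat_lit 2]])) (.leaf ((nat_lit 1), [], [[nat_lit 1, nat_lit 0, nat_lit 1, nat_lit 4, nat_lit 2, nat_lit 2, nat_lit 3, nat_lit 1], [nat_lit 0, nat_lit 4, nat_lit 0, nat_lit 1, nat_lit 4, nat_lit 0, nat_lit 3, nat_lit 2, nat_lit 2, nat_lit 3], [nat_lit 99, nat_lit 1, nat_lit 99, nat_lit 4, nat_lit 0, nat_lit 3, nat_lit 4, nat_lit 2, nat_lit 0, nat_lit 3, nat_lit 1, nat_lit 0]])))))))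
 (.node (nat_lit 115) (.node (nat_lit 110) (.node (nat_lit 107) (.node (nat_lit 106) (.leaf ((nat_lit 1), [], [[nat_lit 1, nat_lit 0, nat_lit 1, nat_lit 4, nat_lit 2, nat_lit 2, nat_lit 3, nat_lit 1], [nat_lit 0, nat_lit 4, nat_lit 0, nat_lit 1, nat_lit 4, nat_lit 0, nat_lit 3, nat_lit 2, nat_lit 2, nat_lit 3], [nat_lit 1, nat_lit 0, nat_lit 2, nat_lit 99, nat_lit 2, nat_lit 99, nat_lit 2, nat_lit 3, nat_lit 2, nat_lit 0]])) (.leaf ((nat_lit 1), [], [[nat_lit 1, nat_lit 0, nat_lit 1, nat_lit 4, nat_lit 2, nat_lit 2, nat_lit 3, nat_lit 1], [nat_lit 0, nat_lit 4, nat_lit 0, nat_lit 1, nat_lit 4, nat_lit 0, nat_lit 3, nat_lit 2, nat_lit 2, nat_lit 3], [nat_lit 2, nat_lit 4, nat_lit 3, nat_lit 99, nat_lit 0, nat_lit 99, nat_lit 0, nat_lit 4, nat_lit 0, nat_lit 1, nat_lit 4, nat_lit 1, nat_lit 0, nat_lit 3, nat_lit 0, nat_lit 2]]))) (.node (nat_lit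 108) (.leaf ((nat_lit 1), [], [[nat_lit 1, nat_lit 0, nat_lit 1, nat_lit 4, nat_lit 2, nat_lit 2, nat_lit 3, nat_lit 1], [nat_lit 0, nat_lit 4, nat_lit 0, nat_lit 1, nat_lit 4, nat_lit 0, nat_lit 3, nat_lit 2, nat_lit 2, nat_lit 3], [nat_lit 1, nat_lit 0, nat_lit 99, nat_lit 2, nat_lit 0, nat_lit 99, nat_lit 1, nat_lit 0, nat_lit 4, nat_lit 2, nat_lit 0, nat_lit 4, nat_lit 2, nat_lit 0, nat_lit 1, nat_lit 3, nat_lit 2]])) (.node (nat_lit 109) (.leaf ((nat_lit 1), [], [[nat_lit 1, nat_lit 0, nat_lit 1, nat_lit 4, nat_lit 2, nat_lit 2, nat_lit 3, nat_lit 1], [nat_lit 0, nat_lit 4, nat_lit 0, nat_lit 1, nat_lit 4, nat_lit 0, nat_lit 3, nat_lit 2, nat_lit 2, nat_lit 3], [nat_lit 2, nat_lit 4, nat_lit 99, nat_lit 0, nat_lit 1, nat_lit 99, nat_lit 0, nat_lit 2, nat_lit 4, nat_lit 1]])) (.leaf ((nat_lit 1), [], [[nat_lit 1, nat_lit 0, nat_lit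 1, nat_lit 4, nat_lit 2, nat_lit 2, nat_lit 3, nat_lit 1], [nat_lit 0, nat_lit 4, nat_lit 0, nat_lit 1, nat_lit 4, nat_lit 0, nat_lit 3, nat_lit 2, nat_lit 2, nat_lit 3], [nat_lit 1, nat_lit 3, nat_lit 99, nat_lit 2, nat_lit 0, nat_lit 99, nat_lit 0, nat_lit 2, nat_lit 2, nat_lit 4, nat_lit 0, nat_lit 2, nat_lit 3]])))))
 (.node (nat_lit 112) (.node (nat_lit 111) (.leaf ((nat_lit 1), [], [[nat_lit 1, nat_lit 0, nat_lit 1, nat_lit 4, nat_lit 2, nat_lit 2, nat_lit 3, nat_lit 1], [nat_lit 0, nat_lit 4, nat_lit 0, nat_lit 1, nat_lit 4, nat_lit 0, nat_lit 3, nat_lit 2, nat_lit 2, nat_lit 3], [nat_lit 4, nat_lit 99, nat_lit 1, nat_lit 99, nat_lit 1, nat_lit 4, nat_lit 0, nat_lit 4, nat_lit 2, nat_lit 0, nat_lit 1, nat_lit 1, nat_lit 3, nat_lit 2, nat_lit 0]])) (.leaf ((nat_lit 1), [], [[nat_lit 1, nat_lit 0, nat_lit 1, nat_lit 4, nat_lit 2, nat_lit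 2, nat_lit 3, nat_lit 1], [nat_lit 0, nat_lit 4, nat_lit 0, nat_lit 1, nat_lit 4, nat_lit 0, nat_lit 3, nat_lit 2, nat_lit 2, nat_lit 3], [nat_lit 2, nat_lit 4, nat_lit 1, nat_lit 99, nat_lit 3, nat_lit 99, nat_lit 4, nat_lit 1, nat_lit 0, nat_lit 1, nat_lit 4, nat_lit 3, nat_lit 1, nat_lit 1, nat_lit 3, nat_lit 0, nat_lit 2]]))) (.node (nat_lit 113) (.leaf ((nat_lit 0), [nat_lit 1, nat_lit 5, nat_lit 3, nat_lit 5, nat_lit 2, nat_lit 0, nat_lit 4, nat_lit 1, nat_lit 3, nat_lit 0], [])) (.node (nat_lit 114) (.leaf ((nat_lit 1), [], [[nat_lit 1, nat_lit 0, nat_lit 1, nat_lit 4, nat_lit 2, nat_lit 2, nat_lit 3, nat_lit 1], [nat_lit 0, nat_lit 4, nat_lit 0, nat_lit 1, nat_lit 4, nat_lit 0, nat_lit 3, nat_lit 2, nat_lit 2, nat_lit 3], [nat_lit 0, nat_lit 99, nat_lit 2, nat_lit 99, nat_lit 4, nat_lit 2, nat_lit 0, nat_lit 2, nat_lit 4, nat_lit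 3]])) (.leaf ((nat_lit 1), [], [[nat_lit 1, nat_lit 0, nat_lit 1, nat_lit 4, nat_lit 2, nat_lit 2, nat_lit 3, nat_lit 1], [nat_lit 0, nat_lit 4, nat_lit 0, nat_lit 1, nat_lit 4, nat_lit 0, nat_lit 3, nat_lit 2, nat_lit 2, nat_lit 3], [nat_lit 4, nat_lit 1, nat_lit 99, nat_lit 4, nat_lit 1, nat_lit 0, nat_lit 1, nat_lit 4, nat_lit 0, nat_lit 2, nat_lit 2, nat_lit 0, nat_lit 2, nat_lit 0]]))))))
 (.node (nat_lit 120) (.node (nat_lit 117) (.node (nat_lit 116) (.leaf ((nat_lit 1), [], [[nat_lit 1, nat_lit 0, nat_lit 1, nat_lit 4, nat_lit 2, nat_lit 2, nat_lit 3, nat_lit 1], [nat_lit 0, nat_lit 4, nat_lit 0, nat_lit 1, nat_lit 4, nat_lit 0, nat_lit 3, nat_lit 2, nat_lit 2, nat_lit 3], [nat_lit 0, nat_lit 99, nat_lit 4, nat_lit 0, nat_lit 1, nat_lit 4, nat_lit 2, nat_lit 3, nat_lit 1, nat_lit 1, nat_lit 0]])) (.leaf ((nat_lit 1), [], [[nat_lit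 1, nat_lit 0, nat_lit 1, nat_lit 4, nat_lit 2, nat_lit 2, nat_lit 3, nat_lit 1], [nat_lit 0, nat_lit 4, nat_lit 0, nat_lit 1, nat_lit 4, nat_lit 0, nat_lit 3, nat_lit 2, nat_lit 2, nat_lit 3], [nat_lit 1, nat_lit 3, nat_lit 0, nat_lit 99, nat_lit 0, nat_lit 99, nat_lit 1, nat_lit 0, nat_lit 4, nat_lit 2, nat_lit 0, nat_lit 4, nat_lit 0, nat_lit 1, nat_lit 3, nat_lit 2, nat_lit 0]]))) (.node (nat_lit 118) (.leaf ((nat_lit 1), [], [[nat_lit 1, nat_lit 0, nat_lit 1, nat_lit 4, nat_lit 2, nat_lit 2, nat_lit 3, nat_lit 1], [nat_lit 0, nat_lit 4, nat_lit 0, nat_lit 1, nat_lit 4, nat_lit 0, nat_lit 3, nat_lit 2, nat_lit 2, nat_lit 3], [nat_lit 2, nat_lit 4, nat_lit 2, nat_lit 99, nat_lit 2, nat_lit 99, nat_lit 0, nat_lit 4, nat_lit 0, nat_lit 2, nat_lit 0, nat_lit 4, nat_lit 2, nat_lit 0, nat_lit 2, nat_lit 3, nat_lit 0, nat_lit 2]])) (.node (nat_lit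 119) (.leaf ((nat_lit 1), [], [[nat_lit 1, nat_lit 0, nat_lit 1, nat_lit 4, nat_lit 2, nat_lit 2, nat_lit 3, nat_lit 1], [nat_lit 0, nat_lit 4, nat_lit 0, nat_lit 1, nat_lit 4, nat_lit 0, nat_lit 3, nat_lit 2, nat_lit 2, nat_lit 3], [nat_lit 4, nat_lit 99, nat_lit 4, nat_lit 2, nat_lit 4, nat_lit 2, nat_lit 2, nat_lit 3, nat_lit 0, nat_lit 2]])) (.leaf ((nat_lit 1), [], [[nat_lit 1, nat_lit 0, nat_lit 1, nat_lit 4, nat_lit 2, nat_lit 2, nat_lit 3, nat_lit 1], [nat_lit 0, nat_lit 4, nat_lit 0, nat_lit 1, nat_lit 4, nat_lit 0, nat_lit 3, nat_lit 2, nat_lit 2, nat_lit 3], [nat_lit 1, nat_lit 99, nat_lit 3, nat_lit 99, nat_lit 4, nat_lit 0, nat_lit 3, nat_lit 4, nat_lit 1, nat_lit 1, nat_lit 0, nat_lit 2, nat_lit 0]])))))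
 (.node (nat_lit 123) (.node (nat_lit 121) (.leaf ((nat_lit 1), [], [[nat_lit 1, nat_lit 0, nat_lit 1, nat_lit 4, nat_lit 2, nat_lit 2, nat_lit 3, nat_lit 1], [nat_lit 0, nat_lit 4, nat_lit 0, nat_lit 1, nat_lit 4, nat_lit 0, nat_lit 3, nat_lit 2, nat_lit 2, nat_lit 3], [nat_lit 2, nat_lit 4, nat_lit 99, nat_lit 0, nat_lit 1, nat_lit 0, nat_lit 99, nat_lit 3, nat_lit 2, nat_lit 0, nat_lit 4, nat_lit 1, nat_lit 0, nat_lit 1, nat_lit 3, nat_lit 0]])) (.node (nat_lit 122) (.leaf ((nat_lit 1), [], [[nat_lit 1, nat_lit 0, nat_lit 1, nat_lit 4, nat_lit 2, nat_lit 2, nat_lit 3, nat_lit 1], [nat_lit 0, nat_lit 4, nat_lit 0, nat_lit 1, nat_lit 4, nat_lit 0, nat_lit 3, nat_lit 2, nat_lit 2, nat_lit 3], [nat_lit 2, nat_lit 2, nat_lit 0, nat_lit 99, nat_lit 4, nat_lit 2, nat_lit 4, nat_lit 3, nat_lit 0, nat_lit 4, nat_lit 0, nat_lit 3, nat_lit 2, nat_lit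 2, nat_lit 0]])) (.leaf ((nat_lit 1), [], [[nat_lit 1, nat_lit 0, nat_lit 1, nat_lit 4, nat_lit 2, nat_lit 2, nat_lit 3, nat_lit 1], [nat_lit 0, nat_lit 4, nat_lit 0, nat_lit 1, nat_lit 4, nat_lit 0, nat_lit 3, nat_lit 2, nat_lit 2, nat_lit 3], [nat_lit 2, nat_lit 4, nat_lit 2, nat_lit 0, nat_lit 99, nat_lit 1, nat_lit 99, nat_lit 1, nat_lit 0, nat_lit 4, nat_lit 2, nat_lit 0, nat_lit 4, nat_lit 1, nat_lit 0, nat_lit 2, nat_lit 0, nat_lit 2, nat_lit 0]])))) (.node (nat_lit 124) (.leaf ((nat_lit 1), [], [[nat_lit 1, nat_lit 0, nat_lit 1, nat_lit 4, nat_lit 2, nat_lit 2, nat_lit 3, nat_lit 1], [nat_lit 0, nat_lit 4, nat_lit 0, nat_lit 1, nat_lit 4, nat_lit 0, nat_lit 3, nat_lit 2, nat_lit 2, nat_lit 3], [nat_lit 1, nat_lit 99, nat_lit 0, nat_lit 99, nat_lit 1, nat_lit 0, nat_lit 1, nat_lit 4, nat_lit 0, nat_lit 2, nat_lit 2, nat_lit 3, nat_lit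 2, nat_lit 2, nat_lit 0]])) (.node (nat_lit 125) (.leaf ((nat_lit 1), [], [[nat_lit 1, nat_lit 0, nat_lit 1, nat_lit 4, nat_lit 2, nat_lit 2, nat_lit 3, nat_lit 1], [nat_lit 0, nat_lit 4, nat_lit 0, nat_lit 1, nat_lit 4, nat_lit 0, nat_lit 3, nat_lit 2, nat_lit 2, nat_lit 3], [nat_lit 0, nat_lit 1, nat_lit 99, nat_lit 99, nat_lit 0, nat_lit 1, nat_lit 1, nat_lit 3, nat_lit 1]])) (.leaf ((nat_lit 1), [], [[nat_lit 1, nat_lit 0, nat_lit 1, nat_lit 4, nat_lit 2, nat_lit 2, nat_lit 3, nat_lit 1], [nat_lit 0, nat_lit 4, nat_lit 0, nat_lit 1, nat_lit 4, nat_lit 0, nat_lit 3, nat_lit 2, nat_lit 2, nat_lit 3], [nat_lit 0, nat_lit 1, nat_lit 1, nat_lit 99, nat_lit 2, nat_lit 99, nat_lit 0, nat_lit 4, nat_lit 0, nat_lit 2, nat_lit 0, nat_lit 4, nat_lit 1, nat_lit 3, nat_lit 2]]))))))))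
 (.node (nat_lit 147) (.node (nat_lit 136) (.node (nat_lit 131) (.node (nat_lit 128) (.node (nat_lit 127) (.leaf ((nat_lit 1), [], [[nat_lit 1, nat_lit 0, nat_lit 1, nat_lit 4, nat_lit 2, nat_lit 2, nat_lit 3, nat_lit 1], [nat_lit 0, nat_lit 4, nat_lit 0, nat_lit 1, nat_lit 4, nat_lit 0, nat_lit 3, nat_lit 2, nat_lit 2, nat_lit 3], [nat_lit 2, nat_lit 4, nat_lit 2, nat_lit 99, nat_lit 1, nat_lit 0, nat_lit 99, nat_lit 0, nat_lit 2, nat_lit 4, nat_lit 0, nat_lit 4, nat_lit 3, nat_lit 1, nat_lit 1, nat_lit 3, nat_lit 0, nat_lit 2]])) (.leaf ((nat_lit 1), [], [[nat_lit 1, nat_lit 0, nat_lit 1, nat_lit 4, nat_lit 2, nat_lit 2, nat_lit 3, nat_lit 1], [nat_lit 0, nat_lit 4, nat_lit 0, nat_lit 1, nat_lit 4, nat_lit 0, nat_lit 3, nat_lit 2, nat_lit 2, nat_lit 3], [nat_lit 2, nat_lit 4, nat_lit 99, nat_lit 1, nat_lit 99, nat_lit 1, nat_lit 0, nat_lit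 2, nat_lit 0, nat_lit 2, nat_lit 0]]))) (.node (nat_lit 129) (.leaf ((nat_lit 1), [], [[nat_lit 1, nat_lit 0, nat_lit 1, nat_lit 4, nat_lit 2, nat_lit 2, nat_lit 3, nat_lit 1], [nat_lit 0, nat_lit 4, nat_lit 0, nat_lit 1, nat_lit 4, nat_lit 0, nat_lit 3, nat_lit 2, nat_lit 2, nat_lit 3], [nat_lit 3, nat_lit 1, nat_lit 99, nat_lit 3, nat_lit 4, nat_lit 3, nat_lit 0, nat_lit 4, nat_lit 2, nat_lit 2, nat_lit 3, nat_lit 0]])) (.node (nat_lit 130) (.leaf ((nat_lit 1), [], [[nat_lit 1, nat_lit 0, nat_lit 1, nat_lit 4, nat_lit 2, nat_lit 2, nat_lit 3, nat_lit 1], [nat_lit 0, nat_lit 4, nat_lit 0, nat_lit 1, nat_lit 4, nat_lit 0, nat_lit 3, nat_lit 2, nat_lit 2, nat_lit 3], [nat_lit 2, nat_lit 99, nat_lit 4, nat_lit 99, nat_lit 1, nat_lit 1, nat_lit 4, nat_lit 0, nat_lit 4, nat_lit 1, nat_lit 1, nat_lit 3, nat_lit 2, nat_lit 0]])) (.leaf ((nat_lit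 1), [], [[nat_lit 1, nat_lit 0, nat_lit 1, nat_lit 4, nat_lit 2, nat_lit 2, nat_lit 3, nat_lit 1], [nat_lit 0, nat_lit 4, nat_lit 0, nat_lit 1, nat_lit 4, nat_lit 0, nat_lit 3, nat_lit 2, nat_lit 2, nat_lit 3], [nat_lit 1, nat_lit 99, nat_lit 2, nat_lit 99, nat_lit 1, nat_lit 4, nat_lit 0, nat_lit 1, nat_lit 4, nat_lit 3, nat_lit 2]])))))
 (.node (nat_lit 133) (.node (nat_lit 132) (.leaf ((nat_lit 1), [], [[nat_lit 1, nat_lit 0, nat_lit 1, nat_lit 4, nat_lit 2, nat_lit 2, nat_lit 3, nat_lit 1], [nat_lit 0, nat_lit 4, nat_lit 0, nat_lit 1, nat_lit 4, nat_lit 0, nat_lit 3, nat_lit 2, nat_lit 2, nat_lit 3], [nat_lit 1, nat_lit 99, nat_lit 3, nat_lit 1, nat_lit 4, nat_lit 1, nat_lit 0, nat_lit 1, nat_lit 3, nat_lit 0]])) (.leaf ((nat_lit 1), [], [[nat_lit 1, nat_lit 0, nat_lit 1, nat_lit 4, nat_lit 2, nat_lit 2, nat_lit 3, nat_lit 1], [nat_lit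 0, nat_lit 4, nat_lit 0, nat_lit 1, nat_lit 4, nat_lit 0, nat_lit 3, nat_lit 2, nat_lit 2, nat_lit 3], [nat_lit 3, nat_lit 99, nat_lit 2, nat_lit 4, nat_lit 1, nat_lit 3, nat_lit 2, nat_lit 0]]))) (.node (nat_lit 134) (.leaf ((nat_lit 1), [], [[nat_lit 1, nat_lit 0, nat_lit 1, nat_lit 4, nat_lit 2, nat_lit 2, nat_lit 3, nat_lit 1], [nat_lit 0, nat_lit 4, nat_lit 0, nat_lit 1, nat_lit 4, nat_lit 0, nat_lit 3, nat_lit 2, nat_lit 2, nat_lit 3], [nat_lit 1, nat_lit 1, nat_lit 99, nat_lit 3, nat_lit 99, nat_lit 4, nat_lit 2, nat_lit 4, nat_lit 3, nat_lit 0, nat_lit 4, nat_lit 2, nat_lit 0, nat_lit 2, nat_lit 3]])) (.node (nat_lit 135) (.leaf ((nat_lit 1), [], [[nat_lit 1, nat_lit 0, nat_lit 1, nat_lit 4, nat_lit 2, nat_lit 2, nat_lit 3, nat_lit 1], [nat_lit 0, nat_lit 4, nat_lit 0, nat_lit 1, nat_lit 4, nat_lit 0, nat_lit 3, nat_lit 2, nat_lit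 2, nat_lit 3], [nat_lit 2, nat_lit 4, nat_lit 1, nat_lit 99, nat_lit 1, nat_lit 99, nat_lit 4, nat_lit 2, nat_lit 0, nat_lit 4, nat_lit 2, nat_lit 2, nat_lit 3, nat_lit 1]])) (.leaf ((nat_lit 1), [], [[nat_lit 1, nat_lit 0, nat_lit 1, nat_lit 4, nat_lit 2, nat_lit 2, nat_lit 3, nat_lit 1], [nat_lit 0, nat_lit 4, nat_lit 0, nat_lit 1, nat_lit 4, nat_lit 0, nat_lit 3, nat_lit 2, nat_lit 2, nat_lit 3], [nat_lit 1, nat_lit 0, nat_lit 99, nat_lit 2, nat_lit 2, nat_lit 4, nat_lit 3, nat_lit 0, nat_lit 1, nat_lit 0, nat_lit 1, nat_lit 1, nat_lit 0]]))))))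
 (.node (nat_lit 141) (.node (nat_lit 138) (.node (nat_lit 137) (.leaf ((nat_lit 1), [], [[nat_lit 1, nat_lit 0, nat_lit 1, nat_lit 4, nat_lit 2, nat_lit 2, nat_lit 3, nat_lit 1], [nat_lit 0, nat_lit 4, nat_lit 0, nat_lit 1, nat_lit 4, nat_lit 0, nat_lit 3, nat_lit 2, nat_lit 2, nat_lit 3], [nat_lit 1, nat_lit 0, nat_lit 99, nat_lit 0, nat_lit 99, nat_lit 0, nat_lit 4, nat_lit 0, nat_lit 1, nat_lit 4, nat_lit 0, nat_lit 1, nat_lit 0]])) (.leaf ((nat_lit 1), [], [[nat_lit 1, nat_lit 0, nat_lit 1, nat_lit 4, nat_lit 2, nat_lit 2, nat_lit 3, nat_lit 1], [nat_lit 0, nat_lit 4, nat_lit 0, nat_lit 1, nat_lit 4, nat_lit 0, nat_lit 3, nat_lit 2, nat_lit 2, nat_lit 3], [nat_lit 2, nat_lit 4, nat_lit 2, nat_lit 0, nat_lit 99, nat_lit 4, nat_lit 99, nat_lit 4, nat_lit 2, nat_lit 4, nat_lit 3, nat_lit 0, nat_lit 1, nat_lit 0, nat_lit 1]]))) (.node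 (nat_lit 139) (.leaf ((nat_lit 1), [], [[nat_lit 1, nat_lit 0, nat_lit 1, nat_lit 4, nat_lit 2, nat_lit 2, nat_lit 3, nat_lit 1], [nat_lit 0, nat_lit 4, nat_lit 0, nat_lit 1, nat_lit 4, nat_lit 0, nat_lit 3, nat_lit 2, nat_lit 2, nat_lit 3], [nat_lit 1, nat_lit 1, nat_lit 0, nat_lit 99, nat_lit 99, nat_lit 2, nat_lit 2, nat_lit 4, nat_lit 3, nat_lit 0, nat_lit 4, nat_lit 3, nat_lit 2, nat_lit 0, nat_lit 2]])) (.node (nat_lit 140) (.leaf ((nat_lit 1), [], [[nat_lit 1, nat_lit 0, nat_lit 1, nat_lit 4, nat_lit 2, nat_lit 2, nat_lit 3, nat_lit 1], [nat_lit 0, nat_lit 4, nat_lit 0, nat_lit 1, nat_lit 4, nat_lit 0, nat_lit 3, nat_lit 2, nat_lit 2, nat_lit 3], [nat_lit 3, nat_lit 99, nat_lit 2, nat_lit 99, nat_lit 4, nat_lit 2, nat_lit 0, nat_lit 2, nat_lit 4, nat_lit 2, nat_lit 2, nat_lit 3, nat_lit 2, nat_lit 2, nat_lit 0]])) (.leaf ((nat_lit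 1), [], [[nat_lit 1, nat_lit 0, nat_lit 1, nat_lit 4, nat_lit 2, nat_lit 2, nat_lit 3, nat_lit 1], [nat_lit 0, nat_lit 4, nat_lit 0, nat_lit 1, nat_lit 4, nat_lit 0, nat_lit 3, nat_lit 2, nat_lit 2, nat_lit 3], [nat_lit 2, nat_lit 4, nat_lit 99, nat_lit 3, nat_lit 0, nat_lit 99, nat_lit 2, nat_lit 4, nat_lit 2, nat_lit 3, nat_lit 4, nat_lit 2, nat_lit 0, nat_lit 2, nat_lit 3, nat_lit 0, nat_lit 2]])))))
 (.node (nat_lit 144) (.node (nat_lit 142) (.leaf ((nat_lit 1), [], [[nat_lit 1, nat_lit 0, nat_lit 1, nat_lit 4, nat_lit 2, nat_lit 2, nat_lit 3, nat_lit 1], [nat_lit 0, nat_lit 4, nat_lit 0, nat_lit 1, nat_lit 4, nat_lit 0, nat_lit 3, nat_lit 2, nat_lit 2, nat_lit 3], [nat_lit 0, nat_lit 2, nat_lit 99, nat_lit 0, nat_lit 1, nat_lit 0, nat_lit 99, nat_lit 1, nat_lit 4, nat_lit 2, nat_lit 0, nat_lit 4, nat_lit 0, nat_lit 2, nat_lit 3, nat_lit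 0, nat_lit 1]])) (.node (nat_lit 143) (.leaf ((nat_lit 1), [], [[nat_lit 1, nat_lit 0, nat_lit 1, nat_lit 4, nat_lit 2, nat_lit 2, nat_lit 3, nat_lit 1], [nat_lit 0, nat_lit 4, nat_lit 0, nat_lit 1, nat_lit 4, nat_lit 0, nat_lit 3, nat_lit 2, nat_lit 2, nat_lit 3], [nat_lit 3, nat_lit 99, nat_lit 1, nat_lit 99, nat_lit 2, nat_lit 0, nat_lit 2, nat_lit 4, nat_lit 2, nat_lit 0, nat_lit 3, nat_lit 1, nat_lit 1, nat_lit 0]])) (.leaf ((nat_lit 1), [], [[nat_lit 1, nat_lit 0, nat_lit 1, nat_lit 4, nat_lit 2, nat_lit 2, nat_lit 3, nat_lit 1], [nat_lit 0, nat_lit 4, nat_lit 0, nat_lit 1, nat_lit 4, nat_lit 0, nat_lit 3, nat_lit 2, nat_lit 2, nat_lit 3], [nat_lit 2, nat_lit 4, nat_lit 2, nat_lit 99, nat_lit 2, nat_lit 99, nat_lit 1, nat_lit 4, nat_lit 0, nat_lit 1, nat_lit 4, nat_lit 1, nat_lit 0, nat_lit 2]])))) (.node (nat_lit 145) (.leaf ((nat_lit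 1), [], [[nat_lit 1, nat_lit 0, nat_lit 1, nat_lit 4, nat_lit 2, nat_lit 2, nat_lit 3, nat_lit 1], [nat_lit 0, nat_lit 4, nat_lit 0, nat_lit 1, nat_lit 4, nat_lit 0, nat_lit 3, nat_lit 2, nat_lit 2, nat_lit 3], [nat_lit 2, nat_lit 4, nat_lit 1, nat_lit 99, nat_lit 3, nat_lit 2, nat_lit 99, nat_lit 0, nat_lit 4, nat_lit 0, nat_lit 2, nat_lit 0, nat_lit 4, nat_lit 2, nat_lit 0, nat_lit 3, nat_lit 0, nat_lit 2, nat_lit 0]])) (.node (nat_lit 146) (.leaf ((nat_lit 1), [], [[nat_lit 1, nat_lit 0, nat_lit 1, nat_lit 4, nat_lit 2, nat_lit 2, nat_lit 3, nat_lit 1], [nat_lit 0, nat_lit 4, nat_lit 0, nat_lit 1, nat_lit 4, nat_lit 0, nat_lit 3, nat_lit 2, nat_lit 2, nat_lit 3], [nat_lit 4, nat_lit 99, nat_lit 2, nat_lit 99, nat_lit 1, nat_lit 4, nat_lit 1, nat_lit 3, nat_lit 4, nat_lit 3, nat_lit 1, nat_lit 0, nat_lit 2, nat_lit 0]])) (.leaf ((nat_lit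 1), [], [[nat_lit 1, nat_lit 0, nat_lit 1, nat_lit 4, nat_lit 2, nat_lit 2, nat_lit 3, nat_lit 1], [nat_lit 0, nat_lit 4, nat_lit 0, nat_lit 1, nat_lit 4, nat_lit 0, nat_lit 3, nat_lit 2, nat_lit 2, nat_lit 3], [nat_lit 1, nat_lit 0, nat_lit 2, nat_lit 99, nat_lit 0, nat_lit 99, nat_lit 3, nat_lit 0, nat_lit 4, nat_lit 3, nat_lit 1, nat_lit 1, nat_lit 0, nat_lit 2]])))))))
 (.node (nat_lit 157) (.node (nat_lit 152) (.node (nat_lit 149) (.node (nat_lit 148) (.leaf ((nat_lit 1), [], [[nat_lit 1, nat_lit 0, nat_lit 1, nat_lit 4, nat_lit 2, nat_lit 2, nat_lit 3, nat_lit 1], [nat_lit 0, nat_lit 4, nat_lit 0, nat_lit 1, nat_lit 4, nat_lit 0, nat_lit 3, nat_lit 2, nat_lit 2, nat_lit 3], [nat_lit 0, nat_lit 1, nat_lit 1, nat_lit 99, nat_lit 1, nat_lit 99, nat_lit 3, nat_lit 4, nat_lit 2, nat_lit 3, nat_lit 0, nat_lit 4, nat_lit 1, nat_lit 1, nat_lit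 3, nat_lit 2]])) (.leaf ((nat_lit 1), [], [[nat_lit 1, nat_lit 0, nat_lit 1, nat_lit 4, nat_lit 2, nat_lit 2, nat_lit 3, nat_lit 1], [nat_lit 0, nat_lit 4, nat_lit 0, nat_lit 1, nat_lit 4, nat_lit 0, nat_lit 3, nat_lit 2, nat_lit 2, nat_lit 3], [nat_lit 0, nat_lit 99, nat_lit 2, nat_lit 99, nat_lit 4, nat_lit 2, nat_lit 0, nat_lit 2, nat_lit 4, nat_lit 0, nat_lit 3, nat_lit 0, nat_lit 2, nat_lit 0]]))) (.node (nat_lit 150) (.leaf ((nat_lit 1), [], [[nat_lit 1, nat_lit 0, nat_lit 1, nat_lit 4, nat_lit 2, nat_lit 2, nat_lit 3, nat_lit 1], [nat_lit 0, nat_lit 4, nat_lit 0, nat_lit 1, nat_lit 4, nat_lit 0, nat_lit 3, nat_lit 2, nat_lit 2, nat_lit 3], [nat_lit 1, nat_lit 1, nat_lit 99, nat_lit 1, nat_lit 99, nat_lit 3, nat_lit 4, nat_lit 2, nat_lit 3, nat_lit 4, nat_lit 1, nat_lit 3, nat_lit 1, nat_lit 1, nat_lit 0]])) (.node (nat_lit 151) (.leaf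 ((nat_lit 1), [], [[nat_lit 1, nat_lit 0, nat_lit 1, nat_lit 4, nat_lit 2, nat_lit 2, nat_lit 3, nat_lit 1], [nat_lit 0, nat_lit 4, nat_lit 0, nat_lit 1, nat_lit 4, nat_lit 0, nat_lit 3, nat_lit 2, nat_lit 2, nat_lit 3], [nat_lit 0, nat_lit 1, nat_lit 1, nat_lit 99, nat_lit 2, nat_lit 99, nat_lit 2, nat_lit 0, nat_lit 4, nat_lit 0, nat_lit 4, nat_lit 0, nat_lit 2, nat_lit 0, nat_lit 2, nat_lit 3]])) (.leaf ((nat_lit 1), [], [[nat_lit 1, nat_lit 0, nat_lit 1, nat_lit 4, nat_lit 2, nat_lit 2, nat_lit 3, nat_lit 1], [nat_lit 0, nat_lit 4, nat_lit 0, nat_lit 1, nat_lit 4, nat_lit 0, nat_lit 3, nat_lit 2, nat_lit 2, nat_lit 3], [nat_lit 0, nat_lit 99, nat_lit 0, nat_lit 1, nat_lit 99, nat_lit 1, nat_lit 1, nat_lit 4, nat_lit 0, nat_lit 1, nat_lit 4, nat_lit 2, nat_lit 0, nat_lit 3, nat_lit 1]])))))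
 (.node (nat_lit 154) (.node (nat_lit 153) (.leaf ((nat_lit 1), [], [[nat_lit 1, nat_lit 0, nat_lit 1, nat_lit 4, nat_lit 2, nat_lit 2, nat_lit 3, nat_lit 1], [nat_lit 0, nat_lit 4, nat_lit 0, nat_lit 1, nat_lit 4, nat_lit 0, nat_lit 3, nat_lit 2, nat_lit 2, nat_lit 3], [nat_lit 0, nat_lit 1, nat_lit 1, nat_lit 99, nat_lit 2, nat_lit 99, nat_lit 3, nat_lit 2, nat_lit 2, nat_lit 4, nat_lit 2, nat_lit 2, nat_lit 0, nat_lit 3, nat_lit 1, nat_lit 0]])) (.leaf ((nat_lit 1), [], [[nat_lit 1, nat_lit 0, nat_lit 1, nat_lit 4, nat_lit 2, nat_lit 2, nat_lit 3, nat_lit 1], [nat_lit 0, nat_lit 4, nat_lit 0, nat_lit 1, nat_lit 4, nat_lit 0, nat_lit 3, nat_lit 2, nat_lit 2, nat_lit 3], [nat_lit 2, nat_lit 4, nat_lit 2, nat_lit 99, nat_lit 1, nat_lit 99, nat_lit 3, nat_lit 4, nat_lit 2, nat_lit 0, nat_lit 1, nat_lit 3, nat_lit 2, nat_lit 0]]))) (.node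 (nat_lit 155) (.leaf ((nat_lit 1), [], [[nat_lit 1, nat_lit 0, nat_lit 1, nat_lit 4, nat_lit 2, nat_lit 2, nat_lit 3, nat_lit 1], [nat_lit 0, nat_lit 4, nat_lit 0, nat_lit 1, nat_lit 4, nat_lit 0, nat_lit 3, nat_lit 2, nat_lit 2, nat_lit 3], [nat_lit 1, nat_lit 3, nat_lit 0, nat_lit 99, nat_lit 1, nat_lit 0, nat_lit 99, nat_lit 3, nat_lit 0, nat_lit 4, nat_lit 2, nat_lit 0, nat_lit 3, nat_lit 0]])) (.node (nat_lit 156) (.leaf ((nat_lit 1), [], [[nat_lit 1, nat_lit 0, nat_lit 1, nat_lit 4, nat_lit 2, nat_lit 2, nat_lit 3, nat_lit 1], [nat_lit 0, nat_lit 4, nat_lit 0, nat_lit 1, nat_lit 4, nat_lit 0, nat_lit 3, nat_lit 2, nat_lit 2, nat_lit 3], [nat_lit 1, nat_lit 1, nat_lit 0, nat_lit 99, nat_lit 99, nat_lit 2, nat_lit 0, nat_lit 4, nat_lit 0, nat_lit 1, nat_lit 1, nat_lit 3, nat_lit 1]])) (.leaf ((nat_lit 1), [], [[nat_lit 1, nat_lit 0,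 nat_lit 1, nat_lit 4, nat_lit 2, nat_lit 2, nat_lit 3, nat_lit 1], [nat_lit 0, nat_lit 4, nat_lit 0, nat_lit 1, nat_lit 4, nat_lit 0, nat_lit 3, nat_lit 2, nat_lit 2, nat_lit 3], [nat_lit 4, nat_lit 1, nat_lit 99, nat_lit 2, nat_lit 99, nat_lit 0, nat_lit 4, nat_lit 2, nat_lit 0, nat_lit 4, nat_lit 1, nat_lit 1, nat_lit 0, nat_lit 1, nat_lit 1, nat_lit 0]]))))))
 (.node (nat_lit 162) (.node (nat_lit 159) (.node (nat_lit 158) (.leaf ((nat_lit 1), [], [[nat_lit 1, nat_lit 0, nat_lit 1, nat_lit 4, nat_lit 2, nat_lit 2, nat_lit 3, nat_lit 1], [nat_lit 0, nat_lit 4, nat_lit 0, nat_lit 1, nat_lit 4, nat_lit 0, nat_lit 3, nat_lit 2, nat_lit 2, nat_lit 3], [nat_lit 1, nat_lit 1, nat_lit 0, nat_lit 99, nat_lit 99, nat_lit 1, nat_lit 1, nat_lit 3, nat_lit 4, nat_lit 2, nat_lit 0, nat_lit 2, nat_lit 3, nat_lit 0, nat_lit 2, nat_lit 0]])) (.leaf ((nat_lit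 1), [], [[nat_lit 1, nat_lit 0, nat_lit 1, nat_lit 4, nat_lit 2, nat_lit 2, nat_lit 3, nat_lit 1], [nat_lit 0, nat_lit 4, nat_lit 0, nat_lit 1, nat_lit 4, nat_lit 0, nat_lit 3, nat_lit 2, nat_lit 2, nat_lit 3], [nat_lit 4, nat_lit 1, nat_lit 99, nat_lit 99, nat_lit 2, nat_lit 3, nat_lit 4, nat_lit 0, nat_lit 1, nat_lit 1, nat_lit 0, nat_lit 2, nat_lit 0]]))) (.node (nat_lit 160) (.leaf ((nat_lit 1), [], [[nat_lit 1, nat_lit 0, nat_lit 1, nat_lit 4, nat_lit 2, nat_lit 2, nat_lit 3, nat_lit 1], [nat_lit 0, nat_lit 4, nat_lit 0, nat_lit 1, nat_lit 4, nat_lit 0, nat_lit 3, nat_lit 2, nat_lit 2, nat_lit 3], [nat_lit 1, nat_lit 3, nat_lit 0, nat_lit 99, nat_lit 99, nat_lit 4, nat_lit 2, nat_lit 4, nat_lit 3, nat_lit 0, nat_lit 4, nat_lit 2, nat_lit 0, nat_lit 1, nat_lit 0, nat_lit 1]])) (.node (nat_lit 161) (.leaf ((nat_lit 1), [], [[nat_lit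 1, nat_lit 0, nat_lit 1, nat_lit 4, nat_lit 2, nat_lit 2, nat_lit 3, nat_lit 1], [nat_lit 0, nat_lit 4, nat_lit 0, nat_lit 1, nat_lit 4, nat_lit 0, nat_lit 3, nat_lit 2, nat_lit 2, nat_lit 3], [nat_lit 4, nat_lit 1, nat_lit 4, nat_lit 99, nat_lit 2, nat_lit 99, nat_lit 0, nat_lit 3, nat_lit 4, nat_lit 0, nat_lit 2, nat_lit 0, nat_lit 1, nat_lit 3, nat_lit 0]])) (.leaf ((nat_lit 1), [], [[nat_lit 1, nat_lit 0, nat_lit 1, nat_lit 4, nat_lit 2, nat_lit 2, nat_lit 3, nat_lit 1], [nat_lit 0, nat_lit 4, nat_lit 0, nat_lit 1, nat_lit 4, nat_lit 0, nat_lit 3, nat_lit 2, nat_lit 2, nat_lit 3], [nat_lit 2, nat_lit 4, nat_lit 2, nat_lit 0, nat_lit 99, nat_lit 99, nat_lit 2, nat_lit 2, nat_lit 4, nat_lit 2, nat_lit 0, nat_lit 4, nat_lit 0, nat_lit 1, nat_lit 0, nat_lit 3]])))))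
 (.node (nat_lit 165) (.node (nat_lit 163) (.leaf ((nat_lit 1), [], [[nat_lit 1, nat_lit 0, nat_lit 1, nat_lit 4, nat_lit 2, nat_lit 2, nat_lit 3, nat_lit 1], [nat_lit 0, nat_lit 4, nat_lit 0, nat_lit 1, nat_lit 4, nat_lit 0, nat_lit 3, nat_lit 2, nat_lit 2, nat_lit 3], [nat_lit 1, nat_lit 1, nat_lit 0, nat_lit 99, nat_lit 3, nat_lit 99, nat_lit 0, nat_lit 2, nat_lit 2, nat_lit 4, nat_lit 2, nat_lit 3, nat_lit 1, nat_lit 0]])) (.node (nat_lit 164) (.leaf ((nat_lit 1), [], [[nat_lit 1, nat_lit 0, nat_lit 1, nat_lit 4, nat_lit 2, nat_lit 2, nat_lit 3, nat_lit 1], [nat_lit 0, nat_lit 4, nat_lit 0, nat_lit 1, nat_lit 4, nat_lit 0, nat_lit 3, nat_lit 2, nat_lit 2, nat_lit 3], [nat_lit 1, nat_lit 4, nat_lit 99, nat_lit 3, nat_lit 99, nat_lit 0, nat_lit 2, nat_lit 4, nat_lit 1, nat_lit 0, nat_lit 1, nat_lit 3]])) (.leaf ((nat_lit 1), [], [[nat_lit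 1, nat_lit 0, nat_lit 1, nat_lit 4, nat_lit 2, nat_lit 2, nat_lit 3, nat_lit 1], [nat_lit 0, nat_lit 4, nat_lit 0, nat_lit 1, nat_lit 4, nat_lit 0, nat_lit 3, nat_lit 2, nat_lit 2, nat_lit 3], [nat_lit 1, nat_lit 1, nat_lit 0, nat_lit 99, nat_lit 1, nat_lit 99, nat_lit 3, nat_lit 0, nat_lit 4, nat_lit 1, nat_lit 1, nat_lit 3, nat_lit 0, nat_lit 2, nat_lit 0]])))) (.node (nat_lit 166) (.leaf ((nat_lit 1), [], [[nat_lit 1, nat_lit 0, nat_lit 1, nat_lit 4, nat_lit 2, nat_lit 2, nat_lit 3, nat_lit 1], [nat_lit 0, nat_lit 4, nat_lit 0, nat_lit 1, nat_lit 4, nat_lit 0, nat_lit 3, nat_lit 2, nat_lit 2, nat_lit 3], [nat_lit 1, nat_lit 1, nat_lit 0, nat_lit 99, nat_lit 0, nat_lit 1, nat_lit 99, nat_lit 3, nat_lit 2, nat_lit 0, nat_lit 4, nat_lit 0, nat_lit 2]])) (.node (nat_lit 167) (.leaf ((nat_lit 1), [], [[nat_lit 1, nat_lit 0, nat_lit 1, nat_lit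 4, nat_lit 2, nat_lit 2, nat_lit 3, nat_lit 1], [nat_lit 0, nat_lit 4, nat_lit 0, nat_lit 1, nat_lit 4, nat_lit 0, nat_lit 3, nat_lit 2, nat_lit 2, nat_lit 3], [nat_lit 1, nat_lit 3, nat_lit 99, nat_lit 2, nat_lit 99, nat_lit 2, nat_lit 4, nat_lit 3, nat_lit 0, nat_lit 4, nat_lit 0, nat_lit 1, nat_lit 0, nat_lit 1, nat_lit 0]])) (.leaf ((nat_lit 1), [], [[nat_lit 1, nat_lit 0, nat_lit 1, nat_lit 4, nat_lit 2, nat_lit 2, nat_lit 3, nat_lit 1], [nat_lit 0, nat_lit 4, nat_lit 0, nat_lit 1, nat_lit 4, nat_lit 0, nat_lit 3, nat_lit 2, nat_lit 2, nat_lit 3], [nat_lit 2, nat_lit 4, nat_lit 99, nat_lit 99, nat_lit 2, nat_lit 2, nat_lit 4, nat_lit 3, nat_lit 0, nat_lit 4, nat_lit 3, nat_lit 1, nat_lit 0, nat_lit 1, nat_lit 3]]))))))))))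
noncomputable def eCE_1 : Tr (ℕ × List ℕ × List (List ℕ)) := (.node (nat_lit 252) (.node (nat_lit 210) (.node (nat_lit 189) (.node (nat_lit 178) (.node (nat_lit 173) (.node (nat_lit 170) (.node (nat_lit 169) (.leaf ((nat_lit 1), [], [[nat_lit 1, nat_lit 0, nat_lit 1, nat_lit 4, nat_lit 2, nat_lit 2, nat_lit 3, nat_lit 1], [nat_lit 0, nat_lit 4, nat_lit 0, nat_lit 1, nat_lit 4, nat_lit 0, nat_lit 3, nat_lit 2, nat_lit 2, nat_lit 3], [nat_lit 1, nat_lit 0, nat_lit 2, nat_lit 99, nat_lit 1, nat_lit 3, nat_lit 4, nat_lit 1, nat_lit 0, nat_lit 1, nat_lit 0, nat_lit 2]])) (.leaf ((nat_lit 1), [], [[nat_lit 1, nat_lit 0, nat_lit 1, nat_lit 4, nat_lit 2, nat_lit 2, nat_lit 3, nat_lit 1], [nat_lit 0, nat_lit 4, nat_lit 0, nat_lit 1, nat_lit 4, nat_lit 0, nat_lit 3, nat_lit 2, nat_lit 2, nat_lit 3], [nat_lit 2, nat_lit 2, nat_lit 99, nat_lit 99,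 nat_lit 4, nat_lit 0, nat_lit 3, nat_lit 4, nat_lit 3, nat_lit 1, nat_lit 1, nat_lit 3, nat_lit 0, nat_lit 2, nat_lit 0]]))) (.node (nat_lit 171) (.leaf ((nat_lit 1), [], [[nat_lit 1, nat_lit 0, nat_lit 1, nat_lit 4, nat_lit 2, nat_lit 2, nat_lit 3, nat_lit 1], [nat_lit 0, nat_lit 4, nat_lit 0, nat_lit 1, nat_lit 4, nat_lit 0, nat_lit 3, nat_lit 2, nat_lit 2, nat_lit 3], [nat_lit 1, nat_lit 3, nat_lit 0, nat_lit 99, nat_lit 99, nat_lit 4, nat_lit 0, nat_lit 1, nat_lit 4, nat_lit 0, nat_lit 3, nat_lit 1, nat_lit 1, nat_lit 3, nat_lit 0]])) (.node (nat_lit 172) (.leaf ((nat_lit 1), [], [[nat_lit 1, nat_lit 0, nat_lit 1, nat_lit 4, nat_lit 2, nat_lit 2, nat_lit 3, nat_lit 1], [nat_lit 0, nat_lit 4, nat_lit 0, nat_lit 1, nat_lit 4, nat_lit 0, nat_lit 3, nat_lit 2, nat_lit 2, nat_lit 3], [nat_lit 2, nat_lit 4, nat_lit 2, nat_lit 99, nat_lit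 1, nat_lit 0, nat_lit 99, nat_lit 2, nat_lit 0, nat_lit 3, nat_lit 1, nat_lit 1, nat_lit 0]])) (.leaf ((nat_lit 1), [], [[nat_lit 1, nat_lit 0, nat_lit 1, nat_lit 4, nat_lit 2, nat_lit 2, nat_lit 3, nat_lit 1], [nat_lit 0, nat_lit 4, nat_lit 0, nat_lit 1, nat_lit 4, nat_lit 0, nat_lit 3, nat_lit 2, nat_lit 2, nat_lit 3], [nat_lit 99, nat_lit 1, nat_lit 99, nat_lit 0, nat_lit 4, nat_lit 0, nat_lit 4, nat_lit 3, nat_lit 0, nat_lit 1, nat_lit 0, nat_lit 1, nat_lit 1]])))))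
 (.node (nat_lit 175) (.node (nat_lit 174) (.leaf ((nat_lit 1), [], [[nat_lit 1, nat_lit 0, nat_lit 1, nat_lit 4, nat_lit 2, nat_lit 2, nat_lit 3, nat_lit 1], [nat_lit 0, nat_lit 4, nat_lit 0, nat_lit 1, nat_lit 4, nat_lit 0, nat_lit 3, nat_lit 2, nat_lit 2, nat_lit 3], [nat_lit 0, nat_lit 1, nat_lit 1, nat_lit 99, nat_lit 3, nat_lit 99, nat_lit 4, nat_lit 2, nat_lit 3, nat_lit 0, nat_lit 4, nat_lit 0, nat_lit 3, nat_lit 0, nat_lit 2, nat_lit 0]])) (.leaf ((nat_lit 1), [], [[nat_lit 1, nat_lit 0, nat_lit 1, nat_lit 4, nat_lit 2, nat_lit 2, nat_lit 3, nat_lit 1], [nat_lit 0, nat_lit 4, nat_lit 0, nat_lit 1, nat_lit 4, nat_lit 0, nat_lit 3, nat_lit 2, nat_lit 2, nat_lit 3], [nat_lit 1, nat_lit 3, nat_lit 99, nat_lit 99, nat_lit 4, nat_lit 1, nat_lit 3, nat_lit 4, nat_lit 2, nat_lit 2, nat_lit 0, nat_lit 2]]))) (.node (nat_lit 176) (.leaf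 ((nat_lit 1), [], [[nat_lit 1, nat_lit 0, nat_lit 1, nat_lit 4, nat_lit 2, nat_lit 2, nat_lit 3, nat_lit 1], [nat_lit 0, nat_lit 4, nat_lit 0, nat_lit 1, nat_lit 4, nat_lit 0, nat_lit 3, nat_lit 2, nat_lit 2, nat_lit 3], [nat_lit 2, nat_lit 2, nat_lit 99, nat_lit 99, nat_lit 3, nat_lit 0, nat_lit 1, nat_lit 0]])) (.node (nat_lit 177) (.leaf ((nat_lit 1), [], [[nat_lit 1, nat_lit 0, nat_lit 1, nat_lit 4, nat_lit 2, nat_lit 2, nat_lit 3, nat_lit 1], [nat_lit 0, nat_lit 4, nat_lit 0, nat_lit 1, nat_lit 4, nat_lit 0, nat_lit 3, nat_lit 2, nat_lit 2, nat_lit 3], [nat_lit 2, nat_lit 4, nat_lit 3, nat_lit 99, nat_lit 99, nat_lit 4, nat_lit 1, nat_lit 3, nat_lit 4, nat_lit 1, nat_lit 3, nat_lit 0, nat_lit 1]])) (.leaf ((nat_lit 1), [], [[nat_lit 1, nat_lit 0, nat_lit 1, nat_lit 4, nat_lit 2, nat_lit 2, nat_lit 3, nat_lit 1], [nat_lit 0, nat_lit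 4, nat_lit 0, nat_lit 1, nat_lit 4, nat_lit 0, nat_lit 3, nat_lit 2, nat_lit 2, nat_lit 3], [nat_lit 2, nat_lit 4, nat_lit 99, nat_lit 99, nat_lit 4, nat_lit 3, nat_lit 2, nat_lit 2, nat_lit 4, nat_lit 2, nat_lit 0, nat_lit 3, nat_lit 0, nat_lit 2, nat_lit 0]]))))))
 (.node (nat_lit 183) (.node (nat_lit 180) (.node (nat_lit 179) (.leaf ((nat_lit 1), [], [[nat_lit 1, nat_lit 0, nat_lit 1, nat_lit 4, nat_lit 2, nat_lit 2, nat_lit 3, nat_lit 1], [nat_lit 0, nat_lit 4, nat_lit 0, nat_lit 1, nat_lit 4, nat_lit 0, nat_lit 3, nat_lit 2, nat_lit 2, nat_lit 3], [nat_lit 0, nat_lit 99, nat_lit 4, nat_lit 1, nat_lit 3, nat_lit 0, nat_lit 99, nat_lit 2, nat_lit 4, nat_lit 0, nat_lit 4, nat_lit 1, nat_lit 3, nat_lit 1, nat_lit 1, nat_lit 0]])) (.leaf ((nat_lit 1), [], [[nat_lit 1, nat_lit 0, nat_lit 1, nat_lit 4, nat_lit 2, nat_lit 2, nat_lit 3, nat_lit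 1], [nat_lit 0, nat_lit 4, nat_lit 0, nat_lit 1, nat_lit 4, nat_lit 0, nat_lit 3, nat_lit 2, nat_lit 2, nat_lit 3], [nat_lit 1, nat_lit 99, nat_lit 1, nat_lit 99, nat_lit 0, nat_lit 2, nat_lit 0, nat_lit 4, nat_lit 0, nat_lit 2, nat_lit 2, nat_lit 3, nat_lit 2]]))) (.node (nat_lit 181) (.leaf ((nat_lit 1), [], [[nat_lit 1, nat_lit 0, nat_lit 1, nat_lit 4, nat_lit 2, nat_lit 2, nat_lit 3, nat_lit 1], [nat_lit 0, nat_lit 4, nat_lit 0, nat_lit 1, nat_lit 4, nat_lit 0, nat_lit 3, nat_lit 2, nat_lit 2, nat_lit 3], [nat_lit 1, nat_lit 3, nat_lit 0, nat_lit 99, nat_lit 4, nat_lit 1, nat_lit 0, nat_lit 2, nat_lit 4, nat_lit 0, nat_lit 1, nat_lit 0, nat_lit 3]])) (.node (nat_lit 182) (.leaf ((nat_lit 1), [], [[nat_lit 1, nat_lit 0, nat_lit 1, nat_lit 4, nat_lit 2, nat_lit 2, nat_lit 3, nat_lit 1], [nat_lit 0, nat_lit 4, nat_lit 0, nat_lit 1, nat_lit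 4, nat_lit 0, nat_lit 3, nat_lit 2, nat_lit 2, nat_lit 3], [nat_lit 1, nat_lit 4, nat_lit 99, nat_lit 0, nat_lit 4, nat_lit 0, nat_lit 4, nat_lit 3, nat_lit 0, nat_lit 1, nat_lit 0, nat_lit 2, nat_lit 0]])) (.leaf ((nat_lit 1), [], [[nat_lit 1, nat_lit 0, nat_lit 1, nat_lit 4, nat_lit 2, nat_lit 2, nat_lit 3, nat_lit 1], [nat_lit 0, nat_lit 4, nat_lit 0, nat_lit 1, nat_lit 4, nat_lit 0, nat_lit 3, nat_lit 2, nat_lit 2, nat_lit 3], [nat_lit 0, nat_lit 1, nat_lit 99, nat_lit 2, nat_lit 99, nat_lit 0, nat_lit 4, nat_lit 0, nat_lit 4, nat_lit 0, nat_lit 2, nat_lit 0]])))))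
 (.node (nat_lit 186) (.node (nat_lit 184) (.leaf ((nat_lit 1), [], [[nat_lit 1, nat_lit 0, nat_lit 1, nat_lit 4, nat_lit 2, nat_lit 2, nat_lit 3, nat_lit 1], [nat_lit 0, nat_lit 4, nat_lit 0, nat_lit 1, nat_lit 4, nat_lit 0, nat_lit 3, nat_lit 2, nat_lit 2, nat_lit 3], [nat_lit 4, nat_lit 1, nat_lit 4, nat_lit 99, nat_lit 2, nat_lit 99, nat_lit 4, nat_lit 2, nat_lit 0, nat_lit 4, nat_lit 2, nat_lit 3, nat_lit 0, nat_lit 1, nat_lit 0, nat_lit 2, nat_lit 0]])) (.node (nat_lit 185) (.leaf ((nat_lit 1), [], [[nat_lit 1, nat_lit 0, nat_lit 1, nat_lit 4, nat_lit 2, nat_lit 2, nat_lit 3, nat_lit 1], [nat_lit 0, nat_lit 4, nat_lit 0, nat_lit 1, nat_lit 4, nat_lit 0, nat_lit 3, nat_lit 2, nat_lit 2, nat_lit 3], [nat_lit 1, nat_lit 1, nat_lit 99, nat_lit 1, nat_lit 0, nat_lit 99, nat_lit 0, nat_lit 4, nat_lit 0, nat_lit 4, nat_lit 2, nat_lit 2,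 nat_lit 3, nat_lit 2, nat_lit 2]])) (.leaf ((nat_lit 1), [], [[nat_lit 1, nat_lit 0, nat_lit 1, nat_lit 4, nat_lit 2, nat_lit 2, nat_lit 3, nat_lit 1], [nat_lit 0, nat_lit 4, nat_lit 0, nat_lit 1, nat_lit 4, nat_lit 0, nat_lit 3, nat_lit 2, nat_lit 2, nat_lit 3], [nat_lit 0, nat_lit 1, nat_lit 99, nat_lit 4, nat_lit 0, nat_lit 2, nat_lit 4, nat_lit 0, nat_lit 4, nat_lit 3, nat_lit 0, nat_lit 2, nat_lit 0]])))) (.node (nat_lit 187) (.leaf ((nat_lit 1), [], [[nat_lit 1, nat_lit 0, nat_lit 1, nat_lit 4, nat_lit 2, nat_lit 2, nat_lit 3, nat_lit 1], [nat_lit 0, nat_lit 4, nat_lit 0, nat_lit 1, nat_lit 4, nat_lit 0, nat_lit 3, nat_lit 2, nat_lit 2, nat_lit 3], [nat_lit 1, nat_lit 4, nat_lit 1, nat_lit 99, nat_lit 3, nat_lit 2, nat_lit 2, nat_lit 4, nat_lit 3, nat_lit 1, nat_lit 1, nat_lit 3]])) (.node (nat_lit 188) (.leaf ((nat_lit 1), [], [[nat_lit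 1, nat_lit 0, nat_lit 1, nat_lit 4, nat_lit 2, nat_lit 2, nat_lit 3, nat_lit 1], [nat_lit 0, nat_lit 4, nat_lit 0, nat_lit 1, nat_lit 4, nat_lit 0, nat_lit 3, nat_lit 2, nat_lit 2, nat_lit 3], [nat_lit 2, nat_lit 4, nat_lit 2, nat_lit 99, nat_lit 99, nat_lit 4, nat_lit 0, nat_lit 2, nat_lit 4, nat_lit 0, nat_lit 4, nat_lit 3, nat_lit 2, nat_lit 0, nat_lit 3, nat_lit 0]])) (.leaf ((nat_lit 1), [], [[nat_lit 1, nat_lit 0, nat_lit 1, nat_lit 4, nat_lit 2, nat_lit 2, nat_lit 3, nat_lit 1], [nat_lit 0, nat_lit 4, nat_lit 0, nat_lit 1, nat_lit 4, nat_lit 0, nat_lit 3, nat_lit 2, nat_lit 2, nat_lit 3], [nat_lit 4, nat_lit 1, nat_lit 99, nat_lit 1, nat_lit 99, nat_lit 2, nat_lit 0, nat_lit 2, nat_lit 4, nat_lit 1, nat_lit 3]])))))))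
 (.node (nat_lit 199) (.node (nat_lit 194) (.node (nat_lit 191) (.node (nat_lit 190) (.leaf ((nat_lit 1), [], [[nat_lit 1, nat_lit 0, nat_lit 1, nat_lit 4, nat_lit 2, nat_lit 2, nat_lit 3, nat_lit 1], [nat_lit 0, nat_lit 4, nat_lit 0, nat_lit 1, nat_lit 4, nat_lit 0, nat_lit 3, nat_lit 2, nat_lit 2, nat_lit 3], [nat_lit 2, nat_lit 4, nat_lit 99, nat_lit 99, nat_lit 3, nat_lit 4, nat_lit 3, nat_lit 0, nat_lit 4, nat_lit 2, nat_lit 3, nat_lit 0, nat_lit 1, nat_lit 0, nat_lit 2]])) (.leaf ((nat_lit 1), [], [[nat_lit 1, nat_lit 0, nat_lit 1, nat_lit 4, nat_lit 2, nat_lit 2, nat_lit 3, nat_lit 1], [nat_lit 0, nat_lit 4, nat_lit 0, nat_lit 1, nat_lit 4, nat_lit 0, nat_lit 3, nat_lit 2, nat_lit 2, nat_lit 3], [nat_lit 1, nat_lit 4, nat_lit 1, nat_lit 1, nat_lit 99, nat_lit 1, nat_lit 99, nat_lit 4, nat_lit 1, nat_lit 0, nat_lit 1, nat_lit 4, nat_lit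 0, nat_lit 3, nat_lit 1, nat_lit 0]]))) (.node (nat_lit 192) (.leaf ((nat_lit 1), [], [[nat_lit 1, nat_lit 0, nat_lit 1, nat_lit 4, nat_lit 2, nat_lit 2, nat_lit 3, nat_lit 1], [nat_lit 0, nat_lit 4, nat_lit 0, nat_lit 1, nat_lit 4, nat_lit 0, nat_lit 3, nat_lit 2, nat_lit 2, nat_lit 3], [nat_lit 4, nat_lit 99, nat_lit 3, nat_lit 0, nat_lit 99, nat_lit 2, nat_lit 4, nat_lit 3, nat_lit 2, nat_lit 4, nat_lit 3, nat_lit 1, nat_lit 1]])) (.node (nat_lit 193) (.leaf ((nat_lit 1), [], [[nat_lit 1, nat_lit 0, nat_lit 1, nat_lit 4, nat_lit 2, nat_lit 2, nat_lit 3, nat_lit 1], [nat_lit 0, nat_lit 4, nat_lit 0, nat_lit 1, nat_lit 4, nat_lit 0, nat_lit 3, nat_lit 2, nat_lit 2, nat_lit 3], [nat_lit 2, nat_lit 99, nat_lit 2, nat_lit 4, nat_lit 1, nat_lit 99, nat_lit 4, nat_lit 3, nat_lit 2, nat_lit 4, nat_lit 3, nat_lit 0, nat_lit 2, nat_lit 3]])) (.leaf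 ((nat_lit 1), [], [[nat_lit 1, nat_lit 0, nat_lit 1, nat_lit 4, nat_lit 2, nat_lit 2, nat_lit 3, nat_lit 1], [nat_lit 0, nat_lit 4, nat_lit 0, nat_lit 1, nat_lit 4, nat_lit 0, nat_lit 3, nat_lit 2, nat_lit 2, nat_lit 3], [nat_lit 3, nat_lit 1, nat_lit 99, nat_lit 1, nat_lit 99, nat_lit 4, nat_lit 0, nat_lit 3, nat_lit 4, nat_lit 3, nat_lit 2, nat_lit 2, nat_lit 0, nat_lit 1]])))))
 (.node (nat_lit 196) (.node (nat_lit 195) (.leaf ((nat_lit 1), [], [[nat_lit 1, nat_lit 0, nat_lit 1, nat_lit 4, nat_lit 2, nat_lit 2, nat_lit 3, nat_lit 1], [nat_lit 0, nat_lit 4, nat_lit 0, nat_lit 1, nat_lit 4, nat_lit 0, nat_lit 3, nat_lit 2, nat_lit 2, nat_lit 3], [nat_lit 2, nat_lit 4, nat_lit 1, nat_lit 99, nat_lit 1, nat_lit 99, nat_lit 3, nat_lit 2, nat_lit 4, nat_lit 2, nat_lit 2, nat_lit 0, nat_lit 3, nat_lit 1]])) (.leaf ((nat_lit 1), [], [[nat_lit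 1, nat_lit 0, nat_lit 1, nat_lit 4, nat_lit 2, nat_lit 2, nat_lit 3, nat_lit 1], [nat_lit 0, nat_lit 4, nat_lit 0, nat_lit 1, nat_lit 4, nat_lit 0, nat_lit 3, nat_lit 2, nat_lit 2, nat_lit 3], [nat_lit 99, nat_lit 2, nat_lit 0, nat_lit 99, nat_lit 2, nat_lit 4, nat_lit 2, nat_lit 0, nat_lit 2, nat_lit 0, nat_lit 3]]))) (.node (nat_lit 197) (.leaf ((nat_lit 1), [], [[nat_lit 1, nat_lit 0, nat_lit 1, nat_lit 4, nat_lit 2, nat_lit 2, nat_lit 3, nat_lit 1], [nat_lit 0, nat_lit 4, nat_lit 0, nat_lit 1, nat_lit 4, nat_lit 0, nat_lit 3, nat_lit 2, nat_lit 2, nat_lit 3], [nat_lit 1, nat_lit 0, nat_lit 99, nat_lit 2, nat_lit 99, nat_lit 4, nat_lit 0, nat_lit 2, nat_lit 4, nat_lit 0, nat_lit 4, nat_lit 3, nat_lit 1, nat_lit 1, nat_lit 0, nat_lit 2, nat_lit 0]])) (.node (nat_lit 198) (.leaf ((nat_lit 1), [], [[nat_lit 1, nat_lit 0, nat_lit 1, nat_lit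 4, nat_lit 2, nat_lit 2, nat_lit 3, nat_lit 1], [nat_lit 0, nat_lit 4, nat_lit 0, nat_lit 1, nat_lit 4, nat_lit 0, nat_lit 3, nat_lit 2, nat_lit 2, nat_lit 3], [nat_lit 1, nat_lit 3, nat_lit 99, nat_lit 4, nat_lit 0, nat_lit 1, nat_lit 4, nat_lit 1, nat_lit 1, nat_lit 3, nat_lit 1, nat_lit 0]])) (.leaf ((nat_lit 1), [], [[nat_lit 1, nat_lit 0, nat_lit 1, nat_lit 4, nat_lit 2, nat_lit 2, nat_lit 3, nat_lit 1], [nat_lit 0, nat_lit 4, nat_lit 0, nat_lit 1, nat_lit 4, nat_lit 0, nat_lit 3, nat_lit 2, nat_lit 2, nat_lit 3], [nat_lit 1, nat_lit 99, nat_lit 1, nat_lit 1, nat_lit 99, nat_lit 4, nat_lit 1, nat_lit 0, nat_lit 1, nat_lit 4, nat_lit 1, nat_lit 1, nat_lit 0, nat_lit 3, nat_lit 1, nat_lit 0]]))))))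
 (.node (nat_lit 204) (.node (nat_lit 201) (.node (nat_lit 200) (.leaf ((nat_lit 1), [], [[nat_lit 1, nat_lit 0, nat_lit 1, nat_lit 4, nat_lit 2, nat_lit 2, nat_lit 3, nat_lit 1], [nat_lit 0, nat_lit 4, nat_lit 0, nat_lit 1, nat_lit 4, nat_lit 0, nat_lit 3, nat_lit 2, nat_lit 2, nat_lit 3], [nat_lit 4, nat_lit 1, nat_lit 99, nat_lit 99, nat_lit 2, nat_lit 3, nat_lit 4, nat_lit 0, nat_lit 1, nat_lit 3, nat_lit 0, nat_lit 2, nat_lit 0]])) (.leaf ((nat_lit 1), [], [[nat_lit 1, nat_lit 0, nat_lit 1, nat_lit 4, nat_lit 2, nat_lit 2, nat_lit 3, nat_lit 1], [nat_lit 0, nat_lit 4, nat_lit 0, nat_lit 1, nat_lit 4, nat_lit 0, nat_lit 3, nat_lit 2, nat_lit 2, nat_lit 3], [nat_lit 1, nat_lit 3, nat_lit 0, nat_lit 99, nat_lit 2, nat_lit 99, nat_lit 0, nat_lit 3, nat_lit 4, nat_lit 2, nat_lit 3, nat_lit 2]]))) (.node (nat_lit 202) (.leaf ((nat_lit 1),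 [], [[nat_lit 1, nat_lit 0, nat_lit 1, nat_lit 4, nat_lit 2, nat_lit 2, nat_lit 3, nat_lit 1], [nat_lit 0, nat_lit 4, nat_lit 0, nat_lit 1, nat_lit 4, nat_lit 0, nat_lit 3, nat_lit 2, nat_lit 2, nat_lit 3], [nat_lit 99, nat_lit 2, nat_lit 4, nat_lit 0, nat_lit 3, nat_lit 4, nat_lit 0, nat_lit 1, nat_lit 1, nat_lit 3]])) (.node (nat_lit 203) (.leaf ((nat_lit 1), [], [[nat_lit 1, nat_lit 0, nat_lit 1, nat_lit 4, nat_lit 2, nat_lit 2, nat_lit 3, nat_lit 1], [nat_lit 0, nat_lit 4, nat_lit 0, nat_lit 1, nat_lit 4, nat_lit 0, nat_lit 3, nat_lit 2, nat_lit 2, nat_lit 3], [nat_lit 1, nat_lit 4, nat_lit 1, nat_lit 99, nat_lit 0, nat_lit 99, nat_lit 4, nat_lit 2, nat_lit 2, nat_lit 0, nat_lit 4, nat_lit 0, nat_lit 3, nat_lit 0, nat_lit 1, nat_lit 0]])) (.leaf ((nat_lit 1), [], [[nat_lit 1, nat_lit 0, nat_lit 1, nat_lit 4, nat_lit 2, nat_lit 2, nat_lit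 3, nat_lit 1], [nat_lit 0, nat_lit 4, nat_lit 0, nat_lit 1, nat_lit 4, nat_lit 0, nat_lit 3, nat_lit 2, nat_lit 2, nat_lit 3], [nat_lit 2, nat_lit 99, nat_lit 2, nat_lit 0, nat_lit 99, nat_lit 4, nat_lit 0, nat_lit 2, nat_lit 2, nat_lit 4, nat_lit 3, nat_lit 2, nat_lit 0, nat_lit 3, nat_lit 2]])))))
 (.node (nat_lit 207) (.node (nat_lit 205) (.leaf ((nat_lit 1), [], [[nat_lit 1, nat_lit 0, nat_lit 1, nat_lit 4, nat_lit 2, nat_lit 2, nat_lit 3, nat_lit 1], [nat_lit 0, nat_lit 4, nat_lit 0, nat_lit 1, nat_lit 4, nat_lit 0, nat_lit 3, nat_lit 2, nat_lit 2, nat_lit 3], [nat_lit 1, nat_lit 4, nat_lit 2, nat_lit 99, nat_lit 2, nat_lit 0, nat_lit 99, nat_lit 4, nat_lit 3, nat_lit 2, nat_lit 2, nat_lit 4, nat_lit 2, nat_lit 3, nat_lit 2, nat_lit 2, nat_lit 0, nat_lit 1, nat_lit 0]])) (.node (nat_lit 206) (.leaf ((nat_lit 1), [], [[nat_lit 1, nat_lit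 0, nat_lit 1, nat_lit 4, nat_lit 2, nat_lit 2, nat_lit 3, nat_lit 1], [nat_lit 0, nat_lit 4, nat_lit 0, nat_lit 1, nat_lit 4, nat_lit 0, nat_lit 3, nat_lit 2, nat_lit 2, nat_lit 3], [nat_lit 2, nat_lit 4, nat_lit 3, nat_lit 99, nat_lit 99, nat_lit 99, nat_lit 99, nat_lit 2, nat_lit 4, nat_lit 3, nat_lit 0, nat_lit 4, nat_lit 0, nat_lit 3, nat_lit 1, nat_lit 0, nat_lit 2, nat_lit 0]])) (.leaf ((nat_lit 1), [], [[nat_lit 1, nat_lit 0, nat_lit 1, nat_lit 4, nat_lit 2, nat_lit 2, nat_lit 3, nat_lit 1], [nat_lit 0, nat_lit 4, nat_lit 0, nat_lit 1, nat_lit 4, nat_lit 0, nat_lit 3, nat_lit 2, nat_lit 2, nat_lit 3], [nat_lit 4, nat_lit 99, nat_lit 2, nat_lit 4, nat_lit 2, nat_lit 99, nat_lit 2, nat_lit 2, nat_lit 4, nat_lit 0, nat_lit 2, nat_lit 0, nat_lit 2, nat_lit 0]])))) (.node (nat_lit 208) (.leaf ((nat_lit 1), [], [[nat_lit 1, nat_lit 0,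 nat_lit 1, nat_lit 4, nat_lit 2, nat_lit 2, nat_lit 3, nat_lit 1], [nat_lit 0, nat_lit 4, nat_lit 0, nat_lit 1, nat_lit 4, nat_lit 0, nat_lit 3, nat_lit 2, nat_lit 2, nat_lit 3], [nat_lit 1, nat_lit 4, nat_lit 1, nat_lit 99, nat_lit 1, nat_lit 1, nat_lit 99, nat_lit 0, nat_lit 4, nat_lit 0, nat_lit 1, nat_lit 4, nat_lit 0, nat_lit 2, nat_lit 0]])) (.node (nat_lit 209) (.leaf ((nat_lit 1), [], [[nat_lit 1, nat_lit 0, nat_lit 1, nat_lit 4, nat_lit 2, nat_lit 2, nat_lit 3, nat_lit 1], [nat_lit 0, nat_lit 4, nat_lit 0, nat_lit 1, nat_lit 4, nat_lit 0, nat_lit 3, nat_lit 2, nat_lit 2, nat_lit 3], [nat_lit 2, nat_lit 2, nat_lit 0, nat_lit 99, nat_lit 1, nat_lit 99, nat_lit 2, nat_lit 3, nat_lit 0, nat_lit 4, nat_lit 2, nat_lit 0, nat_lit 3, nat_lit 0]])) (.leaf ((nat_lit 1), [], [[nat_lit 1, nat_lit 0, nat_lit 1, nat_lit 4, nat_lit 2, nat_lit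 2, nat_lit 3, nat_lit 1], [nat_lit 0, nat_lit 4, nat_lit 0, nat_lit 1, nat_lit 4, nat_lit 0, nat_lit 3, nat_lit 2, nat_lit 2, nat_lit 3], [nat_lit 4, nat_lit 1, nat_lit 4, nat_lit 99, nat_lit 0, nat_lit 99, nat_lit 4, nat_lit 0, nat_lit 2, nat_lit 0, nat_lit 4, nat_lit 0, nat_lit 3, nat_lit 1, nat_lit 0]]))))))))
 (.node (nat_lit 231) (.node (nat_lit 220) (.node (nat_lit 215) (.node (nat_lit 212) (.node (nat_lit 211) (.leaf ((nat_lit 1), [], [[nat_lit 1, nat_lit 0, nat_lit 1, nat_lit 4, nat_lit 2, nat_lit 2, nat_lit 3, nat_lit 1], [nat_lit 0, nat_lit 4, nat_lit 0, nat_lit 1, nat_lit 4, nat_lit 0, nat_lit 3, nat_lit 2, nat_lit 2, nat_lit 3], [nat_lit 2, nat_lit 2, nat_lit 99, nat_lit 2, nat_lit 99, nat_lit 4, nat_lit 2, nat_lit 0, nat_lit 4, nat_lit 0, nat_lit 1, nat_lit 0, nat_lit 1, nat_lit 1, nat_lit 0]])) (.leaf ((nat_lit 1), [], [[nat_lit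 1, nat_lit 0, nat_lit 1, nat_lit 4, nat_lit 2, nat_lit 2, nat_lit 3, nat_lit 1], [nat_lit 0, nat_lit 4, nat_lit 0, nat_lit 1, nat_lit 4, nat_lit 0, nat_lit 3, nat_lit 2, nat_lit 2, nat_lit 3], [nat_lit 2, nat_lit 2, nat_lit 0, nat_lit 99, nat_lit 99, nat_lit 4, nat_lit 1, nat_lit 0, nat_lit 2, nat_lit 4, nat_lit 2, nat_lit 0, nat_lit 2, nat_lit 3, nat_lit 0]]))) (.node (nat_lit 213) (.leaf ((nat_lit 1), [], [[nat_lit 1, nat_lit 0, nat_lit 1, nat_lit 4, nat_lit 2, nat_lit 2, nat_lit 3, nat_lit 1], [nat_lit 0, nat_lit 4, nat_lit 0, nat_lit 1, nat_lit 4, nat_lit 0, nat_lit 3, nat_lit 2, nat_lit 2, nat_lit 3], [nat_lit 1, nat_lit 3, nat_lit 99, nat_lit 3, nat_lit 99, nat_lit 2, nat_lit 3, nat_lit 0, nat_lit 4, nat_lit 1, nat_lit 0, nat_lit 3, nat_lit 1]])) (.node (nat_lit 214) (.leaf ((nat_lit 1), [], [[nat_lit 1, nat_lit 0, nat_lit 1, nat_lit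 4, nat_lit 2, nat_lit 2, nat_lit 3, nat_lit 1], [nat_lit 0, nat_lit 4, nat_lit 0, nat_lit 1, nat_lit 4, nat_lit 0, nat_lit 3, nat_lit 2, nat_lit 2, nat_lit 3], [nat_lit 2, nat_lit 99, nat_lit 4, nat_lit 0, nat_lit 1, nat_lit 4, nat_lit 0, nat_lit 2, nat_lit 0, nat_lit 3, nat_lit 0]])) (.leaf ((nat_lit 1), [], [[nat_lit 1, nat_lit 0, nat_lit 1, nat_lit 4, nat_lit 2, nat_lit 2, nat_lit 3, nat_lit 1], [nat_lit 0, nat_lit 4, nat_lit 0, nat_lit 1, nat_lit 4, nat_lit 0, nat_lit 3, nat_lit 2, nat_lit 2, nat_lit 3], [nat_lit 1, nat_lit 1, nat_lit 0, nat_lit 99, nat_lit 99, nat_lit 4, nat_lit 3, nat_lit 2, nat_lit 2, nat_lit 4, nat_lit 3, nat_lit 0, nat_lit 2]])))))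
 (.node (nat_lit 217) (.node (nat_lit 216) (.leaf ((nat_lit 1), [], [[nat_lit 1, nat_lit 0, nat_lit 1, nat_lit 4, nat_lit 2, nat_lit 2, nat_lit 3, nat_lit 1], [nat_lit 0, nat_lit 4, nat_lit 0, nat_lit 1, nat_lit 4, nat_lit 0, nat_lit 3, nat_lit 2, nat_lit 2, nat_lit 3], [nat_lit 3, nat_lit 99, nat_lit 99, nat_lit 0, nat_lit 4, nat_lit 0, nat_lit 4, nat_lit 0, nat_lit 2, nat_lit 0, nat_lit 3, nat_lit 2, nat_lit 0]])) (.leaf ((nat_lit 1), [], [[nat_lit 1, nat_lit 0, nat_lit 1, nat_lit 4, nat_lit 2, nat_lit 2, nat_lit 3, nat_lit 1], [nat_lit 0, nat_lit 4, nat_lit 0, nat_lit 1, nat_lit 4, nat_lit 0, nat_lit 3, nat_lit 2, nat_lit 2, nat_lit 3], [nat_lit 2, nat_lit 4, nat_lit 2, nat_lit 0, nat_lit 99, nat_lit 4, nat_lit 1, nat_lit 0, nat_lit 1, nat_lit 4, nat_lit 0, nat_lit 1, nat_lit 3, nat_lit 2, nat_lit 2, nat_lit 0]]))) (.node (nat_lit 218)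 (.leaf ((nat_lit 1), [], [[nat_lit 1, nat_lit 0, nat_lit 1, nat_lit 4, nat_lit 2, nat_lit 2, nat_lit 3, nat_lit 1], [nat_lit 0, nat_lit 4, nat_lit 0, nat_lit 1, nat_lit 4, nat_lit 0, nat_lit 3, nat_lit 2, nat_lit 2, nat_lit 3], [nat_lit 4, nat_lit 99, nat_lit 3, nat_lit 0, nat_lit 99, nat_lit 3, nat_lit 4, nat_lit 2, nat_lit 3, nat_lit 0, nat_lit 4, nat_lit 1, nat_lit 1, nat_lit 0, nat_lit 2]])) (.node (nat_lit 219) (.leaf ((nat_lit 1), [], [[nat_lit 1, nat_lit 0, nat_lit 1, nat_lit 4, nat_lit 2, nat_lit 2, nat_lit 3, nat_lit 1], [nat_lit 0, nat_lit 4, nat_lit 0, nat_lit 1, nat_lit 4, nat_lit 0, nat_lit 3, nat_lit 2, nat_lit 2, nat_lit 3], [nat_lit 4, nat_lit 1, nat_lit 4, nat_lit 99, nat_lit 2, nat_lit 99, nat_lit 3, nat_lit 4, nat_lit 3, nat_lit 0, nat_lit 4, nat_lit 1, nat_lit 1, nat_lit 0, nat_lit 3, nat_lit 0]])) (.leaf ((nat_lit 1),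 [], [[nat_lit 1, nat_lit 0, nat_lit 1, nat_lit 4, nat_lit 2, nat_lit 2, nat_lit 3, nat_lit 1], [nat_lit 0, nat_lit 4, nat_lit 0, nat_lit 1, nat_lit 4, nat_lit 0, nat_lit 3, nat_lit 2, nat_lit 2, nat_lit 3], [nat_lit 2, nat_lit 4, nat_lit 3, nat_lit 99, nat_lit 2, nat_lit 0, nat_lit 4, nat_lit 2, nat_lit 0, nat_lit 1, nat_lit 1, nat_lit 3, nat_lit 2]]))))))
 (.node (nat_lit 225) (.node (nat_lit 222) (.node (nat_lit 221) (.leaf ((nat_lit 1), [], [[nat_lit 1, nat_lit 0, nat_lit 1, nat_lit 4, nat_lit 2, nat_lit 2, nat_lit 3, nat_lit 1], [nat_lit 0, nat_lit 4, nat_lit 0, nat_lit 1, nat_lit 4, nat_lit 0, nat_lit 3, nat_lit 2, nat_lit 2, nat_lit 3], [nat_lit 1, nat_lit 99, nat_lit 99, nat_lit 3, nat_lit 4, nat_lit 2, nat_lit 3, nat_lit 0, nat_lit 4, nat_lit 2, nat_lit 0, nat_lit 2, nat_lit 3, nat_lit 2, nat_lit 2, nat_lit 0]])) (.leaf ((nat_lit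 1), [], [[nat_lit 1, nat_lit 0, nat_lit 1, nat_lit 4, nat_lit 2, nat_lit 2, nat_lit 3, nat_lit 1], [nat_lit 0, nat_lit 4, nat_lit 0, nat_lit 1, nat_lit 4, nat_lit 0, nat_lit 3, nat_lit 2, nat_lit 2, nat_lit 3], [nat_lit 4, nat_lit 99, nat_lit 99, nat_lit 4, nat_lit 0, nat_lit 4, nat_lit 1, nat_lit 1, nat_lit 3, nat_lit 2, nat_lit 2, nat_lit 0]]))) (.node (nat_lit 223) (.leaf ((nat_lit 1), [], [[nat_lit 1, nat_lit 0, nat_lit 1, nat_lit 4, nat_lit 2, nat_lit 2, nat_lit 3, nat_lit 1], [nat_lit 0, nat_lit 4, nat_lit 0, nat_lit 1, nat_lit 4, nat_lit 0, nat_lit 3, nat_lit 2, nat_lit 2, nat_lit 3], [nat_lit 0, nat_lit 1, nat_lit 99, nat_lit 99, nat_lit 99, nat_lit 2, nat_lit 4, nat_lit 3, nat_lit 0, nat_lit 4, nat_lit 0, nat_lit 1]])) (.node (nat_lit 224) (.leaf ((nat_lit 1), [], [[nat_lit 1, nat_lit 0, nat_lit 1, nat_lit 4, nat_lit 2, nat_lit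 2, nat_lit 3, nat_lit 1], [nat_lit 0, nat_lit 4, nat_lit 0, nat_lit 1, nat_lit 4, nat_lit 0, nat_lit 3, nat_lit 2, nat_lit 2, nat_lit 3], [nat_lit 1, nat_lit 99, nat_lit 0, nat_lit 99, nat_lit 2, nat_lit 3, nat_lit 2, nat_lit 0, nat_lit 4, nat_lit 2, nat_lit 2, nat_lit 3, nat_lit 1]])) (.leaf ((nat_lit 4), [nat_lit 8, nat_lit 0, nat_lit 8, nat_lit 9, nat_lit 6, nat_lit 3, nat_lit 8, nat_lit 7, nat_lit 6, nat_lit 7, nat_lit 4, nat_lit 7, nat_lit 0], [[nat_lit 99, nat_lit 99]])))))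
 (.node (nat_lit 228) (.node (nat_lit 226) (.leaf ((nat_lit 4), [nat_lit 9, nat_lit 7, nat_lit 6, nat_lit 1, nat_lit 8, nat_lit 7, nat_lit 6, nat_lit 1, nat_lit 7, nat_lit 1, nat_lit 6, nat_lit 2, nat_lit 1], [[nat_lit 99]])) (.node (nat_lit 227) (.leaf ((nat_lit 4), [nat_lit 4, nat_lit 7, nat_lit 8, nat_lit 9, nat_lit 7, nat_lit 8, nat_lit 4, nat_lit 8, nat_lit 3, nat_lit 5, nat_lit 1, nat_lit 7, nat_lit 5, nat_lit 0], [[nat_lit 3, nat_lit 99, nat_lit 1]])) (.leaf ((nat_lit 4), [nat_lit 3, nat_lit 6, nat_lit 9, nat_lit 0, nat_lit 9, nat_lit 4, nat_lit 0, nat_lit 4, nat_lit 8, nat_lit 0, nat_lit 7, nat_lit 2, nat_lit 1], [[nat_lit 2, nat_lit 99, nat_lit 0, nat_lit 2, nat_lit 99, nat_lit 0]])))) (.node (nat_lit 229) (.leaf ((nat_lit 4), [nat_lit 7, nat_lit 8, nat_lit 1, nat_lit 9, nat_lit 5, nat_lit 8, nat_lit 1, nat_lit 8, nat_lit 5, nat_lit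 7, nat_lit 4, nat_lit 7, nat_lit 3, nat_lit 5], [[nat_lit 99, nat_lit 4]])) (.node (nat_lit 230) (.leaf ((nat_lit 4), [nat_lit 7, nat_lit 9, nat_lit 5, nat_lit 2, nat_lit 9, nat_lit 8, nat_lit 1, nat_lit 7, nat_lit 4, nat_lit 4, nat_lit 8, nat_lit 4, nat_lit 4, nat_lit 7, nat_lit 3, nat_lit 5, nat_lit 1], [[nat_lit 99, nat_lit 2, nat_lit 99, nat_lit 2]])) (.leaf ((nat_lit 4), [nat_lit 3, nat_lit 1, nat_lit 9, nat_lit 6, nat_lit 2, nat_lit 9, nat_lit 0, nat_lit 4, nat_lit 8, nat_lit 7, nat_lit 4, nat_lit 7, nat_lit 0, nat_lit 6, nat_lit 2, nat_lit 1], [[nat_lit 99, nat_lit 3, nat_lit 99, nat_lit 3]])))))))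
 (.node (nat_lit 241) (.node (nat_lit 236) (.node (nat_lit 233) (.node (nat_lit 232) (.leaf ((nat_lit 4), [nat_lit 0, nat_lit 8, nat_lit 9, nat_lit 8, nat_lit 9, nat_lit 0, nat_lit 7, nat_lit 4], [[nat_lit 99, nat_lit 99]])) (.leaf ((nat_lit 4), [nat_lit 9, nat_lit 0, nat_lit 8, nat_lit 4, nat_lit 9, nat_lit 0, nat_lit 4, nat_lit 7, nat_lit 8, nat_lit 3, nat_lit 7, nat_lit 6, nat_lit 4], [[nat_lit 99, nat_lit 1, nat_lit 0]]))) (.node (nat_lit 234) (.leaf ((nat_lit 4), [nat_lit 5, nat_lit 4, nat_lit 8, nat_lit 7, nat_lit 9, nat_lit 1, nat_lit 8, nat_lit 7, nat_lit 4, nat_lit 4, nat_lit 8, nat_lit 7, nat_lit 4, nat_lit 7, nat_lit 5, nat_lit 0], [[nat_lit 4, nat_lit 99, nat_lit 0]])) (.node (nat_lit 235) (.leaf ((nat_lit 4), [nat_lit 8, nat_lit 0, nat_lit 9, nat_lit 0, nat_lit 9, nat_lit 6, nat_lit 8, nat_lit 4, nat_lit 8, nat_lit 7, nat_lit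 5, nat_lit 3, nat_lit 7, nat_lit 6, nat_lit 3, nat_lit 1], [[nat_lit 99, nat_lit 0]])) (.leaf ((nat_lit 4), [nat_lit 5, nat_lit 9, nat_lit 3, nat_lit 9, nat_lit 5, nat_lit 7, nat_lit 8, nat_lit 4, nat_lit 8, nat_lit 1, nat_lit 4, nat_lit 0, nat_lit 7, nat_lit 5, nat_lit 1], [[nat_lit 99]])))))
 (.node (nat_lit 238) (.node (nat_lit 237) (.leaf ((nat_lit 4), [nat_lit 6, nat_lit 9, nat_lit 8, nat_lit 9, nat_lit 6, nat_lit 8, nat_lit 5, nat_lit 8, nat_lit 3, nat_lit 7, nat_lit 3, nat_lit 5, nat_lit 1], [[nat_lit 99, nat_lit 4, nat_lit 99, nat_lit 4]])) (.leaf ((nat_lit 4), [nat_lit 2, nat_lit 4, nat_lit 7, nat_lit 9, nat_lit 8, nat_lit 4, nat_lit 4, nat_lit 8, nat_lit 5, nat_lit 4, nat_lit 7, nat_lit 0, nat_lit 4, nat_lit 2, nat_lit 1], [[nat_lit 99, nat_lit 3, nat_lit 99, nat_lit 3]]))) (.node (nat_lit 239) (.leaf ((nat_lit 4), [nat_lit 9,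 nat_lit 7, nat_lit 3, nat_lit 9, nat_lit 4, nat_lit 7, nat_lit 5, nat_lit 8, nat_lit 1, nat_lit 6, nat_lit 7, nat_lit 0, nat_lit 4], [[nat_lit 99, nat_lit 0, nat_lit 99, nat_lit 0]])) (.node (nat_lit 240) (.leaf ((nat_lit 4), [nat_lit 0, nat_lit 9, nat_lit 6, nat_lit 1, nat_lit 9, nat_lit 8, nat_lit 6, nat_lit 8, nat_lit 4, nat_lit 7, nat_lit 3, nat_lit 0, nat_lit 7, nat_lit 5, nat_lit 2], [[nat_lit 99, nat_lit 4, nat_lit 99, nat_lit 4]])) (.leaf ((nat_lit 4), [nat_lit 1, nat_lit 9, nat_lit 8, nat_lit 0, nat_lit 9, nat_lit 7, nat_lit 8, nat_lit 4, nat_lit 8, nat_lit 3, nat_lit 7, nat_lit 3, nat_lit 7, nat_lit 0, nat_lit 3, nat_lit 0], [[nat_lit 3, nat_lit 99, nat_lit 0]]))))))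
 (.node (nat_lit 246) (.node (nat_lit 243) (.node (nat_lit 242) (.leaf ((nat_lit 4), [nat_lit 9, nat_lit 8, nat_lit 9, nat_lit 6, nat_lit 0, nat_lit 8, nat_lit 3, nat_lit 8, nat_lit 4], [[nat_lit 99, nat_lit 0]])) (.leaf ((nat_lit 4), [nat_lit 8, nat_lit 7, nat_lit 8, nat_lit 4, nat_lit 9, nat_lit 1, nat_lit 8, nat_lit 6, nat_lit 4, nat_lit 8, nat_lit 0, nat_lit 6, nat_lit 0], [[nat_lit 99, nat_lit 1, nat_lit 99, nat_lit 1]]))) (.node (nat_lit 244) (.leaf ((nat_lit 4), [nat_lit 9, nat_lit 7, nat_lit 8, nat_lit 6, nat_lit 9, nat_lit 6, nat_lit 8, nat_lit 7, nat_lit 8, nat_lit 6, nat_lit 6, nat_lit 0, nat_lit 7, nat_lit 6, nat_lit 4, nat_lit 6], [[nat_lit 99]])) (.node (nat_lit 245) (.leaf ((nat_lit 4), [nat_lit 6, nat_lit 2, nat_lit 9, nat_lit 6, nat_lit 8, nat_lit 0, nat_lit 4, nat_lit 8, nat_lit 6, nat_lit 4, nat_lit 1, nat_lit 7, nat_lit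 6, nat_lit 6, nat_lit 2], [[nat_lit 99, nat_lit 1]])) (.leaf ((nat_lit 4), [nat_lit 8, nat_lit 7, nat_lit 4, nat_lit 9, nat_lit 8, nat_lit 7, nat_lit 8, nat_lit 3, nat_lit 8, nat_lit 5, nat_lit 7, nat_lit 4, nat_lit 7, nat_lit 6, nat_lit 3, nat_lit 2], [[nat_lit 99, nat_lit 4, nat_lit 0]])))))
 (.node (nat_lit 249) (.node (nat_lit 247) (.leaf ((nat_lit 4), [nat_lit 8, nat_lit 6, nat_lit 7, nat_lit 8, nat_lit 9, nat_lit 8, nat_lit 5, nat_lit 4, nat_lit 8, nat_lit 7, nat_lit 6, nat_lit 3, nat_lit 7, nat_lit 0], [[nat_lit 99, nat_lit 99]])) (.node (nat_lit 248) (.leaf ((nat_lit 4), [nat_lit 4, nat_lit 9, nat_lit 6, nat_lit 1, nat_lit 9, nat_lit 8, nat_lit 6, nat_lit 8, nat_lit 3, nat_lit 1, nat_lit 4, nat_lit 7, nat_lit 1, nat_lit 4, nat_lit 2], [[nat_lit 99, nat_lit 0, nat_lit 99, nat_lit 0]])) (.leaf ((nat_lit 4), [nat_lit 3, nat_lit 9,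 nat_lit 4, nat_lit 2, nat_lit 9, nat_lit 7, nat_lit 8, nat_lit 5, nat_lit 7, nat_lit 8, nat_lit 7, nat_lit 3, nat_lit 5], [[nat_lit 99]])))) (.node (nat_lit 250) (.leaf ((nat_lit 4), [nat_lit 0, nat_lit 7, nat_lit 6, nat_lit 9, nat_lit 5, nat_lit 8, nat_lit 1, nat_lit 8, nat_lit 3, nat_lit 0, nat_lit 7, nat_lit 2, nat_lit 0], [[nat_lit 99, nat_lit 0, nat_lit 99, nat_lit 0]])) (.node (nat_lit 251) (.leaf ((nat_lit 4), [nat_lit 4, nat_lit 5, nat_lit 9, nat_lit 0, nat_lit 9, nat_lit 8, nat_lit 7, nat_lit 8, nat_lit 1, nat_lit 6, nat_lit 7, nat_lit 0, nat_lit 4, nat_lit 0], [[nat_lit 99]])) (.leaf ((nat_lit 4), [nat_lit 4, nat_lit 8, nat_lit 1, nat_lit 9, nat_lit 1, nat_lit 9, nat_lit 5, nat_lit 4, nat_lit 8, nat_lit 4, nat_lit 8, nat_lit 7, nat_lit 4, nat_lit 0, nat_lit 7, nat_lit 6], [[nat_lit 99]])))))))))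
 (.node (nat_lit 294) (.node (nat_lit 273) (.node (nat_lit 262) (.node (nat_lit 257) (.node (nat_lit 254) (.node (nat_lit 253) (.leaf ((nat_lit 4), [nat_lit 7, nat_lit 5, nat_lit 2, nat_lit 9, nat_lit 3, nat_lit 7, nat_lit 8, nat_lit 7, nat_lit 2, nat_lit 6, nat_lit 7, nat_lit 3, nat_lit 2], [[nat_lit 99, nat_lit 0]])) (.leaf ((nat_lit 4), [nat_lit 7, nat_lit 3, nat_lit 9, nat_lit 3, nat_lit 1, nat_lit 9, nat_lit 7, nat_lit 1, nat_lit 8, nat_lit 6, nat_lit 8, nat_lit 4, nat_lit 7, nat_lit 6, nat_lit 0], [[nat_lit 4, nat_lit 99, nat_lit 0, nat_lit 4, nat_lit 99, nat_lit 0]]))) (.node (nat_lit 255) (.leaf ((nat_lit 4), [nat_lit 8, nat_lit 7, nat_lit 0, nat_lit 6, nat_lit 9, nat_lit 4, nat_lit 7, nat_lit 5, nat_lit 8, nat_lit 0, nat_lit 8, nat_lit 4, nat_lit 7, nat_lit 0, nat_lit 5, nat_lit 1], [[nat_lit 99, nat_lit 1]])) (.node (nat_lit 256)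 (.leaf ((nat_lit 4), [nat_lit 6, nat_lit 8, nat_lit 9, nat_lit 3, nat_lit 1, nat_lit 9, nat_lit 8, nat_lit 6, nat_lit 8, nat_lit 1, nat_lit 8, nat_lit 0, nat_lit 7, nat_lit 1, nat_lit 5], [[nat_lit 99, nat_lit 1]])) (.leaf ((nat_lit 4), [nat_lit 6, nat_lit 8, nat_lit 7, nat_lit 9, nat_lit 7, nat_lit 6, nat_lit 4, nat_lit 8, nat_lit 6, nat_lit 1, nat_lit 7, nat_lit 4, nat_lit 5], [[nat_lit 99, nat_lit 0, nat_lit 99, nat_lit 0]])))))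
 (.node (nat_lit 259) (.node (nat_lit 258) (.leaf ((nat_lit 4), [nat_lit 9, nat_lit 4, nat_lit 2, nat_lit 9, nat_lit 1, nat_lit 6, nat_lit 8, nat_lit 3, nat_lit 8, nat_lit 4, nat_lit 7, nat_lit 3, nat_lit 5, nat_lit 3, nat_lit 0], [[nat_lit 99, nat_lit 99]])) (.leaf ((nat_lit 4), [nat_lit 8, nat_lit 9, nat_lit 8, nat_lit 9, nat_lit 1, nat_lit 7, nat_lit 6, nat_lit 8, nat_lit 0, nat_lit 8, nat_lit 5, nat_lit 7, nat_lit 3, nat_lit 0, nat_lit 7], [[nat_lit 4, nat_lit 99, nat_lit 0, nat_lit 4, nat_lit 99, nat_lit 0]]))) (.node (nat_lit 260) (.leaf ((nat_lit 4), [nat_lit 4, nat_lit 9, nat_lit 5, nat_lit 2, nat_lit 9, nat_lit 3, nat_lit 8, nat_lit 7, nat_lit 8, nat_lit 4, nat_lit 8, nat_lit 1, nat_lit 6, nat_lit 7, nat_lit 1], [[nat_lit 99, nat_lit 2]])) (.node (nat_lit 261) (.leaf ((nat_lit 4), [nat_lit 0, nat_lit 9, nat_lit 8, nat_lit 6, nat_lit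 8, nat_lit 0, nat_lit 8, nat_lit 7, nat_lit 3, nat_lit 0, nat_lit 7, nat_lit 6, nat_lit 2], [[nat_lit 99, nat_lit 2]])) (.leaf ((nat_lit 4), [nat_lit 1, nat_lit 9, nat_lit 6, nat_lit 7, nat_lit 0, nat_lit 9, nat_lit 7, nat_lit 8, nat_lit 7, nat_lit 4, nat_lit 8, nat_lit 6, nat_lit 6, nat_lit 2, nat_lit 1], [[nat_lit 99, nat_lit 4]]))))))
 (.node (nat_lit 267) (.node (nat_lit 264) (.node (nat_lit 263) (.leaf ((nat_lit 4), [nat_lit 0, nat_lit 9, nat_lit 0, nat_lit 9, nat_lit 5, nat_lit 8, nat_lit 3, nat_lit 8, nat_lit 1, nat_lit 4, nat_lit 7, nat_lit 3, nat_lit 1, nat_lit 4], [[nat_lit 99, nat_lit 0, nat_lit 99, nat_lit 0]])) (.leaf ((nat_lit 4), [nat_lit 7, nat_lit 8, nat_lit 2, nat_lit 1, nat_lit 9, nat_lit 5, nat_lit 7, nat_lit 3, nat_lit 8, nat_lit 1, nat_lit 8, nat_lit 7, nat_lit 1, nat_lit 5, nat_lit 1], [[nat_lit 99, nat_lit 4]])))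 (.node (nat_lit 265) (.leaf ((nat_lit 4), [nat_lit 7, nat_lit 0, nat_lit 9, nat_lit 8, nat_lit 7, nat_lit 8, nat_lit 0, nat_lit 8, nat_lit 5, nat_lit 7, nat_lit 3, nat_lit 7, nat_lit 6, nat_lit 1], [[nat_lit 99, nat_lit 2]])) (.node (nat_lit 266) (.leaf ((nat_lit 4), [nat_lit 3, nat_lit 7, nat_lit 9, nat_lit 4, nat_lit 8, nat_lit 7, nat_lit 8, nat_lit 0, nat_lit 8, nat_lit 3, nat_lit 6, nat_lit 3, nat_lit 2, nat_lit 1], [[nat_lit 99, nat_lit 0, nat_lit 99, nat_lit 0]])) (.leaf ((nat_lit 4), [nat_lit 7, nat_lit 2, nat_lit 9, nat_lit 8, nat_lit 4, nat_lit 4, nat_lit 1, nat_lit 8, nat_lit 5, nat_lit 3, nat_lit 0, nat_lit 7, nat_lit 5, nat_lit 0], [[nat_lit 4, nat_lit 99, nat_lit 1]])))))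
 (.node (nat_lit 270) (.node (nat_lit 268) (.leaf ((nat_lit 4), [nat_lit 7, nat_lit 1, nat_lit 3, nat_lit 1, nat_lit 8, nat_lit 6, nat_lit 3, nat_lit 7, nat_lit 3, nat_lit 0, nat_lit 3, nat_lit 2], [[nat_lit 99, nat_lit 3, nat_lit 0, nat_lit 99, nat_lit 3, nat_lit 0]])) (.node (nat_lit 269) (.leaf ((nat_lit 4), [nat_lit 0, nat_lit 6, nat_lit 9, nat_lit 3, nat_lit 1, nat_lit 9, nat_lit 8, nat_lit 4, nat_lit 8, nat_lit 7, nat_lit 8, nat_lit 1, nat_lit 7, nat_lit 5, nat_lit 3], [[nat_lit 99, nat_lit 99]])) (.leaf ((nat_lit 4), [nat_lit 3, nat_lit 8, nat_lit 7, nat_lit 9, nat_lit 8, nat_lit 1, nat_lit 7, nat_lit 3, nat_lit 1, nat_lit 8, nat_lit 1, nat_lit 3, nat_lit 7, nat_lit 5, nat_lit 3, nat_lit 1], [[nat_lit 99, nat_lit 4, nat_lit 99, nat_lit 4]])))) (.node (nat_lit 271) (.leaf ((nat_lit 4), [nat_lit 6, nat_lit 8, nat_lit 9, nat_lit 1,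 nat_lit 7, nat_lit 4, nat_lit 8, nat_lit 3, nat_lit 8, nat_lit 7, nat_lit 4, nat_lit 0, nat_lit 4, nat_lit 2, nat_lit 0], [[nat_lit 99]])) (.node (nat_lit 272) (.leaf ((nat_lit 4), [nat_lit 4, nat_lit 6, nat_lit 1, nat_lit 9, nat_lit 6, nat_lit 8, nat_lit 7, nat_lit 4, nat_lit 8, nat_lit 4, nat_lit 0, nat_lit 7, nat_lit 6, nat_lit 1], [[nat_lit 99, nat_lit 0]])) (.leaf ((nat_lit 4), [nat_lit 9, nat_lit 3, nat_lit 9, nat_lit 7, nat_lit 3, nat_lit 8, nat_lit 5, nat_lit 8, nat_lit 7, nat_lit 0, nat_lit 4], [[nat_lit 99, nat_lit 0, nat_lit 99, nat_lit 0]])))))))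
 (.node (nat_lit 283) (.node (nat_lit 278) (.node (nat_lit 275) (.node (nat_lit 274) (.leaf ((nat_lit 4), [nat_lit 8, nat_lit 3, nat_lit 1, nat_lit 9, nat_lit 8, nat_lit 3, nat_lit 8, nat_lit 7, nat_lit 1, nat_lit 4, nat_lit 7, nat_lit 3, nat_lit 2, nat_lit 1], [[nat_lit 99, nat_lit 3, nat_lit 99, nat_lit 3]])) (.leaf ((nat_lit 4), [nat_lit 8, nat_lit 7, nat_lit 4, nat_lit 9, nat_lit 5, nat_lit 4, nat_lit 8, nat_lit 4, nat_lit 4, nat_lit 7, nat_lit 4, nat_lit 7, nat_lit 4, nat_lit 2, nat_lit 1], [[nat_lit 99]]))) (.node (nat_lit 276) (.leaf ((nat_lit 4), [nat_lit 7, nat_lit 5, nat_lit 2, nat_lit 9, nat_lit 7, nat_lit 3, nat_lit 8, nat_lit 0, nat_lit 8, nat_lit 7, nat_lit 5, nat_lit 3, nat_lit 7, nat_lit 4, nat_lit 1, nat_lit 4], [[nat_lit 99, nat_lit 99, nat_lit 1]])) (.node (nat_lit 277) (.leaf ((nat_lit 4), [nat_lit 9, nat_lit 6, nat_lit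 1, nat_lit 8, nat_lit 9, nat_lit 8, nat_lit 3, nat_lit 8, nat_lit 0, nat_lit 8, nat_lit 1, nat_lit 3, nat_lit 7, nat_lit 1], [[nat_lit 99, nat_lit 2]])) (.leaf ((nat_lit 4), [nat_lit 3, nat_lit 7, nat_lit 4, nat_lit 9, nat_lit 1, nat_lit 7, nat_lit 1, nat_lit 8, nat_lit 4, nat_lit 8, nat_lit 6, nat_lit 6, nat_lit 0, nat_lit 7, nat_lit 2], [[nat_lit 1, nat_lit 99, nat_lit 0, nat_lit 1, nat_lit 99, nat_lit 0]])))))
 (.node (nat_lit 280) (.node (nat_lit 279) (.leaf ((nat_lit 4), [nat_lit 4, nat_lit 7, nat_lit 9, nat_lit 6, nat_lit 4, nat_lit 9, nat_lit 7, nat_lit 4, nat_lit 8, nat_lit 3, nat_lit 7, nat_lit 6, nat_lit 7, nat_lit 0, nat_lit 6, nat_lit 1], [[nat_lit 99, nat_lit 2, nat_lit 99, nat_lit 2]])) (.leaf ((nat_lit 4), [nat_lit 9, nat_lit 3, nat_lit 7, nat_lit 8, nat_lit 9, nat_lit 1, nat_lit 4, nat_lit 8, nat_lit 4, nat_lit 8, nat_lit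 0, nat_lit 7, nat_lit 6, nat_lit 6], [[nat_lit 99, nat_lit 4, nat_lit 99, nat_lit 4]]))) (.node (nat_lit 281) (.leaf ((nat_lit 4), [nat_lit 0, nat_lit 8, nat_lit 2, nat_lit 9, nat_lit 3, nat_lit 1, nat_lit 7, nat_lit 4, nat_lit 8, nat_lit 7, nat_lit 3, nat_lit 5, nat_lit 2, nat_lit 0], [[nat_lit 99, nat_lit 0, nat_lit 99, nat_lit 0]])) (.node (nat_lit 282) (.leaf ((nat_lit 4), [nat_lit 9, nat_lit 8, nat_lit 0, nat_lit 9, nat_lit 3, nat_lit 8, nat_lit 0, nat_lit 8, nat_lit 7, nat_lit 4, nat_lit 0, nat_lit 7, nat_lit 6], [[nat_lit 99, nat_lit 2]])) (.leaf ((nat_lit 4), [nat_lit 5, nat_lit 9, nat_lit 0, nat_lit 9, nat_lit 1, nat_lit 8, nat_lit 5, nat_lit 1, nat_lit 7, nat_lit 5, nat_lit 4, nat_lit 5, nat_lit 1], [[nat_lit 3, nat_lit 99, nat_lit 2]]))))))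
 (.node (nat_lit 288) (.node (nat_lit 285) (.node (nat_lit 284) (.leaf ((nat_lit 4), [nat_lit 1, nat_lit 8, nat_lit 7, nat_lit 4, nat_lit 9, nat_lit 7, nat_lit 1, nat_lit 4, nat_lit 0, nat_lit 7, nat_lit 5, nat_lit 2], [[nat_lit 99, nat_lit 2, nat_lit 0, nat_lit 99, nat_lit 2, nat_lit 0]])) (.leaf ((nat_lit 4), [nat_lit 0, nat_lit 7, nat_lit 3, nat_lit 9, nat_lit 8, nat_lit 7, nat_lit 8, nat_lit 0, nat_lit 8, nat_lit 1, nat_lit 3, nat_lit 7, nat_lit 4, nat_lit 6], [[nat_lit 99, nat_lit 1, nat_lit 1]]))) (.node (nat_lit 286) (.leaf ((nat_lit 4), [nat_lit 9, nat_lit 6, nat_lit 4, nat_lit 9, nat_lit 5, nat_lit 8, nat_lit 5, nat_lit 1, nat_lit 7, nat_lit 4, nat_lit 7, nat_lit 4], [[nat_lit 99, nat_lit 4, nat_lit 99, nat_lit 4]])) (.node (nat_lit 287) (.leaf ((nat_lit 4), [nat_lit 6, nat_lit 4, nat_lit 9, nat_lit 7, nat_lit 5, nat_lit 4, nat_lit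 8, nat_lit 1, nat_lit 3, nat_lit 7, nat_lit 4, nat_lit 7, nat_lit 5, nat_lit 2], [[nat_lit 99, nat_lit 0]])) (.leaf ((nat_lit 4), [nat_lit 3, nat_lit 8, nat_lit 3, nat_lit 7, nat_lit 9, nat_lit 8, nat_lit 1, nat_lit 8, nat_lit 1, nat_lit 8, nat_lit 3, nat_lit 0, nat_lit 7, nat_lit 6, nat_lit 2], [[nat_lit 99, nat_lit 99]])))))
 (.node (nat_lit 291) (.node (nat_lit 289) (.leaf ((nat_lit 4), [nat_lit 4, nat_lit 2, nat_lit 9, nat_lit 0, nat_lit 9, nat_lit 0, nat_lit 7, nat_lit 2, nat_lit 6, nat_lit 7, nat_lit 2, nat_lit 4, nat_lit 4, nat_lit 2], [[nat_lit 4, nat_lit 99, nat_lit 0, nat_lit 4, nat_lit 99, nat_lit 0]])) (.node (nat_lit 290) (.leaf ((nat_lit 4), [nat_lit 9, nat_lit 0, nat_lit 7, nat_lit 8, nat_lit 9, nat_lit 7, nat_lit 0, nat_lit 3, nat_lit 8, nat_lit 7, nat_lit 3, nat_lit 2, nat_lit 0], [[nat_lit 99, nat_lit 0, nat_lit 99, nat_lit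 0]])) (.leaf ((nat_lit 4), [nat_lit 9, nat_lit 0, nat_lit 3, nat_lit 9, nat_lit 7, nat_lit 4, nat_lit 8, nat_lit 4, nat_lit 8, nat_lit 6, nat_lit 7, nat_lit 4, nat_lit 6, nat_lit 4], [[nat_lit 99, nat_lit 99]])))) (.node (nat_lit 292) (.leaf ((nat_lit 4), [nat_lit 9, nat_lit 5, nat_lit 4, nat_lit 9, nat_lit 7, nat_lit 4, nat_lit 8, nat_lit 1, nat_lit 7, nat_lit 3, nat_lit 6, nat_lit 3], [[nat_lit 99, nat_lit 1, nat_lit 99, nat_lit 1]])) (.node (nat_lit 293) (.leaf ((nat_lit 4), [nat_lit 7, nat_lit 8, nat_lit 6, nat_lit 9, nat_lit 7, nat_lit 8, nat_lit 6, nat_lit 8, nat_lit 6, nat_lit 3, nat_lit 7, nat_lit 6, nat_lit 1], [[nat_lit 99, nat_lit 0, nat_lit 99, nat_lit 0]])) (.leaf ((nat_lit 4), [nat_lit 2, nat_lit 9, nat_lit 4, nat_lit 1, nat_lit 9, nat_lit 6, nat_lit 4, nat_lit 8, nat_lit 7, nat_lit 4, nat_lit 0, nat_lit 7, nat_lit 4, nat_lit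 5, nat_lit 0], [[nat_lit 3, nat_lit 99, nat_lit 0]]))))))))
 (.node (nat_lit 315) (.node (nat_lit 304) (.node (nat_lit 299) (.node (nat_lit 296) (.node (nat_lit 295) (.leaf ((nat_lit 4), [nat_lit 0, nat_lit 9, nat_lit 4, nat_lit 2, nat_lit 9, nat_lit 1, nat_lit 8, nat_lit 7, nat_lit 1, nat_lit 3, nat_lit 7, nat_lit 2], [[nat_lit 3, nat_lit 99, nat_lit 1]])) (.leaf ((nat_lit 4), [nat_lit 4, nat_lit 7, nat_lit 6, nat_lit 2, nat_lit 9, nat_lit 6, nat_lit 0, nat_lit 8, nat_lit 7, nat_lit 6, nat_lit 0, nat_lit 7, nat_lit 1, nat_lit 6, nat_lit 0], [[nat_lit 99, nat_lit 2, nat_lit 0]]))) (.node (nat_lit 297) (.leaf ((nat_lit 4), [nat_lit 4, nat_lit 8, nat_lit 4, nat_lit 2, nat_lit 9, nat_lit 1, nat_lit 7, nat_lit 8, nat_lit 3, nat_lit 8, nat_lit 2, nat_lit 6, nat_lit 7, nat_lit 6, nat_lit 6], [[nat_lit 99, nat_lit 1, nat_lit 99, nat_lit 1]]))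 (.node (nat_lit 298) (.leaf ((nat_lit 4), [nat_lit 0, nat_lit 7, nat_lit 6, nat_lit 9, nat_lit 5, nat_lit 7, nat_lit 4, nat_lit 8, nat_lit 4, nat_lit 8, nat_lit 4, nat_lit 6, nat_lit 4, nat_lit 7, nat_lit 1, nat_lit 3, nat_lit 2], [[nat_lit 99, nat_lit 99]])) (.leaf ((nat_lit 4), [nat_lit 9, nat_lit 4, nat_lit 8, nat_lit 1, nat_lit 9, nat_lit 4, nat_lit 4, nat_lit 7, nat_lit 8, nat_lit 7, nat_lit 2, nat_lit 6, nat_lit 7, nat_lit 3, nat_lit 5], [[nat_lit 99, nat_lit 3]])))))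
 (.node (nat_lit 301) (.node (nat_lit 300) (.leaf ((nat_lit 4), [nat_lit 7, nat_lit 6, nat_lit 9, nat_lit 3, nat_lit 1, nat_lit 9, nat_lit 0, nat_lit 7, nat_lit 6, nat_lit 8, nat_lit 7, nat_lit 3, nat_lit 1, nat_lit 4, nat_lit 1], [[nat_lit 99, nat_lit 2, nat_lit 0, nat_lit 99, nat_lit 2, nat_lit 0]])) (.leaf ((nat_lit 4), [nat_lit 0, nat_lit 4, nat_lit 8, nat_lit 1, nat_lit 9, nat_lit 7, nat_lit 6, nat_lit 8, nat_lit 6, nat_lit 8, nat_lit 4, nat_lit 1, nat_lit 4, nat_lit 7, nat_lit 4, nat_lit 4], [[nat_lit 99, nat_lit 4, nat_lit 99, nat_lit 4]]))) (.node (nat_lit 302) (.leaf ((nat_lit 4), [nat_lit 7, nat_lit 6, nat_lit 9, nat_lit 5, nat_lit 0, nat_lit 8, nat_lit 4, nat_lit 8, nat_lit 4, nat_lit 0, nat_lit 7, nat_lit 5, nat_lit 3, nat_lit 5], [[nat_lit 99, nat_lit 1, nat_lit 99, nat_lit 1]])) (.node (nat_lit 303) (.leaf ((nat_lit 4), [nat_lit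 9, nat_lit 4, nat_lit 6, nat_lit 1, nat_lit 9, nat_lit 8, nat_lit 5, nat_lit 4, nat_lit 7, nat_lit 2, nat_lit 0], [[nat_lit 99, nat_lit 1]])) (.leaf ((nat_lit 4), [nat_lit 6, nat_lit 4, nat_lit 0, nat_lit 9, nat_lit 7, nat_lit 8, nat_lit 5, nat_lit 8, nat_lit 3, nat_lit 0, nat_lit 7, nat_lit 1, nat_lit 3], [[nat_lit 99]]))))))
 (.node (nat_lit 309) (.node (nat_lit 306) (.node (nat_lit 305) (.leaf ((nat_lit 4), [nat_lit 0, nat_lit 8, nat_lit 5, nat_lit 2, nat_lit 9, nat_lit 3, nat_lit 5, nat_lit 7, nat_lit 8, nat_lit 7, nat_lit 1, nat_lit 4, nat_lit 2, nat_lit 1], [[nat_lit 99]])) (.leaf ((nat_lit 4), [nat_lit 4, nat_lit 0, nat_lit 7, nat_lit 9, nat_lit 4, nat_lit 0, nat_lit 8, nat_lit 7, nat_lit 4, nat_lit 7, nat_lit 1], [[nat_lit 99, nat_lit 2]]))) (.node (nat_lit 307) (.leaf ((nat_lit 4), [nat_lit 7, nat_lit 4, nat_lit 9, nat_lit 4, nat_lit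 4, nat_lit 1, nat_lit 8, nat_lit 5, nat_lit 7, nat_lit 6, nat_lit 4, nat_lit 7, nat_lit 0, nat_lit 6, nat_lit 1], [[nat_lit 99, nat_lit 1, nat_lit 0, nat_lit 99, nat_lit 1, nat_lit 0]])) (.node (nat_lit 308) (.leaf ((nat_lit 4), [nat_lit 6, nat_lit 3, nat_lit 1, nat_lit 9, nat_lit 7, nat_lit 6, nat_lit 1, nat_lit 8, nat_lit 4, nat_lit 5, nat_lit 1, nat_lit 7, nat_lit 4, nat_lit 1], [[nat_lit 99, nat_lit 0, nat_lit 99, nat_lit 0]])) (.leaf ((nat_lit 4), [nat_lit 6, nat_lit 1, nat_lit 9, nat_lit 6, nat_lit 6, nat_lit 8, nat_lit 1, nat_lit 7, nat_lit 5, nat_lit 4, nat_lit 5, nat_lit 2, nat_lit 1], [[nat_lit 99, nat_lit 4, nat_lit 0]])))))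
 (.node (nat_lit 312) (.node (nat_lit 310) (.leaf ((nat_lit 4), [nat_lit 0, nat_lit 8, nat_lit 2, nat_lit 9, nat_lit 4, nat_lit 7, nat_lit 8, nat_lit 4, nat_lit 8, nat_lit 0, nat_lit 7, nat_lit 2], [[nat_lit 99, nat_lit 0]])) (.node (nat_lit 311) (.leaf ((nat_lit 4), [nat_lit 3, nat_lit 7, nat_lit 3, nat_lit 9, nat_lit 5, nat_lit 3, nat_lit 1, nat_lit 8, nat_lit 6, nat_lit 4, nat_lit 6, nat_lit 2, nat_lit 1], [[nat_lit 99, nat_lit 99]])) (.leaf ((nat_lit 4), [nat_lit 1, nat_lit 6, nat_lit 9, nat_lit 6, nat_lit 9, nat_lit 7, nat_lit 8, nat_lit 7, nat_lit 3, nat_lit 0, nat_lit 7, nat_lit 0, nat_lit 6], [[nat_lit 2, nat_lit 99, nat_lit 0]])))) (.node (nat_lit 313) (.leaf ((nat_lit 4), [nat_lit 3, nat_lit 8, nat_lit 9, nat_lit 1, nat_lit 9, nat_lit 6, nat_lit 8, nat_lit 0, nat_lit 6, nat_lit 8, nat_lit 7, nat_lit 5, nat_lit 2], [[nat_lit 99,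 nat_lit 1]])) (.node (nat_lit 314) (.leaf ((nat_lit 4), [nat_lit 1, nat_lit 9, nat_lit 8, nat_lit 4, nat_lit 7, nat_lit 8, nat_lit 6, nat_lit 1, nat_lit 7, nat_lit 1, nat_lit 4], [[nat_lit 99, nat_lit 4, nat_lit 99, nat_lit 4]])) (.leaf ((nat_lit 4), [nat_lit 6, nat_lit 9, nat_lit 1, nat_lit 4, nat_lit 8, nat_lit 7, nat_lit 8, nat_lit 4, nat_lit 7, nat_lit 4, nat_lit 4, nat_lit 1], [[nat_lit 3, nat_lit 99, nat_lit 0, nat_lit 3, nat_lit 99, nat_lit 0]])))))))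
 (.node (nat_lit 325) (.node (nat_lit 320) (.node (nat_lit 317) (.node (nat_lit 316) (.leaf ((nat_lit 4), [nat_lit 3, nat_lit 7, nat_lit 4, nat_lit 9, nat_lit 6, nat_lit 0, nat_lit 8, nat_lit 0, nat_lit 7, nat_lit 5, nat_lit 1], [[nat_lit 99, nat_lit 1, nat_lit 99, nat_lit 1]])) (.leaf ((nat_lit 4), [nat_lit 8, nat_lit 3, nat_lit 9, nat_lit 8, nat_lit 5, nat_lit 8, nat_lit 6, nat_lit 7, nat_lit 6, nat_lit 0, nat_lit 7, nat_lit 0, nat_lit 6, nat_lit 2], [[nat_lit 99, nat_lit 1]]))) (.node (nat_lit 318) (.leaf ((nat_lit 4), [nat_lit 9, nat_lit 4, nat_lit 2, nat_lit 9, nat_lit 1, nat_lit 8, nat_lit 1, nat_lit 7, nat_lit 6, nat_lit 7, nat_lit 5, nat_lit 0], [[nat_lit 99, nat_lit 1, nat_lit 99, nat_lit 1]])) (.node (nat_lit 319) (.leaf ((nat_lit 4), [nat_lit 4, nat_lit 2, nat_lit 9, nat_lit 0, nat_lit 9, nat_lit 7, nat_lit 8, nat_lit 3, nat_lit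 8, nat_lit 6, nat_lit 4, nat_lit 7, nat_lit 4, nat_lit 4, nat_lit 2], [[nat_lit 99, nat_lit 1, nat_lit 1]])) (.leaf ((nat_lit 4), [nat_lit 8, nat_lit 2, nat_lit 9, nat_lit 4, nat_lit 8, nat_lit 7, nat_lit 8, nat_lit 1, nat_lit 6, nat_lit 7, nat_lit 4, nat_lit 0, nat_lit 4, nat_lit 1], [[nat_lit 99]])))))
 (.node (nat_lit 322) (.node (nat_lit 321) (.leaf ((nat_lit 4), [nat_lit 6, nat_lit 3, nat_lit 1, nat_lit 9, nat_lit 0, nat_lit 8, nat_lit 7, nat_lit 6, nat_lit 8, nat_lit 3, nat_lit 0, nat_lit 7, nat_lit 4, nat_lit 6, nat_lit 1], [[nat_lit 99, nat_lit 4, nat_lit 99, nat_lit 4]])) (.leaf ((nat_lit 4), [nat_lit 6, nat_lit 3, nat_lit 0, nat_lit 9, nat_lit 5, nat_lit 8, nat_lit 5, nat_lit 1, nat_lit 8, nat_lit 3, nat_lit 5, nat_lit 0], [[nat_lit 99, nat_lit 3, nat_lit 99, nat_lit 3]]))) (.node (nat_lit 323) (.leaf ((nat_lit 4), [nat_lit 2,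 nat_lit 6, nat_lit 8, nat_lit 9, nat_lit 8, nat_lit 7, nat_lit 8, nat_lit 6, nat_lit 0, nat_lit 7, nat_lit 1, nat_lit 6, nat_lit 0], [[nat_lit 99, nat_lit 1, nat_lit 0]])) (.node (nat_lit 324) (.leaf ((nat_lit 4), [nat_lit 9, nat_lit 0, nat_lit 3, nat_lit 9, nat_lit 8, nat_lit 7, nat_lit 8, nat_lit 1, nat_lit 8, nat_lit 0, nat_lit 7, nat_lit 1, nat_lit 3, nat_lit 2], [[nat_lit 99, nat_lit 1, nat_lit 99, nat_lit 1]])) (.leaf ((nat_lit 4), [nat_lit 5, nat_lit 9, nat_lit 1, nat_lit 9, nat_lit 6, nat_lit 0, nat_lit 8, nat_lit 3, nat_lit 8, nat_lit 5, nat_lit 7, nat_lit 4, nat_lit 7, nat_lit 0, nat_lit 5], [[nat_lit 99, nat_lit 1]]))))))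
 (.node (nat_lit 330) (.node (nat_lit 327) (.node (nat_lit 326) (.leaf ((nat_lit 4), [nat_lit 8, nat_lit 9, nat_lit 3, nat_lit 9, nat_lit 8, nat_lit 3, nat_lit 8, nat_lit 5, nat_lit 8, nat_lit 7, nat_lit 4, nat_lit 0, nat_lit 4, nat_lit 2], [[nat_lit 99, nat_lit 99]])) (.leaf ((nat_lit 4), [nat_lit 2, nat_lit 4, nat_lit 7, nat_lit 9, nat_lit 7, nat_lit 8, nat_lit 1, nat_lit 8, nat_lit 1, nat_lit 8, nat_lit 4, nat_lit 7, nat_lit 4, nat_lit 6], [[nat_lit 99, nat_lit 3, nat_lit 2]]))) (.node (nat_lit 328) (.leaf ((nat_lit 4), [nat_lit 8, nat_lit 7, nat_lit 2, nat_lit 0, nat_lit 9, nat_lit 8, nat_lit 3, nat_lit 7, nat_lit 8, nat_lit 0, nat_lit 7, nat_lit 6, nat_lit 7, nat_lit 5], [[nat_lit 99, nat_lit 1, nat_lit 99, nat_lit 1]])) (.node (nat_lit 329) (.leaf ((nat_lit 4), [nat_lit 8, nat_lit 1, nat_lit 9, nat_lit 3, nat_lit 0, nat_lit 7, nat_lit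 8, nat_lit 3, nat_lit 8, nat_lit 0, nat_lit 7, nat_lit 6, nat_lit 7, nat_lit 1, nat_lit 4, nat_lit 4], [[nat_lit 99, nat_lit 1, nat_lit 99, nat_lit 1]])) (.leaf ((nat_lit 4), [nat_lit 4, nat_lit 9, nat_lit 3, nat_lit 9, nat_lit 0, nat_lit 5, nat_lit 8, nat_lit 1, nat_lit 3, nat_lit 0], [[nat_lit 99, nat_lit 0]])))))
 (.node (nat_lit 333) (.node (nat_lit 331) (.leaf ((nat_lit 4), [nat_lit 3, nat_lit 9, nat_lit 0, nat_lit 6, nat_lit 9, nat_lit 0, nat_lit 3, nat_lit 1, nat_lit 8, nat_lit 7, nat_lit 6, nat_lit 7, nat_lit 4, nat_lit 5, nat_lit 1], [[nat_lit 99, nat_lit 0, nat_lit 99, nat_lit 0]])) (.node (nat_lit 332) (.leaf ((nat_lit 4), [nat_lit 6, nat_lit 9, nat_lit 6, nat_lit 3, nat_lit 7, nat_lit 8, nat_lit 0, nat_lit 6, nat_lit 7, nat_lit 1, nat_lit 5, nat_lit 2], [[nat_lit 99]])) (.leaf ((nat_lit 4), [nat_lit 9, nat_lit 1, nat_lit 7,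 nat_lit 6, nat_lit 8, nat_lit 5, nat_lit 7, nat_lit 3, nat_lit 7, nat_lit 6, nat_lit 1, nat_lit 4], [[nat_lit 99, nat_lit 2]])))) (.node (nat_lit 334) (.leaf ((nat_lit 4), [nat_lit 4, nat_lit 7, nat_lit 9, nat_lit 6, nat_lit 4, nat_lit 9, nat_lit 5, nat_lit 8, nat_lit 3, nat_lit 1, nat_lit 4, nat_lit 7, nat_lit 6, nat_lit 1], [[nat_lit 99, nat_lit 2, nat_lit 2]])) (.node (nat_lit 335) (.leaf ((nat_lit 4), [nat_lit 3, nat_lit 5, nat_lit 8, nat_lit 1, nat_lit 9, nat_lit 0, nat_lit 8, nat_lit 5, nat_lit 7, nat_lit 8, nat_lit 1, nat_lit 7, nat_lit 6, nat_lit 7], [[nat_lit 99, nat_lit 1, nat_lit 99, nat_lit 1]])) (.leaf ((nat_lit 4), [nat_lit 8, nat_lit 4, nat_lit 4, nat_lit 9, nat_lit 4, nat_lit 7, nat_lit 3, nat_lit 6, nat_lit 8, nat_lit 6, nat_lit 7, nat_lit 3, nat_lit 5], [[nat_lit 99, nat_lit 2, nat_lit 0]]))))))))))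
noncomputable def eCE_2 : Tr (ℕ × List ℕ × List (List ℕ)) := (.node (nat_lit 420) (.node (nat_lit 378) (.node (nat_lit 357) (.node (nat_lit 346) (.node (nat_lit 341) (.node (nat_lit 338) (.node (nat_lit 337) (.leaf ((nat_lit 4), [nat_lit 4, nat_lit 4, nat_lit 0, nat_lit 9, nat_lit 0, nat_lit 5, nat_lit 7, nat_lit 8, nat_lit 5, nat_lit 0, nat_lit 7, nat_lit 0, nat_lit 3, nat_lit 0], [[nat_lit 4, nat_lit 99, nat_lit 0]])) (.leaf ((nat_lit 4), [nat_lit 8, nat_lit 9, nat_lit 8, nat_lit 9, nat_lit 1, nat_lit 7, nat_lit 8, nat_lit 6, nat_lit 8, nat_lit 6, nat_lit 7], [[nat_lit 99, nat_lit 3, nat_lit 99, nat_lit 3]]))) (.node (nat_lit 339) (.leaf ((nat_lit 4), [nat_lit 1, nat_lit 4, nat_lit 9, nat_lit 1, nat_lit 7, nat_lit 4, nat_lit 4, nat_lit 8, nat_lit 4, nat_lit 1, nat_lit 7, nat_lit 3, nat_lit 0, nat_lit 3, nat_lit 2], [[nat_lit 99, nat_lit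 99]])) (.node (nat_lit 340) (.leaf ((nat_lit 4), [nat_lit 4, nat_lit 9, nat_lit 4, nat_lit 0, nat_lit 9, nat_lit 8, nat_lit 0, nat_lit 8, nat_lit 4, nat_lit 7, nat_lit 1, nat_lit 3], [[nat_lit 99, nat_lit 3, nat_lit 99, nat_lit 3]])) (.leaf ((nat_lit 4), [nat_lit 8, nat_lit 0, nat_lit 5, nat_lit 8, nat_lit 9, nat_lit 6, nat_lit 6, nat_lit 8, nat_lit 4, nat_lit 4, nat_lit 0, nat_lit 7, nat_lit 4, nat_lit 6, nat_lit 2], [[nat_lit 3, nat_lit 99, nat_lit 0]])))))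
 (.node (nat_lit 343) (.node (nat_lit 342) (.leaf ((nat_lit 4), [nat_lit 8, nat_lit 2, nat_lit 0, nat_lit 9, nat_lit 4, nat_lit 7, nat_lit 8, nat_lit 4, nat_lit 7, nat_lit 4, nat_lit 7, nat_lit 6, nat_lit 6, nat_lit 2, nat_lit 1], [[nat_lit 99, nat_lit 4, nat_lit 0, nat_lit 99, nat_lit 4, nat_lit 0]])) (.leaf ((nat_lit 4), [nat_lit 0, nat_lit 4, nat_lit 9, nat_lit 1, nat_lit 9, nat_lit 5, nat_lit 8, nat_lit 0, nat_lit 8, nat_lit 4, nat_lit 1, nat_lit 7, nat_lit 1, nat_lit 4], [[nat_lit 99]]))) (.node (nat_lit 344) (.leaf ((nat_lit 4), [nat_lit 8, nat_lit 9, nat_lit 0, nat_lit 9, nat_lit 6, nat_lit 8, nat_lit 6, nat_lit 4, nat_lit 8, nat_lit 5, nat_lit 3, nat_lit 7, nat_lit 5, nat_lit 2, nat_lit 1], [[nat_lit 99, nat_lit 0, nat_lit 99, nat_lit 0]])) (.node (nat_lit 345) (.leaf ((nat_lit 4), [nat_lit 6, nat_lit 7, nat_lit 8, nat_lit 4, nat_lit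 9, nat_lit 6, nat_lit 4, nat_lit 8, nat_lit 3, nat_lit 1, nat_lit 4, nat_lit 7, nat_lit 0], [[nat_lit 99, nat_lit 2, nat_lit 0, nat_lit 99, nat_lit 2, nat_lit 0]])) (.leaf ((nat_lit 4), [nat_lit 9, nat_lit 6, nat_lit 1, nat_lit 8, nat_lit 9, nat_lit 3, nat_lit 8, nat_lit 1, nat_lit 4, nat_lit 7, nat_lit 4, nat_lit 5, nat_lit 2, nat_lit 1], [[nat_lit 2, nat_lit 99, nat_lit 0]]))))))
 (.node (nat_lit 351) (.node (nat_lit 348) (.node (nat_lit 347) (.leaf ((nat_lit 4), [nat_lit 2, nat_lit 1, nat_lit 9, nat_lit 5, nat_lit 7, nat_lit 8, nat_lit 5, nat_lit 7, nat_lit 3, nat_lit 7, nat_lit 4, nat_lit 1, nat_lit 4], [[nat_lit 99, nat_lit 4]])) (.leaf ((nat_lit 4), [nat_lit 8, nat_lit 0, nat_lit 9, nat_lit 0, nat_lit 9, nat_lit 8, nat_lit 6, nat_lit 8, nat_lit 5, nat_lit 8, nat_lit 1, nat_lit 3, nat_lit 7, nat_lit 1, nat_lit 4, nat_lit 2], [[nat_lit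 3, nat_lit 99, nat_lit 0]]))) (.node (nat_lit 349) (.leaf ((nat_lit 4), [nat_lit 1, nat_lit 8, nat_lit 2, nat_lit 9, nat_lit 1, nat_lit 8, nat_lit 0, nat_lit 7, nat_lit 5, nat_lit 1, nat_lit 7, nat_lit 0, nat_lit 6, nat_lit 2], [[nat_lit 99, nat_lit 1]])) (.node (nat_lit 350) (.leaf ((nat_lit 4), [nat_lit 9, nat_lit 4, nat_lit 2, nat_lit 9, nat_lit 4, nat_lit 7, nat_lit 5, nat_lit 8, nat_lit 1, nat_lit 7, nat_lit 5, nat_lit 3, nat_lit 5], [[nat_lit 99, nat_lit 2, nat_lit 0, nat_lit 99, nat_lit 2, nat_lit 0]])) (.leaf ((nat_lit 4), [nat_lit 9, nat_lit 7, nat_lit 2, nat_lit 0, nat_lit 9, nat_lit 3, nat_lit 1, nat_lit 7, nat_lit 8, nat_lit 3, nat_lit 8, nat_lit 1, nat_lit 4], [[nat_lit 99, nat_lit 0, nat_lit 99, nat_lit 0]])))))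
 (.node (nat_lit 354) (.node (nat_lit 352) (.leaf ((nat_lit 4), [nat_lit 7, nat_lit 9, nat_lit 3, nat_lit 9, nat_lit 7, nat_lit 3, nat_lit 6, nat_lit 8, nat_lit 6, nat_lit 6, nat_lit 0, nat_lit 7, nat_lit 4, nat_lit 5, nat_lit 2], [[nat_lit 99, nat_lit 2, nat_lit 0, nat_lit 99, nat_lit 2, nat_lit 0]])) (.node (nat_lit 353) (.leaf ((nat_lit 4), [nat_lit 4, nat_lit 8, nat_lit 9, nat_lit 3, nat_lit 0, nat_lit 8, nat_lit 6, nat_lit 8, nat_lit 4, nat_lit 4, nat_lit 7, nat_lit 3], [[nat_lit 99]])) (.leaf ((nat_lit 4), [nat_lit 8, nat_lit 1, nat_lit 9, nat_lit 0, nat_lit 9, nat_lit 7, nat_lit 5, nat_lit 8, nat_lit 1, nat_lit 7, nat_lit 6, nat_lit 4, nat_lit 2, nat_lit 0], [[nat_lit 99, nat_lit 3, nat_lit 99, nat_lit 3]])))) (.node (nat_lit 355) (.leaf ((nat_lit 4), [nat_lit 9, nat_lit 7, nat_lit 0, nat_lit 9, nat_lit 6, nat_lit 8, nat_lit 7, nat_lit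 6, nat_lit 8, nat_lit 6, nat_lit 0, nat_lit 7, nat_lit 3, nat_lit 5, nat_lit 0], [[nat_lit 99, nat_lit 1]])) (.node (nat_lit 356) (.leaf ((nat_lit 4), [nat_lit 8, nat_lit 1, nat_lit 8, nat_lit 0, nat_lit 9, nat_lit 4, nat_lit 8, nat_lit 7, nat_lit 8, nat_lit 4, nat_lit 7, nat_lit 3, nat_lit 6, nat_lit 3], [[nat_lit 99, nat_lit 1, nat_lit 0]])) (.leaf ((nat_lit 4), [nat_lit 0, nat_lit 7, nat_lit 9, nat_lit 4, nat_lit 0, nat_lit 8, nat_lit 0, nat_lit 7, nat_lit 5, nat_lit 4, nat_lit 7, nat_lit 4, nat_lit 6, nat_lit 4], [[nat_lit 99]])))))))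
 (.node (nat_lit 367) (.node (nat_lit 362) (.node (nat_lit 359) (.node (nat_lit 358) (.leaf ((nat_lit 4), [nat_lit 9, nat_lit 4, nat_lit 8, nat_lit 1, nat_lit 9, nat_lit 4, nat_lit 5, nat_lit 7, nat_lit 8, nat_lit 4, nat_lit 8, nat_lit 5, nat_lit 4, nat_lit 7], [[nat_lit 99, nat_lit 0]])) (.leaf ((nat_lit 4), [nat_lit 9, nat_lit 8, nat_lit 9, nat_lit 4, nat_lit 8, nat_lit 0, nat_lit 8, nat_lit 4, nat_lit 7, nat_lit 1, nat_lit 5, nat_lit 2], [[nat_lit 99, nat_lit 2]]))) (.node (nat_lit 360) (.leaf ((nat_lit 4), [nat_lit 7, nat_lit 2, nat_lit 9, nat_lit 5, nat_lit 8, nat_lit 3, nat_lit 8, nat_lit 7, nat_lit 3, nat_lit 6, nat_lit 7, nat_lit 1, nat_lit 5], [[nat_lit 99, nat_lit 2, nat_lit 99, nat_lit 2]])) (.node (nat_lit 361) (.leaf ((nat_lit 4), [nat_lit 0, nat_lit 7, nat_lit 6, nat_lit 9, nat_lit 7, nat_lit 3, nat_lit 6, nat_lit 8, nat_lit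 5, nat_lit 4, nat_lit 7, nat_lit 6, nat_lit 0], [[nat_lit 3, nat_lit 99, nat_lit 2, nat_lit 3, nat_lit 99, nat_lit 2]])) (.leaf ((nat_lit 4), [nat_lit 4, nat_lit 9, nat_lit 8, nat_lit 0, nat_lit 8, nat_lit 6, nat_lit 8, nat_lit 5, nat_lit 7, nat_lit 6, nat_lit 1, nat_lit 7, nat_lit 5, nat_lit 1], [[nat_lit 99, nat_lit 99]])))))
 (.node (nat_lit 364) (.node (nat_lit 363) (.leaf ((nat_lit 4), [nat_lit 7, nat_lit 3, nat_lit 9, nat_lit 7, nat_lit 8, nat_lit 7, nat_lit 4, nat_lit 1, nat_lit 7, nat_lit 4, nat_lit 6, nat_lit 2], [[nat_lit 99, nat_lit 3]])) (.leaf ((nat_lit 4), [nat_lit 0, nat_lit 5, nat_lit 8, nat_lit 0, nat_lit 9, nat_lit 3, nat_lit 7, nat_lit 8, nat_lit 0, nat_lit 7, nat_lit 6, nat_lit 7, nat_lit 3, nat_lit 6, nat_lit 3], [[nat_lit 99, nat_lit 99]]))) (.node (nat_lit 365) (.leaf ((nat_lit 4), [nat_lit 8, nat_lit 5, nat_lit 9,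 nat_lit 0, nat_lit 9, nat_lit 6, nat_lit 6, nat_lit 8, nat_lit 1, nat_lit 7, nat_lit 6, nat_lit 3, nat_lit 0], [[nat_lit 99, nat_lit 1, nat_lit 0]])) (.node (nat_lit 366) (.leaf ((nat_lit 4), [nat_lit 9, nat_lit 1, nat_lit 6, nat_lit 1, nat_lit 9, nat_lit 8, nat_lit 4, nat_lit 6, nat_lit 7, nat_lit 8, nat_lit 1, nat_lit 7, nat_lit 6, nat_lit 7, nat_lit 1, nat_lit 3], [[nat_lit 99, nat_lit 3, nat_lit 1, nat_lit 99, nat_lit 3, nat_lit 1]])) (.leaf ((nat_lit 4), [nat_lit 9, nat_lit 5, nat_lit 8, nat_lit 1, nat_lit 9, nat_lit 8, nat_lit 4, nat_lit 1, nat_lit 8, nat_lit 1, nat_lit 3, nat_lit 7, nat_lit 5, nat_lit 2, nat_lit 1], [[nat_lit 99, nat_lit 4, nat_lit 99, nat_lit 4]]))))))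
 (.node (nat_lit 372) (.node (nat_lit 369) (.node (nat_lit 368) (.leaf ((nat_lit 4), [nat_lit 6, nat_lit 6, nat_lit 9, nat_lit 3, nat_lit 9, nat_lit 5, nat_lit 3, nat_lit 0, nat_lit 7, nat_lit 4, nat_lit 5, nat_lit 2], [[nat_lit 99, nat_lit 1]])) (.leaf ((nat_lit 4), [nat_lit 1, nat_lit 7, nat_lit 9, nat_lit 3, nat_lit 9, nat_lit 0, nat_lit 4, nat_lit 8, nat_lit 4, nat_lit 7, nat_lit 0, nat_lit 4], [[nat_lit 99, nat_lit 2]]))) (.node (nat_lit 370) (.leaf ((nat_lit 4), [nat_lit 7, nat_lit 9, nat_lit 6, nat_lit 2, nat_lit 1, nat_lit 9, nat_lit 8, nat_lit 4, nat_lit 0, nat_lit 8, nat_lit 3, nat_lit 0, nat_lit 7], [[nat_lit 99, nat_lit 1]])) (.node (nat_lit 371) (.leaf ((nat_lit 4), [nat_lit 3, nat_lit 7, nat_lit 8, nat_lit 2, nat_lit 9, nat_lit 4, nat_lit 0, nat_lit 8, nat_lit 1, nat_lit 7, nat_lit 3, nat_lit 0], [[nat_lit 99]])) (.leaf ((nat_lit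 4), [nat_lit 9, nat_lit 7, nat_lit 6, nat_lit 8, nat_lit 6, nat_lit 8, nat_lit 3, nat_lit 5, nat_lit 1, nat_lit 7, nat_lit 1, nat_lit 6, nat_lit 2, nat_lit 0], [[nat_lit 99, nat_lit 1]])))))
 (.node (nat_lit 375) (.node (nat_lit 373) (.leaf ((nat_lit 4), [nat_lit 9, nat_lit 1, nat_lit 7, nat_lit 6, nat_lit 9, nat_lit 7, nat_lit 0, nat_lit 6, nat_lit 8, nat_lit 1, nat_lit 7, nat_lit 4, nat_lit 1, nat_lit 7, nat_lit 4, nat_lit 5, nat_lit 2], [[nat_lit 99]])) (.node (nat_lit 374) (.leaf ((nat_lit 4), [nat_lit 9, nat_lit 4, nat_lit 7, nat_lit 4, nat_lit 1, nat_lit 8, nat_lit 1, nat_lit 8, nat_lit 4, nat_lit 6, nat_lit 4, nat_lit 7, nat_lit 0, nat_lit 5], [[nat_lit 99, nat_lit 1, nat_lit 0, nat_lit 99, nat_lit 1, nat_lit 0]])) (.leaf ((nat_lit 4), [nat_lit 9, nat_lit 0, nat_lit 8, nat_lit 4, nat_lit 9, nat_lit 5, nat_lit 7, nat_lit 8, nat_lit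 1, nat_lit 8, nat_lit 1, nat_lit 7, nat_lit 1, nat_lit 3, nat_lit 1], [[nat_lit 99, nat_lit 2, nat_lit 99, nat_lit 2]])))) (.node (nat_lit 376) (.leaf ((nat_lit 4), [nat_lit 6, nat_lit 0, nat_lit 9, nat_lit 7, nat_lit 0, nat_lit 6, nat_lit 8, nat_lit 7, nat_lit 5, nat_lit 0, nat_lit 7, nat_lit 4, nat_lit 5], [[nat_lit 99]])) (.node (nat_lit 377) (.leaf ((nat_lit 4), [nat_lit 9, nat_lit 8, nat_lit 9, nat_lit 0, nat_lit 9, nat_lit 8, nat_lit 3, nat_lit 1, nat_lit 8, nat_lit 1, nat_lit 4, nat_lit 7, nat_lit 1], [[nat_lit 99, nat_lit 3, nat_lit 0, nat_lit 99, nat_lit 3, nat_lit 0]])) (.leaf ((nat_lit 4), [nat_lit 4, nat_lit 2, nat_lit 9, nat_lit 6, nat_lit 8, nat_lit 0, nat_lit 4, nat_lit 8, nat_lit 1, nat_lit 4, nat_lit 7, nat_lit 6, nat_lit 6, nat_lit 1], [[nat_lit 99, nat_lit 0]]))))))))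
 (.node (nat_lit 399) (.node (nat_lit 388) (.node (nat_lit 383) (.node (nat_lit 380) (.node (nat_lit 379) (.leaf ((nat_lit 4), [nat_lit 4, nat_lit 0, nat_lit 9, nat_lit 8, nat_lit 0, nat_lit 5, nat_lit 1, nat_lit 8, nat_lit 2, nat_lit 6, nat_lit 7, nat_lit 1, nat_lit 5, nat_lit 0], [[nat_lit 99, nat_lit 2]])) (.leaf ((nat_lit 4), [nat_lit 9, nat_lit 3, nat_lit 9, nat_lit 5, nat_lit 4, nat_lit 8, nat_lit 7, nat_lit 8, nat_lit 0, nat_lit 6, nat_lit 7, nat_lit 3], [[nat_lit 99, nat_lit 1, nat_lit 0]]))) (.node (nat_lit 381) (.leaf ((nat_lit 4), [nat_lit 7, nat_lit 4, nat_lit 9, nat_lit 8, nat_lit 3, nat_lit 8, nat_lit 5, nat_lit 8, nat_lit 0, nat_lit 7, nat_lit 5, nat_lit 1, nat_lit 7], [[nat_lit 2, nat_lit 99, nat_lit 0]])) (.node (nat_lit 382) (.leaf ((nat_lit 4), [nat_lit 1, nat_lit 9, nat_lit 6, nat_lit 9, nat_lit 2, nat_lit 4, nat_lit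 8, nat_lit 0, nat_lit 8, nat_lit 6, nat_lit 4, nat_lit 7, nat_lit 0], [[nat_lit 1, nat_lit 99, nat_lit 0, nat_lit 1, nat_lit 99, nat_lit 0]])) (.leaf ((nat_lit 4), [nat_lit 6, nat_lit 4, nat_lit 9, nat_lit 0, nat_lit 5, nat_lit 1, nat_lit 8, nat_lit 4, nat_lit 4, nat_lit 7, nat_lit 5, nat_lit 3], [[nat_lit 99]])))))
 (.node (nat_lit 385) (.node (nat_lit 384) (.leaf ((nat_lit 4), [nat_lit 3, nat_lit 8, nat_lit 9, nat_lit 6, nat_lit 1, nat_lit 9, nat_lit 8, nat_lit 7, nat_lit 8, nat_lit 7, nat_lit 2, nat_lit 4, nat_lit 4, nat_lit 0], [[nat_lit 99, nat_lit 3]])) (.leaf ((nat_lit 4), [nat_lit 8, nat_lit 5, nat_lit 8, nat_lit 2, nat_lit 1, nat_lit 9, nat_lit 6, nat_lit 8, nat_lit 7, nat_lit 0, nat_lit 4, nat_lit 0, nat_lit 7, nat_lit 0, nat_lit 3], [[nat_lit 99, nat_lit 1]]))) (.node (nat_lit 386) (.leaf ((nat_lit 4), [nat_lit 8, nat_lit 5,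 nat_lit 7, nat_lit 8, nat_lit 9, nat_lit 8, nat_lit 4, nat_lit 6, nat_lit 8, nat_lit 4, nat_lit 6, nat_lit 4, nat_lit 7, nat_lit 0], [[nat_lit 99, nat_lit 2, nat_lit 99, nat_lit 2]])) (.node (nat_lit 387) (.leaf ((nat_lit 4), [nat_lit 8, nat_lit 2, nat_lit 9, nat_lit 8, nat_lit 5, nat_lit 7, nat_lit 4, nat_lit 8, nat_lit 1, nat_lit 7, nat_lit 6, nat_lit 4, nat_lit 2, nat_lit 1], [[nat_lit 99, nat_lit 2, nat_lit 99, nat_lit 2]])) (.leaf ((nat_lit 4), [nat_lit 7, nat_lit 9, nat_lit 7, nat_lit 6, nat_lit 8, nat_lit 3, nat_lit 8, nat_lit 4, nat_lit 0, nat_lit 7, nat_lit 0, nat_lit 3, nat_lit 2, nat_lit 1], [[nat_lit 99, nat_lit 0]]))))))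
 (.node (nat_lit 393) (.node (nat_lit 390) (.node (nat_lit 389) (.leaf ((nat_lit 4), [nat_lit 8, nat_lit 0, nat_lit 9, nat_lit 1, nat_lit 9, nat_lit 1, nat_lit 7, nat_lit 0, nat_lit 6, nat_lit 8, nat_lit 0, nat_lit 7, nat_lit 6, nat_lit 1, nat_lit 7, nat_lit 6], [[nat_lit 99, nat_lit 2, nat_lit 99, nat_lit 2]])) (.leaf ((nat_lit 4), [nat_lit 1, nat_lit 6, nat_lit 9, nat_lit 0, nat_lit 7, nat_lit 6, nat_lit 8, nat_lit 6, nat_lit 1, nat_lit 7, nat_lit 6, nat_lit 4, nat_lit 0], [[nat_lit 99, nat_lit 4, nat_lit 0, nat_lit 99, nat_lit 4, nat_lit 0]]))) (.node (nat_lit 391) (.leaf ((nat_lit 4), [nat_lit 1, nat_lit 6, nat_lit 9, nat_lit 7, nat_lit 8, nat_lit 6, nat_lit 8, nat_lit 1, nat_lit 8, nat_lit 7, nat_lit 3, nat_lit 6, nat_lit 7, nat_lit 6, nat_lit 1, nat_lit 4], [[nat_lit 99, nat_lit 4, nat_lit 99, nat_lit 4]])) (.node (nat_lit 392) (.leaf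 ((nat_lit 4), [nat_lit 2, nat_lit 9, nat_lit 7, nat_lit 1, nat_lit 8, nat_lit 6, nat_lit 8, nat_lit 1, nat_lit 7, nat_lit 5, nat_lit 0, nat_lit 7, nat_lit 6, nat_lit 6], [[nat_lit 99, nat_lit 1, nat_lit 99, nat_lit 1]])) (.leaf ((nat_lit 4), [nat_lit 0, nat_lit 9, nat_lit 0, nat_lit 9, nat_lit 5, nat_lit 8, nat_lit 1, nat_lit 7, nat_lit 3, nat_lit 7, nat_lit 4, nat_lit 2, nat_lit 1], [[nat_lit 3, nat_lit 99, nat_lit 0, nat_lit 3, nat_lit 99, nat_lit 0]])))))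
 (.node (nat_lit 396) (.node (nat_lit 394) (.leaf ((nat_lit 4), [nat_lit 8, nat_lit 7, nat_lit 9, nat_lit 7, nat_lit 6, nat_lit 1, nat_lit 8, nat_lit 4, nat_lit 5, nat_lit 1, nat_lit 7, nat_lit 0, nat_lit 5, nat_lit 2, nat_lit 0], [[nat_lit 99, nat_lit 0, nat_lit 99, nat_lit 0]])) (.node (nat_lit 395) (.leaf ((nat_lit 4), [nat_lit 0, nat_lit 7, nat_lit 4, nat_lit 9, nat_lit 0, nat_lit 3, nat_lit 8, nat_lit 0, nat_lit 7, nat_lit 6, nat_lit 4, nat_lit 7, nat_lit 5, nat_lit 0], [[nat_lit 3, nat_lit 99, nat_lit 0]])) (.leaf ((nat_lit 4), [nat_lit 6, nat_lit 3, nat_lit 7, nat_lit 3, nat_lit 9, nat_lit 8, nat_lit 7, nat_lit 0, nat_lit 4, nat_lit 8, nat_lit 3, nat_lit 7, nat_lit 6, nat_lit 4, nat_lit 6, nat_lit 0], [[nat_lit 99, nat_lit 1, nat_lit 99, nat_lit 1]])))) (.node (nat_lit 397) (.leaf ((nat_lit 4), [nat_lit 9, nat_lit 5, nat_lit 7, nat_lit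 8, nat_lit 0, nat_lit 8, nat_lit 4, nat_lit 7, nat_lit 1, nat_lit 4, nat_lit 7, nat_lit 3, nat_lit 1, nat_lit 4, nat_lit 2], [[nat_lit 99, nat_lit 3, nat_lit 0, nat_lit 99, nat_lit 3, nat_lit 0]])) (.node (nat_lit 398) (.leaf ((nat_lit 4), [nat_lit 8, nat_lit 2, nat_lit 1, nat_lit 9, nat_lit 8, nat_lit 0, nat_lit 5, nat_lit 8, nat_lit 4, nat_lit 7, nat_lit 6, nat_lit 4, nat_lit 6, nat_lit 2], [[nat_lit 99, nat_lit 99]])) (.leaf ((nat_lit 4), [nat_lit 0, nat_lit 4, nat_lit 8, nat_lit 9, nat_lit 7, nat_lit 5, nat_lit 1, nat_lit 8, nat_lit 4, nat_lit 1, nat_lit 7, nat_lit 3, nat_lit 5, nat_lit 3], [[nat_lit 99, nat_lit 3, nat_lit 0, nat_lit 99, nat_lit 3, nat_lit 0]])))))))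
 (.node (nat_lit 409) (.node (nat_lit 404) (.node (nat_lit 401) (.node (nat_lit 400) (.leaf ((nat_lit 4), [nat_lit 8, nat_lit 4, nat_lit 0, nat_lit 7, nat_lit 9, nat_lit 7, nat_lit 6, nat_lit 7, nat_lit 8, nat_lit 5, nat_lit 4, nat_lit 7, nat_lit 0, nat_lit 3], [[nat_lit 99, nat_lit 2]])) (.leaf ((nat_lit 4), [nat_lit 4, nat_lit 2, nat_lit 9, nat_lit 4, nat_lit 8, nat_lit 1, nat_lit 3, nat_lit 7, nat_lit 1, nat_lit 3, nat_lit 1], [[nat_lit 99, nat_lit 3, nat_lit 0, nat_lit 99, nat_lit 3, nat_lit 0]]))) (.node (nat_lit 402) (.leaf ((nat_lit 4), [nat_lit 5, nat_lit 8, nat_lit 2, nat_lit 1, nat_lit 9, nat_lit 7, nat_lit 0, nat_lit 3, nat_lit 8, nat_lit 6, nat_lit 6, nat_lit 0, nat_lit 7, nat_lit 5, nat_lit 3], [[nat_lit 99, nat_lit 0]])) (.node (nat_lit 403) (.leaf ((nat_lit 4), [nat_lit 5, nat_lit 2, nat_lit 9, nat_lit 8, nat_lit 4, nat_lit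 8, nat_lit 5, nat_lit 7, nat_lit 3, nat_lit 0, nat_lit 7, nat_lit 1, nat_lit 6, nat_lit 2, nat_lit 1], [[nat_lit 99, nat_lit 0]])) (.leaf ((nat_lit 4), [nat_lit 8, nat_lit 6, nat_lit 7, nat_lit 4, nat_lit 9, nat_lit 8, nat_lit 6, nat_lit 8, nat_lit 5, nat_lit 8, nat_lit 6, nat_lit 7, nat_lit 4], [[nat_lit 99, nat_lit 1, nat_lit 99, nat_lit 1]])))))
 (.node (nat_lit 406) (.node (nat_lit 405) (.leaf ((nat_lit 4), [nat_lit 7, nat_lit 9, nat_lit 1, nat_lit 7, nat_lit 8, nat_lit 3, nat_lit 8, nat_lit 7, nat_lit 4, nat_lit 1, nat_lit 7, nat_lit 0, nat_lit 5, nat_lit 2], [[nat_lit 99, nat_lit 0, nat_lit 99, nat_lit 0]])) (.leaf ((nat_lit 4), [nat_lit 5, nat_lit 0, nat_lit 9, nat_lit 1, nat_lit 9, nat_lit 6, nat_lit 7, nat_lit 8, nat_lit 1, nat_lit 8, nat_lit 7, nat_lit 5, nat_lit 3, nat_lit 7, nat_lit 4], [[nat_lit 99, nat_lit 0]]))) (.node (nat_lit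 407) (.leaf ((nat_lit 4), [nat_lit 9, nat_lit 1, nat_lit 8, nat_lit 3, nat_lit 1, nat_lit 9, nat_lit 8, nat_lit 4, nat_lit 8, nat_lit 6, nat_lit 7, nat_lit 6, nat_lit 6], [[nat_lit 99, nat_lit 2]])) (.node (nat_lit 408) (.leaf ((nat_lit 4), [nat_lit 9, nat_lit 5, nat_lit 8, nat_lit 1, nat_lit 9, nat_lit 5, nat_lit 8, nat_lit 0, nat_lit 8, nat_lit 4, nat_lit 4, nat_lit 7, nat_lit 5], [[nat_lit 99, nat_lit 3, nat_lit 1]])) (.leaf ((nat_lit 4), [nat_lit 4, nat_lit 0, nat_lit 7, nat_lit 9, nat_lit 4, nat_lit 7, nat_lit 8, nat_lit 3, nat_lit 8, nat_lit 7, nat_lit 1, nat_lit 4, nat_lit 7, nat_lit 6], [[nat_lit 99, nat_lit 4]]))))))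
 (.node (nat_lit 414) (.node (nat_lit 411) (.node (nat_lit 410) (.leaf ((nat_lit 4), [nat_lit 9, nat_lit 6, nat_lit 4, nat_lit 9, nat_lit 4, nat_lit 7, nat_lit 8, nat_lit 2, nat_lit 4, nat_lit 7, nat_lit 4, nat_lit 7, nat_lit 5, nat_lit 0], [[nat_lit 99, nat_lit 0]])) (.leaf ((nat_lit 4), [nat_lit 7, nat_lit 8, nat_lit 9, nat_lit 3, nat_lit 9, nat_lit 4, nat_lit 5, nat_lit 8, nat_lit 6, nat_lit 7, nat_lit 1, nat_lit 5, nat_lit 2, nat_lit 0], [[nat_lit 99, nat_lit 4]]))) (.node (nat_lit 412) (.leaf ((nat_lit 4), [nat_lit 5, nat_lit 9, nat_lit 6, nat_lit 2, nat_lit 9, nat_lit 8, nat_lit 3, nat_lit 8, nat_lit 7, nat_lit 8, nat_lit 7, nat_lit 0, nat_lit 3, nat_lit 2], [[nat_lit 99, nat_lit 2]])) (.node (nat_lit 413) (.leaf ((nat_lit 4), [nat_lit 6, nat_lit 9, nat_lit 3, nat_lit 9, nat_lit 3, nat_lit 8, nat_lit 7, nat_lit 6, nat_lit 1, nat_lit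 8, nat_lit 7, nat_lit 3, nat_lit 7, nat_lit 3], [[nat_lit 99, nat_lit 99, nat_lit 1, nat_lit 99, nat_lit 99, nat_lit 1]])) (.leaf ((nat_lit 4), [nat_lit 1, nat_lit 9, nat_lit 3, nat_lit 9, nat_lit 3, nat_lit 8, nat_lit 3, nat_lit 8, nat_lit 1, nat_lit 8, nat_lit 6, nat_lit 0, nat_lit 7, nat_lit 5, nat_lit 1], [[nat_lit 99, nat_lit 1]])))))
 (.node (nat_lit 417) (.node (nat_lit 415) (.leaf ((nat_lit 4), [nat_lit 1, nat_lit 6, nat_lit 9, nat_lit 0, nat_lit 6, nat_lit 7, nat_lit 8, nat_lit 0, nat_lit 7, nat_lit 6, nat_lit 4, nat_lit 7, nat_lit 4, nat_lit 4, nat_lit 0], [[nat_lit 99, nat_lit 1, nat_lit 0]])) (.node (nat_lit 416) (.leaf ((nat_lit 4), [nat_lit 0, nat_lit 9, nat_lit 8, nat_lit 9, nat_lit 7, nat_lit 6, nat_lit 6, nat_lit 8, nat_lit 4, nat_lit 7, nat_lit 6, nat_lit 6], [[nat_lit 99, nat_lit 1]])) (.leaf ((nat_lit 4), [nat_lit 4,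 nat_lit 8, nat_lit 1, nat_lit 9, nat_lit 8, nat_lit 4, nat_lit 7, nat_lit 8, nat_lit 6, nat_lit 4, nat_lit 1, nat_lit 7, nat_lit 4, nat_lit 4, nat_lit 2], [[nat_lit 99, nat_lit 2, nat_lit 0]])))) (.node (nat_lit 418) (.leaf ((nat_lit 4), [nat_lit 9, nat_lit 1, nat_lit 9, nat_lit 7, nat_lit 5, nat_lit 7, nat_lit 8, nat_lit 3, nat_lit 7, nat_lit 4, nat_lit 7, nat_lit 3, nat_lit 6, nat_lit 3], [[nat_lit 3, nat_lit 99, nat_lit 0]])) (.node (nat_lit 419) (.leaf ((nat_lit 4), [nat_lit 5, nat_lit 0, nat_lit 9, nat_lit 1, nat_lit 9, nat_lit 5, nat_lit 7, nat_lit 8, nat_lit 7, nat_lit 4, nat_lit 7, nat_lit 4, nat_lit 6, nat_lit 4, nat_lit 1], [[nat_lit 99, nat_lit 0, nat_lit 99, nat_lit 0]])) (.leaf ((nat_lit 4), [nat_lit 8, nat_lit 6, nat_lit 8, nat_lit 4, nat_lit 2, nat_lit 9, nat_lit 3, nat_lit 8, nat_lit 7, nat_lit 6, nat_lit 0, nat_lit 7, nat_lit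 1, nat_lit 3, nat_lit 1], [[nat_lit 99]])))))))))
 (.node (nat_lit 462) (.node (nat_lit 441) (.node (nat_lit 430) (.node (nat_lit 425) (.node (nat_lit 422) (.node (nat_lit 421) (.leaf ((nat_lit 4), [nat_lit 3, nat_lit 9, nat_lit 3, nat_lit 8, nat_lit 0, nat_lit 8, nat_lit 4, nat_lit 7, nat_lit 4, nat_lit 7, nat_lit 3], [[nat_lit 99, nat_lit 99]])) (.leaf ((nat_lit 4), [nat_lit 3, nat_lit 7, nat_lit 2, nat_lit 9, nat_lit 7, nat_lit 4, nat_lit 5, nat_lit 8, nat_lit 7, nat_lit 3, nat_lit 6, nat_lit 7, nat_lit 6, nat_lit 0], [[nat_lit 99, nat_lit 99]]))) (.node (nat_lit 423) (.leaf ((nat_lit 4), [nat_lit 6, nat_lit 9, nat_lit 6, nat_lit 0, nat_lit 3, nat_lit 8, nat_lit 7, nat_lit 5, nat_lit 3, nat_lit 0, nat_lit 7, nat_lit 5, nat_lit 0], [[nat_lit 99, nat_lit 3, nat_lit 0]])) (.node (nat_lit 424) (.leaf ((nat_lit 4), [nat_lit 3, nat_lit 9,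 nat_lit 8, nat_lit 9, nat_lit 4, nat_lit 7, nat_lit 0, nat_lit 3, nat_lit 8, nat_lit 5, nat_lit 0, nat_lit 7, nat_lit 1, nat_lit 6, nat_lit 0], [[nat_lit 99, nat_lit 3]])) (.leaf ((nat_lit 4), [nat_lit 4, nat_lit 9, nat_lit 8, nat_lit 6, nat_lit 6, nat_lit 8, nat_lit 6, nat_lit 0, nat_lit 7, nat_lit 6, nat_lit 6, nat_lit 2], [[nat_lit 2, nat_lit 99, nat_lit 1, nat_lit 0]])))))
 (.node (nat_lit 427) (.node (nat_lit 426) (.leaf ((nat_lit 4), [nat_lit 7, nat_lit 8, nat_lit 9, nat_lit 3, nat_lit 9, nat_lit 8, nat_lit 0, nat_lit 4, nat_lit 8, nat_lit 7, nat_lit 4, nat_lit 5, nat_lit 1, nat_lit 7], [[nat_lit 99, nat_lit 3]])) (.leaf ((nat_lit 4), [nat_lit 8, nat_lit 9, nat_lit 3, nat_lit 9, nat_lit 6, nat_lit 0, nat_lit 8, nat_lit 5, nat_lit 7, nat_lit 3, nat_lit 7, nat_lit 6, nat_lit 3, nat_lit 0], [[nat_lit 99, nat_lit 3]]))) (.node (nat_lit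 428) (.leaf ((nat_lit 4), [nat_lit 7, nat_lit 6, nat_lit 0, nat_lit 9, nat_lit 0, nat_lit 3, nat_lit 1, nat_lit 8, nat_lit 0, nat_lit 7, nat_lit 5, nat_lit 4, nat_lit 7, nat_lit 0, nat_lit 5], [[nat_lit 99, nat_lit 1, nat_lit 0]])) (.node (nat_lit 429) (.leaf ((nat_lit 4), [nat_lit 6, nat_lit 8, nat_lit 9, nat_lit 8, nat_lit 9, nat_lit 8, nat_lit 1, nat_lit 8, nat_lit 7, nat_lit 0, nat_lit 6, nat_lit 7, nat_lit 3, nat_lit 5, nat_lit 3], [[nat_lit 99, nat_lit 1]])) (.leaf ((nat_lit 4), [nat_lit 5, nat_lit 8, nat_lit 7, nat_lit 9, nat_lit 8, nat_lit 4, nat_lit 7, nat_lit 3, nat_lit 0, nat_lit 7, nat_lit 5, nat_lit 4, nat_lit 5, nat_lit 2, nat_lit 1], [[nat_lit 99, nat_lit 99, nat_lit 1, nat_lit 99, nat_lit 99, nat_lit 1]]))))))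
 (.node (nat_lit 435) (.node (nat_lit 432) (.node (nat_lit 431) (.leaf ((nat_lit 4), [nat_lit 8, nat_lit 3, nat_lit 7, nat_lit 9, nat_lit 3, nat_lit 7, nat_lit 5, nat_lit 8, nat_lit 4, nat_lit 4, nat_lit 7, nat_lit 0, nat_lit 3, nat_lit 1], [[nat_lit 99, nat_lit 0]])) (.leaf ((nat_lit 4), [nat_lit 8, nat_lit 9, nat_lit 6, nat_lit 4, nat_lit 9, nat_lit 0, nat_lit 6, nat_lit 7, nat_lit 8, nat_lit 3, nat_lit 7, nat_lit 3, nat_lit 7, nat_lit 1, nat_lit 4], [[nat_lit 3, nat_lit 99, nat_lit 1]]))) (.node (nat_lit 433) (.leaf ((nat_lit 4), [nat_lit 3, nat_lit 8, nat_lit 2, nat_lit 1, nat_lit 9, nat_lit 7, nat_lit 4, nat_lit 8, nat_lit 7, nat_lit 8, nat_lit 5, nat_lit 1, nat_lit 7, nat_lit 0, nat_lit 3], [[nat_lit 3, nat_lit 99, nat_lit 1]])) (.node (nat_lit 434) (.leaf ((nat_lit 4), [nat_lit 0, nat_lit 9, nat_lit 0, nat_lit 9, nat_lit 0, nat_lit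 5, nat_lit 8, nat_lit 0, nat_lit 7, nat_lit 5, nat_lit 4, nat_lit 7, nat_lit 0, nat_lit 4, nat_lit 2, nat_lit 0], [[nat_lit 99, nat_lit 3, nat_lit 0, nat_lit 99, nat_lit 3, nat_lit 0]])) (.leaf ((nat_lit 4), [nat_lit 6, nat_lit 2, nat_lit 1, nat_lit 9, nat_lit 8, nat_lit 6, nat_lit 6, nat_lit 8, nat_lit 7, nat_lit 6, nat_lit 1, nat_lit 4], [[nat_lit 99, nat_lit 4, nat_lit 0, nat_lit 99, nat_lit 4, nat_lit 0]])))))
 (.node (nat_lit 438) (.node (nat_lit 436) (.leaf ((nat_lit 4), [nat_lit 8, nat_lit 9, nat_lit 3, nat_lit 1, nat_lit 9, nat_lit 5, nat_lit 4, nat_lit 8, nat_lit 1, nat_lit 7, nat_lit 6, nat_lit 7], [[nat_lit 99, nat_lit 1, nat_lit 0]])) (.node (nat_lit 437) (.leaf ((nat_lit 4), [nat_lit 1, nat_lit 7, nat_lit 9, nat_lit 3, nat_lit 9, nat_lit 8, nat_lit 4, nat_lit 1, nat_lit 8, nat_lit 0, nat_lit 6, nat_lit 7, nat_lit 1, nat_lit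 3, nat_lit 2], [[nat_lit 99, nat_lit 1]])) (.leaf ((nat_lit 4), [nat_lit 6, nat_lit 1, nat_lit 9, nat_lit 0, nat_lit 9, nat_lit 1, nat_lit 8, nat_lit 6, nat_lit 4, nat_lit 8, nat_lit 3, nat_lit 7, nat_lit 6, nat_lit 2, nat_lit 0], [[nat_lit 99, nat_lit 2]])))) (.node (nat_lit 439) (.leaf ((nat_lit 4), [nat_lit 9, nat_lit 6, nat_lit 1, nat_lit 9, nat_lit 4, nat_lit 7, nat_lit 8, nat_lit 2, nat_lit 6, nat_lit 7, nat_lit 5, nat_lit 3, nat_lit 2, nat_lit 1], [[nat_lit 99, nat_lit 1]])) (.node (nat_lit 440) (.leaf ((nat_lit 4), [nat_lit 5, nat_lit 1, nat_lit 9, nat_lit 0, nat_lit 9, nat_lit 4, nat_lit 7, nat_lit 8, nat_lit 4, nat_lit 1, nat_lit 7, nat_lit 1, nat_lit 3, nat_lit 1], [[nat_lit 99, nat_lit 2, nat_lit 99, nat_lit 2]])) (.leaf ((nat_lit 4), [nat_lit 7, nat_lit 5, nat_lit 2, nat_lit 9, nat_lit 4, nat_lit 8, nat_lit 7, nat_lit 4, nat_lit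 8, nat_lit 1, nat_lit 4, nat_lit 7, nat_lit 6, nat_lit 1, nat_lit 4, nat_lit 0], [[nat_lit 99, nat_lit 1, nat_lit 99, nat_lit 1]])))))))
 (.node (nat_lit 451) (.node (nat_lit 446) (.node (nat_lit 443) (.node (nat_lit 442) (.leaf ((nat_lit 4), [nat_lit 1, nat_lit 9, nat_lit 7, nat_lit 0, nat_lit 3, nat_lit 8, nat_lit 1, nat_lit 7, nat_lit 0, nat_lit 5, nat_lit 1], [[nat_lit 99, nat_lit 3]])) (.leaf ((nat_lit 4), [nat_lit 7, nat_lit 4, nat_lit 2, nat_lit 9, nat_lit 0, nat_lit 7, nat_lit 4, nat_lit 8, nat_lit 7, nat_lit 5, nat_lit 1, nat_lit 7], [[nat_lit 99, nat_lit 0]]))) (.node (nat_lit 444) (.leaf ((nat_lit 4), [nat_lit 6, nat_lit 1, nat_lit 9, nat_lit 7, nat_lit 8, nat_lit 1, nat_lit 8, nat_lit 0, nat_lit 7, nat_lit 3, nat_lit 0, nat_lit 7, nat_lit 0, nat_lit 6], [[nat_lit 4, nat_lit 99, nat_lit 0]])) (.node (nat_lit 445) (.leaf ((nat_lit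 4), [nat_lit 0, nat_lit 7, nat_lit 4, nat_lit 9, nat_lit 7, nat_lit 5, nat_lit 8, nat_lit 0, nat_lit 8, nat_lit 1, nat_lit 4, nat_lit 7, nat_lit 6, nat_lit 1, nat_lit 3], [[nat_lit 99, nat_lit 2]])) (.leaf ((nat_lit 4), [nat_lit 7, nat_lit 2, nat_lit 9, nat_lit 6, nat_lit 8, nat_lit 4, nat_lit 8, nat_lit 7, nat_lit 8, nat_lit 7, nat_lit 2, nat_lit 6, nat_lit 7, nat_lit 1, nat_lit 4], [[nat_lit 99, nat_lit 1, nat_lit 99, nat_lit 1]])))))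
 (.node (nat_lit 448) (.node (nat_lit 447) (.leaf ((nat_lit 4), [nat_lit 8, nat_lit 1, nat_lit 8, nat_lit 9, nat_lit 0, nat_lit 6, nat_lit 7, nat_lit 8, nat_lit 6, nat_lit 4, nat_lit 7, nat_lit 6, nat_lit 0, nat_lit 3], [[nat_lit 99, nat_lit 2, nat_lit 99, nat_lit 2]])) (.leaf ((nat_lit 4), [nat_lit 4, nat_lit 7, nat_lit 3, nat_lit 9, nat_lit 6, nat_lit 8, nat_lit 7, nat_lit 6, nat_lit 1, nat_lit 7, nat_lit 3, nat_lit 1], [[nat_lit 99, nat_lit 2, nat_lit 0, nat_lit 99, nat_lit 2, nat_lit 0]]))) (.node (nat_lit 449) (.leaf ((nat_lit 4), [nat_lit 9, nat_lit 6, nat_lit 7, nat_lit 0, nat_lit 9, nat_lit 8, nat_lit 0, nat_lit 7, nat_lit 5, nat_lit 4, nat_lit 8, nat_lit 4, nat_lit 0, nat_lit 4, nat_lit 2, nat_lit 1], [[nat_lit 99, nat_lit 0, nat_lit 99, nat_lit 0]])) (.node (nat_lit 450) (.leaf ((nat_lit 4), [nat_lit 2, nat_lit 9, nat_lit 6, nat_lit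 8, nat_lit 4, nat_lit 0, nat_lit 8, nat_lit 4, nat_lit 4, nat_lit 7, nat_lit 4, nat_lit 0, nat_lit 4, nat_lit 0], [[nat_lit 99, nat_lit 3]])) (.leaf ((nat_lit 4), [nat_lit 6, nat_lit 4, nat_lit 9, nat_lit 5, nat_lit 2, nat_lit 9, nat_lit 1, nat_lit 8, nat_lit 0, nat_lit 7, nat_lit 5, nat_lit 1, nat_lit 7, nat_lit 0, nat_lit 6, nat_lit 1], [[nat_lit 99, nat_lit 2, nat_lit 0]]))))))
 (.node (nat_lit 456) (.node (nat_lit 453) (.node (nat_lit 452) (.leaf ((nat_lit 4), [nat_lit 8, nat_lit 0, nat_lit 9, nat_lit 0, nat_lit 9, nat_lit 6, nat_lit 7, nat_lit 6, nat_lit 1, nat_lit 8, nat_lit 7, nat_lit 0, nat_lit 4, nat_lit 2, nat_lit 1], [[nat_lit 99, nat_lit 2]])) (.leaf ((nat_lit 4), [nat_lit 6, nat_lit 4, nat_lit 0, nat_lit 9, nat_lit 1, nat_lit 7, nat_lit 3, nat_lit 1, nat_lit 8, nat_lit 6, nat_lit 1, nat_lit 7, nat_lit 6, nat_lit 1], [[nat_lit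 99]]))) (.node (nat_lit 454) (.leaf ((nat_lit 4), [nat_lit 7, nat_lit 1, nat_lit 9, nat_lit 0, nat_lit 9, nat_lit 0, nat_lit 4, nat_lit 8, nat_lit 0, nat_lit 4, nat_lit 0, nat_lit 7, nat_lit 4, nat_lit 5, nat_lit 0], [[nat_lit 99, nat_lit 0]])) (.node (nat_lit 455) (.leaf ((nat_lit 4), [nat_lit 6, nat_lit 9, nat_lit 4, nat_lit 2, nat_lit 9, nat_lit 8, nat_lit 7, nat_lit 8, nat_lit 0, nat_lit 4, nat_lit 4, nat_lit 7, nat_lit 3, nat_lit 5], [[nat_lit 99, nat_lit 3, nat_lit 1, nat_lit 99, nat_lit 3, nat_lit 1]])) (.leaf ((nat_lit 4), [nat_lit 4, nat_lit 8, nat_lit 7, nat_lit 9, nat_lit 8, nat_lit 7, nat_lit 3, nat_lit 6, nat_lit 8, nat_lit 5, nat_lit 0, nat_lit 7, nat_lit 6, nat_lit 4, nat_lit 1], [[nat_lit 99, nat_lit 99]])))))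
 (.node (nat_lit 459) (.node (nat_lit 457) (.leaf ((nat_lit 4), [nat_lit 1, nat_lit 9, nat_lit 0, nat_lit 8, nat_lit 1, nat_lit 9, nat_lit 5, nat_lit 8, nat_lit 3, nat_lit 8, nat_lit 6, nat_lit 4, nat_lit 7, nat_lit 3, nat_lit 0, nat_lit 3], [[nat_lit 99, nat_lit 2, nat_lit 99, nat_lit 2]])) (.node (nat_lit 458) (.leaf ((nat_lit 4), [nat_lit 9, nat_lit 7, nat_lit 6, nat_lit 8, nat_lit 5, nat_lit 8, nat_lit 6, nat_lit 7, nat_lit 4, nat_lit 7, nat_lit 5, nat_lit 4, nat_lit 5], [[nat_lit 99, nat_lit 2, nat_lit 99, nat_lit 2]])) (.leaf ((nat_lit 4), [nat_lit 5, nat_lit 9, nat_lit 5, nat_lit 2, nat_lit 9, nat_lit 4, nat_lit 6, nat_lit 8, nat_lit 7, nat_lit 3, nat_lit 7, nat_lit 5, nat_lit 4, nat_lit 5, nat_lit 0], [[nat_lit 99, nat_lit 0, nat_lit 99, nat_lit 0]])))) (.node (nat_lit 460) (.leaf ((nat_lit 4), [nat_lit 0, nat_lit 8, nat_lit 9,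 nat_lit 0, nat_lit 9, nat_lit 6, nat_lit 7, nat_lit 6, nat_lit 8, nat_lit 5, nat_lit 3, nat_lit 7, nat_lit 1, nat_lit 5, nat_lit 0], [[nat_lit 99, nat_lit 2]])) (.node (nat_lit 461) (.leaf ((nat_lit 4), [nat_lit 8, nat_lit 7, nat_lit 6, nat_lit 6, nat_lit 8, nat_lit 5, nat_lit 7, nat_lit 3, nat_lit 0, nat_lit 7, nat_lit 1, nat_lit 3, nat_lit 0], [[nat_lit 99, nat_lit 3, nat_lit 99, nat_lit 3]])) (.leaf ((nat_lit 4), [nat_lit 1, nat_lit 7, nat_lit 9, nat_lit 6, nat_lit 9, nat_lit 3, nat_lit 7, nat_lit 6, nat_lit 4, nat_lit 8, nat_lit 4, nat_lit 7, nat_lit 6, nat_lit 1], [[nat_lit 99]]))))))))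
 (.node (nat_lit 483) (.node (nat_lit 472) (.node (nat_lit 467) (.node (nat_lit 464) (.node (nat_lit 463) (.leaf ((nat_lit 4), [nat_lit 0, nat_lit 9, nat_lit 8, nat_lit 6, nat_lit 7, nat_lit 8, nat_lit 1, nat_lit 7, nat_lit 5, nat_lit 1, nat_lit 7, nat_lit 5, nat_lit 2, nat_lit 0], [[nat_lit 99, nat_lit 1, nat_lit 99, nat_lit 1]])) (.leaf ((nat_lit 4), [nat_lit 2, nat_lit 6, nat_lit 9, nat_lit 8, nat_lit 9, nat_lit 1, nat_lit 7, nat_lit 3, nat_lit 7, nat_lit 4, nat_lit 1, nat_lit 4, nat_lit 1], [[nat_lit 99, nat_lit 4, nat_lit 99, nat_lit 4]]))) (.node (nat_lit 465) (.leaf ((nat_lit 4), [nat_lit 8, nat_lit 6, nat_lit 8, nat_lit 3, nat_lit 9, nat_lit 4, nat_lit 5, nat_lit 7, nat_lit 6, nat_lit 8, nat_lit 3, nat_lit 0, nat_lit 7, nat_lit 5, nat_lit 2], [[nat_lit 99, nat_lit 2]])) (.node (nat_lit 466) (.leaf ((nat_lit 4), [nat_lit 1, nat_lit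 4, nat_lit 9, nat_lit 8, nat_lit 5, nat_lit 4, nat_lit 8, nat_lit 4, nat_lit 4, nat_lit 0, nat_lit 7, nat_lit 5, nat_lit 2, nat_lit 0], [[nat_lit 99, nat_lit 2, nat_lit 0, nat_lit 99, nat_lit 2, nat_lit 0]])) (.leaf ((nat_lit 4), [nat_lit 3, nat_lit 8, nat_lit 4, nat_lit 9, nat_lit 0, nat_lit 4, nat_lit 8, nat_lit 4, nat_lit 8, nat_lit 4, nat_lit 5, nat_lit 1, nat_lit 7, nat_lit 5], [[nat_lit 99, nat_lit 2, nat_lit 0, nat_lit 99, nat_lit 2, nat_lit 0]])))))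
 (.node (nat_lit 469) (.node (nat_lit 468) (.leaf ((nat_lit 4), [nat_lit 8, nat_lit 6, nat_lit 7, nat_lit 8, nat_lit 9, nat_lit 7, nat_lit 8, nat_lit 7, nat_lit 4, nat_lit 8, nat_lit 1, nat_lit 6, nat_lit 7, nat_lit 6, nat_lit 6], [[nat_lit 99, nat_lit 99]])) (.leaf ((nat_lit 4), [nat_lit 4, nat_lit 9, nat_lit 3, nat_lit 9, nat_lit 8, nat_lit 1, nat_lit 8, nat_lit 1, nat_lit 8, nat_lit 7, nat_lit 6, nat_lit 1, nat_lit 7, nat_lit 0, nat_lit 3], [[nat_lit 99, nat_lit 1, nat_lit 0, nat_lit 99, nat_lit 1, nat_lit 0]]))) (.node (nat_lit 470) (.leaf ((nat_lit 4), [nat_lit 9, nat_lit 6, nat_lit 9, nat_lit 7, nat_lit 4, nat_lit 5, nat_lit 8, nat_lit 6, nat_lit 7, nat_lit 4, nat_lit 7, nat_lit 6, nat_lit 4, nat_lit 6], [[nat_lit 99, nat_lit 1]])) (.node (nat_lit 471) (.leaf ((nat_lit 4), [nat_lit 8, nat_lit 0, nat_lit 9, nat_lit 0, nat_lit 9, nat_lit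 8, nat_lit 4, nat_lit 7, nat_lit 8, nat_lit 0, nat_lit 8, nat_lit 6, nat_lit 4, nat_lit 1, nat_lit 7, nat_lit 1, nat_lit 4], [[nat_lit 99, nat_lit 4]])) (.leaf ((nat_lit 4), [nat_lit 7, nat_lit 6, nat_lit 9, nat_lit 8, nat_lit 0, nat_lit 3, nat_lit 1, nat_lit 8, nat_lit 0, nat_lit 7, nat_lit 6, nat_lit 7, nat_lit 5, nat_lit 2, nat_lit 0], [[nat_lit 99, nat_lit 3]]))))))
 (.node (nat_lit 477) (.node (nat_lit 474) (.node (nat_lit 473) (.leaf ((nat_lit 4), [nat_lit 3, nat_lit 9, nat_lit 6, nat_lit 1, nat_lit 9, nat_lit 8, nat_lit 7, nat_lit 6, nat_lit 8, nat_lit 2, nat_lit 6, nat_lit 7, nat_lit 1, nat_lit 5], [[nat_lit 99, nat_lit 3, nat_lit 99, nat_lit 3]])) (.leaf ((nat_lit 4), [nat_lit 7, nat_lit 6, nat_lit 2, nat_lit 1, nat_lit 9, nat_lit 4, nat_lit 8, nat_lit 7, nat_lit 6, nat_lit 7, nat_lit 4, nat_lit 7, nat_lit 0, nat_lit 5], [[nat_lit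 3, nat_lit 99, nat_lit 0]]))) (.node (nat_lit 475) (.leaf ((nat_lit 4), [nat_lit 9, nat_lit 8, nat_lit 7, nat_lit 5, nat_lit 1, nat_lit 8, nat_lit 2, nat_lit 6, nat_lit 7, nat_lit 1, nat_lit 4, nat_lit 1], [[nat_lit 99, nat_lit 3, nat_lit 0]])) (.node (nat_lit 476) (.leaf ((nat_lit 4), [nat_lit 8, nat_lit 4, nat_lit 2, nat_lit 9, nat_lit 0, nat_lit 5, nat_lit 1, nat_lit 8, nat_lit 7, nat_lit 5, nat_lit 3, nat_lit 7, nat_lit 3, nat_lit 2], [[nat_lit 99, nat_lit 2]])) (.leaf ((nat_lit 4), [nat_lit 4, nat_lit 1, nat_lit 9, nat_lit 8, nat_lit 7, nat_lit 3, nat_lit 7, nat_lit 8, nat_lit 2, nat_lit 6, nat_lit 7, nat_lit 1, nat_lit 3, nat_lit 2, nat_lit 1], [[nat_lit 99, nat_lit 99]])))))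
 (.node (nat_lit 480) (.node (nat_lit 478) (.leaf ((nat_lit 4), [nat_lit 4, nat_lit 9, nat_lit 7, nat_lit 2, nat_lit 9, nat_lit 7, nat_lit 1, nat_lit 8, nat_lit 6, nat_lit 8, nat_lit 7, nat_lit 1, nat_lit 4, nat_lit 7, nat_lit 1], [[nat_lit 99, nat_lit 0, nat_lit 99, nat_lit 0]])) (.node (nat_lit 479) (.leaf ((nat_lit 4), [nat_lit 0, nat_lit 7, nat_lit 3, nat_lit 9, nat_lit 7, nat_lit 4, nat_lit 4, nat_lit 8, nat_lit 6, nat_lit 7, nat_lit 0, nat_lit 3, nat_lit 0], [[nat_lit 99, nat_lit 0, nat_lit 99, nat_lit 0]])) (.leaf ((nat_lit 4), [nat_lit 7, nat_lit 4, nat_lit 8, nat_lit 4, nat_lit 9, nat_lit 0, nat_lit 5, nat_lit 1, nat_lit 8, nat_lit 1, nat_lit 4, nat_lit 7, nat_lit 4, nat_lit 2], [[nat_lit 99, nat_lit 1]])))) (.node (nat_lit 481) (.leaf ((nat_lit 4), [nat_lit 9, nat_lit 7, nat_lit 6, nat_lit 0, nat_lit 8, nat_lit 3, nat_lit 8, nat_lit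 1, nat_lit 7, nat_lit 5, nat_lit 3, nat_lit 5], [[nat_lit 99, nat_lit 4]])) (.node (nat_lit 482) (.leaf ((nat_lit 4), [nat_lit 5, nat_lit 9, nat_lit 6, nat_lit 2, nat_lit 9, nat_lit 8, nat_lit 0, nat_lit 8, nat_lit 1, nat_lit 6, nat_lit 7, nat_lit 3, nat_lit 0, nat_lit 3, nat_lit 0], [[nat_lit 99, nat_lit 0, nat_lit 99, nat_lit 0]])) (.leaf ((nat_lit 4), [nat_lit 3, nat_lit 9, nat_lit 0, nat_lit 4, nat_lit 7, nat_lit 8, nat_lit 1, nat_lit 7, nat_lit 6, nat_lit 0, nat_lit 7, nat_lit 0, nat_lit 5, nat_lit 0], [[nat_lit 2, nat_lit 99, nat_lit 0]])))))))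
 (.node (nat_lit 493) (.node (nat_lit 488) (.node (nat_lit 485) (.node (nat_lit 484) (.leaf ((nat_lit 4), [nat_lit 4, nat_lit 7, nat_lit 8, nat_lit 9, nat_lit 4, nat_lit 8, nat_lit 6, nat_lit 7, nat_lit 3, nat_lit 2, nat_lit 1], [[nat_lit 99, nat_lit 0, nat_lit 99, nat_lit 0]])) (.leaf ((nat_lit 4), [nat_lit 4, nat_lit 6, nat_lit 9, nat_lit 8, nat_lit 1, nat_lit 8, nat_lit 3, nat_lit 8, nat_lit 6, nat_lit 3, nat_lit 7, nat_lit 5, nat_lit 3, nat_lit 2, nat_lit 1], [[nat_lit 99, nat_lit 0, nat_lit 99, nat_lit 0]]))) (.node (nat_lit 486) (.leaf ((nat_lit 4), [nat_lit 0, nat_lit 4, nat_lit 9, nat_lit 1, nat_lit 9, nat_lit 6, nat_lit 7, nat_lit 8, nat_lit 1, nat_lit 7, nat_lit 4, nat_lit 7, nat_lit 4, nat_lit 2], [[nat_lit 99]])) (.node (nat_lit 487) (.leaf ((nat_lit 4), [nat_lit 3, nat_lit 9, nat_lit 6, nat_lit 4, nat_lit 9, nat_lit 7, nat_lit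 4, nat_lit 0, nat_lit 8, nat_lit 4, nat_lit 4, nat_lit 7, nat_lit 1, nat_lit 5, nat_lit 2, nat_lit 0], [[nat_lit 99, nat_lit 0, nat_lit 99, nat_lit 0]])) (.leaf ((nat_lit 4), [nat_lit 0, nat_lit 9, nat_lit 8, nat_lit 3, nat_lit 9, nat_lit 4, nat_lit 6, nat_lit 7, nat_lit 8, nat_lit 5, nat_lit 4, nat_lit 7, nat_lit 5, nat_lit 1], [[nat_lit 99, nat_lit 3, nat_lit 99, nat_lit 3]])))))
 (.node (nat_lit 490) (.node (nat_lit 489) (.leaf ((nat_lit 4), [nat_lit 5, nat_lit 8, nat_lit 9, nat_lit 8, nat_lit 4, nat_lit 7, nat_lit 6, nat_lit 8, nat_lit 6, nat_lit 7, nat_lit 4, nat_lit 7, nat_lit 6, nat_lit 1, nat_lit 3, nat_lit 0], [[nat_lit 99, nat_lit 99]])) (.leaf ((nat_lit 4), [nat_lit 9, nat_lit 7, nat_lit 6, nat_lit 0, nat_lit 9, nat_lit 7, nat_lit 6, nat_lit 1, nat_lit 8, nat_lit 1, nat_lit 8, nat_lit 5, nat_lit 3, nat_lit 5], [[nat_lit 99, nat_lit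 1, nat_lit 0, nat_lit 99, nat_lit 1, nat_lit 0]]))) (.node (nat_lit 491) (.leaf ((nat_lit 4), [nat_lit 7, nat_lit 8, nat_lit 3, nat_lit 1, nat_lit 9, nat_lit 3, nat_lit 7, nat_lit 8, nat_lit 6, nat_lit 3, nat_lit 7, nat_lit 0, nat_lit 3, nat_lit 2], [[nat_lit 99, nat_lit 0]])) (.node (nat_lit 492) (.leaf ((nat_lit 4), [nat_lit 8, nat_lit 5, nat_lit 2, nat_lit 9, nat_lit 8, nat_lit 7, nat_lit 8, nat_lit 3, nat_lit 8, nat_lit 7, nat_lit 4, nat_lit 1, nat_lit 4, nat_lit 7, nat_lit 1, nat_lit 4], [[nat_lit 99, nat_lit 99]])) (.leaf ((nat_lit 4), [nat_lit 3, nat_lit 1, nat_lit 9, nat_lit 5, nat_lit 7, nat_lit 8, nat_lit 0, nat_lit 8, nat_lit 6, nat_lit 7, nat_lit 1, nat_lit 6], [[nat_lit 99, nat_lit 1]]))))))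
 (.node (nat_lit 498) (.node (nat_lit 495) (.node (nat_lit 494) (.leaf ((nat_lit 4), [nat_lit 8, nat_lit 1, nat_lit 9, nat_lit 1, nat_lit 9, nat_lit 6, nat_lit 8, nat_lit 1, nat_lit 6, nat_lit 7, nat_lit 4, nat_lit 0, nat_lit 4], [[nat_lit 99, nat_lit 2, nat_lit 99, nat_lit 2]])) (.leaf ((nat_lit 4), [nat_lit 3, nat_lit 8, nat_lit 0, nat_lit 9, nat_lit 7, nat_lit 6, nat_lit 4, nat_lit 8, nat_lit 6, nat_lit 1, nat_lit 7, nat_lit 1, nat_lit 3, nat_lit 2], [[nat_lit 99, nat_lit 2, nat_lit 99, nat_lit 2]]))) (.node (nat_lit 496) (.leaf ((nat_lit 4), [nat_lit 9, nat_lit 4, nat_lit 0, nat_lit 9, nat_lit 6, nat_lit 8, nat_lit 4, nat_lit 7, nat_lit 8, nat_lit 1, nat_lit 4, nat_lit 7, nat_lit 2, nat_lit 0], [[nat_lit 99]])) (.node (nat_lit 497) (.leaf ((nat_lit 4), [nat_lit 4, nat_lit 4, nat_lit 7, nat_lit 9, nat_lit 6, nat_lit 7, nat_lit 3, nat_lit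 1, nat_lit 8, nat_lit 0, nat_lit 7, nat_lit 4, nat_lit 7, nat_lit 2], [[nat_lit 99, nat_lit 99]])) (.leaf ((nat_lit 4), [nat_lit 5, nat_lit 9, nat_lit 7, nat_lit 4, nat_lit 9, nat_lit 8, nat_lit 7, nat_lit 6, nat_lit 8, nat_lit 4, nat_lit 7, nat_lit 5, nat_lit 3, nat_lit 5], [[nat_lit 99]])))))
 (.node (nat_lit 501) (.node (nat_lit 499) (.leaf ((nat_lit 4), [nat_lit 9, nat_lit 6, nat_lit 4, nat_lit 1, nat_lit 9, nat_lit 1, nat_lit 8, nat_lit 6, nat_lit 8, nat_lit 1, nat_lit 3, nat_lit 7, nat_lit 5], [[nat_lit 99, nat_lit 2, nat_lit 99, nat_lit 2]])) (.node (nat_lit 500) (.leaf ((nat_lit 4), [nat_lit 6, nat_lit 1, nat_lit 8, nat_lit 9, nat_lit 3, nat_lit 8, nat_lit 5, nat_lit 8, nat_lit 5, nat_lit 1, nat_lit 7, nat_lit 0, nat_lit 5, nat_lit 1], [[nat_lit 99, nat_lit 99]])) (.leaf ((nat_lit 4), [nat_lit 0, nat_lit 9, nat_lit 1, nat_lit 9,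 nat_lit 4, nat_lit 5, nat_lit 7, nat_lit 8, nat_lit 4, nat_lit 8, nat_lit 6, nat_lit 1, nat_lit 7, nat_lit 1, nat_lit 4, nat_lit 4], [[nat_lit 99, nat_lit 1, nat_lit 0]])))) (.node (nat_lit 502) (.leaf ((nat_lit 4), [nat_lit 9, nat_lit 0, nat_lit 3, nat_lit 9, nat_lit 6, nat_lit 4, nat_lit 8, nat_lit 1, nat_lit 7, nat_lit 5, nat_lit 3, nat_lit 7, nat_lit 5, nat_lit 1], [[nat_lit 99, nat_lit 1, nat_lit 99, nat_lit 1]])) (.node (nat_lit 503) (.leaf ((nat_lit 4), [nat_lit 8, nat_lit 4, nat_lit 4, nat_lit 9, nat_lit 4, nat_lit 7, nat_lit 8, nat_lit 7, nat_lit 6, nat_lit 7, nat_lit 4, nat_lit 7, nat_lit 6, nat_lit 3, nat_lit 2], [[nat_lit 99, nat_lit 3, nat_lit 99, nat_lit 3]])) (.leaf ((nat_lit 4), [nat_lit 8, nat_lit 1, nat_lit 9, nat_lit 7, nat_lit 5, nat_lit 7, nat_lit 8, nat_lit 1, nat_lit 4, nat_lit 4, nat_lit 2, nat_lit 0], [[nat_lit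 99, nat_lit 3, nat_lit 0, nat_lit 99, nat_lit 3, nat_lit 0]]))))))))))
noncomputable def eCE_3 : Tr (ℕ × List ℕ × List (List ℕ)) := (.node (nat_lit 588) (.node (nat_lit 546) (.node (nat_lit 525) (.node (nat_lit 514) (.node (nat_lit 509) (.node (nat_lit 506) (.node (nat_lit 505) (.leaf ((nat_lit 4), [nat_lit 7, nat_lit 0, nat_lit 9, nat_lit 7, nat_lit 6, nat_lit 8, nat_lit 1, nat_lit 8, nat_lit 7, nat_lit 3, nat_lit 0, nat_lit 7, nat_lit 4, nat_lit 4, nat_lit 0], [[nat_lit 99, nat_lit 4, nat_lit 99, nat_lit 4]])) (.leaf ((nat_lit 4), [nat_lit 1, nat_lit 9, nat_lit 7, nat_lit 0, nat_lit 9, nat_lit 7, nat_lit 6, nat_lit 4, nat_lit 8, nat_lit 1, nat_lit 4, nat_lit 7, nat_lit 0, nat_lit 5], [[nat_lit 99, nat_lit 99]]))) (.node (nat_lit 507) (.leaf ((nat_lit 4), [nat_lit 7, nat_lit 9, nat_lit 4, nat_lit 7, nat_lit 3, nat_lit 6, nat_lit 8, nat_lit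 1, nat_lit 7, nat_lit 6, nat_lit 0, nat_lit 7, nat_lit 6, nat_lit 2], [[nat_lit 99, nat_lit 1, nat_lit 99, nat_lit 1]])) (.node (nat_lit 508) (.leaf ((nat_lit 4), [nat_lit 5, nat_lit 8, nat_lit 9, nat_lit 4, nat_lit 0, nat_lit 8, nat_lit 7, nat_lit 1, nat_lit 3, nat_lit 7, nat_lit 1, nat_lit 4, nat_lit 4], [[nat_lit 99, nat_lit 0]])) (.leaf ((nat_lit 4), [nat_lit 5, nat_lit 8, nat_lit 6, nat_lit 4, nat_lit 1, nat_lit 9, nat_lit 7, nat_lit 8, nat_lit 3, nat_lit 8, nat_lit 6, nat_lit 7, nat_lit 6, nat_lit 3, nat_lit 2], [[nat_lit 99, nat_lit 4]])))))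
 (.node (nat_lit 511) (.node (nat_lit 510) (.leaf ((nat_lit 4), [nat_lit 8, nat_lit 7, nat_lit 4, nat_lit 0, nat_lit 8, nat_lit 1, nat_lit 7, nat_lit 5, nat_lit 3, nat_lit 7, nat_lit 3, nat_lit 6, nat_lit 3, nat_lit 1], [[nat_lit 99, nat_lit 99]])) (.leaf ((nat_lit 4), [nat_lit 0, nat_lit 9, nat_lit 8, nat_lit 2, nat_lit 9, nat_lit 8, nat_lit 0, nat_lit 7, nat_lit 4, nat_lit 8, nat_lit 6, nat_lit 3, nat_lit 7, nat_lit 1, nat_lit 5, nat_lit 1], [[nat_lit 99, nat_lit 2, nat_lit 99, nat_lit 2]]))) (.node (nat_lit 512) (.leaf ((nat_lit 4), [nat_lit 1, nat_lit 3, nat_lit 9, nat_lit 3, nat_lit 9, nat_lit 8, nat_lit 6, nat_lit 4, nat_lit 1, nat_lit 8, nat_lit 3, nat_lit 6, nat_lit 3, nat_lit 2], [[nat_lit 99, nat_lit 99]])) (.node (nat_lit 513) (.leaf ((nat_lit 4), [nat_lit 6, nat_lit 7, nat_lit 8, nat_lit 9, nat_lit 0, nat_lit 7, nat_lit 6, nat_lit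 8, nat_lit 7, nat_lit 4, nat_lit 7, nat_lit 4, nat_lit 2, nat_lit 1], [[nat_lit 99, nat_lit 0, nat_lit 99, nat_lit 0]])) (.leaf ((nat_lit 4), [nat_lit 7, nat_lit 4, nat_lit 9, nat_lit 6, nat_lit 1, nat_lit 9, nat_lit 6, nat_lit 6, nat_lit 8, nat_lit 0, nat_lit 7, nat_lit 5], [[nat_lit 99, nat_lit 2, nat_lit 99, nat_lit 2]]))))))
 (.node (nat_lit 519) (.node (nat_lit 516) (.node (nat_lit 515) (.leaf ((nat_lit 4), [nat_lit 8, nat_lit 0, nat_lit 8, nat_lit 9, nat_lit 0, nat_lit 7, nat_lit 4, nat_lit 8, nat_lit 7, nat_lit 6, nat_lit 4, nat_lit 7, nat_lit 4, nat_lit 5, nat_lit 0], [[nat_lit 99, nat_lit 0, nat_lit 99, nat_lit 0]])) (.leaf ((nat_lit 4), [nat_lit 3, nat_lit 2, nat_lit 9, nat_lit 0, nat_lit 9, nat_lit 7, nat_lit 8, nat_lit 6, nat_lit 3, nat_lit 7, nat_lit 0, nat_lit 3, nat_lit 2], [[nat_lit 99, nat_lit 4, nat_lit 99, nat_lit 4]])))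 (.node (nat_lit 517) (.leaf ((nat_lit 4), [nat_lit 9, nat_lit 0, nat_lit 5, nat_lit 8, nat_lit 0, nat_lit 9, nat_lit 7, nat_lit 8, nat_lit 7, nat_lit 6, nat_lit 7, nat_lit 6, nat_lit 1, nat_lit 4], [[nat_lit 99]])) (.node (nat_lit 518) (.leaf ((nat_lit 4), [nat_lit 7, nat_lit 3, nat_lit 9, nat_lit 7, nat_lit 8, nat_lit 7, nat_lit 6, nat_lit 8, nat_lit 6, nat_lit 0, nat_lit 7, nat_lit 6, nat_lit 0], [[nat_lit 99, nat_lit 2]])) (.leaf ((nat_lit 4), [nat_lit 7, nat_lit 9, nat_lit 6, nat_lit 1, nat_lit 9, nat_lit 8, nat_lit 5, nat_lit 7, nat_lit 4, nat_lit 8, nat_lit 5, nat_lit 3, nat_lit 7, nat_lit 2], [[nat_lit 99, nat_lit 2, nat_lit 99, nat_lit 2]])))))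
 (.node (nat_lit 522) (.node (nat_lit 520) (.leaf ((nat_lit 4), [nat_lit 3, nat_lit 8, nat_lit 0, nat_lit 9, nat_lit 8, nat_lit 3, nat_lit 8, nat_lit 0, nat_lit 8, nat_lit 3, nat_lit 0, nat_lit 7, nat_lit 4, nat_lit 5, nat_lit 0], [[nat_lit 99, nat_lit 2, nat_lit 99, nat_lit 2]])) (.node (nat_lit 521) (.leaf ((nat_lit 4), [nat_lit 7, nat_lit 4, nat_lit 9, nat_lit 4, nat_lit 1, nat_lit 8, nat_lit 3, nat_lit 7, nat_lit 6, nat_lit 7, nat_lit 1, nat_lit 5], [[nat_lit 99, nat_lit 0, nat_lit 99, nat_lit 0]])) (.leaf ((nat_lit 4), [nat_lit 4, nat_lit 1, nat_lit 8, nat_lit 9, nat_lit 4, nat_lit 7, nat_lit 5, nat_lit 4, nat_lit 8, nat_lit 7, nat_lit 6, nat_lit 0, nat_lit 7, nat_lit 2, nat_lit 0], [[nat_lit 99, nat_lit 99]])))) (.node (nat_lit 523) (.leaf ((nat_lit 4), [nat_lit 4, nat_lit 9, nat_lit 8, nat_lit 4, nat_lit 9, nat_lit 4, nat_lit 8,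 nat_lit 5, nat_lit 7, nat_lit 4, nat_lit 7, nat_lit 2], [[nat_lit 99, nat_lit 4, nat_lit 0, nat_lit 99, nat_lit 4, nat_lit 0]])) (.node (nat_lit 524) (.leaf ((nat_lit 4), [nat_lit 8, nat_lit 5, nat_lit 2, nat_lit 9, nat_lit 5, nat_lit 3, nat_lit 1, nat_lit 8, nat_lit 1, nat_lit 3, nat_lit 7, nat_lit 4, nat_lit 7, nat_lit 5], [[nat_lit 99, nat_lit 99, nat_lit 0]])) (.leaf ((nat_lit 4), [nat_lit 1, nat_lit 6, nat_lit 1, nat_lit 9, nat_lit 8, nat_lit 1, nat_lit 8, nat_lit 6, nat_lit 8, nat_lit 7, nat_lit 5, nat_lit 4, nat_lit 7, nat_lit 4, nat_lit 6, nat_lit 4], [[nat_lit 99, nat_lit 2, nat_lit 99, nat_lit 2]])))))))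
 (.node (nat_lit 535) (.node (nat_lit 530) (.node (nat_lit 527) (.node (nat_lit 526) (.leaf ((nat_lit 4), [nat_lit 3, nat_lit 9, nat_lit 0, nat_lit 6, nat_lit 9, nat_lit 2, nat_lit 4, nat_lit 8, nat_lit 0, nat_lit 8, nat_lit 3, nat_lit 7, nat_lit 4, nat_lit 2, nat_lit 0], [[nat_lit 99]])) (.leaf ((nat_lit 4), [nat_lit 6, nat_lit 9, nat_lit 8, nat_lit 2, nat_lit 9, nat_lit 4, nat_lit 8, nat_lit 5, nat_lit 1, nat_lit 8, nat_lit 6, nat_lit 1, nat_lit 7, nat_lit 5, nat_lit 3, nat_lit 5, nat_lit 1], [[nat_lit 99, nat_lit 0, nat_lit 99, nat_lit 0]]))) (.node (nat_lit 528) (.leaf ((nat_lit 4), [nat_lit 3, nat_lit 0, nat_lit 9, nat_lit 6, nat_lit 8, nat_lit 0, nat_lit 8, nat_lit 7, nat_lit 5, nat_lit 0, nat_lit 7, nat_lit 3, nat_lit 5, nat_lit 2, nat_lit 0], [[nat_lit 99, nat_lit 1]])) (.node (nat_lit 529) (.leaf ((nat_lit 4), [nat_lit 9, nat_lit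 7, nat_lit 3, nat_lit 9, nat_lit 8, nat_lit 6, nat_lit 8, nat_lit 6, nat_lit 8, nat_lit 6, nat_lit 7, nat_lit 3, nat_lit 2], [[nat_lit 99]])) (.leaf ((nat_lit 4), [nat_lit 8, nat_lit 3, nat_lit 7, nat_lit 9, nat_lit 1, nat_lit 7, nat_lit 1, nat_lit 8, nat_lit 4, nat_lit 8, nat_lit 6, nat_lit 4], [[nat_lit 1, nat_lit 99, nat_lit 1, nat_lit 0]])))))
 (.node (nat_lit 532) (.node (nat_lit 531) (.leaf ((nat_lit 4), [nat_lit 9, nat_lit 5, nat_lit 2, nat_lit 9, nat_lit 8, nat_lit 5, nat_lit 7, nat_lit 4, nat_lit 8, nat_lit 4, nat_lit 7, nat_lit 6, nat_lit 0, nat_lit 7, nat_lit 3, nat_lit 2], [[nat_lit 99, nat_lit 0, nat_lit 99, nat_lit 0]])) (.leaf ((nat_lit 4), [nat_lit 6, nat_lit 1, nat_lit 9, nat_lit 0, nat_lit 3, nat_lit 8, nat_lit 4, nat_lit 1, nat_lit 4, nat_lit 7, nat_lit 0, nat_lit 6, nat_lit 0], [[nat_lit 99, nat_lit 0]]))) (.node (nat_lit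 533) (.leaf ((nat_lit 4), [nat_lit 8, nat_lit 9, nat_lit 6, nat_lit 9, nat_lit 4, nat_lit 7, nat_lit 5, nat_lit 4, nat_lit 8, nat_lit 7, nat_lit 5, nat_lit 2], [[nat_lit 99, nat_lit 1, nat_lit 99, nat_lit 1]])) (.node (nat_lit 534) (.leaf ((nat_lit 4), [nat_lit 3, nat_lit 0, nat_lit 9, nat_lit 5, nat_lit 8, nat_lit 3, nat_lit 8, nat_lit 5, nat_lit 4, nat_lit 7, nat_lit 6, nat_lit 1, nat_lit 4], [[nat_lit 99, nat_lit 99]])) (.leaf ((nat_lit 4), [nat_lit 7, nat_lit 9, nat_lit 6, nat_lit 7, nat_lit 9, nat_lit 5, nat_lit 8, nat_lit 3, nat_lit 8, nat_lit 7, nat_lit 6, nat_lit 7, nat_lit 1, nat_lit 5, nat_lit 0], [[nat_lit 99, nat_lit 1]]))))))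
 (.node (nat_lit 540) (.node (nat_lit 537) (.node (nat_lit 536) (.leaf ((nat_lit 4), [nat_lit 9, nat_lit 8, nat_lit 9, nat_lit 1, nat_lit 6, nat_lit 7, nat_lit 8, nat_lit 7, nat_lit 6, nat_lit 3, nat_lit 7, nat_lit 4, nat_lit 4, nat_lit 1], [[nat_lit 99, nat_lit 1]])) (.leaf ((nat_lit 4), [nat_lit 9, nat_lit 7, nat_lit 4, nat_lit 9, nat_lit 4, nat_lit 8, nat_lit 7, nat_lit 0, nat_lit 4, nat_lit 0, nat_lit 7, nat_lit 1, nat_lit 4, nat_lit 2, nat_lit 1], [[nat_lit 99, nat_lit 1]]))) (.node (nat_lit 538) (.leaf ((nat_lit 4), [nat_lit 7, nat_lit 9, nat_lit 3, nat_lit 9, nat_lit 0, nat_lit 8, nat_lit 6, nat_lit 8, nat_lit 7, nat_lit 4, nat_lit 1, nat_lit 4, nat_lit 7, nat_lit 6, nat_lit 2], [[nat_lit 99, nat_lit 1, nat_lit 0]])) (.node (nat_lit 539) (.leaf ((nat_lit 4), [nat_lit 6, nat_lit 4, nat_lit 1, nat_lit 9, nat_lit 0, nat_lit 8, nat_lit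 7, nat_lit 6, nat_lit 8, nat_lit 3, nat_lit 7, nat_lit 4, nat_lit 7, nat_lit 6, nat_lit 4, nat_lit 1], [[nat_lit 99, nat_lit 2, nat_lit 99, nat_lit 2]])) (.leaf ((nat_lit 4), [nat_lit 1, nat_lit 8, nat_lit 9, nat_lit 1, nat_lit 4, nat_lit 8, nat_lit 5, nat_lit 8, nat_lit 0, nat_lit 7, nat_lit 3, nat_lit 7, nat_lit 4, nat_lit 4], [[nat_lit 99, nat_lit 1, nat_lit 0]])))))
 (.node (nat_lit 543) (.node (nat_lit 541) (.leaf ((nat_lit 4), [nat_lit 6, nat_lit 7, nat_lit 2, nat_lit 9, nat_lit 8, nat_lit 6, nat_lit 7, nat_lit 8, nat_lit 6, nat_lit 1, nat_lit 3, nat_lit 2], [[nat_lit 99, nat_lit 3, nat_lit 99, nat_lit 3]])) (.node (nat_lit 542) (.leaf ((nat_lit 4), [nat_lit 9, nat_lit 2, nat_lit 0, nat_lit 9, nat_lit 0, nat_lit 8, nat_lit 4, nat_lit 8, nat_lit 2, nat_lit 6, nat_lit 7, nat_lit 3, nat_lit 5, nat_lit 1], [[nat_lit 99, nat_lit 99]]))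 (.leaf ((nat_lit 4), [nat_lit 1, nat_lit 6, nat_lit 1, nat_lit 9, nat_lit 1, nat_lit 4, nat_lit 4, nat_lit 8, nat_lit 7, nat_lit 5, nat_lit 3, nat_lit 0], [[nat_lit 99, nat_lit 2, nat_lit 0, nat_lit 99, nat_lit 2, nat_lit 0]])))) (.node (nat_lit 544) (.leaf ((nat_lit 4), [nat_lit 0, nat_lit 8, nat_lit 9, nat_lit 6, nat_lit 4, nat_lit 7, nat_lit 8, nat_lit 1, nat_lit 8, nat_lit 7, nat_lit 6, nat_lit 0, nat_lit 7, nat_lit 4, nat_lit 2], [[nat_lit 99, nat_lit 3, nat_lit 0]])) (.node (nat_lit 545) (.leaf ((nat_lit 4), [nat_lit 4, nat_lit 8, nat_lit 2, nat_lit 1, nat_lit 9, nat_lit 1, nat_lit 8, nat_lit 6, nat_lit 8, nat_lit 7, nat_lit 0, nat_lit 6, nat_lit 7, nat_lit 0, nat_lit 5, nat_lit 1], [[nat_lit 99, nat_lit 0]])) (.leaf ((nat_lit 4), [nat_lit 9, nat_lit 6, nat_lit 8, nat_lit 3, nat_lit 9, nat_lit 0, nat_lit 3, nat_lit 8, nat_lit 1, nat_lit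 6, nat_lit 7, nat_lit 1, nat_lit 4, nat_lit 0], [[nat_lit 99, nat_lit 4, nat_lit 0, nat_lit 99, nat_lit 4, nat_lit 0]]))))))))
 (.node (nat_lit 567) (.node (nat_lit 556) (.node (nat_lit 551) (.node (nat_lit 548) (.node (nat_lit 547) (.leaf ((nat_lit 4), [nat_lit 3, nat_lit 9, nat_lit 4, nat_lit 8, nat_lit 5, nat_lit 1, nat_lit 8, nat_lit 5, nat_lit 3, nat_lit 0, nat_lit 7, nat_lit 4, nat_lit 6], [[nat_lit 99, nat_lit 3, nat_lit 0, nat_lit 99, nat_lit 3, nat_lit 0]])) (.leaf ((nat_lit 4), [nat_lit 0, nat_lit 8, nat_lit 9, nat_lit 0, nat_lit 9, nat_lit 8, nat_lit 7, nat_lit 8, nat_lit 1, nat_lit 8, nat_lit 4, nat_lit 1, nat_lit 4, nat_lit 7, nat_lit 4, nat_lit 1], [[nat_lit 99]]))) (.node (nat_lit 549) (.leaf ((nat_lit 4), [nat_lit 6, nat_lit 8, nat_lit 4, nat_lit 9, nat_lit 6, nat_lit 0, nat_lit 8, nat_lit 3, nat_lit 8, nat_lit 5, nat_lit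 3, nat_lit 7, nat_lit 5, nat_lit 3, nat_lit 2, nat_lit 1], [[nat_lit 99, nat_lit 3, nat_lit 99, nat_lit 3]])) (.node (nat_lit 550) (.leaf ((nat_lit 4), [nat_lit 2, nat_lit 9, nat_lit 3, nat_lit 8, nat_lit 7, nat_lit 8, nat_lit 0, nat_lit 7, nat_lit 6, nat_lit 7, nat_lit 1, nat_lit 6, nat_lit 2, nat_lit 0], [[nat_lit 99, nat_lit 99]])) (.leaf ((nat_lit 4), [nat_lit 7, nat_lit 9, nat_lit 8, nat_lit 7, nat_lit 5, nat_lit 8, nat_lit 3, nat_lit 7, nat_lit 1, nat_lit 3, nat_lit 7, nat_lit 6], [[nat_lit 99, nat_lit 0, nat_lit 99, nat_lit 0]])))))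
 (.node (nat_lit 553) (.node (nat_lit 552) (.leaf ((nat_lit 4), [nat_lit 3, nat_lit 9, nat_lit 8, nat_lit 1, nat_lit 3, nat_lit 1, nat_lit 8, nat_lit 3, nat_lit 5, nat_lit 1, nat_lit 7, nat_lit 1, nat_lit 5, nat_lit 1], [[nat_lit 99, nat_lit 1, nat_lit 99, nat_lit 1]])) (.leaf ((nat_lit 4), [nat_lit 8, nat_lit 2, nat_lit 9, nat_lit 6, nat_lit 7, nat_lit 4, nat_lit 1, nat_lit 8, nat_lit 3, nat_lit 7, nat_lit 4, nat_lit 6, nat_lit 4, nat_lit 2], [[nat_lit 99, nat_lit 2, nat_lit 99, nat_lit 2]]))) (.node (nat_lit 554) (.leaf ((nat_lit 4), [nat_lit 8, nat_lit 9, nat_lit 1, nat_lit 9, nat_lit 6, nat_lit 3, nat_lit 8, nat_lit 1, nat_lit 7, nat_lit 3, nat_lit 7, nat_lit 0, nat_lit 5, nat_lit 2, nat_lit 0], [[nat_lit 99, nat_lit 2, nat_lit 99, nat_lit 2]])) (.node (nat_lit 555) (.leaf ((nat_lit 4), [nat_lit 6, nat_lit 8, nat_lit 9, nat_lit 6, nat_lit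 9, nat_lit 8, nat_lit 7, nat_lit 8, nat_lit 0, nat_lit 7, nat_lit 6, nat_lit 7, nat_lit 4, nat_lit 4, nat_lit 0], [[nat_lit 1, nat_lit 99, nat_lit 0, nat_lit 1, nat_lit 99, nat_lit 0]])) (.leaf ((nat_lit 4), [nat_lit 3, nat_lit 9, nat_lit 8, nat_lit 0, nat_lit 7, nat_lit 4, nat_lit 8, nat_lit 7, nat_lit 6, nat_lit 0, nat_lit 7, nat_lit 4, nat_lit 6, nat_lit 0], [[nat_lit 99, nat_lit 99]]))))))
 (.node (nat_lit 561) (.node (nat_lit 558) (.node (nat_lit 557) (.leaf ((nat_lit 4), [nat_lit 7, nat_lit 9, nat_lit 6, nat_lit 1, nat_lit 9, nat_lit 8, nat_lit 6, nat_lit 6, nat_lit 8, nat_lit 6, nat_lit 0, nat_lit 7, nat_lit 5, nat_lit 3, nat_lit 0], [[nat_lit 99, nat_lit 4]])) (.leaf ((nat_lit 4), [nat_lit 4, nat_lit 7, nat_lit 9, nat_lit 4, nat_lit 7, nat_lit 6, nat_lit 4, nat_lit 8, nat_lit 0, nat_lit 7], [[nat_lit 99, nat_lit 1, nat_lit 0]])))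 (.node (nat_lit 559) (.leaf ((nat_lit 4), [nat_lit 1, nat_lit 9, nat_lit 3, nat_lit 9, nat_lit 6, nat_lit 6, nat_lit 8, nat_lit 3, nat_lit 8, nat_lit 1, nat_lit 7, nat_lit 4, nat_lit 7, nat_lit 1, nat_lit 3, nat_lit 2, nat_lit 1], [[nat_lit 99, nat_lit 4]])) (.node (nat_lit 560) (.leaf ((nat_lit 4), [nat_lit 3, nat_lit 8, nat_lit 0, nat_lit 9, nat_lit 7, nat_lit 5, nat_lit 8, nat_lit 0, nat_lit 8, nat_lit 4, nat_lit 6, nat_lit 4, nat_lit 7, nat_lit 3], [[nat_lit 99, nat_lit 2, nat_lit 99, nat_lit 2]])) (.leaf ((nat_lit 4), [nat_lit 9, nat_lit 6, nat_lit 8, nat_lit 7, nat_lit 4, nat_lit 1, nat_lit 8, nat_lit 7, nat_lit 4, nat_lit 1, nat_lit 7, nat_lit 5, nat_lit 3, nat_lit 2], [[nat_lit 99, nat_lit 99]])))))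
 (.node (nat_lit 564) (.node (nat_lit 562) (.leaf ((nat_lit 4), [nat_lit 0, nat_lit 7, nat_lit 3, nat_lit 9, nat_lit 1, nat_lit 8, nat_lit 4, nat_lit 8, nat_lit 7, nat_lit 1, nat_lit 3, nat_lit 7, nat_lit 3, nat_lit 1, nat_lit 4], [[nat_lit 99, nat_lit 99]])) (.node (nat_lit 563) (.leaf ((nat_lit 4), [nat_lit 8, nat_lit 9, nat_lit 3, nat_lit 9, nat_lit 3, nat_lit 7, nat_lit 5, nat_lit 8, nat_lit 7, nat_lit 5, nat_lit 0, nat_lit 7, nat_lit 4, nat_lit 5, nat_lit 2, nat_lit 0], [[nat_lit 99, nat_lit 4, nat_lit 99, nat_lit 4]])) (.leaf ((nat_lit 4), [nat_lit 4, nat_lit 9, nat_lit 4, nat_lit 7, nat_lit 9, nat_lit 7, nat_lit 8, nat_lit 5, nat_lit 3, nat_lit 7, nat_lit 6, nat_lit 1, nat_lit 3, nat_lit 2], [[nat_lit 99, nat_lit 0, nat_lit 99, nat_lit 0]])))) (.node (nat_lit 565) (.leaf ((nat_lit 4), [nat_lit 4, nat_lit 7, nat_lit 9, nat_lit 7,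 nat_lit 6, nat_lit 6, nat_lit 8, nat_lit 7, nat_lit 6, nat_lit 4, nat_lit 7, nat_lit 5, nat_lit 3], [[nat_lit 99, nat_lit 1]])) (.node (nat_lit 566) (.leaf ((nat_lit 4), [nat_lit 6, nat_lit 7, nat_lit 8, nat_lit 2, nat_lit 9, nat_lit 4, nat_lit 6, nat_lit 7, nat_lit 8, nat_lit 6, nat_lit 7, nat_lit 1, nat_lit 3], [[nat_lit 99, nat_lit 4]])) (.leaf ((nat_lit 4), [nat_lit 8, nat_lit 3, nat_lit 7, nat_lit 3, nat_lit 9, nat_lit 5, nat_lit 8, nat_lit 6, nat_lit 1, nat_lit 8, nat_lit 5, nat_lit 3, nat_lit 7, nat_lit 4, nat_lit 6, nat_lit 4], [[nat_lit 99, nat_lit 0, nat_lit 99, nat_lit 0]])))))))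
 (.node (nat_lit 577) (.node (nat_lit 572) (.node (nat_lit 569) (.node (nat_lit 568) (.leaf ((nat_lit 4), [nat_lit 6, nat_lit 8, nat_lit 4, nat_lit 2, nat_lit 9, nat_lit 3, nat_lit 7, nat_lit 4, nat_lit 8, nat_lit 1, nat_lit 8, nat_lit 7, nat_lit 4, nat_lit 0, nat_lit 7, nat_lit 3, nat_lit 2], [[nat_lit 99, nat_lit 1]])) (.leaf ((nat_lit 4), [nat_lit 3, nat_lit 7, nat_lit 9, nat_lit 3, nat_lit 9, nat_lit 6, nat_lit 8, nat_lit 0, nat_lit 8, nat_lit 1, nat_lit 4, nat_lit 0, nat_lit 7], [[nat_lit 99, nat_lit 4, nat_lit 0, nat_lit 99, nat_lit 4, nat_lit 0]]))) (.node (nat_lit 570) (.leaf ((nat_lit 4), [nat_lit 7, nat_lit 6, nat_lit 2, nat_lit 9, nat_lit 6, nat_lit 8, nat_lit 5, nat_lit 8, nat_lit 4, nat_lit 7, nat_lit 4, nat_lit 7, nat_lit 3, nat_lit 1, nat_lit 4], [[nat_lit 99, nat_lit 1]])) (.node (nat_lit 571) (.leaf ((nat_lit 4), [nat_lit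 7, nat_lit 6, nat_lit 9, nat_lit 1, nat_lit 4, nat_lit 4, nat_lit 8, nat_lit 6, nat_lit 7, nat_lit 6, nat_lit 0, nat_lit 7, nat_lit 4, nat_lit 6, nat_lit 4], [[nat_lit 99]])) (.leaf ((nat_lit 4), [nat_lit 0, nat_lit 9, nat_lit 6, nat_lit 0, nat_lit 9, nat_lit 8, nat_lit 4, nat_lit 5, nat_lit 8, nat_lit 6, nat_lit 0, nat_lit 7, nat_lit 4, nat_lit 6, nat_lit 2], [[nat_lit 99, nat_lit 3, nat_lit 0, nat_lit 99, nat_lit 3, nat_lit 0]])))))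
 (.node (nat_lit 574) (.node (nat_lit 573) (.leaf ((nat_lit 4), [nat_lit 1, nat_lit 9, nat_lit 4, nat_lit 2, nat_lit 9, nat_lit 0, nat_lit 8, nat_lit 0, nat_lit 4, nat_lit 8, nat_lit 7, nat_lit 6, nat_lit 4], [[nat_lit 99]])) (.leaf ((nat_lit 4), [nat_lit 3, nat_lit 0, nat_lit 9, nat_lit 6, nat_lit 9, nat_lit 7, nat_lit 0, nat_lit 6, nat_lit 8, nat_lit 3, nat_lit 7, nat_lit 6, nat_lit 4, nat_lit 7, nat_lit 0], [[nat_lit 4, nat_lit 99, nat_lit 0]]))) (.node (nat_lit 575) (.leaf ((nat_lit 4), [nat_lit 3, nat_lit 7, nat_lit 9, nat_lit 7, nat_lit 3, nat_lit 7, nat_lit 8, nat_lit 3, nat_lit 6, nat_lit 7, nat_lit 0, nat_lit 3, nat_lit 1], [[nat_lit 99, nat_lit 99]])) (.node (nat_lit 576) (.leaf ((nat_lit 4), [nat_lit 8, nat_lit 3, nat_lit 1, nat_lit 9, nat_lit 8, nat_lit 4, nat_lit 7, nat_lit 3, nat_lit 1, nat_lit 8, nat_lit 3, nat_lit 7, nat_lit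 5, nat_lit 3, nat_lit 5], [[nat_lit 99, nat_lit 2]])) (.leaf ((nat_lit 4), [nat_lit 6, nat_lit 2, nat_lit 9, nat_lit 7, nat_lit 4, nat_lit 8, nat_lit 4, nat_lit 4, nat_lit 2, nat_lit 1], [[nat_lit 99, nat_lit 0, nat_lit 99, nat_lit 0]]))))))
 (.node (nat_lit 582) (.node (nat_lit 579) (.node (nat_lit 578) (.leaf ((nat_lit 4), [nat_lit 7, nat_lit 5, nat_lit 8, nat_lit 5, nat_lit 1, nat_lit 8, nat_lit 1, nat_lit 7, nat_lit 6, nat_lit 4, nat_lit 7, nat_lit 3], [[nat_lit 99, nat_lit 99]])) (.leaf ((nat_lit 4), [nat_lit 6, nat_lit 9, nat_lit 7, nat_lit 2, nat_lit 9, nat_lit 3, nat_lit 7, nat_lit 5, nat_lit 8, nat_lit 7, nat_lit 4, nat_lit 6], [[nat_lit 99, nat_lit 4, nat_lit 99, nat_lit 4]]))) (.node (nat_lit 580) (.leaf ((nat_lit 4), [nat_lit 8, nat_lit 4, nat_lit 6, nat_lit 9, nat_lit 5, nat_lit 1, nat_lit 7, nat_lit 6, nat_lit 8, nat_lit 7,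 nat_lit 1, nat_lit 4, nat_lit 0, nat_lit 7, nat_lit 6, nat_lit 1], [[nat_lit 99]])) (.node (nat_lit 581) (.leaf ((nat_lit 4), [nat_lit 3, nat_lit 8, nat_lit 1, nat_lit 8, nat_lit 9, nat_lit 8, nat_lit 7, nat_lit 4, nat_lit 4, nat_lit 8, nat_lit 6, nat_lit 6, nat_lit 0, nat_lit 7, nat_lit 0], [[nat_lit 99, nat_lit 99]])) (.leaf ((nat_lit 4), [nat_lit 9, nat_lit 1, nat_lit 8, nat_lit 9, nat_lit 4, nat_lit 8, nat_lit 3, nat_lit 8, nat_lit 4, nat_lit 0, nat_lit 7, nat_lit 5, nat_lit 0], [[nat_lit 99, nat_lit 0]])))))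
 (.node (nat_lit 585) (.node (nat_lit 583) (.leaf ((nat_lit 4), [nat_lit 6, nat_lit 3, nat_lit 1, nat_lit 9, nat_lit 6, nat_lit 0, nat_lit 8, nat_lit 7, nat_lit 3, nat_lit 6, nat_lit 7, nat_lit 6, nat_lit 4, nat_lit 2, nat_lit 0], [[nat_lit 99, nat_lit 0]])) (.node (nat_lit 584) (.leaf ((nat_lit 4), [nat_lit 5, nat_lit 9, nat_lit 1, nat_lit 9, nat_lit 8, nat_lit 0, nat_lit 5, nat_lit 8, nat_lit 3, nat_lit 7, nat_lit 0, nat_lit 6, nat_lit 1], [[nat_lit 99]])) (.leaf ((nat_lit 4), [nat_lit 3, nat_lit 8, nat_lit 2, nat_lit 1, nat_lit 9, nat_lit 7, nat_lit 6, nat_lit 8, nat_lit 0, nat_lit 7, nat_lit 6, nat_lit 7, nat_lit 4, nat_lit 1], [[nat_lit 99, nat_lit 2, nat_lit 0, nat_lit 99, nat_lit 2, nat_lit 0]])))) (.node (nat_lit 586) (.leaf ((nat_lit 4), [nat_lit 0, nat_lit 3, nat_lit 9, nat_lit 3, nat_lit 9, nat_lit 4, nat_lit 0, nat_lit 8, nat_lit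 1, nat_lit 7, nat_lit 6, nat_lit 0, nat_lit 7, nat_lit 4, nat_lit 1, nat_lit 4], [[nat_lit 2, nat_lit 99, nat_lit 0]])) (.node (nat_lit 587) (.leaf ((nat_lit 4), [nat_lit 8, nat_lit 6, nat_lit 7, nat_lit 2, nat_lit 9, nat_lit 6, nat_lit 0, nat_lit 8, nat_lit 3, nat_lit 8, nat_lit 1], [[nat_lit 99, nat_lit 4, nat_lit 99, nat_lit 4]])) (.leaf ((nat_lit 4), [nat_lit 0, nat_lit 9, nat_lit 8, nat_lit 2, nat_lit 9, nat_lit 4, nat_lit 8, nat_lit 4, nat_lit 8, nat_lit 1, nat_lit 7, nat_lit 1, nat_lit 6, nat_lit 1], [[nat_lit 99, nat_lit 0]])))))))))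
 (.node (nat_lit 630) (.node (nat_lit 609) (.node (nat_lit 598) (.node (nat_lit 593) (.node (nat_lit 590) (.node (nat_lit 589) (.leaf ((nat_lit 4), [nat_lit 5, nat_lit 2, nat_lit 9, nat_lit 4, nat_lit 8, nat_lit 6, nat_lit 8, nat_lit 1, nat_lit 8, nat_lit 5, nat_lit 7, nat_lit 3, nat_lit 7, nat_lit 2], [[nat_lit 1, nat_lit 99, nat_lit 0, nat_lit 1, nat_lit 99, nat_lit 0]])) (.leaf ((nat_lit 4), [nat_lit 6, nat_lit 9, nat_lit 0, nat_lit 9, nat_lit 2, nat_lit 6, nat_lit 8, nat_lit 0, nat_lit 8, nat_lit 3, nat_lit 6, nat_lit 7, nat_lit 1, nat_lit 3, nat_lit 0], [[nat_lit 99, nat_lit 3]]))) (.node (nat_lit 591) (.leaf ((nat_lit 4), [nat_lit 8, nat_lit 9, nat_lit 2, nat_lit 1, nat_lit 9, nat_lit 6, nat_lit 6, nat_lit 1, nat_lit 8, nat_lit 4, nat_lit 0, nat_lit 7, nat_lit 6, nat_lit 0], [[nat_lit 99, nat_lit 0, nat_lit 99, nat_lit 0]])) (.node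 (nat_lit 592) (.leaf ((nat_lit 4), [nat_lit 5, nat_lit 8, nat_lit 1, nat_lit 9, nat_lit 8, nat_lit 6, nat_lit 4, nat_lit 1, nat_lit 8, nat_lit 6, nat_lit 1, nat_lit 7, nat_lit 0, nat_lit 5, nat_lit 0], [[nat_lit 99, nat_lit 4, nat_lit 99, nat_lit 4]])) (.leaf ((nat_lit 4), [nat_lit 6, nat_lit 4, nat_lit 9, nat_lit 1, nat_lit 8, nat_lit 5, nat_lit 8, nat_lit 6, nat_lit 3, nat_lit 7, nat_lit 2, nat_lit 4, nat_lit 4], [[nat_lit 99, nat_lit 4, nat_lit 99, nat_lit 4]])))))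
 (.node (nat_lit 595) (.node (nat_lit 594) (.leaf ((nat_lit 4), [nat_lit 3, nat_lit 8, nat_lit 7, nat_lit 9, nat_lit 8, nat_lit 6, nat_lit 7, nat_lit 8, nat_lit 4, nat_lit 1, nat_lit 7, nat_lit 4, nat_lit 0, nat_lit 4, nat_lit 2], [[nat_lit 99, nat_lit 3, nat_lit 99, nat_lit 3]])) (.leaf ((nat_lit 4), [nat_lit 9, nat_lit 7, nat_lit 4, nat_lit 9, nat_lit 1, nat_lit 6, nat_lit 8, nat_lit 6, nat_lit 8, nat_lit 7, nat_lit 5, nat_lit 2, nat_lit 1], [[nat_lit 99, nat_lit 2, nat_lit 99, nat_lit 2]]))) (.node (nat_lit 596) (.leaf ((nat_lit 4), [nat_lit 9, nat_lit 2, nat_lit 9, nat_lit 0, nat_lit 9, nat_lit 8, nat_lit 0, nat_lit 8, nat_lit 3, nat_lit 5, nat_lit 1, nat_lit 7, nat_lit 0, nat_lit 5, nat_lit 0], [[nat_lit 99, nat_lit 1, nat_lit 0]])) (.node (nat_lit 597) (.leaf ((nat_lit 4), [nat_lit 3, nat_lit 7, nat_lit 8, nat_lit 1, nat_lit 9, nat_lit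 0, nat_lit 3, nat_lit 8, nat_lit 7, nat_lit 4, nat_lit 7, nat_lit 3, nat_lit 6, nat_lit 3], [[nat_lit 2, nat_lit 99, nat_lit 0]])) (.leaf ((nat_lit 4), [nat_lit 4, nat_lit 8, nat_lit 6, nat_lit 9, nat_lit 8, nat_lit 4, nat_lit 1, nat_lit 8, nat_lit 6, nat_lit 6, nat_lit 0, nat_lit 7, nat_lit 1, nat_lit 6, nat_lit 0], [[nat_lit 99, nat_lit 0]]))))))
 (.node (nat_lit 603) (.node (nat_lit 600) (.node (nat_lit 599) (.leaf ((nat_lit 4), [nat_lit 1, nat_lit 9, nat_lit 7, nat_lit 0, nat_lit 9, nat_lit 0, nat_lit 8, nat_lit 5, nat_lit 7, nat_lit 6, nat_lit 4, nat_lit 7, nat_lit 5, nat_lit 3, nat_lit 2], [[nat_lit 99, nat_lit 0, nat_lit 99, nat_lit 0]])) (.leaf ((nat_lit 4), [nat_lit 0, nat_lit 9, nat_lit 4, nat_lit 1, nat_lit 9, nat_lit 4, nat_lit 8, nat_lit 1, nat_lit 7, nat_lit 6, nat_lit 4, nat_lit 6, nat_lit 2], [[nat_lit 99, nat_lit 1, nat_lit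 0]]))) (.node (nat_lit 601) (.leaf ((nat_lit 4), [nat_lit 4, nat_lit 4, nat_lit 0, nat_lit 9, nat_lit 4, nat_lit 8, nat_lit 7, nat_lit 5, nat_lit 1, nat_lit 7, nat_lit 1, nat_lit 5, nat_lit 2, nat_lit 1], [[nat_lit 99]])) (.node (nat_lit 602) (.leaf ((nat_lit 4), [nat_lit 0, nat_lit 9, nat_lit 8, nat_lit 4, nat_lit 8, nat_lit 7, nat_lit 6, nat_lit 0, nat_lit 7, nat_lit 6, nat_lit 3, nat_lit 0], [[nat_lit 99, nat_lit 3]])) (.leaf ((nat_lit 4), [nat_lit 6, nat_lit 1, nat_lit 9, nat_lit 0, nat_lit 3, nat_lit 8, nat_lit 6, nat_lit 1, nat_lit 7, nat_lit 6, nat_lit 1, nat_lit 4], [[nat_lit 99, nat_lit 3, nat_lit 99, nat_lit 3]])))))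
 (.node (nat_lit 606) (.node (nat_lit 604) (.leaf ((nat_lit 4), [nat_lit 8, nat_lit 0, nat_lit 8, nat_lit 9, nat_lit 4, nat_lit 6, nat_lit 8, nat_lit 6, nat_lit 4, nat_lit 1, nat_lit 7, nat_lit 1, nat_lit 5, nat_lit 2], [[nat_lit 99, nat_lit 3, nat_lit 99, nat_lit 3]])) (.node (nat_lit 605) (.leaf ((nat_lit 4), [nat_lit 8, nat_lit 4, nat_lit 9, nat_lit 0, nat_lit 7, nat_lit 3, nat_lit 1, nat_lit 8, nat_lit 6, nat_lit 4, nat_lit 1, nat_lit 7, nat_lit 4, nat_lit 4], [[nat_lit 99, nat_lit 1, nat_lit 99, nat_lit 1]])) (.leaf ((nat_lit 4), [nat_lit 7, nat_lit 4, nat_lit 9, nat_lit 8, nat_lit 7, nat_lit 3, nat_lit 7, nat_lit 8, nat_lit 4, nat_lit 1, nat_lit 7, nat_lit 1, nat_lit 3], [[nat_lit 99, nat_lit 99]])))) (.node (nat_lit 607) (.leaf ((nat_lit 4), [nat_lit 9, nat_lit 8, nat_lit 4, nat_lit 9, nat_lit 4, nat_lit 4, nat_lit 8, nat_lit 1,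 nat_lit 8, nat_lit 6, nat_lit 6, nat_lit 0, nat_lit 7, nat_lit 4], [[nat_lit 99, nat_lit 4, nat_lit 99, nat_lit 4]])) (.node (nat_lit 608) (.leaf ((nat_lit 4), [nat_lit 7, nat_lit 9, nat_lit 6, nat_lit 1, nat_lit 9, nat_lit 6, nat_lit 6, nat_lit 8, nat_lit 1, nat_lit 8, nat_lit 6, nat_lit 7, nat_lit 3, nat_lit 1, nat_lit 4, nat_lit 1], [[nat_lit 99, nat_lit 2]])) (.leaf ((nat_lit 4), [nat_lit 8, nat_lit 7, nat_lit 9, nat_lit 8, nat_lit 0, nat_lit 9, nat_lit 8, nat_lit 7, nat_lit 8, nat_lit 7, nat_lit 6, nat_lit 0, nat_lit 7, nat_lit 3, nat_lit 0], [[nat_lit 99, nat_lit 1]])))))))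
 (.node (nat_lit 619) (.node (nat_lit 614) (.node (nat_lit 611) (.node (nat_lit 610) (.leaf ((nat_lit 4), [nat_lit 8, nat_lit 2, nat_lit 1, nat_lit 9, nat_lit 8, nat_lit 6, nat_lit 8, nat_lit 5, nat_lit 8, nat_lit 5, nat_lit 4, nat_lit 7, nat_lit 4, nat_lit 6], [[nat_lit 99, nat_lit 1, nat_lit 0]])) (.leaf ((nat_lit 4), [nat_lit 2, nat_lit 9, nat_lit 4, nat_lit 7, nat_lit 0, nat_lit 3, nat_lit 8, nat_lit 1, nat_lit 7, nat_lit 3, nat_lit 7, nat_lit 6], [[nat_lit 99, nat_lit 0, nat_lit 99, nat_lit 0]]))) (.node (nat_lit 612) (.leaf ((nat_lit 4), [nat_lit 0, nat_lit 3, nat_lit 9, nat_lit 4, nat_lit 8, nat_lit 6, nat_lit 8, nat_lit 1, nat_lit 8, nat_lit 1, nat_lit 7, nat_lit 1, nat_lit 4, nat_lit 7, nat_lit 5, nat_lit 2], [[nat_lit 99, nat_lit 99, nat_lit 0]])) (.node (nat_lit 613) (.leaf ((nat_lit 4), [nat_lit 9, nat_lit 1, nat_lit 7, nat_lit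 6, nat_lit 9, nat_lit 3, nat_lit 6, nat_lit 8, nat_lit 7, nat_lit 1, nat_lit 3, nat_lit 7, nat_lit 4, nat_lit 4, nat_lit 1], [[nat_lit 99, nat_lit 0, nat_lit 99, nat_lit 0]])) (.leaf ((nat_lit 4), [nat_lit 8, nat_lit 7, nat_lit 9, nat_lit 8, nat_lit 0, nat_lit 7, nat_lit 4, nat_lit 8, nat_lit 0, nat_lit 7, nat_lit 6, nat_lit 7, nat_lit 4, nat_lit 5], [[nat_lit 99, nat_lit 1]])))))
 (.node (nat_lit 616) (.node (nat_lit 615) (.leaf ((nat_lit 4), [nat_lit 7, nat_lit 9, nat_lit 6, nat_lit 2, nat_lit 1, nat_lit 9, nat_lit 7, nat_lit 6, nat_lit 7, nat_lit 4, nat_lit 7, nat_lit 2, nat_lit 1], [[nat_lit 99, nat_lit 2]])) (.leaf ((nat_lit 4), [nat_lit 9, nat_lit 7, nat_lit 6, nat_lit 0, nat_lit 9, nat_lit 4, nat_lit 5, nat_lit 8, nat_lit 3, nat_lit 6, nat_lit 7, nat_lit 0, nat_lit 5, nat_lit 2, nat_lit 0], [[nat_lit 99, nat_lit 4, nat_lit 99, nat_lit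 4]]))) (.node (nat_lit 617) (.leaf ((nat_lit 4), [nat_lit 4, nat_lit 4, nat_lit 9, nat_lit 0, nat_lit 4, nat_lit 7, nat_lit 8, nat_lit 4, nat_lit 7, nat_lit 6, nat_lit 1, nat_lit 3, nat_lit 0], [[nat_lit 99, nat_lit 99]])) (.node (nat_lit 618) (.leaf ((nat_lit 4), [nat_lit 6, nat_lit 4, nat_lit 1, nat_lit 9, nat_lit 7, nat_lit 6, nat_lit 7, nat_lit 8, nat_lit 1, nat_lit 7, nat_lit 3, nat_lit 7, nat_lit 6, nat_lit 4, nat_lit 6], [[nat_lit 99, nat_lit 4, nat_lit 0]])) (.leaf ((nat_lit 4), [nat_lit 7, nat_lit 6, nat_lit 9, nat_lit 1, nat_lit 9, nat_lit 4, nat_lit 7, nat_lit 4, nat_lit 5, nat_lit 8, nat_lit 7, nat_lit 3, nat_lit 6, nat_lit 3, nat_lit 2], [[nat_lit 99, nat_lit 0, nat_lit 99, nat_lit 0]]))))))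
 (.node (nat_lit 624) (.node (nat_lit 621) (.node (nat_lit 620) (.leaf ((nat_lit 4), [nat_lit 3, nat_lit 7, nat_lit 8, nat_lit 1, nat_lit 9, nat_lit 0, nat_lit 8, nat_lit 4, nat_lit 7, nat_lit 8, nat_lit 7, nat_lit 1, nat_lit 6, nat_lit 0], [[nat_lit 99, nat_lit 99]])) (.leaf ((nat_lit 4), [nat_lit 7, nat_lit 8, nat_lit 9, nat_lit 7, nat_lit 8, nat_lit 4, nat_lit 8, nat_lit 4, nat_lit 7, nat_lit 3, nat_lit 0, nat_lit 3, nat_lit 2, nat_lit 0], [[nat_lit 99, nat_lit 99]]))) (.node (nat_lit 622) (.leaf ((nat_lit 4), [nat_lit 6, nat_lit 6, nat_lit 9, nat_lit 4, nat_lit 0, nat_lit 9, nat_lit 3, nat_lit 6, nat_lit 8, nat_lit 4, nat_lit 7, nat_lit 6, nat_lit 6], [[nat_lit 99, nat_lit 2, nat_lit 2]])) (.node (nat_lit 623) (.leaf ((nat_lit 4), [nat_lit 0, nat_lit 5, nat_lit 8, nat_lit 0, nat_lit 9, nat_lit 5, nat_lit 7, nat_lit 6, nat_lit 8, nat_lit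 3, nat_lit 7, nat_lit 2], [[nat_lit 99, nat_lit 2]])) (.leaf ((nat_lit 4), [nat_lit 0, nat_lit 8, nat_lit 9, nat_lit 4, nat_lit 9, nat_lit 4, nat_lit 0, nat_lit 8, nat_lit 3, nat_lit 7, nat_lit 6, nat_lit 1, nat_lit 7, nat_lit 4], [[nat_lit 99, nat_lit 0, nat_lit 99, nat_lit 0]])))))
 (.node (nat_lit 627) (.node (nat_lit 625) (.leaf ((nat_lit 4), [nat_lit 8, nat_lit 9, nat_lit 8, nat_lit 3, nat_lit 9, nat_lit 0, nat_lit 3, nat_lit 8, nat_lit 0, nat_lit 7, nat_lit 6, nat_lit 1, nat_lit 7, nat_lit 4, nat_lit 6], [[nat_lit 99, nat_lit 2, nat_lit 0, nat_lit 99, nat_lit 2, nat_lit 0]])) (.node (nat_lit 626) (.leaf ((nat_lit 4), [nat_lit 4, nat_lit 8, nat_lit 4, nat_lit 1, nat_lit 9, nat_lit 0, nat_lit 8, nat_lit 5, nat_lit 1, nat_lit 8, nat_lit 3, nat_lit 5, nat_lit 3, nat_lit 2, nat_lit 0], [[nat_lit 99, nat_lit 3, nat_lit 1]])) (.leaf ((nat_lit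 4), [nat_lit 2, nat_lit 1, nat_lit 9, nat_lit 8, nat_lit 6, nat_lit 8, nat_lit 3, nat_lit 7, nat_lit 8, nat_lit 3, nat_lit 7, nat_lit 3, nat_lit 2, nat_lit 0], [[nat_lit 99, nat_lit 4, nat_lit 99, nat_lit 4]])))) (.node (nat_lit 628) (.leaf ((nat_lit 4), [nat_lit 8, nat_lit 6, nat_lit 7, nat_lit 2, nat_lit 9, nat_lit 4, nat_lit 8, nat_lit 0, nat_lit 7, nat_lit 5, nat_lit 1, nat_lit 7, nat_lit 6], [[nat_lit 99, nat_lit 3, nat_lit 0]])) (.node (nat_lit 629) (.leaf ((nat_lit 4), [nat_lit 8, nat_lit 0, nat_lit 7, nat_lit 8, nat_lit 9, nat_lit 0, nat_lit 3, nat_lit 1, nat_lit 8, nat_lit 0, nat_lit 7, nat_lit 6, nat_lit 2, nat_lit 1], [[nat_lit 99, nat_lit 0, nat_lit 99, nat_lit 0]])) (.leaf ((nat_lit 4), [nat_lit 8, nat_lit 6, nat_lit 9, nat_lit 1, nat_lit 9, nat_lit 3, nat_lit 7, nat_lit 8, nat_lit 7, nat_lit 0, nat_lit 3], [[nat_lit 99, nat_lit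 1, nat_lit 99, nat_lit 1]]))))))))
 (.node (nat_lit 651) (.node (nat_lit 640) (.node (nat_lit 635) (.node (nat_lit 632) (.node (nat_lit 631) (.leaf ((nat_lit 4), [nat_lit 7, nat_lit 0, nat_lit 9, nat_lit 4, nat_lit 2, nat_lit 9, nat_lit 8, nat_lit 7, nat_lit 8, nat_lit 7, nat_lit 4, nat_lit 8, nat_lit 7], [[nat_lit 4, nat_lit 99, nat_lit 0, nat_lit 4, nat_lit 99, nat_lit 0]])) (.leaf ((nat_lit 4), [nat_lit 6, nat_lit 9, nat_lit 7, nat_lit 4, nat_lit 4, nat_lit 8, nat_lit 5, nat_lit 3, nat_lit 0, nat_lit 7, nat_lit 4, nat_lit 0, nat_lit 4, nat_lit 2, nat_lit 1], [[nat_lit 99]]))) (.node (nat_lit 633) (.leaf ((nat_lit 4), [nat_lit 9, nat_lit 1, nat_lit 4, nat_lit 9, nat_lit 8, nat_lit 6, nat_lit 8, nat_lit 0, nat_lit 7, nat_lit 5, nat_lit 1, nat_lit 7, nat_lit 4, nat_lit 2], [[nat_lit 99, nat_lit 4]])) (.node (nat_lit 634) (.leaf ((nat_lit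 4), [nat_lit 5, nat_lit 3, nat_lit 9, nat_lit 3, nat_lit 9, nat_lit 3, nat_lit 7, nat_lit 8, nat_lit 2, nat_lit 6, nat_lit 7, nat_lit 6, nat_lit 1, nat_lit 4, nat_lit 1], [[nat_lit 99, nat_lit 1, nat_lit 0]])) (.leaf ((nat_lit 4), [nat_lit 9, nat_lit 3, nat_lit 9, nat_lit 3, nat_lit 9, nat_lit 6, nat_lit 6, nat_lit 1, nat_lit 8, nat_lit 1, nat_lit 7, nat_lit 6, nat_lit 2, nat_lit 0], [[nat_lit 99, nat_lit 1, nat_lit 99, nat_lit 1]])))))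
 (.node (nat_lit 637) (.node (nat_lit 636) (.leaf ((nat_lit 4), [nat_lit 4, nat_lit 2, nat_lit 9, nat_lit 2, nat_lit 4, nat_lit 8, nat_lit 0, nat_lit 8, nat_lit 5, nat_lit 0, nat_lit 7, nat_lit 5, nat_lit 3], [[nat_lit 99, nat_lit 3, nat_lit 0, nat_lit 99, nat_lit 3, nat_lit 0]])) (.leaf ((nat_lit 4), [nat_lit 3, nat_lit 8, nat_lit 2, nat_lit 9, nat_lit 8, nat_lit 6, nat_lit 8, nat_lit 3, nat_lit 7, nat_lit 4, nat_lit 1, nat_lit 7, nat_lit 6, nat_lit 2], [[nat_lit 3, nat_lit 99, nat_lit 1]]))) (.node (nat_lit 638) (.leaf ((nat_lit 4), [nat_lit 7, nat_lit 6, nat_lit 9, nat_lit 4, nat_lit 6, nat_lit 7, nat_lit 8, nat_lit 7, nat_lit 1, nat_lit 5, nat_lit 2, nat_lit 1], [[nat_lit 99, nat_lit 99]])) (.node (nat_lit 639) (.leaf ((nat_lit 4), [nat_lit 1, nat_lit 9, nat_lit 7, nat_lit 8, nat_lit 4, nat_lit 4, nat_lit 8, nat_lit 3, nat_lit 7, nat_lit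 4, nat_lit 7, nat_lit 4, nat_lit 4], [[nat_lit 99, nat_lit 99]])) (.leaf ((nat_lit 4), [nat_lit 8, nat_lit 7, nat_lit 2, nat_lit 9, nat_lit 4, nat_lit 0, nat_lit 8, nat_lit 4, nat_lit 8, nat_lit 7, nat_lit 3, nat_lit 7, nat_lit 4, nat_lit 5], [[nat_lit 99, nat_lit 4, nat_lit 0, nat_lit 99, nat_lit 4, nat_lit 0]]))))))
 (.node (nat_lit 645) (.node (nat_lit 642) (.node (nat_lit 641) (.leaf ((nat_lit 4), [nat_lit 3, nat_lit 8, nat_lit 2, nat_lit 1, nat_lit 9, nat_lit 7, nat_lit 5, nat_lit 1, nat_lit 7, nat_lit 6, nat_lit 6, nat_lit 2], [[nat_lit 1, nat_lit 99, nat_lit 0, nat_lit 1, nat_lit 99, nat_lit 0]])) (.leaf ((nat_lit 4), [nat_lit 6, nat_lit 9, nat_lit 2, nat_lit 1, nat_lit 9, nat_lit 1, nat_lit 7, nat_lit 3, nat_lit 1, nat_lit 8, nat_lit 4, nat_lit 7, nat_lit 1, nat_lit 4, nat_lit 1], [[nat_lit 99, nat_lit 1]]))) (.node (nat_lit 643)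 (.leaf ((nat_lit 4), [nat_lit 7, nat_lit 3, nat_lit 9, nat_lit 0, nat_lit 8, nat_lit 5, nat_lit 4, nat_lit 8, nat_lit 7, nat_lit 3, nat_lit 7, nat_lit 0, nat_lit 6], [[nat_lit 99, nat_lit 0, nat_lit 99, nat_lit 0]])) (.node (nat_lit 644) (.leaf ((nat_lit 4), [nat_lit 1, nat_lit 9, nat_lit 3, nat_lit 8, nat_lit 6, nat_lit 8, nat_lit 0, nat_lit 8, nat_lit 1, nat_lit 7, nat_lit 5, nat_lit 1, nat_lit 7, nat_lit 5], [[nat_lit 99, nat_lit 99]])) (.leaf ((nat_lit 4), [nat_lit 9, nat_lit 6, nat_lit 4, nat_lit 9, nat_lit 7, nat_lit 6, nat_lit 4, nat_lit 8, nat_lit 1, nat_lit 4, nat_lit 7, nat_lit 0, nat_lit 6, nat_lit 1], [[nat_lit 99, nat_lit 0]])))))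
 (.node (nat_lit 648) (.node (nat_lit 646) (.leaf ((nat_lit 4), [nat_lit 8, nat_lit 4, nat_lit 9, nat_lit 1, nat_lit 9, nat_lit 1, nat_lit 4, nat_lit 8, nat_lit 0, nat_lit 8, nat_lit 5, nat_lit 1, nat_lit 7, nat_lit 6, nat_lit 3], [[nat_lit 99, nat_lit 1]])) (.node (nat_lit 647) (.leaf ((nat_lit 4), [nat_lit 5, nat_lit 8, nat_lit 9, nat_lit 4, nat_lit 5, nat_lit 7, nat_lit 6, nat_lit 8, nat_lit 6, nat_lit 7, nat_lit 4, nat_lit 7, nat_lit 6, nat_lit 1], [[nat_lit 99, nat_lit 4, nat_lit 0]])) (.leaf ((nat_lit 4), [nat_lit 4, nat_lit 7, nat_lit 9, nat_lit 7, nat_lit 8, nat_lit 6, nat_lit 8, nat_lit 7, nat_lit 5, nat_lit 1, nat_lit 7, nat_lit 6, nat_lit 4, nat_lit 0], [[nat_lit 99, nat_lit 0]])))) (.node (nat_lit 649) (.leaf ((nat_lit 4), [nat_lit 6, nat_lit 2, nat_lit 9, nat_lit 7, nat_lit 5, nat_lit 8, nat_lit 0, nat_lit 8, nat_lit 3, nat_lit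 0, nat_lit 7, nat_lit 3, nat_lit 6, nat_lit 3], [[nat_lit 99, nat_lit 4, nat_lit 99, nat_lit 4]])) (.node (nat_lit 650) (.leaf ((nat_lit 4), [nat_lit 9, nat_lit 8, nat_lit 9, nat_lit 6, nat_lit 8, nat_lit 7, nat_lit 8, nat_lit 5, nat_lit 7, nat_lit 6, nat_lit 4, nat_lit 7, nat_lit 6, nat_lit 3], [[nat_lit 99, nat_lit 0, nat_lit 99, nat_lit 0]])) (.leaf ((nat_lit 4), [nat_lit 4, nat_lit 8, nat_lit 2, nat_lit 1, nat_lit 9, nat_lit 8, nat_lit 1, nat_lit 8, nat_lit 7, nat_lit 3, nat_lit 0, nat_lit 7, nat_lit 3, nat_lit 2], [[nat_lit 99, nat_lit 0]])))))))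
 (.node (nat_lit 661) (.node (nat_lit 656) (.node (nat_lit 653) (.node (nat_lit 652) (.leaf ((nat_lit 4), [nat_lit 0, nat_lit 8, nat_lit 2, nat_lit 9, nat_lit 4, nat_lit 4, nat_lit 8, nat_lit 7, nat_lit 8, nat_lit 1, nat_lit 3, nat_lit 7, nat_lit 6, nat_lit 2, nat_lit 0], [[nat_lit 99, nat_lit 3]])) (.leaf ((nat_lit 4), [nat_lit 9, nat_lit 6, nat_lit 2, nat_lit 9, nat_lit 0, nat_lit 9, nat_lit 8, nat_lit 1, nat_lit 8, nat_lit 1, nat_lit 7, nat_lit 4, nat_lit 6], [[nat_lit 99, nat_lit 2, nat_lit 99, nat_lit 2]]))) (.node (nat_lit 654) (.leaf ((nat_lit 4), [nat_lit 4, nat_lit 7, nat_lit 9, nat_lit 6, nat_lit 8, nat_lit 7, nat_lit 4, nat_lit 8, nat_lit 7, nat_lit 5, nat_lit 3, nat_lit 2], [[nat_lit 99, nat_lit 99]])) (.node (nat_lit 655) (.leaf ((nat_lit 4), [nat_lit 3, nat_lit 8, nat_lit 2, nat_lit 1, nat_lit 9, nat_lit 7, nat_lit 8, nat_lit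 6, nat_lit 4, nat_lit 8, nat_lit 1, nat_lit 6], [[nat_lit 99, nat_lit 1, nat_lit 99, nat_lit 1]])) (.leaf ((nat_lit 4), [nat_lit 2, nat_lit 4, nat_lit 7, nat_lit 8, nat_lit 9, nat_lit 6, nat_lit 3, nat_lit 8, nat_lit 0, nat_lit 4, nat_lit 0, nat_lit 7, nat_lit 1, nat_lit 4], [[nat_lit 1, nat_lit 99, nat_lit 0, nat_lit 1, nat_lit 99, nat_lit 0]])))))
 (.node (nat_lit 658) (.node (nat_lit 657) (.leaf ((nat_lit 4), [nat_lit 8, nat_lit 5, nat_lit 9, nat_lit 0, nat_lit 9, nat_lit 6, nat_lit 7, nat_lit 6, nat_lit 1, nat_lit 8, nat_lit 3, nat_lit 7, nat_lit 4, nat_lit 6, nat_lit 4, nat_lit 2], [[nat_lit 1, nat_lit 99, nat_lit 0]])) (.leaf ((nat_lit 4), [nat_lit 8, nat_lit 1, nat_lit 9, nat_lit 1, nat_lit 7, nat_lit 8, nat_lit 4, nat_lit 8, nat_lit 1, nat_lit 7, nat_lit 4, nat_lit 7, nat_lit 1, nat_lit 4, nat_lit 4], [[nat_lit 99, nat_lit 1, nat_lit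 99, nat_lit 1]]))) (.node (nat_lit 659) (.leaf ((nat_lit 4), [nat_lit 7, nat_lit 9, nat_lit 3, nat_lit 9, nat_lit 1, nat_lit 7, nat_lit 8, nat_lit 6, nat_lit 8, nat_lit 4, nat_lit 0, nat_lit 7, nat_lit 0, nat_lit 4], [[nat_lit 99, nat_lit 3, nat_lit 0, nat_lit 99, nat_lit 3, nat_lit 0]])) (.node (nat_lit 660) (.leaf ((nat_lit 4), [nat_lit 9, nat_lit 8, nat_lit 9, nat_lit 0, nat_lit 9, nat_lit 4, nat_lit 4, nat_lit 7, nat_lit 8, nat_lit 7, nat_lit 3, nat_lit 7, nat_lit 6, nat_lit 6, nat_lit 2, nat_lit 1], [[nat_lit 3, nat_lit 99, nat_lit 2, nat_lit 3, nat_lit 99, nat_lit 2]])) (.leaf ((nat_lit 4), [nat_lit 1, nat_lit 4, nat_lit 9, nat_lit 8, nat_lit 7, nat_lit 8, nat_lit 4, nat_lit 8, nat_lit 4, nat_lit 0, nat_lit 7, nat_lit 4, nat_lit 7, nat_lit 6, nat_lit 3], [[nat_lit 99, nat_lit 2, nat_lit 99, nat_lit 2]]))))))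
 (.node (nat_lit 666) (.node (nat_lit 663) (.node (nat_lit 662) (.leaf ((nat_lit 4), [nat_lit 8, nat_lit 3, nat_lit 7, nat_lit 9, nat_lit 4, nat_lit 8, nat_lit 0, nat_lit 8, nat_lit 4, nat_lit 7, nat_lit 1, nat_lit 4, nat_lit 7, nat_lit 4, nat_lit 5], [[nat_lit 99, nat_lit 2, nat_lit 99, nat_lit 2]])) (.leaf ((nat_lit 4), [nat_lit 8, nat_lit 5, nat_lit 7, nat_lit 8, nat_lit 9, nat_lit 7, nat_lit 3, nat_lit 7, nat_lit 8, nat_lit 4, nat_lit 4, nat_lit 0, nat_lit 7, nat_lit 4, nat_lit 1, nat_lit 4], [[nat_lit 99, nat_lit 1]]))) (.node (nat_lit 664) (.leaf ((nat_lit 4), [nat_lit 8, nat_lit 6, nat_lit 0, nat_lit 9, nat_lit 0, nat_lit 8, nat_lit 0, nat_lit 7, nat_lit 4, nat_lit 5, nat_lit 2], [[nat_lit 99, nat_lit 3]])) (.node (nat_lit 665) (.leaf ((nat_lit 4), [nat_lit 7, nat_lit 5, nat_lit 9, nat_lit 1, nat_lit 9, nat_lit 8, nat_lit 3, nat_lit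 8, nat_lit 0, nat_lit 7, nat_lit 3, nat_lit 7, nat_lit 5, nat_lit 4, nat_lit 5], [[nat_lit 99, nat_lit 3]])) (.leaf ((nat_lit 4), [nat_lit 9, nat_lit 8, nat_lit 0, nat_lit 9, nat_lit 4, nat_lit 0, nat_lit 8, nat_lit 7, nat_lit 4, nat_lit 7, nat_lit 2, nat_lit 4, nat_lit 4], [[nat_lit 99]])))))
 (.node (nat_lit 669) (.node (nat_lit 667) (.leaf ((nat_lit 4), [nat_lit 3, nat_lit 8, nat_lit 2, nat_lit 1, nat_lit 9, nat_lit 8, nat_lit 4, nat_lit 5, nat_lit 8, nat_lit 2, nat_lit 6, nat_lit 7, nat_lit 4, nat_lit 2, nat_lit 0], [[nat_lit 4, nat_lit 99, nat_lit 0]])) (.node (nat_lit 668) (.leaf ((nat_lit 4), [nat_lit 7, nat_lit 4, nat_lit 4, nat_lit 9, nat_lit 5, nat_lit 7, nat_lit 8, nat_lit 7, nat_lit 5, nat_lit 4, nat_lit 7, nat_lit 6, nat_lit 3, nat_lit 1], [[nat_lit 99, nat_lit 2, nat_lit 0]])) (.leaf ((nat_lit 4), [nat_lit 5, nat_lit 4, nat_lit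 9, nat_lit 6, nat_lit 9, nat_lit 0, nat_lit 8, nat_lit 7, nat_lit 4, nat_lit 1, nat_lit 4, nat_lit 7, nat_lit 0, nat_lit 5], [[nat_lit 99, nat_lit 99]])))) (.node (nat_lit 670) (.leaf ((nat_lit 4), [nat_lit 1, nat_lit 9, nat_lit 3, nat_lit 9, nat_lit 3, nat_lit 8, nat_lit 0, nat_lit 8, nat_lit 0, nat_lit 7, nat_lit 2, nat_lit 6, nat_lit 7, nat_lit 6, nat_lit 1], [[nat_lit 99]])) (.node (nat_lit 671) (.leaf ((nat_lit 4), [nat_lit 1, nat_lit 8, nat_lit 7, nat_lit 4, nat_lit 9, nat_lit 5, nat_lit 3, nat_lit 8, nat_lit 7, nat_lit 8, nat_lit 7, nat_lit 5, nat_lit 2], [[nat_lit 99, nat_lit 2, nat_lit 99, nat_lit 2]])) (.leaf ((nat_lit 4), [nat_lit 9, nat_lit 3, nat_lit 9, nat_lit 3, nat_lit 9, nat_lit 7, nat_lit 6, nat_lit 0, nat_lit 3, nat_lit 8, nat_lit 4, nat_lit 0, nat_lit 7, nat_lit 4, nat_lit 7, nat_lit 0, nat_lit 6], [[nat_lit 99, nat_lit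 99]]))))))))))
noncomputable def eCE_4 : Tr (ℕ × List ℕ × List (List ℕ)) := (.node (nat_lit 756) (.node (nat_lit 714) (.node (nat_lit 693) (.node (nat_lit 682) (.node (nat_lit 677) (.node (nat_lit 674) (.node (nat_lit 673) (.leaf ((nat_lit 4), [nat_lit 0, nat_lit 9, nat_lit 6, nat_lit 9, nat_lit 8, nat_lit 6, nat_lit 8, nat_lit 4, nat_lit 8, nat_lit 1, nat_lit 3, nat_lit 7, nat_lit 6, nat_lit 4], [[nat_lit 99, nat_lit 3, nat_lit 99, nat_lit 3]])) (.leaf ((nat_lit 4), [nat_lit 8, nat_lit 6, nat_lit 9, nat_lit 0, nat_lit 5, nat_lit 7, nat_lit 8, nat_lit 4, nat_lit 7, nat_lit 4, nat_lit 7, nat_lit 6, nat_lit 4, nat_lit 1], [[nat_lit 99, nat_lit 2]]))) (.node (nat_lit 675) (.leaf ((nat_lit 4), [nat_lit 0, nat_lit 7, nat_lit 9, nat_lit 3, nat_lit 1, nat_lit 8, nat_lit 3, nat_lit 7, nat_lit 1, nat_lit 4, nat_lit 2], [[nat_lit 99, nat_lit 0, nat_lit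 99, nat_lit 0]])) (.node (nat_lit 676) (.leaf ((nat_lit 4), [nat_lit 9, nat_lit 8, nat_lit 3, nat_lit 0, nat_lit 9, nat_lit 6, nat_lit 8, nat_lit 0, nat_lit 8, nat_lit 6, nat_lit 7, nat_lit 3, nat_lit 6, nat_lit 3, nat_lit 2, nat_lit 0], [[nat_lit 99, nat_lit 1, nat_lit 99, nat_lit 1]])) (.leaf ((nat_lit 4), [nat_lit 0, nat_lit 8, nat_lit 9, nat_lit 8, nat_lit 9, nat_lit 0, nat_lit 6, nat_lit 8, nat_lit 3, nat_lit 5, nat_lit 1, nat_lit 7, nat_lit 6, nat_lit 4, nat_lit 6], [[nat_lit 99, nat_lit 3]])))))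
 (.node (nat_lit 679) (.node (nat_lit 678) (.leaf ((nat_lit 4), [nat_lit 6, nat_lit 0, nat_lit 9, nat_lit 8, nat_lit 7, nat_lit 6, nat_lit 7, nat_lit 8, nat_lit 1, nat_lit 7, nat_lit 1, nat_lit 4, nat_lit 7, nat_lit 4, nat_lit 6], [[nat_lit 99, nat_lit 2, nat_lit 2]])) (.leaf ((nat_lit 4), [nat_lit 6, nat_lit 8, nat_lit 7, nat_lit 9, nat_lit 4, nat_lit 8, nat_lit 3, nat_lit 7, nat_lit 4, nat_lit 1, nat_lit 7, nat_lit 1, nat_lit 6, nat_lit 0], [[nat_lit 99]]))) (.node (nat_lit 680) (.leaf ((nat_lit 4), [nat_lit 6, nat_lit 1, nat_lit 9, nat_lit 0, nat_lit 5, nat_lit 1, nat_lit 8, nat_lit 1, nat_lit 7, nat_lit 6, nat_lit 3, nat_lit 7, nat_lit 3, nat_lit 5, nat_lit 1], [[nat_lit 99, nat_lit 4, nat_lit 99, nat_lit 4]])) (.node (nat_lit 681) (.leaf ((nat_lit 4), [nat_lit 0, nat_lit 8, nat_lit 9, nat_lit 8, nat_lit 9, nat_lit 7, nat_lit 8, nat_lit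 7, nat_lit 6, nat_lit 3, nat_lit 7, nat_lit 4, nat_lit 4], [[nat_lit 99, nat_lit 1, nat_lit 1]])) (.leaf ((nat_lit 4), [nat_lit 6, nat_lit 9, nat_lit 6, nat_lit 8, nat_lit 4, nat_lit 8, nat_lit 3, nat_lit 7, nat_lit 3, nat_lit 7, nat_lit 4, nat_lit 5, nat_lit 2, nat_lit 1], [[nat_lit 99, nat_lit 0]]))))))
 (.node (nat_lit 687) (.node (nat_lit 684) (.node (nat_lit 683) (.leaf ((nat_lit 4), [nat_lit 8, nat_lit 9, nat_lit 2, nat_lit 1, nat_lit 9, nat_lit 8, nat_lit 4, nat_lit 0, nat_lit 8, nat_lit 4, nat_lit 6, nat_lit 4, nat_lit 7, nat_lit 1, nat_lit 6], [[nat_lit 3, nat_lit 99, nat_lit 0, nat_lit 3, nat_lit 99, nat_lit 0]])) (.leaf ((nat_lit 4), [nat_lit 9, nat_lit 0, nat_lit 8, nat_lit 4, nat_lit 9, nat_lit 6, nat_lit 3, nat_lit 8, nat_lit 0, nat_lit 7, nat_lit 3, nat_lit 0, nat_lit 7, nat_lit 0, nat_lit 6, nat_lit 1], [[nat_lit 99, nat_lit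 1, nat_lit 99, nat_lit 1]]))) (.node (nat_lit 685) (.leaf ((nat_lit 4), [nat_lit 4, nat_lit 9, nat_lit 8, nat_lit 9, nat_lit 7, nat_lit 6, nat_lit 4, nat_lit 8, nat_lit 5, nat_lit 3, nat_lit 7, nat_lit 5, nat_lit 0], [[nat_lit 99, nat_lit 1, nat_lit 99, nat_lit 1]])) (.node (nat_lit 686) (.leaf ((nat_lit 4), [nat_lit 4, nat_lit 9, nat_lit 8, nat_lit 3, nat_lit 9, nat_lit 4, nat_lit 6, nat_lit 8, nat_lit 7, nat_lit 6, nat_lit 4, nat_lit 7, nat_lit 6, nat_lit 4, nat_lit 6], [[nat_lit 99, nat_lit 0]])) (.leaf ((nat_lit 4), [nat_lit 9, nat_lit 1, nat_lit 7, nat_lit 6, nat_lit 9, nat_lit 1, nat_lit 7, nat_lit 6, nat_lit 8, nat_lit 0, nat_lit 8, nat_lit 0, nat_lit 7, nat_lit 5, nat_lit 1], [[nat_lit 99, nat_lit 3, nat_lit 99, nat_lit 3]])))))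
 (.node (nat_lit 690) (.node (nat_lit 688) (.leaf ((nat_lit 4), [nat_lit 9, nat_lit 0, nat_lit 9, nat_lit 0, nat_lit 9, nat_lit 8, nat_lit 3, nat_lit 7, nat_lit 8, nat_lit 5, nat_lit 4, nat_lit 7, nat_lit 1, nat_lit 3, nat_lit 2], [[nat_lit 3, nat_lit 99, nat_lit 0, nat_lit 3, nat_lit 99, nat_lit 0]])) (.node (nat_lit 689) (.leaf ((nat_lit 4), [nat_lit 9, nat_lit 7, nat_lit 8, nat_lit 2, nat_lit 9, nat_lit 1, nat_lit 8, nat_lit 1, nat_lit 8, nat_lit 5, nat_lit 7, nat_lit 3, nat_lit 7, nat_lit 0, nat_lit 5], [[nat_lit 99, nat_lit 1, nat_lit 0]])) (.leaf ((nat_lit 2), [], [[nat_lit 1, nat_lit 0, nat_lit 1, nat_lit 4, nat_lit 2, nat_lit 2, nat_lit 3, nat_lit 1], [nat_lit 0, nat_lit 4, nat_lit 0, nat_lit 1, nat_lit 4, nat_lit 0, nat_lit 3, nat_lit 2, nat_lit 2, nat_lit 3], [nat_lit 2, nat_lit 2, nat_lit 99, nat_lit 4, nat_lit 0, nat_lit 99,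 nat_lit 1, nat_lit 1, nat_lit 4, nat_lit 0, nat_lit 1, nat_lit 4, nat_lit 0, nat_lit 1, nat_lit 3, nat_lit 0, nat_lit 2, nat_lit 0]])))) (.node (nat_lit 691) (.leaf ((nat_lit 4), [nat_lit 7, nat_lit 2, nat_lit 9, nat_lit 8, nat_lit 5, nat_lit 7, nat_lit 8, nat_lit 7, nat_lit 4, nat_lit 1, nat_lit 7, nat_lit 6, nat_lit 4, nat_lit 6, nat_lit 2], [[nat_lit 99]])) (.node (nat_lit 692) (.leaf ((nat_lit 4), [nat_lit 9, nat_lit 7, nat_lit 8, nat_lit 9, nat_lit 6, nat_lit 4, nat_lit 7, nat_lit 8, nat_lit 3, nat_lit 7, nat_lit 3, nat_lit 7, nat_lit 1, nat_lit 3], [[nat_lit 99, nat_lit 99]])) (.leaf ((nat_lit 4), [nat_lit 7, nat_lit 4, nat_lit 2, nat_lit 9, nat_lit 8, nat_lit 4, nat_lit 5, nat_lit 8, nat_lit 5, nat_lit 7, nat_lit 2, nat_lit 6, nat_lit 7, nat_lit 6], [[nat_lit 99, nat_lit 1, nat_lit 99, nat_lit 1]])))))))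
 (.node (nat_lit 703) (.node (nat_lit 698) (.node (nat_lit 695) (.node (nat_lit 694) (.leaf ((nat_lit 4), [nat_lit 9, nat_lit 1, nat_lit 6, nat_lit 9, nat_lit 8, nat_lit 7, nat_lit 3, nat_lit 6, nat_lit 8, nat_lit 5, nat_lit 3, nat_lit 7, nat_lit 6, nat_lit 4, nat_lit 6, nat_lit 2], [[nat_lit 99, nat_lit 2, nat_lit 99, nat_lit 2]])) (.leaf ((nat_lit 4), [nat_lit 0, nat_lit 9, nat_lit 0, nat_lit 8, nat_lit 7, nat_lit 4, nat_lit 8, nat_lit 4, nat_lit 7, nat_lit 4, nat_lit 7, nat_lit 3, nat_lit 5, nat_lit 1], [[nat_lit 99, nat_lit 2, nat_lit 99, nat_lit 2]]))) (.node (nat_lit 696) (.leaf ((nat_lit 4), [nat_lit 7, nat_lit 5, nat_lit 2, nat_lit 9, nat_lit 4, nat_lit 4, nat_lit 8, nat_lit 5, nat_lit 0, nat_lit 7, nat_lit 6, nat_lit 4, nat_lit 2, nat_lit 0], [[nat_lit 99, nat_lit 2, nat_lit 99, nat_lit 2]])) (.node (nat_lit 697) (.leaf ((nat_lit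 4), [nat_lit 8, nat_lit 9, nat_lit 8, nat_lit 3, nat_lit 9, nat_lit 8, nat_lit 1, nat_lit 8, nat_lit 3, nat_lit 8, nat_lit 4, nat_lit 1, nat_lit 4, nat_lit 2], [[nat_lit 99, nat_lit 4, nat_lit 0]])) (.leaf ((nat_lit 4), [nat_lit 6, nat_lit 9, nat_lit 6, nat_lit 9, nat_lit 1, nat_lit 7, nat_lit 8, nat_lit 3, nat_lit 1, nat_lit 8, nat_lit 6, nat_lit 4, nat_lit 2, nat_lit 0], [[nat_lit 99, nat_lit 0, nat_lit 99, nat_lit 0]])))))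
 (.node (nat_lit 700) (.node (nat_lit 699) (.leaf ((nat_lit 4), [nat_lit 8, nat_lit 4, nat_lit 9, nat_lit 1, nat_lit 9, nat_lit 0, nat_lit 7, nat_lit 3, nat_lit 1, nat_lit 8, nat_lit 4, nat_lit 1, nat_lit 7, nat_lit 6, nat_lit 2, nat_lit 1], [[nat_lit 99, nat_lit 4, nat_lit 0, nat_lit 99, nat_lit 4, nat_lit 0]])) (.leaf ((nat_lit 4), [nat_lit 1, nat_lit 8, nat_lit 7, nat_lit 9, nat_lit 6, nat_lit 3, nat_lit 7, nat_lit 8, nat_lit 3, nat_lit 7, nat_lit 6, nat_lit 1], [[nat_lit 99, nat_lit 1, nat_lit 0]]))) (.node (nat_lit 701) (.leaf ((nat_lit 4), [nat_lit 1, nat_lit 9, nat_lit 6, nat_lit 9, nat_lit 8, nat_lit 3, nat_lit 8, nat_lit 0, nat_lit 8, nat_lit 6, nat_lit 0, nat_lit 7, nat_lit 5, nat_lit 2, nat_lit 1], [[nat_lit 99, nat_lit 4, nat_lit 0, nat_lit 99, nat_lit 4, nat_lit 0]])) (.node (nat_lit 702) (.leaf ((nat_lit 4), [nat_lit 7, nat_lit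 9, nat_lit 6, nat_lit 4, nat_lit 9, nat_lit 8, nat_lit 6, nat_lit 6, nat_lit 1, nat_lit 8, nat_lit 4, nat_lit 7, nat_lit 0, nat_lit 3], [[nat_lit 3, nat_lit 99, nat_lit 1]])) (.leaf ((nat_lit 4), [nat_lit 8, nat_lit 4, nat_lit 0, nat_lit 9, nat_lit 3, nat_lit 8, nat_lit 0, nat_lit 8, nat_lit 6, nat_lit 3, nat_lit 7, nat_lit 0, nat_lit 3, nat_lit 2, nat_lit 0], [[nat_lit 99, nat_lit 3, nat_lit 99, nat_lit 3]]))))))
 (.node (nat_lit 708) (.node (nat_lit 705) (.node (nat_lit 704) (.leaf ((nat_lit 4), [nat_lit 3, nat_lit 7, nat_lit 8, nat_lit 2, nat_lit 9, nat_lit 7, nat_lit 6, nat_lit 1, nat_lit 8, nat_lit 6, nat_lit 7, nat_lit 5, nat_lit 4, nat_lit 5, nat_lit 2], [[nat_lit 99, nat_lit 2]])) (.leaf ((nat_lit 4), [nat_lit 0, nat_lit 7, nat_lit 9, nat_lit 4, nat_lit 8, nat_lit 5, nat_lit 1, nat_lit 8, nat_lit 7, nat_lit 4, nat_lit 4, nat_lit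 0, nat_lit 7, nat_lit 4, nat_lit 0], [[nat_lit 99, nat_lit 3]]))) (.node (nat_lit 706) (.leaf ((nat_lit 4), [nat_lit 7, nat_lit 9, nat_lit 4, nat_lit 1, nat_lit 9, nat_lit 8, nat_lit 0, nat_lit 8, nat_lit 4, nat_lit 7, nat_lit 6, nat_lit 6, nat_lit 2, nat_lit 0], [[nat_lit 99, nat_lit 99]])) (.node (nat_lit 707) (.leaf ((nat_lit 4), [nat_lit 3, nat_lit 8, nat_lit 9, nat_lit 8, nat_lit 9, nat_lit 8, nat_lit 0, nat_lit 7, nat_lit 3, nat_lit 0, nat_lit 7, nat_lit 6, nat_lit 3, nat_lit 1], [[nat_lit 99, nat_lit 1]])) (.leaf ((nat_lit 4), [nat_lit 9, nat_lit 7, nat_lit 4, nat_lit 9, nat_lit 4, nat_lit 4, nat_lit 0, nat_lit 7, nat_lit 4, nat_lit 6, nat_lit 4], [[nat_lit 99]])))))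
 (.node (nat_lit 711) (.node (nat_lit 709) (.leaf ((nat_lit 4), [nat_lit 9, nat_lit 1, nat_lit 9, nat_lit 4, nat_lit 8, nat_lit 7, nat_lit 6, nat_lit 0, nat_lit 7, nat_lit 6, nat_lit 0, nat_lit 3, nat_lit 0], [[nat_lit 99, nat_lit 0]])) (.node (nat_lit 710) (.leaf ((nat_lit 4), [nat_lit 0, nat_lit 8, nat_lit 9, nat_lit 4, nat_lit 9, nat_lit 8, nat_lit 3, nat_lit 8, nat_lit 1, nat_lit 8, nat_lit 6, nat_lit 3, nat_lit 7, nat_lit 3, nat_lit 5, nat_lit 2, nat_lit 1], [[nat_lit 99, nat_lit 99]])) (.leaf ((nat_lit 4), [nat_lit 2, nat_lit 5, nat_lit 8, nat_lit 7, nat_lit 9, nat_lit 6, nat_lit 8, nat_lit 7, nat_lit 8, nat_lit 0, nat_lit 6, nat_lit 7, nat_lit 5, nat_lit 0], [[nat_lit 99]])))) (.node (nat_lit 712) (.leaf ((nat_lit 4), [nat_lit 9, nat_lit 4, nat_lit 2, nat_lit 9, nat_lit 7, nat_lit 5, nat_lit 4, nat_lit 8, nat_lit 7, nat_lit 4, nat_lit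 7, nat_lit 5, nat_lit 2, nat_lit 1], [[nat_lit 99, nat_lit 1, nat_lit 1, nat_lit 99, nat_lit 1, nat_lit 1]])) (.node (nat_lit 713) (.leaf ((nat_lit 4), [nat_lit 8, nat_lit 0, nat_lit 9, nat_lit 0, nat_lit 9, nat_lit 0, nat_lit 8, nat_lit 7, nat_lit 6, nat_lit 8, nat_lit 6, nat_lit 3, nat_lit 7, nat_lit 5, nat_lit 2], [[nat_lit 99, nat_lit 1]])) (.leaf ((nat_lit 4), [nat_lit 4, nat_lit 8, nat_lit 4, nat_lit 1, nat_lit 9, nat_lit 5, nat_lit 3, nat_lit 1, nat_lit 8, nat_lit 6, nat_lit 4, nat_lit 7, nat_lit 3, nat_lit 1, nat_lit 4], [[nat_lit 99, nat_lit 4, nat_lit 99, nat_lit 4]]))))))))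
 (.node (nat_lit 735) (.node (nat_lit 724) (.node (nat_lit 719) (.node (nat_lit 716) (.node (nat_lit 715) (.leaf ((nat_lit 4), [nat_lit 0, nat_lit 9, nat_lit 8, nat_lit 9, nat_lit 4, nat_lit 8, nat_lit 1, nat_lit 3, nat_lit 7, nat_lit 1, nat_lit 3, nat_lit 2], [[nat_lit 99, nat_lit 1, nat_lit 0]])) (.leaf ((nat_lit 4), [nat_lit 8, nat_lit 9, nat_lit 6, nat_lit 7, nat_lit 8, nat_lit 0, nat_lit 7, nat_lit 4, nat_lit 1, nat_lit 7, nat_lit 0, nat_lit 5, nat_lit 0], [[nat_lit 99, nat_lit 3, nat_lit 0, nat_lit 99, nat_lit 3, nat_lit 0]]))) (.node (nat_lit 717) (.leaf ((nat_lit 4), [nat_lit 8, nat_lit 9, nat_lit 8, nat_lit 1, nat_lit 9, nat_lit 6, nat_lit 1, nat_lit 8, nat_lit 4, nat_lit 8, nat_lit 0, nat_lit 7, nat_lit 4, nat_lit 1], [[nat_lit 99, nat_lit 1, nat_lit 1]])) (.node (nat_lit 718) (.leaf ((nat_lit 4), [nat_lit 2, nat_lit 9, nat_lit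 1, nat_lit 9, nat_lit 8, nat_lit 1, nat_lit 8, nat_lit 1, nat_lit 8, nat_lit 7, nat_lit 3, nat_lit 6, nat_lit 3], [[nat_lit 99, nat_lit 99, nat_lit 0]])) (.leaf ((nat_lit 4), [nat_lit 8, nat_lit 9, nat_lit 4, nat_lit 7, nat_lit 4, nat_lit 8, nat_lit 1, nat_lit 8, nat_lit 3, nat_lit 7, nat_lit 4, nat_lit 7, nat_lit 6, nat_lit 4], [[nat_lit 99, nat_lit 1, nat_lit 99, nat_lit 1]])))))
 (.node (nat_lit 721) (.node (nat_lit 720) (.leaf ((nat_lit 4), [nat_lit 6, nat_lit 4, nat_lit 9, nat_lit 1, nat_lit 9, nat_lit 8, nat_lit 6, nat_lit 1, nat_lit 8, nat_lit 1, nat_lit 4, nat_lit 7, nat_lit 3, nat_lit 0, nat_lit 3, nat_lit 2], [[nat_lit 99, nat_lit 4, nat_lit 99, nat_lit 4]])) (.leaf ((nat_lit 4), [nat_lit 9, nat_lit 3, nat_lit 1, nat_lit 9, nat_lit 1, nat_lit 7, nat_lit 4, nat_lit 4, nat_lit 8, nat_lit 7, nat_lit 1, nat_lit 4, nat_lit 1], [[nat_lit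 99, nat_lit 0]]))) (.node (nat_lit 722) (.leaf ((nat_lit 4), [nat_lit 0, nat_lit 7, nat_lit 3, nat_lit 9, nat_lit 5, nat_lit 7, nat_lit 6, nat_lit 8, nat_lit 7, nat_lit 1], [[nat_lit 99, nat_lit 99]])) (.node (nat_lit 723) (.leaf ((nat_lit 4), [nat_lit 8, nat_lit 0, nat_lit 7, nat_lit 8, nat_lit 9, nat_lit 7, nat_lit 8, nat_lit 0, nat_lit 7, nat_lit 6, nat_lit 0, nat_lit 7, nat_lit 0, nat_lit 3], [[nat_lit 99, nat_lit 2]])) (.leaf ((nat_lit 4), [nat_lit 1, nat_lit 8, nat_lit 7, nat_lit 9, nat_lit 0, nat_lit 8, nat_lit 3, nat_lit 8, nat_lit 6, nat_lit 3, nat_lit 7, nat_lit 6, nat_lit 2], [[nat_lit 99, nat_lit 99]]))))))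
 (.node (nat_lit 729) (.node (nat_lit 726) (.node (nat_lit 725) (.leaf ((nat_lit 4), [nat_lit 2, nat_lit 9, nat_lit 7, nat_lit 5, nat_lit 8, nat_lit 3, nat_lit 6, nat_lit 7, nat_lit 1, nat_lit 4, nat_lit 1], [[nat_lit 99]])) (.leaf ((nat_lit 4), [nat_lit 0, nat_lit 7, nat_lit 9, nat_lit 5, nat_lit 8, nat_lit 5, nat_lit 1, nat_lit 8, nat_lit 4, nat_lit 4, nat_lit 0, nat_lit 7, nat_lit 4, nat_lit 5, nat_lit 2], [[nat_lit 99, nat_lit 1]]))) (.node (nat_lit 727) (.leaf ((nat_lit 4), [nat_lit 6, nat_lit 8, nat_lit 9, nat_lit 0, nat_lit 9, nat_lit 8, nat_lit 6, nat_lit 3, nat_lit 8, nat_lit 6, nat_lit 0, nat_lit 3, nat_lit 2], [[nat_lit 99, nat_lit 4, nat_lit 2]])) (.node (nat_lit 728) (.leaf ((nat_lit 4), [nat_lit 9, nat_lit 4, nat_lit 7, nat_lit 4, nat_lit 8, nat_lit 5, nat_lit 8, nat_lit 0, nat_lit 7, nat_lit 0, nat_lit 6, nat_lit 2, nat_lit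 1], [[nat_lit 99, nat_lit 4]])) (.leaf ((nat_lit 4), [nat_lit 1, nat_lit 9, nat_lit 4, nat_lit 7, nat_lit 4, nat_lit 5, nat_lit 8, nat_lit 7, nat_lit 3, nat_lit 6, nat_lit 7, nat_lit 4, nat_lit 6, nat_lit 1], [[nat_lit 99, nat_lit 2]])))))
 (.node (nat_lit 732) (.node (nat_lit 730) (.leaf ((nat_lit 4), [nat_lit 1, nat_lit 9, nat_lit 0, nat_lit 8, nat_lit 1, nat_lit 9, nat_lit 8, nat_lit 1, nat_lit 3, nat_lit 1, nat_lit 8, nat_lit 1, nat_lit 5, nat_lit 2, nat_lit 1], [[nat_lit 3, nat_lit 99, nat_lit 1, nat_lit 3, nat_lit 99, nat_lit 1]])) (.node (nat_lit 731) (.leaf ((nat_lit 4), [nat_lit 0, nat_lit 9, nat_lit 3, nat_lit 6, nat_lit 8, nat_lit 7, nat_lit 8, nat_lit 3, nat_lit 7, nat_lit 4, nat_lit 7, nat_lit 0], [[nat_lit 99]])) (.leaf ((nat_lit 4), [nat_lit 4, nat_lit 0, nat_lit 7, nat_lit 9, nat_lit 8, nat_lit 6, nat_lit 3, nat_lit 7, nat_lit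 8, nat_lit 5, nat_lit 7, nat_lit 3, nat_lit 7, nat_lit 6, nat_lit 4, nat_lit 2], [[nat_lit 99, nat_lit 3, nat_lit 99, nat_lit 3]])))) (.node (nat_lit 733) (.leaf ((nat_lit 4), [nat_lit 3, nat_lit 8, nat_lit 0, nat_lit 9, nat_lit 7, nat_lit 5, nat_lit 4, nat_lit 8, nat_lit 5, nat_lit 3, nat_lit 0, nat_lit 7, nat_lit 3, nat_lit 5, nat_lit 1], [[nat_lit 99, nat_lit 1, nat_lit 0]])) (.node (nat_lit 734) (.leaf ((nat_lit 4), [nat_lit 6, nat_lit 1, nat_lit 9, nat_lit 4, nat_lit 1, nat_lit 8, nat_lit 6, nat_lit 7, nat_lit 6, nat_lit 3, nat_lit 0], [[nat_lit 99, nat_lit 0]])) (.leaf ((nat_lit 4), [nat_lit 4, nat_lit 9, nat_lit 6, nat_lit 0, nat_lit 9, nat_lit 3, nat_lit 8, nat_lit 0, nat_lit 8, nat_lit 7, nat_lit 3, nat_lit 0, nat_lit 7, nat_lit 4, nat_lit 0], [[nat_lit 99, nat_lit 1]])))))))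
 (.node (nat_lit 745) (.node (nat_lit 740) (.node (nat_lit 737) (.node (nat_lit 736) (.leaf ((nat_lit 4), [nat_lit 8, nat_lit 2, nat_lit 9, nat_lit 6, nat_lit 1, nat_lit 8, nat_lit 1, nat_lit 8, nat_lit 1, nat_lit 7, nat_lit 6, nat_lit 4, nat_lit 2, nat_lit 1], [[nat_lit 99, nat_lit 1]])) (.leaf ((nat_lit 4), [nat_lit 9, nat_lit 3, nat_lit 7, nat_lit 2, nat_lit 9, nat_lit 1, nat_lit 7, nat_lit 0, nat_lit 6, nat_lit 8, nat_lit 6, nat_lit 0, nat_lit 7, nat_lit 0, nat_lit 3], [[nat_lit 99]]))) (.node (nat_lit 738) (.leaf ((nat_lit 4), [nat_lit 7, nat_lit 4, nat_lit 9, nat_lit 2, nat_lit 6, nat_lit 8, nat_lit 7, nat_lit 8, nat_lit 5, nat_lit 0, nat_lit 7, nat_lit 3, nat_lit 1, nat_lit 4, nat_lit 1], [[nat_lit 4, nat_lit 99, nat_lit 1]])) (.node (nat_lit 739) (.leaf ((nat_lit 4), [nat_lit 9, nat_lit 4, nat_lit 7, nat_lit 9, nat_lit 4, nat_lit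 5, nat_lit 8, nat_lit 6, nat_lit 6, nat_lit 0, nat_lit 7, nat_lit 5, nat_lit 4, nat_lit 5, nat_lit 2], [[nat_lit 99, nat_lit 3, nat_lit 99, nat_lit 3]])) (.leaf ((nat_lit 4), [nat_lit 6, nat_lit 7, nat_lit 8, nat_lit 9, nat_lit 5, nat_lit 8, nat_lit 4, nat_lit 7, nat_lit 1, nat_lit 4, nat_lit 7, nat_lit 3, nat_lit 1, nat_lit 4, nat_lit 2, nat_lit 1], [[nat_lit 99, nat_lit 0, nat_lit 99, nat_lit 0]])))))
 (.node (nat_lit 742) (.node (nat_lit 741) (.leaf ((nat_lit 4), [nat_lit 1, nat_lit 9, nat_lit 8, nat_lit 6, nat_lit 4, nat_lit 8, nat_lit 7, nat_lit 2, nat_lit 6, nat_lit 7, nat_lit 4, nat_lit 2, nat_lit 1], [[nat_lit 99, nat_lit 4, nat_lit 0]])) (.leaf ((nat_lit 4), [nat_lit 8, nat_lit 6, nat_lit 3, nat_lit 1, nat_lit 9, nat_lit 6, nat_lit 0, nat_lit 8, nat_lit 7, nat_lit 1, nat_lit 6, nat_lit 7, nat_lit 3, nat_lit 5, nat_lit 0], [[nat_lit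 99, nat_lit 4, nat_lit 99, nat_lit 4]]))) (.node (nat_lit 743) (.leaf ((nat_lit 4), [nat_lit 9, nat_lit 4, nat_lit 9, nat_lit 8, nat_lit 9, nat_lit 7, nat_lit 4, nat_lit 8, nat_lit 4, nat_lit 8, nat_lit 7, nat_lit 3, nat_lit 0, nat_lit 3, nat_lit 2], [[nat_lit 99, nat_lit 99]])) (.node (nat_lit 744) (.leaf ((nat_lit 4), [nat_lit 7, nat_lit 9, nat_lit 8, nat_lit 1, nat_lit 9, nat_lit 8, nat_lit 0, nat_lit 8, nat_lit 4, nat_lit 1, nat_lit 7, nat_lit 4, nat_lit 2, nat_lit 0], [[nat_lit 99, nat_lit 3, nat_lit 0, nat_lit 99, nat_lit 3, nat_lit 0]])) (.leaf ((nat_lit 4), [nat_lit 6, nat_lit 3, nat_lit 0, nat_lit 9, nat_lit 0, nat_lit 6, nat_lit 8, nat_lit 0, nat_lit 7, nat_lit 5, nat_lit 4, nat_lit 7, nat_lit 4, nat_lit 5, nat_lit 1], [[nat_lit 99, nat_lit 2, nat_lit 99, nat_lit 2]]))))))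
 (.node (nat_lit 750) (.node (nat_lit 747) (.node (nat_lit 746) (.leaf ((nat_lit 4), [nat_lit 2, nat_lit 6, nat_lit 9, nat_lit 8, nat_lit 9, nat_lit 6, nat_lit 6, nat_lit 8, nat_lit 3, nat_lit 8, nat_lit 7], [[nat_lit 4, nat_lit 99, nat_lit 0]])) (.leaf ((nat_lit 4), [nat_lit 9, nat_lit 8, nat_lit 0, nat_lit 7, nat_lit 6, nat_lit 4, nat_lit 8, nat_lit 7, nat_lit 3, nat_lit 0, nat_lit 7, nat_lit 3], [[nat_lit 99, nat_lit 2]]))) (.node (nat_lit 748) (.leaf ((nat_lit 4), [nat_lit 4, nat_lit 8, nat_lit 9, nat_lit 1, nat_lit 6, nat_lit 0, nat_lit 8, nat_lit 3, nat_lit 8, nat_lit 6, nat_lit 1, nat_lit 7, nat_lit 3, nat_lit 2], [[nat_lit 3, nat_lit 99, nat_lit 2, nat_lit 3, nat_lit 99, nat_lit 2]])) (.node (nat_lit 749) (.leaf ((nat_lit 4), [nat_lit 4, nat_lit 9, nat_lit 8, nat_lit 7, nat_lit 5, nat_lit 8, nat_lit 6, nat_lit 1, nat_lit 7, nat_lit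 6, nat_lit 6, nat_lit 2, nat_lit 0], [[nat_lit 99, nat_lit 3, nat_lit 2]])) (.leaf ((nat_lit 4), [nat_lit 9, nat_lit 8, nat_lit 9, nat_lit 0, nat_lit 6, nat_lit 7, nat_lit 8, nat_lit 3, nat_lit 8, nat_lit 5, nat_lit 1, nat_lit 7, nat_lit 4, nat_lit 5, nat_lit 2, nat_lit 0], [[nat_lit 99, nat_lit 2, nat_lit 99, nat_lit 2]])))))
 (.node (nat_lit 753) (.node (nat_lit 751) (.leaf ((nat_lit 4), [nat_lit 6, nat_lit 7, nat_lit 8, nat_lit 2, nat_lit 9, nat_lit 7, nat_lit 8, nat_lit 6, nat_lit 4, nat_lit 8, nat_lit 3, nat_lit 6, nat_lit 7, nat_lit 2], [[nat_lit 99, nat_lit 1]])) (.node (nat_lit 752) (.leaf ((nat_lit 4), [nat_lit 6, nat_lit 4, nat_lit 9, nat_lit 8, nat_lit 6, nat_lit 7, nat_lit 6, nat_lit 8, nat_lit 3, nat_lit 6, nat_lit 3, nat_lit 0], [[nat_lit 99, nat_lit 0, nat_lit 99, nat_lit 0]])) (.leaf ((nat_lit 4), [nat_lit 7, nat_lit 0,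 nat_lit 8, nat_lit 3, nat_lit 9, nat_lit 7, nat_lit 8, nat_lit 5, nat_lit 8, nat_lit 7, nat_lit 1, nat_lit 4], [[nat_lit 99, nat_lit 0, nat_lit 99, nat_lit 0]])))) (.node (nat_lit 754) (.leaf ((nat_lit 4), [nat_lit 7, nat_lit 9, nat_lit 4, nat_lit 1, nat_lit 9, nat_lit 4, nat_lit 0, nat_lit 8, nat_lit 1, nat_lit 3, nat_lit 7, nat_lit 6, nat_lit 4, nat_lit 6, nat_lit 2, nat_lit 1], [[nat_lit 99]])) (.node (nat_lit 755) (.leaf ((nat_lit 4), [nat_lit 9, nat_lit 6, nat_lit 1, nat_lit 8, nat_lit 9, nat_lit 5, nat_lit 7, nat_lit 6, nat_lit 8, nat_lit 0, nat_lit 8, nat_lit 7, nat_lit 1], [[nat_lit 99, nat_lit 0]])) (.leaf ((nat_lit 4), [nat_lit 7, nat_lit 9, nat_lit 1, nat_lit 7, nat_lit 8, nat_lit 4, nat_lit 8, nat_lit 7, nat_lit 0, nat_lit 4, nat_lit 0, nat_lit 7, nat_lit 2, nat_lit 4, nat_lit 4, nat_lit 2, nat_lit 0], [[nat_lit 99, nat_lit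 3, nat_lit 0, nat_lit 99, nat_lit 3, nat_lit 0]])))))))))
 (.node (nat_lit 798) (.node (nat_lit 777) (.node (nat_lit 766) (.node (nat_lit 761) (.node (nat_lit 758) (.node (nat_lit 757) (.leaf ((nat_lit 4), [nat_lit 7, nat_lit 0, nat_lit 6, nat_lit 9, nat_lit 8, nat_lit 0, nat_lit 4, nat_lit 8, nat_lit 7, nat_lit 0, nat_lit 6, nat_lit 7, nat_lit 4, nat_lit 5, nat_lit 2, nat_lit 0], [[nat_lit 99, nat_lit 99]])) (.leaf ((nat_lit 4), [nat_lit 6, nat_lit 4, nat_lit 8, nat_lit 9, nat_lit 3, nat_lit 5, nat_lit 7, nat_lit 8, nat_lit 5, nat_lit 7, nat_lit 4, nat_lit 7, nat_lit 6], [[nat_lit 99, nat_lit 3]]))) (.node (nat_lit 759) (.leaf ((nat_lit 4), [nat_lit 4, nat_lit 9, nat_lit 6, nat_lit 1, nat_lit 9, nat_lit 8, nat_lit 6, nat_lit 4, nat_lit 7, nat_lit 8, nat_lit 7, nat_lit 5], [[nat_lit 99, nat_lit 0, nat_lit 99, nat_lit 0]])) (.node (nat_lit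 760) (.leaf ((nat_lit 4), [nat_lit 8, nat_lit 0, nat_lit 8, nat_lit 1, nat_lit 9, nat_lit 8, nat_lit 6, nat_lit 8, nat_lit 4, nat_lit 0, nat_lit 8, nat_lit 7, nat_lit 6, nat_lit 7, nat_lit 2], [[nat_lit 99, nat_lit 3]])) (.leaf ((nat_lit 4), [nat_lit 5, nat_lit 9, nat_lit 6, nat_lit 1, nat_lit 9, nat_lit 8, nat_lit 7, nat_lit 8, nat_lit 3, nat_lit 8, nat_lit 7, nat_lit 1], [[nat_lit 99, nat_lit 1, nat_lit 0, nat_lit 99, nat_lit 1, nat_lit 0]])))))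
 (.node (nat_lit 763) (.node (nat_lit 762) (.leaf ((nat_lit 4), [nat_lit 0, nat_lit 7, nat_lit 9, nat_lit 8, nat_lit 3, nat_lit 1, nat_lit 8, nat_lit 7, nat_lit 4, nat_lit 0, nat_lit 7, nat_lit 6, nat_lit 1], [[nat_lit 99, nat_lit 1, nat_lit 99, nat_lit 1]])) (.leaf ((nat_lit 4), [nat_lit 9, nat_lit 1, nat_lit 8, nat_lit 9, nat_lit 7, nat_lit 3, nat_lit 6, nat_lit 8, nat_lit 5, nat_lit 7, nat_lit 2, nat_lit 6, nat_lit 7, nat_lit 4, nat_lit 5], [[nat_lit 99, nat_lit 2]]))) (.node (nat_lit 764) (.leaf ((nat_lit 4), [nat_lit 4, nat_lit 6, nat_lit 9, nat_lit 8, nat_lit 4, nat_lit 4, nat_lit 8, nat_lit 3, nat_lit 0, nat_lit 7, nat_lit 6, nat_lit 4, nat_lit 1], [[nat_lit 99, nat_lit 4]])) (.node (nat_lit 765) (.leaf ((nat_lit 4), [nat_lit 7, nat_lit 2, nat_lit 9, nat_lit 4, nat_lit 8, nat_lit 4, nat_lit 8, nat_lit 7, nat_lit 3, nat_lit 6, nat_lit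 7, nat_lit 1, nat_lit 4], [[nat_lit 99, nat_lit 1]])) (.leaf ((nat_lit 4), [nat_lit 3, nat_lit 0, nat_lit 8, nat_lit 1, nat_lit 9, nat_lit 5, nat_lit 0, nat_lit 8, nat_lit 4, nat_lit 8, nat_lit 4, nat_lit 1, nat_lit 7, nat_lit 3, nat_lit 0], [[nat_lit 99, nat_lit 3, nat_lit 99, nat_lit 3]]))))))
 (.node (nat_lit 771) (.node (nat_lit 768) (.node (nat_lit 767) (.leaf ((nat_lit 4), [nat_lit 5, nat_lit 8, nat_lit 7, nat_lit 0, nat_lit 9, nat_lit 3, nat_lit 8, nat_lit 7, nat_lit 6, nat_lit 8, nat_lit 7, nat_lit 5, nat_lit 3, nat_lit 1], [[nat_lit 99]])) (.leaf ((nat_lit 4), [nat_lit 7, nat_lit 0, nat_lit 6, nat_lit 9, nat_lit 6, nat_lit 7, nat_lit 8, nat_lit 3, nat_lit 7, nat_lit 1], [[nat_lit 99, nat_lit 3, nat_lit 0, nat_lit 99, nat_lit 3, nat_lit 0]]))) (.node (nat_lit 769) (.leaf ((nat_lit 4), [nat_lit 0, nat_lit 5, nat_lit 8, nat_lit 9,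 nat_lit 0, nat_lit 4, nat_lit 8, nat_lit 5, nat_lit 7, nat_lit 4, nat_lit 7, nat_lit 3, nat_lit 0], [[nat_lit 99, nat_lit 3, nat_lit 99, nat_lit 3]])) (.node (nat_lit 770) (.leaf ((nat_lit 4), [nat_lit 6, nat_lit 9, nat_lit 3, nat_lit 9, nat_lit 8, nat_lit 4, nat_lit 7, nat_lit 8, nat_lit 4, nat_lit 4, nat_lit 7, nat_lit 4, nat_lit 7, nat_lit 3, nat_lit 0, nat_lit 3], [[nat_lit 2, nat_lit 99, nat_lit 0]])) (.leaf ((nat_lit 4), [nat_lit 7, nat_lit 6, nat_lit 9, nat_lit 7, nat_lit 5, nat_lit 8, nat_lit 7, nat_lit 5, nat_lit 0, nat_lit 7, nat_lit 3, nat_lit 0], [[nat_lit 99, nat_lit 3]])))))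
 (.node (nat_lit 774) (.node (nat_lit 772) (.leaf ((nat_lit 4), [nat_lit 5, nat_lit 9, nat_lit 7, nat_lit 3, nat_lit 9, nat_lit 4, nat_lit 6, nat_lit 8, nat_lit 5, nat_lit 4, nat_lit 7, nat_lit 1, nat_lit 4, nat_lit 4, nat_lit 2], [[nat_lit 99, nat_lit 0]])) (.node (nat_lit 773) (.leaf ((nat_lit 4), [nat_lit 7, nat_lit 0, nat_lit 6, nat_lit 9, nat_lit 7, nat_lit 0, nat_lit 6, nat_lit 8, nat_lit 3, nat_lit 0, nat_lit 7, nat_lit 6, nat_lit 1], [[nat_lit 99]])) (.leaf ((nat_lit 4), [nat_lit 9, nat_lit 8, nat_lit 9, nat_lit 1, nat_lit 7, nat_lit 8, nat_lit 4, nat_lit 8, nat_lit 4, nat_lit 4, nat_lit 7, nat_lit 6, nat_lit 3, nat_lit 2, nat_lit 0], [[nat_lit 99, nat_lit 3, nat_lit 0, nat_lit 99, nat_lit 3, nat_lit 0]])))) (.node (nat_lit 775) (.leaf ((nat_lit 4), [nat_lit 5, nat_lit 9, nat_lit 1, nat_lit 9, nat_lit 6, nat_lit 8, nat_lit 0, nat_lit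 7, nat_lit 4, nat_lit 7, nat_lit 0, nat_lit 6, nat_lit 1], [[nat_lit 99, nat_lit 1]])) (.node (nat_lit 776) (.leaf ((nat_lit 4), [nat_lit 4, nat_lit 9, nat_lit 7, nat_lit 6, nat_lit 0, nat_lit 9, nat_lit 1, nat_lit 8, nat_lit 3, nat_lit 8, nat_lit 6, nat_lit 3], [[nat_lit 99]])) (.leaf ((nat_lit 4), [nat_lit 8, nat_lit 9, nat_lit 4, nat_lit 1, nat_lit 9, nat_lit 6, nat_lit 0, nat_lit 8, nat_lit 7, nat_lit 3, nat_lit 7, nat_lit 6, nat_lit 2, nat_lit 0], [[nat_lit 99, nat_lit 0, nat_lit 99, nat_lit 0]])))))))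
 (.node (nat_lit 787) (.node (nat_lit 782) (.node (nat_lit 779) (.node (nat_lit 778) (.leaf ((nat_lit 4), [nat_lit 9, nat_lit 8, nat_lit 3, nat_lit 0, nat_lit 9, nat_lit 0, nat_lit 4, nat_lit 8, nat_lit 4, nat_lit 5, nat_lit 1, nat_lit 7, nat_lit 6, nat_lit 6], [[nat_lit 99, nat_lit 2, nat_lit 99, nat_lit 2]])) (.leaf ((nat_lit 4), [nat_lit 1, nat_lit 9, nat_lit 1, nat_lit 9, nat_lit 0, nat_lit 7, nat_lit 4, nat_lit 8, nat_lit 5, nat_lit 4, nat_lit 7, nat_lit 1, nat_lit 5], [[nat_lit 99, nat_lit 4, nat_lit 1]]))) (.node (nat_lit 780) (.leaf ((nat_lit 4), [nat_lit 5, nat_lit 8, nat_lit 7, nat_lit 9, nat_lit 7, nat_lit 3, nat_lit 8, nat_lit 0, nat_lit 8, nat_lit 1, nat_lit 7, nat_lit 4, nat_lit 5, nat_lit 1], [[nat_lit 99]])) (.node (nat_lit 781) (.leaf ((nat_lit 4), [nat_lit 9, nat_lit 7, nat_lit 6, nat_lit 2, nat_lit 1, nat_lit 9, nat_lit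 8, nat_lit 6, nat_lit 7, nat_lit 6, nat_lit 6, nat_lit 1], [[nat_lit 99, nat_lit 2, nat_lit 99, nat_lit 2]])) (.leaf ((nat_lit 4), [nat_lit 0, nat_lit 9, nat_lit 0, nat_lit 8, nat_lit 1, nat_lit 9, nat_lit 6, nat_lit 0, nat_lit 8, nat_lit 7, nat_lit 4, nat_lit 8, nat_lit 6, nat_lit 7, nat_lit 6, nat_lit 3], [[nat_lit 3, nat_lit 99, nat_lit 0, nat_lit 3, nat_lit 99, nat_lit 0]])))))
 (.node (nat_lit 784) (.node (nat_lit 783) (.leaf ((nat_lit 4), [nat_lit 7, nat_lit 1, nat_lit 6, nat_lit 9, nat_lit 6, nat_lit 7, nat_lit 4, nat_lit 4, nat_lit 8, nat_lit 0, nat_lit 7, nat_lit 4, nat_lit 5, nat_lit 0], [[nat_lit 99, nat_lit 2]])) (.leaf ((nat_lit 4), [nat_lit 6, nat_lit 9, nat_lit 0, nat_lit 9, nat_lit 4, nat_lit 0, nat_lit 8, nat_lit 7, nat_lit 1, nat_lit 6, nat_lit 1], [[nat_lit 99, nat_lit 3]]))) (.node (nat_lit 785) (.leaf ((nat_lit 4),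 [nat_lit 8, nat_lit 5, nat_lit 9, nat_lit 0, nat_lit 9, nat_lit 0, nat_lit 7, nat_lit 6, nat_lit 6, nat_lit 8, nat_lit 3, nat_lit 7, nat_lit 4, nat_lit 1, nat_lit 4, nat_lit 2], [[nat_lit 99, nat_lit 2, nat_lit 0, nat_lit 99, nat_lit 2, nat_lit 0]])) (.node (nat_lit 786) (.leaf ((nat_lit 4), [nat_lit 6, nat_lit 9, nat_lit 4, nat_lit 2, nat_lit 9, nat_lit 4, nat_lit 7, nat_lit 4, nat_lit 0, nat_lit 8, nat_lit 0, nat_lit 7, nat_lit 6, nat_lit 7, nat_lit 3, nat_lit 5], [[nat_lit 99, nat_lit 2, nat_lit 0]])) (.leaf ((nat_lit 4), [nat_lit 8, nat_lit 6, nat_lit 4, nat_lit 9, nat_lit 6, nat_lit 7, nat_lit 6, nat_lit 8, nat_lit 5, nat_lit 3, nat_lit 0, nat_lit 7, nat_lit 4, nat_lit 0], [[nat_lit 99, nat_lit 99]]))))))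
 (.node (nat_lit 792) (.node (nat_lit 789) (.node (nat_lit 788) (.leaf ((nat_lit 4), [nat_lit 8, nat_lit 4, nat_lit 9, nat_lit 1, nat_lit 7, nat_lit 6, nat_lit 8, nat_lit 6, nat_lit 0, nat_lit 7, nat_lit 3, nat_lit 0, nat_lit 3], [[nat_lit 4, nat_lit 99, nat_lit 0, nat_lit 4, nat_lit 99, nat_lit 0]])) (.leaf ((nat_lit 4), [nat_lit 0, nat_lit 9, nat_lit 8, nat_lit 9, nat_lit 7, nat_lit 6, nat_lit 8, nat_lit 3, nat_lit 8, nat_lit 0, nat_lit 6, nat_lit 7, nat_lit 6, nat_lit 4, nat_lit 0], [[nat_lit 99, nat_lit 3, nat_lit 99, nat_lit 3]]))) (.node (nat_lit 790) (.leaf ((nat_lit 4), [nat_lit 3, nat_lit 8, nat_lit 9, nat_lit 6, nat_lit 9, nat_lit 3, nat_lit 7, nat_lit 8, nat_lit 1, nat_lit 7, nat_lit 6, nat_lit 7, nat_lit 6, nat_lit 6, nat_lit 0], [[nat_lit 99, nat_lit 1, nat_lit 0]])) (.node (nat_lit 791) (.leaf ((nat_lit 4), [nat_lit 4, nat_lit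 9, nat_lit 0, nat_lit 6, nat_lit 9, nat_lit 8, nat_lit 1, nat_lit 5, nat_lit 1, nat_lit 8, nat_lit 4, nat_lit 7, nat_lit 4, nat_lit 7], [[nat_lit 99, nat_lit 3, nat_lit 0]])) (.leaf ((nat_lit 4), [nat_lit 7, nat_lit 1, nat_lit 8, nat_lit 2, nat_lit 9, nat_lit 4, nat_lit 4, nat_lit 8, nat_lit 5, nat_lit 7, nat_lit 6, nat_lit 1, nat_lit 7, nat_lit 0, nat_lit 6], [[nat_lit 99, nat_lit 1]])))))
 (.node (nat_lit 795) (.node (nat_lit 793) (.leaf ((nat_lit 4), [nat_lit 9, nat_lit 1, nat_lit 7, nat_lit 0, nat_lit 9, nat_lit 7, nat_lit 5, nat_lit 7, nat_lit 8, nat_lit 3, nat_lit 7, nat_lit 6, nat_lit 7, nat_lit 5], [[nat_lit 2, nat_lit 99, nat_lit 0, nat_lit 2, nat_lit 99, nat_lit 0]])) (.node (nat_lit 794) (.leaf ((nat_lit 4), [nat_lit 4, nat_lit 5, nat_lit 8, nat_lit 1, nat_lit 9, nat_lit 8, nat_lit 5, nat_lit 8, nat_lit 0, nat_lit 8, nat_lit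 7, nat_lit 4, nat_lit 0, nat_lit 4, nat_lit 2, nat_lit 1], [[nat_lit 99, nat_lit 3, nat_lit 0]])) (.leaf ((nat_lit 4), [nat_lit 4, nat_lit 0, nat_lit 9, nat_lit 8, nat_lit 7, nat_lit 0, nat_lit 6, nat_lit 1], [[nat_lit 99, nat_lit 2]])))) (.node (nat_lit 796) (.leaf ((nat_lit 4), [nat_lit 6, nat_lit 3, nat_lit 9, nat_lit 6, nat_lit 9, nat_lit 3, nat_lit 7, nat_lit 8, nat_lit 4, nat_lit 8, nat_lit 7, nat_lit 3, nat_lit 5, nat_lit 1], [[nat_lit 99, nat_lit 1, nat_lit 0]])) (.node (nat_lit 797) (.leaf ((nat_lit 4), [nat_lit 6, nat_lit 4, nat_lit 9, nat_lit 6, nat_lit 1, nat_lit 9, nat_lit 8, nat_lit 1, nat_lit 8, nat_lit 6, nat_lit 7, nat_lit 4, nat_lit 7, nat_lit 3, nat_lit 1, nat_lit 4, nat_lit 2], [[nat_lit 99, nat_lit 0, nat_lit 99, nat_lit 0]])) (.leaf ((nat_lit 4), [nat_lit 9, nat_lit 4, nat_lit 1, nat_lit 9, nat_lit 5, nat_lit 1, nat_lit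 8, nat_lit 5, nat_lit 8, nat_lit 4, nat_lit 6, nat_lit 4, nat_lit 7, nat_lit 3], [[nat_lit 99, nat_lit 99]]))))))))
 (.node (nat_lit 819) (.node (nat_lit 808) (.node (nat_lit 803) (.node (nat_lit 800) (.node (nat_lit 799) (.leaf ((nat_lit 4), [nat_lit 8, nat_lit 9, nat_lit 5, nat_lit 1, nat_lit 8, nat_lit 1, nat_lit 8, nat_lit 3, nat_lit 6, nat_lit 7, nat_lit 6, nat_lit 1, nat_lit 3, nat_lit 0], [[nat_lit 99, nat_lit 99]])) (.leaf ((nat_lit 4), [nat_lit 0, nat_lit 7, nat_lit 9, nat_lit 3, nat_lit 7, nat_lit 4, nat_lit 1, nat_lit 8, nat_lit 7, nat_lit 6, nat_lit 1, nat_lit 7, nat_lit 3, nat_lit 5, nat_lit 3], [[nat_lit 99, nat_lit 1]]))) (.node (nat_lit 801) (.leaf ((nat_lit 4), [nat_lit 8, nat_lit 9, nat_lit 6, nat_lit 9, nat_lit 4, nat_lit 8, nat_lit 0, nat_lit 4, nat_lit 8, nat_lit 2, nat_lit 4, nat_lit 4, nat_lit 2, nat_lit 1], [[nat_lit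 99, nat_lit 1, nat_lit 0, nat_lit 99, nat_lit 1, nat_lit 0]])) (.node (nat_lit 802) (.leaf ((nat_lit 2), [], [[nat_lit 1, nat_lit 0, nat_lit 1, nat_lit 4, nat_lit 2, nat_lit 2, nat_lit 3, nat_lit 1], [nat_lit 0, nat_lit 4, nat_lit 0, nat_lit 1, nat_lit 4, nat_lit 0, nat_lit 3, nat_lit 2, nat_lit 2, nat_lit 3], [nat_lit 2, nat_lit 4, nat_lit 1, nat_lit 99, nat_lit 3, nat_lit 1, nat_lit 99, nat_lit 4, nat_lit 2, nat_lit 3, nat_lit 4, nat_lit 3, nat_lit 1, nat_lit 1, nat_lit 3, nat_lit 1, nat_lit 0]])) (.leaf ((nat_lit 4), [nat_lit 0, nat_lit 8, nat_lit 6, nat_lit 4, nat_lit 9, nat_lit 5, nat_lit 8, nat_lit 3, nat_lit 8, nat_lit 7, nat_lit 6, nat_lit 0, nat_lit 7, nat_lit 1], [[nat_lit 99, nat_lit 4]])))))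
 (.node (nat_lit 805) (.node (nat_lit 804) (.leaf ((nat_lit 4), [nat_lit 4, nat_lit 4, nat_lit 1, nat_lit 9, nat_lit 6, nat_lit 3, nat_lit 8, nat_lit 7, nat_lit 6, nat_lit 0, nat_lit 7, nat_lit 4, nat_lit 6, nat_lit 2], [[nat_lit 99, nat_lit 4, nat_lit 0, nat_lit 99, nat_lit 4, nat_lit 0]])) (.leaf ((nat_lit 4), [nat_lit 4, nat_lit 9, nat_lit 6, nat_lit 0, nat_lit 9, nat_lit 4, nat_lit 0, nat_lit 4, nat_lit 8, nat_lit 4, nat_lit 7, nat_lit 4, nat_lit 1], [[nat_lit 99, nat_lit 0]]))) (.node (nat_lit 806) (.leaf ((nat_lit 4), [nat_lit 9, nat_lit 4, nat_lit 7, nat_lit 9, nat_lit 5, nat_lit 8, nat_lit 7, nat_lit 4, nat_lit 8, nat_lit 6, nat_lit 7, nat_lit 6, nat_lit 3, nat_lit 1], [[nat_lit 99, nat_lit 1, nat_lit 99, nat_lit 1]])) (.node (nat_lit 807) (.leaf ((nat_lit 4), [nat_lit 8, nat_lit 7, nat_lit 3, nat_lit 9, nat_lit 5, nat_lit 4, nat_lit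 8, nat_lit 7, nat_lit 8, nat_lit 5, nat_lit 7, nat_lit 4, nat_lit 7, nat_lit 6, nat_lit 1, nat_lit 4, nat_lit 2], [[nat_lit 99, nat_lit 99]])) (.leaf ((nat_lit 4), [nat_lit 3, nat_lit 5, nat_lit 8, nat_lit 1, nat_lit 9, nat_lit 6, nat_lit 8, nat_lit 6, nat_lit 7, nat_lit 6, nat_lit 0, nat_lit 7, nat_lit 1, nat_lit 6, nat_lit 2], [[nat_lit 99, nat_lit 2, nat_lit 0]]))))))
 (.node (nat_lit 813) (.node (nat_lit 810) (.node (nat_lit 809) (.leaf ((nat_lit 4), [nat_lit 0, nat_lit 8, nat_lit 9, nat_lit 8, nat_lit 6, nat_lit 7, nat_lit 6, nat_lit 8, nat_lit 1, nat_lit 7, nat_lit 5, nat_lit 1, nat_lit 7], [[nat_lit 99, nat_lit 99]])) (.leaf ((nat_lit 4), [nat_lit 9, nat_lit 7, nat_lit 0, nat_lit 9, nat_lit 3, nat_lit 5, nat_lit 7, nat_lit 8, nat_lit 2, nat_lit 6, nat_lit 7, nat_lit 4, nat_lit 2], [[nat_lit 99, nat_lit 99]]))) (.node (nat_lit 811)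 (.leaf ((nat_lit 4), [nat_lit 2, nat_lit 4, nat_lit 7, nat_lit 9, nat_lit 8, nat_lit 1, nat_lit 3, nat_lit 1, nat_lit 8, nat_lit 7, nat_lit 1, nat_lit 6, nat_lit 7, nat_lit 5, nat_lit 2], [[nat_lit 99, nat_lit 3]])) (.node (nat_lit 812) (.leaf ((nat_lit 4), [nat_lit 3, nat_lit 1, nat_lit 9, nat_lit 6, nat_lit 2, nat_lit 9, nat_lit 6, nat_lit 3, nat_lit 7, nat_lit 8, nat_lit 2, nat_lit 6, nat_lit 7], [[nat_lit 99, nat_lit 2]])) (.leaf ((nat_lit 4), [nat_lit 5, nat_lit 9, nat_lit 6, nat_lit 1, nat_lit 9, nat_lit 7, nat_lit 8, nat_lit 3, nat_lit 1, nat_lit 8, nat_lit 7, nat_lit 3, nat_lit 7, nat_lit 6, nat_lit 6], [[nat_lit 99, nat_lit 99]])))))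
 (.node (nat_lit 816) (.node (nat_lit 814) (.leaf ((nat_lit 4), [nat_lit 2, nat_lit 9, nat_lit 0, nat_lit 9, nat_lit 4, nat_lit 8, nat_lit 0, nat_lit 6, nat_lit 8, nat_lit 1, nat_lit 7, nat_lit 1, nat_lit 4, nat_lit 7, nat_lit 0, nat_lit 6], [[nat_lit 99]])) (.node (nat_lit 815) (.leaf ((nat_lit 4), [nat_lit 8, nat_lit 2, nat_lit 0, nat_lit 9, nat_lit 1, nat_lit 8, nat_lit 6, nat_lit 8, nat_lit 3, nat_lit 7, nat_lit 1, nat_lit 3, nat_lit 7, nat_lit 5, nat_lit 3, nat_lit 0], [[nat_lit 99, nat_lit 2]])) (.leaf ((nat_lit 4), [nat_lit 8, nat_lit 3, nat_lit 0, nat_lit 9, nat_lit 4, nat_lit 4, nat_lit 8, nat_lit 1, nat_lit 8, nat_lit 2, nat_lit 6, nat_lit 7, nat_lit 4, nat_lit 4], [[nat_lit 99, nat_lit 99]])))) (.node (nat_lit 817) (.leaf ((nat_lit 4), [nat_lit 7, nat_lit 8, nat_lit 9, nat_lit 6, nat_lit 9, nat_lit 8, nat_lit 7, nat_lit 8, nat_lit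 3, nat_lit 8, nat_lit 7, nat_lit 5, nat_lit 4, nat_lit 7, nat_lit 6, nat_lit 2, nat_lit 0], [[nat_lit 99, nat_lit 2, nat_lit 99, nat_lit 2]])) (.node (nat_lit 818) (.leaf ((nat_lit 4), [nat_lit 7, nat_lit 8, nat_lit 9, nat_lit 7, nat_lit 6, nat_lit 0, nat_lit 8, nat_lit 3, nat_lit 8, nat_lit 7, nat_lit 6, nat_lit 3, nat_lit 2], [[nat_lit 4, nat_lit 99, nat_lit 2]])) (.leaf ((nat_lit 4), [nat_lit 7, nat_lit 9, nat_lit 0, nat_lit 6, nat_lit 9, nat_lit 7, nat_lit 8, nat_lit 1, nat_lit 3, nat_lit 1, nat_lit 8, nat_lit 1, nat_lit 7, nat_lit 6], [[nat_lit 99, nat_lit 2, nat_lit 99, nat_lit 2]])))))))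
 (.node (nat_lit 829) (.node (nat_lit 824) (.node (nat_lit 821) (.node (nat_lit 820) (.leaf ((nat_lit 4), [nat_lit 1, nat_lit 9, nat_lit 6, nat_lit 9, nat_lit 8, nat_lit 6, nat_lit 6, nat_lit 8, nat_lit 5, nat_lit 3, nat_lit 0, nat_lit 7, nat_lit 4, nat_lit 6], [[nat_lit 99, nat_lit 4, nat_lit 0]])) (.leaf ((nat_lit 4), [nat_lit 1, nat_lit 7, nat_lit 0, nat_lit 6, nat_lit 9, nat_lit 8, nat_lit 7, nat_lit 3, nat_lit 6, nat_lit 8, nat_lit 2, nat_lit 6, nat_lit 7, nat_lit 1], [[nat_lit 99, nat_lit 0]]))) (.node (nat_lit 822) (.leaf ((nat_lit 4), [nat_lit 8, nat_lit 1, nat_lit 8, nat_lit 9, nat_lit 7, nat_lit 6, nat_lit 8, nat_lit 6, nat_lit 8, nat_lit 3, nat_lit 7, nat_lit 6, nat_lit 7, nat_lit 1], [[nat_lit 1, nat_lit 99, nat_lit 0, nat_lit 1, nat_lit 99, nat_lit 0]])) (.node (nat_lit 823) (.leaf ((nat_lit 4), [nat_lit 0, nat_lit 8, nat_lit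 9, nat_lit 4, nat_lit 7, nat_lit 8, nat_lit 1, nat_lit 8, nat_lit 5, nat_lit 3, nat_lit 7], [[nat_lit 99, nat_lit 4, nat_lit 99, nat_lit 4]])) (.leaf ((nat_lit 4), [nat_lit 4, nat_lit 8, nat_lit 2, nat_lit 1, nat_lit 9, nat_lit 3, nat_lit 8, nat_lit 0, nat_lit 8, nat_lit 3, nat_lit 7, nat_lit 6, nat_lit 4, nat_lit 6], [[nat_lit 99, nat_lit 99]])))))
 (.node (nat_lit 826) (.node (nat_lit 825) (.leaf ((nat_lit 4), [nat_lit 7, nat_lit 4, nat_lit 9, nat_lit 1, nat_lit 7, nat_lit 8, nat_lit 3, nat_lit 8, nat_lit 6, nat_lit 0], [[nat_lit 99, nat_lit 1, nat_lit 99, nat_lit 1]])) (.leaf ((nat_lit 4), [nat_lit 8, nat_lit 7, nat_lit 0, nat_lit 9, nat_lit 3, nat_lit 8, nat_lit 7, nat_lit 8, nat_lit 5, nat_lit 4, nat_lit 7, nat_lit 0], [[nat_lit 99, nat_lit 2, nat_lit 99, nat_lit 2]]))) (.node (nat_lit 827) (.leaf ((nat_lit 4), [nat_lit 6, nat_lit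 7, nat_lit 0, nat_lit 9, nat_lit 6, nat_lit 1, nat_lit 8, nat_lit 6, nat_lit 7, nat_lit 0, nat_lit 5], [[nat_lit 99, nat_lit 99]])) (.node (nat_lit 828) (.leaf ((nat_lit 4), [nat_lit 7, nat_lit 9, nat_lit 0, nat_lit 3, nat_lit 9, nat_lit 7, nat_lit 4, nat_lit 8, nat_lit 1, nat_lit 8, nat_lit 1, nat_lit 7, nat_lit 4, nat_lit 6, nat_lit 1], [[nat_lit 99, nat_lit 2]])) (.leaf ((nat_lit 4), [nat_lit 9, nat_lit 6, nat_lit 7, nat_lit 8, nat_lit 1, nat_lit 9, nat_lit 4, nat_lit 5, nat_lit 8, nat_lit 1, nat_lit 8, nat_lit 5, nat_lit 4, nat_lit 7, nat_lit 0], [[nat_lit 99, nat_lit 2]]))))))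
 (.node (nat_lit 834) (.node (nat_lit 831) (.node (nat_lit 830) (.leaf ((nat_lit 4), [nat_lit 7, nat_lit 6, nat_lit 2, nat_lit 9, nat_lit 1, nat_lit 6, nat_lit 7, nat_lit 8, nat_lit 7, nat_lit 6, nat_lit 7, nat_lit 3, nat_lit 0], [[nat_lit 99]])) (.leaf ((nat_lit 4), [nat_lit 3, nat_lit 1, nat_lit 9, nat_lit 0, nat_lit 8, nat_lit 6, nat_lit 8, nat_lit 4, nat_lit 4, nat_lit 0, nat_lit 7, nat_lit 1, nat_lit 3, nat_lit 1], [[nat_lit 99, nat_lit 4]]))) (.node (nat_lit 832) (.leaf ((nat_lit 4), [nat_lit 8, nat_lit 5, nat_lit 8, nat_lit 0, nat_lit 9, nat_lit 0, nat_lit 8, nat_lit 3, nat_lit 1, nat_lit 8, nat_lit 7, nat_lit 1, nat_lit 5], [[nat_lit 99]])) (.node (nat_lit 833) (.leaf ((nat_lit 4), [nat_lit 0, nat_lit 9, nat_lit 6, nat_lit 0, nat_lit 9, nat_lit 3, nat_lit 8, nat_lit 7, nat_lit 6, nat_lit 3, nat_lit 7, nat_lit 6, nat_lit 1, nat_lit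 4, nat_lit 2, nat_lit 0], [[nat_lit 99, nat_lit 2, nat_lit 99, nat_lit 2]])) (.leaf ((nat_lit 4), [nat_lit 6, nat_lit 9, nat_lit 8, nat_lit 9, nat_lit 5, nat_lit 7, nat_lit 8, nat_lit 7, nat_lit 0, nat_lit 6, nat_lit 7, nat_lit 4, nat_lit 6, nat_lit 2], [[nat_lit 99, nat_lit 3, nat_lit 0, nat_lit 99, nat_lit 3, nat_lit 0]])))))
 (.node (nat_lit 837) (.node (nat_lit 835) (.leaf ((nat_lit 4), [nat_lit 4, nat_lit 1, nat_lit 9, nat_lit 4, nat_lit 8, nat_lit 5, nat_lit 8, nat_lit 3, nat_lit 7, nat_lit 4, nat_lit 7, nat_lit 4, nat_lit 6, nat_lit 1], [[nat_lit 1, nat_lit 99, nat_lit 0]])) (.node (nat_lit 836) (.leaf ((nat_lit 4), [nat_lit 7, nat_lit 4, nat_lit 9, nat_lit 6, nat_lit 1, nat_lit 9, nat_lit 7, nat_lit 6, nat_lit 7, nat_lit 8, nat_lit 7, nat_lit 4, nat_lit 0, nat_lit 7, nat_lit 4, nat_lit 4, nat_lit 1], [[nat_lit 99]])) (.leaf ((nat_lit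 4), [nat_lit 8, nat_lit 9, nat_lit 6, nat_lit 9, nat_lit 0, nat_lit 9, nat_lit 0, nat_lit 8, nat_lit 6, nat_lit 3, nat_lit 7, nat_lit 8, nat_lit 0], [[nat_lit 99, nat_lit 3, nat_lit 4, nat_lit 0, nat_lit 99, nat_lit 3, nat_lit 4, nat_lit 0]])))) (.node (nat_lit 838) (.leaf ((nat_lit 4), [nat_lit 3, nat_lit 8, nat_lit 4, nat_lit 9, nat_lit 6, nat_lit 4, nat_lit 8, nat_lit 1, nat_lit 4, nat_lit 0, nat_lit 7, nat_lit 6, nat_lit 6, nat_lit 2], [[nat_lit 99, nat_lit 1, nat_lit 0, nat_lit 99, nat_lit 1, nat_lit 0]])) (.node (nat_lit 839) (.leaf ((nat_lit 4), [nat_lit 2, nat_lit 9, nat_lit 1, nat_lit 9, nat_lit 6, nat_lit 8, nat_lit 6, nat_lit 8, nat_lit 3, nat_lit 1, nat_lit 4, nat_lit 7, nat_lit 4, nat_lit 4, nat_lit 2], [[nat_lit 99, nat_lit 0]])) (.leaf ((nat_lit 4), [nat_lit 9, nat_lit 7, nat_lit 6, nat_lit 0, nat_lit 9, nat_lit 7, nat_lit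 5, nat_lit 4, nat_lit 8, nat_lit 4, nat_lit 8, nat_lit 7, nat_lit 6, nat_lit 3, nat_lit 7, nat_lit 6, nat_lit 4], [[nat_lit 99, nat_lit 2, nat_lit 0]]))))))))))
noncomputable def eCE_5 : Tr (ℕ × List ℕ × List (List ℕ)) := (.node (nat_lit 924) (.node (nat_lit 882) (.node (nat_lit 861) (.node (nat_lit 850) (.node (nat_lit 845) (.node (nat_lit 842) (.node (nat_lit 841) (.leaf ((nat_lit 4), [nat_lit 8, nat_lit 1, nat_lit 9, nat_lit 8, nat_lit 9, nat_lit 6, nat_lit 4, nat_lit 1, nat_lit 8, nat_lit 3, nat_lit 7, nat_lit 5, nat_lit 2], [[nat_lit 99, nat_lit 99, nat_lit 1, nat_lit 99, nat_lit 99, nat_lit 1]])) (.leaf ((nat_lit 4), [nat_lit 6, nat_lit 7, nat_lit 8, nat_lit 9, nat_lit 4, nat_lit 4, nat_lit 7, nat_lit 8, nat_lit 0, nat_lit 7, nat_lit 4, nat_lit 7, nat_lit 1, nat_lit 6], [[nat_lit 99, nat_lit 0, nat_lit 99, nat_lit 0]]))) (.node (nat_lit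 843) (.leaf ((nat_lit 4), [nat_lit 1, nat_lit 9, nat_lit 1, nat_lit 9, nat_lit 0, nat_lit 8, nat_lit 4, nat_lit 7, nat_lit 8, nat_lit 4, nat_lit 7, nat_lit 4, nat_lit 4], [[nat_lit 99, nat_lit 1, nat_lit 0, nat_lit 99, nat_lit 1, nat_lit 0]])) (.node (nat_lit 844) (.leaf ((nat_lit 4), [nat_lit 6, nat_lit 9, nat_lit 3, nat_lit 9, nat_lit 6, nat_lit 7, nat_lit 6, nat_lit 8, nat_lit 1, nat_lit 7, nat_lit 5, nat_lit 3, nat_lit 7, nat_lit 5, nat_lit 3], [[nat_lit 99, nat_lit 0]])) (.leaf ((nat_lit 4), [nat_lit 5, nat_lit 0, nat_lit 7, nat_lit 9, nat_lit 3, nat_lit 8, nat_lit 0, nat_lit 8, nat_lit 0, nat_lit 7, nat_lit 3, nat_lit 7, nat_lit 6, nat_lit 1], [[nat_lit 99, nat_lit 0, nat_lit 99, nat_lit 0]])))))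
 (.node (nat_lit 847) (.node (nat_lit 846) (.leaf ((nat_lit 4), [nat_lit 3, nat_lit 5, nat_lit 8, nat_lit 1, nat_lit 9, nat_lit 3, nat_lit 6, nat_lit 8, nat_lit 3, nat_lit 6, nat_lit 7, nat_lit 5, nat_lit 4, nat_lit 5], [[nat_lit 99, nat_lit 3, nat_lit 0]])) (.leaf ((nat_lit 4), [nat_lit 9, nat_lit 7, nat_lit 3, nat_lit 9, nat_lit 7, nat_lit 0, nat_lit 8, nat_lit 6, nat_lit 8, nat_lit 6, nat_lit 4, nat_lit 2, nat_lit 1], [[nat_lit 99, nat_lit 3, nat_lit 0, nat_lit 99, nat_lit 3, nat_lit 0]]))) (.node (nat_lit 848) (.leaf ((nat_lit 4), [nat_lit 3, nat_lit 7, nat_lit 2, nat_lit 9, nat_lit 7, nat_lit 0, nat_lit 6, nat_lit 8, nat_lit 7, nat_lit 6, nat_lit 3, nat_lit 7, nat_lit 4, nat_lit 6, nat_lit 1], [[nat_lit 99, nat_lit 0]])) (.node (nat_lit 849) (.leaf ((nat_lit 4), [nat_lit 0, nat_lit 6, nat_lit 9, nat_lit 5, nat_lit 4, nat_lit 8, nat_lit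 4, nat_lit 7, nat_lit 3, nat_lit 0, nat_lit 7, nat_lit 4, nat_lit 4], [[nat_lit 99, nat_lit 99]])) (.leaf ((nat_lit 4), [nat_lit 9, nat_lit 6, nat_lit 9, nat_lit 3, nat_lit 0, nat_lit 8, nat_lit 6, nat_lit 8, nat_lit 4, nat_lit 0, nat_lit 7, nat_lit 6, nat_lit 4, nat_lit 2, nat_lit 1], [[nat_lit 99, nat_lit 3, nat_lit 99, nat_lit 3]]))))))
 (.node (nat_lit 855) (.node (nat_lit 852) (.node (nat_lit 851) (.leaf ((nat_lit 4), [nat_lit 6, nat_lit 4, nat_lit 0, nat_lit 9, nat_lit 0, nat_lit 7, nat_lit 4, nat_lit 8, nat_lit 0, nat_lit 7, nat_lit 5, nat_lit 1, nat_lit 7, nat_lit 1, nat_lit 6, nat_lit 0], [[nat_lit 99, nat_lit 2, nat_lit 2]])) (.leaf ((nat_lit 4), [nat_lit 7, nat_lit 8, nat_lit 9, nat_lit 4, nat_lit 8, nat_lit 4, nat_lit 6, nat_lit 8, nat_lit 3, nat_lit 7, nat_lit 6, nat_lit 7, nat_lit 4], [[nat_lit 99, nat_lit 1, nat_lit 99, nat_lit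 1]]))) (.node (nat_lit 853) (.leaf ((nat_lit 4), [nat_lit 6, nat_lit 3, nat_lit 9, nat_lit 6, nat_lit 9, nat_lit 0, nat_lit 7, nat_lit 6, nat_lit 1, nat_lit 7, nat_lit 4], [[nat_lit 99, nat_lit 3]])) (.node (nat_lit 854) (.leaf ((nat_lit 4), [nat_lit 4, nat_lit 7, nat_lit 4, nat_lit 9, nat_lit 1, nat_lit 4, nat_lit 8, nat_lit 5, nat_lit 8, nat_lit 3, nat_lit 6, nat_lit 7, nat_lit 6, nat_lit 4, nat_lit 2], [[nat_lit 99, nat_lit 3, nat_lit 0]])) (.leaf ((nat_lit 4), [nat_lit 3, nat_lit 8, nat_lit 2, nat_lit 9, nat_lit 4, nat_lit 4, nat_lit 8, nat_lit 7, nat_lit 8, nat_lit 4, nat_lit 7, nat_lit 4, nat_lit 5, nat_lit 2, nat_lit 1], [[nat_lit 99, nat_lit 1, nat_lit 99, nat_lit 1]])))))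
 (.node (nat_lit 858) (.node (nat_lit 856) (.leaf ((nat_lit 4), [nat_lit 6, nat_lit 9, nat_lit 0, nat_lit 9, nat_lit 6, nat_lit 6, nat_lit 8, nat_lit 5, nat_lit 3, nat_lit 7, nat_lit 6, nat_lit 4, nat_lit 0], [[nat_lit 99, nat_lit 2]])) (.node (nat_lit 857) (.leaf ((nat_lit 4), [nat_lit 9, nat_lit 1, nat_lit 8, nat_lit 9, nat_lit 4, nat_lit 0, nat_lit 8, nat_lit 1, nat_lit 4, nat_lit 0, nat_lit 7, nat_lit 6, nat_lit 4, nat_lit 2, nat_lit 0], [[nat_lit 99, nat_lit 99]])) (.leaf ((nat_lit 4), [nat_lit 3, nat_lit 9, nat_lit 8, nat_lit 4, nat_lit 7, nat_lit 6, nat_lit 8, nat_lit 5, nat_lit 3, nat_lit 7, nat_lit 1, nat_lit 5], [[nat_lit 99, nat_lit 2]])))) (.node (nat_lit 859) (.leaf ((nat_lit 4), [nat_lit 6, nat_lit 1, nat_lit 9, nat_lit 6, nat_lit 0, nat_lit 8, nat_lit 5, nat_lit 7, nat_lit 6, nat_lit 1, nat_lit 7, nat_lit 2, nat_lit 0], [[nat_lit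 4, nat_lit 99, nat_lit 1, nat_lit 0, nat_lit 4, nat_lit 99, nat_lit 1, nat_lit 0]])) (.node (nat_lit 860) (.leaf ((nat_lit 4), [nat_lit 4, nat_lit 9, nat_lit 6, nat_lit 9, nat_lit 8, nat_lit 6, nat_lit 1, nat_lit 8, nat_lit 5, nat_lit 4, nat_lit 7, nat_lit 4], [[nat_lit 99, nat_lit 99]])) (.leaf ((nat_lit 4), [nat_lit 7, nat_lit 8, nat_lit 1, nat_lit 9, nat_lit 8, nat_lit 6, nat_lit 6, nat_lit 8, nat_lit 1, nat_lit 8, nat_lit 1, nat_lit 6, nat_lit 7, nat_lit 5, nat_lit 2], [[nat_lit 99, nat_lit 0, nat_lit 99, nat_lit 0]])))))))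
 (.node (nat_lit 871) (.node (nat_lit 866) (.node (nat_lit 863) (.node (nat_lit 862) (.leaf ((nat_lit 4), [nat_lit 6, nat_lit 8, nat_lit 4, nat_lit 9, nat_lit 8, nat_lit 4, nat_lit 1, nat_lit 8, nat_lit 6, nat_lit 0, nat_lit 7, nat_lit 2, nat_lit 4, nat_lit 4, nat_lit 1], [[nat_lit 2, nat_lit 99, nat_lit 0]])) (.leaf ((nat_lit 4), [nat_lit 8, nat_lit 0, nat_lit 8, nat_lit 9, nat_lit 0, nat_lit 7, nat_lit 6, nat_lit 8, nat_lit 1, nat_lit 4, nat_lit 7, nat_lit 6, nat_lit 4], [[nat_lit 99, nat_lit 0]]))) (.node (nat_lit 864) (.leaf ((nat_lit 4), [nat_lit 1, nat_lit 7, nat_lit 6, nat_lit 9, nat_lit 4, nat_lit 8, nat_lit 5, nat_lit 7, nat_lit 3, nat_lit 7, nat_lit 0, nat_lit 3, nat_lit 2, nat_lit 0], [[nat_lit 99]])) (.node (nat_lit 865) (.leaf ((nat_lit 4), [nat_lit 6, nat_lit 2, nat_lit 9, nat_lit 1, nat_lit 9, nat_lit 1, nat_lit 4, nat_lit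 7, nat_lit 3, nat_lit 0, nat_lit 3, nat_lit 2, nat_lit 1], [[nat_lit 99, nat_lit 0, nat_lit 99, nat_lit 0]])) (.leaf ((nat_lit 4), [nat_lit 8, nat_lit 7, nat_lit 2, nat_lit 0, nat_lit 9, nat_lit 0, nat_lit 8, nat_lit 7, nat_lit 4, nat_lit 8, nat_lit 1, nat_lit 7, nat_lit 0, nat_lit 3, nat_lit 2], [[nat_lit 99, nat_lit 99]])))))
 (.node (nat_lit 868) (.node (nat_lit 867) (.leaf ((nat_lit 4), [nat_lit 3, nat_lit 8, nat_lit 3, nat_lit 7, nat_lit 9, nat_lit 8, nat_lit 7, nat_lit 8, nat_lit 6, nat_lit 4, nat_lit 7, nat_lit 4, nat_lit 2], [[nat_lit 99, nat_lit 99]])) (.leaf ((nat_lit 4), [nat_lit 5, nat_lit 9, nat_lit 8, nat_lit 9, nat_lit 1, nat_lit 6, nat_lit 0, nat_lit 8, nat_lit 3, nat_lit 8, nat_lit 0, nat_lit 6, nat_lit 7, nat_lit 2, nat_lit 1], [[nat_lit 99, nat_lit 2, nat_lit 99, nat_lit 2]]))) (.node (nat_lit 869) (.leaf ((nat_lit 4),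 [nat_lit 5, nat_lit 8, nat_lit 1, nat_lit 9, nat_lit 1, nat_lit 7, nat_lit 3, nat_lit 1, nat_lit 8, nat_lit 0, nat_lit 4, nat_lit 0, nat_lit 7, nat_lit 4, nat_lit 2], [[nat_lit 3, nat_lit 99, nat_lit 0]])) (.node (nat_lit 870) (.leaf ((nat_lit 4), [nat_lit 8, nat_lit 0, nat_lit 7, nat_lit 8, nat_lit 9, nat_lit 6, nat_lit 7, nat_lit 4, nat_lit 4, nat_lit 8, nat_lit 5, nat_lit 7, nat_lit 6, nat_lit 4, nat_lit 7, nat_lit 2], [[nat_lit 99, nat_lit 3, nat_lit 0]])) (.leaf ((nat_lit 4), [nat_lit 8, nat_lit 3, nat_lit 7, nat_lit 9, nat_lit 8, nat_lit 3, nat_lit 7, nat_lit 8, nat_lit 7, nat_lit 6, nat_lit 7, nat_lit 5, nat_lit 2, nat_lit 0], [[nat_lit 99, nat_lit 0, nat_lit 99, nat_lit 0]]))))))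
 (.node (nat_lit 876) (.node (nat_lit 873) (.node (nat_lit 872) (.leaf ((nat_lit 4), [nat_lit 7, nat_lit 8, nat_lit 6, nat_lit 9, nat_lit 6, nat_lit 8, nat_lit 7, nat_lit 1, nat_lit 6, nat_lit 7, nat_lit 1, nat_lit 6], [[nat_lit 99, nat_lit 0]])) (.leaf ((nat_lit 4), [nat_lit 3, nat_lit 7, nat_lit 3, nat_lit 9, nat_lit 6, nat_lit 6, nat_lit 1, nat_lit 8, nat_lit 7, nat_lit 3, nat_lit 7, nat_lit 6, nat_lit 0, nat_lit 3], [[nat_lit 99, nat_lit 4]]))) (.node (nat_lit 874) (.leaf ((nat_lit 4), [nat_lit 6, nat_lit 4, nat_lit 8, nat_lit 9, nat_lit 8, nat_lit 6, nat_lit 8, nat_lit 4, nat_lit 7, nat_lit 6, nat_lit 1, nat_lit 4], [[nat_lit 2, nat_lit 99, nat_lit 0]])) (.node (nat_lit 875) (.leaf ((nat_lit 4), [nat_lit 6, nat_lit 4, nat_lit 9, nat_lit 3, nat_lit 9, nat_lit 6, nat_lit 7, nat_lit 6, nat_lit 8, nat_lit 7, nat_lit 4, nat_lit 1, nat_lit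 7, nat_lit 4, nat_lit 0], [[nat_lit 99]])) (.leaf ((nat_lit 4), [nat_lit 5, nat_lit 1, nat_lit 9, nat_lit 7, nat_lit 2, nat_lit 9, nat_lit 7, nat_lit 8, nat_lit 0, nat_lit 8, nat_lit 7, nat_lit 2, nat_lit 6, nat_lit 7, nat_lit 1], [[nat_lit 99, nat_lit 2]])))))
 (.node (nat_lit 879) (.node (nat_lit 877) (.leaf ((nat_lit 4), [nat_lit 4, nat_lit 7, nat_lit 8, nat_lit 9, nat_lit 5, nat_lit 4, nat_lit 8, nat_lit 3, nat_lit 8, nat_lit 6, nat_lit 4, nat_lit 7], [[nat_lit 99]])) (.node (nat_lit 878) (.leaf ((nat_lit 4), [nat_lit 8, nat_lit 4, nat_lit 6, nat_lit 9, nat_lit 8, nat_lit 6, nat_lit 4, nat_lit 1, nat_lit 8, nat_lit 6, nat_lit 3, nat_lit 7, nat_lit 6, nat_lit 4, nat_lit 6], [[nat_lit 99, nat_lit 1, nat_lit 0]])) (.leaf ((nat_lit 4), [nat_lit 6, nat_lit 9, nat_lit 3, nat_lit 9, nat_lit 8, nat_lit 0, nat_lit 8, nat_lit 4, nat_lit 8, nat_lit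 7, nat_lit 1, nat_lit 3, nat_lit 7, nat_lit 0], [[nat_lit 1, nat_lit 99, nat_lit 0]])))) (.node (nat_lit 880) (.leaf ((nat_lit 4), [nat_lit 4, nat_lit 7, nat_lit 1, nat_lit 6, nat_lit 9, nat_lit 7, nat_lit 6, nat_lit 0, nat_lit 3, nat_lit 8, nat_lit 7, nat_lit 5, nat_lit 1, nat_lit 7, nat_lit 0], [[nat_lit 99, nat_lit 1]])) (.node (nat_lit 881) (.leaf ((nat_lit 4), [nat_lit 5, nat_lit 8, nat_lit 1, nat_lit 9, nat_lit 4, nat_lit 6, nat_lit 8, nat_lit 7, nat_lit 0, nat_lit 6, nat_lit 7, nat_lit 6], [[nat_lit 1, nat_lit 99, nat_lit 0, nat_lit 1, nat_lit 99, nat_lit 0]])) (.leaf ((nat_lit 4), [nat_lit 8, nat_lit 3, nat_lit 0, nat_lit 9, nat_lit 7, nat_lit 8, nat_lit 5, nat_lit 7, nat_lit 8, nat_lit 1, nat_lit 6, nat_lit 7, nat_lit 0, nat_lit 4], [[nat_lit 99, nat_lit 1, nat_lit 99, nat_lit 1]]))))))))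
 (.node (nat_lit 903) (.node (nat_lit 892) (.node (nat_lit 887) (.node (nat_lit 884) (.node (nat_lit 883) (.leaf ((nat_lit 4), [nat_lit 9, nat_lit 4, nat_lit 8, nat_lit 2, nat_lit 9, nat_lit 7, nat_lit 6, nat_lit 8, nat_lit 7, nat_lit 0, nat_lit 6, nat_lit 7, nat_lit 0, nat_lit 6, nat_lit 2], [[nat_lit 99]])) (.leaf ((nat_lit 4), [nat_lit 0, nat_lit 3, nat_lit 9, nat_lit 3, nat_lit 9, nat_lit 4, nat_lit 0, nat_lit 4, nat_lit 8, nat_lit 7, nat_lit 6, nat_lit 7, nat_lit 6, nat_lit 1, nat_lit 4, nat_lit 2], [[nat_lit 99, nat_lit 1, nat_lit 99, nat_lit 1]]))) (.node (nat_lit 885) (.leaf ((nat_lit 4), [nat_lit 7, nat_lit 9, nat_lit 6, nat_lit 4, nat_lit 7, nat_lit 8, nat_lit 5, nat_lit 7, nat_lit 3, nat_lit 7, nat_lit 0, nat_lit 4, nat_lit 2, nat_lit 1], [[nat_lit 99]])) (.node (nat_lit 886) (.leaf ((nat_lit 4), [nat_lit 9, nat_lit 8, nat_lit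 3, nat_lit 0, nat_lit 9, nat_lit 0, nat_lit 8, nat_lit 3, nat_lit 8, nat_lit 6, nat_lit 7, nat_lit 3, nat_lit 1], [[nat_lit 2, nat_lit 99, nat_lit 0]])) (.leaf ((nat_lit 4), [nat_lit 9, nat_lit 2, nat_lit 1, nat_lit 9, nat_lit 3, nat_lit 7, nat_lit 8, nat_lit 4, nat_lit 4, nat_lit 8, nat_lit 0, nat_lit 7, nat_lit 6, nat_lit 7, nat_lit 6, nat_lit 2], [[nat_lit 99, nat_lit 4, nat_lit 1]])))))
 (.node (nat_lit 889) (.node (nat_lit 888) (.leaf ((nat_lit 4), [nat_lit 4, nat_lit 9, nat_lit 5, nat_lit 2, nat_lit 9, nat_lit 0, nat_lit 5, nat_lit 8, nat_lit 0, nat_lit 7, nat_lit 4, nat_lit 7, nat_lit 6, nat_lit 1], [[nat_lit 99, nat_lit 4]])) (.leaf ((nat_lit 4), [nat_lit 9, nat_lit 7, nat_lit 8, nat_lit 9, nat_lit 0, nat_lit 3, nat_lit 7, nat_lit 8, nat_lit 7, nat_lit 0, nat_lit 6, nat_lit 7, nat_lit 6, nat_lit 0, nat_lit 3], [[nat_lit 99, nat_lit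 4]]))) (.node (nat_lit 890) (.leaf ((nat_lit 4), [nat_lit 4, nat_lit 0, nat_lit 9, nat_lit 1, nat_lit 5, nat_lit 1, nat_lit 8, nat_lit 6, nat_lit 4, nat_lit 1, nat_lit 7, nat_lit 4, nat_lit 5], [[nat_lit 1, nat_lit 99, nat_lit 0]])) (.node (nat_lit 891) (.leaf ((nat_lit 4), [nat_lit 7, nat_lit 1, nat_lit 9, nat_lit 6, nat_lit 1, nat_lit 9, nat_lit 2, nat_lit 6, nat_lit 8, nat_lit 7, nat_lit 8, nat_lit 7, nat_lit 4, nat_lit 2, nat_lit 1], [[nat_lit 2, nat_lit 99, nat_lit 0, nat_lit 2, nat_lit 99, nat_lit 0]])) (.leaf ((nat_lit 4), [nat_lit 9, nat_lit 7, nat_lit 8, nat_lit 7, nat_lit 9, nat_lit 6, nat_lit 1, nat_lit 7, nat_lit 8, nat_lit 3, nat_lit 8, nat_lit 5], [[nat_lit 99, nat_lit 4, nat_lit 0]]))))))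
 (.node (nat_lit 897) (.node (nat_lit 894) (.node (nat_lit 893) (.leaf ((nat_lit 4), [nat_lit 8, nat_lit 1, nat_lit 9, nat_lit 1, nat_lit 8, nat_lit 5, nat_lit 8, nat_lit 7, nat_lit 4, nat_lit 7, nat_lit 4, nat_lit 4], [[nat_lit 99, nat_lit 99]])) (.leaf ((nat_lit 4), [nat_lit 3, nat_lit 1, nat_lit 9, nat_lit 4, nat_lit 0, nat_lit 9, nat_lit 4, nat_lit 8, nat_lit 5, nat_lit 8, nat_lit 1, nat_lit 7, nat_lit 3, nat_lit 7], [[nat_lit 99, nat_lit 0, nat_lit 99, nat_lit 0]]))) (.node (nat_lit 895) (.leaf ((nat_lit 4), [nat_lit 8, nat_lit 4, nat_lit 9, nat_lit 5, nat_lit 3, nat_lit 7, nat_lit 8, nat_lit 7, nat_lit 1, nat_lit 4, nat_lit 7, nat_lit 1, nat_lit 5, nat_lit 2, nat_lit 0], [[nat_lit 99, nat_lit 2, nat_lit 99, nat_lit 2]])) (.node (nat_lit 896) (.leaf ((nat_lit 4), [nat_lit 8, nat_lit 9, nat_lit 6, nat_lit 9, nat_lit 8, nat_lit 3, nat_lit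 1, nat_lit 8, nat_lit 3, nat_lit 0, nat_lit 7, nat_lit 6, nat_lit 6, nat_lit 0], [[nat_lit 99, nat_lit 99]])) (.leaf ((nat_lit 4), [nat_lit 8, nat_lit 9, nat_lit 6, nat_lit 1, nat_lit 9, nat_lit 4, nat_lit 4, nat_lit 8, nat_lit 7, nat_lit 8, nat_lit 4, nat_lit 5, nat_lit 1, nat_lit 7, nat_lit 6], [[nat_lit 99, nat_lit 4, nat_lit 99, nat_lit 4]])))))
 (.node (nat_lit 900) (.node (nat_lit 898) (.leaf ((nat_lit 4), [nat_lit 1, nat_lit 6, nat_lit 9, nat_lit 8, nat_lit 3, nat_lit 7, nat_lit 8, nat_lit 4, nat_lit 4, nat_lit 8, nat_lit 1, nat_lit 3, nat_lit 7, nat_lit 4, nat_lit 6], [[nat_lit 99]])) (.node (nat_lit 899) (.leaf ((nat_lit 4), [nat_lit 8, nat_lit 3, nat_lit 1, nat_lit 9, nat_lit 7, nat_lit 6, nat_lit 7, nat_lit 8, nat_lit 4, nat_lit 0, nat_lit 7], [[nat_lit 3, nat_lit 99, nat_lit 0, nat_lit 3, nat_lit 99, nat_lit 0]])) (.leaf ((nat_lit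 4), [nat_lit 7, nat_lit 5, nat_lit 2, nat_lit 9, nat_lit 0, nat_lit 6, nat_lit 7, nat_lit 8, nat_lit 7, nat_lit 6, nat_lit 7, nat_lit 0], [[nat_lit 1, nat_lit 99, nat_lit 0, nat_lit 1, nat_lit 99, nat_lit 0]])))) (.node (nat_lit 901) (.leaf ((nat_lit 4), [nat_lit 7, nat_lit 4, nat_lit 9, nat_lit 6, nat_lit 1, nat_lit 9, nat_lit 5, nat_lit 8, nat_lit 7, nat_lit 5, nat_lit 3, nat_lit 7, nat_lit 0, nat_lit 4], [[nat_lit 99, nat_lit 4]])) (.node (nat_lit 902) (.leaf ((nat_lit 4), [nat_lit 1, nat_lit 8, nat_lit 7, nat_lit 9, nat_lit 6, nat_lit 4, nat_lit 1, nat_lit 8, nat_lit 6, nat_lit 1, nat_lit 7, nat_lit 0, nat_lit 6, nat_lit 2, nat_lit 1], [[nat_lit 99, nat_lit 99]])) (.leaf ((nat_lit 3), [], [[nat_lit 1, nat_lit 0, nat_lit 1, nat_lit 4, nat_lit 2, nat_lit 2, nat_lit 3, nat_lit 1], [nat_lit 0, nat_lit 4, nat_lit 0, nat_lit 1, nat_lit 4,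 nat_lit 0, nat_lit 3, nat_lit 2, nat_lit 2, nat_lit 3], [nat_lit 1, nat_lit 4, nat_lit 2, nat_lit 99, nat_lit 99, nat_lit 1, nat_lit 3, nat_lit 0, nat_lit 4, nat_lit 2, nat_lit 3, nat_lit 0]])))))))
 (.node (nat_lit 913) (.node (nat_lit 908) (.node (nat_lit 905) (.node (nat_lit 904) (.leaf ((nat_lit 4), [nat_lit 8, nat_lit 2, nat_lit 9, nat_lit 8, nat_lit 4, nat_lit 6, nat_lit 8, nat_lit 7, nat_lit 5, nat_lit 1, nat_lit 7, nat_lit 6, nat_lit 1, nat_lit 3, nat_lit 0], [[nat_lit 99]])) (.leaf ((nat_lit 4), [nat_lit 4, nat_lit 7, nat_lit 3, nat_lit 9, nat_lit 4, nat_lit 8, nat_lit 0, nat_lit 7, nat_lit 3, nat_lit 7, nat_lit 4, nat_lit 5, nat_lit 1], [[nat_lit 99, nat_lit 99]]))) (.node (nat_lit 906) (.leaf ((nat_lit 4), [nat_lit 2, nat_lit 9, nat_lit 0, nat_lit 9, nat_lit 8, nat_lit 4, nat_lit 7, nat_lit 6, nat_lit 8, nat_lit 0, nat_lit 7,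 nat_lit 6, nat_lit 7, nat_lit 4, nat_lit 1, nat_lit 4], [[nat_lit 99, nat_lit 3]])) (.node (nat_lit 907) (.leaf ((nat_lit 4), [nat_lit 4, nat_lit 8, nat_lit 9, nat_lit 0, nat_lit 8, nat_lit 0, nat_lit 4, nat_lit 8, nat_lit 1, nat_lit 4, nat_lit 7, nat_lit 5, nat_lit 3, nat_lit 2, nat_lit 0], [[nat_lit 99]])) (.leaf ((nat_lit 4), [nat_lit 9, nat_lit 6, nat_lit 4, nat_lit 9, nat_lit 4, nat_lit 1, nat_lit 8, nat_lit 1, nat_lit 4, nat_lit 0, nat_lit 7, nat_lit 1, nat_lit 3, nat_lit 2, nat_lit 0], [[nat_lit 99, nat_lit 1, nat_lit 99, nat_lit 1]])))))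
 (.node (nat_lit 910) (.node (nat_lit 909) (.leaf ((nat_lit 4), [nat_lit 9, nat_lit 0, nat_lit 8, nat_lit 2, nat_lit 9, nat_lit 6, nat_lit 7, nat_lit 6, nat_lit 8, nat_lit 5, nat_lit 3, nat_lit 7, nat_lit 6, nat_lit 0], [[nat_lit 99, nat_lit 4, nat_lit 0]])) (.leaf ((nat_lit 4), [nat_lit 9, nat_lit 5, nat_lit 9, nat_lit 3, nat_lit 9, nat_lit 7, nat_lit 8, nat_lit 4, nat_lit 8, nat_lit 7, nat_lit 5, nat_lit 1, nat_lit 7, nat_lit 0, nat_lit 4], [[nat_lit 99, nat_lit 0, nat_lit 99, nat_lit 0]]))) (.node (nat_lit 911) (.leaf ((nat_lit 4), [nat_lit 6, nat_lit 4, nat_lit 9, nat_lit 1, nat_lit 9, nat_lit 7, nat_lit 0, nat_lit 3, nat_lit 8, nat_lit 3, nat_lit 7, nat_lit 4, nat_lit 7, nat_lit 6, nat_lit 4, nat_lit 1], [[nat_lit 99, nat_lit 2]])) (.node (nat_lit 912) (.leaf ((nat_lit 4), [nat_lit 2, nat_lit 4, nat_lit 7, nat_lit 8, nat_lit 9, nat_lit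 1, nat_lit 3, nat_lit 1, nat_lit 8, nat_lit 5, nat_lit 4, nat_lit 7, nat_lit 1, nat_lit 5], [[nat_lit 99, nat_lit 3, nat_lit 0, nat_lit 99, nat_lit 3, nat_lit 0]])) (.leaf ((nat_lit 4), [nat_lit 9, nat_lit 6, nat_lit 4, nat_lit 9, nat_lit 1, nat_lit 9, nat_lit 4, nat_lit 8, nat_lit 4, nat_lit 7, nat_lit 8, nat_lit 4, nat_lit 4, nat_lit 2, nat_lit 1], [[nat_lit 99, nat_lit 3]]))))))
 (.node (nat_lit 918) (.node (nat_lit 915) (.node (nat_lit 914) (.leaf ((nat_lit 4), [nat_lit 7, nat_lit 8, nat_lit 4, nat_lit 9, nat_lit 8, nat_lit 4, nat_lit 8, nat_lit 4, nat_lit 4, nat_lit 7, nat_lit 6, nat_lit 0, nat_lit 3, nat_lit 2, nat_lit 0], [[nat_lit 99, nat_lit 1, nat_lit 99, nat_lit 1]])) (.leaf ((nat_lit 4), [nat_lit 9, nat_lit 7, nat_lit 8, nat_lit 9, nat_lit 0, nat_lit 8, nat_lit 4, nat_lit 7, nat_lit 8, nat_lit 1, nat_lit 4, nat_lit 0], [[nat_lit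 99, nat_lit 3, nat_lit 0, nat_lit 99, nat_lit 3, nat_lit 0]]))) (.node (nat_lit 916) (.leaf ((nat_lit 4), [nat_lit 6, nat_lit 6, nat_lit 9, nat_lit 0, nat_lit 9, nat_lit 6, nat_lit 0, nat_lit 8, nat_lit 6, nat_lit 8, nat_lit 6, nat_lit 2], [[nat_lit 3, nat_lit 99, nat_lit 0]])) (.node (nat_lit 917) (.leaf ((nat_lit 4), [nat_lit 7, nat_lit 4, nat_lit 9, nat_lit 8, nat_lit 0, nat_lit 6, nat_lit 8, nat_lit 0, nat_lit 4, nat_lit 4, nat_lit 7, nat_lit 3, nat_lit 0, nat_lit 3], [[nat_lit 99, nat_lit 0, nat_lit 99, nat_lit 0]])) (.leaf ((nat_lit 4), [nat_lit 9, nat_lit 8, nat_lit 0, nat_lit 9, nat_lit 4, nat_lit 0, nat_lit 4, nat_lit 8, nat_lit 6, nat_lit 3, nat_lit 7, nat_lit 0, nat_lit 6, nat_lit 2, nat_lit 1], [[nat_lit 99, nat_lit 0]])))))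
 (.node (nat_lit 921) (.node (nat_lit 919) (.leaf ((nat_lit 4), [nat_lit 4, nat_lit 7, nat_lit 4, nat_lit 9, nat_lit 8, nat_lit 1, nat_lit 8, nat_lit 5, nat_lit 8, nat_lit 6, nat_lit 7, nat_lit 5, nat_lit 3, nat_lit 5, nat_lit 2, nat_lit 1], [[nat_lit 99, nat_lit 1, nat_lit 99, nat_lit 1]])) (.node (nat_lit 920) (.leaf ((nat_lit 4), [nat_lit 7, nat_lit 2, nat_lit 0, nat_lit 9, nat_lit 4, nat_lit 7, nat_lit 8, nat_lit 6, nat_lit 4, nat_lit 7, nat_lit 3, nat_lit 1, nat_lit 4, nat_lit 2, nat_lit 0], [[nat_lit 99, nat_lit 3, nat_lit 99, nat_lit 3]])) (.leaf ((nat_lit 4), [nat_lit 4, nat_lit 9, nat_lit 1, nat_lit 9, nat_lit 6, nat_lit 3, nat_lit 7, nat_lit 0, nat_lit 3, nat_lit 2, nat_lit 0], [[nat_lit 99, nat_lit 3, nat_lit 99, nat_lit 3]])))) (.node (nat_lit 922) (.leaf ((nat_lit 4), [nat_lit 3, nat_lit 0, nat_lit 9, nat_lit 6, nat_lit 9,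 nat_lit 8, nat_lit 4, nat_lit 8, nat_lit 7, nat_lit 8, nat_lit 4, nat_lit 4, nat_lit 0], [[nat_lit 99, nat_lit 1, nat_lit 99, nat_lit 1]])) (.node (nat_lit 923) (.leaf ((nat_lit 4), [nat_lit 5, nat_lit 9, nat_lit 7, nat_lit 3, nat_lit 9, nat_lit 8, nat_lit 0, nat_lit 8, nat_lit 7, nat_lit 5, nat_lit 4, nat_lit 7, nat_lit 1, nat_lit 4, nat_lit 2], [[nat_lit 99, nat_lit 3]])) (.leaf ((nat_lit 4), [nat_lit 8, nat_lit 5, nat_lit 2, nat_lit 9, nat_lit 1, nat_lit 7, nat_lit 6, nat_lit 8, nat_lit 6, nat_lit 1, nat_lit 4, nat_lit 1], [[nat_lit 99, nat_lit 99]])))))))))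
 (.node (nat_lit 966) (.node (nat_lit 945) (.node (nat_lit 934) (.node (nat_lit 929) (.node (nat_lit 926) (.node (nat_lit 925) (.leaf ((nat_lit 4), [nat_lit 2, nat_lit 5, nat_lit 8, nat_lit 7, nat_lit 9, nat_lit 3, nat_lit 8, nat_lit 7, nat_lit 8, nat_lit 0, nat_lit 8, nat_lit 3, nat_lit 0, nat_lit 7, nat_lit 4, nat_lit 6], [[nat_lit 99, nat_lit 2]])) (.leaf ((nat_lit 4), [nat_lit 5, nat_lit 9, nat_lit 7, nat_lit 4, nat_lit 9, nat_lit 7, nat_lit 6, nat_lit 8, nat_lit 7, nat_lit 1, nat_lit 6, nat_lit 7, nat_lit 3, nat_lit 5], [[nat_lit 3, nat_lit 99, nat_lit 0]]))) (.node (nat_lit 927) (.leaf ((nat_lit 4), [nat_lit 8, nat_lit 5, nat_lit 2, nat_lit 9, nat_lit 0, nat_lit 7, nat_lit 8, nat_lit 3, nat_lit 8, nat_lit 7, nat_lit 1, nat_lit 3, nat_lit 7, nat_lit 2], [[nat_lit 99, nat_lit 1, nat_lit 99, nat_lit 1]])) (.node (nat_lit 928) (.leaf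 ((nat_lit 4), [nat_lit 8, nat_lit 6, nat_lit 4, nat_lit 1, nat_lit 9, nat_lit 8, nat_lit 6, nat_lit 4, nat_lit 1, nat_lit 8, nat_lit 7, nat_lit 5, nat_lit 3], [[nat_lit 99, nat_lit 1]])) (.leaf ((nat_lit 4), [nat_lit 6, nat_lit 8, nat_lit 9, nat_lit 7, nat_lit 6, nat_lit 8, nat_lit 0, nat_lit 8, nat_lit 7, nat_lit 6, nat_lit 3, nat_lit 7, nat_lit 5, nat_lit 3, nat_lit 1], [[nat_lit 99, nat_lit 2, nat_lit 99, nat_lit 2]])))))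
 (.node (nat_lit 931) (.node (nat_lit 930) (.leaf ((nat_lit 4), [nat_lit 8, nat_lit 3, nat_lit 1, nat_lit 9, nat_lit 2, nat_lit 4, nat_lit 8, nat_lit 0, nat_lit 8, nat_lit 0, nat_lit 7, nat_lit 4, nat_lit 1, nat_lit 7, nat_lit 5, nat_lit 2], [[nat_lit 99, nat_lit 0, nat_lit 99, nat_lit 0]])) (.leaf ((nat_lit 4), [nat_lit 6, nat_lit 3, nat_lit 9, nat_lit 6, nat_lit 9, nat_lit 3, nat_lit 7, nat_lit 3, nat_lit 8, nat_lit 1, nat_lit 8, nat_lit 0, nat_lit 7, nat_lit 6, nat_lit 4, nat_lit 7, nat_lit 6], [[nat_lit 99, nat_lit 0]]))) (.node (nat_lit 932) (.leaf ((nat_lit 4), [nat_lit 6, nat_lit 2, nat_lit 9, nat_lit 1, nat_lit 7, nat_lit 4, nat_lit 8, nat_lit 3, nat_lit 8, nat_lit 7, nat_lit 1, nat_lit 4, nat_lit 4, nat_lit 0], [[nat_lit 99, nat_lit 0]])) (.node (nat_lit 933) (.leaf ((nat_lit 4), [nat_lit 8, nat_lit 0, nat_lit 7, nat_lit 8, nat_lit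 9, nat_lit 0, nat_lit 4, nat_lit 8, nat_lit 0, nat_lit 6, nat_lit 7, nat_lit 3, nat_lit 1, nat_lit 4, nat_lit 2], [[nat_lit 99, nat_lit 4, nat_lit 0]])) (.leaf ((nat_lit 4), [nat_lit 9, nat_lit 3, nat_lit 0, nat_lit 9, nat_lit 8, nat_lit 4, nat_lit 8, nat_lit 1, nat_lit 3, nat_lit 7, nat_lit 0, nat_lit 5, nat_lit 2, nat_lit 1], [[nat_lit 99]]))))))
 (.node (nat_lit 939) (.node (nat_lit 936) (.node (nat_lit 935) (.leaf ((nat_lit 4), [nat_lit 8, nat_lit 9, nat_lit 3, nat_lit 8, nat_lit 7, nat_lit 8, nat_lit 4, nat_lit 8, nat_lit 4, nat_lit 1, nat_lit 7, nat_lit 6, nat_lit 6, nat_lit 1], [[nat_lit 99, nat_lit 1, nat_lit 99, nat_lit 1]])) (.leaf ((nat_lit 4), [nat_lit 5, nat_lit 8, nat_lit 7, nat_lit 0, nat_lit 9, nat_lit 1, nat_lit 7, nat_lit 6, nat_lit 6, nat_lit 8, nat_lit 3, nat_lit 7, nat_lit 6, nat_lit 7, nat_lit 5, nat_lit 1], [[nat_lit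 99, nat_lit 3, nat_lit 99, nat_lit 3]]))) (.node (nat_lit 937) (.leaf ((nat_lit 4), [nat_lit 5, nat_lit 9, nat_lit 0, nat_lit 9, nat_lit 4, nat_lit 5, nat_lit 7, nat_lit 6, nat_lit 8, nat_lit 6, nat_lit 7, nat_lit 5, nat_lit 2, nat_lit 0], [[nat_lit 99, nat_lit 0]])) (.node (nat_lit 938) (.leaf ((nat_lit 4), [nat_lit 4, nat_lit 2, nat_lit 9, nat_lit 8, nat_lit 6, nat_lit 4, nat_lit 7, nat_lit 8, nat_lit 7, nat_lit 6, nat_lit 7, nat_lit 3, nat_lit 5, nat_lit 1], [[nat_lit 99, nat_lit 3, nat_lit 99, nat_lit 3]])) (.leaf ((nat_lit 4), [nat_lit 7, nat_lit 8, nat_lit 3, nat_lit 1, nat_lit 9, nat_lit 8, nat_lit 3, nat_lit 8, nat_lit 0, nat_lit 7, nat_lit 3, nat_lit 7, nat_lit 4, nat_lit 4, nat_lit 2, nat_lit 0], [[nat_lit 99, nat_lit 3, nat_lit 1]])))))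
 (.node (nat_lit 942) (.node (nat_lit 940) (.leaf ((nat_lit 4), [nat_lit 8, nat_lit 9, nat_lit 5, nat_lit 1, nat_lit 8, nat_lit 6, nat_lit 0, nat_lit 7, nat_lit 1, nat_lit 4, nat_lit 4], [[nat_lit 99, nat_lit 3, nat_lit 0, nat_lit 99, nat_lit 3, nat_lit 0]])) (.node (nat_lit 941) (.leaf ((nat_lit 4), [nat_lit 6, nat_lit 9, nat_lit 8, nat_lit 7, nat_lit 4, nat_lit 8, nat_lit 7, nat_lit 1, nat_lit 3, nat_lit 7, nat_lit 1, nat_lit 3], [[nat_lit 99, nat_lit 2]])) (.leaf ((nat_lit 4), [nat_lit 8, nat_lit 7, nat_lit 0, nat_lit 9, nat_lit 5, nat_lit 3, nat_lit 8, nat_lit 7, nat_lit 8, nat_lit 0, nat_lit 7, nat_lit 0, nat_lit 3, nat_lit 0], [[nat_lit 2, nat_lit 99, nat_lit 0]])))) (.node (nat_lit 943) (.leaf ((nat_lit 4), [nat_lit 7, nat_lit 5, nat_lit 9, nat_lit 1, nat_lit 9, nat_lit 1, nat_lit 8, nat_lit 1, nat_lit 8, nat_lit 3, nat_lit 7, nat_lit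 6, nat_lit 3], [[nat_lit 99, nat_lit 0, nat_lit 99, nat_lit 0]])) (.node (nat_lit 944) (.leaf ((nat_lit 4), [nat_lit 8, nat_lit 7, nat_lit 4, nat_lit 4, nat_lit 9, nat_lit 4, nat_lit 7, nat_lit 3, nat_lit 6, nat_lit 8, nat_lit 3, nat_lit 7, nat_lit 6, nat_lit 7, nat_lit 5], [[nat_lit 99, nat_lit 1]])) (.leaf ((nat_lit 4), [nat_lit 1, nat_lit 9, nat_lit 4, nat_lit 2, nat_lit 9, nat_lit 8, nat_lit 7, nat_lit 4, nat_lit 8, nat_lit 7, nat_lit 5, nat_lit 0, nat_lit 7, nat_lit 5, nat_lit 1], [[nat_lit 99, nat_lit 2]])))))))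
 (.node (nat_lit 955) (.node (nat_lit 950) (.node (nat_lit 947) (.node (nat_lit 946) (.leaf ((nat_lit 4), [nat_lit 9, nat_lit 5, nat_lit 0, nat_lit 7, nat_lit 9, nat_lit 0, nat_lit 8, nat_lit 3, nat_lit 8, nat_lit 7, nat_lit 4, nat_lit 7, nat_lit 3, nat_lit 1], [[nat_lit 99, nat_lit 2, nat_lit 0]])) (.leaf ((nat_lit 4), [nat_lit 6, nat_lit 9, nat_lit 1, nat_lit 9, nat_lit 8, nat_lit 7, nat_lit 4, nat_lit 4, nat_lit 8, nat_lit 0, nat_lit 5, nat_lit 0], [[nat_lit 99, nat_lit 0]]))) (.node (nat_lit 948) (.leaf ((nat_lit 4), [nat_lit 6, nat_lit 8, nat_lit 9, nat_lit 0, nat_lit 9, nat_lit 0, nat_lit 7, nat_lit 8, nat_lit 3, nat_lit 8, nat_lit 2, nat_lit 6, nat_lit 7, nat_lit 4], [[nat_lit 99]])) (.node (nat_lit 949) (.leaf ((nat_lit 4), [nat_lit 9, nat_lit 2, nat_lit 0, nat_lit 9, nat_lit 8, nat_lit 6, nat_lit 8, nat_lit 0, nat_lit 7, nat_lit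 6], [[nat_lit 99, nat_lit 1]])) (.leaf ((nat_lit 4), [nat_lit 8, nat_lit 9, nat_lit 1, nat_lit 6, nat_lit 7, nat_lit 8, nat_lit 6, nat_lit 7, nat_lit 6, nat_lit 6, nat_lit 1], [[nat_lit 99, nat_lit 4, nat_lit 99, nat_lit 4]])))))
 (.node (nat_lit 952) (.node (nat_lit 951) (.leaf ((nat_lit 4), [nat_lit 0, nat_lit 9, nat_lit 6, nat_lit 9, nat_lit 3, nat_lit 8, nat_lit 7, nat_lit 8, nat_lit 0, nat_lit 8, nat_lit 7, nat_lit 6, nat_lit 7, nat_lit 3, nat_lit 2, nat_lit 1], [[nat_lit 99]])) (.leaf ((nat_lit 4), [nat_lit 5, nat_lit 1, nat_lit 9, nat_lit 7, nat_lit 2, nat_lit 9, nat_lit 6, nat_lit 4, nat_lit 8, nat_lit 4, nat_lit 0, nat_lit 7, nat_lit 0, nat_lit 6, nat_lit 2], [[nat_lit 99, nat_lit 4]]))) (.node (nat_lit 953) (.leaf ((nat_lit 4), [nat_lit 7, nat_lit 9, nat_lit 8, nat_lit 0, nat_lit 9, nat_lit 8, nat_lit 6, nat_lit 7, nat_lit 8,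 nat_lit 0, nat_lit 7, nat_lit 1, nat_lit 3, nat_lit 2, nat_lit 0], [[nat_lit 99, nat_lit 4, nat_lit 99, nat_lit 4]])) (.node (nat_lit 954) (.leaf ((nat_lit 4), [nat_lit 0, nat_lit 5, nat_lit 8, nat_lit 9, nat_lit 4, nat_lit 5, nat_lit 8, nat_lit 5, nat_lit 1, nat_lit 7, nat_lit 4, nat_lit 5], [[nat_lit 99, nat_lit 4, nat_lit 99, nat_lit 4]])) (.leaf ((nat_lit 4), [nat_lit 9, nat_lit 4, nat_lit 6, nat_lit 1, nat_lit 9, nat_lit 5, nat_lit 3, nat_lit 1, nat_lit 8, nat_lit 7, nat_lit 3], [[nat_lit 99]]))))))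
 (.node (nat_lit 960) (.node (nat_lit 957) (.node (nat_lit 956) (.leaf ((nat_lit 4), [nat_lit 8, nat_lit 0, nat_lit 8, nat_lit 9, nat_lit 5, nat_lit 8, nat_lit 7, nat_lit 4, nat_lit 8, nat_lit 7, nat_lit 6, nat_lit 0], [[nat_lit 99, nat_lit 4, nat_lit 99, nat_lit 4]])) (.leaf ((nat_lit 4), [nat_lit 9, nat_lit 1, nat_lit 9, nat_lit 7, nat_lit 3, nat_lit 1, nat_lit 8, nat_lit 5, nat_lit 1, nat_lit 7, nat_lit 4, nat_lit 7, nat_lit 5, nat_lit 4, nat_lit 5, nat_lit 0], [[nat_lit 4, nat_lit 99, nat_lit 1, nat_lit 4, nat_lit 99, nat_lit 1]]))) (.node (nat_lit 958) (.leaf ((nat_lit 4), [nat_lit 7, nat_lit 8, nat_lit 7, nat_lit 9, nat_lit 8, nat_lit 7, nat_lit 3, nat_lit 6, nat_lit 8, nat_lit 0, nat_lit 7, nat_lit 0, nat_lit 3], [[nat_lit 99, nat_lit 0, nat_lit 99, nat_lit 0]])) (.node (nat_lit 959) (.leaf ((nat_lit 4), [nat_lit 7, nat_lit 5, nat_lit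 8, nat_lit 7, nat_lit 9, nat_lit 4, nat_lit 8, nat_lit 5, nat_lit 8, nat_lit 0, nat_lit 7, nat_lit 1, nat_lit 6], [[nat_lit 99, nat_lit 1, nat_lit 0, nat_lit 99, nat_lit 1, nat_lit 0]])) (.leaf ((nat_lit 4), [nat_lit 8, nat_lit 1, nat_lit 9, nat_lit 1, nat_lit 7, nat_lit 8, nat_lit 3, nat_lit 8, nat_lit 4, nat_lit 6, nat_lit 4, nat_lit 7, nat_lit 1], [[nat_lit 99, nat_lit 0, nat_lit 99, nat_lit 0]])))))
 (.node (nat_lit 963) (.node (nat_lit 961) (.leaf ((nat_lit 4), [nat_lit 7, nat_lit 9, nat_lit 8, nat_lit 4, nat_lit 1, nat_lit 8, nat_lit 1, nat_lit 7, nat_lit 3, nat_lit 7, nat_lit 2, nat_lit 4, nat_lit 4, nat_lit 2, nat_lit 0], [[nat_lit 99, nat_lit 4, nat_lit 99, nat_lit 4]])) (.node (nat_lit 962) (.leaf ((nat_lit 4), [nat_lit 3, nat_lit 9, nat_lit 4, nat_lit 8, nat_lit 4, nat_lit 8, nat_lit 5, nat_lit 3, nat_lit 0, nat_lit 7, nat_lit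 5, nat_lit 3], [[nat_lit 99, nat_lit 0]])) (.leaf ((nat_lit 4), [nat_lit 8, nat_lit 9, nat_lit 4, nat_lit 9, nat_lit 5, nat_lit 1, nat_lit 8, nat_lit 3, nat_lit 7, nat_lit 3, nat_lit 7, nat_lit 4, nat_lit 0, nat_lit 4, nat_lit 2], [[nat_lit 99, nat_lit 4, nat_lit 99, nat_lit 4]])))) (.node (nat_lit 964) (.leaf ((nat_lit 4), [nat_lit 7, nat_lit 9, nat_lit 8, nat_lit 9, nat_lit 8, nat_lit 7, nat_lit 4, nat_lit 8, nat_lit 5, nat_lit 3, nat_lit 0, nat_lit 7, nat_lit 2], [[nat_lit 99, nat_lit 1]])) (.node (nat_lit 965) (.leaf ((nat_lit 4), [nat_lit 8, nat_lit 0, nat_lit 7, nat_lit 8, nat_lit 9, nat_lit 6, nat_lit 8, nat_lit 1, nat_lit 8, nat_lit 3, nat_lit 7, nat_lit 4, nat_lit 7, nat_lit 4], [[nat_lit 99, nat_lit 1, nat_lit 99, nat_lit 1]])) (.leaf ((nat_lit 4), [nat_lit 8, nat_lit 9, nat_lit 6, nat_lit 9, nat_lit 7, nat_lit 4, nat_lit 4, nat_lit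 1, nat_lit 8, nat_lit 5, nat_lit 3, nat_lit 7, nat_lit 4, nat_lit 0, nat_lit 4, nat_lit 1], [[nat_lit 99, nat_lit 99, nat_lit 0]]))))))))
 (.node (nat_lit 987) (.node (nat_lit 976) (.node (nat_lit 971) (.node (nat_lit 968) (.node (nat_lit 967) (.leaf ((nat_lit 4), [nat_lit 5, nat_lit 8, nat_lit 7, nat_lit 9, nat_lit 7, nat_lit 6, nat_lit 8, nat_lit 4, nat_lit 1, nat_lit 4, nat_lit 7, nat_lit 0, nat_lit 6], [[nat_lit 99, nat_lit 3, nat_lit 99, nat_lit 3]])) (.leaf ((nat_lit 4), [nat_lit 4, nat_lit 9, nat_lit 8, nat_lit 6, nat_lit 0, nat_lit 8, nat_lit 7, nat_lit 5, nat_lit 3, nat_lit 7, nat_lit 3, nat_lit 5, nat_lit 3, nat_lit 2, nat_lit 0], [[nat_lit 99, nat_lit 1, nat_lit 0, nat_lit 99, nat_lit 1, nat_lit 0]]))) (.node (nat_lit 969) (.leaf ((nat_lit 4), [nat_lit 9, nat_lit 0, nat_lit 9, nat_lit 4, nat_lit 0, nat_lit 8, nat_lit 4, nat_lit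 4, nat_lit 0, nat_lit 7, nat_lit 5, nat_lit 3, nat_lit 5, nat_lit 2], [[nat_lit 99, nat_lit 99]])) (.node (nat_lit 970) (.leaf ((nat_lit 4), [nat_lit 8, nat_lit 3, nat_lit 9, nat_lit 1, nat_lit 6, nat_lit 7, nat_lit 8, nat_lit 1, nat_lit 7, nat_lit 6, nat_lit 1, nat_lit 7, nat_lit 4, nat_lit 0, nat_lit 4], [[nat_lit 99, nat_lit 0]])) (.leaf ((nat_lit 4), [nat_lit 0, nat_lit 7, nat_lit 9, nat_lit 4, nat_lit 1, nat_lit 8, nat_lit 5, nat_lit 8, nat_lit 4, nat_lit 4, nat_lit 7, nat_lit 1, nat_lit 6], [[nat_lit 99, nat_lit 1, nat_lit 1, nat_lit 99, nat_lit 1, nat_lit 1]])))))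
 (.node (nat_lit 973) (.node (nat_lit 972) (.leaf ((nat_lit 4), [nat_lit 4, nat_lit 8, nat_lit 3, nat_lit 1, nat_lit 9, nat_lit 7, nat_lit 3, nat_lit 7, nat_lit 8, nat_lit 6, nat_lit 4, nat_lit 7, nat_lit 3, nat_lit 2], [[nat_lit 99, nat_lit 3, nat_lit 0, nat_lit 99, nat_lit 3, nat_lit 0]])) (.leaf ((nat_lit 4), [nat_lit 3, nat_lit 7, nat_lit 4, nat_lit 9, nat_lit 8, nat_lit 0, nat_lit 8, nat_lit 3, nat_lit 8, nat_lit 7, nat_lit 3, nat_lit 1, nat_lit 4, nat_lit 2], [[nat_lit 99, nat_lit 2, nat_lit 99, nat_lit 2]]))) (.node (nat_lit 974) (.leaf ((nat_lit 4), [nat_lit 4, nat_lit 2, nat_lit 9, nat_lit 4, nat_lit 7, nat_lit 4, nat_lit 5, nat_lit 8, nat_lit 3, nat_lit 7, nat_lit 3, nat_lit 7, nat_lit 5], [[nat_lit 99, nat_lit 1, nat_lit 0]])) (.node (nat_lit 975) (.leaf ((nat_lit 4), [nat_lit 9, nat_lit 3, nat_lit 9, nat_lit 8, nat_lit 0, nat_lit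 7, nat_lit 6, nat_lit 8, nat_lit 0, nat_lit 7, nat_lit 5, nat_lit 1, nat_lit 7, nat_lit 6, nat_lit 2], [[nat_lit 99, nat_lit 3]])) (.leaf ((nat_lit 4), [nat_lit 4, nat_lit 6, nat_lit 9, nat_lit 4, nat_lit 4, nat_lit 1, nat_lit 8, nat_lit 4, nat_lit 4, nat_lit 0, nat_lit 7], [[nat_lit 3, nat_lit 99, nat_lit 0, nat_lit 3, nat_lit 99, nat_lit 0]]))))))
 (.node (nat_lit 981) (.node (nat_lit 978) (.node (nat_lit 977) (.leaf ((nat_lit 4), [nat_lit 7, nat_lit 9, nat_lit 4, nat_lit 0, nat_lit 9, nat_lit 6, nat_lit 0, nat_lit 8, nat_lit 1, nat_lit 7, nat_lit 6, nat_lit 1, nat_lit 7, nat_lit 4, nat_lit 5, nat_lit 2], [[nat_lit 99, nat_lit 4]])) (.leaf ((nat_lit 4), [nat_lit 9, nat_lit 3, nat_lit 0, nat_lit 9, nat_lit 7, nat_lit 8, nat_lit 4, nat_lit 4, nat_lit 8, nat_lit 1, nat_lit 3, nat_lit 7, nat_lit 5, nat_lit 2], [[nat_lit 99, nat_lit 0, nat_lit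 99, nat_lit 0]]))) (.node (nat_lit 979) (.leaf ((nat_lit 4), [nat_lit 8, nat_lit 0, nat_lit 7, nat_lit 6, nat_lit 4, nat_lit 8, nat_lit 4, nat_lit 4, nat_lit 7, nat_lit 6, nat_lit 1, nat_lit 3, nat_lit 0], [[nat_lit 99]])) (.node (nat_lit 980) (.leaf ((nat_lit 4), [nat_lit 0, nat_lit 4, nat_lit 9, nat_lit 1, nat_lit 9, nat_lit 4, nat_lit 0, nat_lit 8, nat_lit 6, nat_lit 7, nat_lit 4, nat_lit 7, nat_lit 6, nat_lit 4], [[nat_lit 99, nat_lit 4]])) (.leaf ((nat_lit 4), [nat_lit 8, nat_lit 9, nat_lit 6, nat_lit 9, nat_lit 4, nat_lit 4, nat_lit 8, nat_lit 1, nat_lit 4, nat_lit 7, nat_lit 3, nat_lit 5], [[nat_lit 99, nat_lit 0]])))))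
 (.node (nat_lit 984) (.node (nat_lit 982) (.leaf ((nat_lit 4), [nat_lit 5, nat_lit 9, nat_lit 1, nat_lit 9, nat_lit 8, nat_lit 7, nat_lit 6, nat_lit 6, nat_lit 8, nat_lit 5, nat_lit 7, nat_lit 4, nat_lit 7, nat_lit 1, nat_lit 5, nat_lit 2, nat_lit 1], [[nat_lit 4, nat_lit 99, nat_lit 0, nat_lit 4, nat_lit 99, nat_lit 0]])) (.node (nat_lit 983) (.leaf ((nat_lit 4), [nat_lit 2, nat_lit 4, nat_lit 7, nat_lit 9, nat_lit 7, nat_lit 4, nat_lit 4, nat_lit 8, nat_lit 3, nat_lit 7, nat_lit 5, nat_lit 3, nat_lit 2], [[nat_lit 99, nat_lit 2, nat_lit 0]])) (.leaf ((nat_lit 4), [nat_lit 4, nat_lit 9, nat_lit 6, nat_lit 0, nat_lit 9, nat_lit 5, nat_lit 8, nat_lit 4, nat_lit 8, nat_lit 0, nat_lit 8, nat_lit 5, nat_lit 1, nat_lit 7, nat_lit 5, nat_lit 0], [[nat_lit 99, nat_lit 2, nat_lit 99, nat_lit 2]])))) (.node (nat_lit 985) (.leaf ((nat_lit 4), [nat_lit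 9, nat_lit 6, nat_lit 7, nat_lit 9, nat_lit 8, nat_lit 6, nat_lit 3, nat_lit 8, nat_lit 3, nat_lit 0, nat_lit 7, nat_lit 1, nat_lit 3], [[nat_lit 99, nat_lit 4]])) (.node (nat_lit 986) (.leaf ((nat_lit 4), [nat_lit 0, nat_lit 9, nat_lit 4, nat_lit 2, nat_lit 9, nat_lit 8, nat_lit 1, nat_lit 8, nat_lit 0, nat_lit 6, nat_lit 7, nat_lit 3, nat_lit 0], [[nat_lit 99, nat_lit 0]])) (.leaf ((nat_lit 4), [nat_lit 8, nat_lit 6, nat_lit 4, nat_lit 0, nat_lit 9, nat_lit 0, nat_lit 7, nat_lit 6, nat_lit 4, nat_lit 8, nat_lit 1, nat_lit 4, nat_lit 1], [[nat_lit 2, nat_lit 99, nat_lit 0, nat_lit 2, nat_lit 99, nat_lit 0]])))))))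
 (.node (nat_lit 997) (.node (nat_lit 992) (.node (nat_lit 989) (.node (nat_lit 988) (.leaf ((nat_lit 4), [nat_lit 8, nat_lit 6, nat_lit 8, nat_lit 3, nat_lit 9, nat_lit 6, nat_lit 1, nat_lit 8, nat_lit 1, nat_lit 8, nat_lit 7, nat_lit 6, nat_lit 3, nat_lit 7, nat_lit 0, nat_lit 6], [[nat_lit 99, nat_lit 1, nat_lit 0, nat_lit 99, nat_lit 1, nat_lit 0]])) (.leaf ((nat_lit 4), [nat_lit 6, nat_lit 4, nat_lit 1, nat_lit 9, nat_lit 8, nat_lit 1, nat_lit 8, nat_lit 7, nat_lit 3, nat_lit 0, nat_lit 7, nat_lit 6, nat_lit 3], [[nat_lit 99, nat_lit 3]]))) (.node (nat_lit 990) (.leaf ((nat_lit 4), [nat_lit 9, nat_lit 0, nat_lit 9, nat_lit 0, nat_lit 3, nat_lit 8, nat_lit 5, nat_lit 7, nat_lit 2, nat_lit 6, nat_lit 7, nat_lit 4], [[nat_lit 99, nat_lit 3]])) (.node (nat_lit 991) (.leaf ((nat_lit 4), [nat_lit 4, nat_lit 8, nat_lit 2, nat_lit 9, nat_lit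 1, nat_lit 7, nat_lit 5, nat_lit 8, nat_lit 3, nat_lit 8, nat_lit 3, nat_lit 5, nat_lit 3, nat_lit 2], [[nat_lit 99, nat_lit 99, nat_lit 4]])) (.leaf ((nat_lit 4), [nat_lit 8, nat_lit 2, nat_lit 9, nat_lit 8, nat_lit 7, nat_lit 6, nat_lit 6, nat_lit 8, nat_lit 4, nat_lit 7, nat_lit 6, nat_lit 3, nat_lit 7, nat_lit 3, nat_lit 1], [[nat_lit 99, nat_lit 0]])))))
 (.node (nat_lit 994) (.node (nat_lit 993) (.leaf ((nat_lit 4), [nat_lit 0, nat_lit 7, nat_lit 1, nat_lit 6, nat_lit 9, nat_lit 0, nat_lit 4, nat_lit 8, nat_lit 4, nat_lit 1, nat_lit 7, nat_lit 1, nat_lit 5, nat_lit 1], [[nat_lit 99, nat_lit 1]])) (.leaf ((nat_lit 4), [nat_lit 4, nat_lit 8, nat_lit 9, nat_lit 7, nat_lit 8, nat_lit 6, nat_lit 3, nat_lit 8, nat_lit 7, nat_lit 3, nat_lit 6, nat_lit 3, nat_lit 2, nat_lit 1], [[nat_lit 99, nat_lit 1, nat_lit 0, nat_lit 99, nat_lit 1, nat_lit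 0]]))) (.node (nat_lit 995) (.leaf ((nat_lit 4), [nat_lit 6, nat_lit 6, nat_lit 9, nat_lit 3, nat_lit 9, nat_lit 5, nat_lit 8, nat_lit 7, nat_lit 1, nat_lit 5, nat_lit 0], [[nat_lit 99, nat_lit 4, nat_lit 0, nat_lit 99, nat_lit 4, nat_lit 0]])) (.node (nat_lit 996) (.leaf ((nat_lit 4), [nat_lit 9, nat_lit 7, nat_lit 6, nat_lit 2, nat_lit 9, nat_lit 4, nat_lit 1, nat_lit 8, nat_lit 4, nat_lit 6, nat_lit 4, nat_lit 7, nat_lit 6, nat_lit 3], [[nat_lit 99, nat_lit 2]])) (.leaf ((nat_lit 4), [nat_lit 2, nat_lit 6, nat_lit 8, nat_lit 9, nat_lit 4, nat_lit 4, nat_lit 7, nat_lit 8, nat_lit 0, nat_lit 7, nat_lit 4, nat_lit 1, nat_lit 4], [[nat_lit 99, nat_lit 2, nat_lit 0]]))))))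
 (.node (nat_lit 1002) (.node (nat_lit 999) (.node (nat_lit 998) (.leaf ((nat_lit 4), [nat_lit 8, nat_lit 7, nat_lit 8, nat_lit 1, nat_lit 9, nat_lit 8, nat_lit 4, nat_lit 7, nat_lit 4, nat_lit 5, nat_lit 8, nat_lit 5, nat_lit 0, nat_lit 7, nat_lit 5], [[nat_lit 99, nat_lit 4]])) (.leaf ((nat_lit 4), [nat_lit 0, nat_lit 7, nat_lit 8, nat_lit 9, nat_lit 2, nat_lit 6, nat_lit 8, nat_lit 7, nat_lit 8, nat_lit 7, nat_lit 4, nat_lit 6, nat_lit 2, nat_lit 1], [[nat_lit 99, nat_lit 3, nat_lit 1, nat_lit 99, nat_lit 3, nat_lit 1]]))) (.node (nat_lit 1000) (.leaf ((nat_lit 4), [nat_lit 9, nat_lit 2, nat_lit 9, nat_lit 1, nat_lit 9, nat_lit 5, nat_lit 8, nat_lit 6, nat_lit 4, nat_lit 7, nat_lit 6, nat_lit 4, nat_lit 1], [[nat_lit 99, nat_lit 1, nat_lit 0]])) (.node (nat_lit 1001) (.leaf ((nat_lit 4), [nat_lit 1, nat_lit 7, nat_lit 9, nat_lit 3, nat_lit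 1, nat_lit 9, nat_lit 7, nat_lit 1, nat_lit 8, nat_lit 6, nat_lit 8, nat_lit 7, nat_lit 5, nat_lit 4, nat_lit 7, nat_lit 6, nat_lit 2], [[nat_lit 99, nat_lit 2]])) (.leaf ((nat_lit 4), [nat_lit 9, nat_lit 7, nat_lit 6, nat_lit 9, nat_lit 7, nat_lit 5, nat_lit 1, nat_lit 8, nat_lit 3, nat_lit 7, nat_lit 4, nat_lit 4, nat_lit 2], [[nat_lit 99, nat_lit 3, nat_lit 1, nat_lit 99, nat_lit 3, nat_lit 1]])))))
 (.node (nat_lit 1005) (.node (nat_lit 1003) (.leaf ((nat_lit 4), [nat_lit 9, nat_lit 3, nat_lit 9, nat_lit 5, nat_lit 3, nat_lit 1, nat_lit 8, nat_lit 0, nat_lit 6, nat_lit 7, nat_lit 4, nat_lit 0, nat_lit 4, nat_lit 2], [[nat_lit 99, nat_lit 2, nat_lit 99, nat_lit 2]])) (.node (nat_lit 1004) (.leaf ((nat_lit 4), [nat_lit 9, nat_lit 4, nat_lit 7, nat_lit 9, nat_lit 8, nat_lit 0, nat_lit 8, nat_lit 3, nat_lit 8, nat_lit 7, nat_lit 4, nat_lit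 0, nat_lit 4], [[nat_lit 99, nat_lit 3]])) (.leaf ((nat_lit 4), [nat_lit 4, nat_lit 7, nat_lit 9, nat_lit 8, nat_lit 5, nat_lit 8, nat_lit 7, nat_lit 5, nat_lit 4, nat_lit 7, nat_lit 3, nat_lit 6, nat_lit 3, nat_lit 0], [[nat_lit 3, nat_lit 99, nat_lit 1, nat_lit 0]])))) (.node (nat_lit 1006) (.leaf ((nat_lit 4), [nat_lit 0, nat_lit 8, nat_lit 7, nat_lit 4, nat_lit 9, nat_lit 6, nat_lit 0, nat_lit 8, nat_lit 5, nat_lit 1, nat_lit 7, nat_lit 1, nat_lit 4, nat_lit 4, nat_lit 2], [[nat_lit 99, nat_lit 0, nat_lit 99, nat_lit 0]])) (.node (nat_lit 1007) (.leaf ((nat_lit 4), [nat_lit 9, nat_lit 8, nat_lit 2, nat_lit 9, nat_lit 0, nat_lit 7, nat_lit 8, nat_lit 0, nat_lit 4, nat_lit 8, nat_lit 6, nat_lit 3, nat_lit 7, nat_lit 4, nat_lit 5, nat_lit 1], [[nat_lit 99, nat_lit 2, nat_lit 99, nat_lit 2]])) (.leaf ((nat_lit 4), [nat_lit 1, nat_lit 4,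 nat_lit 9, nat_lit 4, nat_lit 4, nat_lit 7, nat_lit 8, nat_lit 4, nat_lit 8, nat_lit 6, nat_lit 1, nat_lit 3, nat_lit 2], [[nat_lit 99, nat_lit 2]]))))))))))
noncomputable def eCE_6 : Tr (ℕ × List ℕ × List (List ℕ)) := (.node (nat_lit 1092) (.node (nat_lit 1050) (.node (nat_lit 1029) (.node (nat_lit 1018) (.node (nat_lit 1013) (.node (nat_lit 1010) (.node (nat_lit 1009) (.leaf ((nat_lit 4), [nat_lit 3, nat_lit 7, nat_lit 8, nat_lit 9, nat_lit 8, nat_lit 7, nat_lit 5, nat_lit 8, nat_lit 1, nat_lit 7, nat_lit 4, nat_lit 0, nat_lit 7, nat_lit 1], [[nat_lit 99, nat_lit 99]])) (.leaf ((nat_lit 4), [nat_lit 4, nat_lit 7, nat_lit 9, nat_lit 5, nat_lit 1, nat_lit 8, nat_lit 6, nat_lit 1, nat_lit 7, nat_lit 1, nat_lit 3, nat_lit 0], [[nat_lit 99]]))) (.node (nat_lit 1011) (.leaf ((nat_lit 4), [nat_lit 3, nat_lit 0, nat_lit 7, nat_lit 8, nat_lit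 3, nat_lit 8, nat_lit 7, nat_lit 4, nat_lit 6, nat_lit 2], [[nat_lit 99, nat_lit 3, nat_lit 0, nat_lit 99, nat_lit 3, nat_lit 0]])) (.node (nat_lit 1012) (.leaf ((nat_lit 4), [nat_lit 9, nat_lit 8, nat_lit 1, nat_lit 9, nat_lit 8, nat_lit 4, nat_lit 4, nat_lit 8, nat_lit 1, nat_lit 8, nat_lit 1, nat_lit 3, nat_lit 2], [[nat_lit 99, nat_lit 2, nat_lit 0]])) (.leaf ((nat_lit 4), [nat_lit 6, nat_lit 7, nat_lit 9, nat_lit 4, nat_lit 6, nat_lit 7, nat_lit 8, nat_lit 7, nat_lit 3, nat_lit 0, nat_lit 7, nat_lit 6, nat_lit 4], [[nat_lit 99, nat_lit 4, nat_lit 1]])))))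
 (.node (nat_lit 1015) (.node (nat_lit 1014) (.leaf ((nat_lit 4), [nat_lit 1, nat_lit 7, nat_lit 0, nat_lit 6, nat_lit 9, nat_lit 6, nat_lit 4, nat_lit 7, nat_lit 8, nat_lit 1, nat_lit 7, nat_lit 6, nat_lit 7, nat_lit 4, nat_lit 1], [[nat_lit 99, nat_lit 2, nat_lit 0, nat_lit 99, nat_lit 2, nat_lit 0]])) (.leaf ((nat_lit 3), [], [[nat_lit 1, nat_lit 0, nat_lit 1, nat_lit 4, nat_lit 2, nat_lit 2, nat_lit 3, nat_lit 1], [nat_lit 0, nat_lit 4, nat_lit 0, nat_lit 1, nat_lit 4, nat_lit 0, nat_lit 3, nat_lit 2, nat_lit 2, nat_lit 3], [nat_lit 3, nat_lit 1, nat_lit 99, nat_lit 1, nat_lit 99, nat_lit 0, nat_lit 4, nat_lit 0, nat_lit 1, nat_lit 4, nat_lit 1, nat_lit 1, nat_lit 3, nat_lit 0]]))) (.node (nat_lit 1016) (.leaf ((nat_lit 4), [nat_lit 6, nat_lit 7, nat_lit 8, nat_lit 9, nat_lit 1, nat_lit 8, nat_lit 5, nat_lit 1, nat_lit 7, nat_lit 4,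 nat_lit 7, nat_lit 5, nat_lit 4, nat_lit 5], [[nat_lit 99]])) (.node (nat_lit 1017) (.leaf ((nat_lit 4), [nat_lit 2, nat_lit 1, nat_lit 9, nat_lit 4, nat_lit 0, nat_lit 4, nat_lit 8, nat_lit 0, nat_lit 6, nat_lit 7, nat_lit 4, nat_lit 4, nat_lit 1], [[nat_lit 99, nat_lit 99]])) (.leaf ((nat_lit 4), [nat_lit 5, nat_lit 7, nat_lit 8, nat_lit 9, nat_lit 3, nat_lit 1, nat_lit 8, nat_lit 1, nat_lit 7, nat_lit 3, nat_lit 7, nat_lit 6, nat_lit 6, nat_lit 2], [[nat_lit 4, nat_lit 99, nat_lit 2, nat_lit 4, nat_lit 99, nat_lit 2]]))))))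
 (.node (nat_lit 1023) (.node (nat_lit 1020) (.node (nat_lit 1019) (.leaf ((nat_lit 4), [nat_lit 9, nat_lit 6, nat_lit 9, nat_lit 0, nat_lit 9, nat_lit 0, nat_lit 8, nat_lit 4, nat_lit 8, nat_lit 7, nat_lit 5, nat_lit 0, nat_lit 7, nat_lit 1], [[nat_lit 99, nat_lit 99]])) (.leaf ((nat_lit 4), [nat_lit 9, nat_lit 4, nat_lit 9, nat_lit 8, nat_lit 1, nat_lit 9, nat_lit 0, nat_lit 3, nat_lit 8, nat_lit 6, nat_lit 7, nat_lit 4, nat_lit 7, nat_lit 1], [[nat_lit 99, nat_lit 1]]))) (.node (nat_lit 1021) (.leaf ((nat_lit 4), [nat_lit 3, nat_lit 8, nat_lit 9, nat_lit 1, nat_lit 9, nat_lit 6, nat_lit 7, nat_lit 8, nat_lit 7, nat_lit 3, nat_lit 0, nat_lit 7], [[nat_lit 99, nat_lit 4]])) (.node (nat_lit 1022) (.leaf ((nat_lit 4), [nat_lit 5, nat_lit 4, nat_lit 8, nat_lit 7, nat_lit 9, nat_lit 0, nat_lit 7, nat_lit 6, nat_lit 1, nat_lit 8, nat_lit 7,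 nat_lit 3, nat_lit 6, nat_lit 7, nat_lit 6, nat_lit 3], [[nat_lit 99, nat_lit 2, nat_lit 99, nat_lit 2]])) (.leaf ((nat_lit 4), [nat_lit 4, nat_lit 0, nat_lit 7, nat_lit 9, nat_lit 4, nat_lit 7, nat_lit 5, nat_lit 8, nat_lit 3, nat_lit 6, nat_lit 7, nat_lit 0, nat_lit 3], [[nat_lit 99, nat_lit 1]])))))
 (.node (nat_lit 1026) (.node (nat_lit 1024) (.leaf ((nat_lit 4), [nat_lit 9, nat_lit 5, nat_lit 9, nat_lit 3, nat_lit 9, nat_lit 5, nat_lit 8, nat_lit 0, nat_lit 8, nat_lit 7, nat_lit 4, nat_lit 1, nat_lit 7, nat_lit 6, nat_lit 0], [[nat_lit 99, nat_lit 4, nat_lit 99, nat_lit 4]])) (.node (nat_lit 1025) (.leaf ((nat_lit 4), [nat_lit 4, nat_lit 0, nat_lit 9, nat_lit 7, nat_lit 8, nat_lit 6, nat_lit 4, nat_lit 8, nat_lit 1, nat_lit 7, nat_lit 3, nat_lit 0, nat_lit 3], [[nat_lit 99, nat_lit 2, nat_lit 0]])) (.leaf ((nat_lit 4), [nat_lit 1,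 nat_lit 8, nat_lit 2, nat_lit 9, nat_lit 7, nat_lit 4, nat_lit 4, nat_lit 1, nat_lit 8, nat_lit 1, nat_lit 7, nat_lit 4, nat_lit 7, nat_lit 6, nat_lit 6, nat_lit 0], [[nat_lit 99, nat_lit 0, nat_lit 99, nat_lit 0]])))) (.node (nat_lit 1027) (.leaf ((nat_lit 4), [nat_lit 8, nat_lit 2, nat_lit 9, nat_lit 8, nat_lit 5, nat_lit 8, nat_lit 1, nat_lit 8, nat_lit 4, nat_lit 0, nat_lit 7, nat_lit 6, nat_lit 3], [[nat_lit 3, nat_lit 99, nat_lit 1]])) (.node (nat_lit 1028) (.leaf ((nat_lit 4), [nat_lit 8, nat_lit 4, nat_lit 9, nat_lit 6, nat_lit 9, nat_lit 0, nat_lit 8, nat_lit 6, nat_lit 8, nat_lit 6, nat_lit 4, nat_lit 6, nat_lit 2, nat_lit 1], [[nat_lit 99, nat_lit 0]])) (.leaf ((nat_lit 4), [nat_lit 7, nat_lit 9, nat_lit 4, nat_lit 7, nat_lit 0, nat_lit 3, nat_lit 8, nat_lit 7, nat_lit 6, nat_lit 1, nat_lit 7, nat_lit 1, nat_lit 5, nat_lit 2,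 nat_lit 0], [[nat_lit 4, nat_lit 99, nat_lit 0, nat_lit 4, nat_lit 99, nat_lit 0]])))))))
 (.node (nat_lit 1039) (.node (nat_lit 1034) (.node (nat_lit 1031) (.node (nat_lit 1030) (.leaf ((nat_lit 4), [nat_lit 7, nat_lit 4, nat_lit 4, nat_lit 9, nat_lit 8, nat_lit 7, nat_lit 3, nat_lit 6, nat_lit 8, nat_lit 5, nat_lit 4, nat_lit 7, nat_lit 6, nat_lit 0], [[nat_lit 99, nat_lit 1, nat_lit 1, nat_lit 99, nat_lit 1, nat_lit 1]])) (.leaf ((nat_lit 4), [nat_lit 2, nat_lit 9, nat_lit 7, nat_lit 8, nat_lit 7, nat_lit 4, nat_lit 8, nat_lit 7, nat_lit 6, nat_lit 7, nat_lit 3, nat_lit 0], [[nat_lit 99, nat_lit 99]]))) (.node (nat_lit 1032) (.leaf ((nat_lit 4), [nat_lit 6, nat_lit 1, nat_lit 9, nat_lit 0, nat_lit 9, nat_lit 3, nat_lit 7, nat_lit 8, nat_lit 5, nat_lit 7, nat_lit 6, nat_lit 4, nat_lit 7, nat_lit 4], [[nat_lit 4, nat_lit 99, nat_lit 2,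 nat_lit 4, nat_lit 99, nat_lit 2]])) (.node (nat_lit 1033) (.leaf ((nat_lit 4), [nat_lit 0, nat_lit 4, nat_lit 8, nat_lit 9, nat_lit 8, nat_lit 6, nat_lit 4, nat_lit 8, nat_lit 4, nat_lit 1, nat_lit 4, nat_lit 7, nat_lit 4, nat_lit 1, nat_lit 4], [[nat_lit 99, nat_lit 2, nat_lit 0]])) (.leaf ((nat_lit 4), [nat_lit 1, nat_lit 9, nat_lit 8, nat_lit 6, nat_lit 8, nat_lit 5, nat_lit 8, nat_lit 6, nat_lit 3, nat_lit 7, nat_lit 4, nat_lit 0, nat_lit 4, nat_lit 2], [[nat_lit 99, nat_lit 2]])))))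
 (.node (nat_lit 1036) (.node (nat_lit 1035) (.leaf ((nat_lit 4), [nat_lit 3, nat_lit 8, nat_lit 9, nat_lit 8, nat_lit 9, nat_lit 5, nat_lit 3, nat_lit 1, nat_lit 8, nat_lit 0, nat_lit 7, nat_lit 3, nat_lit 7, nat_lit 5, nat_lit 3, nat_lit 2], [[nat_lit 99]])) (.leaf ((nat_lit 4), [nat_lit 4, nat_lit 9, nat_lit 0, nat_lit 9, nat_lit 4, nat_lit 6, nat_lit 7, nat_lit 8, nat_lit 0, nat_lit 7, nat_lit 4, nat_lit 7, nat_lit 1, nat_lit 4], [[nat_lit 99, nat_lit 2]]))) (.node (nat_lit 1037) (.leaf ((nat_lit 4), [nat_lit 1, nat_lit 9, nat_lit 6, nat_lit 2, nat_lit 9, nat_lit 8, nat_lit 6, nat_lit 3, nat_lit 7, nat_lit 8, nat_lit 3, nat_lit 7, nat_lit 3, nat_lit 5], [[nat_lit 4, nat_lit 99, nat_lit 1]])) (.node (nat_lit 1038) (.leaf ((nat_lit 4), [nat_lit 8, nat_lit 4, nat_lit 1, nat_lit 9, nat_lit 8, nat_lit 6, nat_lit 7, nat_lit 6, nat_lit 8,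 nat_lit 1, nat_lit 3, nat_lit 1], [[nat_lit 99, nat_lit 0]])) (.leaf ((nat_lit 4), [nat_lit 4, nat_lit 9, nat_lit 7, nat_lit 0, nat_lit 9, nat_lit 1, nat_lit 6, nat_lit 7, nat_lit 8, nat_lit 7, nat_lit 5, nat_lit 3, nat_lit 7, nat_lit 6], [[nat_lit 3, nat_lit 99, nat_lit 0]]))))))
 (.node (nat_lit 1044) (.node (nat_lit 1041) (.node (nat_lit 1040) (.leaf ((nat_lit 4), [nat_lit 9, nat_lit 5, nat_lit 8, nat_lit 1, nat_lit 9, nat_lit 6, nat_lit 1, nat_lit 8, nat_lit 7, nat_lit 0, nat_lit 5, nat_lit 0], [[nat_lit 99, nat_lit 3]])) (.leaf ((nat_lit 4), [nat_lit 3, nat_lit 7, nat_lit 9, nat_lit 3, nat_lit 9, nat_lit 7, nat_lit 5, nat_lit 7, nat_lit 8, nat_lit 4, nat_lit 6, nat_lit 4, nat_lit 7, nat_lit 1, nat_lit 4, nat_lit 2], [[nat_lit 99]]))) (.node (nat_lit 1042) (.leaf ((nat_lit 4), [nat_lit 0, nat_lit 9, nat_lit 2, nat_lit 0, nat_lit 9,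 nat_lit 7, nat_lit 8, nat_lit 5, nat_lit 8, nat_lit 3, nat_lit 7, nat_lit 3, nat_lit 7, nat_lit 5, nat_lit 3, nat_lit 1], [[nat_lit 99, nat_lit 0]])) (.node (nat_lit 1043) (.leaf ((nat_lit 4), [nat_lit 6, nat_lit 8, nat_lit 9, nat_lit 4, nat_lit 7, nat_lit 8, nat_lit 1, nat_lit 8, nat_lit 6, nat_lit 1, nat_lit 7, nat_lit 0, nat_lit 6, nat_lit 1], [[nat_lit 99, nat_lit 2]])) (.leaf ((nat_lit 4), [nat_lit 8, nat_lit 9, nat_lit 8, nat_lit 9, nat_lit 6, nat_lit 8, nat_lit 7, nat_lit 8, nat_lit 3, nat_lit 7, nat_lit 5, nat_lit 1], [[nat_lit 99, nat_lit 0, nat_lit 99, nat_lit 0]])))))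
 (.node (nat_lit 1047) (.node (nat_lit 1045) (.leaf ((nat_lit 4), [nat_lit 6, nat_lit 4, nat_lit 9, nat_lit 1, nat_lit 8, nat_lit 4, nat_lit 8, nat_lit 0, nat_lit 8, nat_lit 3, nat_lit 7, nat_lit 1], [[nat_lit 99, nat_lit 1]])) (.node (nat_lit 1046) (.leaf ((nat_lit 4), [nat_lit 1, nat_lit 8, nat_lit 3, nat_lit 1, nat_lit 9, nat_lit 1, nat_lit 7, nat_lit 0, nat_lit 6, nat_lit 8, nat_lit 4, nat_lit 1, nat_lit 4, nat_lit 7, nat_lit 0], [[nat_lit 99, nat_lit 3, nat_lit 0]])) (.leaf ((nat_lit 4), [nat_lit 7, nat_lit 1, nat_lit 9, nat_lit 4, nat_lit 1, nat_lit 9, nat_lit 0, nat_lit 5, nat_lit 8, nat_lit 5, nat_lit 0, nat_lit 7, nat_lit 1, nat_lit 6, nat_lit 1], [[nat_lit 99, nat_lit 4]])))) (.node (nat_lit 1048) (.leaf ((nat_lit 4), [nat_lit 0, nat_lit 8, nat_lit 9, nat_lit 0, nat_lit 9, nat_lit 6, nat_lit 8, nat_lit 0, nat_lit 8, nat_lit 0,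 nat_lit 7, nat_lit 5, nat_lit 3, nat_lit 1], [[nat_lit 99, nat_lit 4, nat_lit 99, nat_lit 4]])) (.node (nat_lit 1049) (.leaf ((nat_lit 4), [nat_lit 3, nat_lit 0, nat_lit 9, nat_lit 8, nat_lit 6, nat_lit 8, nat_lit 0, nat_lit 4, nat_lit 8, nat_lit 5, nat_lit 2, nat_lit 1], [[nat_lit 99, nat_lit 1, nat_lit 99, nat_lit 1]])) (.leaf ((nat_lit 4), [nat_lit 0, nat_lit 5, nat_lit 7, nat_lit 8, nat_lit 7, nat_lit 5, nat_lit 3, nat_lit 7, nat_lit 4, nat_lit 2], [[nat_lit 99, nat_lit 2, nat_lit 0]]))))))))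
 (.node (nat_lit 1071) (.node (nat_lit 1060) (.node (nat_lit 1055) (.node (nat_lit 1052) (.node (nat_lit 1051) (.leaf ((nat_lit 4), [nat_lit 7, nat_lit 8, nat_lit 5, nat_lit 2, nat_lit 9, nat_lit 8, nat_lit 7, nat_lit 4, nat_lit 5, nat_lit 8, nat_lit 6, nat_lit 6, nat_lit 0, nat_lit 7], [[nat_lit 4, nat_lit 99, nat_lit 0]])) (.leaf ((nat_lit 4), [nat_lit 9, nat_lit 7, nat_lit 3, nat_lit 9, nat_lit 5, nat_lit 7, nat_lit 8, nat_lit 0, nat_lit 8, nat_lit 7, nat_lit 4, nat_lit 7, nat_lit 0, nat_lit 3, nat_lit 2], [[nat_lit 99, nat_lit 4, nat_lit 1, nat_lit 0]]))) (.node (nat_lit 1053) (.leaf ((nat_lit 4), [nat_lit 0, nat_lit 9, nat_lit 7, nat_lit 6, nat_lit 9, nat_lit 8, nat_lit 4, nat_lit 4, nat_lit 8, nat_lit 0, nat_lit 5], [[nat_lit 99]])) (.node (nat_lit 1054) (.leaf ((nat_lit 4), [nat_lit 3, nat_lit 9, nat_lit 7, nat_lit 4, nat_lit 4,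 nat_lit 8, nat_lit 5, nat_lit 7, nat_lit 4, nat_lit 7, nat_lit 1, nat_lit 6, nat_lit 2, nat_lit 1], [[nat_lit 99]])) (.leaf ((nat_lit 4), [nat_lit 7, nat_lit 3, nat_lit 9, nat_lit 7, nat_lit 4, nat_lit 8, nat_lit 0, nat_lit 4, nat_lit 8, nat_lit 4, nat_lit 1, nat_lit 4, nat_lit 7, nat_lit 0, nat_lit 3], [[nat_lit 99, nat_lit 3, nat_lit 99, nat_lit 3]])))))
 (.node (nat_lit 1057) (.node (nat_lit 1056) (.leaf ((nat_lit 4), [nat_lit 6, nat_lit 7, nat_lit 8, nat_lit 4, nat_lit 9, nat_lit 7, nat_lit 6, nat_lit 6, nat_lit 8, nat_lit 1, nat_lit 3, nat_lit 7, nat_lit 0, nat_lit 4], [[nat_lit 1, nat_lit 99, nat_lit 0, nat_lit 1, nat_lit 99, nat_lit 0]])) (.leaf ((nat_lit 4), [nat_lit 6, nat_lit 7, nat_lit 9, nat_lit 6, nat_lit 6, nat_lit 8, nat_lit 7, nat_lit 1, nat_lit 6, nat_lit 7, nat_lit 6, nat_lit 4, nat_lit 6, nat_lit 2, nat_lit 1], [[nat_lit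 99]]))) (.node (nat_lit 1058) (.leaf ((nat_lit 4), [nat_lit 9, nat_lit 7, nat_lit 6, nat_lit 9, nat_lit 3, nat_lit 8, nat_lit 5, nat_lit 0, nat_lit 7, nat_lit 2, nat_lit 4, nat_lit 4], [[nat_lit 99, nat_lit 2, nat_lit 0, nat_lit 99, nat_lit 2, nat_lit 0]])) (.node (nat_lit 1059) (.leaf ((nat_lit 4), [nat_lit 3, nat_lit 7, nat_lit 8, nat_lit 9, nat_lit 8, nat_lit 5, nat_lit 1, nat_lit 8, nat_lit 3, nat_lit 0, nat_lit 7, nat_lit 4, nat_lit 5], [[nat_lit 99, nat_lit 99]])) (.leaf ((nat_lit 4), [nat_lit 9, nat_lit 4, nat_lit 7, nat_lit 9, nat_lit 8, nat_lit 4, nat_lit 1, nat_lit 8, nat_lit 7, nat_lit 4, nat_lit 1, nat_lit 7, nat_lit 6, nat_lit 1], [[nat_lit 2, nat_lit 99, nat_lit 0]]))))))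
 (.node (nat_lit 1065) (.node (nat_lit 1062) (.node (nat_lit 1061) (.leaf ((nat_lit 4), [nat_lit 6, nat_lit 9, nat_lit 0, nat_lit 9, nat_lit 0, nat_lit 6, nat_lit 8, nat_lit 3, nat_lit 1, nat_lit 4, nat_lit 7, nat_lit 3, nat_lit 0, nat_lit 3], [[nat_lit 99]])) (.leaf ((nat_lit 4), [nat_lit 8, nat_lit 7, nat_lit 9, nat_lit 8, nat_lit 7, nat_lit 5, nat_lit 4, nat_lit 8, nat_lit 1, nat_lit 7, nat_lit 1, nat_lit 4, nat_lit 1], [[nat_lit 99, nat_lit 4, nat_lit 0]]))) (.node (nat_lit 1063) (.leaf ((nat_lit 4), [nat_lit 7, nat_lit 9, nat_lit 8, nat_lit 1, nat_lit 8, nat_lit 5, nat_lit 8, nat_lit 4, nat_lit 7, nat_lit 6, nat_lit 0, nat_lit 7, nat_lit 2, nat_lit 1], [[nat_lit 99, nat_lit 3, nat_lit 0, nat_lit 99, nat_lit 3, nat_lit 0]])) (.node (nat_lit 1064) (.leaf ((nat_lit 4), [nat_lit 8, nat_lit 4, nat_lit 9, nat_lit 1, nat_lit 9, nat_lit 5,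 nat_lit 7, nat_lit 4, nat_lit 8, nat_lit 6, nat_lit 0, nat_lit 7, nat_lit 4, nat_lit 6, nat_lit 4, nat_lit 2, nat_lit 0], [[nat_lit 99]])) (.leaf ((nat_lit 4), [nat_lit 3, nat_lit 9, nat_lit 3, nat_lit 1, nat_lit 9, nat_lit 6, nat_lit 4, nat_lit 8, nat_lit 7, nat_lit 3, nat_lit 7, nat_lit 1, nat_lit 4, nat_lit 2, nat_lit 1], [[nat_lit 2, nat_lit 99, nat_lit 0]])))))
 (.node (nat_lit 1068) (.node (nat_lit 1066) (.leaf ((nat_lit 4), [nat_lit 8, nat_lit 7, nat_lit 8, nat_lit 4, nat_lit 9, nat_lit 1, nat_lit 7, nat_lit 4, nat_lit 1, nat_lit 8, nat_lit 7, nat_lit 3, nat_lit 0, nat_lit 7, nat_lit 3], [[nat_lit 99, nat_lit 99, nat_lit 0]])) (.node (nat_lit 1067) (.leaf ((nat_lit 4), [nat_lit 5, nat_lit 9, nat_lit 8, nat_lit 9, nat_lit 7, nat_lit 3, nat_lit 8, nat_lit 1, nat_lit 8, nat_lit 6, nat_lit 3, nat_lit 7, nat_lit 4], [[nat_lit 2, nat_lit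 99, nat_lit 0]])) (.leaf ((nat_lit 4), [nat_lit 5, nat_lit 8, nat_lit 7, nat_lit 2, nat_lit 9, nat_lit 8, nat_lit 6, nat_lit 8, nat_lit 0, nat_lit 8, nat_lit 6, nat_lit 6, nat_lit 1], [[nat_lit 99, nat_lit 1, nat_lit 99, nat_lit 1]])))) (.node (nat_lit 1069) (.leaf ((nat_lit 4), [nat_lit 6, nat_lit 4, nat_lit 9, nat_lit 8, nat_lit 0, nat_lit 8, nat_lit 3, nat_lit 8, nat_lit 7, nat_lit 6, nat_lit 7, nat_lit 1, nat_lit 5], [[nat_lit 99, nat_lit 3]])) (.node (nat_lit 1070) (.leaf ((nat_lit 4), [nat_lit 3, nat_lit 9, nat_lit 4, nat_lit 2, nat_lit 9, nat_lit 0, nat_lit 7, nat_lit 4, nat_lit 8, nat_lit 4, nat_lit 5, nat_lit 1, nat_lit 7, nat_lit 6, nat_lit 3, nat_lit 2], [[nat_lit 99, nat_lit 99]])) (.leaf ((nat_lit 4), [nat_lit 2, nat_lit 9, nat_lit 4, nat_lit 1, nat_lit 9, nat_lit 7, nat_lit 4, nat_lit 8, nat_lit 0, nat_lit 4, nat_lit 4, nat_lit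 7, nat_lit 1, nat_lit 6, nat_lit 2, nat_lit 1], [[nat_lit 99]])))))))
 (.node (nat_lit 1081) (.node (nat_lit 1076) (.node (nat_lit 1073) (.node (nat_lit 1072) (.leaf ((nat_lit 4), [nat_lit 6, nat_lit 4, nat_lit 1, nat_lit 9, nat_lit 0, nat_lit 3, nat_lit 7, nat_lit 8, nat_lit 7, nat_lit 3, nat_lit 7, nat_lit 6, nat_lit 0], [[nat_lit 4, nat_lit 99, nat_lit 0]])) (.leaf ((nat_lit 4), [nat_lit 0, nat_lit 9, nat_lit 6, nat_lit 1, nat_lit 9, nat_lit 3, nat_lit 1, nat_lit 8, nat_lit 1, nat_lit 8, nat_lit 6, nat_lit 3, nat_lit 7, nat_lit 6, nat_lit 4], [[nat_lit 99, nat_lit 4, nat_lit 0, nat_lit 99, nat_lit 4, nat_lit 0]]))) (.node (nat_lit 1074) (.leaf ((nat_lit 4), [nat_lit 8, nat_lit 5, nat_lit 2, nat_lit 9, nat_lit 3, nat_lit 7, nat_lit 0, nat_lit 6, nat_lit 8, nat_lit 3, nat_lit 0, nat_lit 7, nat_lit 6, nat_lit 4, nat_lit 2], [[nat_lit 3,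 nat_lit 99, nat_lit 1]])) (.node (nat_lit 1075) (.leaf ((nat_lit 4), [nat_lit 9, nat_lit 0, nat_lit 6, nat_lit 9, nat_lit 6, nat_lit 4, nat_lit 8, nat_lit 1, nat_lit 7, nat_lit 1, nat_lit 4, nat_lit 4, nat_lit 2, nat_lit 1], [[nat_lit 99, nat_lit 4]])) (.leaf ((nat_lit 4), [nat_lit 5, nat_lit 0, nat_lit 7, nat_lit 9, nat_lit 4, nat_lit 7, nat_lit 8, nat_lit 5, nat_lit 1, nat_lit 7, nat_lit 5, nat_lit 3, nat_lit 1], [[nat_lit 99, nat_lit 1, nat_lit 99, nat_lit 1]])))))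
 (.node (nat_lit 1078) (.node (nat_lit 1077) (.leaf ((nat_lit 4), [nat_lit 4, nat_lit 6, nat_lit 1, nat_lit 9, nat_lit 0, nat_lit 4, nat_lit 8, nat_lit 3, nat_lit 6, nat_lit 7, nat_lit 6, nat_lit 4, nat_lit 1], [[nat_lit 3, nat_lit 99, nat_lit 0, nat_lit 3, nat_lit 99, nat_lit 0]])) (.leaf ((nat_lit 4), [nat_lit 6, nat_lit 9, nat_lit 6, nat_lit 9, nat_lit 8, nat_lit 7, nat_lit 6, nat_lit 8, nat_lit 7, nat_lit 6, nat_lit 7, nat_lit 1, nat_lit 3, nat_lit 2, nat_lit 1], [[nat_lit 99, nat_lit 4, nat_lit 99, nat_lit 4]]))) (.node (nat_lit 1079) (.leaf ((nat_lit 4), [nat_lit 4, nat_lit 9, nat_lit 7, nat_lit 0, nat_lit 9, nat_lit 8, nat_lit 5, nat_lit 8, nat_lit 5, nat_lit 1, nat_lit 8, nat_lit 6, nat_lit 7, nat_lit 4, nat_lit 2], [[nat_lit 99]])) (.node (nat_lit 1080) (.leaf ((nat_lit 4), [nat_lit 8, nat_lit 7, nat_lit 2, nat_lit 9, nat_lit 6,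 nat_lit 3, nat_lit 8, nat_lit 7, nat_lit 5, nat_lit 3, nat_lit 7, nat_lit 0, nat_lit 3], [[nat_lit 99, nat_lit 3, nat_lit 1, nat_lit 99, nat_lit 3, nat_lit 1]])) (.leaf ((nat_lit 4), [nat_lit 0, nat_lit 9, nat_lit 8, nat_lit 0, nat_lit 9, nat_lit 4, nat_lit 4, nat_lit 8, nat_lit 0, nat_lit 7, nat_lit 6, nat_lit 7, nat_lit 4, nat_lit 0, nat_lit 4, nat_lit 2], [[nat_lit 99, nat_lit 4, nat_lit 99, nat_lit 4]]))))))
 (.node (nat_lit 1086) (.node (nat_lit 1083) (.node (nat_lit 1082) (.leaf ((nat_lit 4), [nat_lit 8, nat_lit 1, nat_lit 8, nat_lit 9, nat_lit 6, nat_lit 6, nat_lit 8, nat_lit 3, nat_lit 1, nat_lit 4, nat_lit 7, nat_lit 1, nat_lit 5, nat_lit 2, nat_lit 0], [[nat_lit 99, nat_lit 1, nat_lit 99, nat_lit 1]])) (.leaf ((nat_lit 4), [nat_lit 4, nat_lit 0, nat_lit 9, nat_lit 6, nat_lit 0, nat_lit 9, nat_lit 6, nat_lit 1, nat_lit 8, nat_lit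 3, nat_lit 7, nat_lit 1, nat_lit 4], [[nat_lit 99, nat_lit 3, nat_lit 99, nat_lit 3]]))) (.node (nat_lit 1084) (.leaf ((nat_lit 4), [nat_lit 5, nat_lit 4, nat_lit 8, nat_lit 7, nat_lit 9, nat_lit 8, nat_lit 4, nat_lit 4, nat_lit 8, nat_lit 7, nat_lit 5, nat_lit 3, nat_lit 0, nat_lit 7, nat_lit 5, nat_lit 2], [[nat_lit 99, nat_lit 1]])) (.node (nat_lit 1085) (.leaf ((nat_lit 4), [nat_lit 9, nat_lit 0, nat_lit 6, nat_lit 9, nat_lit 5, nat_lit 4, nat_lit 8, nat_lit 3, nat_lit 8, nat_lit 7, nat_lit 6, nat_lit 4, nat_lit 7, nat_lit 1, nat_lit 6], [[nat_lit 99, nat_lit 1, nat_lit 99, nat_lit 1]])) (.leaf ((nat_lit 4), [nat_lit 4, nat_lit 9, nat_lit 3, nat_lit 9, nat_lit 8, nat_lit 7, nat_lit 4, nat_lit 4, nat_lit 8, nat_lit 5, nat_lit 0, nat_lit 7, nat_lit 6], [[nat_lit 3, nat_lit 99, nat_lit 1]])))))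
 (.node (nat_lit 1089) (.node (nat_lit 1087) (.leaf ((nat_lit 4), [nat_lit 7, nat_lit 6, nat_lit 0, nat_lit 9, nat_lit 7, nat_lit 6, nat_lit 6, nat_lit 8, nat_lit 7, nat_lit 3, nat_lit 0, nat_lit 7, nat_lit 1, nat_lit 6, nat_lit 1], [[nat_lit 99, nat_lit 3]])) (.node (nat_lit 1088) (.leaf ((nat_lit 4), [nat_lit 4, nat_lit 9, nat_lit 3, nat_lit 6, nat_lit 8, nat_lit 1, nat_lit 7, nat_lit 6, nat_lit 7, nat_lit 3, nat_lit 5, nat_lit 2, nat_lit 1], [[nat_lit 99, nat_lit 2, nat_lit 99, nat_lit 2]])) (.leaf ((nat_lit 4), [nat_lit 6, nat_lit 7, nat_lit 0, nat_lit 9, nat_lit 6, nat_lit 4, nat_lit 8, nat_lit 3, nat_lit 8, nat_lit 7, nat_lit 3, nat_lit 6, nat_lit 7, nat_lit 5, nat_lit 2, nat_lit 0], [[nat_lit 99]])))) (.node (nat_lit 1090) (.leaf ((nat_lit 4), [nat_lit 3, nat_lit 9, nat_lit 6, nat_lit 9, nat_lit 7, nat_lit 6, nat_lit 8, nat_lit 6,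 nat_lit 6, nat_lit 0, nat_lit 7, nat_lit 3, nat_lit 0, nat_lit 3], [[nat_lit 1, nat_lit 99, nat_lit 0]])) (.node (nat_lit 1091) (.leaf ((nat_lit 4), [nat_lit 9, nat_lit 8, nat_lit 0, nat_lit 9, nat_lit 4, nat_lit 6, nat_lit 7, nat_lit 8, nat_lit 7, nat_lit 4, nat_lit 0, nat_lit 7, nat_lit 0, nat_lit 5, nat_lit 2, nat_lit 1], [[nat_lit 99, nat_lit 1, nat_lit 0, nat_lit 99, nat_lit 1, nat_lit 0]])) (.leaf ((nat_lit 4), [nat_lit 5, nat_lit 9, nat_lit 8, nat_lit 0, nat_lit 9, nat_lit 0, nat_lit 3, nat_lit 8, nat_lit 4, nat_lit 0, nat_lit 4, nat_lit 2], [[nat_lit 99, nat_lit 4, nat_lit 1, nat_lit 99, nat_lit 4, nat_lit 1]])))))))))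
 (.node (nat_lit 1134) (.node (nat_lit 1113) (.node (nat_lit 1102) (.node (nat_lit 1097) (.node (nat_lit 1094) (.node (nat_lit 1093) (.leaf ((nat_lit 4), [nat_lit 6, nat_lit 6, nat_lit 9, nat_lit 3, nat_lit 9, nat_lit 6, nat_lit 7, nat_lit 6, nat_lit 1, nat_lit 8, nat_lit 4, nat_lit 4, nat_lit 7, nat_lit 1, nat_lit 5], [[nat_lit 99, nat_lit 99]])) (.leaf ((nat_lit 4), [nat_lit 7, nat_lit 8, nat_lit 1, nat_lit 9, nat_lit 5, nat_lit 1, nat_lit 8, nat_lit 5, nat_lit 8, nat_lit 4, nat_lit 7, nat_lit 1, nat_lit 4, nat_lit 2], [[nat_lit 99, nat_lit 3]]))) (.node (nat_lit 1095) (.leaf ((nat_lit 4), [nat_lit 6, nat_lit 4, nat_lit 9, nat_lit 7, nat_lit 8, nat_lit 5, nat_lit 7, nat_lit 8, nat_lit 3, nat_lit 7, nat_lit 6, nat_lit 1, nat_lit 4, nat_lit 2], [[nat_lit 99, nat_lit 3, nat_lit 0, nat_lit 99, nat_lit 3, nat_lit 0]])) (.node (nat_lit 1096)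 (.leaf ((nat_lit 4), [nat_lit 4, nat_lit 9, nat_lit 8, nat_lit 6, nat_lit 9, nat_lit 4, nat_lit 0, nat_lit 8, nat_lit 7, nat_lit 6, nat_lit 1, nat_lit 7, nat_lit 4, nat_lit 0, nat_lit 4, nat_lit 1], [[nat_lit 99, nat_lit 4, nat_lit 0]])) (.leaf ((nat_lit 4), [nat_lit 4, nat_lit 9, nat_lit 8, nat_lit 9, nat_lit 7, nat_lit 4, nat_lit 4, nat_lit 0, nat_lit 7, nat_lit 6, nat_lit 1], [[nat_lit 4, nat_lit 99, nat_lit 0]])))))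
 (.node (nat_lit 1099) (.node (nat_lit 1098) (.leaf ((nat_lit 4), [nat_lit 6, nat_lit 9, nat_lit 1, nat_lit 4, nat_lit 9, nat_lit 7, nat_lit 0, nat_lit 8, nat_lit 6, nat_lit 8, nat_lit 6, nat_lit 1, nat_lit 7, nat_lit 5, nat_lit 2], [[nat_lit 99, nat_lit 1, nat_lit 99, nat_lit 1]])) (.leaf ((nat_lit 4), [nat_lit 6, nat_lit 9, nat_lit 1, nat_lit 4, nat_lit 9, nat_lit 0, nat_lit 8, nat_lit 5, nat_lit 3, nat_lit 0, nat_lit 7, nat_lit 6, nat_lit 3, nat_lit 0], [[nat_lit 99, nat_lit 0, nat_lit 99, nat_lit 0]]))) (.node (nat_lit 1100) (.leaf ((nat_lit 4), [nat_lit 8, nat_lit 0, nat_lit 9, nat_lit 8, nat_lit 0, nat_lit 9, nat_lit 0, nat_lit 3, nat_lit 8, nat_lit 3, nat_lit 7, nat_lit 6, nat_lit 7, nat_lit 5, nat_lit 0], [[nat_lit 4, nat_lit 99, nat_lit 0, nat_lit 4, nat_lit 99, nat_lit 0]])) (.node (nat_lit 1101) (.leaf ((nat_lit 4), [nat_lit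 5, nat_lit 9, nat_lit 1, nat_lit 9, nat_lit 0, nat_lit 8, nat_lit 7, nat_lit 6, nat_lit 7, nat_lit 4, nat_lit 7, nat_lit 6, nat_lit 0], [[nat_lit 99, nat_lit 4, nat_lit 2]])) (.leaf ((nat_lit 4), [nat_lit 6, nat_lit 3, nat_lit 1, nat_lit 9, nat_lit 8, nat_lit 4, nat_lit 5, nat_lit 1, nat_lit 7, nat_lit 6, nat_lit 1, nat_lit 4, nat_lit 2, nat_lit 1], [[nat_lit 99, nat_lit 3, nat_lit 0, nat_lit 99, nat_lit 3, nat_lit 0]]))))))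
 (.node (nat_lit 1107) (.node (nat_lit 1104) (.node (nat_lit 1103) (.leaf ((nat_lit 4), [nat_lit 0, nat_lit 9, nat_lit 1, nat_lit 9, nat_lit 3, nat_lit 7, nat_lit 0, nat_lit 6, nat_lit 8, nat_lit 4, nat_lit 7, nat_lit 1, nat_lit 4, nat_lit 2], [[nat_lit 99, nat_lit 1, nat_lit 99, nat_lit 1]])) (.leaf ((nat_lit 4), [nat_lit 6, nat_lit 9, nat_lit 3, nat_lit 1, nat_lit 9, nat_lit 0, nat_lit 7, nat_lit 4, nat_lit 1, nat_lit 8, nat_lit 5, nat_lit 1, nat_lit 7, nat_lit 6, nat_lit 3], [[nat_lit 99, nat_lit 0]]))) (.node (nat_lit 1105) (.leaf ((nat_lit 4), [nat_lit 6, nat_lit 1, nat_lit 9, nat_lit 7, nat_lit 8, nat_lit 1, nat_lit 8, nat_lit 1, nat_lit 6, nat_lit 7, nat_lit 0, nat_lit 5, nat_lit 0], [[nat_lit 99, nat_lit 2, nat_lit 0]])) (.node (nat_lit 1106) (.leaf ((nat_lit 4), [nat_lit 9, nat_lit 1, nat_lit 8, nat_lit 9, nat_lit 4, nat_lit 0,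 nat_lit 8, nat_lit 1, nat_lit 7, nat_lit 5, nat_lit 3, nat_lit 7, nat_lit 4, nat_lit 4], [[nat_lit 99]])) (.leaf ((nat_lit 4), [nat_lit 1, nat_lit 6, nat_lit 9, nat_lit 6, nat_lit 9, nat_lit 8, nat_lit 0, nat_lit 8, nat_lit 3, nat_lit 8, nat_lit 6, nat_lit 3, nat_lit 7, nat_lit 0, nat_lit 5], [[nat_lit 99, nat_lit 99]])))))
 (.node (nat_lit 1110) (.node (nat_lit 1108) (.leaf ((nat_lit 4), [nat_lit 8, nat_lit 0, nat_lit 9, nat_lit 1, nat_lit 9, nat_lit 7, nat_lit 8, nat_lit 6, nat_lit 8, nat_lit 6, nat_lit 1, nat_lit 4, nat_lit 2, nat_lit 1], [[nat_lit 99, nat_lit 4, nat_lit 0]])) (.node (nat_lit 1109) (.leaf ((nat_lit 4), [nat_lit 9, nat_lit 1, nat_lit 8, nat_lit 0, nat_lit 9, nat_lit 8, nat_lit 7, nat_lit 5, nat_lit 7, nat_lit 8, nat_lit 1, nat_lit 7, nat_lit 4], [[nat_lit 99, nat_lit 0]])) (.leaf ((nat_lit 4), [nat_lit 4, nat_lit 9, nat_lit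 0, nat_lit 7, nat_lit 3, nat_lit 1, nat_lit 8, nat_lit 0, nat_lit 7, nat_lit 0, nat_lit 4, nat_lit 0], [[nat_lit 4, nat_lit 99, nat_lit 1]])))) (.node (nat_lit 1111) (.leaf ((nat_lit 4), [nat_lit 3, nat_lit 9, nat_lit 2, nat_lit 1, nat_lit 9, nat_lit 5, nat_lit 1, nat_lit 8, nat_lit 4, nat_lit 7, nat_lit 6, nat_lit 4, nat_lit 2], [[nat_lit 99, nat_lit 99]])) (.node (nat_lit 1112) (.leaf ((nat_lit 4), [nat_lit 2, nat_lit 9, nat_lit 0, nat_lit 9, nat_lit 5, nat_lit 3, nat_lit 1, nat_lit 8, nat_lit 1, nat_lit 3, nat_lit 7, nat_lit 4, nat_lit 7, nat_lit 1, nat_lit 6], [[nat_lit 99, nat_lit 99, nat_lit 0, nat_lit 99, nat_lit 99, nat_lit 0]])) (.leaf ((nat_lit 4), [nat_lit 9, nat_lit 3, nat_lit 7, nat_lit 8, nat_lit 4, nat_lit 8, nat_lit 1, nat_lit 7, nat_lit 4, nat_lit 0, nat_lit 7, nat_lit 6, nat_lit 6, nat_lit 2, nat_lit 0], [[nat_lit 99,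 nat_lit 2, nat_lit 99, nat_lit 2]])))))))
 (.node (nat_lit 1123) (.node (nat_lit 1118) (.node (nat_lit 1115) (.node (nat_lit 1114) (.leaf ((nat_lit 4), [nat_lit 0, nat_lit 9, nat_lit 6, nat_lit 2, nat_lit 9, nat_lit 6, nat_lit 4, nat_lit 1, nat_lit 7, nat_lit 3, nat_lit 5, nat_lit 1], [[nat_lit 99, nat_lit 99]])) (.leaf ((nat_lit 4), [nat_lit 6, nat_lit 4, nat_lit 9, nat_lit 6, nat_lit 8, nat_lit 0, nat_lit 4, nat_lit 8, nat_lit 4, nat_lit 4, nat_lit 0, nat_lit 7, nat_lit 1, nat_lit 3], [[nat_lit 99, nat_lit 2, nat_lit 99, nat_lit 2]]))) (.node (nat_lit 1116) (.leaf ((nat_lit 4), [nat_lit 6, nat_lit 2, nat_lit 9, nat_lit 4, nat_lit 8, nat_lit 0, nat_lit 4, nat_lit 8, nat_lit 5, nat_lit 1, nat_lit 7, nat_lit 4, nat_lit 5, nat_lit 1], [[nat_lit 99]])) (.node (nat_lit 1117) (.leaf ((nat_lit 4), [nat_lit 1, nat_lit 9, nat_lit 6, nat_lit 0,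 nat_lit 9, nat_lit 8, nat_lit 7, nat_lit 5, nat_lit 8, nat_lit 1, nat_lit 3, nat_lit 7, nat_lit 4, nat_lit 4], [[nat_lit 99, nat_lit 2, nat_lit 99, nat_lit 2]])) (.leaf ((nat_lit 4), [nat_lit 7, nat_lit 4, nat_lit 9, nat_lit 8, nat_lit 5, nat_lit 8, nat_lit 3, nat_lit 1, nat_lit 4, nat_lit 7, nat_lit 6, nat_lit 4, nat_lit 6], [[nat_lit 99, nat_lit 4, nat_lit 0, nat_lit 99, nat_lit 4, nat_lit 0]])))))
 (.node (nat_lit 1120) (.node (nat_lit 1119) (.leaf ((nat_lit 4), [nat_lit 8, nat_lit 7, nat_lit 4, nat_lit 9, nat_lit 6, nat_lit 8, nat_lit 4, nat_lit 8, nat_lit 5, nat_lit 0, nat_lit 7, nat_lit 4, nat_lit 7, nat_lit 6, nat_lit 0], [[nat_lit 99, nat_lit 2]])) (.leaf ((nat_lit 4), [nat_lit 9, nat_lit 4, nat_lit 8, nat_lit 6, nat_lit 9, nat_lit 5, nat_lit 7, nat_lit 8, nat_lit 1, nat_lit 8, nat_lit 7, nat_lit 5, nat_lit 1, nat_lit 7, nat_lit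 2, nat_lit 0], [[nat_lit 99, nat_lit 0]]))) (.node (nat_lit 1121) (.leaf ((nat_lit 4), [nat_lit 0, nat_lit 7, nat_lit 8, nat_lit 9, nat_lit 5, nat_lit 7, nat_lit 6, nat_lit 8, nat_lit 0, nat_lit 8, nat_lit 3, nat_lit 6, nat_lit 7, nat_lit 0, nat_lit 3, nat_lit 1], [[nat_lit 2, nat_lit 99, nat_lit 0]])) (.node (nat_lit 1122) (.leaf ((nat_lit 4), [nat_lit 9, nat_lit 2, nat_lit 9, nat_lit 0, nat_lit 9, nat_lit 1, nat_lit 8, nat_lit 4, nat_lit 8, nat_lit 4, nat_lit 7, nat_lit 6, nat_lit 0, nat_lit 7, nat_lit 5, nat_lit 0], [[nat_lit 99, nat_lit 0, nat_lit 99, nat_lit 0]])) (.leaf ((nat_lit 4), [nat_lit 7, nat_lit 8, nat_lit 2, nat_lit 1, nat_lit 9, nat_lit 8, nat_lit 3, nat_lit 8, nat_lit 7, nat_lit 1, nat_lit 4, nat_lit 7, nat_lit 1, nat_lit 5, nat_lit 0], [[nat_lit 99, nat_lit 0, nat_lit 99, nat_lit 0]]))))))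
 (.node (nat_lit 1128) (.node (nat_lit 1125) (.node (nat_lit 1124) (.leaf ((nat_lit 4), [nat_lit 8, nat_lit 4, nat_lit 6, nat_lit 9, nat_lit 3, nat_lit 7, nat_lit 4, nat_lit 1, nat_lit 8, nat_lit 5, nat_lit 0, nat_lit 7, nat_lit 0, nat_lit 5, nat_lit 2], [[nat_lit 99, nat_lit 4, nat_lit 0]])) (.leaf ((nat_lit 4), [nat_lit 9, nat_lit 5, nat_lit 9, nat_lit 1, nat_lit 9, nat_lit 3, nat_lit 8, nat_lit 7, nat_lit 8, nat_lit 5, nat_lit 7, nat_lit 6, nat_lit 1, nat_lit 7, nat_lit 4, nat_lit 1], [[nat_lit 99, nat_lit 2]]))) (.node (nat_lit 1126) (.leaf ((nat_lit 4), [nat_lit 4, nat_lit 1, nat_lit 9, nat_lit 7, nat_lit 8, nat_lit 4, nat_lit 6, nat_lit 8, nat_lit 7, nat_lit 4, nat_lit 1, nat_lit 7, nat_lit 4, nat_lit 6], [[nat_lit 1, nat_lit 99, nat_lit 0]])) (.node (nat_lit 1127) (.leaf ((nat_lit 4), [nat_lit 4, nat_lit 8, nat_lit 2, nat_lit 1,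 nat_lit 9, nat_lit 8, nat_lit 4, nat_lit 7, nat_lit 8, nat_lit 1, nat_lit 4, nat_lit 7, nat_lit 3, nat_lit 5, nat_lit 1], [[nat_lit 99, nat_lit 2, nat_lit 99, nat_lit 2]])) (.leaf ((nat_lit 4), [nat_lit 9, nat_lit 6, nat_lit 9, nat_lit 0, nat_lit 7, nat_lit 4, nat_lit 1, nat_lit 8, nat_lit 1, nat_lit 7, nat_lit 4, nat_lit 7, nat_lit 4, nat_lit 1], [[nat_lit 99, nat_lit 1, nat_lit 0]])))))
 (.node (nat_lit 1131) (.node (nat_lit 1129) (.leaf ((nat_lit 4), [nat_lit 8, nat_lit 9, nat_lit 8, nat_lit 3, nat_lit 9, nat_lit 7, nat_lit 6, nat_lit 8, nat_lit 5, nat_lit 8, nat_lit 4, nat_lit 7, nat_lit 6, nat_lit 6], [[nat_lit 2, nat_lit 99, nat_lit 0]])) (.node (nat_lit 1130) (.leaf ((nat_lit 4), [nat_lit 9, nat_lit 2, nat_lit 9, nat_lit 0, nat_lit 9, nat_lit 7, nat_lit 3, nat_lit 7, nat_lit 8, nat_lit 6, nat_lit 4, nat_lit 1, nat_lit 7, nat_lit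 5, nat_lit 1], [[nat_lit 99, nat_lit 0]])) (.leaf ((nat_lit 4), [nat_lit 0, nat_lit 9, nat_lit 7, nat_lit 5, nat_lit 1, nat_lit 8, nat_lit 3, nat_lit 7, nat_lit 6, nat_lit 7, nat_lit 0, nat_lit 5, nat_lit 2, nat_lit 0], [[nat_lit 1, nat_lit 99, nat_lit 0]])))) (.node (nat_lit 1132) (.leaf ((nat_lit 4), [nat_lit 8, nat_lit 7, nat_lit 9, nat_lit 0, nat_lit 4, nat_lit 8, nat_lit 1, nat_lit 8, nat_lit 5, nat_lit 1, nat_lit 7, nat_lit 3, nat_lit 0], [[nat_lit 99, nat_lit 2, nat_lit 0]])) (.node (nat_lit 1133) (.leaf ((nat_lit 4), [nat_lit 9, nat_lit 6, nat_lit 8, nat_lit 7, nat_lit 9, nat_lit 7, nat_lit 5, nat_lit 4, nat_lit 8, nat_lit 3, nat_lit 0, nat_lit 7, nat_lit 5, nat_lit 0], [[nat_lit 99, nat_lit 2, nat_lit 0]])) (.leaf ((nat_lit 4), [nat_lit 8, nat_lit 6, nat_lit 4, nat_lit 9, nat_lit 5, nat_lit 7, nat_lit 6, nat_lit 8, nat_lit 4, nat_lit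 0, nat_lit 7, nat_lit 6, nat_lit 0], [[nat_lit 99, nat_lit 0, nat_lit 99, nat_lit 0]]))))))))
 (.node (nat_lit 1155) (.node (nat_lit 1144) (.node (nat_lit 1139) (.node (nat_lit 1136) (.node (nat_lit 1135) (.leaf ((nat_lit 4), [nat_lit 4, nat_lit 8, nat_lit 7, nat_lit 9, nat_lit 8, nat_lit 6, nat_lit 0, nat_lit 8, nat_lit 5, nat_lit 7, nat_lit 6, nat_lit 4, nat_lit 7, nat_lit 3, nat_lit 1], [[nat_lit 99]])) (.leaf ((nat_lit 4), [nat_lit 0, nat_lit 8, nat_lit 3, nat_lit 8, nat_lit 1, nat_lit 7, nat_lit 6, nat_lit 4, nat_lit 7, nat_lit 6, nat_lit 2, nat_lit 0], [[nat_lit 99, nat_lit 1, nat_lit 99, nat_lit 1]]))) (.node (nat_lit 1137) (.leaf ((nat_lit 4), [nat_lit 8, nat_lit 7, nat_lit 9, nat_lit 8, nat_lit 7, nat_lit 0, nat_lit 3, nat_lit 8, nat_lit 6, nat_lit 7, nat_lit 1, nat_lit 6, nat_lit 2, nat_lit 0], [[nat_lit 99, nat_lit 3, nat_lit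 0]])) (.node (nat_lit 1138) (.leaf ((nat_lit 4), [nat_lit 8, nat_lit 2, nat_lit 1, nat_lit 9, nat_lit 7, nat_lit 5, nat_lit 8, nat_lit 1, nat_lit 7, nat_lit 4, nat_lit 7, nat_lit 0, nat_lit 6], [[nat_lit 99, nat_lit 3, nat_lit 0, nat_lit 99, nat_lit 3, nat_lit 0]])) (.leaf ((nat_lit 4), [nat_lit 7, nat_lit 8, nat_lit 7, nat_lit 9, nat_lit 5, nat_lit 3, nat_lit 1, nat_lit 8, nat_lit 3, nat_lit 6, nat_lit 7, nat_lit 6, nat_lit 0], [[nat_lit 3, nat_lit 99, nat_lit 0, nat_lit 3, nat_lit 99, nat_lit 0]])))))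
 (.node (nat_lit 1141) (.node (nat_lit 1140) (.leaf ((nat_lit 4), [nat_lit 6, nat_lit 9, nat_lit 8, nat_lit 3, nat_lit 9, nat_lit 1, nat_lit 8, nat_lit 6, nat_lit 8, nat_lit 5, nat_lit 1, nat_lit 7, nat_lit 4, nat_lit 7], [[nat_lit 99, nat_lit 0]])) (.leaf ((nat_lit 4), [nat_lit 3, nat_lit 1, nat_lit 9, nat_lit 6, nat_lit 2, nat_lit 9, nat_lit 7, nat_lit 4, nat_lit 8, nat_lit 7, nat_lit 3, nat_lit 7, nat_lit 4, nat_lit 6, nat_lit 2], [[nat_lit 99]]))) (.node (nat_lit 1142) (.leaf ((nat_lit 4), [nat_lit 8, nat_lit 9, nat_lit 8, nat_lit 1, nat_lit 9, nat_lit 8, nat_lit 5, nat_lit 7, nat_lit 6, nat_lit 8, nat_lit 7, nat_lit 3, nat_lit 0, nat_lit 7, nat_lit 1, nat_lit 3], [[nat_lit 99, nat_lit 4]])) (.node (nat_lit 1143) (.leaf ((nat_lit 4), [nat_lit 9, nat_lit 7, nat_lit 8, nat_lit 6, nat_lit 9, nat_lit 8, nat_lit 7, nat_lit 5, nat_lit 4,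 nat_lit 8, nat_lit 1, nat_lit 7, nat_lit 3, nat_lit 7, nat_lit 5], [[nat_lit 2, nat_lit 99, nat_lit 0]])) (.leaf ((nat_lit 4), [nat_lit 4, nat_lit 9, nat_lit 6, nat_lit 1, nat_lit 9, nat_lit 3, nat_lit 8, nat_lit 0, nat_lit 8, nat_lit 5, nat_lit 1, nat_lit 7, nat_lit 4, nat_lit 6, nat_lit 1], [[nat_lit 99, nat_lit 3]]))))))
 (.node (nat_lit 1149) (.node (nat_lit 1146) (.node (nat_lit 1145) (.leaf ((nat_lit 4), [nat_lit 7, nat_lit 3, nat_lit 6, nat_lit 8, nat_lit 7, nat_lit 2, nat_lit 6, nat_lit 7, nat_lit 0, nat_lit 3, nat_lit 2, nat_lit 1], [[nat_lit 99, nat_lit 1]])) (.leaf ((nat_lit 4), [nat_lit 9, nat_lit 8, nat_lit 9, nat_lit 6, nat_lit 1, nat_lit 8, nat_lit 0, nat_lit 4, nat_lit 2, nat_lit 0], [[nat_lit 99]]))) (.node (nat_lit 1147) (.leaf ((nat_lit 4), [nat_lit 9, nat_lit 7, nat_lit 0, nat_lit 9, nat_lit 0, nat_lit 7, nat_lit 4,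 nat_lit 7, nat_lit 4, nat_lit 0, nat_lit 4], [[nat_lit 99, nat_lit 1]])) (.node (nat_lit 1148) (.leaf ((nat_lit 4), [nat_lit 0, nat_lit 9, nat_lit 6, nat_lit 9, nat_lit 8, nat_lit 4, nat_lit 6, nat_lit 8, nat_lit 6, nat_lit 1, nat_lit 7, nat_lit 3, nat_lit 5], [[nat_lit 99, nat_lit 4]])) (.leaf ((nat_lit 4), [nat_lit 9, nat_lit 6, nat_lit 7, nat_lit 9, nat_lit 0, nat_lit 8, nat_lit 5, nat_lit 4, nat_lit 8, nat_lit 3, nat_lit 6, nat_lit 7, nat_lit 1], [[nat_lit 99, nat_lit 4]])))))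
 (.node (nat_lit 1152) (.node (nat_lit 1150) (.leaf ((nat_lit 4), [nat_lit 6, nat_lit 1, nat_lit 9, nat_lit 4, nat_lit 4, nat_lit 7, nat_lit 8, nat_lit 3, nat_lit 8, nat_lit 7, nat_lit 5, nat_lit 4, nat_lit 7, nat_lit 2, nat_lit 0], [[nat_lit 99, nat_lit 99]])) (.node (nat_lit 1151) (.leaf ((nat_lit 4), [nat_lit 8, nat_lit 7, nat_lit 0, nat_lit 9, nat_lit 4, nat_lit 7, nat_lit 5, nat_lit 8, nat_lit 6, nat_lit 1, nat_lit 7, nat_lit 1, nat_lit 3, nat_lit 2, nat_lit 0], [[nat_lit 99, nat_lit 99]])) (.leaf ((nat_lit 4), [nat_lit 9, nat_lit 5, nat_lit 4, nat_lit 9, nat_lit 1, nat_lit 9, nat_lit 4, nat_lit 1, nat_lit 8, nat_lit 5, nat_lit 8, nat_lit 1, nat_lit 6, nat_lit 7, nat_lit 3, nat_lit 2], [[nat_lit 99, nat_lit 2, nat_lit 99, nat_lit 2]])))) (.node (nat_lit 1153) (.leaf ((nat_lit 4), [nat_lit 9, nat_lit 7, nat_lit 3, nat_lit 9, nat_lit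 1, nat_lit 7, nat_lit 8, nat_lit 4, nat_lit 8, nat_lit 7, nat_lit 6, nat_lit 7, nat_lit 3, nat_lit 5, nat_lit 0], [[nat_lit 99, nat_lit 3]])) (.node (nat_lit 1154) (.leaf ((nat_lit 4), [nat_lit 4, nat_lit 9, nat_lit 6, nat_lit 9, nat_lit 4, nat_lit 1, nat_lit 8, nat_lit 4, nat_lit 4, nat_lit 7, nat_lit 3, nat_lit 5, nat_lit 3, nat_lit 0], [[nat_lit 99]])) (.leaf ((nat_lit 4), [nat_lit 9, nat_lit 4, nat_lit 9, nat_lit 4, nat_lit 0, nat_lit 4, nat_lit 8, nat_lit 5, nat_lit 3, nat_lit 0, nat_lit 7, nat_lit 6, nat_lit 6], [[nat_lit 99, nat_lit 1]])))))))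
 (.node (nat_lit 1165) (.node (nat_lit 1160) (.node (nat_lit 1157) (.node (nat_lit 1156) (.leaf ((nat_lit 4), [nat_lit 4, nat_lit 4, nat_lit 1, nat_lit 9, nat_lit 6, nat_lit 6, nat_lit 1, nat_lit 8, nat_lit 0, nat_lit 4, nat_lit 0, nat_lit 7, nat_lit 0, nat_lit 6], [[nat_lit 1, nat_lit 99, nat_lit 0, nat_lit 1, nat_lit 99, nat_lit 0]])) (.leaf ((nat_lit 4), [nat_lit 5, nat_lit 1, nat_lit 8, nat_lit 4, nat_lit 7, nat_lit 1, nat_lit 4, nat_lit 7, nat_lit 4, nat_lit 2, nat_lit 0], [[nat_lit 99, nat_lit 3, nat_lit 99, nat_lit 3]]))) (.node (nat_lit 1158) (.leaf ((nat_lit 4), [nat_lit 0, nat_lit 8, nat_lit 6, nat_lit 4, nat_lit 9, nat_lit 3, nat_lit 1, nat_lit 8, nat_lit 3, nat_lit 7, nat_lit 6, nat_lit 7, nat_lit 0, nat_lit 5], [[nat_lit 99, nat_lit 0, nat_lit 99, nat_lit 0]])) (.node (nat_lit 1159) (.leaf ((nat_lit 4), [nat_lit 0, nat_lit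 6, nat_lit 9, nat_lit 6, nat_lit 9, nat_lit 8, nat_lit 1, nat_lit 8, nat_lit 1, nat_lit 7, nat_lit 6, nat_lit 1, nat_lit 7, nat_lit 0], [[nat_lit 99, nat_lit 0]])) (.leaf ((nat_lit 4), [nat_lit 4, nat_lit 7, nat_lit 2, nat_lit 9, nat_lit 8, nat_lit 0, nat_lit 7, nat_lit 6, nat_lit 8, nat_lit 5, nat_lit 0, nat_lit 7, nat_lit 3, nat_lit 0, nat_lit 3], [[nat_lit 99]])))))
 (.node (nat_lit 1162) (.node (nat_lit 1161) (.leaf ((nat_lit 4), [nat_lit 0, nat_lit 7, nat_lit 9, nat_lit 5, nat_lit 4, nat_lit 8, nat_lit 7, nat_lit 8, nat_lit 5, nat_lit 4, nat_lit 7], [[nat_lit 99, nat_lit 1, nat_lit 99, nat_lit 1]])) (.leaf ((nat_lit 4), [nat_lit 0, nat_lit 7, nat_lit 4, nat_lit 4, nat_lit 9, nat_lit 6, nat_lit 0, nat_lit 7, nat_lit 6, nat_lit 8, nat_lit 3, nat_lit 1, nat_lit 4, nat_lit 2, nat_lit 0], [[nat_lit 99, nat_lit 1, nat_lit 99, nat_lit 1]])))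 (.node (nat_lit 1163) (.leaf ((nat_lit 4), [nat_lit 6, nat_lit 8, nat_lit 9, nat_lit 8, nat_lit 6, nat_lit 6, nat_lit 1, nat_lit 8, nat_lit 4, nat_lit 5, nat_lit 1, nat_lit 7, nat_lit 6, nat_lit 4, nat_lit 2, nat_lit 1], [[nat_lit 99, nat_lit 4, nat_lit 99, nat_lit 4]])) (.node (nat_lit 1164) (.leaf ((nat_lit 4), [nat_lit 8, nat_lit 0, nat_lit 9, nat_lit 8, nat_lit 1, nat_lit 8, nat_lit 3, nat_lit 8, nat_lit 7, nat_lit 5, nat_lit 3, nat_lit 0, nat_lit 7, nat_lit 4, nat_lit 1], [[nat_lit 99, nat_lit 4]])) (.leaf ((nat_lit 4), [nat_lit 9, nat_lit 5, nat_lit 2, nat_lit 9, nat_lit 5, nat_lit 3, nat_lit 1, nat_lit 8, nat_lit 1, nat_lit 7, nat_lit 6, nat_lit 0, nat_lit 7, nat_lit 2], [[nat_lit 99, nat_lit 1]]))))))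
 (.node (nat_lit 1170) (.node (nat_lit 1167) (.node (nat_lit 1166) (.leaf ((nat_lit 4), [nat_lit 0, nat_lit 8, nat_lit 6, nat_lit 4, nat_lit 9, nat_lit 0, nat_lit 7, nat_lit 4, nat_lit 8, nat_lit 4, nat_lit 6, nat_lit 0], [[nat_lit 99, nat_lit 3, nat_lit 99, nat_lit 3]])) (.leaf ((nat_lit 4), [nat_lit 5, nat_lit 8, nat_lit 7, nat_lit 9, nat_lit 8, nat_lit 5, nat_lit 7, nat_lit 6, nat_lit 8, nat_lit 1, nat_lit 7, nat_lit 4, nat_lit 7, nat_lit 3, nat_lit 0, nat_lit 3], [[nat_lit 99, nat_lit 1, nat_lit 99, nat_lit 1]]))) (.node (nat_lit 1168) (.leaf ((nat_lit 4), [nat_lit 0, nat_lit 8, nat_lit 2, nat_lit 9, nat_lit 7, nat_lit 5, nat_lit 4, nat_lit 8, nat_lit 6, nat_lit 0, nat_lit 7, nat_lit 2, nat_lit 0], [[nat_lit 99, nat_lit 99]])) (.node (nat_lit 1169) (.leaf ((nat_lit 4), [nat_lit 7, nat_lit 4, nat_lit 1, nat_lit 8, nat_lit 9, nat_lit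 0, nat_lit 7, nat_lit 6, nat_lit 8, nat_lit 4, nat_lit 7, nat_lit 1, nat_lit 5, nat_lit 1], [[nat_lit 99]])) (.leaf ((nat_lit 4), [nat_lit 9, nat_lit 3, nat_lit 7, nat_lit 8, nat_lit 9, nat_lit 4, nat_lit 8, nat_lit 4, nat_lit 6, nat_lit 4, nat_lit 7, nat_lit 6, nat_lit 3, nat_lit 0], [[nat_lit 99, nat_lit 3, nat_lit 99, nat_lit 3]])))))
 (.node (nat_lit 1173) (.node (nat_lit 1171) (.leaf ((nat_lit 4), [nat_lit 3, nat_lit 0, nat_lit 8, nat_lit 1, nat_lit 9, nat_lit 3, nat_lit 8, nat_lit 1, nat_lit 8, nat_lit 6, nat_lit 7, nat_lit 6, nat_lit 0, nat_lit 3, nat_lit 2], [[nat_lit 99, nat_lit 2, nat_lit 99, nat_lit 2]])) (.node (nat_lit 1172) (.leaf ((nat_lit 4), [nat_lit 1, nat_lit 9, nat_lit 4, nat_lit 0, nat_lit 9, nat_lit 3, nat_lit 8, nat_lit 0, nat_lit 8, nat_lit 5, nat_lit 4, nat_lit 7, nat_lit 3, nat_lit 2, nat_lit 0], [[nat_lit 99,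 nat_lit 4, nat_lit 0]])) (.leaf ((nat_lit 4), [nat_lit 6, nat_lit 4, nat_lit 9, nat_lit 1, nat_lit 9, nat_lit 7, nat_lit 5, nat_lit 7, nat_lit 8, nat_lit 3, nat_lit 7, nat_lit 4, nat_lit 1, nat_lit 4, nat_lit 1], [[nat_lit 99, nat_lit 99]])))) (.node (nat_lit 1174) (.leaf ((nat_lit 4), [nat_lit 6, nat_lit 9, nat_lit 3, nat_lit 9, nat_lit 5, nat_lit 4, nat_lit 8, nat_lit 7, nat_lit 8, nat_lit 6, nat_lit 1, nat_lit 7, nat_lit 6], [[nat_lit 99, nat_lit 1, nat_lit 0, nat_lit 99, nat_lit 1, nat_lit 0]])) (.node (nat_lit 1175) (.leaf ((nat_lit 4), [nat_lit 1, nat_lit 9, nat_lit 6, nat_lit 7, nat_lit 6, nat_lit 4, nat_lit 8, nat_lit 6, nat_lit 1, nat_lit 7], [[nat_lit 99, nat_lit 1]])) (.leaf ((nat_lit 4), [nat_lit 7, nat_lit 5, nat_lit 8, nat_lit 7, nat_lit 9, nat_lit 0, nat_lit 7, nat_lit 8, nat_lit 6, nat_lit 8, nat_lit 4, nat_lit 1, nat_lit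 7, nat_lit 3, nat_lit 6, nat_lit 3], [[nat_lit 99, nat_lit 2, nat_lit 99, nat_lit 2]]))))))))))
noncomputable def eCE_7 : Tr (ℕ × List ℕ × List (List ℕ)) := (.node (nat_lit 1260) (.node (nat_lit 1218) (.node (nat_lit 1197) (.node (nat_lit 1186) (.node (nat_lit 1181) (.node (nat_lit 1178) (.node (nat_lit 1177) (.leaf ((nat_lit 2), [], [[nat_lit 1, nat_lit 0, nat_lit 1, nat_lit 4, nat_lit 2, nat_lit 2, nat_lit 3, nat_lit 1], [nat_lit 0, nat_lit 4, nat_lit 0, nat_lit 1, nat_lit 4, nat_lit 0, nat_lit 3, nat_lit 2, nat_lit 2, nat_lit 3], [nat_lit 2, nat_lit 4, nat_lit 1, nat_lit 99, nat_lit 4, nat_lit 2, nat_lit 2, nat_lit 0, nat_lit 4, nat_lit 0, nat_lit 3, nat_lit 0, nat_lit 2, nat_lit 0]])) (.leaf ((nat_lit 4), [nat_lit 8, nat_lit 6, nat_lit 4, nat_lit 9, nat_lit 4, nat_lit 8, nat_lit 0, nat_lit 6, nat_lit 8, nat_lit 7, nat_lit 5, nat_lit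 1, nat_lit 7, nat_lit 6, nat_lit 0, nat_lit 3], [[nat_lit 99]]))) (.node (nat_lit 1179) (.leaf ((nat_lit 4), [nat_lit 4, nat_lit 9, nat_lit 4, nat_lit 2, nat_lit 9, nat_lit 7, nat_lit 4, nat_lit 0, nat_lit 8, nat_lit 7, nat_lit 4, nat_lit 0, nat_lit 7, nat_lit 5, nat_lit 3, nat_lit 2], [[nat_lit 2, nat_lit 99, nat_lit 0, nat_lit 2, nat_lit 99, nat_lit 0]])) (.node (nat_lit 1180) (.leaf ((nat_lit 4), [nat_lit 7, nat_lit 0, nat_lit 9, nat_lit 7, nat_lit 8, nat_lit 6, nat_lit 8, nat_lit 4, nat_lit 8, nat_lit 7, nat_lit 4, nat_lit 0, nat_lit 7, nat_lit 0], [[nat_lit 99, nat_lit 99, nat_lit 0]])) (.leaf ((nat_lit 4), [nat_lit 6, nat_lit 9, nat_lit 8, nat_lit 6, nat_lit 3, nat_lit 7, nat_lit 8, nat_lit 7, nat_lit 4, nat_lit 5, nat_lit 1, nat_lit 7, nat_lit 4, nat_lit 4, nat_lit 1], [[nat_lit 1, nat_lit 99, nat_lit 0]])))))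
 (.node (nat_lit 1183) (.node (nat_lit 1182) (.leaf ((nat_lit 4), [nat_lit 6, nat_lit 4, nat_lit 0, nat_lit 9, nat_lit 7, nat_lit 6, nat_lit 8, nat_lit 3, nat_lit 8, nat_lit 0, nat_lit 7], [[nat_lit 99, nat_lit 2, nat_lit 99, nat_lit 2]])) (.leaf ((nat_lit 4), [nat_lit 6, nat_lit 9, nat_lit 4, nat_lit 0, nat_lit 9, nat_lit 4, nat_lit 7, nat_lit 5, nat_lit 8, nat_lit 1, nat_lit 4, nat_lit 7, nat_lit 3, nat_lit 0], [[nat_lit 99, nat_lit 3, nat_lit 0]]))) (.node (nat_lit 1184) (.leaf ((nat_lit 4), [nat_lit 0, nat_lit 7, nat_lit 4, nat_lit 9, nat_lit 8, nat_lit 3, nat_lit 8, nat_lit 5, nat_lit 8, nat_lit 4, nat_lit 1, nat_lit 7, nat_lit 5, nat_lit 3, nat_lit 5], [[nat_lit 99, nat_lit 3]])) (.node (nat_lit 1185) (.leaf ((nat_lit 4), [nat_lit 4, nat_lit 5, nat_lit 9, nat_lit 3, nat_lit 9, nat_lit 4, nat_lit 8, nat_lit 1, nat_lit 8, nat_lit 1,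 nat_lit 8, nat_lit 0, nat_lit 7, nat_lit 5, nat_lit 2], [[nat_lit 99, nat_lit 1, nat_lit 99, nat_lit 1]])) (.leaf ((nat_lit 4), [nat_lit 0, nat_lit 9, nat_lit 8, nat_lit 3, nat_lit 9, nat_lit 8, nat_lit 7, nat_lit 8, nat_lit 1, nat_lit 7, nat_lit 1, nat_lit 4, nat_lit 7, nat_lit 3, nat_lit 5], [[nat_lit 99, nat_lit 1, nat_lit 0]]))))))
 (.node (nat_lit 1191) (.node (nat_lit 1188) (.node (nat_lit 1187) (.leaf ((nat_lit 4), [nat_lit 6, nat_lit 0, nat_lit 9, nat_lit 0, nat_lit 3, nat_lit 8, nat_lit 0, nat_lit 4, nat_lit 4, nat_lit 7, nat_lit 0, nat_lit 6, nat_lit 1], [[nat_lit 99, nat_lit 0, nat_lit 99, nat_lit 0]])) (.leaf ((nat_lit 4), [nat_lit 6, nat_lit 8, nat_lit 3, nat_lit 1, nat_lit 9, nat_lit 0, nat_lit 6, nat_lit 7, nat_lit 8, nat_lit 3, nat_lit 6, nat_lit 3, nat_lit 1], [[nat_lit 99, nat_lit 4, nat_lit 0, nat_lit 99, nat_lit 4, nat_lit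 0]]))) (.node (nat_lit 1189) (.leaf ((nat_lit 4), [nat_lit 5, nat_lit 0, nat_lit 9, nat_lit 1, nat_lit 9, nat_lit 0, nat_lit 8, nat_lit 3, nat_lit 7, nat_lit 3, nat_lit 6, nat_lit 3, nat_lit 2], [[nat_lit 99, nat_lit 0, nat_lit 99, nat_lit 0]])) (.node (nat_lit 1190) (.leaf ((nat_lit 4), [nat_lit 7, nat_lit 0, nat_lit 8, nat_lit 9, nat_lit 1, nat_lit 9, nat_lit 1, nat_lit 8, nat_lit 1, nat_lit 3, nat_lit 7, nat_lit 0, nat_lit 3, nat_lit 0], [[nat_lit 99, nat_lit 1]])) (.leaf ((nat_lit 4), [nat_lit 9, nat_lit 4, nat_lit 7, nat_lit 9, nat_lit 6, nat_lit 3, nat_lit 8, nat_lit 2, nat_lit 6, nat_lit 7, nat_lit 0, nat_lit 3, nat_lit 1], [[nat_lit 99, nat_lit 0]])))))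
 (.node (nat_lit 1194) (.node (nat_lit 1192) (.leaf ((nat_lit 4), [nat_lit 6, nat_lit 4, nat_lit 7, nat_lit 2, nat_lit 9, nat_lit 6, nat_lit 6, nat_lit 1, nat_lit 8, nat_lit 3, nat_lit 7, nat_lit 1, nat_lit 5], [[nat_lit 99, nat_lit 3, nat_lit 0]])) (.node (nat_lit 1193) (.leaf ((nat_lit 4), [nat_lit 9, nat_lit 8, nat_lit 4, nat_lit 9, nat_lit 8, nat_lit 0, nat_lit 4, nat_lit 8, nat_lit 7, nat_lit 3, nat_lit 7, nat_lit 0], [[nat_lit 99, nat_lit 3, nat_lit 0]])) (.leaf ((nat_lit 4), [nat_lit 4, nat_lit 8, nat_lit 7, nat_lit 0, nat_lit 9, nat_lit 4, nat_lit 7, nat_lit 6, nat_lit 8, nat_lit 0, nat_lit 7, nat_lit 4, nat_lit 2, nat_lit 0], [[nat_lit 99, nat_lit 99]])))) (.node (nat_lit 1195) (.leaf ((nat_lit 4), [nat_lit 1, nat_lit 8, nat_lit 9, nat_lit 4, nat_lit 0, nat_lit 4, nat_lit 8, nat_lit 1, nat_lit 6, nat_lit 7, nat_lit 4, nat_lit 1],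 [[nat_lit 99, nat_lit 3, nat_lit 0]])) (.node (nat_lit 1196) (.leaf ((nat_lit 4), [nat_lit 0, nat_lit 9, nat_lit 6, nat_lit 7, nat_lit 8, nat_lit 5, nat_lit 3, nat_lit 0, nat_lit 7, nat_lit 0, nat_lit 5, nat_lit 2, nat_lit 0], [[nat_lit 99, nat_lit 1, nat_lit 0, nat_lit 99, nat_lit 1, nat_lit 0]])) (.leaf ((nat_lit 3), [], [[nat_lit 1, nat_lit 0, nat_lit 1, nat_lit 4, nat_lit 2, nat_lit 2, nat_lit 3, nat_lit 1], [nat_lit 0, nat_lit 4, nat_lit 0, nat_lit 1, nat_lit 4, nat_lit 0, nat_lit 3, nat_lit 2, nat_lit 2, nat_lit 3], [nat_lit 2, nat_lit 4, nat_lit 1, nat_lit 99, nat_lit 4, nat_lit 0, nat_lit 2, nat_lit 0, nat_lit 4, nat_lit 2, nat_lit 0, nat_lit 3, nat_lit 2, nat_lit 2]])))))))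
 (.node (nat_lit 1207) (.node (nat_lit 1202) (.node (nat_lit 1199) (.node (nat_lit 1198) (.leaf ((nat_lit 4), [nat_lit 6, nat_lit 6, nat_lit 8, nat_lit 3, nat_lit 8, nat_lit 0, nat_lit 6, nat_lit 7, nat_lit 0, nat_lit 4, nat_lit 1], [[nat_lit 2, nat_lit 99, nat_lit 0]])) (.leaf ((nat_lit 4), [nat_lit 3, nat_lit 9, nat_lit 6, nat_lit 4, nat_lit 9, nat_lit 1, nat_lit 6, nat_lit 7, nat_lit 8, nat_lit 6, nat_lit 7, nat_lit 5, nat_lit 3, nat_lit 5, nat_lit 1], [[nat_lit 99, nat_lit 0, nat_lit 99, nat_lit 0]]))) (.node (nat_lit 1200) (.leaf ((nat_lit 4), [nat_lit 8, nat_lit 6, nat_lit 0, nat_lit 9, nat_lit 4, nat_lit 8, nat_lit 6, nat_lit 3, nat_lit 7, nat_lit 3, nat_lit 2, nat_lit 1], [[nat_lit 99, nat_lit 1, nat_lit 99, nat_lit 1]])) (.node (nat_lit 1201) (.leaf ((nat_lit 4), [nat_lit 0, nat_lit 9, nat_lit 4, nat_lit 7, nat_lit 9, nat_lit 6,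 nat_lit 1, nat_lit 8, nat_lit 5, nat_lit 4, nat_lit 7, nat_lit 4, nat_lit 4, nat_lit 1], [[nat_lit 99, nat_lit 2]])) (.leaf ((nat_lit 4), [nat_lit 8, nat_lit 1, nat_lit 8, nat_lit 9, nat_lit 3, nat_lit 7, nat_lit 8, nat_lit 4, nat_lit 8, nat_lit 1, nat_lit 7, nat_lit 4, nat_lit 6, nat_lit 2], [[nat_lit 99, nat_lit 2]])))))
 (.node (nat_lit 1204) (.node (nat_lit 1203) (.leaf ((nat_lit 4), [nat_lit 9, nat_lit 0, nat_lit 9, nat_lit 3, nat_lit 7, nat_lit 6, nat_lit 4, nat_lit 8, nat_lit 5, nat_lit 0, nat_lit 7, nat_lit 4, nat_lit 7, nat_lit 5, nat_lit 2], [[nat_lit 99, nat_lit 99]])) (.leaf ((nat_lit 4), [nat_lit 4, nat_lit 8, nat_lit 7, nat_lit 9, nat_lit 3, nat_lit 8, nat_lit 5, nat_lit 8, nat_lit 3, nat_lit 7, nat_lit 3, nat_lit 7, nat_lit 0, nat_lit 5], [[nat_lit 99, nat_lit 2, nat_lit 99, nat_lit 2]]))) (.node (nat_lit 1205) (.leaf ((nat_lit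 4), [nat_lit 1, nat_lit 6, nat_lit 9, nat_lit 3, nat_lit 9, nat_lit 5, nat_lit 8, nat_lit 7, nat_lit 1, nat_lit 3, nat_lit 0], [[nat_lit 1, nat_lit 99, nat_lit 0]])) (.node (nat_lit 1206) (.leaf ((nat_lit 4), [nat_lit 6, nat_lit 0, nat_lit 9, nat_lit 1, nat_lit 9, nat_lit 6, nat_lit 7, nat_lit 6, nat_lit 4, nat_lit 8, nat_lit 7, nat_lit 4, nat_lit 2, nat_lit 0], [[nat_lit 4, nat_lit 99, nat_lit 1, nat_lit 4, nat_lit 99, nat_lit 1]])) (.leaf ((nat_lit 4), [nat_lit 8, nat_lit 1, nat_lit 6, nat_lit 9, nat_lit 6, nat_lit 8, nat_lit 1, nat_lit 8, nat_lit 5, nat_lit 4, nat_lit 7, nat_lit 0], [[nat_lit 99, nat_lit 3, nat_lit 99, nat_lit 3]]))))))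
 (.node (nat_lit 1212) (.node (nat_lit 1209) (.node (nat_lit 1208) (.leaf ((nat_lit 4), [nat_lit 7, nat_lit 4, nat_lit 4, nat_lit 9, nat_lit 2, nat_lit 6, nat_lit 8, nat_lit 7, nat_lit 8, nat_lit 6, nat_lit 7, nat_lit 4, nat_lit 5, nat_lit 2, nat_lit 0], [[nat_lit 99, nat_lit 4]])) (.leaf ((nat_lit 4), [nat_lit 5, nat_lit 9, nat_lit 2, nat_lit 1, nat_lit 9, nat_lit 6, nat_lit 4, nat_lit 8, nat_lit 6, nat_lit 7, nat_lit 1, nat_lit 4], [[nat_lit 99, nat_lit 1, nat_lit 99, nat_lit 1]]))) (.node (nat_lit 1210) (.leaf ((nat_lit 4), [nat_lit 8, nat_lit 9, nat_lit 6, nat_lit 9, nat_lit 6, nat_lit 4, nat_lit 1, nat_lit 8, nat_lit 6, nat_lit 0, nat_lit 3], [[nat_lit 99, nat_lit 0]])) (.node (nat_lit 1211) (.leaf ((nat_lit 4), [nat_lit 9, nat_lit 3, nat_lit 9, nat_lit 4, nat_lit 6, nat_lit 7, nat_lit 8, nat_lit 4, nat_lit 7, nat_lit 1, nat_lit 4,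 nat_lit 4], [[nat_lit 99, nat_lit 3, nat_lit 99, nat_lit 3]])) (.leaf ((nat_lit 4), [nat_lit 9, nat_lit 6, nat_lit 9, nat_lit 4, nat_lit 8, nat_lit 7, nat_lit 4, nat_lit 4, nat_lit 8, nat_lit 1, nat_lit 7, nat_lit 6, nat_lit 1], [[nat_lit 99, nat_lit 1, nat_lit 0, nat_lit 99, nat_lit 1, nat_lit 0]])))))
 (.node (nat_lit 1215) (.node (nat_lit 1213) (.leaf ((nat_lit 4), [nat_lit 9, nat_lit 4, nat_lit 7, nat_lit 9, nat_lit 3, nat_lit 6, nat_lit 7, nat_lit 3, nat_lit 0, nat_lit 3], [[nat_lit 99, nat_lit 0]])) (.node (nat_lit 1214) (.leaf ((nat_lit 4), [nat_lit 8, nat_lit 1, nat_lit 9, nat_lit 8, nat_lit 9, nat_lit 0, nat_lit 8, nat_lit 7, nat_lit 1, nat_lit 4, nat_lit 0, nat_lit 7, nat_lit 0, nat_lit 5, nat_lit 0], [[nat_lit 99, nat_lit 2, nat_lit 99, nat_lit 2]])) (.leaf ((nat_lit 4), [nat_lit 6, nat_lit 8, nat_lit 9, nat_lit 6, nat_lit 0,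 nat_lit 8, nat_lit 3, nat_lit 8, nat_lit 1, nat_lit 7, nat_lit 4, nat_lit 7, nat_lit 6, nat_lit 4, nat_lit 6, nat_lit 1], [[nat_lit 99, nat_lit 2, nat_lit 0, nat_lit 99, nat_lit 2, nat_lit 0]])))) (.node (nat_lit 1216) (.leaf ((nat_lit 4), [nat_lit 8, nat_lit 9, nat_lit 0, nat_lit 9, nat_lit 5, nat_lit 7, nat_lit 6, nat_lit 1, nat_lit 7, nat_lit 6, nat_lit 1, nat_lit 4, nat_lit 0], [[nat_lit 99, nat_lit 0]])) (.node (nat_lit 1217) (.leaf ((nat_lit 4), [nat_lit 6, nat_lit 2, nat_lit 1, nat_lit 9, nat_lit 5, nat_lit 8, nat_lit 3, nat_lit 8, nat_lit 4, nat_lit 4, nat_lit 7, nat_lit 1, nat_lit 4, nat_lit 4], [[nat_lit 99]])) (.leaf ((nat_lit 4), [nat_lit 9, nat_lit 7, nat_lit 0, nat_lit 9, nat_lit 0, nat_lit 8, nat_lit 3, nat_lit 8, nat_lit 7, nat_lit 6, nat_lit 3, nat_lit 7, nat_lit 0], [[nat_lit 99, nat_lit 3]]))))))))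
 (.node (nat_lit 1239) (.node (nat_lit 1228) (.node (nat_lit 1223) (.node (nat_lit 1220) (.node (nat_lit 1219) (.leaf ((nat_lit 4), [nat_lit 6, nat_lit 3, nat_lit 9, nat_lit 3, nat_lit 9, nat_lit 8, nat_lit 3, nat_lit 8, nat_lit 3, nat_lit 5, nat_lit 1, nat_lit 7, nat_lit 0, nat_lit 5, nat_lit 2, nat_lit 0], [[nat_lit 2, nat_lit 99, nat_lit 0]])) (.leaf ((nat_lit 4), [nat_lit 8, nat_lit 0, nat_lit 9, nat_lit 4, nat_lit 4, nat_lit 7, nat_lit 8, nat_lit 4, nat_lit 8, nat_lit 6, nat_lit 0, nat_lit 3, nat_lit 1], [[nat_lit 99, nat_lit 99]]))) (.node (nat_lit 1221) (.leaf ((nat_lit 4), [nat_lit 7, nat_lit 9, nat_lit 3, nat_lit 9, nat_lit 6, nat_lit 8, nat_lit 7, nat_lit 3, nat_lit 7, nat_lit 4, nat_lit 0], [[nat_lit 99, nat_lit 0, nat_lit 99, nat_lit 0]])) (.node (nat_lit 1222) (.leaf ((nat_lit 4), [nat_lit 9, nat_lit 7, nat_lit 4, nat_lit 9,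 nat_lit 7, nat_lit 6, nat_lit 7, nat_lit 8, nat_lit 7, nat_lit 6, nat_lit 7, nat_lit 0, nat_lit 3], [[nat_lit 99, nat_lit 1, nat_lit 99, nat_lit 1]])) (.leaf ((nat_lit 4), [nat_lit 7, nat_lit 6, nat_lit 9, nat_lit 0, nat_lit 5, nat_lit 8, nat_lit 5, nat_lit 3, nat_lit 7, nat_lit 4, nat_lit 5, nat_lit 2, nat_lit 0], [[nat_lit 99, nat_lit 0]])))))
 (.node (nat_lit 1225) (.node (nat_lit 1224) (.leaf ((nat_lit 4), [nat_lit 5, nat_lit 8, nat_lit 9, nat_lit 4, nat_lit 9, nat_lit 7, nat_lit 6, nat_lit 4, nat_lit 8, nat_lit 0, nat_lit 7, nat_lit 4, nat_lit 1, nat_lit 7], [[nat_lit 99, nat_lit 1, nat_lit 99, nat_lit 1]])) (.leaf ((nat_lit 4), [nat_lit 9, nat_lit 4, nat_lit 7, nat_lit 9, nat_lit 1, nat_lit 7, nat_lit 6, nat_lit 8, nat_lit 3, nat_lit 8, nat_lit 1, nat_lit 6, nat_lit 7, nat_lit 1, nat_lit 3, nat_lit 2], [[nat_lit 99, nat_lit 1]])))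 (.node (nat_lit 1226) (.leaf ((nat_lit 4), [nat_lit 8, nat_lit 4, nat_lit 4, nat_lit 9, nat_lit 8, nat_lit 3, nat_lit 8, nat_lit 1, nat_lit 8, nat_lit 3, nat_lit 7, nat_lit 6, nat_lit 3, nat_lit 0], [[nat_lit 99, nat_lit 1, nat_lit 1]])) (.node (nat_lit 1227) (.leaf ((nat_lit 4), [nat_lit 7, nat_lit 1, nat_lit 6, nat_lit 9, nat_lit 0, nat_lit 6, nat_lit 8, nat_lit 6, nat_lit 4, nat_lit 1, nat_lit 7, nat_lit 0, nat_lit 5, nat_lit 2, nat_lit 0], [[nat_lit 99]])) (.leaf ((nat_lit 4), [nat_lit 9, nat_lit 4, nat_lit 7, nat_lit 2, nat_lit 9, nat_lit 5, nat_lit 7, nat_lit 8, nat_lit 4, nat_lit 8, nat_lit 4, nat_lit 7, nat_lit 5, nat_lit 4, nat_lit 5, nat_lit 1], [[nat_lit 99, nat_lit 99]]))))))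
 (.node (nat_lit 1233) (.node (nat_lit 1230) (.node (nat_lit 1229) (.leaf ((nat_lit 4), [nat_lit 7, nat_lit 4, nat_lit 4, nat_lit 9, nat_lit 6, nat_lit 8, nat_lit 0, nat_lit 6, nat_lit 8, nat_lit 3, nat_lit 6, nat_lit 7, nat_lit 0, nat_lit 3, nat_lit 2], [[nat_lit 99, nat_lit 4]])) (.leaf ((nat_lit 4), [nat_lit 6, nat_lit 9, nat_lit 2, nat_lit 1, nat_lit 9, nat_lit 4, nat_lit 7, nat_lit 3, nat_lit 6, nat_lit 8, nat_lit 7, nat_lit 6, nat_lit 2, nat_lit 1], [[nat_lit 1, nat_lit 99, nat_lit 0, nat_lit 1, nat_lit 99, nat_lit 0]]))) (.node (nat_lit 1231) (.leaf ((nat_lit 4), [nat_lit 4, nat_lit 6, nat_lit 9, nat_lit 6, nat_lit 7, nat_lit 8, nat_lit 7, nat_lit 4, nat_lit 6, nat_lit 0], [[nat_lit 99, nat_lit 1]])) (.node (nat_lit 1232) (.leaf ((nat_lit 4), [nat_lit 8, nat_lit 0, nat_lit 8, nat_lit 1, nat_lit 9, nat_lit 8, nat_lit 3, nat_lit 8,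 nat_lit 4, nat_lit 7, nat_lit 5, nat_lit 3, nat_lit 5], [[nat_lit 99, nat_lit 1, nat_lit 1, nat_lit 99, nat_lit 1, nat_lit 1]])) (.leaf ((nat_lit 4), [nat_lit 9, nat_lit 4, nat_lit 4, nat_lit 1, nat_lit 9, nat_lit 1, nat_lit 3, nat_lit 1, nat_lit 8, nat_lit 1, nat_lit 6, nat_lit 7, nat_lit 6, nat_lit 0], [[nat_lit 99, nat_lit 3, nat_lit 0]])))))
 (.node (nat_lit 1236) (.node (nat_lit 1234) (.leaf ((nat_lit 4), [nat_lit 1, nat_lit 9, nat_lit 8, nat_lit 9, nat_lit 8, nat_lit 7, nat_lit 8, nat_lit 0, nat_lit 7, nat_lit 3, nat_lit 7, nat_lit 4, nat_lit 5, nat_lit 2, nat_lit 1], [[nat_lit 99]])) (.node (nat_lit 1235) (.leaf ((nat_lit 4), [nat_lit 6, nat_lit 7, nat_lit 2, nat_lit 9, nat_lit 5, nat_lit 4, nat_lit 8, nat_lit 7, nat_lit 3, nat_lit 6, nat_lit 7, nat_lit 6], [[nat_lit 99, nat_lit 1, nat_lit 0, nat_lit 99, nat_lit 1, nat_lit 0]]))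 (.leaf ((nat_lit 4), [nat_lit 8, nat_lit 4, nat_lit 9, nat_lit 4, nat_lit 7, nat_lit 6, nat_lit 8, nat_lit 1, nat_lit 3, nat_lit 7, nat_lit 6, nat_lit 7, nat_lit 1, nat_lit 6, nat_lit 0], [[nat_lit 99, nat_lit 3, nat_lit 99, nat_lit 3]])))) (.node (nat_lit 1237) (.leaf ((nat_lit 4), [nat_lit 0, nat_lit 8, nat_lit 3, nat_lit 9, nat_lit 7, nat_lit 6, nat_lit 0, nat_lit 3, nat_lit 8, nat_lit 0, nat_lit 7, nat_lit 2, nat_lit 1], [[nat_lit 99, nat_lit 0, nat_lit 99, nat_lit 0]])) (.node (nat_lit 1238) (.leaf ((nat_lit 4), [nat_lit 6, nat_lit 8, nat_lit 9, nat_lit 0, nat_lit 4, nat_lit 7, nat_lit 8, nat_lit 3, nat_lit 8, nat_lit 7, nat_lit 6, nat_lit 3], [[nat_lit 99, nat_lit 0, nat_lit 99, nat_lit 0]])) (.leaf ((nat_lit 4), [nat_lit 8, nat_lit 6, nat_lit 9, nat_lit 2, nat_lit 3, nat_lit 7, nat_lit 8, nat_lit 4, nat_lit 8, nat_lit 1, nat_lit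 3, nat_lit 7], [[nat_lit 3, nat_lit 99, nat_lit 0, nat_lit 3, nat_lit 99, nat_lit 0]])))))))
 (.node (nat_lit 1249) (.node (nat_lit 1244) (.node (nat_lit 1241) (.node (nat_lit 1240) (.leaf ((nat_lit 4), [nat_lit 4, nat_lit 4, nat_lit 7, nat_lit 9, nat_lit 8, nat_lit 7, nat_lit 8, nat_lit 1, nat_lit 8, nat_lit 7, nat_lit 6, nat_lit 7, nat_lit 4, nat_lit 4, nat_lit 0], [[nat_lit 99, nat_lit 4, nat_lit 0, nat_lit 99, nat_lit 4, nat_lit 0]])) (.leaf ((nat_lit 4), [nat_lit 6, nat_lit 9, nat_lit 8, nat_lit 7, nat_lit 8, nat_lit 3, nat_lit 8, nat_lit 7, nat_lit 4, nat_lit 0, nat_lit 7, nat_lit 3, nat_lit 6, nat_lit 3, nat_lit 0], [[nat_lit 99, nat_lit 99]]))) (.node (nat_lit 1242) (.leaf ((nat_lit 4), [nat_lit 2, nat_lit 1, nat_lit 9, nat_lit 4, nat_lit 0, nat_lit 8, nat_lit 3, nat_lit 7, nat_lit 6, nat_lit 7, nat_lit 5, nat_lit 3, nat_lit 0],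 [[nat_lit 99, nat_lit 1, nat_lit 99, nat_lit 1]])) (.node (nat_lit 1243) (.leaf ((nat_lit 4), [nat_lit 8, nat_lit 5, nat_lit 8, nat_lit 2, nat_lit 1, nat_lit 9, nat_lit 5, nat_lit 7, nat_lit 8, nat_lit 1, nat_lit 8, nat_lit 6, nat_lit 4, nat_lit 2, nat_lit 1], [[nat_lit 99, nat_lit 4, nat_lit 0, nat_lit 99, nat_lit 4, nat_lit 0]])) (.leaf ((nat_lit 4), [nat_lit 8, nat_lit 2, nat_lit 1, nat_lit 9, nat_lit 8, nat_lit 0, nat_lit 4, nat_lit 8, nat_lit 7, nat_lit 1, nat_lit 3, nat_lit 7, nat_lit 0, nat_lit 5], [[nat_lit 1, nat_lit 99, nat_lit 0]])))))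
 (.node (nat_lit 1246) (.node (nat_lit 1245) (.leaf ((nat_lit 4), [nat_lit 4, nat_lit 9, nat_lit 6, nat_lit 9, nat_lit 1, nat_lit 7, nat_lit 4, nat_lit 1, nat_lit 7, nat_lit 6, nat_lit 2], [[nat_lit 99, nat_lit 0, nat_lit 99, nat_lit 0]])) (.leaf ((nat_lit 4), [nat_lit 9, nat_lit 6, nat_lit 9, nat_lit 8, nat_lit 1, nat_lit 9, nat_lit 7, nat_lit 8, nat_lit 4, nat_lit 4, nat_lit 8, nat_lit 3, nat_lit 2], [[nat_lit 99, nat_lit 3, nat_lit 99, nat_lit 3]]))) (.node (nat_lit 1247) (.leaf ((nat_lit 4), [nat_lit 0, nat_lit 9, nat_lit 1, nat_lit 9, nat_lit 8, nat_lit 7, nat_lit 5, nat_lit 8, nat_lit 4, nat_lit 7, nat_lit 4, nat_lit 7, nat_lit 4, nat_lit 6, nat_lit 4, nat_lit 0], [[nat_lit 99, nat_lit 1]])) (.node (nat_lit 1248) (.leaf ((nat_lit 4), [nat_lit 0, nat_lit 9, nat_lit 8, nat_lit 9, nat_lit 3, nat_lit 7, nat_lit 6, nat_lit 4, nat_lit 8,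 nat_lit 4, nat_lit 0, nat_lit 7, nat_lit 6, nat_lit 3, nat_lit 0], [[nat_lit 99, nat_lit 2]])) (.leaf ((nat_lit 4), [nat_lit 6, nat_lit 9, nat_lit 5, nat_lit 4, nat_lit 9, nat_lit 4, nat_lit 7, nat_lit 8, nat_lit 4, nat_lit 1, nat_lit 4, nat_lit 7, nat_lit 6, nat_lit 6], [[nat_lit 99, nat_lit 0]]))))))
 (.node (nat_lit 1254) (.node (nat_lit 1251) (.node (nat_lit 1250) (.leaf ((nat_lit 4), [nat_lit 7, nat_lit 6, nat_lit 8, nat_lit 0, nat_lit 4, nat_lit 8, nat_lit 7, nat_lit 5, nat_lit 4, nat_lit 7, nat_lit 1, nat_lit 3], [[nat_lit 99, nat_lit 0]])) (.leaf ((nat_lit 4), [nat_lit 8, nat_lit 9, nat_lit 3, nat_lit 1, nat_lit 9, nat_lit 4, nat_lit 8, nat_lit 6, nat_lit 8, nat_lit 1, nat_lit 8, nat_lit 7, nat_lit 6, nat_lit 6, nat_lit 1], [[nat_lit 99, nat_lit 99]]))) (.node (nat_lit 1252) (.leaf ((nat_lit 4), [nat_lit 8, nat_lit 3, nat_lit 9,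 nat_lit 4, nat_lit 5, nat_lit 8, nat_lit 0, nat_lit 4, nat_lit 0, nat_lit 7, nat_lit 4, nat_lit 5, nat_lit 2, nat_lit 1], [[nat_lit 4, nat_lit 99, nat_lit 0]])) (.node (nat_lit 1253) (.leaf ((nat_lit 4), [nat_lit 8, nat_lit 9, nat_lit 0, nat_lit 9, nat_lit 7, nat_lit 1, nat_lit 3, nat_lit 1, nat_lit 8, nat_lit 6, nat_lit 3, nat_lit 7, nat_lit 3, nat_lit 1, nat_lit 4], [[nat_lit 99, nat_lit 2, nat_lit 0, nat_lit 99, nat_lit 2, nat_lit 0]])) (.leaf ((nat_lit 4), [nat_lit 3, nat_lit 8, nat_lit 4, nat_lit 9, nat_lit 7, nat_lit 8, nat_lit 0, nat_lit 4, nat_lit 8, nat_lit 6, nat_lit 1, nat_lit 3, nat_lit 0], [[nat_lit 99, nat_lit 0]])))))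
 (.node (nat_lit 1257) (.node (nat_lit 1255) (.leaf ((nat_lit 4), [nat_lit 5, nat_lit 4, nat_lit 9, nat_lit 7, nat_lit 8, nat_lit 0, nat_lit 8, nat_lit 3, nat_lit 6, nat_lit 7, nat_lit 6, nat_lit 2], [[nat_lit 99, nat_lit 3, nat_lit 99, nat_lit 3]])) (.node (nat_lit 1256) (.leaf ((nat_lit 4), [nat_lit 7, nat_lit 8, nat_lit 3, nat_lit 0, nat_lit 9, nat_lit 1, nat_lit 7, nat_lit 4, nat_lit 1, nat_lit 7, nat_lit 1, nat_lit 4, nat_lit 4], [[nat_lit 99, nat_lit 0]])) (.leaf ((nat_lit 4), [nat_lit 4, nat_lit 2, nat_lit 9, nat_lit 0, nat_lit 9, nat_lit 5, nat_lit 7, nat_lit 4, nat_lit 8, nat_lit 2, nat_lit 6, nat_lit 7, nat_lit 5], [[nat_lit 99]])))) (.node (nat_lit 1258) (.leaf ((nat_lit 4), [nat_lit 6, nat_lit 7, nat_lit 8, nat_lit 4, nat_lit 9, nat_lit 8, nat_lit 7, nat_lit 6, nat_lit 8, nat_lit 7, nat_lit 1, nat_lit 4, nat_lit 7, nat_lit 3,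 nat_lit 5, nat_lit 3], [[nat_lit 99, nat_lit 3, nat_lit 1]])) (.node (nat_lit 1259) (.leaf ((nat_lit 4), [nat_lit 5, nat_lit 8, nat_lit 0, nat_lit 9, nat_lit 8, nat_lit 3, nat_lit 1, nat_lit 8, nat_lit 3, nat_lit 7, nat_lit 6, nat_lit 7, nat_lit 6, nat_lit 4, nat_lit 0], [[nat_lit 99, nat_lit 1, nat_lit 0, nat_lit 99, nat_lit 1, nat_lit 0]])) (.leaf ((nat_lit 4), [nat_lit 6, nat_lit 2, nat_lit 1, nat_lit 9, nat_lit 0, nat_lit 7, nat_lit 6, nat_lit 1, nat_lit 8, nat_lit 0, nat_lit 7, nat_lit 0, nat_lit 6, nat_lit 0], [[nat_lit 99, nat_lit 2]])))))))))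
 (.node (nat_lit 1302) (.node (nat_lit 1281) (.node (nat_lit 1270) (.node (nat_lit 1265) (.node (nat_lit 1262) (.node (nat_lit 1261) (.leaf ((nat_lit 4), [nat_lit 1, nat_lit 8, nat_lit 9, nat_lit 3, nat_lit 9, nat_lit 8, nat_lit 0, nat_lit 7, nat_lit 5, nat_lit 4, nat_lit 7, nat_lit 6, nat_lit 6, nat_lit 2, nat_lit 1], [[nat_lit 99, nat_lit 0]])) (.leaf ((nat_lit 4), [nat_lit 1, nat_lit 6, nat_lit 9, nat_lit 3, nat_lit 9, nat_lit 7, nat_lit 4, nat_lit 8, nat_lit 5, nat_lit 8, nat_lit 4, nat_lit 7, nat_lit 1, nat_lit 3, nat_lit 2], [[nat_lit 99, nat_lit 2]]))) (.node (nat_lit 1263) (.leaf ((nat_lit 4), [nat_lit 2, nat_lit 9, nat_lit 7, nat_lit 4, nat_lit 9, nat_lit 7, nat_lit 1, nat_lit 3, nat_lit 1, nat_lit 8, nat_lit 4, nat_lit 6, nat_lit 4, nat_lit 7, nat_lit 3, nat_lit 1], [[nat_lit 99, nat_lit 99]])) (.node (nat_lit 1264) (.leaf ((nat_lit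 4), [nat_lit 0, nat_lit 9, nat_lit 8, nat_lit 6, nat_lit 8, nat_lit 7, nat_lit 8, nat_lit 4, nat_lit 7, nat_lit 3, nat_lit 5, nat_lit 2, nat_lit 1], [[nat_lit 99, nat_lit 3, nat_lit 0]])) (.leaf ((nat_lit 4), [nat_lit 5, nat_lit 9, nat_lit 1, nat_lit 9, nat_lit 3, nat_lit 8, nat_lit 1, nat_lit 8, nat_lit 7, nat_lit 1, nat_lit 3, nat_lit 7, nat_lit 4, nat_lit 5, nat_lit 0], [[nat_lit 99, nat_lit 1, nat_lit 0]])))))
 (.node (nat_lit 1267) (.node (nat_lit 1266) (.leaf ((nat_lit 4), [nat_lit 8, nat_lit 0, nat_lit 3, nat_lit 9, nat_lit 5, nat_lit 4, nat_lit 8, nat_lit 7, nat_lit 8, nat_lit 7, nat_lit 6, nat_lit 7, nat_lit 5, nat_lit 2], [[nat_lit 99, nat_lit 0, nat_lit 99, nat_lit 0]])) (.leaf ((nat_lit 4), [nat_lit 8, nat_lit 6, nat_lit 4, nat_lit 0, nat_lit 9, nat_lit 3, nat_lit 8, nat_lit 1, nat_lit 7, nat_lit 3, nat_lit 7, nat_lit 1, nat_lit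 3], [[nat_lit 99, nat_lit 2, nat_lit 99, nat_lit 2]]))) (.node (nat_lit 1268) (.leaf ((nat_lit 4), [nat_lit 0, nat_lit 9, nat_lit 1, nat_lit 9, nat_lit 7, nat_lit 3, nat_lit 8, nat_lit 5, nat_lit 8, nat_lit 4, nat_lit 7, nat_lit 4, nat_lit 7, nat_lit 4, nat_lit 2], [[nat_lit 99, nat_lit 1, nat_lit 99, nat_lit 1]])) (.node (nat_lit 1269) (.leaf ((nat_lit 4), [nat_lit 9, nat_lit 7, nat_lit 8, nat_lit 7, nat_lit 9, nat_lit 4, nat_lit 7, nat_lit 4, nat_lit 8, nat_lit 1, nat_lit 8, nat_lit 4, nat_lit 7, nat_lit 4, nat_lit 0], [[nat_lit 99, nat_lit 99]])) (.leaf ((nat_lit 4), [nat_lit 6, nat_lit 7, nat_lit 0, nat_lit 9, nat_lit 5, nat_lit 8, nat_lit 0, nat_lit 8, nat_lit 6, nat_lit 7, nat_lit 4, nat_lit 7, nat_lit 1, nat_lit 5, nat_lit 2, nat_lit 0], [[nat_lit 99, nat_lit 1]]))))))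
 (.node (nat_lit 1275) (.node (nat_lit 1272) (.node (nat_lit 1271) (.leaf ((nat_lit 4), [nat_lit 6, nat_lit 1, nat_lit 9, nat_lit 8, nat_lit 1, nat_lit 3, nat_lit 1, nat_lit 8, nat_lit 5, nat_lit 4, nat_lit 7, nat_lit 1, nat_lit 6, nat_lit 0], [[nat_lit 99, nat_lit 99]])) (.leaf ((nat_lit 4), [nat_lit 1, nat_lit 6, nat_lit 9, nat_lit 3, nat_lit 9, nat_lit 3, nat_lit 8, nat_lit 1, nat_lit 7, nat_lit 6, nat_lit 1, nat_lit 4, nat_lit 2, nat_lit 1], [[nat_lit 99, nat_lit 99]]))) (.node (nat_lit 1273) (.leaf ((nat_lit 4), [nat_lit 9, nat_lit 2, nat_lit 0, nat_lit 9, nat_lit 6, nat_lit 6, nat_lit 1, nat_lit 8, nat_lit 0, nat_lit 6, nat_lit 7, nat_lit 1], [[nat_lit 99, nat_lit 0, nat_lit 99, nat_lit 0]])) (.node (nat_lit 1274) (.leaf ((nat_lit 4), [nat_lit 8, nat_lit 9, nat_lit 3, nat_lit 9, nat_lit 8, nat_lit 7, nat_lit 8, nat_lit 3, nat_lit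 8, nat_lit 5, nat_lit 7, nat_lit 3, nat_lit 7, nat_lit 6, nat_lit 3], [[nat_lit 99, nat_lit 2, nat_lit 0]])) (.leaf ((nat_lit 4), [nat_lit 3, nat_lit 5, nat_lit 8, nat_lit 1, nat_lit 9, nat_lit 7, nat_lit 5, nat_lit 4, nat_lit 8, nat_lit 5, nat_lit 4, nat_lit 7, nat_lit 1, nat_lit 6], [[nat_lit 99, nat_lit 4, nat_lit 99, nat_lit 4]])))))
 (.node (nat_lit 1278) (.node (nat_lit 1276) (.leaf ((nat_lit 4), [nat_lit 7, nat_lit 5, nat_lit 8, nat_lit 7, nat_lit 9, nat_lit 4, nat_lit 5, nat_lit 8, nat_lit 4, nat_lit 6, nat_lit 4, nat_lit 7, nat_lit 6, nat_lit 1, nat_lit 4], [[nat_lit 99, nat_lit 0]])) (.node (nat_lit 1277) (.leaf ((nat_lit 4), [nat_lit 6, nat_lit 3, nat_lit 1, nat_lit 9, nat_lit 4, nat_lit 4, nat_lit 8, nat_lit 3, nat_lit 6, nat_lit 3, nat_lit 2, nat_lit 1], [[nat_lit 99, nat_lit 4]])) (.leaf ((nat_lit 4), [nat_lit 9, nat_lit 8,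 nat_lit 1, nat_lit 9, nat_lit 4, nat_lit 8, nat_lit 5, nat_lit 8, nat_lit 7, nat_lit 4, nat_lit 1, nat_lit 4, nat_lit 7, nat_lit 3], [[nat_lit 99, nat_lit 99]])))) (.node (nat_lit 1279) (.leaf ((nat_lit 4), [nat_lit 0, nat_lit 3, nat_lit 9, nat_lit 5, nat_lit 7, nat_lit 8, nat_lit 4, nat_lit 8, nat_lit 0, nat_lit 7, nat_lit 1, nat_lit 5, nat_lit 1], [[nat_lit 99]])) (.node (nat_lit 1280) (.leaf ((nat_lit 4), [nat_lit 9, nat_lit 0, nat_lit 9, nat_lit 0, nat_lit 9, nat_lit 8, nat_lit 7, nat_lit 0, nat_lit 4, nat_lit 8, nat_lit 6, nat_lit 7, nat_lit 1, nat_lit 4, nat_lit 1], [[nat_lit 99, nat_lit 2, nat_lit 99, nat_lit 2]])) (.leaf ((nat_lit 4), [nat_lit 7, nat_lit 9, nat_lit 8, nat_lit 4, nat_lit 7, nat_lit 6, nat_lit 8, nat_lit 5, nat_lit 0], [[nat_lit 99, nat_lit 3, nat_lit 99, nat_lit 3]])))))))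
 (.node (nat_lit 1291) (.node (nat_lit 1286) (.node (nat_lit 1283) (.node (nat_lit 1282) (.leaf ((nat_lit 4), [nat_lit 5, nat_lit 3, nat_lit 9, nat_lit 6, nat_lit 9, nat_lit 7, nat_lit 5, nat_lit 7, nat_lit 8, nat_lit 7, nat_lit 5, nat_lit 0, nat_lit 7, nat_lit 6, nat_lit 4, nat_lit 0], [[nat_lit 99, nat_lit 4, nat_lit 99, nat_lit 4]])) (.leaf ((nat_lit 4), [nat_lit 9, nat_lit 1, nat_lit 4, nat_lit 9, nat_lit 3, nat_lit 8, nat_lit 7, nat_lit 6, nat_lit 8, nat_lit 7, nat_lit 6, nat_lit 7, nat_lit 3], [[nat_lit 99, nat_lit 0, nat_lit 99, nat_lit 0]]))) (.node (nat_lit 1284) (.leaf ((nat_lit 4), [nat_lit 1, nat_lit 9, nat_lit 6, nat_lit 9, nat_lit 1, nat_lit 6, nat_lit 0, nat_lit 8, nat_lit 3, nat_lit 8, nat_lit 7, nat_lit 1, nat_lit 4, nat_lit 0, nat_lit 7], [[nat_lit 99, nat_lit 0]])) (.node (nat_lit 1285) (.leaf ((nat_lit 4), [nat_lit 7,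 nat_lit 9, nat_lit 1, nat_lit 7, nat_lit 3, nat_lit 8, nat_lit 1, nat_lit 8, nat_lit 4, nat_lit 6, nat_lit 4, nat_lit 7, nat_lit 3], [[nat_lit 99, nat_lit 0]])) (.leaf ((nat_lit 4), [nat_lit 5, nat_lit 9, nat_lit 8, nat_lit 9, nat_lit 1, nat_lit 3, nat_lit 7, nat_lit 8, nat_lit 7, nat_lit 1, nat_lit 6, nat_lit 7, nat_lit 2, nat_lit 0], [[nat_lit 99, nat_lit 1, nat_lit 99, nat_lit 1]])))))
 (.node (nat_lit 1288) (.node (nat_lit 1287) (.leaf ((nat_lit 4), [nat_lit 6, nat_lit 4, nat_lit 8, nat_lit 9, nat_lit 8, nat_lit 5, nat_lit 3, nat_lit 8, nat_lit 1, nat_lit 8, nat_lit 5, nat_lit 3, nat_lit 7, nat_lit 2], [[nat_lit 99, nat_lit 99]])) (.leaf ((nat_lit 4), [nat_lit 4, nat_lit 9, nat_lit 1, nat_lit 9, nat_lit 8, nat_lit 3, nat_lit 8, nat_lit 1, nat_lit 8, nat_lit 1, nat_lit 4, nat_lit 0, nat_lit 7, nat_lit 4, nat_lit 4, nat_lit 0], [[nat_lit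 99, nat_lit 1]]))) (.node (nat_lit 1289) (.leaf ((nat_lit 2), [], [[nat_lit 1, nat_lit 0, nat_lit 1, nat_lit 4, nat_lit 2, nat_lit 2, nat_lit 3, nat_lit 1], [nat_lit 0, nat_lit 4, nat_lit 0, nat_lit 1, nat_lit 4, nat_lit 0, nat_lit 3, nat_lit 2, nat_lit 2, nat_lit 3], [nat_lit 0, nat_lit 1, nat_lit 1, nat_lit 99, nat_lit 1, nat_lit 0, nat_lit 4, nat_lit 99, nat_lit 0, nat_lit 2, nat_lit 0, nat_lit 4, nat_lit 1]])) (.node (nat_lit 1290) (.leaf ((nat_lit 4), [nat_lit 7, nat_lit 8, nat_lit 9, nat_lit 8, nat_lit 7, nat_lit 5, nat_lit 8, nat_lit 3, nat_lit 0, nat_lit 7, nat_lit 1, nat_lit 6, nat_lit 2, nat_lit 0], [[nat_lit 99, nat_lit 1, nat_lit 99, nat_lit 1]])) (.leaf ((nat_lit 4), [nat_lit 5, nat_lit 8, nat_lit 0, nat_lit 9, nat_lit 6, nat_lit 8, nat_lit 5, nat_lit 8, nat_lit 4, nat_lit 7, nat_lit 5, nat_lit 3, nat_lit 5, nat_lit 2, nat_lit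 1], [[nat_lit 99]]))))))
 (.node (nat_lit 1296) (.node (nat_lit 1293) (.node (nat_lit 1292) (.leaf ((nat_lit 4), [nat_lit 7, nat_lit 8, nat_lit 7, nat_lit 9, nat_lit 8, nat_lit 5, nat_lit 8, nat_lit 1, nat_lit 7, nat_lit 5, nat_lit 1], [[nat_lit 99, nat_lit 1, nat_lit 0, nat_lit 99, nat_lit 1, nat_lit 0]])) (.leaf ((nat_lit 4), [nat_lit 7, nat_lit 4, nat_lit 4, nat_lit 9, nat_lit 4, nat_lit 8, nat_lit 7, nat_lit 4, nat_lit 8, nat_lit 7, nat_lit 3, nat_lit 6, nat_lit 7], [[nat_lit 99, nat_lit 2]]))) (.node (nat_lit 1294) (.leaf ((nat_lit 4), [nat_lit 4, nat_lit 9, nat_lit 6, nat_lit 9, nat_lit 6, nat_lit 3, nat_lit 7, nat_lit 8, nat_lit 7, nat_lit 1, nat_lit 4, nat_lit 4, nat_lit 0], [[nat_lit 99, nat_lit 2, nat_lit 0, nat_lit 99, nat_lit 2, nat_lit 0]])) (.node (nat_lit 1295) (.leaf ((nat_lit 4), [nat_lit 9, nat_lit 0, nat_lit 3, nat_lit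 9, nat_lit 6, nat_lit 8, nat_lit 0, nat_lit 4, nat_lit 8, nat_lit 7, nat_lit 5, nat_lit 3, nat_lit 7, nat_lit 5, nat_lit 1], [[nat_lit 99, nat_lit 3]])) (.leaf ((nat_lit 4), [nat_lit 9, nat_lit 1, nat_lit 9, nat_lit 8, nat_lit 1, nat_lit 4, nat_lit 8, nat_lit 7, nat_lit 8, nat_lit 4, nat_lit 1, nat_lit 4, nat_lit 7, nat_lit 6, nat_lit 0, nat_lit 3], [[nat_lit 99, nat_lit 0]])))))
 (.node (nat_lit 1299) (.node (nat_lit 1297) (.leaf ((nat_lit 4), [nat_lit 5, nat_lit 8, nat_lit 0, nat_lit 9, nat_lit 7, nat_lit 6, nat_lit 8, nat_lit 6, nat_lit 8, nat_lit 7, nat_lit 3, nat_lit 5, nat_lit 1], [[nat_lit 99, nat_lit 1, nat_lit 1, nat_lit 99, nat_lit 1, nat_lit 1]])) (.node (nat_lit 1298) (.leaf ((nat_lit 4), [nat_lit 5, nat_lit 4, nat_lit 9, nat_lit 1, nat_lit 9, nat_lit 8, nat_lit 4, nat_lit 8, nat_lit 0, nat_lit 6, nat_lit 7, nat_lit 1, nat_lit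 4, nat_lit 1], [[nat_lit 99, nat_lit 1, nat_lit 0]])) (.leaf ((nat_lit 4), [nat_lit 8, nat_lit 9, nat_lit 2, nat_lit 1, nat_lit 9, nat_lit 4, nat_lit 4, nat_lit 8, nat_lit 7, nat_lit 8, nat_lit 1, nat_lit 3, nat_lit 7, nat_lit 0, nat_lit 4, nat_lit 2], [[nat_lit 99, nat_lit 1]])))) (.node (nat_lit 1300) (.leaf ((nat_lit 4), [nat_lit 8, nat_lit 9, nat_lit 8, nat_lit 2, nat_lit 9, nat_lit 7, nat_lit 5, nat_lit 8, nat_lit 7, nat_lit 4, nat_lit 1, nat_lit 7, nat_lit 2, nat_lit 0], [[nat_lit 99, nat_lit 3, nat_lit 2]])) (.node (nat_lit 1301) (.leaf ((nat_lit 4), [nat_lit 8, nat_lit 2, nat_lit 1, nat_lit 9, nat_lit 1, nat_lit 8, nat_lit 1, nat_lit 4, nat_lit 7, nat_lit 0, nat_lit 5], [[nat_lit 99, nat_lit 99]])) (.leaf ((nat_lit 4), [nat_lit 7, nat_lit 4, nat_lit 8, nat_lit 5, nat_lit 8, nat_lit 6, nat_lit 3, nat_lit 7, nat_lit 0, nat_lit 5,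 nat_lit 2], [[nat_lit 99, nat_lit 2]]))))))))
 (.node (nat_lit 1323) (.node (nat_lit 1312) (.node (nat_lit 1307) (.node (nat_lit 1304) (.node (nat_lit 1303) (.leaf ((nat_lit 4), [nat_lit 8, nat_lit 7, nat_lit 0, nat_lit 6, nat_lit 9, nat_lit 1, nat_lit 8, nat_lit 5, nat_lit 8, nat_lit 6, nat_lit 7, nat_lit 1, nat_lit 5, nat_lit 0], [[nat_lit 99, nat_lit 2]])) (.leaf ((nat_lit 4), [nat_lit 8, nat_lit 0, nat_lit 9, nat_lit 0, nat_lit 9, nat_lit 3, nat_lit 7, nat_lit 6, nat_lit 4, nat_lit 8, nat_lit 5, nat_lit 1, nat_lit 7, nat_lit 5, nat_lit 3], [[nat_lit 99]]))) (.node (nat_lit 1305) (.leaf ((nat_lit 4), [nat_lit 9, nat_lit 4, nat_lit 9, nat_lit 0, nat_lit 6, nat_lit 9, nat_lit 6, nat_lit 8, nat_lit 0, nat_lit 8, nat_lit 1, nat_lit 7, nat_lit 0, nat_lit 4, nat_lit 2], [[nat_lit 99, nat_lit 4, nat_lit 0, nat_lit 99, nat_lit 4, nat_lit 0]]))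 (.node (nat_lit 1306) (.leaf ((nat_lit 4), [nat_lit 8, nat_lit 6, nat_lit 8, nat_lit 4, nat_lit 9, nat_lit 5, nat_lit 1, nat_lit 7, nat_lit 6, nat_lit 8, nat_lit 2, nat_lit 6, nat_lit 7, nat_lit 6, nat_lit 0, nat_lit 3], [[nat_lit 99, nat_lit 3, nat_lit 0, nat_lit 99, nat_lit 3, nat_lit 0]])) (.leaf ((nat_lit 4), [nat_lit 5, nat_lit 8, nat_lit 9, nat_lit 6, nat_lit 4, nat_lit 1, nat_lit 8, nat_lit 7, nat_lit 2, nat_lit 6, nat_lit 7, nat_lit 6, nat_lit 1, nat_lit 3, nat_lit 2, nat_lit 1], [[nat_lit 99, nat_lit 2, nat_lit 99, nat_lit 2]])))))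
 (.node (nat_lit 1309) (.node (nat_lit 1308) (.leaf ((nat_lit 4), [nat_lit 6, nat_lit 9, nat_lit 8, nat_lit 4, nat_lit 7, nat_lit 4, nat_lit 5, nat_lit 8, nat_lit 7, nat_lit 3, nat_lit 0, nat_lit 7, nat_lit 4, nat_lit 5, nat_lit 2, nat_lit 0], [[nat_lit 99, nat_lit 1, nat_lit 99, nat_lit 1]])) (.leaf ((nat_lit 3), [], [[nat_lit 1, nat_lit 0, nat_lit 1, nat_lit 4, nat_lit 2, nat_lit 2, nat_lit 3, nat_lit 1], [nat_lit 0, nat_lit 4, nat_lit 0, nat_lit 1, nat_lit 4, nat_lit 0, nat_lit 3, nat_lit 2, nat_lit 2, nat_lit 3], [nat_lit 0, nat_lit 1, nat_lit 1, nat_lit 99, nat_lit 4, nat_lit 2, nat_lit 99, nat_lit 1, nat_lit 1, nat_lit 4, nat_lit 0, nat_lit 4, nat_lit 3, nat_lit 0, nat_lit 1, nat_lit 0, nat_lit 1]]))) (.node (nat_lit 1310) (.leaf ((nat_lit 4), [nat_lit 6, nat_lit 0, nat_lit 9, nat_lit 1, nat_lit 9, nat_lit 5, nat_lit 4, nat_lit 8,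 nat_lit 1, nat_lit 7, nat_lit 3, nat_lit 1], [[nat_lit 99, nat_lit 2]])) (.node (nat_lit 1311) (.leaf ((nat_lit 4), [nat_lit 4, nat_lit 8, nat_lit 4, nat_lit 9, nat_lit 3, nat_lit 8, nat_lit 0, nat_lit 8, nat_lit 7, nat_lit 5, nat_lit 0, nat_lit 7, nat_lit 6, nat_lit 0], [[nat_lit 99, nat_lit 1]])) (.leaf ((nat_lit 4), [nat_lit 4, nat_lit 5, nat_lit 9, nat_lit 3, nat_lit 9, nat_lit 4, nat_lit 0, nat_lit 8, nat_lit 3, nat_lit 0, nat_lit 7, nat_lit 6, nat_lit 4, nat_lit 0], [[nat_lit 99, nat_lit 1]]))))))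
 (.node (nat_lit 1317) (.node (nat_lit 1314) (.node (nat_lit 1313) (.leaf ((nat_lit 4), [nat_lit 9, nat_lit 7, nat_lit 0, nat_lit 9, nat_lit 1, nat_lit 7, nat_lit 1, nat_lit 4, nat_lit 7, nat_lit 3, nat_lit 5, nat_lit 3, nat_lit 1], [[nat_lit 99, nat_lit 1]])) (.leaf ((nat_lit 4), [nat_lit 7, nat_lit 9, nat_lit 3, nat_lit 1, nat_lit 9, nat_lit 5, nat_lit 8, nat_lit 3, nat_lit 0, nat_lit 7, nat_lit 5, nat_lit 0], [[nat_lit 99]]))) (.node (nat_lit 1315) (.leaf ((nat_lit 4), [nat_lit 9, nat_lit 4, nat_lit 9, nat_lit 8, nat_lit 6, nat_lit 0, nat_lit 8, nat_lit 4, nat_lit 4, nat_lit 7, nat_lit 6, nat_lit 4, nat_lit 0], [[nat_lit 99, nat_lit 3, nat_lit 99, nat_lit 3]])) (.node (nat_lit 1316) (.leaf ((nat_lit 4), [nat_lit 0, nat_lit 7, nat_lit 9, nat_lit 8, nat_lit 7, nat_lit 8, nat_lit 1, nat_lit 8, nat_lit 1, nat_lit 6, nat_lit 7, nat_lit 3,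 nat_lit 5, nat_lit 1], [[nat_lit 99, nat_lit 99]])) (.leaf ((nat_lit 4), [nat_lit 1, nat_lit 9, nat_lit 7, nat_lit 4, nat_lit 4, nat_lit 8, nat_lit 1, nat_lit 4, nat_lit 0, nat_lit 7, nat_lit 4, nat_lit 1], [[nat_lit 99, nat_lit 3]])))))
 (.node (nat_lit 1320) (.node (nat_lit 1318) (.leaf ((nat_lit 4), [nat_lit 9, nat_lit 0, nat_lit 8, nat_lit 3, nat_lit 9, nat_lit 7, nat_lit 6, nat_lit 0, nat_lit 3, nat_lit 8, nat_lit 3, nat_lit 0, nat_lit 7, nat_lit 1, nat_lit 3], [[nat_lit 99, nat_lit 0]])) (.node (nat_lit 1319) (.leaf ((nat_lit 4), [nat_lit 3, nat_lit 9, nat_lit 6, nat_lit 9, nat_lit 4, nat_lit 7, nat_lit 5, nat_lit 4, nat_lit 8, nat_lit 6, nat_lit 7, nat_lit 0, nat_lit 5], [[nat_lit 99, nat_lit 2]])) (.leaf ((nat_lit 4), [nat_lit 9, nat_lit 5, nat_lit 4, nat_lit 9, nat_lit 7, nat_lit 8, nat_lit 5, nat_lit 7, nat_lit 8, nat_lit 1, nat_lit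 7, nat_lit 4, nat_lit 0, nat_lit 7, nat_lit 4, nat_lit 2], [[nat_lit 99, nat_lit 3]])))) (.node (nat_lit 1321) (.leaf ((nat_lit 4), [nat_lit 3, nat_lit 7, nat_lit 2, nat_lit 9, nat_lit 3, nat_lit 6, nat_lit 8, nat_lit 7, nat_lit 8, nat_lit 6, nat_lit 1, nat_lit 7, nat_lit 3, nat_lit 0, nat_lit 3], [[nat_lit 1, nat_lit 99, nat_lit 2, nat_lit 0]])) (.node (nat_lit 1322) (.leaf ((nat_lit 4), [nat_lit 7, nat_lit 4, nat_lit 4, nat_lit 9, nat_lit 8, nat_lit 7, nat_lit 0, nat_lit 6, nat_lit 8, nat_lit 7, nat_lit 6, nat_lit 3, nat_lit 7, nat_lit 3, nat_lit 1], [[nat_lit 99, nat_lit 99]])) (.leaf ((nat_lit 4), [nat_lit 7, nat_lit 0, nat_lit 8, nat_lit 3, nat_lit 9, nat_lit 6, nat_lit 8, nat_lit 3, nat_lit 8, nat_lit 7, nat_lit 5], [[nat_lit 99, nat_lit 3]])))))))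
 (.node (nat_lit 1333) (.node (nat_lit 1328) (.node (nat_lit 1325) (.node (nat_lit 1324) (.leaf ((nat_lit 4), [nat_lit 6, nat_lit 2, nat_lit 9, nat_lit 3, nat_lit 7, nat_lit 4, nat_lit 1, nat_lit 8, nat_lit 5, nat_lit 1, nat_lit 7, nat_lit 4, nat_lit 4, nat_lit 0], [[nat_lit 99, nat_lit 3]])) (.leaf ((nat_lit 4), [nat_lit 9, nat_lit 1, nat_lit 8, nat_lit 4, nat_lit 9, nat_lit 1, nat_lit 8, nat_lit 4, nat_lit 8, nat_lit 4, nat_lit 7, nat_lit 1, nat_lit 4, nat_lit 7, nat_lit 3], [[nat_lit 99, nat_lit 2]]))) (.node (nat_lit 1326) (.leaf ((nat_lit 4), [nat_lit 7, nat_lit 5, nat_lit 2, nat_lit 9, nat_lit 1, nat_lit 8, nat_lit 6, nat_lit 8, nat_lit 7, nat_lit 6, nat_lit 4, nat_lit 1, nat_lit 7, nat_lit 5, nat_lit 0], [[nat_lit 99, nat_lit 1, nat_lit 0, nat_lit 99, nat_lit 1, nat_lit 0]])) (.node (nat_lit 1327) (.leaf ((nat_lit 4), [nat_lit 9,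 nat_lit 7, nat_lit 0, nat_lit 9, nat_lit 6, nat_lit 1, nat_lit 8, nat_lit 1, nat_lit 8, nat_lit 0, nat_lit 7, nat_lit 6, nat_lit 4, nat_lit 7, nat_lit 3], [[nat_lit 99, nat_lit 4, nat_lit 99, nat_lit 4]])) (.leaf ((nat_lit 4), [nat_lit 9, nat_lit 1, nat_lit 7, nat_lit 0, nat_lit 9, nat_lit 8, nat_lit 5, nat_lit 8, nat_lit 0, nat_lit 6, nat_lit 7, nat_lit 4, nat_lit 1, nat_lit 4], [[nat_lit 99]])))))
 (.node (nat_lit 1330) (.node (nat_lit 1329) (.leaf ((nat_lit 4), [nat_lit 3, nat_lit 9, nat_lit 6, nat_lit 1, nat_lit 9, nat_lit 0, nat_lit 7, nat_lit 8, nat_lit 4, nat_lit 8, nat_lit 4, nat_lit 4, nat_lit 7, nat_lit 2, nat_lit 0], [[nat_lit 99, nat_lit 2, nat_lit 99, nat_lit 2]])) (.leaf ((nat_lit 4), [nat_lit 9, nat_lit 5, nat_lit 8, nat_lit 1, nat_lit 9, nat_lit 3, nat_lit 1, nat_lit 8, nat_lit 3, nat_lit 7, nat_lit 3], [[nat_lit 99]])))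 (.node (nat_lit 1331) (.leaf ((nat_lit 4), [nat_lit 4, nat_lit 1, nat_lit 9, nat_lit 6, nat_lit 9, nat_lit 3, nat_lit 1, nat_lit 8, nat_lit 0, nat_lit 7, nat_lit 3, nat_lit 7, nat_lit 0, nat_lit 5], [[nat_lit 99]])) (.node (nat_lit 1332) (.leaf ((nat_lit 4), [nat_lit 9, nat_lit 0, nat_lit 8, nat_lit 2, nat_lit 9, nat_lit 0, nat_lit 8, nat_lit 7, nat_lit 4, nat_lit 0, nat_lit 7, nat_lit 1, nat_lit 3], [[nat_lit 99, nat_lit 0]])) (.leaf ((nat_lit 4), [nat_lit 4, nat_lit 7, nat_lit 2, nat_lit 9, nat_lit 4, nat_lit 8, nat_lit 4, nat_lit 7, nat_lit 8, nat_lit 7, nat_lit 6, nat_lit 1, nat_lit 7], [[nat_lit 99, nat_lit 0, nat_lit 99, nat_lit 0]]))))))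
 (.node (nat_lit 1338) (.node (nat_lit 1335) (.node (nat_lit 1334) (.leaf ((nat_lit 4), [nat_lit 9, nat_lit 6, nat_lit 7, nat_lit 9, nat_lit 7, nat_lit 8, nat_lit 5, nat_lit 8, nat_lit 0, nat_lit 6, nat_lit 7, nat_lit 6, nat_lit 4, nat_lit 1], [[nat_lit 99, nat_lit 1]])) (.leaf ((nat_lit 4), [nat_lit 1, nat_lit 3, nat_lit 9, nat_lit 3, nat_lit 1, nat_lit 9, nat_lit 5, nat_lit 8, nat_lit 1, nat_lit 8, nat_lit 7, nat_lit 6, nat_lit 7, nat_lit 0], [[nat_lit 99, nat_lit 2, nat_lit 99, nat_lit 2]]))) (.node (nat_lit 1336) (.leaf ((nat_lit 4), [nat_lit 8, nat_lit 6, nat_lit 2, nat_lit 1, nat_lit 9, nat_lit 4, nat_lit 7, nat_lit 6, nat_lit 8, nat_lit 3, nat_lit 6, nat_lit 7, nat_lit 4, nat_lit 4, nat_lit 2], [[nat_lit 99, nat_lit 1, nat_lit 0, nat_lit 99, nat_lit 1, nat_lit 0]])) (.node (nat_lit 1337) (.leaf ((nat_lit 4), [nat_lit 9, nat_lit 6,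 nat_lit 0, nat_lit 9, nat_lit 8, nat_lit 4, nat_lit 7, nat_lit 8, nat_lit 7, nat_lit 1, nat_lit 6, nat_lit 7, nat_lit 3, nat_lit 2, nat_lit 0], [[nat_lit 99, nat_lit 99]])) (.leaf ((nat_lit 4), [nat_lit 3, nat_lit 6, nat_lit 9, nat_lit 6, nat_lit 9, nat_lit 5, nat_lit 8, nat_lit 1, nat_lit 8, nat_lit 6, nat_lit 7, nat_lit 3, nat_lit 0], [[nat_lit 99, nat_lit 2, nat_lit 99, nat_lit 2]])))))
 (.node (nat_lit 1341) (.node (nat_lit 1339) (.leaf ((nat_lit 4), [nat_lit 5, nat_lit 9, nat_lit 2, nat_lit 1, nat_lit 9, nat_lit 7, nat_lit 6, nat_lit 1, nat_lit 8, nat_lit 1, nat_lit 7, nat_lit 4, nat_lit 1, nat_lit 4], [[nat_lit 99, nat_lit 0]])) (.node (nat_lit 1340) (.leaf ((nat_lit 4), [nat_lit 4, nat_lit 8, nat_lit 6, nat_lit 9, nat_lit 0, nat_lit 8, nat_lit 7, nat_lit 6, nat_lit 8, nat_lit 0, nat_lit 6, nat_lit 7, nat_lit 4, nat_lit 4, nat_lit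 0], [[nat_lit 99, nat_lit 1, nat_lit 99, nat_lit 1]])) (.leaf ((nat_lit 4), [nat_lit 4, nat_lit 7, nat_lit 3, nat_lit 9, nat_lit 6, nat_lit 7, nat_lit 8, nat_lit 3, nat_lit 8, nat_lit 7, nat_lit 3, nat_lit 5, nat_lit 2, nat_lit 1], [[nat_lit 99, nat_lit 2, nat_lit 0]])))) (.node (nat_lit 1342) (.leaf ((nat_lit 4), [nat_lit 4, nat_lit 8, nat_lit 9, nat_lit 8, nat_lit 7, nat_lit 4, nat_lit 1, nat_lit 8, nat_lit 5, nat_lit 7, nat_lit 3, nat_lit 7, nat_lit 3, nat_lit 5, nat_lit 1], [[nat_lit 99, nat_lit 0, nat_lit 99, nat_lit 0]])) (.node (nat_lit 1343) (.leaf ((nat_lit 4), [nat_lit 8, nat_lit 1, nat_lit 9, nat_lit 5, nat_lit 3, nat_lit 8, nat_lit 1, nat_lit 8, nat_lit 0, nat_lit 6, nat_lit 7, nat_lit 6, nat_lit 2, nat_lit 0], [[nat_lit 99, nat_lit 2, nat_lit 0, nat_lit 99, nat_lit 2, nat_lit 0]])) (.leaf ((nat_lit 4), [nat_lit 8, nat_lit 7,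 nat_lit 2, nat_lit 9, nat_lit 6, nat_lit 7, nat_lit 6, nat_lit 4, nat_lit 8, nat_lit 3, nat_lit 7, nat_lit 6, nat_lit 7, nat_lit 5], [[nat_lit 99, nat_lit 99]]))))))))))
noncomputable def eCE : Tr (ℕ × List ℕ × List (List ℕ)) := (.node (nat_lit 672) (.node (nat_lit 336) (.node (nat_lit 168) eCE_0 eCE_1) (.node (nat_lit 504) eCE_2 eCE_3)) (.node (nat_lit 1008) (.node (nat_lit 840) eCE_4 eCE_5) (.node (nat_lit 1176) eCE_6 eCE_7)))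
theorem es_0 : allR 0 77 (step2Chk (nat_lit 10) (nat_lit 1023) (U62.L.map Lev.b) U62.T nT uT bDd cR AW [nat_lit 1, nat_lit 2, nat_lit 3, nat_lit 4] 224 eCE) = true := by decide +kernel
theorem es_1 : allR 77 77 (step2Chk (nat_lit 10) (nat_lit 1023) (U62.L.map Lev.b) U62.T nT uT bDd cR AW [nat_lit 1, nat_lit 2, nat_lit 3, nat_lit 4] 224 eCE) = true := by decide +kernel
theorem es_2 : allR 154 99 (step2Chk (nat_lit 10) (nat_lit 1023) (U62.L.map Lev.b) U62.T nT uT bDd cR AW [nat_lit 1, nat_lit 2, nat_lit 3, nat_lit 4] 224 eCE) = true := by decide +kernel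
theorem es_3 : allR 253 332 (step2Chk (nat_lit 10) (nat_lit 1023) (U62.L.map Lev.b) U62.T nT uT bDd cR AW [nat_lit 1, nat_lit 2, nat_lit 3, nat_lit 4] 224 eCE) = true := by decide +kernel
theorem es_4 : allR 585 321 (step2Chk (nat_lit 10) (nat_lit 1023) (U62.L.map Lev.b) U62.T nT uT bDd cR AW [nat_lit 1, nat_lit 2, nat_lit 3, nat_lit 4] 224 eCE) = true := by decide +kernel
theorem es_5 : allR 906 323 (step2Chk (nat_lit 10) (nat_lit 1023) (U62.L.map Lev.b) U62.T nT uT bDd cR AW [nat_lit 1, nat_lit 2, nat_lit 3, nat_lit 4] 224 eCE) = true := by decide +kernel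
theorem es_6 : allR 1229 115 (step2Chk (nat_lit 10) (nat_lit 1023) (U62.L.map Lev.b) U62.T nT uT bDd cR AW [nat_lit 1, nat_lit 2, nat_lit 3, nat_lit 4] 224 eCE) = true := by decide +kernel
theorem es : allR 0 1344 (step2Chk (nat_lit 10) (nat_lit 1023) (U62.L.map Lev.b) U62.T nT uT bDd cR AW [nat_lit 1, nat_lit 2, nat_lit 3, nat_lit 4] 224 eCE) = true := (allR_add (allR_add (allR_add (allR_add (allR_add (allR_add es_0 es_1) es_2) es_3) es_4) es_5) es_6)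
noncomputable def jW : List (List ℕ) := [[],
 [nat_lit 6, nat_lit 4, nat_lit 3],
 [nat_lit 5, nat_lit 1],
 [nat_lit 4, nat_lit 0],
 [nat_lit 7, nat_lit 3, nat_lit 1],
 [nat_lit 7, nat_lit 4, nat_lit 3, nat_lit 1],
 [nat_lit 7, nat_lit 4, nat_lit 2],
 [nat_lit 6, nat_lit 5, nat_lit 3],
 [nat_lit 7, nat_lit 0],
 [nat_lit 6, nat_lit 1],
 [nat_lit 7, nat_lit 4, nat_lit 0],
 [nat_lit 7, nat_lit 2],
 [nat_lit 5, nat_lit 0],
 [nat_lit 6, nat_lit 5, nat_lit 3, nat_lit 0],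
 [nat_lit 2],
 [nat_lit 5],
 [nat_lit 6, nat_lit 4, nat_lit 2],
 [nat_lit 6, nat_lit 3, nat_lit 1],
 [nat_lit 4, nat_lit 3, nat_lit 0],
 [nat_lit 6, nat_lit 5, nat_lit 3, nat_lit 1],
 [nat_lit 6, nat_lit 4],
 [nat_lit 7, nat_lit 2, nat_lit 1],
 [nat_lit 7, nat_lit 5],
 [nat_lit 6, nat_lit 5, nat_lit 2, nat_lit 1],
 [nat_lit 7, nat_lit 4, nat_lit 3, nat_lit 0],
 [nat_lit 6, nat_lit 3, nat_lit 0],
 [nat_lit 6, nat_lit 4, nat_lit 1],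
 [nat_lit 2, nat_lit 1],
 [nat_lit 0],
 [nat_lit 6, nat_lit 2, nat_lit 1],
 [nat_lit 6, nat_lit 5, nat_lit 0],
 [nat_lit 6, nat_lit 4, nat_lit 3, nat_lit 0],
 [nat_lit 5, nat_lit 3, nat_lit 1],
 [nat_lit 5, nat_lit 3],
 [nat_lit 7, nat_lit 3],
 [nat_lit 7, nat_lit 4, nat_lit 2, nat_lit 1],
 [nat_lit 3],
 [nat_lit 6, nat_lit 2, nat_lit 0],
 [nat_lit 4, nat_lit 1],
 [nat_lit 5, nat_lit 2, nat_lit 0],
 [nat_lit 5, nat_lit 2, nat_lit 1],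
 [nat_lit 7, nat_lit 4, nat_lit 3],
 [nat_lit 4],
 [nat_lit 6, nat_lit 5, nat_lit 2],
 [nat_lit 7, nat_lit 5, nat_lit 1],
 [nat_lit 6, nat_lit 4, nat_lit 0],
 [nat_lit 3, nat_lit 0],
 [nat_lit 7, nat_lit 5, nat_lit 2, nat_lit 0],
 [nat_lit 7, nat_lit 5, nat_lit 2, nat_lit 1],
 [nat_lit 6, nat_lit 4, nat_lit 2, nat_lit 0],
 [nat_lit 7, nat_lit 3, nat_lit 0],
 [nat_lit 3, nat_lit 1],
 [nat_lit 5, nat_lit 2],
 [nat_lit 7, nat_lit 4],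
 [nat_lit 7, nat_lit 2, nat_lit 0],
 [nat_lit 6, nat_lit 5],
 [nat_lit 6, nat_lit 5, nat_lit 1],
 [nat_lit 5, nat_lit 3, nat_lit 0],
 [nat_lit 7, nat_lit 4, nat_lit 2, nat_lit 0],
 [nat_lit 7, nat_lit 5, nat_lit 3],
 [nat_lit 4, nat_lit 2, nat_lit 1],
 [nat_lit 7, nat_lit 1],
 [nat_lit 6, nat_lit 3],
 [nat_lit 6, nat_lit 5, nat_lit 2, nat_lit 0],
 [nat_lit 7],
 [nat_lit 6, nat_lit 4, nat_lit 2, nat_lit 1],
 [nat_lit 4, nat_lit 3, nat_lit 1],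
 [nat_lit 7, nat_lit 5, nat_lit 3, nat_lit 0],
 [nat_lit 6, nat_lit 2],
 [nat_lit 6],
 [nat_lit 4, nat_lit 3],
 [nat_lit 2, nat_lit 0],
 [nat_lit 4, nat_lit 2],
 [nat_lit 6, nat_lit 0],
 [nat_lit 7, nat_lit 5, nat_lit 0],
 [nat_lit 6, nat_lit 4, nat_lit 3, nat_lit 1],
 [nat_lit 7, nat_lit 5, nat_lit 2],
 [nat_lit 4, nat_lit 2, nat_lit 0],
 [nat_lit 7, nat_lit 4, nat_lit 1],
 [nat_lit 1],
 [nat_lit 7, nat_lit 5, nat_lit 3, nat_lit 1]]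
theorem jWc : band (incr (fun w => keyB 693 (jL.map Lev.b) (apL (nat_lit 10) (nat_lit 1023) jT w)) jW 0) (Nat.ble (chainOrd 693 jL) jW.length) = true := by decide +kernel
theorem nr_0 : allR 0 100 (nor2Chk (nat_lit 10) (nat_lit 1023) (U62.L.map Lev.b) jT uT bDd cR jW 224 8 eCE) = true := by decide +kernel
theorem nr_1 : allR 100 100 (nor2Chk (nat_lit 10) (nat_lit 1023) (U62.L.map Lev.b) jT uT bDd cR jW 224 8 eCE) = true := by decide +kernel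
theorem nr_2 : allR 200 100 (nor2Chk (nat_lit 10) (nat_lit 1023) (U62.L.map Lev.b) jT uT bDd cR jW 224 8 eCE) = true := by decide +kernel
theorem nr_3 : allR 300 100 (nor2Chk (nat_lit 10) (nat_lit 1023) (U62.L.map Lev.b) jT uT bDd cR jW 224 8 eCE) = true := by decide +kernel
theorem nr_4 : allR 400 100 (nor2Chk (nat_lit 10) (nat_lit 1023) (U62.L.map Lev.b) jT uT bDd cR jW 224 8 eCE) = true := by decide +kernel
theorem nr_5 : allR 500 100 (nor2Chk (nat_lit 10) (nat_lit 1023) (U62.L.map Lev.b) jT uT bDd cR jW 224 8 eCE) = true := by decide +kernel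
theorem nr_6 : allR 600 100 (nor2Chk (nat_lit 10) (nat_lit 1023) (U62.L.map Lev.b) jT uT bDd cR jW 224 8 eCE) = true := by decide +kernel
theorem nr_7 : allR 700 100 (nor2Chk (nat_lit 10) (nat_lit 1023) (U62.L.map Lev.b) jT uT bDd cR jW 224 8 eCE) = true := by decide +kernel
theorem nr_8 : allR 800 100 (nor2Chk (nat_lit 10) (nat_lit 1023) (U62.L.map Lev.b) jT uT bDd cR jW 224 8 eCE) = true := by decide +kernel
theorem nr_9 : allR 900 100 (nor2Chk (nat_lit 10) (nat_lit 1023) (U62.L.map Lev.b) jT uT bDd cR jW 224 8 eCE) = true := by decide +kernel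
theorem nr_10 : allR 1000 100 (nor2Chk (nat_lit 10) (nat_lit 1023) (U62.L.map Lev.b) jT uT bDd cR jW 224 8 eCE) = true := by decide +kernel
theorem nr_11 : allR 1100 100 (nor2Chk (nat_lit 10) (nat_lit 1023) (U62.L.map Lev.b) jT uT bDd cR jW 224 8 eCE) = true := by decide +kernel
theorem nr_12 : allR 1200 100 (nor2Chk (nat_lit 10) (nat_lit 1023) (U62.L.map Lev.b) jT uT bDd cR jW 224 8 eCE) = true := by decide +kernel
theorem nr_13 : allR 1300 44 (nor2Chk (nat_lit 10) (nat_lit 1023) (U62.L.map Lev.b) jT uT bDd cR jW 224 8 eCE) = true := by decide +kernel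
theorem nr : allR 0 1344 (nor2Chk (nat_lit 10) (nat_lit 1023) (U62.L.map Lev.b) jT uT bDd cR jW 224 8 eCE) = true := (allR_add (allR_add (allR_add (allR_add (allR_add (allR_add (allR_add (allR_add (allR_add (allR_add (allR_add (allR_add (allR_add nr_0 nr_1) nr_2) nr_3) nr_4) nr_5) nr_6) nr_7) nr_8) nr_9) nr_10) nr_11) nr_12) nr_13)

end H8.U6
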