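import Cfsg.Agent.H8.UAD
import Cfsg.Agent.H8.MU62

/-! H8.UBD: more tables for U6(2) (generated certificate) -/

set_option autoImplicit false
set_option maxRecDepth 200000

set_option linter.all false
open Subgroup Cfsg

namespace H8.UA

noncomputable def q2 : List ℕ := [nat_lit 6, nat_lit 7, nat_lit 8, nat_lit 7, nat_lit 4, nat_lit 1, nat_lit 7, nat_lit 5, nat_lit 3, nat_lit 1]
theorem sq2 : eqB (U62.L.map Lev.b) (fun a => apL (nat_lit 10) (nat_lit 1023) U62.T q2 (apL (nat_lit 10) (nat_lit 1023) U62.T q2 a)) (ap (nat_lit 10) (nat_lit 1023) (rT.get 2)) = true := by decide +kernel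
noncomputable def wx : List ℕ := [nat_lit 8, nat_lit 2]
noncomputable def wy1 : List ℕ := [nat_lit 6, nat_lit 8, nat_lit 0, nat_lit 8, nat_lit 0, nat_lit 3, nat_lit 2, nat_lit 1]
noncomputable def wy2 : List ℕ := [nat_lit 6, nat_lit 8, nat_lit 0, nat_lit 7, nat_lit 6, nat_lit 0, nat_lit 3, nat_lit 0]
theorem xr : eqB (U62.L.map Lev.b) (apL (nat_lit 10) (nat_lit 1023) U62.T wx) (ap (nat_lit 10) (nat_lit 1023) (rT.get 3)) = true := by decide +kernel
theorem pc1 : U62.c2M.pairChk (topN U62.L) (weqOn (nat_lit 10) (nat_lit 1023) U62.T (U62.L.map Lev.b)) (wx ++ wy1) (wy1 ++ wx) 1 0 = true := by decide +kernel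
theorem pc2 : U62.c2M.pairChk (topN U62.L) (weqOn (nat_lit 10) (nat_lit 1023) U62.T (U62.L.map Lev.b)) (wx ++ wy2) (wy2 ++ wx) 0 1 = true := by decide +kernel
def frcLL {α β : Type} (l : List α) : (List α → β) → β := List.rec (fun k => k []) (fun a _ r k => r fun t => k (a :: t)) l
theorem frcLL_eq {α β : Type} (l : List α) (k : List α → β) : frcLL l k = k l := by
  induction l generalizing k with
  | nil => rfl
  | cons a l ih => exact ih _
noncomputable def cmB (u a : List ℕ) : Bool := eqB (U62.L.map Lev.b) (fun p => apL (nat_lit 10) (nat_lit 1023) aT a (apL (nat_lit 10) (nat_lit 1023) uT u p)) fun p => apL (nat_lit 10) (nat_lit 1023) uT u (apL (nat_lit 10) (nat_lit 1023) aT a p)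
noncomputable def ivB (u : List ℕ) : Bool := eqB (U62.L.map Lev.b) (fun p => apL (nat_lit 10) (nat_lit 1023) uT u (apL (nat_lit 10) (nat_lit 1023) uT u p)) fun p => p
noncomputable def thB (u : List ℕ) : Bool := bor (bnot (ivB u)) (bor (eqB (U62.L.map Lev.b) (apL (nat_lit 10) (nat_lit 1023) uT u) fun p => p) (frcLL ((aZ.map Prod.fst).filter (cmB u)) fun l =>
  band (Nat.ble l.length 32) (Nat.ble (uW.countP fun v => band (ivB v) (Nat.ble 17 (l.countP (cmB v)))) 8)))
theorem th0 : (allR 0 16 fun i => thB (uW.getD i [])) = true := by decide +kernel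
theorem th1 : (allR 16 16 fun i => thB (uW.getD i [])) = true := by decide +kernel
theorem th2 : (allR 32 16 fun i => thB (uW.getD i [])) = true := by decide +kernel
theorem th3 : (allR 48 16 fun i => thB (uW.getD i [])) = true := by decide +kernel
theorem th : (allR 0 64 fun i => thB (uW.getD i [])) = true := allR_add (allR_add (allR_add th0 th1) th2) th3
theorem ic : Nat.ble (uW.countP ivB) 28 = true := by decide +kernel
theorem sm : ∀ a < 3, ∀ b < 2, ∀ c < 3, (aZ.map fun q => [1, a, b, c].getD q.2.1.1 0).sum = 1 + 21 * a + 210 * b + 280 * c := by decide +kernel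
noncomputable def e1 : List ℕ := [nat_lit 0, nat_lit 1, nat_lit 2, nat_lit 3, nat_lit 4, nat_lit 5, nat_lit 6, nat_lit 7]
noncomputable def e2 : List ℕ := [nat_lit 0, nat_lit 1, nat_lit 3, nat_lit 4, nat_lit 5, nat_lit 7]
theorem ec0 : cjB U62.T (apL (nat_lit 10) (nat_lit 1023) aT e1) (ap (nat_lit 10) (nat_lit 1023) (rT.get 1)) [nat_lit 9, nat_lit 5, nat_lit 9, nat_lit 2, nat_lit 0, nat_lit 9, nat_lit 7, nat_lit 4, nat_lit 1, nat_lit 8, nat_lit 7, nat_lit 6, nat_lit 3, nat_lit 7] = true := by decide +kernel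
theorem ec1 : cjB U62.T (apL (nat_lit 10) (nat_lit 1023) aT e2) (ap (nat_lit 10) (nat_lit 1023) (rT.get 2)) [nat_lit 5, nat_lit 9, nat_lit 4, nat_lit 0, nat_lit 9, nat_lit 5, nat_lit 1, nat_lit 8, nat_lit 7, nat_lit 2, nat_lit 4, nat_lit 4] = true := by decide +kernel
theorem ec2 : cjB U62.T (fun p => apL (nat_lit 10) (nat_lit 1023) aT e1 (apL (nat_lit 10) (nat_lit 1023) aT e2 p)) (ap (nat_lit 10) (nat_lit 1023) (rT.get 3)) [nat_lit 0, nat_lit 9, nat_lit 8, nat_lit 2, nat_lit 9, nat_lit 0, nat_lit 8, nat_lit 3, nat_lit 1, nat_lit 8, nat_lit 3, nat_lit 6, nat_lit 7] = true := by decide +kernel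
noncomputable def f1 : List ℕ := [nat_lit 0, nat_lit 1, nat_lit 3, nat_lit 4, nat_lit 5, nat_lit 7, nat_lit 8]
noncomputable def f2 : List ℕ := [nat_lit 0, nat_lit 1, nat_lit 2, nat_lit 3, nat_lit 4, nat_lit 6]
theorem fc0 : cjB U62.T (apL (nat_lit 10) (nat_lit 1023) aT f1) (ap (nat_lit 10) (nat_lit 1023) (rT.get 3)) [nat_lit 7, nat_lit 8, nat_lit 9, nat_lit 3, nat_lit 1, nat_lit 9, nat_lit 0, nat_lit 6, nat_lit 7, nat_lit 8, nat_lit 3, nat_lit 8, nat_lit 6, nat_lit 7, nat_lit 5, nat_lit 0] = true := by decide +kernel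
theorem fc1 : cjB U62.T (apL (nat_lit 10) (nat_lit 1023) aT f2) (ap (nat_lit 10) (nat_lit 1023) (rT.get 3)) [nat_lit 7, nat_lit 9, nat_lit 3, nat_lit 1, nat_lit 9, nat_lit 6, nat_lit 8, nat_lit 3, nat_lit 8, nat_lit 5, nat_lit 4, nat_lit 7, nat_lit 0, nat_lit 3, nat_lit 2, nat_lit 0] = true := by decide +kernel
theorem fc2 : cjB U62.T (fun p => apL (nat_lit 10) (nat_lit 1023) aT f1 (apL (nat_lit 10) (nat_lit 1023) aT f2 p)) (ap (nat_lit 10) (nat_lit 1023) (rT.get 2)) [nat_lit 1, nat_lit 7, nat_lit 6, nat_lit 6, nat_lit 8, nat_lit 7, nat_lit 0, nat_lit 6, nat_lit 7, nat_lit 3, nat_lit 5, nat_lit 3, nat_lit 1] = true := by decide +kernel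

end H8.UA
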