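import Cfsg.Agent.H8.GA8v
import Cfsg.Agent.H8.SpecC

/-! H8.VA8v: the group `H = 2^6 : A8` and its element orders (generated certificate) -/

set_option autoImplicit false
set_option maxRecDepth 200000

open Matrix

namespace H8.A8v

noncomputable def VT : ℕ := (nat_lit 0xa6d975aeafbce3057f79c61f38c3c61c3810204081)
noncomputable abbrev LD0 : LD := ⟨6, 2, (nat_lit 1), (nat_lit 1), (nat_lit 6), (nat_lit 63), VT, 0⟩
theorem bas : LD0.basChk 28 = true := by decide +kernel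
noncomputable def AT : Tr ℕ := (.node (nat_lit 1) (.leaf (nat_lit 0x8102041c6)) (.leaf (nat_lit 0x428122061)))
theorem lin0 : LD0.linR (nat_lit 5) (nat_lit 31) (G0.get 0) (AT.get 0) 0 28 = true := by decide +kernel
theorem lin1 : LD0.linR (nat_lit 5) (nat_lit 31) (G0.get 1) (AT.get 1) 0 28 = true := by decide +kernel
theorem exlin : ∃ φ : P →* MulAut LD0.V, LD0.IsLin φ := LD.exists_lin gen bas AT fun j hj => by
    interval_cases j
    exacts [lin0, lin1]
noncomputable def φ : P →* MulAut LD0.V := exlin.choose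
theorem isl : LD0.IsLin φ := exlin.choose_spec
abbrev H := LD0.V ⋊[φ] P
theorem nor : ∃ N : Subgroup H, N.Normal ∧ N ≠ ⊥ ∧ Group.IsSolvable N := @sd_normal _ _ _ _ _ (LD0.nontriv (by norm_num) (by norm_num))
theorem cardH : Nat.card H = 1290240 := (LD.card_sd card).trans (by norm_num)
noncomputable def vt0 : ℕ := (nat_lit 0x734857b2fbd6716ad2705a92839a3218820)
noncomputable def vt1 : ℕ := (nat_lit 0xa4e51ac1ee690acbef565a92839b1918820)
noncomputable def vt2 : ℕ := (nat_lit 0xa4cb2ac2fbd62365a8697b98839b2468820)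
noncomputable def vt3 : ℕ := (nat_lit 0xde23abd96a24b29409a7ad20f618732b820)
noncomputable def vt4 : ℕ := (nat_lit 0xd6f38b5e13a4a35635cf48d660a0a4508e0)
noncomputable def vt5 : ℕ := (nat_lit 0xdeb38bdab49ca307b9ac5a928398a418820)
noncomputable def vt6 : ℕ := (nat_lit 0xddf38b6a14aca33639ed4a860408a4584c7)
noncomputable def vt7 : ℕ := (nat_lit 0x4b0c785aab7841798dbaa2b65c650271251)
noncomputable def vt8 : ℕ := (nat_lit 0xde33ab5e142ca35389a84a96c78663238c0)
noncomputable def vt9 : ℕ := (nat_lit 0xd633bbdab32ca30089c658d2f61e8a23500)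
noncomputable def vt10 : ℕ := (nat_lit 0x9523385584760af38c48b66e60adbada920)
noncomputable def vt11 : ℕ := (nat_lit 0x94e34ac1e46e0ac0a846be6c83a5dbd0d60)
noncomputable def vt12 : ℕ := (nat_lit 0xc6e3ab5d2454b2b3b448816a60bc73a3980)
noncomputable def vt13 : ℕ := (nat_lit 0xc6a3bbd9641cb290b846a96083b1549b5e0)
noncomputable def vt14 : ℕ := (nat_lit 0x2bb0d63d325648b3cc48b46e60d47add200)
noncomputable def vt15 : ℕ := (nat_lit 0x2b70e7b1721e4890d046bc6c83c15bd4ea0)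
noncomputable def vt16 : ℕ := (nat_lit 0x8d0b3855395124b3e848661e60dc6d76ec0)
noncomputable def vt17 : ℕ := (nat_lit 0x8ccb4ac179192490ec467e1883d94e6eae0)
noncomputable def vt18 : ℕ := (nat_lit 0xa4a33ac1ee260ac40867beecb499baca820)
noncomputable def vt19 : ℕ := (nat_lit 0x7170d7b16a9648940a67beed58187a8d020)
noncomputable def vt20 : ℕ := (nat_lit 0xa44b3ac16ac924940b477b997b186dc6c20)
noncomputable def vt21 : ℕ := (nat_lit 0xdea39bd9ee6970c5a869ad2083989298820)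
noncomputable def vt22 : ℕ := (nat_lit 0x737047b2b49c4b05a869beec839a59d0820)
noncomputable def vT_0 : Tr ℕ := (.node (nat_lit 16) (.node (nat_lit 8) (.node (nat_lit 4) (.node (nat_lit 2) (.node (nat_lit 1) (.leaf vt0) (.leaf vt1)) (.node (nat_lit 3) (.leaf vt2) (.leaf vt3)))
 (.node (nat_lit 6) (.node (nat_lit 5) (.leaf vt4) (.leaf vt5)) (.node (nat_lit 7) (.leaf vt6) (.leaf vt7))))
 (.node (nat_lit 12) (.node (nat_lit 10) (.node (nat_lit 9) (.leaf vt5) (.leaf vt8)) (.node (nat_lit 11) (.leaf vt4) (.leaf vt9)))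
 (.node (nat_lit 14) (.node (nat_lit 13) (.leaf vt10) (.leaf vt11)) (.node (nat_lit 15) (.leaf vt12) (.leaf vt13)))))
 (.node (nat_lit 24) (.node (nat_lit 20) (.node (nat_lit 18) (.node (nat_lit 17) (.leaf vt14) (.leaf vt15)) (.node (nat_lit 19) (.leaf vt16) (.leaf vt17)))
 (.node (nat_lit 22) (.node (nat_lit 21) (.leaf vt5) (.leaf vt18)) (.node (nat_lit 23) (.leaf vt3) (.leaf vt19))))
 (.node (nat_lit 28) (.node (nat_lit 26) (.node (nat_lit 25) (.leaf vt20) (.leaf vt5)) (.node (nat_lit 27) (.leaf vt2) (.leaf vt21)))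
 (.node (nat_lit 30) (.node (nat_lit 29) (.leaf vt22) (.leaf vt5)) (.node (nat_lit 31) (.leaf vt0) (.leaf vt1))))))
noncomputable def vE_0 : Tr (List ℕ) := (.node (nat_lit 16) (.node (nat_lit 8) (.node (nat_lit 4) (.node (nat_lit 2) (.node (nat_lit 1) (.leaf [nat_lit 0]) (.leaf [nat_lit 1])) (.node (nat_lit 3) (.leaf [nat_lit 2]) (.leaf [nat_lit 3])))
 (.node (nat_lit 6) (.node (nat_lit 5) (.leaf [nat_lit 4]) (.leaf [])) (.node (nat_lit 7) (.leaf [nat_lit 5, nat_lit 0, nat_lit 5]) (.leaf [nat_lit 5]))))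
 (.node (nat_lit 12) (.node (nat_lit 10) (.node (nat_lit 9) (.leaf []) (.leaf [nat_lit 4, nat_lit 3, nat_lit 4, nat_lit 3, nat_lit 4])) (.node (nat_lit 11) (.leaf [nat_lit 4]) (.leaf [nat_lit 3, nat_lit 4, nat_lit 3, nat_lit 4])))
 (.node (nat_lit 14) (.node (nat_lit 13) (.leaf [nat_lit 2, nat_lit 3, nat_lit 4]) (.leaf [nat_lit 4, nat_lit 2, nat_lit 3, nat_lit 4])) (.node (nat_lit 15) (.leaf [nat_lit 3, nat_lit 4]) (.leaf [nat_lit 4, nat_lit 3, nat_lit 4])))))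
 (.node (nat_lit 24) (.node (nat_lit 20) (.node (nat_lit 18) (.node (nat_lit 17) (.leaf [nat_lit 0, nat_lit 3, nat_lit 4]) (.leaf [nat_lit 4, nat_lit 0, nat_lit 3, nat_lit 4])) (.node (nat_lit 19) (.leaf [nat_lit 1, nat_lit 3, nat_lit 4]) (.leaf [nat_lit 4, nat_lit 1, nat_lit 3, nat_lit 4])))
 (.node (nat_lit 22) (.node (nat_lit 21) (.leaf []) (.leaf [nat_lit 2, nat_lit 3])) (.node (nat_lit 23) (.leaf [nat_lit 3]) (.leaf [nat_lit 0, nat_lit 3]))))
 (.node (nat_lit 28) (.node (nat_lit 26) (.node (nat_lit 25) (.leaf [nat_lit 1, nat_lit 3]) (.leaf [])) (.node (nat_lit 27) (.leaf [nat_lit 2]) (.leaf [nat_lit 0, nat_lit 2])))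
 (.node (nat_lit 30) (.node (nat_lit 29) (.leaf [nat_lit 1, nat_lit 2]) (.leaf [])) (.node (nat_lit 31) (.leaf [nat_lit 0]) (.leaf [nat_lit 1]))))))
theorem vw_0 : vT_0.all2 (fun c w => isProd 28 (nat_lit 5) (nat_lit 31) T c w) vE_0 = true := by decide +kernel
noncomputable def vT : Tr ℕ := vT_0
noncomputable def vE : Tr (List ℕ) := vE_0
theorem vlets : Lets P 28 (nat_lit 5) (nat_lit 31) (Fin.ofNat 28) vT := lets_words lets vE vw_0
def vL : List Lv := [((nat_lit 2), (nat_lit 20), (nat_lit 5)), ((nat_lit 3), (nat_lit 25), (nat_lit 4)), ((nat_lit 4), (nat_lit 29), (nat_lit 3))]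
theorem vchk : enChk 28 (nat_lit 5) (nat_lit 31) vT L0 (chainOrd 28 [L1, L2, L3, L4]) 5 3 (nat_lit 0x4030301040004030002000104040203040402030004000103030400) (nat_lit 0x3020101030203040302000202040301030302030004010202050100) ((1, 8, 12) :: vL) = true := by decide +kernel
theorem vr0 : enR (nat_lit 5) (nat_lit 31) vT (LD0.leafV B 15 [nat_lit 15, nat_lit 12, nat_lit 10, nat_lit 8, nat_lit 7, nat_lit 6, nat_lit 5, nat_lit 4, nat_lit 3, nat_lit 2, nat_lit 1]) vL (5 + 0) 8 12 = true := by decide +kernel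
theorem vr1_0 : enR (nat_lit 5) (nat_lit 31) vT (LD0.leafV B 15 [nat_lit 15, nat_lit 12, nat_lit 10, nat_lit 8, nat_lit 7, nat_lit 6, nat_lit 5, nat_lit 4, nat_lit 3, nat_lit 2, nat_lit 1]) vL (5 + 1) (8 + 0) 6 = true := by decide +kernel
theorem vr1_1 : enR (nat_lit 5) (nat_lit 31) vT (LD0.leafV B 15 [nat_lit 15, nat_lit 12, nat_lit 10, nat_lit 8, nat_lit 7, nat_lit 6, nat_lit 5, nat_lit 4, nat_lit 3, nat_lit 2, nat_lit 1]) vL (5 + 1) (8 + 6) 6 = true := by decide +kernel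
theorem vr1 : enR (nat_lit 5) (nat_lit 31) vT (LD0.leafV B 15 [nat_lit 15, nat_lit 12, nat_lit 10, nat_lit 8, nat_lit 7, nat_lit 6, nat_lit 5, nat_lit 4, nat_lit 3, nat_lit 2, nat_lit 1]) vL (5 + 1) 8 12 = true := (enR_add vr1_0 vr1_1)
theorem vr2_0 : enR (nat_lit 5) (nat_lit 31) vT (LD0.leafV B 15 [nat_lit 15, nat_lit 12, nat_lit 10, nat_lit 8, nat_lit 7, nat_lit 6, nat_lit 5, nat_lit 4, nat_lit 3, nat_lit 2, nat_lit 1]) vL (5 + 2) (8 + 0) 6 = true := by decide +kernel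
theorem vr2_1 : enR (nat_lit 5) (nat_lit 31) vT (LD0.leafV B 15 [nat_lit 15, nat_lit 12, nat_lit 10, nat_lit 8, nat_lit 7, nat_lit 6, nat_lit 5, nat_lit 4, nat_lit 3, nat_lit 2, nat_lit 1]) vL (5 + 2) (8 + 6) 6 = true := by decide +kernel
theorem vr2 : enR (nat_lit 5) (nat_lit 31) vT (LD0.leafV B 15 [nat_lit 15, nat_lit 12, nat_lit 10, nat_lit 8, nat_lit 7, nat_lit 6, nat_lit 5, nat_lit 4, nat_lit 3, nat_lit 2, nat_lit 1]) vL (5 + 2) 8 12 = true := (enR_add vr2_0 vr2_1)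
theorem vall : ∀ g : P, ∃ c f, RepF 28 (Fin.ofNat 28) f (c * g * c⁻¹) ∧ (LD0.leafV B 15 [nat_lit 15, nat_lit 12, nat_lit 10, nat_lit 8, nat_lit 7, nat_lit 6, nat_lit 5, nat_lit 4, nat_lit 3, nat_lit 2, nat_lit 1]) f = true :=
  enum_all std vlets vchk fun j hj => by
    interval_cases j
    exacts [vr0, vr1, vr2]
theorem witH : ∀ x ∈ [7, 8, 10, 12, 15], x ∈ Spec H :=
  LD.sd_wit isl (by norm_num) lets base [(7, 28, [nat_lit 5, nat_lit 3, nat_lit 4]), (4, 0, [nat_lit 3, nat_lit 5]), (5, 0, [nat_lit 3, nat_lit 0]), (6, 1, [nat_lit 0, nat_lit 4]), (15, 28, [nat_lit 0, nat_lit 3, nat_lit 5, nat_lit 4])] (by decide +kernel)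
theorem specH : SpecL H [1, 2, 3, 4, 5, 6, 7, 8, 10, 12, 15] := SpecL.of (fun g => by
    have := LD.sd_specU isl bas (by norm_num) base (by decide) vall g
    revert this; generalize orderOf g = a; simp; omega) witH (by decide)

end H8.A8v
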