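import Cfsg.Agent.H8.GD24v
import Cfsg.Agent.H8.SpecC

/-! H8.VD24v: the Frobenius group `H = 7^4 : (3 : 8)` (generated certificate) -/

set_option autoImplicit false
set_option maxRecDepth 200000

open Matrix

namespace H8.D24v

noncomputable def VT : ℕ := (nat_lit 0xa9e71cc4c68bb74c000f414b1800090300065618e33b397448b10b0b4036200040008001)
noncomputable abbrev LD0 : LD := ⟨4, 7, (nat_lit 3), (nat_lit 7), (nat_lit 12), (nat_lit 4095), VT, 0⟩
theorem bas : LD0.basChk 24 = true := by decide +kernel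
noncomputable def AT : Tr ℕ := (.node (nat_lit 1) (.leaf (nat_lit 0x4005002716f0)) (.leaf (nat_lit 0x240c11c30620)))
theorem lin0 : LD0.linR (nat_lit 5) (nat_lit 31) (G0.get 0) (AT.get 0) 0 24 = true := by decide +kernel
theorem lin1 : LD0.linR (nat_lit 5) (nat_lit 31) (G0.get 1) (AT.get 1) 0 24 = true := by decide +kernel
theorem exlin : ∃ φ : P →* MulAut LD0.V, LD0.IsLin φ := LD.exists_lin gen bas AT fun j hj => by
    interval_cases j
    exacts [lin0, lin1]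
noncomputable def φ : P →* MulAut LD0.V := exlin.choose
theorem isl : LD0.IsLin φ := exlin.choose_spec
abbrev H := LD0.V ⋊[φ] P
theorem nor : ∃ N : Subgroup H, N.Normal ∧ N ≠ ⊥ ∧ Group.IsSolvable N := @sd_normal _ _ _ _ _ (LD0.nontriv (by norm_num) (by norm_num))
theorem cardH : Nat.card H = 57624 := (LD.card_sd card).trans (by norm_num)
noncomputable def vt0 : ℕ := (nat_lit 0xbdab49ca307b9ac5a928398a418820)
noncomputable def vt1 : ℕ := (nat_lit 0xb56f2a4e0f8b1cd525634144039881)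
noncomputable def vt2 : ℕ := (nat_lit 0x20417b56939460f7358b520e648ca2)
noncomputable def vt3 : ℕ := (nat_lit 0x31444082f6ad2728c1ee6ad48624e3)
noncomputable def vt4 : ℕ := (nat_lit 0xaded3951f18358e4ad47188c141404)
noncomputable def vt5 : ℕ := (nat_lit 0x8095bda72a3e306b1c959c62520c5)
noncomputable def vt6 : ℕ := (nat_lit 0x1036ade549c1f1639aa48d0559c46)
noncomputable def vt7 : ℕ := (nat_lit 0x288c0206d5bca9383e2c729236ad07)
noncomputable def vt8 : ℕ := (nat_lit 0x118a1012b7b4e547c60d6256772868)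
noncomputable def vt9 : ℕ := (nat_lit 0x41c662888105ed5a4e51839ab7b149)
noncomputable def vt10 : ℕ := (nat_lit 0x38d0231420256f69ca8f8b5898396a)
noncomputable def vt11 : ℕ := (nat_lit 0x1a0e5118040dab7952707b1ca8b52b)
noncomputable def vt12 : ℕ := (nat_lit 0x5a92838cc511020bdab49c60e93dac)
noncomputable def vt13 : ℕ := (nat_lit 0x5256341ca230081b56f2a41ec9c5cd)
noncomputable def vt14 : ℕ := (nat_lit 0x4ad471a04628404aded393e2da418e)
noncomputable def vt15 : ℕ := (nat_lit 0x7358b52507198a220417b5271aca0f)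
noncomputable def vt16 : ℕ := (nat_lit 0x6b1c95a8e3408c508095bce4fb5230)
noncomputable def vt17 : ℕ := (nat_lit 0x639aa4ac683944601036aca90bcdf1)
noncomputable def vt18 : ℕ := (nat_lit 0x8c1ee6b16a4a0e3314440ded405672)
noncomputable def vt19 : ℕ := (nat_lit 0x83e2c7354958d07288c025ab20de93)
noncomputable def vt20 : ℕ := (nat_lit 0x7c60d6392b51c68118a1056f325a54)
noncomputable def vt21 : ℕ := (nat_lit 0xa4e5183dcd62d4941c6629037102d5)
noncomputable def vt22 : ℕ := (nat_lit 0x9ca8f8c1ac7256a38d0230415292f6)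
noncomputable def vt23 : ℕ := (nat_lit 0x952707c58e6a92b1a0e510096306b7)
noncomputable def vT_0 : Tr ℕ := (.node (nat_lit 12) (.node (nat_lit 6) (.node (nat_lit 3) (.node (nat_lit 1) (.leaf vt0) (.node (nat_lit 2) (.leaf vt1) (.leaf vt2))) (.node (nat_lit 4) (.leaf vt3) (.node (nat_lit 5) (.leaf vt4) (.leaf vt5))))
 (.node (nat_lit 9) (.node (nat_lit 7) (.leaf vt6) (.node (nat_lit 8) (.leaf vt7) (.leaf vt8))) (.node (nat_lit 10) (.leaf vt9) (.node (nat_lit 11) (.leaf vt10) (.leaf vt11)))))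
 (.node (nat_lit 18) (.node (nat_lit 15) (.node (nat_lit 13) (.leaf vt12) (.node (nat_lit 14) (.leaf vt13) (.leaf vt14))) (.node (nat_lit 16) (.leaf vt15) (.node (nat_lit 17) (.leaf vt16) (.leaf vt17))))
 (.node (nat_lit 21) (.node (nat_lit 19) (.leaf vt18) (.node (nat_lit 20) (.leaf vt19) (.leaf vt20)))
 (.node (nat_lit 23) (.node (nat_lit 22) (.leaf vt21) (.leaf vt22)) (.node (nat_lit 24) (.leaf vt23) (.leaf vt0))))))
noncomputable def vE_0 : Tr (List ℕ) := (.node (nat_lit 12) (.node (nat_lit 6) (.node (nat_lit 3) (.node (nat_lit 1) (.leaf []) (.node (nat_lit 2) (.leaf [nat_lit 2, nat_lit 2, nat_lit 0]) (.leaf [nat_lit 2, nat_lit 0]))) (.node (nat_lit 4) (.leaf [nat_lit 3, nat_lit 3]) (.node (nat_lit 5) (.leaf [nat_lit 3, nat_lit 3, nat_lit 1]) (.leaf [nat_lit 0, nat_lit 2]))))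
 (.node (nat_lit 9) (.node (nat_lit 7) (.leaf [nat_lit 3]) (.node (nat_lit 8) (.leaf [nat_lit 0]) (.leaf [nat_lit 3, nat_lit 0, nat_lit 2]))) (.node (nat_lit 10) (.leaf [nat_lit 3, nat_lit 0]) (.node (nat_lit 11) (.leaf [nat_lit 0, nat_lit 3]) (.leaf [nat_lit 0, nat_lit 2, nat_lit 0])))))
 (.node (nat_lit 18) (.node (nat_lit 15) (.node (nat_lit 13) (.leaf [nat_lit 3, nat_lit 0, nat_lit 2, nat_lit 0]) (.node (nat_lit 14) (.leaf [nat_lit 1, nat_lit 1]) (.leaf [nat_lit 0, nat_lit 0]))) (.node (nat_lit 16) (.leaf [nat_lit 1, nat_lit 2]) (.node (nat_lit 17) (.leaf [nat_lit 2, nat_lit 1]) (.leaf [nat_lit 0, nat_lit 3, nat_lit 0]))))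
 (.node (nat_lit 21) (.node (nat_lit 19) (.leaf [nat_lit 2, nat_lit 2]) (.node (nat_lit 20) (.leaf [nat_lit 3, nat_lit 1, nat_lit 2]) (.leaf [nat_lit 1])))
 (.node (nat_lit 23) (.node (nat_lit 22) (.leaf [nat_lit 1, nat_lit 3]) (.leaf [nat_lit 3, nat_lit 1])) (.node (nat_lit 24) (.leaf [nat_lit 2]) (.leaf []))))))
theorem vw_0 : vT_0.all2 (fun c w => isProd 24 (nat_lit 5) (nat_lit 31) T c w) vE_0 = true := by decide +kernel
noncomputable def vT : Tr ℕ := vT_0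
noncomputable def vE : Tr (List ℕ) := vE_0
theorem vlets : Lets P 24 (nat_lit 5) (nat_lit 31) (Fin.ofNat 24) vT := lets_words lets vE vw_0
def vL : List Lv := []
theorem vchk : enChk 24 (nat_lit 5) (nat_lit 31) vT L0 (chainOrd 24 []) 0 24 (nat_lit 0) (nat_lit 0) ((0, 24, 1) :: vL) = true := by decide +kernel
theorem vr0 : enR (nat_lit 5) (nat_lit 31) vT (LD0.leafV B 12 [nat_lit 12, nat_lit 8, nat_lit 7, nat_lit 6, nat_lit 4, nat_lit 3, nat_lit 2, nat_lit 1]) vL (0 + 0) 24 1 = true := by decide +kernel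
theorem vr1 : enR (nat_lit 5) (nat_lit 31) vT (LD0.leafV B 12 [nat_lit 12, nat_lit 8, nat_lit 7, nat_lit 6, nat_lit 4, nat_lit 3, nat_lit 2, nat_lit 1]) vL (0 + 1) 24 1 = true := by decide +kernel
theorem vr2 : enR (nat_lit 5) (nat_lit 31) vT (LD0.leafV B 12 [nat_lit 12, nat_lit 8, nat_lit 7, nat_lit 6, nat_lit 4, nat_lit 3, nat_lit 2, nat_lit 1]) vL (0 + 2) 24 1 = true := by decide +kernel
theorem vr3 : enR (nat_lit 5) (nat_lit 31) vT (LD0.leafV B 12 [nat_lit 12, nat_lit 8, nat_lit 7, nat_lit 6, nat_lit 4, nat_lit 3, nat_lit 2, nat_lit 1]) vL (0 + 3) 24 1 = true := by decide +kernel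
theorem vr4 : enR (nat_lit 5) (nat_lit 31) vT (LD0.leafV B 12 [nat_lit 12, nat_lit 8, nat_lit 7, nat_lit 6, nat_lit 4, nat_lit 3, nat_lit 2, nat_lit 1]) vL (0 + 4) 24 1 = true := by decide +kernel
theorem vr5 : enR (nat_lit 5) (nat_lit 31) vT (LD0.leafV B 12 [nat_lit 12, nat_lit 8, nat_lit 7, nat_lit 6, nat_lit 4, nat_lit 3, nat_lit 2, nat_lit 1]) vL (0 + 5) 24 1 = true := by decide +kernel
theorem vr6 : enR (nat_lit 5) (nat_lit 31) vT (LD0.leafV B 12 [nat_lit 12, nat_lit 8, nat_lit 7, nat_lit 6, nat_lit 4, nat_lit 3, nat_lit 2, nat_lit 1]) vL (0 + 6) 24 1 = true := by decide +kernel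
theorem vr7 : enR (nat_lit 5) (nat_lit 31) vT (LD0.leafV B 12 [nat_lit 12, nat_lit 8, nat_lit 7, nat_lit 6, nat_lit 4, nat_lit 3, nat_lit 2, nat_lit 1]) vL (0 + 7) 24 1 = true := by decide +kernel
theorem vr8 : enR (nat_lit 5) (nat_lit 31) vT (LD0.leafV B 12 [nat_lit 12, nat_lit 8, nat_lit 7, nat_lit 6, nat_lit 4, nat_lit 3, nat_lit 2, nat_lit 1]) vL (0 + 8) 24 1 = true := by decide +kernel
theorem vr9 : enR (nat_lit 5) (nat_lit 31) vT (LD0.leafV B 12 [nat_lit 12, nat_lit 8, nat_lit 7, nat_lit 6, nat_lit 4, nat_lit 3, nat_lit 2, nat_lit 1]) vL (0 + 9) 24 1 = true := by decide +kernel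
theorem vr10 : enR (nat_lit 5) (nat_lit 31) vT (LD0.leafV B 12 [nat_lit 12, nat_lit 8, nat_lit 7, nat_lit 6, nat_lit 4, nat_lit 3, nat_lit 2, nat_lit 1]) vL (0 + 10) 24 1 = true := by decide +kernel
theorem vr11 : enR (nat_lit 5) (nat_lit 31) vT (LD0.leafV B 12 [nat_lit 12, nat_lit 8, nat_lit 7, nat_lit 6, nat_lit 4, nat_lit 3, nat_lit 2, nat_lit 1]) vL (0 + 11) 24 1 = true := by decide +kernel
theorem vr12 : enR (nat_lit 5) (nat_lit 31) vT (LD0.leafV B 12 [nat_lit 12, nat_lit 8, nat_lit 7, nat_lit 6, nat_lit 4, nat_lit 3, nat_lit 2, nat_lit 1]) vL (0 + 12) 24 1 = true := by decide +kernel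
theorem vr13 : enR (nat_lit 5) (nat_lit 31) vT (LD0.leafV B 12 [nat_lit 12, nat_lit 8, nat_lit 7, nat_lit 6, nat_lit 4, nat_lit 3, nat_lit 2, nat_lit 1]) vL (0 + 13) 24 1 = true := by decide +kernel
theorem vr14 : enR (nat_lit 5) (nat_lit 31) vT (LD0.leafV B 12 [nat_lit 12, nat_lit 8, nat_lit 7, nat_lit 6, nat_lit 4, nat_lit 3, nat_lit 2, nat_lit 1]) vL (0 + 14) 24 1 = true := by decide +kernel
theorem vr15 : enR (nat_lit 5) (nat_lit 31) vT (LD0.leafV B 12 [nat_lit 12, nat_lit 8, nat_lit 7, nat_lit 6, nat_lit 4, nat_lit 3, nat_lit 2, nat_lit 1]) vL (0 + 15) 24 1 = true := by decide +kernel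
theorem vr16 : enR (nat_lit 5) (nat_lit 31) vT (LD0.leafV B 12 [nat_lit 12, nat_lit 8, nat_lit 7, nat_lit 6, nat_lit 4, nat_lit 3, nat_lit 2, nat_lit 1]) vL (0 + 16) 24 1 = true := by decide +kernel
theorem vr17 : enR (nat_lit 5) (nat_lit 31) vT (LD0.leafV B 12 [nat_lit 12, nat_lit 8, nat_lit 7, nat_lit 6, nat_lit 4, nat_lit 3, nat_lit 2, nat_lit 1]) vL (0 + 17) 24 1 = true := by decide +kernel
theorem vr18 : enR (nat_lit 5) (nat_lit 31) vT (LD0.leafV B 12 [nat_lit 12, nat_lit 8, nat_lit 7, nat_lit 6, nat_lit 4, nat_lit 3, nat_lit 2, nat_lit 1]) vL (0 + 18) 24 1 = true := by decide +kernel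
theorem vr19 : enR (nat_lit 5) (nat_lit 31) vT (LD0.leafV B 12 [nat_lit 12, nat_lit 8, nat_lit 7, nat_lit 6, nat_lit 4, nat_lit 3, nat_lit 2, nat_lit 1]) vL (0 + 19) 24 1 = true := by decide +kernel
theorem vr20 : enR (nat_lit 5) (nat_lit 31) vT (LD0.leafV B 12 [nat_lit 12, nat_lit 8, nat_lit 7, nat_lit 6, nat_lit 4, nat_lit 3, nat_lit 2, nat_lit 1]) vL (0 + 20) 24 1 = true := by decide +kernel
theorem vr21 : enR (nat_lit 5) (nat_lit 31) vT (LD0.leafV B 12 [nat_lit 12, nat_lit 8, nat_lit 7, nat_lit 6, nat_lit 4, nat_lit 3, nat_lit 2, nat_lit 1]) vL (0 + 21) 24 1 = true := by decide +kernel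
theorem vr22 : enR (nat_lit 5) (nat_lit 31) vT (LD0.leafV B 12 [nat_lit 12, nat_lit 8, nat_lit 7, nat_lit 6, nat_lit 4, nat_lit 3, nat_lit 2, nat_lit 1]) vL (0 + 22) 24 1 = true := by decide +kernel
theorem vr23 : enR (nat_lit 5) (nat_lit 31) vT (LD0.leafV B 12 [nat_lit 12, nat_lit 8, nat_lit 7, nat_lit 6, nat_lit 4, nat_lit 3, nat_lit 2, nat_lit 1]) vL (0 + 23) 24 1 = true := by decide +kernel
theorem vall : ∀ g : P, ∃ c f, RepF 24 (Fin.ofNat 24) f (c * g * c⁻¹) ∧ (LD0.leafV B 12 [nat_lit 12, nat_lit 8, nat_lit 7, nat_lit 6, nat_lit 4, nat_lit 3, nat_lit 2, nat_lit 1]) f = true :=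
  enum_all std vlets vchk fun j hj => by
    interval_cases j
    exacts [vr0, vr1, vr2, vr3, vr4, vr5, vr6, vr7, vr8, vr9, vr10, vr11, vr12, vr13, vr14, vr15, vr16, vr17, vr18, vr19, vr20, vr21, vr22, vr23]
theorem witH : ∀ x ∈ [12, 8, 7], x ∈ Spec H :=
  LD.sd_wit isl (by norm_num) lets base [(12, 24, [nat_lit 1]), (8, 24, [nat_lit 2, nat_lit 1]), (1, 0, [nat_lit 1, nat_lit 0])] (by decide +kernel)
theorem specH : SpecL H [1, 2, 3, 4, 6, 7, 8, 12] := SpecL.of (fun g => by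
    have := LD.sd_specU isl bas (by norm_num) base (by decide) vall g
    revert this; generalize orderOf g = a; simp; omega) witH (by decide)

end H8.D24v
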