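import Cfsg.Agent.H8.GL24v
import Cfsg.Agent.H8.SpecC

/-! H8.VL24v: the group `H = V : SL(2,4)` and its element orders (generated certificate) -/

set_option autoImplicit false
set_option maxRecDepth 200000

open Matrix

namespace H8.L24v

noncomputable def VT : ℕ := (nat_lit 0x67fdbeac9538421)
noncomputable abbrev LD0 : LD := ⟨4, 2, (nat_lit 1), (nat_lit 1), (nat_lit 4), (nat_lit 15), VT, 0⟩
theorem bas : LD0.basChk 15 = true := by decide +kernel
noncomputable def AT : Tr ℕ := (.node (nat_lit 1) (.leaf (nat_lit 33353)) (.leaf (nat_lit 51250)))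
theorem lin0 : LD0.linR (nat_lit 4) (nat_lit 15) (G0.get 0) (AT.get 0) 0 15 = true := by decide +kernel
theorem lin1 : LD0.linR (nat_lit 4) (nat_lit 15) (G0.get 1) (AT.get 1) 0 15 = true := by decide +kernel
theorem exlin : ∃ φ : P →* MulAut LD0.V, LD0.IsLin φ := LD.exists_lin gen bas AT fun j hj => by
    interval_cases j
    exacts [lin0, lin1]
noncomputable def φ : P →* MulAut LD0.V := exlin.choose
theorem isl : LD0.IsLin φ := exlin.choose_spec
abbrev H := LD0.V ⋊[φ] P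
theorem nor : ∃ N : Subgroup H, N.Normal ∧ N ≠ ⊥ ∧ Group.IsSolvable N := @sd_normal _ _ _ _ _ (LD0.nontriv (by norm_num) (by norm_num))
theorem cardH : Nat.card H = 960 := (LD.card_sd card).trans (by norm_num)
noncomputable def vt0 : ℕ := (nat_lit 0x27bca54d6980e13)
noncomputable def vt1 : ℕ := (nat_lit 0xc5e2a7096d34b18)
noncomputable def vt2 : ℕ := (nat_lit 0xed3ab678921c540)
noncomputable def vt3 : ℕ := (nat_lit 0xedcba9876543210)
noncomputable def vt4 : ℕ := (nat_lit 0x321b59608a4edc7)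
noncomputable def vt5 : ℕ := (nat_lit 0x580b39d12e4a67c)
noncomputable def vt6 : ℕ := (nat_lit 0xd0751824a3cb96e)
noncomputable def vt7 : ℕ := (nat_lit 0xe43629c1b758ad)
noncomputable def vt8 : ℕ := (nat_lit 0xb92ead356708c14)
noncomputable def vT_0 : Tr ℕ := (.node (nat_lit 6) (.node (nat_lit 3) (.node (nat_lit 1) (.leaf vt0) (.node (nat_lit 2) (.leaf vt1) (.leaf vt2))) (.node (nat_lit 4) (.leaf vt3) (.node (nat_lit 5) (.leaf vt4) (.leaf vt5))))
 (.node (nat_lit 9) (.node (nat_lit 7) (.leaf vt6) (.node (nat_lit 8) (.leaf vt7) (.leaf vt3))) (.node (nat_lit 10) (.leaf vt0) (.node (nat_lit 11) (.leaf vt8) (.leaf vt1)))))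
noncomputable def vE_0 : Tr (List ℕ) := (.node (nat_lit 6) (.node (nat_lit 3) (.node (nat_lit 1) (.leaf [nat_lit 0]) (.node (nat_lit 2) (.leaf [nat_lit 1]) (.leaf [nat_lit 2]))) (.node (nat_lit 4) (.leaf []) (.node (nat_lit 5) (.leaf [nat_lit 2, nat_lit 1, nat_lit 2]) (.leaf [nat_lit 2, nat_lit 0, nat_lit 2]))))
 (.node (nat_lit 9) (.node (nat_lit 7) (.leaf [nat_lit 2, nat_lit 1, nat_lit 2, nat_lit 0, nat_lit 2]) (.node (nat_lit 8) (.leaf [nat_lit 2, nat_lit 0, nat_lit 2, nat_lit 1, nat_lit 2]) (.leaf []))) (.node (nat_lit 10) (.leaf [nat_lit 0]) (.node (nat_lit 11) (.leaf [nat_lit 1, nat_lit 0]) (.leaf [nat_lit 1])))))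
theorem vw_0 : vT_0.all2 (fun c w => isProd 15 (nat_lit 4) (nat_lit 15) T c w) vE_0 = true := by decide +kernel
noncomputable def vT : Tr ℕ := vT_0
noncomputable def vE : Tr (List ℕ) := vE_0
theorem vlets : Lets P 15 (nat_lit 4) (nat_lit 15) (Fin.ofNat 15) vT := lets_words lets vE vw_0
def vL : List Lv := []
theorem vchk : enChk 15 (nat_lit 4) (nat_lit 15) vT L0 (chainOrd 15 [L1]) 2 6 (nat_lit 0x10000000001000000010001010001) (nat_lit 0x10100010001010000020001020002) ((0, 8, 4) :: vL) = true := by decide +kernel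
theorem vr0 : enR (nat_lit 4) (nat_lit 15) vT (LD0.leafV B 5 [nat_lit 5, nat_lit 4, nat_lit 3, nat_lit 2, nat_lit 1]) vL (2 + 0) 8 4 = true := by decide +kernel
theorem vr1 : enR (nat_lit 4) (nat_lit 15) vT (LD0.leafV B 5 [nat_lit 5, nat_lit 4, nat_lit 3, nat_lit 2, nat_lit 1]) vL (2 + 1) 8 4 = true := by decide +kernel
theorem vr2 : enR (nat_lit 4) (nat_lit 15) vT (LD0.leafV B 5 [nat_lit 5, nat_lit 4, nat_lit 3, nat_lit 2, nat_lit 1]) vL (2 + 2) 8 4 = true := by decide +kernel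
theorem vr3 : enR (nat_lit 4) (nat_lit 15) vT (LD0.leafV B 5 [nat_lit 5, nat_lit 4, nat_lit 3, nat_lit 2, nat_lit 1]) vL (2 + 3) 8 4 = true := by decide +kernel
theorem vr4 : enR (nat_lit 4) (nat_lit 15) vT (LD0.leafV B 5 [nat_lit 5, nat_lit 4, nat_lit 3, nat_lit 2, nat_lit 1]) vL (2 + 4) 8 4 = true := by decide +kernel
theorem vr5 : enR (nat_lit 4) (nat_lit 15) vT (LD0.leafV B 5 [nat_lit 5, nat_lit 4, nat_lit 3, nat_lit 2, nat_lit 1]) vL (2 + 5) 8 4 = true := by decide +kernel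
theorem vall : ∀ g : P, ∃ c f, RepF 15 (Fin.ofNat 15) f (c * g * c⁻¹) ∧ (LD0.leafV B 5 [nat_lit 5, nat_lit 4, nat_lit 3, nat_lit 2, nat_lit 1]) f = true :=
  enum_all std vlets vchk fun j hj => by
    interval_cases j
    exacts [vr0, vr1, vr2, vr3, vr4, vr5]
theorem witH : ∀ x ∈ [3, 4, 5], x ∈ Spec H :=
  LD.sd_wit isl (by norm_num) lets base [(3, 15, [nat_lit 0, nat_lit 1, nat_lit 2]), (2, 0, [nat_lit 1]), (5, 15, [nat_lit 1, nat_lit 2])] (by decide +kernel)
theorem specH : SpecL H [1, 2, 3, 4, 5] := SpecL.of (fun g => by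
    have := LD.sd_specU isl bas (by norm_num) base (by decide) vall g
    revert this; generalize orderOf g = a; simp; omega) witH (by decide)

end H8.L24v
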