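import Cfsg.Agent.H8.GL28v
import Cfsg.Agent.H8.SpecC

/-! H8.VL28v: the group `H = V : SL(2,8)` and its element orders (generated certificate) -/

set_option autoImplicit false
set_option maxRecDepth 200000

open Matrix

namespace H8.L28v

noncomputable def VT : ℕ := (nat_lit 0x2ea68fce1956324be9b06714fbe577451f32af338a946bc59b0eb7248bab352f4b7737d3e526379f9e1476810204081)
noncomputable abbrev LD0 : LD := ⟨6, 2, (nat_lit 1), (nat_lit 1), (nat_lit 6), (nat_lit 63), VT, 0⟩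
theorem bas : LD0.basChk 63 = true := by decide +kernel
noncomputable def AT : Tr ℕ := (.node (nat_lit 1) (.leaf (nat_lit 0x210802111)) (.leaf (nat_lit 0xe0c0a8a70)))
theorem lin0 : LD0.linR (nat_lit 6) (nat_lit 63) (G0.get 0) (AT.get 0) 0 63 = true := by decide +kernel
theorem lin1 : LD0.linR (nat_lit 6) (nat_lit 63) (G0.get 1) (AT.get 1) 0 63 = true := by decide +kernel
theorem exlin : ∃ φ : P →* MulAut LD0.V, LD0.IsLin φ := LD.exists_lin gen bas AT fun j hj => by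
    interval_cases j
    exacts [lin0, lin1]
noncomputable def φ : P →* MulAut LD0.V := exlin.choose
theorem isl : LD0.IsLin φ := exlin.choose_spec
abbrev H := LD0.V ⋊[φ] P
theorem nor : ∃ N : Subgroup H, N.Normal ∧ N ≠ ⊥ ∧ Group.IsSolvable N := @sd_normal _ _ _ _ _ (LD0.nontriv (by norm_num) (by norm_num))
theorem cardH : Nat.card H = 32256 := (LD.card_sd card).trans (by norm_num)
noncomputable def vt0 : ℕ := (nat_lit 0x616e24a44bdc80e068c764bfc8db9627d8113af0b6a874a40c59b33728512557996e4e090372e3aef61fef67d4f05e)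
noncomputable def vt1 : ℕ := (nat_lit 0x3ba23faae39df29d29b601cbedb827fa97dd73a59f0a856add7b03d390542054e6b42d76d434846218c1c960312c071)
noncomputable def vt2 : ℕ := (nat_lit 0xec0852b0acdee75a82d0fdbf6cb8e9f89c796285329873aa7d682f461926657b4933c647e3636e55fc1d0900c79044)
noncomputable def vt3 : ℕ := (nat_lit 0x1e4d17217d46dd055b0783066643391a18c2ee0eb2a2eb1e7edbbdeabcf356d38f49f2d60e5e89e3488ca9004942d45)
noncomputable def vt4 : ℕ := (nat_lit 0x3ef7cefae78df6d74cf2c70beeb6caeaa689e69648e28607de75c6da6585d65544d24503ce34c2ca2481c61440c2040)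
noncomputable def vt5 : ℕ := (nat_lit 0x3ef7cd33e75c2be3beb1cb78a091fd9da5b6a666d5ef5aeb14a93a279508e139e70b3182552114863cd10a0c7141080)
noncomputable def vt6 : ℕ := (nat_lit 0xf42485c48796930abd4370ccb4d9440d819a7dfc562ed72581ba0c5b1e8168f2b79afdf8ec75bb47c8e1d6846c2a2a)
noncomputable def vt7 : ℕ := (nat_lit 0xa0e0ba7305b5948f1aa47077bde9372b1fe9c4d77a22fca23be6407d95916600975c5bd0eaf987e0486b3e04f42254)
noncomputable def vt8 : ℕ := (nat_lit 0x32eb5b5665804008e2442e5de779c4e6d2be576a9773bd448f44ac0689f23b84c43e93cf63543160bb1376ab8b281db)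
noncomputable def vt9 : ℕ := (nat_lit 0x18b6bebb2720c6a236785f0b27f6ff05775b8b6d1d2270d48fa61940cfec5628741f91378e801995e48536a84dc231a)
noncomputable def vt10 : ℕ := (nat_lit 0x346d72e6d5a4ece7e740af01a1976c5464973ab60622ba4055ce7f78a63f167aadcc34328e452ecfa0816f1c44027f2)
noncomputable def vt11 : ℕ := (nat_lit 0x382c77e2ab1cff7cb796130786e25d051a90c2522c6dc8ee8656a729b402ebc48f6967a9e842e8ed51571cc5c1f35c)
noncomputable def vt12 : ℕ := (nat_lit 0x2397198ba0042f258a5af30d9c6c65c7cf987bf4dfa29d130a66eb72774ad63c50c183754e91fe9ed48aac5044c24b8)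
noncomputable def vt13 : ℕ := (nat_lit 0x2c51c47281337deb57997d01d8c3323c306a43bbe176071b6b8bbd045ce6e7df87406b998fbe85a30a484b26a95254a)
noncomputable def vt14 : ℕ := (nat_lit 0x24daa735414562d1bb3a82d3657fe7849cc58f0c829d1f9c734fc5d1cae64b07de02ef0398de918016bbe88da989852)
noncomputable def vt15 : ℕ := (nat_lit 0x3ad747cbcae85225815a183556cfce0f6de4194674ec37d08eec0b68771adc1e9c2422ad8a0668f9960de2114f8cbd7)
noncomputable def vt16 : ℕ := (nat_lit 0x123d05bd9c4bc6f298be21b849ec3a05902baac1139954a62d8ec025e789ba360adf7537b41d4c5ccd705a2f2335df6)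
noncomputable def vt17 : ℕ := (nat_lit 0x1470c39fb02ded7935ae128bf2db9aab2b0760898225866eb59fd4521641b357ed1a6c92fb37c3e94231d7671038043)
noncomputable def vt18 : ℕ := (nat_lit 0x962d1a22d1dcc1164c8799be3f0fa4aac50da7dcbba8529710240a6c3d3b4550ce0e14b17376e6afb21fba359db05d)
noncomputable def vt19 : ℕ := (nat_lit 0x109365e53dbdfcc73d23d45bc830b2a9a99012ebdc9f85a8840d8e20a1ced35495a60bee4636db2b52e1cec1e751067)
noncomputable def vt20 : ℕ := (nat_lit 0x176724296cfde30264bc9d8bcc2118a5ea4c74aa8dab853283105e56f70f9a546833b3be0936e09f3ad1d471d78b075)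
noncomputable def vT_0 : Tr ℕ := (.node (nat_lit 12) (.node (nat_lit 6) (.node (nat_lit 3) (.node (nat_lit 1) (.leaf vt0) (.node (nat_lit 2) (.leaf vt1) (.leaf vt2))) (.node (nat_lit 4) (.leaf vt3) (.node (nat_lit 5) (.leaf vt4) (.leaf vt5))))
 (.node (nat_lit 9) (.node (nat_lit 7) (.leaf vt6) (.node (nat_lit 8) (.leaf vt7) (.leaf vt8))) (.node (nat_lit 10) (.leaf vt9) (.node (nat_lit 11) (.leaf vt10) (.leaf vt11)))))
 (.node (nat_lit 18) (.node (nat_lit 15) (.node (nat_lit 13) (.leaf vt12) (.node (nat_lit 14) (.leaf vt13) (.leaf vt14))) (.node (nat_lit 16) (.leaf vt15) (.node (nat_lit 17) (.leaf vt16) (.leaf vt4))))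
 (.node (nat_lit 21) (.node (nat_lit 19) (.leaf vt17) (.node (nat_lit 20) (.leaf vt2) (.leaf vt18)))
 (.node (nat_lit 23) (.node (nat_lit 22) (.leaf vt0) (.leaf vt19)) (.node (nat_lit 24) (.leaf vt1) (.leaf vt20))))))
noncomputable def vE_0 : Tr (List ℕ) := (.node (nat_lit 12) (.node (nat_lit 6) (.node (nat_lit 3) (.node (nat_lit 1) (.leaf [nat_lit 0]) (.node (nat_lit 2) (.leaf [nat_lit 1]) (.leaf [nat_lit 2]))) (.node (nat_lit 4) (.leaf [nat_lit 3, nat_lit 2, nat_lit 1, nat_lit 3]) (.node (nat_lit 5) (.leaf []) (.leaf [nat_lit 3]))))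
 (.node (nat_lit 9) (.node (nat_lit 7) (.leaf [nat_lit 3, nat_lit 1, nat_lit 0, nat_lit 3]) (.node (nat_lit 8) (.leaf [nat_lit 3, nat_lit 0, nat_lit 3]) (.leaf [nat_lit 3, nat_lit 1, nat_lit 0, nat_lit 3, nat_lit 2, nat_lit 1, nat_lit 3]))) (.node (nat_lit 10) (.leaf [nat_lit 3, nat_lit 2, nat_lit 0, nat_lit 3]) (.node (nat_lit 11) (.leaf [nat_lit 3, nat_lit 1, nat_lit 3]) (.leaf [nat_lit 3, nat_lit 1, nat_lit 3, nat_lit 2, nat_lit 0, nat_lit 3])))))
 (.node (nat_lit 18) (.node (nat_lit 15) (.node (nat_lit 13) (.leaf [nat_lit 3, nat_lit 2, nat_lit 1, nat_lit 0, nat_lit 3]) (.node (nat_lit 14) (.leaf [nat_lit 3, nat_lit 2, nat_lit 1, nat_lit 0, nat_lit 3, nat_lit 0, nat_lit 3]) (.leaf [nat_lit 3, nat_lit 0, nat_lit 3, nat_lit 2, nat_lit 1, nat_lit 0, nat_lit 3]))) (.node (nat_lit 16) (.leaf [nat_lit 3, nat_lit 2, nat_lit 0, nat_lit 3, nat_lit 1, nat_lit 3]) (.node (nat_lit 17) (.leaf [nat_lit 3, nat_lit 2, nat_lit 1, nat_lit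 3, nat_lit 1, nat_lit 0, nat_lit 3]) (.leaf []))))
 (.node (nat_lit 21) (.node (nat_lit 19) (.leaf [nat_lit 2, nat_lit 1]) (.node (nat_lit 20) (.leaf [nat_lit 2]) (.leaf [nat_lit 1, nat_lit 0])))
 (.node (nat_lit 23) (.node (nat_lit 22) (.leaf [nat_lit 0]) (.leaf [nat_lit 2, nat_lit 0])) (.node (nat_lit 24) (.leaf [nat_lit 1]) (.leaf [nat_lit 2, nat_lit 1, nat_lit 0]))))))
theorem vw_0 : vT_0.all2 (fun c w => isProd 63 (nat_lit 6) (nat_lit 63) T c w) vE_0 = true := by decide +kernel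
noncomputable def vT : Tr ℕ := vT_0
noncomputable def vE : Tr (List ℕ) := vE_0
theorem vlets : Lets P 63 (nat_lit 6) (nat_lit 63) (Fin.ofNat 63) vT := lets_words lets vE vw_0
def vL : List Lv := []
theorem vchk : enChk 63 (nat_lit 6) (nat_lit 63) vT L0 (chainOrd 63 [L1]) 3 14 (nat_lit 0x10102000202020001000102000202000202010102000001020102020200010002020201020200020000020200020200020000020200010001010100000002) (nat_lit 0x20102010201020002000103010202000302010101010001020203010200020002010102020201010100020100020201030000030300010001020201000003) ((0, 17, 8) :: vL) = true := by decide +kernel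
theorem vr0 : enR (nat_lit 6) (nat_lit 63) vT (LD0.leafV B 9 [nat_lit 9, nat_lit 7, nat_lit 4, nat_lit 3, nat_lit 2, nat_lit 1]) vL (3 + 0) 17 8 = true := by decide +kernel
theorem vr1 : enR (nat_lit 6) (nat_lit 63) vT (LD0.leafV B 9 [nat_lit 9, nat_lit 7, nat_lit 4, nat_lit 3, nat_lit 2, nat_lit 1]) vL (3 + 1) 17 8 = true := by decide +kernel
theorem vr2 : enR (nat_lit 6) (nat_lit 63) vT (LD0.leafV B 9 [nat_lit 9, nat_lit 7, nat_lit 4, nat_lit 3, nat_lit 2, nat_lit 1]) vL (3 + 2) 17 8 = true := by decide +kernel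
theorem vr3 : enR (nat_lit 6) (nat_lit 63) vT (LD0.leafV B 9 [nat_lit 9, nat_lit 7, nat_lit 4, nat_lit 3, nat_lit 2, nat_lit 1]) vL (3 + 3) 17 8 = true := by decide +kernel
theorem vr4 : enR (nat_lit 6) (nat_lit 63) vT (LD0.leafV B 9 [nat_lit 9, nat_lit 7, nat_lit 4, nat_lit 3, nat_lit 2, nat_lit 1]) vL (3 + 4) 17 8 = true := by decide +kernel
theorem vr5 : enR (nat_lit 6) (nat_lit 63) vT (LD0.leafV B 9 [nat_lit 9, nat_lit 7, nat_lit 4, nat_lit 3, nat_lit 2, nat_lit 1]) vL (3 + 5) 17 8 = true := by decide +kernel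
theorem vr6 : enR (nat_lit 6) (nat_lit 63) vT (LD0.leafV B 9 [nat_lit 9, nat_lit 7, nat_lit 4, nat_lit 3, nat_lit 2, nat_lit 1]) vL (3 + 6) 17 8 = true := by decide +kernel
theorem vr7 : enR (nat_lit 6) (nat_lit 63) vT (LD0.leafV B 9 [nat_lit 9, nat_lit 7, nat_lit 4, nat_lit 3, nat_lit 2, nat_lit 1]) vL (3 + 7) 17 8 = true := by decide +kernel
theorem vr8 : enR (nat_lit 6) (nat_lit 63) vT (LD0.leafV B 9 [nat_lit 9, nat_lit 7, nat_lit 4, nat_lit 3, nat_lit 2, nat_lit 1]) vL (3 + 8) 17 8 = true := by decide +kernel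
theorem vr9 : enR (nat_lit 6) (nat_lit 63) vT (LD0.leafV B 9 [nat_lit 9, nat_lit 7, nat_lit 4, nat_lit 3, nat_lit 2, nat_lit 1]) vL (3 + 9) 17 8 = true := by decide +kernel
theorem vr10 : enR (nat_lit 6) (nat_lit 63) vT (LD0.leafV B 9 [nat_lit 9, nat_lit 7, nat_lit 4, nat_lit 3, nat_lit 2, nat_lit 1]) vL (3 + 10) 17 8 = true := by decide +kernel
theorem vr11 : enR (nat_lit 6) (nat_lit 63) vT (LD0.leafV B 9 [nat_lit 9, nat_lit 7, nat_lit 4, nat_lit 3, nat_lit 2, nat_lit 1]) vL (3 + 11) 17 8 = true := by decide +kernel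
theorem vr12 : enR (nat_lit 6) (nat_lit 63) vT (LD0.leafV B 9 [nat_lit 9, nat_lit 7, nat_lit 4, nat_lit 3, nat_lit 2, nat_lit 1]) vL (3 + 12) 17 8 = true := by decide +kernel
theorem vr13 : enR (nat_lit 6) (nat_lit 63) vT (LD0.leafV B 9 [nat_lit 9, nat_lit 7, nat_lit 4, nat_lit 3, nat_lit 2, nat_lit 1]) vL (3 + 13) 17 8 = true := by decide +kernel
theorem vall : ∀ g : P, ∃ c f, RepF 63 (Fin.ofNat 63) f (c * g * c⁻¹) ∧ (LD0.leafV B 9 [nat_lit 9, nat_lit 7, nat_lit 4, nat_lit 3, nat_lit 2, nat_lit 1]) f = true :=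
  enum_all std vlets vchk fun j hj => by
    interval_cases j
    exacts [vr0, vr1, vr2, vr3, vr4, vr5, vr6, vr7, vr8, vr9, vr10, vr11, vr12, vr13]
theorem witH : ∀ x ∈ [9, 4, 7], x ∈ Spec H :=
  LD.sd_wit isl (by norm_num) lets base [(9, 63, [nat_lit 1, nat_lit 3]), (2, 0, [nat_lit 2, nat_lit 1]), (7, 63, [nat_lit 1, nat_lit 3, nat_lit 2])] (by decide +kernel)
theorem specH : SpecL H [1, 2, 3, 4, 7, 9] := SpecL.of (fun g => by
    have := LD.sd_specU isl bas (by norm_num) base (by decide) vall g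
    revert this; generalize orderOf g = a; simp; omega) witH (by decide)

end H8.L28v
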