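import Cfsg.Agent.H8.GO48v
import Cfsg.Agent.H8.SpecC

/-! H8.VO48v: the Frobenius group `H = 13^4 : 2.S4` (generated certificate) -/

set_option autoImplicit false
set_option maxRecDepth 200000

open Matrix

namespace H8.O48v

noncomputable def VT : ℕ := (nat_lit 0x6800009c85000068c600008518000051590000189c00410000c60080800000590800c1005800170000410075750000088c00c00000c10058001700c5c500008c84000c0000c000505000008405001c00000c00055100001c1000010000100001)
noncomputable abbrev LD0 : LD := ⟨4, 13, (nat_lit 4), (nat_lit 15), (nat_lit 16), (nat_lit 65535), VT, 0⟩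
theorem bas : LD0.basChk 48 = true := by decide +kernel
noncomputable def AT : Tr ℕ := (.node (nat_lit 1) (.leaf (nat_lit 0x5005100001100c0)) (.leaf (nat_lit 0x10000180004500)))
theorem lin0 : LD0.linR (nat_lit 6) (nat_lit 63) (G0.get 0) (AT.get 0) 0 48 = true := by decide +kernel
theorem lin1 : LD0.linR (nat_lit 6) (nat_lit 63) (G0.get 1) (AT.get 1) 0 48 = true := by decide +kernel
theorem exlin : ∃ φ : P →* MulAut LD0.V, LD0.IsLin φ := LD.exists_lin gen bas AT fun j hj => by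
    interval_cases j
    exacts [lin0, lin1]
noncomputable def φ : P →* MulAut LD0.V := exlin.choose
theorem isl : LD0.IsLin φ := exlin.choose_spec
abbrev H := LD0.V ⋊[φ] P
theorem nor : ∃ N : Subgroup H, N.Normal ∧ N ≠ ⊥ ∧ Group.IsSolvable N := @sd_normal _ _ _ _ _ (LD0.nontriv (by norm_num) (by norm_num))
theorem cardH : Nat.card H = 1370928 := (LD.card_sd card).trans (by norm_num)
noncomputable def vt0 : ℕ := (nat_lit 0xbeeb6caeaa689e69648e28607de75c6da6585d65544d24503ce34c2ca2481c61440c2040)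
noncomputable def vt1 : ℕ := (nat_lit 0x20aad39060ecbeeb5da2a0a6a677258237a285f01841b59a65755439244f34c2c7245101)
noncomputable def vt2 : ℕ := (nat_lit 0xba54af32da850696acae18e70289a29196df56079d71151735858b4cf1d03891082860c2)
noncomputable def vt3 : ℕ := (nat_lit 0x40f31cb092afba54a616d1a9a8189a9eba218c009f5e48196d579d61150d58b4ce1c4203)
noncomputable def vt4 : ℕ := (nat_lit 0x3d291074c25320aadcb0616e0ef96d9a89ea0a90626a07e37a10185db59955438d44b1c4)
noncomputable def vt5 : ℕ := (nat_lit 0x2ad6c852b18b1038d3902a2f06cbaa75e8290269dc9566215627ce41935a5d11cf48c245)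
noncomputable def vt6 : ℕ := (nat_lit 0x95a46e2d2b440ea66f323ac1085a61b1b9007a7a2689475559f81370d3976072103c9286)
noncomputable def vt7 : ℕ := (nat_lit 0x65b75a7144503d29254cc2ca248b6bbacbc614312a8e6a689c20628607de0185d558e347)
noncomputable def vt8 : ℕ := (nat_lit 0x351b1798b1dc40f322bc91252ae692a4506d1aa0e166702ba2309f56481b79d616513388)
noncomputable def vt9 : ℕ := (nat_lit 0x6995254d14882ad6ee2eb303184aa3be4b02a0116985d99e8009dc8966157ce4173473c9)
noncomputable def vt10 : ℕ := (nat_lit 0x5cd2e2bc73ee95a46911226ab4385904c163ac218056c9db91ea267d475681371838840a)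
noncomputable def vt11 : ℕ := (nat_lit 0x4ab80f62430e1c9a10745b0811328672798306ebe5b5f88202aa5769e5638563596d444b)
noncomputable def vt12 : ℕ := (nat_lit 0xb6358a39bac724678852890414b0c24e07419efb2ea987007e99909555e188d3da65148c)
noncomputable def vt13 : ℕ := (nat_lit 0x7a072395859a65b76d41439244fae429320c2c91c6a2e0ecbc512a0a6a670628407d754d)
noncomputable def vt14 : ℕ := (nat_lit 0x6e499989d517351b1a70b4cf1d048c96fb8910a22dae9a850460e18e702809f55e81858e)
noncomputable def vt15 : ℕ := (nat_lit 0x5564e1b8e36569952a2111ed48a8db0cb12b3062427af064b2816901d9a09dc89f6105cf)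
noncomputable def vt16 : ℕ := (nat_lit 0x594bd5a533a25cd2e1b8721a3e5651a840d226d2a36c108c16b1807ac9e4a267e075c610)
noncomputable def vt17 : ℕ := (nat_lit 0x8de62d4166cf4ab80a3a45093071a821d4c5b042c309cba7981be5a9f880a576a154d651)
noncomputable def vt18 : ℕ := (nat_lit 0x8553aa20d64ab635831db446ac909e1142e8905301013be0767b2ea5871f9909625cf692)
noncomputable def vt19 : ℕ := (nat_lit 0x44c9cd7ec2d8387157984bd021c3c9881a4a0e5b9a4808460ada956687ab8e059b91d513)
noncomputable def vt20 : ℕ := (nat_lit 0xae87d25e090d44c9cf62c7472ce245426704bc84ca1a2941a43b9ab40842a956637966d4)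
noncomputable def vt21 : ℕ := (nat_lit 0x9e6968b627e37a072b6985db59991d4903d439134cb0a25320b1c616e0ef12a081a61015)
noncomputable def vt22 : ℕ := (nat_lit 0xa278ab69f8196e49925dd61150d32c3dc40b4c73891652afb8422d1a9a810e18c2015796)
noncomputable def vt23 : ℕ := (nat_lit 0x81db9ea9c6215564e394e41935a6d4b482911d23eb90318b10c242a2f06c1690279a27d7)
noncomputable def vt24 : ℕ := (nat_lit 0x92ca5b866755594bd989370d39744b6ae94720f41232ab440c92a3ac10851807a89df818)
noncomputable def vt25 : ℕ := (nat_lit 0x1f40229756d8de6063d636b6d2a2024e1e450c4459c811d4ec2c305cba6be5aa989a859)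
noncomputable def vt26 : ℕ := (nat_lit 0x7d82000d05ea85538228d3e366d79618725b46b4a88041542e43019d3bddb2ea6672589a)
noncomputable def vt27 : ℕ := (nat_lit 0x805c63d5792ae87c936058c9111671d83ac74b50405022672f4ca0e2969b9ab6a8598db)
noncomputable def vt28 : ℕ := (nat_lit 0x50b05602f4df60e115a48b97422347843a8f29a9594428c9192b5e6c5a0cae7824b2675c)
noncomputable def vt29 : ℕ := (nat_lit 0x305011567b1650b04d7ef98e4d81c45e9888b9070f261683a8a9594828c6b5e6eba2091d)
noncomputable def vt30 : ℕ := (nat_lit 0x696854a102ba2788c65f56481bb2645735d61458bbcf1dc4133891252ae22d183aa309e)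
noncomputable def vt31 : ℕ := (nat_lit 0xb2faa48e999e81db9b85c89661551366568e40d5d12ed4882873eb303184242a050409df)
noncomputable def vt32 : ℕ := (nat_lit 0x14184c6409db92ca515667d47562ef3625d370e60711a3ee94841226ab432a3ac609ea20)
noncomputable def vt33 : ℕ := (nat_lit 0x99c2a71a588201f428b5769e563818acf49635b66474930e1d4445b081132c306fbaaa61)
noncomputable def vt34 : ℕ := (nat_lit 0x7530e00ae7007d821ea909555e158e8cab4d3d969b506ac72514a890414b3019ecbe99a2)
noncomputable def vt35 : ℕ := (nat_lit 0xa623c125a8460805c54956687ab9df30d4605a46ec9872d839d504bd021c4ca0ee96daa3)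
noncomputable def vt36 : ℕ := (nat_lit 0x18254935ea113050075a780bb1410139f62f9937480d74298ae70f2a16aa9594ad8dbae4)
noncomputable def vt37 : ℕ := (nat_lit 0x60e11f0484298971c00cf2a16aa54d0891994a3b5e585a1131bae780bb1492f99d4ee725)
noncomputable def vt38 : ℕ := (nat_lit 0x2c4094781be07530d602ea5871f38856a85095788d1e364ab4f69b446ac94a890c167b26)
noncomputable def vt39 : ℕ := (nat_lit 0x1038cb6c2064b2fa947a901d9a04ee5a155c8987ce2193656905d11ed48a3eb3091a8167)
noncomputable def vt40 : ℕ := (nat_lit 0xea64446308c14184b6c07ac9e4be95155a67dd813b8d3a25dc60721a3e541224ab6b1a8)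
noncomputable def vt41 : ℕ := (nat_lit 0x4c819da03ba799c2a00a5a9f8806107ad8d76958563ab6cf48d664509307445b0b101be9)
noncomputable def vt42 : ℕ := (nat_lit 0x71026614a941a623e719ab408427d7a12ad565e8e060c90d4566ec7472ce504bd3203baa)
noncomputable def vt43 : ℕ := (nat_lit 0xaa13431d98c918254445e6c5a0c0402d652782c92fa4e4df626748b9742270f2a5692b6b)
noncomputable def vt44 : ℕ := (nat_lit 0x2467875a81542c408e8019d3bdd2036007eea5c9902955ea86588d3e366d69b452ae432c)
noncomputable def vt45 : ℕ := (nat_lit 0x8971e910f683aa13412594828c601515131e6e8ae77cbb1652092f98e4d8748b9c40a96d)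
noncomputable def vt46 : ℕ := (nat_lit 0x3871589c422671025f04a0e29695cf00609ab61a95368792ad98e058c9116ec7542ef4ee)
noncomputable def vt47 : ℕ := (nat_lit 0x1c9a0e80511d4c81989c305cba640a7c2025aa2a573de56d8da85636b6d266451132c2ef)
noncomputable def vT_0 : Tr ℕ := (.node (nat_lit 24) (.node (nat_lit 12) (.node (nat_lit 6) (.node (nat_lit 3) (.node (nat_lit 1) (.leaf vt0) (.node (nat_lit 2) (.leaf vt1) (.leaf vt2))) (.node (nat_lit 4) (.leaf vt3) (.node (nat_lit 5) (.leaf vt4) (.leaf vt5))))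
 (.node (nat_lit 9) (.node (nat_lit 7) (.leaf vt6) (.node (nat_lit 8) (.leaf vt7) (.leaf vt8))) (.node (nat_lit 10) (.leaf vt9) (.node (nat_lit 11) (.leaf vt10) (.leaf vt11)))))
 (.node (nat_lit 18) (.node (nat_lit 15) (.node (nat_lit 13) (.leaf vt12) (.node (nat_lit 14) (.leaf vt13) (.leaf vt14))) (.node (nat_lit 16) (.leaf vt15) (.node (nat_lit 17) (.leaf vt16) (.leaf vt17))))
 (.node (nat_lit 21) (.node (nat_lit 19) (.leaf vt18) (.node (nat_lit 20) (.leaf vt19) (.leaf vt20))) (.node (nat_lit 22) (.leaf vt21) (.node (nat_lit 23) (.leaf vt22) (.leaf vt23))))))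
 (.node (nat_lit 36) (.node (nat_lit 30) (.node (nat_lit 27) (.node (nat_lit 25) (.leaf vt24) (.node (nat_lit 26) (.leaf vt25) (.leaf vt26))) (.node (nat_lit 28) (.leaf vt27) (.node (nat_lit 29) (.leaf vt28) (.leaf vt29))))
 (.node (nat_lit 33) (.node (nat_lit 31) (.leaf vt30) (.node (nat_lit 32) (.leaf vt31) (.leaf vt32))) (.node (nat_lit 34) (.leaf vt33) (.node (nat_lit 35) (.leaf vt34) (.leaf vt35)))))
 (.node (nat_lit 42) (.node (nat_lit 39) (.node (nat_lit 37) (.leaf vt36) (.node (nat_lit 38) (.leaf vt37) (.leaf vt38))) (.node (nat_lit 40) (.leaf vt39) (.node (nat_lit 41) (.leaf vt40) (.leaf vt41))))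
 (.node (nat_lit 45) (.node (nat_lit 43) (.leaf vt42) (.node (nat_lit 44) (.leaf vt43) (.leaf vt44)))
 (.node (nat_lit 47) (.node (nat_lit 46) (.leaf vt45) (.leaf vt46)) (.node (nat_lit 48) (.leaf vt47) (.leaf vt0)))))))
noncomputable def vE_0 : Tr (List ℕ) := (.node (nat_lit 24) (.node (nat_lit 12) (.node (nat_lit 6) (.node (nat_lit 3) (.node (nat_lit 1) (.leaf []) (.node (nat_lit 2) (.leaf [nat_lit 3, nat_lit 0, nat_lit 2, nat_lit 1]) (.leaf [nat_lit 3, nat_lit 0, nat_lit 2]))) (.node (nat_lit 4) (.leaf [nat_lit 3, nat_lit 1, nat_lit 3]) (.node (nat_lit 5) (.leaf [nat_lit 0, nat_lit 2, nat_lit 0]) (.leaf [nat_lit 0, nat_lit 2, nat_lit 0, nat_lit 0]))))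
 (.node (nat_lit 9) (.node (nat_lit 7) (.leaf [nat_lit 3, nat_lit 1, nat_lit 3, nat_lit 0]) (.node (nat_lit 8) (.leaf [nat_lit 0, nat_lit 0, nat_lit 0, nat_lit 0]) (.leaf [nat_lit 0, nat_lit 2]))) (.node (nat_lit 10) (.leaf [nat_lit 2, nat_lit 0]) (.node (nat_lit 11) (.leaf [nat_lit 2]) (.leaf [nat_lit 1, nat_lit 1, nat_lit 1])))))
 (.node (nat_lit 18) (.node (nat_lit 15) (.node (nat_lit 13) (.leaf [nat_lit 2, nat_lit 0, nat_lit 0]) (.node (nat_lit 14) (.leaf [nat_lit 1, nat_lit 3, nat_lit 1]) (.leaf [nat_lit 1, nat_lit 3]))) (.node (nat_lit 16) (.leaf [nat_lit 0, nat_lit 0, nat_lit 0]) (.node (nat_lit 17) (.leaf [nat_lit 0, nat_lit 2, nat_lit 1]) (.leaf [nat_lit 3, nat_lit 1]))))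
 (.node (nat_lit 21) (.node (nat_lit 19) (.leaf [nat_lit 1, nat_lit 2, nat_lit 0]) (.node (nat_lit 20) (.leaf [nat_lit 1, nat_lit 3, nat_lit 0]) (.leaf [nat_lit 3]))) (.node (nat_lit 22) (.leaf [nat_lit 2, nat_lit 1, nat_lit 3, nat_lit 0]) (.node (nat_lit 23) (.leaf [nat_lit 2, nat_lit 0, nat_lit 2]) (.leaf [nat_lit 0, nat_lit 2, nat_lit 1, nat_lit 1]))))))
 (.node (nat_lit 36) (.node (nat_lit 30) (.node (nat_lit 27) (.node (nat_lit 25) (.leaf [nat_lit 2, nat_lit 0, nat_lit 2, nat_lit 0]) (.node (nat_lit 26) (.leaf [nat_lit 1, nat_lit 1, nat_lit 2, nat_lit 0]) (.leaf [nat_lit 0, nat_lit 0]))) (.node (nat_lit 28) (.leaf [nat_lit 2, nat_lit 0, nat_lit 2, nat_lit 1]) (.node (nat_lit 29) (.leaf [nat_lit 2, nat_lit 0, nat_lit 2, nat_lit 0, nat_lit 0]) (.leaf [nat_lit 3, nat_lit 0]))))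
 (.node (nat_lit 33) (.node (nat_lit 31) (.leaf [nat_lit 2, nat_lit 1, nat_lit 3]) (.node (nat_lit 32) (.leaf [nat_lit 3, nat_lit 1, nat_lit 2]) (.leaf [nat_lit 0, nat_lit 3, nat_lit 0]))) (.node (nat_lit 34) (.leaf [nat_lit 0]) (.node (nat_lit 35) (.leaf [nat_lit 2, nat_lit 1, nat_lit 1]) (.leaf [nat_lit 1, nat_lit 1, nat_lit 2])))))
 (.node (nat_lit 42) (.node (nat_lit 39) (.node (nat_lit 37) (.leaf [nat_lit 0, nat_lit 3]) (.node (nat_lit 38) (.leaf [nat_lit 2, nat_lit 1]) (.leaf [nat_lit 3, nat_lit 0, nat_lit 0]))) (.node (nat_lit 40) (.leaf [nat_lit 1]) (.node (nat_lit 41) (.leaf [nat_lit 0, nat_lit 0, nat_lit 3]) (.leaf [nat_lit 2, nat_lit 0, nat_lit 3]))))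
 (.node (nat_lit 45) (.node (nat_lit 43) (.leaf [nat_lit 1, nat_lit 2, nat_lit 1]) (.node (nat_lit 44) (.leaf [nat_lit 3, nat_lit 1, nat_lit 3, nat_lit 0, nat_lit 0]) (.leaf [nat_lit 1, nat_lit 1])))
 (.node (nat_lit 47) (.node (nat_lit 46) (.leaf [nat_lit 1, nat_lit 2]) (.leaf [nat_lit 3, nat_lit 1, nat_lit 3, nat_lit 1])) (.node (nat_lit 48) (.leaf [nat_lit 1, nat_lit 3, nat_lit 0, nat_lit 0]) (.leaf [])))))))
theorem vw_0 : vT_0.all2 (fun c w => isProd 48 (nat_lit 6) (nat_lit 63) T c w) vE_0 = true := by decide +kernel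
noncomputable def vT : Tr ℕ := vT_0
noncomputable def vE : Tr (List ℕ) := vE_0
theorem vlets : Lets P 48 (nat_lit 6) (nat_lit 63) (Fin.ofNat 48) vT := lets_words lets vE vw_0
def vL : List Lv := []
theorem vchk : enChk 48 (nat_lit 6) (nat_lit 63) vT L0 (chainOrd 48 []) 0 48 (nat_lit 0) (nat_lit 0) ((0, 48, 1) :: vL) = true := by decide +kernel
theorem vr0 : enR (nat_lit 6) (nat_lit 63) vT (LD0.leafV B 13 [nat_lit 13, nat_lit 8, nat_lit 6, nat_lit 4, nat_lit 3, nat_lit 2, nat_lit 1]) vL (0 + 0) 48 1 = true := by decide +kernel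
theorem vr1 : enR (nat_lit 6) (nat_lit 63) vT (LD0.leafV B 13 [nat_lit 13, nat_lit 8, nat_lit 6, nat_lit 4, nat_lit 3, nat_lit 2, nat_lit 1]) vL (0 + 1) 48 1 = true := by decide +kernel
theorem vr2 : enR (nat_lit 6) (nat_lit 63) vT (LD0.leafV B 13 [nat_lit 13, nat_lit 8, nat_lit 6, nat_lit 4, nat_lit 3, nat_lit 2, nat_lit 1]) vL (0 + 2) 48 1 = true := by decide +kernel
theorem vr3 : enR (nat_lit 6) (nat_lit 63) vT (LD0.leafV B 13 [nat_lit 13, nat_lit 8, nat_lit 6, nat_lit 4, nat_lit 3, nat_lit 2, nat_lit 1]) vL (0 + 3) 48 1 = true := by decide +kernel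
theorem vr4 : enR (nat_lit 6) (nat_lit 63) vT (LD0.leafV B 13 [nat_lit 13, nat_lit 8, nat_lit 6, nat_lit 4, nat_lit 3, nat_lit 2, nat_lit 1]) vL (0 + 4) 48 1 = true := by decide +kernel
theorem vr5 : enR (nat_lit 6) (nat_lit 63) vT (LD0.leafV B 13 [nat_lit 13, nat_lit 8, nat_lit 6, nat_lit 4, nat_lit 3, nat_lit 2, nat_lit 1]) vL (0 + 5) 48 1 = true := by decide +kernel
theorem vr6 : enR (nat_lit 6) (nat_lit 63) vT (LD0.leafV B 13 [nat_lit 13, nat_lit 8, nat_lit 6, nat_lit 4, nat_lit 3, nat_lit 2, nat_lit 1]) vL (0 + 6) 48 1 = true := by decide +kernel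
theorem vr7 : enR (nat_lit 6) (nat_lit 63) vT (LD0.leafV B 13 [nat_lit 13, nat_lit 8, nat_lit 6, nat_lit 4, nat_lit 3, nat_lit 2, nat_lit 1]) vL (0 + 7) 48 1 = true := by decide +kernel
theorem vr8 : enR (nat_lit 6) (nat_lit 63) vT (LD0.leafV B 13 [nat_lit 13, nat_lit 8, nat_lit 6, nat_lit 4, nat_lit 3, nat_lit 2, nat_lit 1]) vL (0 + 8) 48 1 = true := by decide +kernel
theorem vr9 : enR (nat_lit 6) (nat_lit 63) vT (LD0.leafV B 13 [nat_lit 13, nat_lit 8, nat_lit 6, nat_lit 4, nat_lit 3, nat_lit 2, nat_lit 1]) vL (0 + 9) 48 1 = true := by decide +kernel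
theorem vr10 : enR (nat_lit 6) (nat_lit 63) vT (LD0.leafV B 13 [nat_lit 13, nat_lit 8, nat_lit 6, nat_lit 4, nat_lit 3, nat_lit 2, nat_lit 1]) vL (0 + 10) 48 1 = true := by decide +kernel
theorem vr11 : enR (nat_lit 6) (nat_lit 63) vT (LD0.leafV B 13 [nat_lit 13, nat_lit 8, nat_lit 6, nat_lit 4, nat_lit 3, nat_lit 2, nat_lit 1]) vL (0 + 11) 48 1 = true := by decide +kernel
theorem vr12 : enR (nat_lit 6) (nat_lit 63) vT (LD0.leafV B 13 [nat_lit 13, nat_lit 8, nat_lit 6, nat_lit 4, nat_lit 3, nat_lit 2, nat_lit 1]) vL (0 + 12) 48 1 = true := by decide +kernel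
theorem vr13 : enR (nat_lit 6) (nat_lit 63) vT (LD0.leafV B 13 [nat_lit 13, nat_lit 8, nat_lit 6, nat_lit 4, nat_lit 3, nat_lit 2, nat_lit 1]) vL (0 + 13) 48 1 = true := by decide +kernel
theorem vr14 : enR (nat_lit 6) (nat_lit 63) vT (LD0.leafV B 13 [nat_lit 13, nat_lit 8, nat_lit 6, nat_lit 4, nat_lit 3, nat_lit 2, nat_lit 1]) vL (0 + 14) 48 1 = true := by decide +kernel
theorem vr15 : enR (nat_lit 6) (nat_lit 63) vT (LD0.leafV B 13 [nat_lit 13, nat_lit 8, nat_lit 6, nat_lit 4, nat_lit 3, nat_lit 2, nat_lit 1]) vL (0 + 15) 48 1 = true := by decide +kernel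
theorem vr16 : enR (nat_lit 6) (nat_lit 63) vT (LD0.leafV B 13 [nat_lit 13, nat_lit 8, nat_lit 6, nat_lit 4, nat_lit 3, nat_lit 2, nat_lit 1]) vL (0 + 16) 48 1 = true := by decide +kernel
theorem vr17 : enR (nat_lit 6) (nat_lit 63) vT (LD0.leafV B 13 [nat_lit 13, nat_lit 8, nat_lit 6, nat_lit 4, nat_lit 3, nat_lit 2, nat_lit 1]) vL (0 + 17) 48 1 = true := by decide +kernel
theorem vr18 : enR (nat_lit 6) (nat_lit 63) vT (LD0.leafV B 13 [nat_lit 13, nat_lit 8, nat_lit 6, nat_lit 4, nat_lit 3, nat_lit 2, nat_lit 1]) vL (0 + 18) 48 1 = true := by decide +kernel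
theorem vr19 : enR (nat_lit 6) (nat_lit 63) vT (LD0.leafV B 13 [nat_lit 13, nat_lit 8, nat_lit 6, nat_lit 4, nat_lit 3, nat_lit 2, nat_lit 1]) vL (0 + 19) 48 1 = true := by decide +kernel
theorem vr20 : enR (nat_lit 6) (nat_lit 63) vT (LD0.leafV B 13 [nat_lit 13, nat_lit 8, nat_lit 6, nat_lit 4, nat_lit 3, nat_lit 2, nat_lit 1]) vL (0 + 20) 48 1 = true := by decide +kernel
theorem vr21 : enR (nat_lit 6) (nat_lit 63) vT (LD0.leafV B 13 [nat_lit 13, nat_lit 8, nat_lit 6, nat_lit 4, nat_lit 3, nat_lit 2, nat_lit 1]) vL (0 + 21) 48 1 = true := by decide +kernel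
theorem vr22 : enR (nat_lit 6) (nat_lit 63) vT (LD0.leafV B 13 [nat_lit 13, nat_lit 8, nat_lit 6, nat_lit 4, nat_lit 3, nat_lit 2, nat_lit 1]) vL (0 + 22) 48 1 = true := by decide +kernel
theorem vr23 : enR (nat_lit 6) (nat_lit 63) vT (LD0.leafV B 13 [nat_lit 13, nat_lit 8, nat_lit 6, nat_lit 4, nat_lit 3, nat_lit 2, nat_lit 1]) vL (0 + 23) 48 1 = true := by decide +kernel
theorem vr24 : enR (nat_lit 6) (nat_lit 63) vT (LD0.leafV B 13 [nat_lit 13, nat_lit 8, nat_lit 6, nat_lit 4, nat_lit 3, nat_lit 2, nat_lit 1]) vL (0 + 24) 48 1 = true := by decide +kernel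
theorem vr25 : enR (nat_lit 6) (nat_lit 63) vT (LD0.leafV B 13 [nat_lit 13, nat_lit 8, nat_lit 6, nat_lit 4, nat_lit 3, nat_lit 2, nat_lit 1]) vL (0 + 25) 48 1 = true := by decide +kernel
theorem vr26 : enR (nat_lit 6) (nat_lit 63) vT (LD0.leafV B 13 [nat_lit 13, nat_lit 8, nat_lit 6, nat_lit 4, nat_lit 3, nat_lit 2, nat_lit 1]) vL (0 + 26) 48 1 = true := by decide +kernel
theorem vr27 : enR (nat_lit 6) (nat_lit 63) vT (LD0.leafV B 13 [nat_lit 13, nat_lit 8, nat_lit 6, nat_lit 4, nat_lit 3, nat_lit 2, nat_lit 1]) vL (0 + 27) 48 1 = true := by decide +kernel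
theorem vr28 : enR (nat_lit 6) (nat_lit 63) vT (LD0.leafV B 13 [nat_lit 13, nat_lit 8, nat_lit 6, nat_lit 4, nat_lit 3, nat_lit 2, nat_lit 1]) vL (0 + 28) 48 1 = true := by decide +kernel
theorem vr29 : enR (nat_lit 6) (nat_lit 63) vT (LD0.leafV B 13 [nat_lit 13, nat_lit 8, nat_lit 6, nat_lit 4, nat_lit 3, nat_lit 2, nat_lit 1]) vL (0 + 29) 48 1 = true := by decide +kernel
theorem vr30 : enR (nat_lit 6) (nat_lit 63) vT (LD0.leafV B 13 [nat_lit 13, nat_lit 8, nat_lit 6, nat_lit 4, nat_lit 3, nat_lit 2, nat_lit 1]) vL (0 + 30) 48 1 = true := by decide +kernel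
theorem vr31 : enR (nat_lit 6) (nat_lit 63) vT (LD0.leafV B 13 [nat_lit 13, nat_lit 8, nat_lit 6, nat_lit 4, nat_lit 3, nat_lit 2, nat_lit 1]) vL (0 + 31) 48 1 = true := by decide +kernel
theorem vr32 : enR (nat_lit 6) (nat_lit 63) vT (LD0.leafV B 13 [nat_lit 13, nat_lit 8, nat_lit 6, nat_lit 4, nat_lit 3, nat_lit 2, nat_lit 1]) vL (0 + 32) 48 1 = true := by decide +kernel
theorem vr33 : enR (nat_lit 6) (nat_lit 63) vT (LD0.leafV B 13 [nat_lit 13, nat_lit 8, nat_lit 6, nat_lit 4, nat_lit 3, nat_lit 2, nat_lit 1]) vL (0 + 33) 48 1 = true := by decide +kernel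
theorem vr34 : enR (nat_lit 6) (nat_lit 63) vT (LD0.leafV B 13 [nat_lit 13, nat_lit 8, nat_lit 6, nat_lit 4, nat_lit 3, nat_lit 2, nat_lit 1]) vL (0 + 34) 48 1 = true := by decide +kernel
theorem vr35 : enR (nat_lit 6) (nat_lit 63) vT (LD0.leafV B 13 [nat_lit 13, nat_lit 8, nat_lit 6, nat_lit 4, nat_lit 3, nat_lit 2, nat_lit 1]) vL (0 + 35) 48 1 = true := by decide +kernel
theorem vr36 : enR (nat_lit 6) (nat_lit 63) vT (LD0.leafV B 13 [nat_lit 13, nat_lit 8, nat_lit 6, nat_lit 4, nat_lit 3, nat_lit 2, nat_lit 1]) vL (0 + 36) 48 1 = true := by decide +kernel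
theorem vr37 : enR (nat_lit 6) (nat_lit 63) vT (LD0.leafV B 13 [nat_lit 13, nat_lit 8, nat_lit 6, nat_lit 4, nat_lit 3, nat_lit 2, nat_lit 1]) vL (0 + 37) 48 1 = true := by decide +kernel
theorem vr38 : enR (nat_lit 6) (nat_lit 63) vT (LD0.leafV B 13 [nat_lit 13, nat_lit 8, nat_lit 6, nat_lit 4, nat_lit 3, nat_lit 2, nat_lit 1]) vL (0 + 38) 48 1 = true := by decide +kernel
theorem vr39 : enR (nat_lit 6) (nat_lit 63) vT (LD0.leafV B 13 [nat_lit 13, nat_lit 8, nat_lit 6, nat_lit 4, nat_lit 3, nat_lit 2, nat_lit 1]) vL (0 + 39) 48 1 = true := by decide +kernel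
theorem vr40 : enR (nat_lit 6) (nat_lit 63) vT (LD0.leafV B 13 [nat_lit 13, nat_lit 8, nat_lit 6, nat_lit 4, nat_lit 3, nat_lit 2, nat_lit 1]) vL (0 + 40) 48 1 = true := by decide +kernel
theorem vr41 : enR (nat_lit 6) (nat_lit 63) vT (LD0.leafV B 13 [nat_lit 13, nat_lit 8, nat_lit 6, nat_lit 4, nat_lit 3, nat_lit 2, nat_lit 1]) vL (0 + 41) 48 1 = true := by decide +kernel
theorem vr42 : enR (nat_lit 6) (nat_lit 63) vT (LD0.leafV B 13 [nat_lit 13, nat_lit 8, nat_lit 6, nat_lit 4, nat_lit 3, nat_lit 2, nat_lit 1]) vL (0 + 42) 48 1 = true := by decide +kernel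
theorem vr43 : enR (nat_lit 6) (nat_lit 63) vT (LD0.leafV B 13 [nat_lit 13, nat_lit 8, nat_lit 6, nat_lit 4, nat_lit 3, nat_lit 2, nat_lit 1]) vL (0 + 43) 48 1 = true := by decide +kernel
theorem vr44 : enR (nat_lit 6) (nat_lit 63) vT (LD0.leafV B 13 [nat_lit 13, nat_lit 8, nat_lit 6, nat_lit 4, nat_lit 3, nat_lit 2, nat_lit 1]) vL (0 + 44) 48 1 = true := by decide +kernel
theorem vr45 : enR (nat_lit 6) (nat_lit 63) vT (LD0.leafV B 13 [nat_lit 13, nat_lit 8, nat_lit 6, nat_lit 4, nat_lit 3, nat_lit 2, nat_lit 1]) vL (0 + 45) 48 1 = true := by decide +kernel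
theorem vr46 : enR (nat_lit 6) (nat_lit 63) vT (LD0.leafV B 13 [nat_lit 13, nat_lit 8, nat_lit 6, nat_lit 4, nat_lit 3, nat_lit 2, nat_lit 1]) vL (0 + 46) 48 1 = true := by decide +kernel
theorem vr47 : enR (nat_lit 6) (nat_lit 63) vT (LD0.leafV B 13 [nat_lit 13, nat_lit 8, nat_lit 6, nat_lit 4, nat_lit 3, nat_lit 2, nat_lit 1]) vL (0 + 47) 48 1 = true := by decide +kernel
theorem vall : ∀ g : P, ∃ c f, RepF 48 (Fin.ofNat 48) f (c * g * c⁻¹) ∧ (LD0.leafV B 13 [nat_lit 13, nat_lit 8, nat_lit 6, nat_lit 4, nat_lit 3, nat_lit 2, nat_lit 1]) f = true :=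
  enum_all std vlets vchk fun j hj => by
    interval_cases j
    exacts [vr0, vr1, vr2, vr3, vr4, vr5, vr6, vr7, vr8, vr9, vr10, vr11, vr12, vr13, vr14, vr15, vr16, vr17, vr18, vr19, vr20, vr21, vr22, vr23, vr24, vr25, vr26, vr27, vr28, vr29, vr30, vr31, vr32, vr33, vr34, vr35, vr36, vr37, vr38, vr39, vr40, vr41, vr42, vr43, vr44, vr45, vr46, vr47]
theorem witH : ∀ x ∈ [6, 8, 13], x ∈ Spec H :=
  LD.sd_wit isl (by norm_num) lets base [(6, 48, [nat_lit 2, nat_lit 1, nat_lit 1]), (8, 48, [nat_lit 1]), (1, 0, [nat_lit 2, nat_lit 3])] (by decide +kernel)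
theorem specH : SpecL H [1, 2, 3, 4, 6, 8, 13] := SpecL.of (fun g => by
    have := LD.sd_specU isl bas (by norm_num) base (by decide) vall g
    revert this; generalize orderOf g = a; simp; omega) witH (by decide)

end H8.O48v
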