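import Cfsg.Agent.H8.GG22
import Cfsg.Agent.H8.Glue
import Cfsg.Agent.H8.Chev
import Cfsg.Agent.S1059

/-! H8.XG22: `iso`: G2(2) is isomorphic to `P` (generated certificate) -/

set_option autoImplicit false
set_option maxRecDepth 200000

open Matrix

namespace H8.G22

instance : NeZero Cfsg.Lie.chevG2.rank := ⟨by decide⟩
instance : NeZero Cfsg.Lie.chevG2.nroots := ⟨by decide⟩
noncomputable def V : Tr ℕ := (.node (nat_lit 31) (.node (nat_lit 15) (.node (nat_lit 7) (.node (nat_lit 3) (.node (nat_lit 1) (.leaf (nat_lit 4)) (.node (nat_lit 2) (.leaf (nat_lit 8)) (.leaf (nat_lit 12))))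
 (.node (nat_lit 5) (.node (nat_lit 4) (.leaf (nat_lit 128)) (.leaf (nat_lit 132))) (.node (nat_lit 6) (.leaf (nat_lit 184)) (.leaf (nat_lit 188)))))
 (.node (nat_lit 11) (.node (nat_lit 9) (.node (nat_lit 8) (.leaf (nat_lit 256)) (.leaf (nat_lit 264))) (.node (nat_lit 10) (.leaf (nat_lit 340)) (.leaf (nat_lit 348))))
 (.node (nat_lit 13) (.node (nat_lit 12) (.leaf (nat_lit 386)) (.leaf (nat_lit 398))) (.node (nat_lit 14) (.leaf (nat_lit 502)) (.leaf (nat_lit 506))))))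
 (.node (nat_lit 23) (.node (nat_lit 19) (.node (nat_lit 17) (.node (nat_lit 16) (.leaf (nat_lit 4096)) (.leaf (nat_lit 4107))) (.node (nat_lit 18) (.leaf (nat_lit 4224)) (.leaf (nat_lit 4239))))
 (.node (nat_lit 21) (.node (nat_lit 20) (.leaf (nat_lit 4644)) (.leaf (nat_lit 4671))) (.node (nat_lit 22) (.leaf (nat_lit 4772)) (.leaf (nat_lit 4795)))))
 (.node (nat_lit 27) (.node (nat_lit 25) (.node (nat_lit 24) (.leaf (nat_lit 7424)) (.leaf (nat_lit 7499))) (.node (nat_lit 26) (.leaf (nat_lit 7608)) (.leaf (nat_lit 7671))))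
 (.node (nat_lit 29) (.node (nat_lit 28) (.leaf (nat_lit 7998)) (.leaf (nat_lit 8045))) (.node (nat_lit 30) (.leaf (nat_lit 8066)) (.leaf (nat_lit 8149)))))))
 (.node (nat_lit 47) (.node (nat_lit 39) (.node (nat_lit 35) (.node (nat_lit 33) (.node (nat_lit 32) (.leaf (nat_lit 8192)) (.leaf (nat_lit 8197))) (.node (nat_lit 34) (.leaf (nat_lit 8448)) (.leaf (nat_lit 8461))))
 (.node (nat_lit 37) (.node (nat_lit 36) (.leaf (nat_lit 9288)) (.leaf (nat_lit 9309))) (.node (nat_lit 38) (.leaf (nat_lit 9544)) (.leaf (nat_lit 9557)))))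
 (.node (nat_lit 43) (.node (nat_lit 41) (.node (nat_lit 40) (.leaf (nat_lit 10880)) (.leaf (nat_lit 10917))) (.node (nat_lit 42) (.leaf (nat_lit 11220)) (.leaf (nat_lit 11257))))
 (.node (nat_lit 45) (.node (nat_lit 44) (.leaf (nat_lit 11998)) (.leaf (nat_lit 12015))) (.node (nat_lit 46) (.leaf (nat_lit 12162)) (.leaf (nat_lit 12219))))))
 (.node (nat_lit 55) (.node (nat_lit 51) (.node (nat_lit 49) (.node (nat_lit 48) (.leaf (nat_lit 12288)) (.leaf (nat_lit 12421))) (.node (nat_lit 50) (.leaf (nat_lit 12555)) (.leaf (nat_lit 12674))))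
 (.node (nat_lit 53) (.node (nat_lit 52) (.leaf (nat_lit 13932)) (.leaf (nat_lit 14073))) (.node (nat_lit 54) (.leaf (nat_lit 14199)) (.leaf (nat_lit 14318)))))
 (.node (nat_lit 59) (.node (nat_lit 57) (.node (nat_lit 56) (.leaf (nat_lit 14885)) (.leaf (nat_lit 14976))) (.node (nat_lit 58) (.leaf (nat_lit 15222)) (.leaf (nat_lit 15327))))
 (.node (nat_lit 61) (.node (nat_lit 60) (.leaf (nat_lit 15435)) (.leaf (nat_lit 15610))) (.node (nat_lit 62) (.leaf (nat_lit 15616)) (.leaf (nat_lit 15805))))))))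
theorem pts : ptR C2 14 false V 63 0 63 = true := by decide +kernel
noncomputable def M0 : Sp := [[(nat_lit 0, nat_lit 1), (nat_lit 6, nat_lit 1)],
  [(nat_lit 1, nat_lit 1)],
  [(nat_lit 2, nat_lit 1)],
  [(nat_lit 3, nat_lit 1)],
  [(nat_lit 3, nat_lit 1), (nat_lit 4, nat_lit 1)],
  [(nat_lit 3, nat_lit 1), (nat_lit 5, nat_lit 1)],
  [(nat_lit 6, nat_lit 1)],
  [(nat_lit 3, nat_lit 1), (nat_lit 4, nat_lit 1), (nat_lit 5, nat_lit 1), (nat_lit 7, nat_lit 1)],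
  [(nat_lit 8, nat_lit 1)],
  [(nat_lit 1, nat_lit 1), (nat_lit 6, nat_lit 1), (nat_lit 9, nat_lit 1)],
  [(nat_lit 8, nat_lit 1), (nat_lit 10, nat_lit 1)],
  [(nat_lit 8, nat_lit 1), (nat_lit 11, nat_lit 1)],
  [(nat_lit 8, nat_lit 1), (nat_lit 10, nat_lit 1), (nat_lit 11, nat_lit 1), (nat_lit 12, nat_lit 1)],
  [(nat_lit 13, nat_lit 1)]]
noncomputable def M1 : Sp := [[(nat_lit 0, nat_lit 1)],
  [(nat_lit 1, nat_lit 1), (nat_lit 7, nat_lit 1)],
  [(nat_lit 2, nat_lit 1)],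
  [(nat_lit 2, nat_lit 1), (nat_lit 3, nat_lit 1)],
  [(nat_lit 4, nat_lit 1)],
  [(nat_lit 5, nat_lit 1)],
  [(nat_lit 5, nat_lit 1), (nat_lit 6, nat_lit 1)],
  [(nat_lit 7, nat_lit 1)],
  [(nat_lit 0, nat_lit 1), (nat_lit 7, nat_lit 1), (nat_lit 8, nat_lit 1)],
  [(nat_lit 9, nat_lit 1)],
  [(nat_lit 9, nat_lit 1), (nat_lit 10, nat_lit 1)],
  [(nat_lit 11, nat_lit 1)],
  [(nat_lit 12, nat_lit 1)],
  [(nat_lit 12, nat_lit 1), (nat_lit 13, nat_lit 1)]]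
noncomputable def M2 : Sp := [[(nat_lit 0, nat_lit 1), (nat_lit 9, nat_lit 1)],
  [(nat_lit 1, nat_lit 1)],
  [(nat_lit 2, nat_lit 1)],
  [(nat_lit 3, nat_lit 1), (nat_lit 4, nat_lit 1), (nat_lit 5, nat_lit 1), (nat_lit 7, nat_lit 1)],
  [(nat_lit 4, nat_lit 1), (nat_lit 7, nat_lit 1)],
  [(nat_lit 5, nat_lit 1), (nat_lit 7, nat_lit 1)],
  [(nat_lit 1, nat_lit 1), (nat_lit 6, nat_lit 1), (nat_lit 9, nat_lit 1)],
  [(nat_lit 7, nat_lit 1)],
  [(nat_lit 8, nat_lit 1), (nat_lit 10, nat_lit 1), (nat_lit 11, nat_lit 1), (nat_lit 12, nat_lit 1)],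
  [(nat_lit 9, nat_lit 1)],
  [(nat_lit 10, nat_lit 1), (nat_lit 12, nat_lit 1)],
  [(nat_lit 11, nat_lit 1), (nat_lit 12, nat_lit 1)],
  [(nat_lit 12, nat_lit 1)],
  [(nat_lit 13, nat_lit 1)]]
noncomputable def M3 : Sp := [[(nat_lit 0, nat_lit 1)],
  [(nat_lit 1, nat_lit 1), (nat_lit 8, nat_lit 1)],
  [(nat_lit 2, nat_lit 1), (nat_lit 3, nat_lit 1)],
  [(nat_lit 3, nat_lit 1)],
  [(nat_lit 4, nat_lit 1)],
  [(nat_lit 5, nat_lit 1), (nat_lit 6, nat_lit 1)],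
  [(nat_lit 6, nat_lit 1)],
  [(nat_lit 0, nat_lit 1), (nat_lit 7, nat_lit 1), (nat_lit 8, nat_lit 1)],
  [(nat_lit 8, nat_lit 1)],
  [(nat_lit 9, nat_lit 1), (nat_lit 10, nat_lit 1)],
  [(nat_lit 10, nat_lit 1)],
  [(nat_lit 11, nat_lit 1)],
  [(nat_lit 12, nat_lit 1), (nat_lit 13, nat_lit 1)],
  [(nat_lit 13, nat_lit 1)]]
noncomputable def MT : Tr Sp := (.node (nat_lit 2) (.node (nat_lit 1) (.leaf M0) (.leaf M1)) (.node (nat_lit 3) (.leaf M2) (.leaf M3)))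
noncomputable def SC : Tr ℕ := (.node (nat_lit 2) (.node (nat_lit 1) (.leaf (nat_lit 0x7fffffffffffffff)) (.leaf (nat_lit 0x7fffffffffffffff))) (.node (nat_lit 3) (.leaf (nat_lit 0x7fffffffffffffff)) (.leaf (nat_lit 0x7fffffffffffffff))))
theorem act : ActAll C2 14 false V 63 (nat_lit 6) (nat_lit 63) MT G0 SC 4 := actAll_of (by decide +kernel)
noncomputable def RT : Tr ℕ := (.node (nat_lit 2) (.node (nat_lit 1) (.leaf (nat_lit 7)) (.leaf (nat_lit 6))) (.node (nat_lit 3) (.leaf (nat_lit 4)) (.leaf (nat_lit 5))))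
noncomputable def TT : Tr ℕ := (.node (nat_lit 2) (.node (nat_lit 1) (.leaf (nat_lit 1)) (.leaf (nat_lit 1))) (.node (nat_lit 3) (.leaf (nat_lit 1)) (.leaf (nat_lit 1))))
theorem pw : ∀ j < 4, entChk C2 14 (MT.get j) (fun a b => xC C2 2 Cfsg.Lie.chevG2 (Fin.ofNat _ (RT.get j)) (TT.get j)
    (unS Cfsg.Lie.chevG2.rank Cfsg.Lie.chevG2.nroots a) (unS Cfsg.Lie.chevG2.rank Cfsg.Lie.chevG2.nroots b)) = true ∧ powChk C2 14 (MT.get j) 2 = true := by decide +kernel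
theorem iso {F : Type*} [Field F] [Fintype F] (hF : Fintype.card F = 2) :
    Nonempty (Cfsg.Lie.chevG2.group F ≃* P) := by
  haveI : CharP F 2 := charP_of_card (k := 1) (by norm_num) hF
  have h := fm2 (F := F)
  have hx : IX _ _ 14 := ix_sum Cfsg.Lie.chevG2.rank Cfsg.Lie.chevG2.nroots
  refine iso_of_card' gen (h.pt_inj hx (τGL (Cfsg.Lie.chevG2.group F)) pts)
    (act.lets h hx fun j hj => h.exists_chev 2 (by decide) hx _ _ (pw j hj).1 (pw j hj).2) ?_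
  rw [card, Cfsg.Agent.S1059.result hF]
  decide

end H8.G22
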