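import Cfsg.Agent.H8.GG24
import Cfsg.Agent.H8.Glue
import Cfsg.Agent.H8.Chev
import Cfsg.Agent.S1059

/-! H8.XG24: `iso`: G2(4) is isomorphic to `P` (generated certificate) -/

set_option autoImplicit false
set_option maxRecDepth 200000

open Matrix

namespace H8.G24

instance : NeZero Cfsg.Lie.chevG2.rank := ⟨by decide⟩
instance : NeZero Cfsg.Lie.chevG2.nroots := ⟨by decide⟩
noncomputable def V_0 : Tr ℕ := (.node (nat_lit 85) (.node (nat_lit 42) (.node (nat_lit 21) (.node (nat_lit 10) (.node (nat_lit 5) (.node (nat_lit 2) (.node (nat_lit 1) (.leaf (nat_lit 16)) (.leaf (nat_lit 64))) (.node (nat_lit 3) (.leaf (nat_lit 80)) (.node (nat_lit 4) (.leaf (nat_lit 144)) (.leaf (nat_lit 208)))))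
 (.node (nat_lit 7) (.node (nat_lit 6) (.leaf (nat_lit 16384)) (.leaf (nat_lit 16400))) (.node (nat_lit 8) (.leaf (nat_lit 17728)) (.node (nat_lit 9) (.leaf (nat_lit 17744)) (.leaf (nat_lit 19264))))))
 (.node (nat_lit 15) (.node (nat_lit 12) (.node (nat_lit 11) (.leaf (nat_lit 19280)) (.leaf (nat_lit 20032))) (.node (nat_lit 13) (.leaf (nat_lit 20048)) (.node (nat_lit 14) (.leaf (nat_lit 32784)) (.leaf (nat_lit 34704)))))
 (.node (nat_lit 18) (.node (nat_lit 16) (.leaf (nat_lit 35472)) (.node (nat_lit 17) (.leaf (nat_lit 36240)) (.leaf (nat_lit 49168)))) (.node (nat_lit 19) (.leaf (nat_lit 50896)) (.node (nat_lit 20) (.leaf (nat_lit 51664)) (.leaf (nat_lit 53200)))))))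
 (.node (nat_lit 31) (.node (nat_lit 26) (.node (nat_lit 23) (.node (nat_lit 22) (.leaf (nat_lit 65536)) (.leaf (nat_lit 65600))) (.node (nat_lit 24) (.leaf (nat_lit 69904)) (.node (nat_lit 25) (.leaf (nat_lit 69968)) (.leaf (nat_lit 70032)))))
 (.node (nat_lit 28) (.node (nat_lit 27) (.leaf (nat_lit 70096)) (.leaf (nat_lit 74512))) (.node (nat_lit 29) (.leaf (nat_lit 74576)) (.node (nat_lit 30) (.leaf (nat_lit 74640)) (.leaf (nat_lit 74704))))))
 (.node (nat_lit 36) (.node (nat_lit 33) (.node (nat_lit 32) (.leaf (nat_lit 78352)) (.leaf (nat_lit 78416))) (.node (nat_lit 34) (.leaf (nat_lit 78480)) (.node (nat_lit 35) (.leaf (nat_lit 78544)) (.leaf (nat_lit 81924)))))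
 (.node (nat_lit 39) (.node (nat_lit 37) (.leaf (nat_lit 82004)) (.node (nat_lit 38) (.leaf (nat_lit 82084)) (.leaf (nat_lit 82164)))) (.node (nat_lit 40) (.leaf (nat_lit 87316)) (.node (nat_lit 41) (.leaf (nat_lit 87364)) (.leaf (nat_lit 87476))))))))
 (.node (nat_lit 63) (.node (nat_lit 52) (.node (nat_lit 47) (.node (nat_lit 44) (.node (nat_lit 43) (.leaf (nat_lit 87524)) (.leaf (nat_lit 92948))) (.node (nat_lit 45) (.leaf (nat_lit 92996)) (.node (nat_lit 46) (.leaf (nat_lit 93108)) (.leaf (nat_lit 93156)))))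
 (.node (nat_lit 49) (.node (nat_lit 48) (.leaf (nat_lit 97812)) (.leaf (nat_lit 97860))) (.node (nat_lit 50) (.leaf (nat_lit 97972)) (.node (nat_lit 51) (.leaf (nat_lit 98020)) (.leaf (nat_lit 131136))))))
 (.node (nat_lit 57) (.node (nat_lit 54) (.node (nat_lit 53) (.leaf (nat_lit 180228)) (.leaf (nat_lit 180340))) (.node (nat_lit 55) (.leaf (nat_lit 180372)) (.node (nat_lit 56) (.leaf (nat_lit 180452)) (.leaf (nat_lit 188196)))))
 (.node (nat_lit 60) (.node (nat_lit 58) (.leaf (nat_lit 188244)) (.node (nat_lit 59) (.leaf (nat_lit 188340)) (.leaf (nat_lit 188356)))) (.node (nat_lit 61) (.leaf (nat_lit 189988)) (.node (nat_lit 62) (.leaf (nat_lit 190036)) (.leaf (nat_lit 190132)))))))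
 (.node (nat_lit 74) (.node (nat_lit 68) (.node (nat_lit 65) (.node (nat_lit 64) (.leaf (nat_lit 190148)) (.leaf (nat_lit 194852))) (.node (nat_lit 66) (.leaf (nat_lit 194900)) (.node (nat_lit 67) (.leaf (nat_lit 194996)) (.leaf (nat_lit 195012)))))
 (.node (nat_lit 71) (.node (nat_lit 69) (.leaf (nat_lit 196672)) (.node (nat_lit 70) (.leaf (nat_lit 229380)) (.leaf (nat_lit 229476)))) (.node (nat_lit 72) (.leaf (nat_lit 229556)) (.node (nat_lit 73) (.leaf (nat_lit 229588)) (.leaf (nat_lit 236084))))))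
 (.node (nat_lit 79) (.node (nat_lit 76) (.node (nat_lit 75) (.leaf (nat_lit 236116)) (.leaf (nat_lit 236164))) (.node (nat_lit 77) (.leaf (nat_lit 236260)) (.node (nat_lit 78) (.leaf (nat_lit 240948)) (.leaf (nat_lit 240980)))))
 (.node (nat_lit 82) (.node (nat_lit 80) (.leaf (nat_lit 241028)) (.node (nat_lit 81) (.leaf (nat_lit 241124)) (.leaf (nat_lit 243508)))) (.node (nat_lit 83) (.leaf (nat_lit 243540)) (.node (nat_lit 84) (.leaf (nat_lit 243588)) (.leaf (nat_lit 243684)))))))))
 (.node (nat_lit 127) (.node (nat_lit 106) (.node (nat_lit 95) (.node (nat_lit 90) (.node (nat_lit 87) (.node (nat_lit 86) (.leaf (nat_lit 16777216)) (.leaf (nat_lit 16777285))) (.node (nat_lit 88) (.leaf (nat_lit 16793600)) (.node (nat_lit 89) (.leaf (nat_lit 16793685)) (.leaf (nat_lit 16810085)))))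
 (.node (nat_lit 92) (.node (nat_lit 91) (.leaf (nat_lit 16826485)) (.leaf (nat_lit 17040400))) (.node (nat_lit 93) (.leaf (nat_lit 17040725)) (.node (nat_lit 94) (.leaf (nat_lit 17056784)) (.leaf (nat_lit 17057093))))))
 (.node (nat_lit 100) (.node (nat_lit 97) (.node (nat_lit 96) (.leaf (nat_lit 17073168)) (.leaf (nat_lit 17073525))) (.node (nat_lit 98) (.leaf (nat_lit 17089552)) (.node (nat_lit 99) (.leaf (nat_lit 17089893)) (.leaf (nat_lit 17304592)))))
 (.node (nat_lit 103) (.node (nat_lit 101) (.leaf (nat_lit 17305173)) (.node (nat_lit 102) (.leaf (nat_lit 17320976)) (.leaf (nat_lit 17321541)))) (.node (nat_lit 104) (.leaf (nat_lit 17337360)) (.node (nat_lit 105) (.leaf (nat_lit 17337973)) (.leaf (nat_lit 17353744)))))))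
 (.node (nat_lit 116) (.node (nat_lit 111) (.node (nat_lit 108) (.node (nat_lit 107) (.leaf (nat_lit 17354341)) (.leaf (nat_lit 17565712))) (.node (nat_lit 109) (.leaf (nat_lit 17566549)) (.node (nat_lit 110) (.leaf (nat_lit 17582096)) (.leaf (nat_lit 17582917)))))
 (.node (nat_lit 113) (.node (nat_lit 112) (.leaf (nat_lit 17598480)) (.leaf (nat_lit 17599349))) (.node (nat_lit 114) (.leaf (nat_lit 17614864)) (.node (nat_lit 115) (.leaf (nat_lit 17615717)) (.leaf (nat_lit 22085632))))))
 (.node (nat_lit 121) (.node (nat_lit 118) (.node (nat_lit 117) (.leaf (nat_lit 22089797)) (.leaf (nat_lit 22103360))) (.node (nat_lit 119) (.leaf (nat_lit 22107413)) (.node (nat_lit 120) (.leaf (nat_lit 22125285)) (.leaf (nat_lit 22142901)))))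
 (.node (nat_lit 124) (.node (nat_lit 122) (.leaf (nat_lit 22349140)) (.node (nat_lit 123) (.leaf (nat_lit 22352977)) (.leaf (nat_lit 22364164)))) (.node (nat_lit 125) (.leaf (nat_lit 22368529)) (.node (nat_lit 126) (.leaf (nat_lit 22384628)) (.leaf (nat_lit 22388433))))))))
 (.node (nat_lit 148) (.node (nat_lit 137) (.node (nat_lit 132) (.node (nat_lit 129) (.node (nat_lit 128) (.leaf (nat_lit 22399652)) (.leaf (nat_lit 22403985))) (.node (nat_lit 130) (.leaf (nat_lit 22617373)) (.node (nat_lit 131) (.leaf (nat_lit 22632557)) (.leaf (nat_lit 22648717)))))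
 (.node (nat_lit 134) (.node (nat_lit 133) (.leaf (nat_lit 22663933)) (.leaf (nat_lit 22878489))) (.node (nat_lit 135) (.leaf (nat_lit 22895737)) (.node (nat_lit 136) (.leaf (nat_lit 22909865)) (.leaf (nat_lit 22927049))))))
 (.node (nat_lit 142) (.node (nat_lit 139) (.node (nat_lit 138) (.leaf (nat_lit 28377088)) (.leaf (nat_lit 28385349))) (.node (nat_lit 140) (.leaf (nat_lit 28396352)) (.node (nat_lit 141) (.leaf (nat_lit 28404501)) (.leaf (nat_lit 28421605)))))
 (.node (nat_lit 145) (.node (nat_lit 143) (.leaf (nat_lit 28436149)) (.node (nat_lit 144) (.leaf (nat_lit 28649245)) (.leaf (nat_lit 28666989)))) (.node (nat_lit 146) (.leaf (nat_lit 28682893)) (.node (nat_lit 147) (.leaf (nat_lit 28697085)) (.leaf (nat_lit 28913433)))))))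
 (.node (nat_lit 159) (.node (nat_lit 153) (.node (nat_lit 150) (.node (nat_lit 149) (.leaf (nat_lit 28927097)) (.leaf (nat_lit 28943017))) (.node (nat_lit 151) (.leaf (nat_lit 28961225)) (.node (nat_lit 152) (.leaf (nat_lit 29166420)) (.leaf (nat_lit 29173841)))))
 (.node (nat_lit 156) (.node (nat_lit 154) (.leaf (nat_lit 29179908)) (.node (nat_lit 155) (.leaf (nat_lit 29188881)) (.leaf (nat_lit 29198068)))) (.node (nat_lit 157) (.leaf (nat_lit 29205969)) (.node (nat_lit 158) (.leaf (nat_lit 29216164)) (.leaf (nat_lit 29224593))))))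
 (.node (nat_lit 164) (.node (nat_lit 161) (.node (nat_lit 160) (.leaf (nat_lit 31522816)) (.leaf (nat_lit 31535173))) (.node (nat_lit 162) (.leaf (nat_lit 31542848)) (.node (nat_lit 163) (.leaf (nat_lit 31555093)) (.leaf (nat_lit 31569893)))))
 (.node (nat_lit 167) (.node (nat_lit 165) (.leaf (nat_lit 31586741)) (.node (nat_lit 166) (.leaf (nat_lit 31798809)) (.leaf (nat_lit 31815801)))) (.node (nat_lit 168) (.leaf (nat_lit 31830441)) (.node (nat_lit 169) (.leaf (nat_lit 31850441)) (.leaf (nat_lit 32050772))))))))))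
noncomputable def V_1 : Tr ℕ := (.node (nat_lit 255) (.node (nat_lit 212) (.node (nat_lit 191) (.node (nat_lit 180) (.node (nat_lit 175) (.node (nat_lit 172) (.node (nat_lit 171) (.leaf (nat_lit 32062545)) (.leaf (nat_lit 32063492))) (.node (nat_lit 173) (.leaf (nat_lit 32076305)) (.node (nat_lit 174) (.leaf (nat_lit 32082420)) (.leaf (nat_lit 32095185)))))
 (.node (nat_lit 177) (.node (nat_lit 176) (.leaf (nat_lit 32098212)) (.leaf (nat_lit 32109969))) (.node (nat_lit 178) (.leaf (nat_lit 32324125)) (.node (nat_lit 179) (.leaf (nat_lit 32339053)) (.leaf (nat_lit 32357773))))))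
 (.node (nat_lit 185) (.node (nat_lit 182) (.node (nat_lit 181) (.leaf (nat_lit 32371709)) (.leaf (nat_lit 33554629))) (.node (nat_lit 183) (.leaf (nat_lit 33570816)) (.node (nat_lit 184) (.leaf (nat_lit 33571061)) (.leaf (nat_lit 33587413)))))
 (.node (nat_lit 188) (.node (nat_lit 186) (.leaf (nat_lit 33603813)) (.node (nat_lit 187) (.leaf (nat_lit 33820645)) (.leaf (nat_lit 33837013)))) (.node (nat_lit 189) (.leaf (nat_lit 33853429)) (.node (nat_lit 190) (.leaf (nat_lit 33869765)) (.leaf (nat_lit 34081253)))))))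
 (.node (nat_lit 201) (.node (nat_lit 196) (.node (nat_lit 193) (.node (nat_lit 192) (.leaf (nat_lit 34097621)) (.leaf (nat_lit 34114037))) (.node (nat_lit 194) (.leaf (nat_lit 34130373)) (.node (nat_lit 195) (.leaf (nat_lit 34342629)) (.leaf (nat_lit 34358997)))))
 (.node (nat_lit 198) (.node (nat_lit 197) (.leaf (nat_lit 34375413)) (.leaf (nat_lit 34391749))) (.node (nat_lit 199) (.leaf (nat_lit 41038021)) (.node (nat_lit 200) (.leaf (nat_lit 41045568)) (.leaf (nat_lit 41057973))))))
 (.node (nat_lit 206) (.node (nat_lit 203) (.node (nat_lit 202) (.leaf (nat_lit 41072469)) (.leaf (nat_lit 41089317))) (.node (nat_lit 204) (.leaf (nat_lit 41303337)) (.node (nat_lit 205) (.leaf (nat_lit 41317241)) (.leaf (nat_lit 41335433)))))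
 (.node (nat_lit 209) (.node (nat_lit 207) (.leaf (nat_lit 41350361)) (.node (nat_lit 208) (.leaf (nat_lit 41552356)) (.leaf (nat_lit 41564385)))) (.node (nat_lit 210) (.leaf (nat_lit 41568148)) (.node (nat_lit 211) (.leaf (nat_lit 41580193)) (.leaf (nat_lit 41586292))))))))
 (.node (nat_lit 233) (.node (nat_lit 222) (.node (nat_lit 217) (.node (nat_lit 214) (.node (nat_lit 213) (.leaf (nat_lit 41598817)) (.leaf (nat_lit 41598980))) (.node (nat_lit 215) (.leaf (nat_lit 41611553)) (.node (nat_lit 216) (.leaf (nat_lit 41825581)) (.leaf (nat_lit 41843533)))))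
 (.node (nat_lit 219) (.node (nat_lit 218) (.leaf (nat_lit 41857693)) (.leaf (nat_lit 41876733))) (.node (nat_lit 220) (.leaf (nat_lit 44175557)) (.node (nat_lit 221) (.leaf (nat_lit 44188992)) (.leaf (nat_lit 44193205))))))
 (.node (nat_lit 227) (.node (nat_lit 224) (.node (nat_lit 223) (.leaf (nat_lit 44210773)) (.leaf (nat_lit 44228389))) (.node (nat_lit 225) (.leaf (nat_lit 44437476)) (.node (nat_lit 226) (.leaf (nat_lit 44440801)) (.leaf (nat_lit 44452500)))))
 (.node (nat_lit 230) (.node (nat_lit 228) (.leaf (nat_lit 44456353)) (.node (nat_lit 229) (.leaf (nat_lit 44467572)) (.leaf (nat_lit 44471905)))) (.node (nat_lit 231) (.leaf (nat_lit 44482564)) (.node (nat_lit 232) (.leaf (nat_lit 44487457)) (.leaf (nat_lit 44702509)))))))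
 (.node (nat_lit 244) (.node (nat_lit 238) (.node (nat_lit 235) (.node (nat_lit 234) (.leaf (nat_lit 44719693)) (.leaf (nat_lit 44732829))) (.node (nat_lit 236) (.leaf (nat_lit 44750077)) (.node (nat_lit 237) (.leaf (nat_lit 44963625)) (.leaf (nat_lit 44978809)))))
 (.node (nat_lit 241) (.node (nat_lit 239) (.leaf (nat_lit 44998025)) (.node (nat_lit 240) (.leaf (nat_lit 45013209)) (.leaf (nat_lit 47325381)))) (.node (nat_lit 242) (.leaf (nat_lit 47336256)) (.node (nat_lit 243) (.leaf (nat_lit 47344565)) (.leaf (nat_lit 47361365))))))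
 (.node (nat_lit 249) (.node (nat_lit 246) (.node (nat_lit 245) (.leaf (nat_lit 47375909)) (.leaf (nat_lit 47590957))) (.node (nat_lit 247) (.leaf (nat_lit 47605069)) (.node (nat_lit 248) (.leaf (nat_lit 47621021)) (.leaf (nat_lit 47638781)))))
 (.node (nat_lit 252) (.node (nat_lit 250) (.leaf (nat_lit 47852073)) (.node (nat_lit 251) (.leaf (nat_lit 47866233)) (.leaf (nat_lit 47884169)))) (.node (nat_lit 253) (.leaf (nat_lit 47901913)) (.node (nat_lit 254) (.leaf (nat_lit 48105188)) (.leaf (nat_lit 48112865)))))))))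
 (.node (nat_lit 298) (.node (nat_lit 276) (.node (nat_lit 265) (.node (nat_lit 260) (.node (nat_lit 257) (.node (nat_lit 256) (.leaf (nat_lit 48123284)) (.leaf (nat_lit 48132001))) (.node (nat_lit 258) (.leaf (nat_lit 48139124)) (.node (nat_lit 259) (.leaf (nat_lit 48146785)) (.leaf (nat_lit 48152580)))))
 (.node (nat_lit 262) (.node (nat_lit 261) (.leaf (nat_lit 48161313)) (.leaf (nat_lit 50331781))) (.node (nat_lit 263) (.leaf (nat_lit 50348032)) (.node (nat_lit 264) (.leaf (nat_lit 50348197)) (.leaf (nat_lit 50364597))))))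
 (.node (nat_lit 270) (.node (nat_lit 267) (.node (nat_lit 266) (.leaf (nat_lit 50380949)) (.leaf (nat_lit 50596533))) (.node (nat_lit 268) (.leaf (nat_lit 50612885)) (.node (nat_lit 269) (.leaf (nat_lit 50629253)) (.leaf (nat_lit 50645669)))))
 (.node (nat_lit 273) (.node (nat_lit 271) (.leaf (nat_lit 50857909)) (.node (nat_lit 272) (.leaf (nat_lit 50874261)) (.leaf (nat_lit 50890629)))) (.node (nat_lit 274) (.leaf (nat_lit 50907045)) (.node (nat_lit 275) (.leaf (nat_lit 51121589)) (.leaf (nat_lit 51137941)))))))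
 (.node (nat_lit 287) (.node (nat_lit 281) (.node (nat_lit 278) (.node (nat_lit 277) (.leaf (nat_lit 51154309)) (.leaf (nat_lit 51170725))) (.node (nat_lit 279) (.leaf (nat_lit 56828037)) (.node (nat_lit 280) (.leaf (nat_lit 56838976)) (.leaf (nat_lit 56847333)))))
 (.node (nat_lit 284) (.node (nat_lit 282) (.leaf (nat_lit 56864053)) (.node (nat_lit 283) (.leaf (nat_lit 56878677)) (.leaf (nat_lit 57092413)))) (.node (nat_lit 285) (.leaf (nat_lit 57107053)) (.node (nat_lit 286) (.leaf (nat_lit 57123997)) (.leaf (nat_lit 57143245))))))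
 (.node (nat_lit 292) (.node (nat_lit 289) (.node (nat_lit 288) (.leaf (nat_lit 57353529)) (.leaf (nat_lit 57372233))) (.node (nat_lit 290) (.leaf (nat_lit 57387177)) (.node (nat_lit 291) (.leaf (nat_lit 57402329)) (.leaf (nat_lit 57609652)))))
 (.node (nat_lit 295) (.node (nat_lit 293) (.leaf (nat_lit 57617585)) (.node (nat_lit 294) (.leaf (nat_lit 57624276)) (.leaf (nat_lit 57632753)))) (.node (nat_lit 296) (.leaf (nat_lit 57638916)) (.node (nat_lit 297) (.leaf (nat_lit 57647409)) (.leaf (nat_lit 57658212))))))))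
 (.node (nat_lit 319) (.node (nat_lit 308) (.node (nat_lit 303) (.node (nat_lit 300) (.node (nat_lit 299) (.leaf (nat_lit 57666161)) (.leaf (nat_lit 59977861))) (.node (nat_lit 301) (.leaf (nat_lit 59985472)) (.node (nat_lit 302) (.leaf (nat_lit 59997925)) (.leaf (nat_lit 60012341)))))
 (.node (nat_lit 305) (.node (nat_lit 304) (.leaf (nat_lit 60029269)) (.leaf (nat_lit 60242745))) (.node (nat_lit 306) (.leaf (nat_lit 60257609)) (.node (nat_lit 307) (.leaf (nat_lit 60275881)) (.leaf (nat_lit 60289753))))))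
 (.node (nat_lit 313) (.node (nat_lit 310) (.node (nat_lit 309) (.leaf (nat_lit 60491700)) (.leaf (nat_lit 60503217))) (.node (nat_lit 311) (.leaf (nat_lit 60508628)) (.node (nat_lit 312) (.leaf (nat_lit 60521201)) (.leaf (nat_lit 60522500)))))
 (.node (nat_lit 316) (.node (nat_lit 314) (.leaf (nat_lit 60535601)) (.node (nat_lit 315) (.leaf (nat_lit 60542564)) (.leaf (nat_lit 60554609)))) (.node (nat_lit 317) (.leaf (nat_lit 60768061)) (.node (nat_lit 318) (.leaf (nat_lit 60780909)) (.leaf (nat_lit 60799133)))))))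
 (.node (nat_lit 330) (.node (nat_lit 324) (.node (nat_lit 321) (.node (nat_lit 320) (.leaf (nat_lit 60815053)) (.leaf (nat_lit 66261125))) (.node (nat_lit 322) (.leaf (nat_lit 66274624)) (.node (nat_lit 323) (.leaf (nat_lit 66278885)) (.leaf (nat_lit 66296373)))))
 (.node (nat_lit 327) (.node (nat_lit 325) (.leaf (nat_lit 66314069)) (.node (nat_lit 326) (.leaf (nat_lit 66521780)) (.leaf (nat_lit 66525361)))) (.node (nat_lit 328) (.leaf (nat_lit 66539476)) (.node (nat_lit 329) (.leaf (nat_lit 66543089)) (.leaf (nat_lit 66551812))))))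
 (.node (nat_lit 335) (.node (nat_lit 332) (.node (nat_lit 331) (.leaf (nat_lit 66556465)) (.leaf (nat_lit 66569572))) (.node (nat_lit 333) (.leaf (nat_lit 66574193)) (.node (nat_lit 334) (.leaf (nat_lit 66786877)) (.leaf (nat_lit 66802541)))))
 (.node (nat_lit 338) (.node (nat_lit 336) (.leaf (nat_lit 66821277)) (.node (nat_lit 337) (.leaf (nat_lit 66836941)) (.leaf (nat_lit 67051065)))) (.node (nat_lit 339) (.leaf (nat_lit 67066697)) (.node (nat_lit 340) (.leaf (nat_lit 67081385)) (.leaf (nat_lit 67097049))))))))))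
noncomputable def V_2 : Tr ℕ := (.node (nat_lit 426) (.node (nat_lit 383) (.node (nat_lit 362) (.node (nat_lit 351) (.node (nat_lit 346) (.node (nat_lit 343) (.node (nat_lit 342) (.leaf (nat_lit 67108864)) (.leaf (nat_lit 67108881))) (.node (nat_lit 344) (.leaf (nat_lit 67174400)) (.node (nat_lit 345) (.leaf (nat_lit 67174481)) (.leaf (nat_lit 67240081)))))
 (.node (nat_lit 348) (.node (nat_lit 347) (.leaf (nat_lit 67305681)) (.leaf (nat_lit 68161600))) (.node (nat_lit 349) (.leaf (nat_lit 68161873)) (.node (nat_lit 350) (.leaf (nat_lit 68227136)) (.leaf (nat_lit 68227345))))))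
 (.node (nat_lit 356) (.node (nat_lit 353) (.node (nat_lit 352) (.leaf (nat_lit 68292672)) (.leaf (nat_lit 68293073))) (.node (nat_lit 354) (.leaf (nat_lit 68358208)) (.node (nat_lit 355) (.leaf (nat_lit 68358545)) (.leaf (nat_lit 69218368)))))
 (.node (nat_lit 359) (.node (nat_lit 357) (.leaf (nat_lit 69218897)) (.node (nat_lit 358) (.leaf (nat_lit 69283904)) (.leaf (nat_lit 69284369)))) (.node (nat_lit 360) (.leaf (nat_lit 69349440)) (.node (nat_lit 361) (.leaf (nat_lit 69350097)) (.leaf (nat_lit 69414976)))))))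
 (.node (nat_lit 372) (.node (nat_lit 367) (.node (nat_lit 364) (.node (nat_lit 363) (.leaf (nat_lit 69415569)) (.leaf (nat_lit 70262848))) (.node (nat_lit 365) (.leaf (nat_lit 70263633)) (.node (nat_lit 366) (.leaf (nat_lit 70328384)) (.leaf (nat_lit 70329105)))))
 (.node (nat_lit 369) (.node (nat_lit 368) (.leaf (nat_lit 70393920)) (.leaf (nat_lit 70394833))) (.node (nat_lit 370) (.leaf (nat_lit 70459456)) (.node (nat_lit 371) (.leaf (nat_lit 70460305)) (.leaf (nat_lit 71581696))))))
 (.node (nat_lit 377) (.node (nat_lit 374) (.node (nat_lit 373) (.leaf (nat_lit 71582737)) (.leaf (nat_lit 71651600))) (.node (nat_lit 375) (.leaf (nat_lit 71652673)) (.node (nat_lit 376) (.leaf (nat_lit 71722673)) (.leaf (nat_lit 71792609)))))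
 (.node (nat_lit 380) (.node (nat_lit 378) (.leaf (nat_lit 72634708)) (.node (nat_lit 379) (.leaf (nat_lit 72635477)) (.leaf (nat_lit 72695812)))) (.node (nat_lit 381) (.leaf (nat_lit 72697157)) (.node (nat_lit 382) (.leaf (nat_lit 72774644)) (.leaf (nat_lit 72775285))))))))
 (.node (nat_lit 404) (.node (nat_lit 393) (.node (nat_lit 388) (.node (nat_lit 385) (.node (nat_lit 384) (.leaf (nat_lit 72835748)) (.leaf (nat_lit 72836965))) (.node (nat_lit 386) (.leaf (nat_lit 73692489)) (.node (nat_lit 387) (.leaf (nat_lit 73753753)) (.leaf (nat_lit 73815849)))))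
 (.node (nat_lit 390) (.node (nat_lit 389) (.leaf (nat_lit 73877241)) (.leaf (nat_lit 74736973))) (.node (nat_lit 391) (.leaf (nat_lit 74806493)) (.node (nat_lit 392) (.leaf (nat_lit 74860461)) (.leaf (nat_lit 74929725))))))
 (.node (nat_lit 398) (.node (nat_lit 395) (.node (nat_lit 394) (.leaf (nat_lit 76300288)) (.leaf (nat_lit 76302353))) (.node (nat_lit 396) (.leaf (nat_lit 76374800)) (.node (nat_lit 397) (.leaf (nat_lit 76376897)) (.leaf (nat_lit 76446129)))))
 (.node (nat_lit 401) (.node (nat_lit 399) (.leaf (nat_lit 76503777)) (.node (nat_lit 400) (.leaf (nat_lit 77355849)) (.leaf (nat_lit 77428889)))) (.node (nat_lit 402) (.leaf (nat_lit 77490729)) (.node (nat_lit 403) (.leaf (nat_lit 77548025)) (.leaf (nat_lit 78412621)))))))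
 (.node (nat_lit 415) (.node (nat_lit 409) (.node (nat_lit 406) (.node (nat_lit 405) (.leaf (nat_lit 78469341)) (.leaf (nat_lit 78531245))) (.node (nat_lit 407) (.leaf (nat_lit 78604605)) (.node (nat_lit 408) (.leaf (nat_lit 79455060)) (.leaf (nat_lit 79456341)))))
 (.node (nat_lit 412) (.node (nat_lit 410) (.leaf (nat_lit 79511556)) (.node (nat_lit 411) (.leaf (nat_lit 79514437)) (.leaf (nat_lit 79581940)))) (.node (nat_lit 413) (.leaf (nat_lit 79583605)) (.node (nat_lit 414) (.leaf (nat_lit 79655332)) (.leaf (nat_lit 79657573))))))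
 (.node (nat_lit 420) (.node (nat_lit 417) (.node (nat_lit 416) (.leaf (nat_lit 80232448)) (.leaf (nat_lit 80235537))) (.node (nat_lit 418) (.leaf (nat_lit 80310800)) (.node (nat_lit 419) (.leaf (nat_lit 80313921)) (.leaf (nat_lit 80371633)))))
 (.node (nat_lit 423) (.node (nat_lit 421) (.leaf (nat_lit 80440801)) (.node (nat_lit 422) (.leaf (nat_lit 81288781)) (.leaf (nat_lit 81358045)))) (.node (nat_lit 424) (.leaf (nat_lit 81415597)) (.node (nat_lit 425) (.leaf (nat_lit 81493821)) (.leaf (nat_lit 82342484)))))))))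
 (.node (nat_lit 468) (.node (nat_lit 447) (.node (nat_lit 436) (.node (nat_lit 431) (.node (nat_lit 428) (.node (nat_lit 427) (.leaf (nat_lit 82345045)) (.leaf (nat_lit 82395140))) (.node (nat_lit 429) (.leaf (nat_lit 82398789)) (.node (nat_lit 430) (.leaf (nat_lit 82469364)) (.leaf (nat_lit 82472821)))))
 (.node (nat_lit 433) (.node (nat_lit 432) (.leaf (nat_lit 82531236)) (.leaf (nat_lit 82533733))) (.node (nat_lit 434) (.leaf (nat_lit 83390025)) (.node (nat_lit 435) (.leaf (nat_lit 83451033)) (.leaf (nat_lit 83524905))))))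
 (.node (nat_lit 441) (.node (nat_lit 438) (.node (nat_lit 437) (.leaf (nat_lit 83578873)) (.leaf (nat_lit 83886080))) (.node (nat_lit 439) (.leaf (nat_lit 83902481)) (.node (nat_lit 440) (.leaf (nat_lit 83951685)) (.leaf (nat_lit 83968004)))))
 (.node (nat_lit 444) (.node (nat_lit 442) (.leaf (nat_lit 84066489)) (.node (nat_lit 443) (.leaf (nat_lit 84115693)) (.leaf (nat_lit 85202000)))) (.node (nat_lit 445) (.leaf (nat_lit 85218625)) (.node (nat_lit 446) (.leaf (nat_lit 85267733)) (.leaf (nat_lit 85283924)))))))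
 (.node (nat_lit 457) (.node (nat_lit 452) (.node (nat_lit 449) (.node (nat_lit 448) (.leaf (nat_lit 85382633)) (.leaf (nat_lit 85431741))) (.node (nat_lit 450) (.leaf (nat_lit 86522960)) (.node (nat_lit 451) (.leaf (nat_lit 86539841)) (.leaf (nat_lit 86588949)))))
 (.node (nat_lit 454) (.node (nat_lit 453) (.leaf (nat_lit 86604884)) (.leaf (nat_lit 86703849))) (.node (nat_lit 455) (.leaf (nat_lit 86752957)) (.node (nat_lit 456) (.leaf (nat_lit 87828560)) (.leaf (nat_lit 87845697))))))
 (.node (nat_lit 462) (.node (nat_lit 459) (.node (nat_lit 458) (.leaf (nat_lit 87894805)) (.leaf (nat_lit 87910484))) (.node (nat_lit 460) (.leaf (nat_lit 88009705)) (.node (nat_lit 461) (.leaf (nat_lit 88058813)) (.leaf (nat_lit 88343569)))))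
 (.node (nat_lit 465) (.node (nat_lit 463) (.leaf (nat_lit 88358912)) (.node (nat_lit 464) (.leaf (nat_lit 88413460)) (.leaf (nat_lit 88428885)))) (.node (nat_lit 466) (.leaf (nat_lit 88518297)) (.node (nat_lit 467) (.leaf (nat_lit 88603613)) (.leaf (nat_lit 89133125))))))))
 (.node (nat_lit 489) (.node (nat_lit 478) (.node (nat_lit 473) (.node (nat_lit 470) (.node (nat_lit 469) (.leaf (nat_lit 89150788)) (.leaf (nat_lit 89194496))) (.node (nat_lit 471) (.leaf (nat_lit 89212241)) (.node (nat_lit 472) (.leaf (nat_lit 89307757)) (.leaf (nat_lit 89386873)))))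
 (.node (nat_lit 475) (.node (nat_lit 474) (.leaf (nat_lit 90978649)) (.leaf (nat_lit 91057341))) (.node (nat_lit 476) (.leaf (nat_lit 91132705)) (.node (nat_lit 477) (.leaf (nat_lit 91193348)) (.leaf (nat_lit 91211461))))))
 (.node (nat_lit 483) (.node (nat_lit 480) (.node (nat_lit 479) (.leaf (nat_lit 91762013)) (.leaf (nat_lit 91846889))) (.node (nat_lit 481) (.leaf (nat_lit 91916165)) (.node (nat_lit 482) (.leaf (nat_lit 91930628)) (.leaf (nat_lit 92000817)))))
 (.node (nat_lit 486) (.node (nat_lit 484) (.leaf (nat_lit 93063185)) (.node (nat_lit 485) (.leaf (nat_lit 93077504)) (.leaf (nat_lit 93137684)))) (.node (nat_lit 487) (.leaf (nat_lit 93152085)) (.node (nat_lit 488) (.leaf (nat_lit 93238681)) (.leaf (nat_lit 93314781)))))))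
 (.node (nat_lit 500) (.node (nat_lit 494) (.node (nat_lit 491) (.node (nat_lit 490) (.leaf (nat_lit 93855577)) (.leaf (nat_lit 93942973))) (.node (nat_lit 492) (.leaf (nat_lit 94020129)) (.node (nat_lit 493) (.leaf (nat_lit 94076932)) (.leaf (nat_lit 94095813)))))
 (.node (nat_lit 497) (.node (nat_lit 495) (.leaf (nat_lit 94648157)) (.node (nat_lit 496) (.leaf (nat_lit 94723305)) (.leaf (nat_lit 94800517)))) (.node (nat_lit 498) (.leaf (nat_lit 94814212)) (.node (nat_lit 499) (.leaf (nat_lit 94888241)) (.leaf (nat_lit 95428677))))))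
 (.node (nat_lit 505) (.node (nat_lit 502) (.node (nat_lit 501) (.leaf (nat_lit 95447876)) (.leaf (nat_lit 95485952))) (.node (nat_lit 503) (.leaf (nat_lit 95505233)) (.node (nat_lit 504) (.leaf (nat_lit 95591789)) (.leaf (nat_lit 95680121)))))
 (.node (nat_lit 508) (.node (nat_lit 506) (.leaf (nat_lit 96996369)) (.node (nat_lit 507) (.leaf (nat_lit 97009664)) (.leaf (nat_lit 97074708)))) (.node (nat_lit 509) (.leaf (nat_lit 97088085)) (.node (nat_lit 510) (.leaf (nat_lit 97164185)) (.leaf (nat_lit 97248733))))))))))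
noncomputable def V_3 : Tr ℕ := (.node (nat_lit 596) (.node (nat_lit 553) (.node (nat_lit 532) (.node (nat_lit 521) (.node (nat_lit 516) (.node (nat_lit 513) (.node (nat_lit 512) (.leaf (nat_lit 98310749)) (.leaf (nat_lit 98395369))) (.node (nat_lit 514) (.leaf (nat_lit 98471301)) (.node (nat_lit 515) (.leaf (nat_lit 98484228)) (.leaf (nat_lit 98562865)))))
 (.node (nat_lit 518) (.node (nat_lit 517) (.leaf (nat_lit 98578501)) (.leaf (nat_lit 98598468))) (.node (nat_lit 519) (.leaf (nat_lit 98631680)) (.node (nat_lit 520) (.leaf (nat_lit 98651729)) (.leaf (nat_lit 98740077))))))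
 (.node (nat_lit 526) (.node (nat_lit 523) (.node (nat_lit 522) (.leaf (nat_lit 98818425)) (.leaf (nat_lit 99886681))) (.node (nat_lit 524) (.leaf (nat_lit 99965117)) (.node (nat_lit 525) (.leaf (nat_lit 100053281)) (.leaf (nat_lit 100106244)))))
 (.node (nat_lit 529) (.node (nat_lit 527) (.leaf (nat_lit 100126661)) (.node (nat_lit 528) (.leaf (nat_lit 100696081)) (.leaf (nat_lit 100745337)))) (.node (nat_lit 530) (.leaf (nat_lit 100843693)) (.node (nat_lit 531) (.leaf (nat_lit 100860101)) (.leaf (nat_lit 100892676)))))))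
 (.node (nat_lit 542) (.node (nat_lit 537) (.node (nat_lit 534) (.node (nat_lit 533) (.leaf (nat_lit 102275441)) (.leaf (nat_lit 102324505))) (.node (nat_lit 535) (.leaf (nat_lit 102422989)) (.node (nat_lit 536) (.leaf (nat_lit 102439333)) (.leaf (nat_lit 102471780)))))
 (.node (nat_lit 539) (.node (nat_lit 538) (.leaf (nat_lit 103593585)) (.leaf (nat_lit 103642649))) (.node (nat_lit 540) (.leaf (nat_lit 103741133)) (.node (nat_lit 541) (.leaf (nat_lit 103757477)) (.leaf (nat_lit 103789668))))))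
 (.node (nat_lit 547) (.node (nat_lit 544) (.node (nat_lit 543) (.leaf (nat_lit 104116081)) (.leaf (nat_lit 104165145))) (.node (nat_lit 545) (.leaf (nat_lit 104263629)) (.node (nat_lit 546) (.leaf (nat_lit 104279973)) (.leaf (nat_lit 104311908)))))
 (.node (nat_lit 550) (.node (nat_lit 548) (.leaf (nat_lit 105136128)) (.node (nat_lit 549) (.leaf (nat_lit 105169937)) (.leaf (nat_lit 105192809)))) (.node (nat_lit 551) (.leaf (nat_lit 105294477)) (.node (nat_lit 552) (.leaf (nat_lit 105346037)) (.leaf (nat_lit 105379636))))))))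
 (.node (nat_lit 574) (.node (nat_lit 563) (.node (nat_lit 558) (.node (nat_lit 555) (.node (nat_lit 554) (.leaf (nat_lit 106715508)) (.leaf (nat_lit 106749045))) (.node (nat_lit 556) (.leaf (nat_lit 106759533)) (.node (nat_lit 557) (.leaf (nat_lit 106869337)) (.leaf (nat_lit 106916673)))))
 (.node (nat_lit 560) (.node (nat_lit 559) (.leaf (nat_lit 106950288)) (.leaf (nat_lit 107540841))) (.node (nat_lit 561) (.leaf (nat_lit 107554977)) (.node (nat_lit 562) (.leaf (nat_lit 107616676)) (.leaf (nat_lit 107650853))))))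
 (.node (nat_lit 568) (.node (nat_lit 565) (.node (nat_lit 564) (.leaf (nat_lit 107693805)) (.leaf (nat_lit 108063085))) (.node (nat_lit 566) (.leaf (nat_lit 108081349)) (.node (nat_lit 567) (.leaf (nat_lit 108115844)) (.leaf (nat_lit 108169105)))))
 (.node (nat_lit 571) (.node (nat_lit 569) (.leaf (nat_lit 108224057)) (.node (nat_lit 570) (.leaf (nat_lit 109854720)) (.leaf (nat_lit 109889553)))) (.node (nat_lit 572) (.leaf (nat_lit 109913961)) (.node (nat_lit 573) (.leaf (nat_lit 110017933)) (.leaf (nat_lit 110056181)))))))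
 (.node (nat_lit 585) (.node (nat_lit 579) (.node (nat_lit 576) (.node (nat_lit 575) (.leaf (nat_lit 110090804)) (.leaf (nat_lit 110416745))) (.node (nat_lit 577) (.leaf (nat_lit 110443681)) (.node (nat_lit 578) (.leaf (nat_lit 110505892)) (.leaf (nat_lit 110536229)))))
 (.node (nat_lit 582) (.node (nat_lit 580) (.leaf (nat_lit 110578157)) (.node (nat_lit 581) (.leaf (nat_lit 111214445)) (.leaf (nat_lit 111218885)))) (.node (nat_lit 583) (.leaf (nat_lit 111254148)) (.node (nat_lit 584) (.leaf (nat_lit 111315601)) (.leaf (nat_lit 111371577))))))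
 (.node (nat_lit 590) (.node (nat_lit 587) (.node (nat_lit 586) (.leaf (nat_lit 112750452)) (.leaf (nat_lit 112780405))) (.node (nat_lit 588) (.leaf (nat_lit 112790381)) (.node (nat_lit 589) (.leaf (nat_lit 112890201)) (.leaf (nat_lit 112950849)))))
 (.node (nat_lit 593) (.node (nat_lit 591) (.leaf (nat_lit 112981392)) (.node (nat_lit 592) (.leaf (nat_lit 113786880)) (.leaf (nat_lit 113822737)))) (.node (nat_lit 594) (.leaf (nat_lit 113850985)) (.node (nat_lit 595) (.leaf (nat_lit 113940365)) (.leaf (nat_lit 113992181)))))))))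
 (.node (nat_lit 639) (.node (nat_lit 617) (.node (nat_lit 606) (.node (nat_lit 601) (.node (nat_lit 598) (.node (nat_lit 597) (.leaf (nat_lit 114027828)) (.leaf (nat_lit 114349677))) (.node (nat_lit 599) (.leaf (nat_lit 114368709)) (.node (nat_lit 600) (.leaf (nat_lit 114404740)) (.leaf (nat_lit 114462097)))))
 (.node (nat_lit 603) (.node (nat_lit 602) (.leaf (nat_lit 114522937)) (.leaf (nat_lit 115635828))) (.node (nat_lit 604) (.leaf (nat_lit 115669109)) (.node (nat_lit 605) (.leaf (nat_lit 115674733)) (.leaf (nat_lit 115778393))))))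
 (.node (nat_lit 611) (.node (nat_lit 608) (.node (nat_lit 607) (.leaf (nat_lit 115823937)) (.leaf (nat_lit 115858320))) (.node (nat_lit 609) (.leaf (nat_lit 117236329)) (.node (nat_lit 610) (.leaf (nat_lit 117249185)) (.leaf (nat_lit 117323428)))))
 (.node (nat_lit 614) (.node (nat_lit 612) (.leaf (nat_lit 117356837)) (.node (nat_lit 613) (.leaf (nat_lit 117395437)) (.leaf (nat_lit 117489681)))) (.node (nat_lit 615) (.leaf (nat_lit 117522541)) (.node (nat_lit 616) (.leaf (nat_lit 117571717)) (.leaf (nat_lit 117620740)))))))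
 (.node (nat_lit 628) (.node (nat_lit 622) (.node (nat_lit 619) (.node (nat_lit 618) (.leaf (nat_lit 117670137)) (.leaf (nat_lit 119332193))) (.node (nat_lit 620) (.leaf (nat_lit 119364893)) (.node (nat_lit 621) (.leaf (nat_lit 119414261)) (.leaf (nat_lit 119463028)))))
 (.node (nat_lit 625) (.node (nat_lit 623) (.leaf (nat_lit 119512457)) (.node (nat_lit 624) (.leaf (nat_lit 119863905)) (.leaf (nat_lit 119896605)))) (.node (nat_lit 626) (.leaf (nat_lit 119945973)) (.node (nat_lit 627) (.leaf (nat_lit 119994484)) (.leaf (nat_lit 120044169))))))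
 (.node (nat_lit 633) (.node (nat_lit 630) (.node (nat_lit 629) (.leaf (nat_lit 121169761)) (.leaf (nat_lit 121202461))) (.node (nat_lit 631) (.leaf (nat_lit 121251829)) (.node (nat_lit 632) (.leaf (nat_lit 121300084)) (.leaf (nat_lit 121350025)))))
 (.node (nat_lit 636) (.node (nat_lit 634) (.leaf (nat_lit 121913344)) (.node (nat_lit 635) (.leaf (nat_lit 121930769)) (.leaf (nat_lit 121969021)))) (.node (nat_lit 637) (.leaf (nat_lit 122053285)) (.node (nat_lit 638) (.leaf (nat_lit 122070564)) (.leaf (nat_lit 122159049))))))))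
 (.node (nat_lit 660) (.node (nat_lit 649) (.node (nat_lit 644) (.node (nat_lit 641) (.node (nat_lit 640) (.leaf (nat_lit 123231588)) (.leaf (nat_lit 123246693))) (.node (nat_lit 642) (.leaf (nat_lit 123274617)) (.node (nat_lit 643) (.leaf (nat_lit 123371073)) (.leaf (nat_lit 123386832)))))
 (.node (nat_lit 646) (.node (nat_lit 645) (.leaf (nat_lit 123462493)) (.leaf (nat_lit 123780473))) (.node (nat_lit 647) (.leaf (nat_lit 123805829)) (.node (nat_lit 648) (.leaf (nat_lit 123856580)) (.leaf (nat_lit 123886381))))))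
 (.node (nat_lit 654) (.node (nat_lit 651) (.node (nat_lit 650) (.leaf (nat_lit 123979473)) (.leaf (nat_lit 125608317))) (.node (nat_lit 652) (.leaf (nat_lit 125648113)) (.node (nat_lit 653) (.leaf (nat_lit 125716409)) (.leaf (nat_lit 125771252)))))
 (.node (nat_lit 657) (.node (nat_lit 655) (.leaf (nat_lit 125819445)) (.node (nat_lit 656) (.leaf (nat_lit 126631936)) (.leaf (nat_lit 126650385)))) (.node (nat_lit 658) (.leaf (nat_lit 126693245)) (.node (nat_lit 659) (.leaf (nat_lit 126775717)) (.leaf (nat_lit 126794020)))))))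
 (.node (nat_lit 671) (.node (nat_lit 665) (.node (nat_lit 662) (.node (nat_lit 661) (.leaf (nat_lit 126867145)) (.leaf (nat_lit 126916473))) (.node (nat_lit 663) (.leaf (nat_lit 126955653)) (.node (nat_lit 664) (.leaf (nat_lit 127007172)) (.leaf (nat_lit 127036973)))))
 (.node (nat_lit 668) (.node (nat_lit 666) (.leaf (nat_lit 127125969)) (.node (nat_lit 667) (.leaf (nat_lit 128496509)) (.leaf (nat_lit 128521457)))) (.node (nat_lit 669) (.leaf (nat_lit 128600761)) (.node (nat_lit 670) (.leaf (nat_lit 128657396)) (.leaf (nat_lit 128707893))))))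
 (.node (nat_lit 676) (.node (nat_lit 673) (.node (nat_lit 672) (.leaf (nat_lit 129263460)) (.leaf (nat_lit 129281125))) (.node (nat_lit 674) (.leaf (nat_lit 129305465)) (.node (nat_lit 675) (.leaf (nat_lit 129389889)) (.leaf (nat_lit 129408720)))))
 (.node (nat_lit 679) (.node (nat_lit 677) (.leaf (nat_lit 129495645)) (.node (nat_lit 678) (.leaf (nat_lit 130564096)) (.leaf (nat_lit 130583569)))) (.node (nat_lit 680) (.leaf (nat_lit 130627197)) (.node (nat_lit 681) (.leaf (nat_lit 130700197)) (.leaf (nat_lit 130719524))))))))))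
noncomputable def V_4 : Tr ℕ := (.node (nat_lit 767) (.node (nat_lit 724) (.node (nat_lit 703) (.node (nat_lit 692) (.node (nat_lit 687) (.node (nat_lit 684) (.node (nat_lit 683) (.leaf (nat_lit 130804169)) (.leaf (nat_lit 131371645))) (.node (nat_lit 685) (.leaf (nat_lit 131410161)) (.node (nat_lit 686) (.leaf (nat_lit 131485113)) (.leaf (nat_lit 131545844)))))
 (.node (nat_lit 689) (.node (nat_lit 688) (.leaf (nat_lit 131594037)) (.leaf (nat_lit 132938340))) (.node (nat_lit 690) (.leaf (nat_lit 132953189)) (.node (nat_lit 691) (.leaf (nat_lit 132976249)) (.leaf (nat_lit 133065537))))))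
 (.node (nat_lit 697) (.node (nat_lit 694) (.node (nat_lit 693) (.leaf (nat_lit 133080528)) (.leaf (nat_lit 133157213))) (.node (nat_lit 695) (.leaf (nat_lit 133212793)) (.node (nat_lit 696) (.leaf (nat_lit 133238917)) (.leaf (nat_lit 133291972)))))
 (.node (nat_lit 700) (.node (nat_lit 698) (.leaf (nat_lit 133330221)) (.node (nat_lit 699) (.leaf (nat_lit 133418961)) (.leaf (nat_lit 134217777)))) (.node (nat_lit 701) (.leaf (nat_lit 134283264)) (.node (nat_lit 702) (.leaf (nat_lit 134283505)) (.leaf (nat_lit 134348913)))))))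
 (.node (nat_lit 713) (.node (nat_lit 708) (.node (nat_lit 705) (.node (nat_lit 704) (.leaf (nat_lit 134414513)) (.leaf (nat_lit 135279537))) (.node (nat_lit 706) (.leaf (nat_lit 135345009)) (.node (nat_lit 707) (.leaf (nat_lit 135410673)) (.leaf (nat_lit 135476017)))))
 (.node (nat_lit 710) (.node (nat_lit 709) (.leaf (nat_lit 136323505)) (.leaf (nat_lit 136388977))) (.node (nat_lit 711) (.leaf (nat_lit 136454641)) (.node (nat_lit 712) (.leaf (nat_lit 136519985)) (.leaf (nat_lit 137368241))))))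
 (.node (nat_lit 718) (.node (nat_lit 715) (.node (nat_lit 714) (.leaf (nat_lit 137433713)) (.leaf (nat_lit 137499377))) (.node (nat_lit 716) (.leaf (nat_lit 137564721)) (.node (nat_lit 717) (.leaf (nat_lit 139234353)) (.leaf (nat_lit 139309584)))))
 (.node (nat_lit 721) (.node (nat_lit 719) (.leaf (nat_lit 139312865)) (.node (nat_lit 720) (.leaf (nat_lit 139370321)) (.leaf (nat_lit 139439489)))) (.node (nat_lit 722) (.leaf (nat_lit 140295565)) (.node (nat_lit 723) (.leaf (nat_lit 140349405)) (.leaf (nat_lit 140422701))))))))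
 (.node (nat_lit 745) (.node (nat_lit 734) (.node (nat_lit 729) (.node (nat_lit 726) (.node (nat_lit 725) (.leaf (nat_lit 140483709)) (.leaf (nat_lit 141337012))) (.node (nat_lit 727) (.leaf (nat_lit 141339829)) (.node (nat_lit 728) (.leaf (nat_lit 141398884)) (.leaf (nat_lit 141401765)))))
 (.node (nat_lit 731) (.node (nat_lit 730) (.leaf (nat_lit 141472468)) (.leaf (nat_lit 141475733))) (.node (nat_lit 732) (.leaf (nat_lit 141524996)) (.node (nat_lit 733) (.leaf (nat_lit 141528453)) (.leaf (nat_lit 142384521))))))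
 (.node (nat_lit 739) (.node (nat_lit 736) (.node (nat_lit 735) (.leaf (nat_lit 142454553)) (.leaf (nat_lit 142511721))) (.node (nat_lit 737) (.leaf (nat_lit 142589177)) (.node (nat_lit 738) (.leaf (nat_lit 143164465)) (.leaf (nat_lit 143233296)))))
 (.node (nat_lit 742) (.node (nat_lit 740) (.leaf (nat_lit 143234529)) (.node (nat_lit 741) (.leaf (nat_lit 143304273)) (.leaf (nat_lit 143374209)))) (.node (nat_lit 743) (.leaf (nat_lit 144225204)) (.node (nat_lit 744) (.leaf (nat_lit 144225461)) (.leaf (nat_lit 144286308)))))))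
 (.node (nat_lit 756) (.node (nat_lit 750) (.node (nat_lit 747) (.node (nat_lit 746) (.leaf (nat_lit 144287141)) (.leaf (nat_lit 144347604))) (.node (nat_lit 748) (.leaf (nat_lit 144348821)) (.node (nat_lit 749) (.leaf (nat_lit 144408580)) (.leaf (nat_lit 144410501)))))
 (.node (nat_lit 753) (.node (nat_lit 751) (.leaf (nat_lit 145270665)) (.node (nat_lit 752) (.leaf (nat_lit 145339929)) (.leaf (nat_lit 145393001)))) (.node (nat_lit 754) (.leaf (nat_lit 145462521)) (.node (nat_lit 755) (.leaf (nat_lit 146315149)) (.leaf (nat_lit 146376413))))))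
 (.node (nat_lit 761) (.node (nat_lit 758) (.node (nat_lit 757) (.leaf (nat_lit 146453805)) (.leaf (nat_lit 146515069))) (.node (nat_lit 759) (.leaf (nat_lit 147097649)) (.node (nat_lit 760) (.leaf (nat_lit 147170064)) (.leaf (nat_lit 147172321)))))
 (.node (nat_lit 764) (.node (nat_lit 762) (.leaf (nat_lit 147241297)) (.node (nat_lit 763) (.leaf (nat_lit 147298945)) (.leaf (nat_lit 148159113)))) (.node (nat_lit 765) (.leaf (nat_lit 148216089)) (.node (nat_lit 766) (.leaf (nat_lit 148278121)) (.leaf (nat_lit 148351225)))))))))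
 (.node (nat_lit 809) (.node (nat_lit 788) (.node (nat_lit 777) (.node (nat_lit 772) (.node (nat_lit 769) (.node (nat_lit 768) (.leaf (nat_lit 149203597)) (.leaf (nat_lit 149260765))) (.node (nat_lit 770) (.leaf (nat_lit 149330733)) (.node (nat_lit 771) (.leaf (nat_lit 149403773)) (.leaf (nat_lit 150246068)))))
 (.node (nat_lit 774) (.node (nat_lit 773) (.leaf (nat_lit 150247605)) (.leaf (nat_lit 150319460))) (.node (nat_lit 775) (.leaf (nat_lit 150322085)) (.node (nat_lit 776) (.leaf (nat_lit 150381524)) (.leaf (nat_lit 150382997))))))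
 (.node (nat_lit 782) (.node (nat_lit 779) (.node (nat_lit 778) (.leaf (nat_lit 150437892)) (.leaf (nat_lit 150440581))) (.node (nat_lit 780) (.leaf (nat_lit 150994944)) (.node (nat_lit 781) (.leaf (nat_lit 151044145)) (.leaf (nat_lit 151077085)))))
 (.node (nat_lit 785) (.node (nat_lit 783) (.leaf (nat_lit 151126085)) (.node (nat_lit 784) (.leaf (nat_lit 151175172)) (.leaf (nat_lit 151224489)))) (.node (nat_lit 786) (.leaf (nat_lit 152844432)) (.node (nat_lit 787) (.leaf (nat_lit 152894369)) (.leaf (nat_lit 152927053)))))))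
 (.node (nat_lit 798) (.node (nat_lit 793) (.node (nat_lit 790) (.node (nat_lit 789) (.leaf (nat_lit 152976341)) (.leaf (nat_lit 153024660))) (.node (nat_lit 791) (.leaf (nat_lit 153074489)) (.node (nat_lit 792) (.leaf (nat_lit 153363600)) (.leaf (nat_lit 153413025)))))
 (.node (nat_lit 795) (.node (nat_lit 794) (.leaf (nat_lit 153445709)) (.leaf (nat_lit 153494997))) (.node (nat_lit 796) (.leaf (nat_lit 153543828)) (.node (nat_lit 797) (.leaf (nat_lit 153593145)) (.leaf (nat_lit 154672272))))))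
 (.node (nat_lit 803) (.node (nat_lit 800) (.node (nat_lit 799) (.leaf (nat_lit 154721953)) (.leaf (nat_lit 154754637))) (.node (nat_lit 801) (.leaf (nat_lit 154803925)) (.node (nat_lit 802) (.leaf (nat_lit 154852500)) (.leaf (nat_lit 154902073)))))
 (.node (nat_lit 806) (.node (nat_lit 804) (.leaf (nat_lit 155995185)) (.node (nat_lit 805) (.leaf (nat_lit 156104397)) (.leaf (nat_lit 156131108)))) (.node (nat_lit 807) (.leaf (nat_lit 156144485)) (.node (nat_lit 808) (.leaf (nat_lit 156182937)) (.leaf (nat_lit 156267933))))))))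
 (.node (nat_lit 830) (.node (nat_lit 819) (.node (nat_lit 814) (.node (nat_lit 811) (.node (nat_lit 810) (.leaf (nat_lit 156303360)) (.leaf (nat_lit 156356593))) (.node (nat_lit 812) (.leaf (nat_lit 156412457)) (.node (nat_lit 813) (.leaf (nat_lit 156438597)) (.leaf (nat_lit 156491716)))))
 (.node (nat_lit 816) (.node (nat_lit 815) (.leaf (nat_lit 157837477)) (.leaf (nat_lit 157853092))) (.node (nat_lit 817) (.leaf (nat_lit 157930169)) (.node (nat_lit 818) (.leaf (nat_lit 157988737)) (.leaf (nat_lit 158010781))))))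
 (.node (nat_lit 824) (.node (nat_lit 821) (.node (nat_lit 820) (.leaf (nat_lit 158618009)) (.leaf (nat_lit 158672340))) (.node (nat_lit 822) (.leaf (nat_lit 158722837)) (.node (nat_lit 823) (.leaf (nat_lit 158764637)) (.leaf (nat_lit 158807249)))))
 (.node (nat_lit 827) (.node (nat_lit 825) (.leaf (nat_lit 159925297)) (.node (nat_lit 826) (.leaf (nat_lit 160029133)) (.leaf (nat_lit 160065060)))) (.node (nat_lit 828) (.leaf (nat_lit 160080485)) (.node (nat_lit 829) (.leaf (nat_lit 160120729)) (.leaf (nat_lit 160726181)))))))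
 (.node (nat_lit 841) (.node (nat_lit 835) (.node (nat_lit 832) (.node (nat_lit 831) (.leaf (nat_lit 160742308)) (.leaf (nat_lit 160817593))) (.node (nat_lit 833) (.leaf (nat_lit 160864897)) (.node (nat_lit 834) (.leaf (nat_lit 160892829)) (.leaf (nat_lit 162292633)))))
 (.node (nat_lit 838) (.node (nat_lit 836) (.leaf (nat_lit 162347988)) (.node (nat_lit 837) (.leaf (nat_lit 162397717)) (.leaf (nat_lit 162432349)))) (.node (nat_lit 839) (.leaf (nat_lit 162470097)) (.node (nat_lit 840) (.leaf (nat_lit 162552733)) (.leaf (nat_lit 162594816))))))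
 (.node (nat_lit 846) (.node (nat_lit 843) (.node (nat_lit 842) (.leaf (nat_lit 162645745)) (.leaf (nat_lit 162708777))) (.node (nat_lit 844) (.leaf (nat_lit 162734149)) (.node (nat_lit 845) (.leaf (nat_lit 162784964)) (.leaf (nat_lit 163858481)))))
 (.node (nat_lit 849) (.node (nat_lit 847) (.leaf (nat_lit 163966925)) (.node (nat_lit 848) (.leaf (nat_lit 164002084)) (.leaf (nat_lit 164016485)))) (.node (nat_lit 850) (.leaf (nat_lit 164042393)) (.node (nat_lit 851) (.leaf (nat_lit 165180057)) (.leaf (nat_lit 165224148))))))))))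
noncomputable def V_5 : Tr ℕ := (.node (nat_lit 937) (.node (nat_lit 894) (.node (nat_lit 873) (.node (nat_lit 862) (.node (nat_lit 857) (.node (nat_lit 854) (.node (nat_lit 853) (.leaf (nat_lit 165270805)) (.leaf (nat_lit 165317469))) (.node (nat_lit 855) (.leaf (nat_lit 165358801)) (.node (nat_lit 856) (.leaf (nat_lit 165703325)) (.leaf (nat_lit 165740544)))))
 (.node (nat_lit 859) (.node (nat_lit 858) (.leaf (nat_lit 165792241)) (.leaf (nat_lit 165844777))) (.node (nat_lit 860) (.leaf (nat_lit 165883973)) (.node (nat_lit 861) (.leaf (nat_lit 165935556)) (.leaf (nat_lit 167531685))))))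
 (.node (nat_lit 867) (.node (nat_lit 864) (.node (nat_lit 863) (.leaf (nat_lit 167550628)) (.leaf (nat_lit 167637945))) (.node (nat_lit 865) (.leaf (nat_lit 167685505)) (.node (nat_lit 866) (.leaf (nat_lit 167709341)) (.leaf (nat_lit 167788593)))))
 (.node (nat_lit 870) (.node (nat_lit 868) (.leaf (nat_lit 167837893)) (.node (nat_lit 869) (.leaf (nat_lit 167854084)) (.leaf (nat_lit 167952489)))) (.node (nat_lit 871) (.leaf (nat_lit 168001693)) (.node (nat_lit 872) (.leaf (nat_lit 169115537)) (.leaf (nat_lit 169164645)))))))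
 (.node (nat_lit 883) (.node (nat_lit 878) (.node (nat_lit 875) (.node (nat_lit 874) (.leaf (nat_lit 169180324)) (.leaf (nat_lit 169279433))) (.node (nat_lit 876) (.leaf (nat_lit 169328445)) (.node (nat_lit 877) (.leaf (nat_lit 170420625)) (.leaf (nat_lit 170469733)))))
 (.node (nat_lit 880) (.node (nat_lit 879) (.leaf (nat_lit 170485924)) (.leaf (nat_lit 170584521))) (.node (nat_lit 881) (.leaf (nat_lit 170633533)) (.node (nat_lit 882) (.leaf (nat_lit 171726481)) (.leaf (nat_lit 171775589))))))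
 (.node (nat_lit 888) (.node (nat_lit 885) (.node (nat_lit 884) (.leaf (nat_lit 171791524)) (.leaf (nat_lit 171890377))) (.node (nat_lit 886) (.leaf (nat_lit 171939389)) (.node (nat_lit 887) (.leaf (nat_lit 172805169)) (.leaf (nat_lit 172864213)))))
 (.node (nat_lit 891) (.node (nat_lit 889) (.leaf (nat_lit 172883476)) (.node (nat_lit 890) (.leaf (nat_lit 172907337)) (.leaf (nat_lit 172959149)))) (.node (nat_lit 892) (.leaf (nat_lit 173601197)) (.node (nat_lit 893) (.leaf (nat_lit 173641705)) (.leaf (nat_lit 173680996))))))))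
 (.node (nat_lit 915) (.node (nat_lit 904) (.node (nat_lit 899) (.node (nat_lit 896) (.node (nat_lit 895) (.leaf (nat_lit 173696549)) (.leaf (nat_lit 173742177))) (.node (nat_lit 897) (.leaf (nat_lit 173758416)) (.node (nat_lit 898) (.leaf (nat_lit 174369172)) (.leaf (nat_lit 174384277)))))
 (.node (nat_lit 901) (.node (nat_lit 900) (.leaf (nat_lit 174430849)) (.leaf (nat_lit 174486461))) (.node (nat_lit 902) (.leaf (nat_lit 174525865)) (.node (nat_lit 903) (.leaf (nat_lit 175167913)) (.leaf (nat_lit 175220509))))))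
 (.node (nat_lit 909) (.node (nat_lit 906) (.node (nat_lit 905) (.leaf (nat_lit 175263345)) (.leaf (nat_lit 175321285))) (.node (nat_lit 907) (.leaf (nat_lit 175341124)) (.node (nat_lit 908) (.leaf (nat_lit 176735281)) (.leaf (nat_lit 176787925)))))
 (.node (nat_lit 912) (.node (nat_lit 910) (.leaf (nat_lit 176805140)) (.node (nat_lit 911) (.leaf (nat_lit 176844361)) (.leaf (nat_lit 176896941)))) (.node (nat_lit 913) (.leaf (nat_lit 178044820)) (.node (nat_lit 914) (.leaf (nat_lit 178059413)) (.leaf (nat_lit 178105729)))))))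
 (.node (nat_lit 926) (.node (nat_lit 920) (.node (nat_lit 917) (.node (nat_lit 916) (.leaf (nat_lit 178148029)) (.leaf (nat_lit 178194345))) (.node (nat_lit 918) (.leaf (nat_lit 178319273)) (.node (nat_lit 919) (.leaf (nat_lit 178371101)) (.leaf (nat_lit 178406769)))))
 (.node (nat_lit 923) (.node (nat_lit 921) (.leaf (nat_lit 178458821)) (.node (nat_lit 922) (.leaf (nat_lit 178476356)) (.leaf (nat_lit 179622829)))) (.node (nat_lit 924) (.leaf (nat_lit 179668713)) (.node (nat_lit 925) (.leaf (nat_lit 179715940)) (.leaf (nat_lit 179730725))))))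
 (.node (nat_lit 931) (.node (nat_lit 928) (.node (nat_lit 927) (.leaf (nat_lit 179776609)) (.leaf (nat_lit 179792592))) (.node (nat_lit 929) (.leaf (nat_lit 180668465)) (.node (nat_lit 930) (.leaf (nat_lit 180724693)) (.leaf (nat_lit 180742932)))))
 (.node (nat_lit 934) (.node (nat_lit 932) (.leaf (nat_lit 180778313)) (.node (nat_lit 933) (.leaf (nat_lit 180821677)) (.leaf (nat_lit 181466793)))) (.node (nat_lit 935) (.leaf (nat_lit 181509405)) (.node (nat_lit 936) (.leaf (nat_lit 181554033)) (.leaf (nat_lit 181608645)))))))))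
 (.node (nat_lit 980) (.node (nat_lit 958) (.node (nat_lit 947) (.node (nat_lit 942) (.node (nat_lit 939) (.node (nat_lit 938) (.leaf (nat_lit 181627716)) (.leaf (nat_lit 183296685))) (.node (nat_lit 940) (.leaf (nat_lit 183339497)) (.node (nat_lit 941) (.leaf (nat_lit 183375460)) (.leaf (nat_lit 183394085)))))
 (.node (nat_lit 944) (.node (nat_lit 943) (.leaf (nat_lit 183448673)) (.leaf (nat_lit 183467472))) (.node (nat_lit 945) (.leaf (nat_lit 184063636)) (.node (nat_lit 946) (.leaf (nat_lit 184081557)) (.leaf (nat_lit 184137601))))))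
 (.node (nat_lit 952) (.node (nat_lit 949) (.node (nat_lit 948) (.leaf (nat_lit 184181181)) (.leaf (nat_lit 184224425))) (.node (nat_lit 950) (.leaf (nat_lit 184582193)) (.node (nat_lit 951) (.leaf (nat_lit 184631529)) (.leaf (nat_lit 184729693)))))
 (.node (nat_lit 955) (.node (nat_lit 953) (.leaf (nat_lit 184746117)) (.node (nat_lit 954) (.leaf (nat_lit 184778756)) (.leaf (nat_lit 186169217)))) (.node (nat_lit 956) (.leaf (nat_lit 186218329)) (.node (nat_lit 957) (.leaf (nat_lit 186316781)) (.leaf (nat_lit 186332981)))))))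
 (.node (nat_lit 969) (.node (nat_lit 963) (.node (nat_lit 960) (.node (nat_lit 959) (.leaf (nat_lit 186365108)) (.leaf (nat_lit 187477377))) (.node (nat_lit 961) (.leaf (nat_lit 187526489)) (.node (nat_lit 962) (.leaf (nat_lit 187624941)) (.leaf (nat_lit 187641141)))))
 (.node (nat_lit 966) (.node (nat_lit 964) (.leaf (nat_lit 187673780)) (.node (nat_lit 965) (.leaf (nat_lit 187996801)) (.leaf (nat_lit 188045913)))) (.node (nat_lit 967) (.leaf (nat_lit 188144365)) (.node (nat_lit 968) (.leaf (nat_lit 188160565)) (.leaf (nat_lit 188192948))))))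
 (.node (nat_lit 974) (.node (nat_lit 971) (.node (nat_lit 970) (.leaf (nat_lit 189533233)) (.leaf (nat_lit 189659897))) (.node (nat_lit 972) (.leaf (nat_lit 189683581)) (.node (nat_lit 973) (.leaf (nat_lit 189738292)) (.leaf (nat_lit 189768117)))))
 (.node (nat_lit 977) (.node (nat_lit 975) (.leaf (nat_lit 190069181)) (.node (nat_lit 976) (.leaf (nat_lit 190136324)) (.leaf (nat_lit 190173125)))) (.node (nat_lit 978) (.leaf (nat_lit 190210593)) (.node (nat_lit 979) (.leaf (nat_lit 190246224)) (.leaf (nat_lit 190288985))))))))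
 (.node (nat_lit 1001) (.node (nat_lit 990) (.node (nat_lit 985) (.node (nat_lit 982) (.node (nat_lit 981) (.leaf (nat_lit 190849157)) (.leaf (nat_lit 190885252))) (.node (nat_lit 983) (.leaf (nat_lit 190961309)) (.node (nat_lit 984) (.leaf (nat_lit 191003561)) (.leaf (nat_lit 191073713)))))
 (.node (nat_lit 987) (.node (nat_lit 986) (.leaf (nat_lit 192419257)) (.leaf (nat_lit 192537361))) (.node (nat_lit 988) (.leaf (nat_lit 192564805)) (.node (nat_lit 989) (.leaf (nat_lit 192593924)) (.leaf (nat_lit 192657645))))))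
 (.node (nat_lit 995) (.node (nat_lit 992) (.node (nat_lit 991) (.leaf (nat_lit 193463345)) (.leaf (nat_lit 193584633))) (.node (nat_lit 993) (.leaf (nat_lit 193620605)) (.node (nat_lit 994) (.leaf (nat_lit 193673012)) (.leaf (nat_lit 193704885)))))
 (.node (nat_lit 998) (.node (nat_lit 996) (.leaf (nat_lit 193998981)) (.node (nat_lit 997) (.leaf (nat_lit 194033540)) (.leaf (nat_lit 194111901)))) (.node (nat_lit 999) (.leaf (nat_lit 194141865)) (.node (nat_lit 1000) (.leaf (nat_lit 194217905)) (.leaf (nat_lit 195308473)))))))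
 (.node (nat_lit 1012) (.node (nat_lit 1006) (.node (nat_lit 1003) (.node (nat_lit 1002) (.leaf (nat_lit 195424785)) (.leaf (nat_lit 195446085))) (.node (nat_lit 1004) (.leaf (nat_lit 195477508)) (.node (nat_lit 1005) (.leaf (nat_lit 195534061)) (.leaf (nat_lit 196878269)))))
 (.node (nat_lit 1009) (.node (nat_lit 1007) (.leaf (nat_lit 196952068)) (.node (nat_lit 1008) (.leaf (nat_lit 196986565)) (.leaf (nat_lit 197030177)))) (.node (nat_lit 1010) (.leaf (nat_lit 197064528)) (.node (nat_lit 1011) (.leaf (nat_lit 197109849)) (.leaf (nat_lit 197396529))))))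
 (.node (nat_lit 1017) (.node (nat_lit 1014) (.node (nat_lit 1013) (.leaf (nat_lit 197519353)) (.leaf (nat_lit 197557629))) (.node (nat_lit 1015) (.leaf (nat_lit 197597748)) (.node (nat_lit 1016) (.leaf (nat_lit 197628597)) (.leaf (nat_lit 198983353)))))
 (.node (nat_lit 1020) (.node (nat_lit 1018) (.leaf (nat_lit 199086353)) (.node (nat_lit 1019) (.leaf (nat_lit 199117637)) (.leaf (nat_lit 199147524)))) (.node (nat_lit 1021) (.leaf (nat_lit 199206125)) (.node (nat_lit 1022) (.leaf (nat_lit 199763645)) (.leaf (nat_lit 199835652))))))))))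
noncomputable def V_6 : Tr ℕ := (.node (nat_lit 1108) (.node (nat_lit 1065) (.node (nat_lit 1044) (.node (nat_lit 1033) (.node (nat_lit 1028) (.node (nat_lit 1025) (.node (nat_lit 1024) (.leaf (nat_lit 199870917)) (.leaf (nat_lit 199906081))) (.node (nat_lit 1026) (.leaf (nat_lit 199940688)) (.node (nat_lit 1027) (.leaf (nat_lit 199998553)) (.leaf (nat_lit 200282245)))))
 (.node (nat_lit 1030) (.node (nat_lit 1029) (.leaf (nat_lit 200317572)) (.leaf (nat_lit 200408989))) (.node (nat_lit 1031) (.leaf (nat_lit 200435113)) (.node (nat_lit 1032) (.leaf (nat_lit 200510129)) (.leaf (nat_lit 201326625))))))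
 (.node (nat_lit 1038) (.node (nat_lit 1035) (.node (nat_lit 1034) (.leaf (nat_lit 201392128)) (.leaf (nat_lit 201392289))) (.node (nat_lit 1036) (.leaf (nat_lit 201457889)) (.node (nat_lit 1037) (.leaf (nat_lit 201523297)) (.leaf (nat_lit 202384097)))))
 (.node (nat_lit 1041) (.node (nat_lit 1039) (.leaf (nat_lit 202449505)) (.node (nat_lit 1040) (.leaf (nat_lit 202514977)) (.leaf (nat_lit 202580641)))) (.node (nat_lit 1042) (.leaf (nat_lit 203428833)) (.node (nat_lit 1043) (.leaf (nat_lit 203494241)) (.leaf (nat_lit 203559713)))))))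
 (.node (nat_lit 1054) (.node (nat_lit 1049) (.node (nat_lit 1046) (.node (nat_lit 1045) (.leaf (nat_lit 203625377)) (.leaf (nat_lit 204485089))) (.node (nat_lit 1047) (.leaf (nat_lit 204550497)) (.node (nat_lit 1048) (.leaf (nat_lit 204615969)) (.leaf (nat_lit 204681633)))))
 (.node (nat_lit 1051) (.node (nat_lit 1050) (.leaf (nat_lit 206096417)) (.leaf (nat_lit 206168848))) (.node (nat_lit 1052) (.leaf (nat_lit 206171057)) (.node (nat_lit 1053) (.leaf (nat_lit 206240193)) (.leaf (nat_lit 206297681))))))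
 (.node (nat_lit 1059) (.node (nat_lit 1056) (.node (nat_lit 1055) (.leaf (nat_lit 207153609)) (.leaf (nat_lit 207211161))) (.node (nat_lit 1057) (.leaf (nat_lit 207280233)) (.node (nat_lit 1058) (.leaf (nat_lit 207354681)) (.leaf (nat_lit 208198093)))))
 (.node (nat_lit 1062) (.node (nat_lit 1060) (.leaf (nat_lit 208271901)) (.node (nat_lit 1061) (.leaf (nat_lit 208332973)) (.leaf (nat_lit 208391037)))) (.node (nat_lit 1063) (.leaf (nat_lit 209252836)) (.node (nat_lit 1064) (.leaf (nat_lit 209254629)) (.leaf (nat_lit 209310324))))))))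
 (.node (nat_lit 1086) (.node (nat_lit 1075) (.node (nat_lit 1070) (.node (nat_lit 1067) (.node (nat_lit 1066) (.leaf (nat_lit 209312757)) (.leaf (nat_lit 209371140))) (.node (nat_lit 1068) (.leaf (nat_lit 209373637)) (.node (nat_lit 1069) (.leaf (nat_lit 209445780)) (.leaf (nat_lit 209447637)))))
 (.node (nat_lit 1072) (.node (nat_lit 1071) (.leaf (nat_lit 210029601)) (.leaf (nat_lit 210104848))) (.node (nat_lit 1073) (.leaf (nat_lit 210108081)) (.node (nat_lit 1074) (.leaf (nat_lit 210165697)) (.leaf (nat_lit 210234705))))))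
 (.node (nat_lit 1080) (.node (nat_lit 1077) (.node (nat_lit 1076) (.leaf (nat_lit 211087309)) (.leaf (nat_lit 211148061))) (.node (nat_lit 1078) (.leaf (nat_lit 211221677)) (.node (nat_lit 1079) (.leaf (nat_lit 211275389)) (.leaf (nat_lit 212128740)))))
 (.node (nat_lit 1083) (.node (nat_lit 1081) (.leaf (nat_lit 212131045)) (.node (nat_lit 1082) (.leaf (nat_lit 212197748)) (.leaf (nat_lit 212201205)))) (.node (nat_lit 1084) (.leaf (nat_lit 212254724)) (.node (nat_lit 1085) (.leaf (nat_lit 212258757)) (.leaf (nat_lit 212333204)))))))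
 (.node (nat_lit 1097) (.node (nat_lit 1091) (.node (nat_lit 1088) (.node (nat_lit 1087) (.leaf (nat_lit 212336085)) (.leaf (nat_lit 213188553))) (.node (nat_lit 1089) (.leaf (nat_lit 213241241)) (.node (nat_lit 1090) (.leaf (nat_lit 213314665)) (.leaf (nat_lit 213376569)))))
 (.node (nat_lit 1094) (.node (nat_lit 1092) (.leaf (nat_lit 214746145)) (.node (nat_lit 1093) (.leaf (nat_lit 214814992)) (.leaf (nat_lit 214816177)))) (.node (nat_lit 1095) (.leaf (nat_lit 214886081)) (.node (nat_lit 1096) (.leaf (nat_lit 214955857)) (.leaf (nat_lit 215802596))))))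
 (.node (nat_lit 1102) (.node (nat_lit 1099) (.node (nat_lit 1098) (.leaf (nat_lit 215803109)) (.leaf (nat_lit 215872372))) (.node (nat_lit 1100) (.leaf (nat_lit 215873013)) (.node (nat_lit 1101) (.leaf (nat_lit 215924740)) (.leaf (nat_lit 215926469)))))
 (.node (nat_lit 1105) (.node (nat_lit 1103) (.leaf (nat_lit 215994772)) (.node (nat_lit 1104) (.leaf (nat_lit 215996373)) (.leaf (nat_lit 216848073)))) (.node (nat_lit 1106) (.leaf (nat_lit 216909721)) (.node (nat_lit 1107) (.leaf (nat_lit 216986729)) (.leaf (nat_lit 217048377)))))))))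
 (.node (nat_lit 1151) (.node (nat_lit 1129) (.node (nat_lit 1118) (.node (nat_lit 1113) (.node (nat_lit 1110) (.node (nat_lit 1109) (.leaf (nat_lit 217904845)) (.leaf (nat_lit 217966365))) (.node (nat_lit 1111) (.leaf (nat_lit 218027181)) (.node (nat_lit 1112) (.leaf (nat_lit 218088829)) (.leaf (nat_lit 218103808)))))
 (.node (nat_lit 1115) (.node (nat_lit 1114) (.leaf (nat_lit 218136609)) (.leaf (nat_lit 218185881))) (.node (nat_lit 1116) (.leaf (nat_lit 218284285)) (.node (nat_lit 1117) (.leaf (nat_lit 218300485)) (.leaf (nat_lit 218333188))))))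
 (.node (nat_lit 1123) (.node (nat_lit 1120) (.node (nat_lit 1119) (.leaf (nat_lit 219688144)) (.leaf (nat_lit 219721457))) (.node (nat_lit 1121) (.leaf (nat_lit 219770441)) (.node (nat_lit 1122) (.leaf (nat_lit 219868717)) (.leaf (nat_lit 219885205)))))
 (.node (nat_lit 1126) (.node (nat_lit 1124) (.leaf (nat_lit 219917524)) (.node (nat_lit 1125) (.leaf (nat_lit 220993744)) (.leaf (nat_lit 221027313)))) (.node (nat_lit 1127) (.leaf (nat_lit 221076297)) (.node (nat_lit 1128) (.leaf (nat_lit 221174573)) (.leaf (nat_lit 221191061)))))))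
 (.node (nat_lit 1140) (.node (nat_lit 1134) (.node (nat_lit 1131) (.node (nat_lit 1130) (.leaf (nat_lit 221223124)) (.leaf (nat_lit 221525200))) (.node (nat_lit 1132) (.leaf (nat_lit 221558257)) (.node (nat_lit 1133) (.leaf (nat_lit 221607241)) (.leaf (nat_lit 221705517)))))
 (.node (nat_lit 1137) (.node (nat_lit 1135) (.leaf (nat_lit 221722005)) (.node (nat_lit 1136) (.leaf (nat_lit 221754580)) (.leaf (nat_lit 222840865)))) (.node (nat_lit 1138) (.leaf (nat_lit 222930825)) (.node (nat_lit 1139) (.leaf (nat_lit 222969309)) (.leaf (nat_lit 223042100))))))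
 (.node (nat_lit 1145) (.node (nat_lit 1142) (.node (nat_lit 1141) (.leaf (nat_lit 223072885)) (.leaf (nat_lit 223372761))) (.node (nat_lit 1143) (.leaf (nat_lit 223412224)) (.node (nat_lit 1144) (.leaf (nat_lit 223447713)) (.leaf (nat_lit 223481925)))))
 (.node (nat_lit 1148) (.node (nat_lit 1146) (.leaf (nat_lit 223517316)) (.node (nat_lit 1147) (.leaf (nat_lit 223608637)) (.leaf (nat_lit 224678365)))) (.node (nat_lit 1149) (.leaf (nat_lit 224736660)) (.node (nat_lit 1150) (.leaf (nat_lit 224771605)) (.leaf (nat_lit 224797841))))))))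
 (.node (nat_lit 1172) (.node (nat_lit 1161) (.node (nat_lit 1156) (.node (nat_lit 1153) (.node (nat_lit 1152) (.leaf (nat_lit 224906073)) (.leaf (nat_lit 226262261))) (.node (nat_lit 1154) (.leaf (nat_lit 226293236)) (.node (nat_lit 1155) (.leaf (nat_lit 226333677)) (.leaf (nat_lit 226363865)))))
 (.node (nat_lit 1158) (.node (nat_lit 1157) (.leaf (nat_lit 226485953)) (.leaf (nat_lit 226774049))) (.node (nat_lit 1159) (.leaf (nat_lit 226867849)) (.node (nat_lit 1160) (.leaf (nat_lit 226891741)) (.leaf (nat_lit 226979124))))))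
 (.node (nat_lit 1166) (.node (nat_lit 1163) (.node (nat_lit 1162) (.leaf (nat_lit 227008885)) (.leaf (nat_lit 228352989))) (.node (nat_lit 1164) (.leaf (nat_lit 228400020)) (.node (nat_lit 1165) (.leaf (nat_lit 228431125)) (.leaf (nat_lit 228472977)))))
 (.node (nat_lit 1169) (.node (nat_lit 1167) (.leaf (nat_lit 228576857)) (.node (nat_lit 1168) (.leaf (nat_lit 229135605)) (.leaf (nat_lit 229170164)))) (.node (nat_lit 1170) (.leaf (nat_lit 229221101)) (.node (nat_lit 1171) (.leaf (nat_lit 229248985)) (.leaf (nat_lit 229374401)))))))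
 (.node (nat_lit 1183) (.node (nat_lit 1177) (.node (nat_lit 1174) (.node (nat_lit 1173) (.leaf (nat_lit 229669849)) (.leaf (nat_lit 229703680))) (.node (nat_lit 1175) (.leaf (nat_lit 229739937)) (.node (nat_lit 1176) (.leaf (nat_lit 229777477)) (.leaf (nat_lit 229813636)))))
 (.node (nat_lit 1180) (.node (nat_lit 1178) (.leaf (nat_lit 229889597)) (.node (nat_lit 1179) (.leaf (nat_lit 231490593)) (.leaf (nat_lit 231579017)))) (.node (nat_lit 1181) (.leaf (nat_lit 231615197)) (.node (nat_lit 1182) (.leaf (nat_lit 231700276)) (.leaf (nat_lit 231732085))))))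
 (.node (nat_lit 1188) (.node (nat_lit 1185) (.node (nat_lit 1184) (.leaf (nat_lit 232024309)) (.leaf (nat_lit 232058612))) (.node (nat_lit 1186) (.leaf (nat_lit 232108525)) (.node (nat_lit 1187) (.leaf (nat_lit 232130265)) (.leaf (nat_lit 232251329)))))
 (.node (nat_lit 1191) (.node (nat_lit 1189) (.leaf (nat_lit 232808153)) (.node (nat_lit 1190) (.leaf (nat_lit 232849408)) (.leaf (nat_lit 232884129)))) (.node (nat_lit 1192) (.leaf (nat_lit 232927301)) (.node (nat_lit 1193) (.leaf (nat_lit 232961924)) (.leaf (nat_lit 233040189))))))))))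
noncomputable def V_7 : Tr ℕ := (.node (nat_lit 1279) (.node (nat_lit 1236) (.node (nat_lit 1215) (.node (nat_lit 1204) (.node (nat_lit 1199) (.node (nat_lit 1196) (.node (nat_lit 1195) (.leaf (nat_lit 234386141)) (.leaf (nat_lit 234434196))) (.node (nat_lit 1197) (.leaf (nat_lit 234466069)) (.node (nat_lit 1198) (.leaf (nat_lit 234495121)) (.leaf (nat_lit 234603865)))))
 (.node (nat_lit 1201) (.node (nat_lit 1200) (.leaf (nat_lit 234930209)) (.leaf (nat_lit 234963133))) (.node (nat_lit 1202) (.leaf (nat_lit 235012293)) (.node (nat_lit 1203) (.leaf (nat_lit 235061252)) (.leaf (nat_lit 235110489))))))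
 (.node (nat_lit 1209) (.node (nat_lit 1206) (.node (nat_lit 1205) (.leaf (nat_lit 236775105)) (.leaf (nat_lit 236807773))) (.node (nat_lit 1207) (.leaf (nat_lit 236856869)) (.node (nat_lit 1208) (.leaf (nat_lit 236905700)) (.leaf (nat_lit 236955321)))))
 (.node (nat_lit 1212) (.node (nat_lit 1210) (.leaf (nat_lit 237297601)) (.node (nat_lit 1211) (.leaf (nat_lit 237330269)) (.leaf (nat_lit 237379365)))) (.node (nat_lit 1213) (.leaf (nat_lit 237427940)) (.node (nat_lit 1214) (.leaf (nat_lit 237477817)) (.leaf (nat_lit 238614977)))))))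
 (.node (nat_lit 1225) (.node (nat_lit 1220) (.node (nat_lit 1217) (.node (nat_lit 1216) (.leaf (nat_lit 238647645)) (.leaf (nat_lit 238696741))) (.node (nat_lit 1218) (.leaf (nat_lit 238745828)) (.node (nat_lit 1219) (.leaf (nat_lit 238795193)) (.leaf (nat_lit 239601697)))))
 (.node (nat_lit 1222) (.node (nat_lit 1221) (.leaf (nat_lit 239710125)) (.leaf (nat_lit 239745316))) (.node (nat_lit 1223) (.leaf (nat_lit 239792613)) (.node (nat_lit 1224) (.leaf (nat_lit 239818345)) (.leaf (nat_lit 240397801))))))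
 (.node (nat_lit 1230) (.node (nat_lit 1227) (.node (nat_lit 1226) (.leaf (nat_lit 240467972)) (.leaf (nat_lit 240487045))) (.node (nat_lit 1228) (.leaf (nat_lit 240571485)) (.node (nat_lit 1229) (.leaf (nat_lit 240612145)) (.leaf (nat_lit 240630096)))))
 (.node (nat_lit 1233) (.node (nat_lit 1231) (.leaf (nat_lit 241964525)) (.node (nat_lit 1232) (.leaf (nat_lit 242070033)) (.leaf (nat_lit 242150585)))) (.node (nat_lit 1234) (.leaf (nat_lit 242174789)) (.node (nat_lit 1235) (.leaf (nat_lit 242188292)) (.leaf (nat_lit 242233541))))))))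
 (.node (nat_lit 1257) (.node (nat_lit 1246) (.node (nat_lit 1241) (.node (nat_lit 1238) (.node (nat_lit 1237) (.leaf (nat_lit 242284996)) (.leaf (nat_lit 242325465))) (.node (nat_lit 1239) (.leaf (nat_lit 242403809)) (.node (nat_lit 1240) (.leaf (nat_lit 242446077)) (.leaf (nat_lit 243534881)))))
 (.node (nat_lit 1243) (.node (nat_lit 1242) (.leaf (nat_lit 243644077)) (.leaf (nat_lit 243670820))) (.node (nat_lit 1244) (.leaf (nat_lit 243717093)) (.node (nat_lit 1245) (.leaf (nat_lit 243755369)) (.leaf (nat_lit 244853741))))))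
 (.node (nat_lit 1251) (.node (nat_lit 1248) (.node (nat_lit 1247) (.leaf (nat_lit 244945169)) (.leaf (nat_lit 245036217))) (.node (nat_lit 1249) (.leaf (nat_lit 245059141)) (.node (nat_lit 1250) (.leaf (nat_lit 245071876)) (.leaf (nat_lit 245371077)))))
 (.node (nat_lit 1254) (.node (nat_lit 1252) (.leaf (nat_lit 245424068)) (.node (nat_lit 1253) (.leaf (nat_lit 245476057)) (.leaf (nat_lit 245551073)))) (.node (nat_lit 1255) (.leaf (nat_lit 245593597)) (.node (nat_lit 1256) (.leaf (nat_lit 247216105)) (.leaf (nat_lit 247283716)))))))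
 (.node (nat_lit 1268) (.node (nat_lit 1262) (.node (nat_lit 1259) (.node (nat_lit 1258) (.leaf (nat_lit 247303557)) (.leaf (nat_lit 247392349))) (.node (nat_lit 1260) (.leaf (nat_lit 247419441)) (.node (nat_lit 1261) (.leaf (nat_lit 247439184)) (.leaf (nat_lit 248251425)))))
 (.node (nat_lit 1265) (.node (nat_lit 1263) (.leaf (nat_lit 248355245)) (.node (nat_lit 1264) (.leaf (nat_lit 248391204)) (.leaf (nat_lit 248439525)))) (.node (nat_lit 1266) (.leaf (nat_lit 248479593)) (.node (nat_lit 1267) (.leaf (nat_lit 248520901)) (.leaf (nat_lit 248571588))))))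
 (.node (nat_lit 1273) (.node (nat_lit 1270) (.node (nat_lit 1269) (.leaf (nat_lit 248626649)) (.leaf (nat_lit 248694497))) (.node (nat_lit 1271) (.leaf (nat_lit 248732669)) (.node (nat_lit 1272) (.leaf (nat_lit 250092265)) (.leaf (nat_lit 250167300)))))
 (.node (nat_lit 1276) (.node (nat_lit 1274) (.leaf (nat_lit 250185605)) (.node (nat_lit 1275) (.leaf (nat_lit 250281053)) (.leaf (nat_lit 250306865)))) (.node (nat_lit 1277) (.leaf (nat_lit 250324560)) (.node (nat_lit 1278) (.leaf (nat_lit 250887917)) (.leaf (nat_lit 250979089)))))))))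
 (.node (nat_lit 1322) (.node (nat_lit 1300) (.node (nat_lit 1289) (.node (nat_lit 1284) (.node (nat_lit 1281) (.node (nat_lit 1280) (.leaf (nat_lit 251058361)) (.leaf (nat_lit 251086149))) (.node (nat_lit 1282) (.leaf (nat_lit 251101188)) (.node (nat_lit 1283) (.leaf (nat_lit 251674657)) (.leaf (nat_lit 251723909)))))
 (.node (nat_lit 1286) (.node (nat_lit 1285) (.leaf (nat_lit 251740164)) (.leaf (nat_lit 251838681))) (.node (nat_lit 1287) (.leaf (nat_lit 251887741)) (.node (nat_lit 1288) (.leaf (nat_lit 252996305)) (.leaf (nat_lit 253045365))))))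
 (.node (nat_lit 1294) (.node (nat_lit 1291) (.node (nat_lit 1290) (.leaf (nat_lit 253061364)) (.leaf (nat_lit 253159977))) (.node (nat_lit 1292) (.leaf (nat_lit 253209229)) (.node (nat_lit 1293) (.leaf (nat_lit 254302161)) (.leaf (nat_lit 254351221)))))
 (.node (nat_lit 1297) (.node (nat_lit 1295) (.leaf (nat_lit 254366964)) (.node (nat_lit 1296) (.leaf (nat_lit 254465833)) (.leaf (nat_lit 254515085)))) (.node (nat_lit 1298) (.leaf (nat_lit 255622609)) (.node (nat_lit 1299) (.leaf (nat_lit 255671669)) (.leaf (nat_lit 255687924)))))))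
 (.node (nat_lit 1311) (.node (nat_lit 1305) (.node (nat_lit 1302) (.node (nat_lit 1301) (.leaf (nat_lit 255786281)) (.leaf (nat_lit 255835533))) (.node (nat_lit 1303) (.leaf (nat_lit 256411681)) (.node (nat_lit 1304) (.leaf (nat_lit 256486164)) (.leaf (nat_lit 256500629)))))
 (.node (nat_lit 1308) (.node (nat_lit 1306) (.leaf (nat_lit 256521721)) (.node (nat_lit 1307) (.leaf (nat_lit 256597581)) (.leaf (nat_lit 257729017)))) (.node (nat_lit 1309) (.leaf (nat_lit 257804989)) (.node (nat_lit 1310) (.leaf (nat_lit 257825905)) (.leaf (nat_lit 257840784))))))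
 (.node (nat_lit 1316) (.node (nat_lit 1313) (.node (nat_lit 1312) (.leaf (nat_lit 257899892)) (.leaf (nat_lit 257914677))) (.node (nat_lit 1314) (.leaf (nat_lit 257990141)) (.node (nat_lit 1315) (.leaf (nat_lit 258078233)) (.leaf (nat_lit 258089093)))))
 (.node (nat_lit 1319) (.node (nat_lit 1317) (.leaf (nat_lit 258108228)) (.node (nat_lit 1318) (.leaf (nat_lit 258165601)) (.leaf (nat_lit 259306709)))) (.node (nat_lit 1320) (.leaf (nat_lit 259325396)) (.node (nat_lit 1321) (.leaf (nat_lit 259383233)) (.leaf (nat_lit 259394045))))))))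
 (.node (nat_lit 1343) (.node (nat_lit 1332) (.node (nat_lit 1327) (.node (nat_lit 1324) (.node (nat_lit 1323) (.leaf (nat_lit 259482345)) (.leaf (nat_lit 260344865))) (.node (nat_lit 1325) (.leaf (nat_lit 260423188)) (.node (nat_lit 1326) (.leaf (nat_lit 260436629)) (.leaf (nat_lit 260447225)))))
 (.node (nat_lit 1329) (.node (nat_lit 1328) (.leaf (nat_lit 260531533)) (.leaf (nat_lit 261138429))) (.node (nat_lit 1330) (.leaf (nat_lit 261216537)) (.node (nat_lit 1331) (.leaf (nat_lit 261238917)) (.leaf (nat_lit 261258820))))))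
 (.node (nat_lit 1337) (.node (nat_lit 1334) (.node (nat_lit 1333) (.leaf (nat_lit 261312097)) (.leaf (nat_lit 262969557))) (.node (nat_lit 1335) (.leaf (nat_lit 262985684)) (.node (nat_lit 1336) (.leaf (nat_lit 263055041)) (.leaf (nat_lit 263065597)))))
 (.node (nat_lit 1340) (.node (nat_lit 1338) (.leaf (nat_lit 263156201)) (.node (nat_lit 1339) (.leaf (nat_lit 263762937)) (.leaf (nat_lit 263835069)))) (.node (nat_lit 1341) (.leaf (nat_lit 263857265)) (.node (nat_lit 1342) (.leaf (nat_lit 263874960)) (.leaf (nat_lit 263919476)))))))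
 (.node (nat_lit 1354) (.node (nat_lit 1348) (.node (nat_lit 1345) (.node (nat_lit 1344) (.leaf (nat_lit 263936565)) (.leaf (nat_lit 265061409))) (.node (nat_lit 1346) (.leaf (nat_lit 265131284)) (.node (nat_lit 1347) (.leaf (nat_lit 265146773)) (.leaf (nat_lit 265170681)))))
 (.node (nat_lit 1351) (.node (nat_lit 1349) (.leaf (nat_lit 265255757)) (.node (nat_lit 1350) (.leaf (nat_lit 265858261)) (.leaf (nat_lit 265874132)))) (.node (nat_lit 1352) (.leaf (nat_lit 265943489)) (.node (nat_lit 1353) (.leaf (nat_lit 265946877)) (.leaf (nat_lit 266032105))))))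
 (.node (nat_lit 1359) (.node (nat_lit 1356) (.node (nat_lit 1355) (.leaf (nat_lit 266638073)) (.leaf (nat_lit 266717117))) (.node (nat_lit 1357) (.leaf (nat_lit 266745969)) (.node (nat_lit 1358) (.leaf (nat_lit 266764176)) (.leaf (nat_lit 266807924)))))
 (.node (nat_lit 1362) (.node (nat_lit 1360) (.leaf (nat_lit 266825013)) (.node (nat_lit 1361) (.leaf (nat_lit 267434749)) (.leaf (nat_lit 267513625)))) (.node (nat_lit 1363) (.leaf (nat_lit 267522181)) (.node (nat_lit 1364) (.leaf (nat_lit 267539780)) (.leaf (nat_lit 267601249))))))))))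
noncomputable def V : Tr ℕ := (.node (nat_lit 682) (.node (nat_lit 341) (.node (nat_lit 170) V_0 V_1) (.node (nat_lit 511) V_2 V_3)) (.node (nat_lit 1023) (.node (nat_lit 852) V_4 V_5) (.node (nat_lit 1194) V_6 V_7)))
theorem pts : ptR C4 14 true V 1365 0 1365 = true := by decide +kernel
noncomputable def M0 : Sp := [[(nat_lit 0, nat_lit 1), (nat_lit 6, nat_lit 1)],
  [(nat_lit 1, nat_lit 1)],
  [(nat_lit 2, nat_lit 1)],
  [(nat_lit 3, nat_lit 1)],
  [(nat_lit 3, nat_lit 1), (nat_lit 4, nat_lit 1)],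
  [(nat_lit 3, nat_lit 1), (nat_lit 5, nat_lit 1)],
  [(nat_lit 6, nat_lit 1)],
  [(nat_lit 3, nat_lit 1), (nat_lit 4, nat_lit 1), (nat_lit 5, nat_lit 1), (nat_lit 7, nat_lit 1)],
  [(nat_lit 8, nat_lit 1)],
  [(nat_lit 1, nat_lit 1), (nat_lit 6, nat_lit 1), (nat_lit 9, nat_lit 1)],
  [(nat_lit 8, nat_lit 1), (nat_lit 10, nat_lit 1)],
  [(nat_lit 8, nat_lit 1), (nat_lit 11, nat_lit 1)],
  [(nat_lit 8, nat_lit 1), (nat_lit 10, nat_lit 1), (nat_lit 11, nat_lit 1), (nat_lit 12, nat_lit 1)],
  [(nat_lit 13, nat_lit 1)]]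
noncomputable def M1 : Sp := [[(nat_lit 0, nat_lit 1)],
  [(nat_lit 1, nat_lit 1), (nat_lit 7, nat_lit 2)],
  [(nat_lit 2, nat_lit 1)],
  [(nat_lit 2, nat_lit 2), (nat_lit 3, nat_lit 1)],
  [(nat_lit 4, nat_lit 1)],
  [(nat_lit 5, nat_lit 1)],
  [(nat_lit 5, nat_lit 2), (nat_lit 6, nat_lit 1)],
  [(nat_lit 7, nat_lit 1)],
  [(nat_lit 0, nat_lit 2), (nat_lit 7, nat_lit 3), (nat_lit 8, nat_lit 1)],
  [(nat_lit 9, nat_lit 1)],
  [(nat_lit 9, nat_lit 2), (nat_lit 10, nat_lit 1)],
  [(nat_lit 11, nat_lit 1)],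
  [(nat_lit 12, nat_lit 1)],
  [(nat_lit 12, nat_lit 2), (nat_lit 13, nat_lit 1)]]
noncomputable def M2 : Sp := [[(nat_lit 0, nat_lit 1), (nat_lit 9, nat_lit 2)],
  [(nat_lit 1, nat_lit 1)],
  [(nat_lit 2, nat_lit 1)],
  [(nat_lit 3, nat_lit 1), (nat_lit 4, nat_lit 2), (nat_lit 5, nat_lit 3), (nat_lit 7, nat_lit 1)],
  [(nat_lit 4, nat_lit 1), (nat_lit 7, nat_lit 3)],
  [(nat_lit 5, nat_lit 1), (nat_lit 7, nat_lit 2)],
  [(nat_lit 1, nat_lit 2), (nat_lit 6, nat_lit 1), (nat_lit 9, nat_lit 3)],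
  [(nat_lit 7, nat_lit 1)],
  [(nat_lit 8, nat_lit 1), (nat_lit 10, nat_lit 2), (nat_lit 11, nat_lit 3), (nat_lit 12, nat_lit 1)],
  [(nat_lit 9, nat_lit 1)],
  [(nat_lit 10, nat_lit 1), (nat_lit 12, nat_lit 3)],
  [(nat_lit 11, nat_lit 1), (nat_lit 12, nat_lit 2)],
  [(nat_lit 12, nat_lit 1)],
  [(nat_lit 13, nat_lit 1)]]
noncomputable def M3 : Sp := [[(nat_lit 0, nat_lit 1)],
  [(nat_lit 1, nat_lit 1), (nat_lit 8, nat_lit 1)],
  [(nat_lit 2, nat_lit 1), (nat_lit 3, nat_lit 1)],
  [(nat_lit 3, nat_lit 1)],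
  [(nat_lit 4, nat_lit 1)],
  [(nat_lit 5, nat_lit 1), (nat_lit 6, nat_lit 1)],
  [(nat_lit 6, nat_lit 1)],
  [(nat_lit 0, nat_lit 1), (nat_lit 7, nat_lit 1), (nat_lit 8, nat_lit 1)],
  [(nat_lit 8, nat_lit 1)],
  [(nat_lit 9, nat_lit 1), (nat_lit 10, nat_lit 1)],
  [(nat_lit 10, nat_lit 1)],
  [(nat_lit 11, nat_lit 1)],
  [(nat_lit 12, nat_lit 1), (nat_lit 13, nat_lit 1)],
  [(nat_lit 13, nat_lit 1)]]
noncomputable def M4 : Sp := [[(nat_lit 0, nat_lit 1)],
  [(nat_lit 1, nat_lit 1), (nat_lit 7, nat_lit 1)],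
  [(nat_lit 2, nat_lit 1)],
  [(nat_lit 2, nat_lit 1), (nat_lit 3, nat_lit 1)],
  [(nat_lit 4, nat_lit 1)],
  [(nat_lit 5, nat_lit 1)],
  [(nat_lit 5, nat_lit 1), (nat_lit 6, nat_lit 1)],
  [(nat_lit 7, nat_lit 1)],
  [(nat_lit 0, nat_lit 1), (nat_lit 7, nat_lit 1), (nat_lit 8, nat_lit 1)],
  [(nat_lit 9, nat_lit 1)],
  [(nat_lit 9, nat_lit 1), (nat_lit 10, nat_lit 1)],
  [(nat_lit 11, nat_lit 1)],
  [(nat_lit 12, nat_lit 1)],
  [(nat_lit 12, nat_lit 1), (nat_lit 13, nat_lit 1)]]
noncomputable def MT : Tr Sp := (.node (nat_lit 2) (.node (nat_lit 1) (.leaf M0) (.leaf M1)) (.node (nat_lit 3) (.leaf M2) (.node (nat_lit 4) (.leaf M3) (.leaf M4))))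
noncomputable def SC : Tr ℕ := (.node (nat_lit 2) (.node (nat_lit 1) (.leaf (nat_lit 0x15bbb7dfb955e7d95bebe66b7bb99aedfbed5ae9555efb5e7eee5a5f655da5d9ed6eb96fa7bfd6aea5556fad79fbadb97d95d6bb66b6eb55979bfe5b9eab5556bb755ebe979f96d5eab9b55e6ef67b7fffea9556d775a575e6b5a5e7afadd6deef97bb56feaaff555b5b56e6ef9ee6579aee56db7ededeedb56bafbd556d6f5a57fa7b597a7afb9dbdfe5979775b6eafbf95556f979a7fedb6de55beed76d796e9e79aaaaff555d6b9ee6a5d756edb6bfb955e6eeb57e96eaeff5b555ee59edebad6f6e576fd7976e56fb56ed7aabfd6e5557ae5bd6af9797a5f5beed65e5eed57956bafefad55555f96d7b6ab97956e6dbfed679eef957956eeefbbb95555557feaa666555ffddddfffde6666aaaaa65555555566666aaaaa6ffaadddd557ff7777fff7555555557ff7777fff766666aaaaa67fea95555555555555555555556abfd5555aaff55556abfd5556abfd5555555555555)) (.leaf (nat_lit 0x1955d55555d5d555595575556557555d5956559565d565655955656559d555556755959555d5755d565555755565957555655565559555d5595d55d55d55d555555566755555599d555556675555555555555555755659555556595575556555d55955755d5755d5557d5595555d55955575565555f5555559565595655765555559655555575655555d955595555555555955dddd5555595555777756555dddd555955555555565656555d5d95955595d5d55595959d5d9565595655555565d655d5597555655d7555555a55f55d5755d55d55596555755659575557595755565575655655655655559999555dd999955555dd555599995dd5555555555555555555dd955d55776555575dd9555555d5555555759d9555555d55556765575559d95555d55555557555dd95555d5dd9555555d55555dd955d559d559d559d55d7fffffffda7a7a7da6aaaaaaa9555555556abfffd55)))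 (.node (nat_lit 3) (.leaf (nat_lit 0x155beafeed7ebfe9555abaae5555affbb57efae955eaafed55d6da5d55bfeba55576eaefbfbfbab5a557fb555ab96f555fef56baae5ab9557bfeab5b9bfe555aaff555569eaaeeeeaaaeeeeefffffed55555555557bee57bab75aea557bfefd55bae5bbaa5beff557fe75e556baeba557b5fbd55aaefbed6b57efae955bd5557fbae955597abbefabbfb555d6bbfaeaf5b5556eeeeaaaaaeffffeeeefeffd5556ab7655555555555975babbfaeafbf5575957a557bfaeafbfbab5b5565feab556ffaff955ae96d555fbd797aafaa5baff556ea55597bfad556eaefed57bf5ed556afad57efabad557ffbbbbfffb95556abff956aaaaeeeeaed555555555555557fffeeeed55aaeeeeaa5566667fea95555ffaa5577777fea955ffffbbbb556abbbbaa95555ffaa556abbbbaa95555557fea9557fffeeeed5555557bbbaeeed555555555555555555555555555555555555555555555)) (.node (nat_lit 4) (.leaf (nat_lit 0x1957d5555557d55559555555655f55555956559555d565555559655555d556555755955595956559565559655555d56555555975555565955d5d57d57d57d575555767555555d9d555557675555555555555555555d5595755d5595555d56555575575755d5755d5555965d5555965d555555755556595555d5755d5555575555d5975555d5556557555d55595959959959959d9955555555555766555555d995555555555555565755755955d55d5595955d5595d559559565595655659555d7556555755975557559655755755d5755d55d5555655555555957555559575555555555555555555555d95555555d95555555555555d9555559d559d559d555555555dddd5955777755565dddd555559555555555999955555d55556666575559999555d55555555555d95555555d95555555555555d955555555555555555557fffffffeaaaaaaaad555556d55555557f6a5555795))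 (.leaf (nat_lit 0x15555557559555575555655d5555555959565595559575555d5575555d9555557655d55555d5755d57555565557595655575556555d555955959559559559555555777756555dddd55597777555556555555555565955d5555955d5565557555965555655956559555655555575555555565d555559555755d5755d555567555555d7555555657555559d555d5d55d55d55d55999955555d55556666575559999555d55555555575757555955d5d555d5955555d5d5d955d5755d575555956597556559655575556555655b556559565595595555755555555d5655555d565555555555555555555555d95555555d95555555555555d9555555555555555555555555d9555555765555555d955555555555555555d9555555555555765555555d955555555555555555d95555555d95555555555555d9555559d559d559d55556aaaaaaa9ffffffff7979796d55555556abfd555555)))))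
theorem act0 : actR C4 true V 1365 (nat_lit 11) (nat_lit 2047) (MT.get 0) (G0.get 0) (SC.get 0) 0 1365 = true := by decide +kernel
theorem act1 : actR C4 true V 1365 (nat_lit 11) (nat_lit 2047) (MT.get 1) (G0.get 1) (SC.get 1) 0 1365 = true := by decide +kernel
theorem act2 : actR C4 true V 1365 (nat_lit 11) (nat_lit 2047) (MT.get 2) (G0.get 2) (SC.get 2) 0 1365 = true := by decide +kernel
theorem act3 : actR C4 true V 1365 (nat_lit 11) (nat_lit 2047) (MT.get 3) (G0.get 3) (SC.get 3) 0 1365 = true := by decide +kernel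
theorem act4 : actR C4 true V 1365 (nat_lit 11) (nat_lit 2047) (MT.get 4) (G0.get 4) (SC.get 4) 0 1365 = true := by decide +kernel
theorem act : ActAll C4 14 true V 1365 (nat_lit 11) (nat_lit 2047) MT G0 SC 5 := fun j hj => by
  interval_cases j
  exacts [⟨by decide +kernel, act0⟩, ⟨by decide +kernel, act1⟩, ⟨by decide +kernel, act2⟩, ⟨by decide +kernel, act3⟩, ⟨by decide +kernel, act4⟩]
noncomputable def RT : Tr ℕ := (.node (nat_lit 2) (.node (nat_lit 1) (.leaf (nat_lit 7)) (.leaf (nat_lit 6))) (.node (nat_lit 3) (.leaf (nat_lit 4)) (.node (nat_lit 4) (.leaf (nat_lit 5)) (.leaf (nat_lit 6)))))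
noncomputable def TT : Tr ℕ := (.node (nat_lit 2) (.node (nat_lit 1) (.leaf (nat_lit 1)) (.leaf (nat_lit 2))) (.node (nat_lit 3) (.leaf (nat_lit 2)) (.node (nat_lit 4) (.leaf (nat_lit 1)) (.leaf (nat_lit 1)))))
theorem pw : ∀ j < 5, entChk C4 14 (MT.get j) (fun a b => xC C4 2 Cfsg.Lie.chevG2 (Fin.ofNat _ (RT.get j)) (TT.get j)
    (unS Cfsg.Lie.chevG2.rank Cfsg.Lie.chevG2.nroots a) (unS Cfsg.Lie.chevG2.rank Cfsg.Lie.chevG2.nroots b)) = true ∧ powChk C4 14 (MT.get j) 2 = true := by decide +kernel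
theorem iso {F : Type*} [Field F] [Fintype F] (hF : Fintype.card F = 4) :
    Nonempty (Cfsg.Lie.chevG2.group F ≃* P) := by
  haveI : CharP F 2 := charP_of_card (k := 2) (by norm_num) hF
  obtain ⟨ω, hω⟩ := exists_fm4 hF
  have h := fm4 hω
  have hx : IX _ _ 14 := ix_sum Cfsg.Lie.chevG2.rank Cfsg.Lie.chevG2.nroots
  refine iso_of_card' gen (h.pt_inj hx (τGL (Cfsg.Lie.chevG2.group F)) pts)
    (act.lets h hx fun j hj => h.exists_chev 2 (by decide) hx _ _ (pw j hj).1 (pw j hj).2) ?_
  rw [card, Cfsg.Agent.S1059.result hF]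
  decide

end H8.G24
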