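import Cfsg.Agent.H8.NMdl
import Cfsg.Agent.H8.GHe
import Cfsg.Agent.H7.T.He0

/-! H8.XHe: `iso`, the presented group is the model `P` (generated certificate) -/

set_option autoImplicit false
set_option maxRecDepth 200000

namespace H8.He

def xW : ℕ → List ℕ := fun j => if j = 0 then [2, 3, 5, 0, 1] else [4, 6, 1, 3, 1, 2]
theorem xr0 : repW 2058 12 (nat_lit 12) (nat_lit 4095) H7.T.M_He.Ns (xW 0) (G0.get 0) 0 2058 = true := by decide +kernel
theorem xr1 : repW 2058 12 (nat_lit 12) (nat_lit 4095) H7.T.M_He.Ns (xW 1) (G0.get 1) 0 2058 = true := by decide +kernel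
theorem iso : Nonempty (Cfsg.Spor.He ≃* P) := by
  haveI := H7.T.top_He.1
  exact iso_mdl H7.T.M_He rfl gen 12 (by norm_num) xW (fun j hj => by interval_cases j; exacts [xr0, xr1])
    (by rw [card, H7.T.top_He.2.1])

end H8.He
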