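import Cfsg.Agent.H8.GJ1
import Cfsg.Agent.H8.Glue
import Cfsg.Agent.H8.Chev
import Cfsg.Prelude.Def_Spor_J1

/-! H8.XJ1: `iso`: J1 is isomorphic to `P` (generated certificate) -/

set_option autoImplicit false
set_option maxRecDepth 200000

open Matrix

namespace H8.J1

noncomputable def V_0 : Tr ℕ := (.node (nat_lit 99) (.node (nat_lit 49) (.node (nat_lit 24) (.node (nat_lit 12) (.node (nat_lit 6) (.node (nat_lit 3) (.node (nat_lit 1) (.leaf (nat_lit 82433)) (.node (nat_lit 2) (.leaf (nat_lit 96513)) (.leaf (nat_lit 213809)))) (.node (nat_lit 4) (.leaf (nat_lit 213889)) (.node (nat_lit 5) (.leaf (nat_lit 219137)) (.leaf (nat_lit 221953)))))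
 (.node (nat_lit 9) (.node (nat_lit 7) (.leaf (nat_lit 227377)) (.node (nat_lit 8) (.leaf (nat_lit 227457)) (.leaf (nat_lit 348673)))) (.node (nat_lit 10) (.leaf (nat_lit 354561)) (.node (nat_lit 11) (.leaf (nat_lit 416001)) (.leaf (nat_lit 418305))))))
 (.node (nat_lit 18) (.node (nat_lit 15) (.node (nat_lit 13) (.leaf (nat_lit 542769)) (.node (nat_lit 14) (.leaf (nat_lit 542849)) (.leaf (nat_lit 545537)))) (.node (nat_lit 16) (.leaf (nat_lit 550913)) (.node (nat_lit 17) (.leaf (nat_lit 553777)) (.leaf (nat_lit 553857)))))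
 (.node (nat_lit 21) (.node (nat_lit 19) (.leaf (nat_lit 674049)) (.node (nat_lit 20) (.leaf (nat_lit 684545)) (.leaf (nat_lit 1130577)))) (.node (nat_lit 22) (.leaf (nat_lit 1131777)) (.node (nat_lit 23) (.leaf (nat_lit 1132609)) (.leaf (nat_lit 1142881)))))))
 (.node (nat_lit 36) (.node (nat_lit 30) (.node (nat_lit 27) (.node (nat_lit 25) (.leaf (nat_lit 1143665)) (.node (nat_lit 26) (.leaf (nat_lit 1144321)) (.leaf (nat_lit 1318928)))) (.node (nat_lit 28) (.leaf (nat_lit 1382673)) (.node (nat_lit 29) (.leaf (nat_lit 1397569)) (.leaf (nat_lit 1402993)))))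
 (.node (nat_lit 33) (.node (nat_lit 31) (.leaf (nat_lit 1417889)) (.node (nat_lit 32) (.leaf (nat_lit 1446561)) (.leaf (nat_lit 1464433)))) (.node (nat_lit 34) (.leaf (nat_lit 1467201)) (.node (nat_lit 35) (.leaf (nat_lit 1485073)) (.leaf (nat_lit 1544208))))))
 (.node (nat_lit 42) (.node (nat_lit 39) (.node (nat_lit 37) (.leaf (nat_lit 1720417)) (.node (nat_lit 38) (.leaf (nat_lit 1721201)) (.leaf (nat_lit 1721857)))) (.node (nat_lit 40) (.leaf (nat_lit 1732689)) (.node (nat_lit 41) (.leaf (nat_lit 1733889)) (.leaf (nat_lit 1734721)))))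
 (.node (nat_lit 45) (.node (nat_lit 43) (.leaf (nat_lit 2105905)) (.node (nat_lit 44) (.leaf (nat_lit 2107777)) (.leaf (nat_lit 2134577))))
 (.node (nat_lit 47) (.node (nat_lit 46) (.leaf (nat_lit 2136449)) (.leaf (nat_lit 2168225))) (.node (nat_lit 48) (.leaf (nat_lit 2172465)) (.leaf (nat_lit 2200961))))))))
 (.node (nat_lit 74) (.node (nat_lit 61) (.node (nat_lit 55) (.node (nat_lit 52) (.node (nat_lit 50) (.leaf (nat_lit 2205201)) (.node (nat_lit 51) (.leaf (nat_lit 2249633)) (.leaf (nat_lit 2254865)))) (.node (nat_lit 53) (.leaf (nat_lit 2298673)) (.node (nat_lit 54) (.leaf (nat_lit 2300241)) (.leaf (nat_lit 2335329)))))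
 (.node (nat_lit 58) (.node (nat_lit 56) (.leaf (nat_lit 2336897)) (.node (nat_lit 57) (.leaf (nat_lit 2626145)) (.leaf (nat_lit 2627713)))) (.node (nat_lit 59) (.leaf (nat_lit 2663217)) (.node (nat_lit 60) (.leaf (nat_lit 2664785)) (.leaf (nat_lit 2709521))))))
 (.node (nat_lit 67) (.node (nat_lit 64) (.node (nat_lit 62) (.leaf (nat_lit 2712481)) (.node (nat_lit 63) (.leaf (nat_lit 2758161)) (.leaf (nat_lit 2762113)))) (.node (nat_lit 65) (.leaf (nat_lit 2790961)) (.node (nat_lit 66) (.leaf (nat_lit 2794913)) (.leaf (nat_lit 3229009)))))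
 (.node (nat_lit 70) (.node (nat_lit 68) (.leaf (nat_lit 3241569)) (.node (nat_lit 69) (.leaf (nat_lit 3289873)) (.leaf (nat_lit 3311777))))
 (.node (nat_lit 72) (.node (nat_lit 71) (.leaf (nat_lit 3420944)) (.leaf (nat_lit 3422224))) (.node (nat_lit 73) (.leaf (nat_lit 3506192)) (.leaf (nat_lit 3551248)))))))
 (.node (nat_lit 86) (.node (nat_lit 80) (.node (nat_lit 77) (.node (nat_lit 75) (.leaf (nat_lit 3638032)) (.node (nat_lit 76) (.leaf (nat_lit 3639312)) (.leaf (nat_lit 3750049)))) (.node (nat_lit 78) (.leaf (nat_lit 3769105)) (.node (nat_lit 79) (.leaf (nat_lit 3819105)) (.leaf (nat_lit 3831121)))))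
 (.node (nat_lit 83) (.node (nat_lit 81) (.leaf (nat_lit 4194593)) (.node (nat_lit 82) (.leaf (nat_lit 4197009)) (.leaf (nat_lit 4339825)))) (.node (nat_lit 84) (.leaf (nat_lit 4343937)) (.node (nat_lit 85) (.leaf (nat_lit 4354865)) (.leaf (nat_lit 4358977))))))
 (.node (nat_lit 92) (.node (nat_lit 89) (.node (nat_lit 87) (.leaf (nat_lit 4391729)) (.node (nat_lit 88) (.leaf (nat_lit 4393089)) (.leaf (nat_lit 4719409)))) (.node (nat_lit 90) (.leaf (nat_lit 4720769)) (.node (nat_lit 91) (.leaf (nat_lit 4797249)) (.leaf (nat_lit 4801329)))))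
 (.node (nat_lit 95) (.node (nat_lit 93) (.leaf (nat_lit 4814977)) (.node (nat_lit 94) (.leaf (nat_lit 4819057)) (.leaf (nat_lit 5243777))))
 (.node (nat_lit 97) (.node (nat_lit 96) (.leaf (nat_lit 5244193)) (.leaf (nat_lit 5244561))) (.node (nat_lit 98) (.leaf (nat_lit 5244977)) (.leaf (nat_lit 5380769)))))))))
 (.node (nat_lit 149) (.node (nat_lit 124) (.node (nat_lit 111) (.node (nat_lit 105) (.node (nat_lit 102) (.node (nat_lit 100) (.leaf (nat_lit 5388833)) (.node (nat_lit 101) (.leaf (nat_lit 5407121)) (.leaf (nat_lit 5415185)))) (.node (nat_lit 103) (.leaf (nat_lit 5514273)) (.node (nat_lit 104) (.leaf (nat_lit 5543825)) (.leaf (nat_lit 5578768)))))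
 (.node (nat_lit 108) (.node (nat_lit 106) (.leaf (nat_lit 5672976)) (.node (nat_lit 107) (.leaf (nat_lit 5711761)) (.leaf (nat_lit 5739553)))) (.node (nat_lit 109) (.leaf (nat_lit 5837073)) (.node (nat_lit 110) (.leaf (nat_lit 5845393)) (.leaf (nat_lit 5868065))))))
 (.node (nat_lit 117) (.node (nat_lit 114) (.node (nat_lit 112) (.leaf (nat_lit 5876385)) (.node (nat_lit 113) (.leaf (nat_lit 6292273)) (.leaf (nat_lit 6292881)))) (.node (nat_lit 115) (.leaf (nat_lit 6293025)) (.node (nat_lit 116) (.leaf (nat_lit 6293633)) (.leaf (nat_lit 6429201)))))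
 (.node (nat_lit 120) (.node (nat_lit 118) (.leaf (nat_lit 6437521)) (.node (nat_lit 119) (.leaf (nat_lit 6455585)) (.leaf (nat_lit 6463905))))
 (.node (nat_lit 122) (.node (nat_lit 121) (.leaf (nat_lit 6562961)) (.leaf (nat_lit 6592289))) (.node (nat_lit 123) (.leaf (nat_lit 6656016)) (.leaf (nat_lit 6692880)))))))
 (.node (nat_lit 136) (.node (nat_lit 130) (.node (nat_lit 127) (.node (nat_lit 125) (.leaf (nat_lit 6760225)) (.node (nat_lit 126) (.leaf (nat_lit 6788241)) (.leaf (nat_lit 6885793)))) (.node (nat_lit 128) (.leaf (nat_lit 6893857)) (.node (nat_lit 129) (.leaf (nat_lit 6916753)) (.leaf (nat_lit 6924817)))))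
 (.node (nat_lit 133) (.node (nat_lit 131) (.leaf (nat_lit 7340433)) (.node (nat_lit 132) (.leaf (nat_lit 7342625)) (.leaf (nat_lit 7485505)))) (.node (nat_lit 134) (.leaf (nat_lit 7489585)) (.node (nat_lit 135) (.leaf (nat_lit 7500673)) (.leaf (nat_lit 7504753))))))
 (.node (nat_lit 142) (.node (nat_lit 139) (.node (nat_lit 137) (.leaf (nat_lit 7537537)) (.node (nat_lit 138) (.leaf (nat_lit 7538737)) (.leaf (nat_lit 7865217)))) (.node (nat_lit 140) (.leaf (nat_lit 7866417)) (.node (nat_lit 141) (.leaf (nat_lit 7943025)) (.leaf (nat_lit 7947137)))))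
 (.node (nat_lit 145) (.node (nat_lit 143) (.leaf (nat_lit 7960625)) (.node (nat_lit 144) (.leaf (nat_lit 7964737)) (.leaf (nat_lit 8471905))))
 (.node (nat_lit 147) (.node (nat_lit 146) (.leaf (nat_lit 8484433)) (.leaf (nat_lit 8532897))) (.node (nat_lit 148) (.leaf (nat_lit 8554513)) (.leaf (nat_lit 8684304))))))))
 (.node (nat_lit 174) (.node (nat_lit 161) (.node (nat_lit 155) (.node (nat_lit 152) (.node (nat_lit 150) (.leaf (nat_lit 8685584)) (.node (nat_lit 151) (.leaf (nat_lit 8728592)) (.leaf (nat_lit 8814608)))) (.node (nat_lit 153) (.leaf (nat_lit 8860432)) (.node (nat_lit 154) (.leaf (nat_lit 8861712)) (.leaf (nat_lit 8992785)))))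
 (.node (nat_lit 158) (.node (nat_lit 156) (.leaf (nat_lit 9012129)) (.node (nat_lit 157) (.leaf (nat_lit 9061969)) (.leaf (nat_lit 9074017)))) (.node (nat_lit 159) (.leaf (nat_lit 9446017)) (.node (nat_lit 160) (.leaf (nat_lit 9447729)) (.leaf (nat_lit 9474689))))))
 (.node (nat_lit 167) (.node (nat_lit 164) (.node (nat_lit 162) (.leaf (nat_lit 9476401)) (.node (nat_lit 163) (.leaf (nat_lit 9508113)) (.leaf (nat_lit 9512577)))) (.node (nat_lit 165) (.leaf (nat_lit 9540913)) (.node (nat_lit 166) (.leaf (nat_lit 9545377)) (.leaf (nat_lit 9589521)))))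
 (.node (nat_lit 170) (.node (nat_lit 168) (.leaf (nat_lit 9595041)) (.node (nat_lit 169) (.leaf (nat_lit 9638785)) (.leaf (nat_lit 9640289))))
 (.node (nat_lit 172) (.node (nat_lit 171) (.leaf (nat_lit 9675345)) (.leaf (nat_lit 9676849))) (.node (nat_lit 173) (.leaf (nat_lit 9966161)) (.leaf (nat_lit 9967665)))))))
 (.node (nat_lit 186) (.node (nat_lit 180) (.node (nat_lit 177) (.node (nat_lit 175) (.leaf (nat_lit 10003329)) (.node (nat_lit 176) (.leaf (nat_lit 10004833)) (.leaf (nat_lit 10049697)))) (.node (nat_lit 178) (.leaf (nat_lit 10052369)) (.node (nat_lit 179) (.leaf (nat_lit 10098337)) (.leaf (nat_lit 10102065)))))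
 (.node (nat_lit 183) (.node (nat_lit 181) (.leaf (nat_lit 10131073)) (.node (nat_lit 182) (.leaf (nat_lit 10134801)) (.leaf (nat_lit 10567777)))) (.node (nat_lit 184) (.leaf (nat_lit 10568961)) (.node (nat_lit 185) (.leaf (nat_lit 10569841)) (.leaf (nat_lit 10580049))))))
 (.node (nat_lit 192) (.node (nat_lit 189) (.node (nat_lit 187) (.leaf (nat_lit 10580801)) (.node (nat_lit 188) (.leaf (nat_lit 10581505)) (.leaf (nat_lit 10784784)))) (.node (nat_lit 190) (.leaf (nat_lit 10820001)) (.node (nat_lit 191) (.leaf (nat_lit 10834801)) (.leaf (nat_lit 10840129)))))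
 (.node (nat_lit 195) (.node (nat_lit 193) (.leaf (nat_lit 10854929)) (.node (nat_lit 194) (.leaf (nat_lit 10883601)) (.leaf (nat_lit 10901569))))
 (.node (nat_lit 197) (.node (nat_lit 196) (.leaf (nat_lit 10904433)) (.leaf (nat_lit 10922401))) (.node (nat_lit 198) (.leaf (nat_lit 10952720)) (.leaf (nat_lit 11157585))))))))))
noncomputable def V_1 : Tr ℕ := (.node (nat_lit 299) (.node (nat_lit 249) (.node (nat_lit 224) (.node (nat_lit 211) (.node (nat_lit 205) (.node (nat_lit 202) (.node (nat_lit 200) (.leaf (nat_lit 11158337)) (.node (nat_lit 201) (.leaf (nat_lit 11159041)) (.leaf (nat_lit 11169889)))) (.node (nat_lit 203) (.leaf (nat_lit 11171073)) (.node (nat_lit 204) (.leaf (nat_lit 11171953)) (.leaf (nat_lit 16863633)))))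
 (.node (nat_lit 208) (.node (nat_lit 206) (.leaf (nat_lit 16870033)) (.node (nat_lit 207) (.leaf (nat_lit 16915041)) (.leaf (nat_lit 16918145)))) (.node (nat_lit 209) (.leaf (nat_lit 16946561)) (.node (nat_lit 210) (.leaf (nat_lit 16949601)) (.leaf (nat_lit 16982833))))))
 (.node (nat_lit 217) (.node (nat_lit 214) (.node (nat_lit 212) (.leaf (nat_lit 17012785)) (.node (nat_lit 213) (.leaf (nat_lit 17115665)) (.leaf (nat_lit 17142033)))) (.node (nat_lit 215) (.leaf (nat_lit 17179041)) (.node (nat_lit 216) (.leaf (nat_lit 17210017)) (.leaf (nat_lit 17311873)))))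
 (.node (nat_lit 220) (.node (nat_lit 218) (.leaf (nat_lit 17339265)) (.node (nat_lit 219) (.leaf (nat_lit 17371473)) (.leaf (nat_lit 17376561))))
 (.node (nat_lit 222) (.node (nat_lit 221) (.leaf (nat_lit 17405489)) (.leaf (nat_lit 17410641))) (.node (nat_lit 223) (.leaf (nat_lit 17455649)) (.leaf (nat_lit 17457441)))))))
 (.node (nat_lit 236) (.node (nat_lit 230) (.node (nat_lit 227) (.node (nat_lit 225) (.leaf (nat_lit 17846945)) (.node (nat_lit 226) (.leaf (nat_lit 17848593)) (.leaf (nat_lit 17892753)))) (.node (nat_lit 228) (.leaf (nat_lit 18036097)) (.node (nat_lit 229) (.leaf (nat_lit 18089232)) (.leaf (nat_lit 18108432)))))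
 (.node (nat_lit 233) (.node (nat_lit 231) (.leaf (nat_lit 18121744)) (.node (nat_lit 232) (.leaf (nat_lit 18191201)) (.leaf (nat_lit 18258001)))) (.node (nat_lit 234) (.leaf (nat_lit 18286096)) (.node (nat_lit 235) (.leaf (nat_lit 18298640)) (.leaf (nat_lit 18309136))))))
 (.node (nat_lit 242) (.node (nat_lit 239) (.node (nat_lit 237) (.leaf (nat_lit 18363953)) (.node (nat_lit 238) (.leaf (nat_lit 18482721)) (.leaf (nat_lit 18899505)))) (.node (nat_lit 240) (.leaf (nat_lit 18901377)) (.node (nat_lit 241) (.leaf (nat_lit 18969713)) (.leaf (nat_lit 19174945)))))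
 (.node (nat_lit 245) (.node (nat_lit 243) (.leaf (nat_lit 19244417)) (.node (nat_lit 244) (.leaf (nat_lit 19310129)) (.leaf (nat_lit 19371409))))
 (.node (nat_lit 247) (.node (nat_lit 246) (.leaf (nat_lit 19560257)) (.leaf (nat_lit 20125793))) (.node (nat_lit 248) (.leaf (nat_lit 20142097)) (.leaf (nat_lit 20211201))))))))
 (.node (nat_lit 274) (.node (nat_lit 261) (.node (nat_lit 255) (.node (nat_lit 252) (.node (nat_lit 250) (.leaf (nat_lit 20407553)) (.node (nat_lit 251) (.leaf (nat_lit 20452177)) (.leaf (nat_lit 20468641)))) (.node (nat_lit 253) (.leaf (nat_lit 20971857)) (.node (nat_lit 254) (.leaf (nat_lit 20974177)) (.leaf (nat_lit 20979713)))))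
 (.node (nat_lit 258) (.node (nat_lit 256) (.leaf (nat_lit 20992257)) (.node (nat_lit 257) (.leaf (nat_lit 20992849)) (.leaf (nat_lit 20994145)))) (.node (nat_lit 259) (.leaf (nat_lit 20994561)) (.node (nat_lit 260) (.leaf (nat_lit 21004609)) (.leaf (nat_lit 21006961))))))
 (.node (nat_lit 267) (.node (nat_lit 264) (.node (nat_lit 262) (.leaf (nat_lit 21047153)) (.node (nat_lit 263) (.leaf (nat_lit 21068145)) (.leaf (nat_lit 21102848)))) (.node (nat_lit 265) (.leaf (nat_lit 21185361)) (.node (nat_lit 266) (.leaf (nat_lit 21187073)) (.leaf (nat_lit 21207345)))))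
 (.node (nat_lit 270) (.node (nat_lit 268) (.leaf (nat_lit 21234049)) (.node (nat_lit 269) (.leaf (nat_lit 21299457)) (.leaf (nat_lit 21322049))))
 (.node (nat_lit 272) (.node (nat_lit 271) (.leaf (nat_lit 21367297)) (.leaf (nat_lit 21385841))) (.node (nat_lit 273) (.leaf (nat_lit 21432881)) (.leaf (nat_lit 21512449)))))))
 (.node (nat_lit 286) (.node (nat_lit 280) (.node (nat_lit 277) (.node (nat_lit 275) (.leaf (nat_lit 21514337)) (.node (nat_lit 276) (.leaf (nat_lit 21533313)) (.leaf (nat_lit 21636161)))) (.node (nat_lit 278) (.leaf (nat_lit 21656129)) (.node (nat_lit 279) (.leaf (nat_lit 22089873)) (.leaf (nat_lit 22122768)))))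
 (.node (nat_lit 283) (.node (nat_lit 281) (.leaf (nat_lit 22164897)) (.node (nat_lit 282) (.leaf (nat_lit 22253713)) (.leaf (nat_lit 22283569)))) (.node (nat_lit 284) (.leaf (nat_lit 22361104)) (.node (nat_lit 285) (.leaf (nat_lit 22447888)) (.leaf (nat_lit 22480513))))))
 (.node (nat_lit 292) (.node (nat_lit 289) (.node (nat_lit 287) (.leaf (nat_lit 22581281)) (.node (nat_lit 288) (.leaf (nat_lit 22623761)) (.leaf (nat_lit 22679585)))) (.node (nat_lit 290) (.leaf (nat_lit 22686224)) (.node (nat_lit 291) (.leaf (nat_lit 23144976)) (.leaf (nat_lit 23175313)))))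
 (.node (nat_lit 295) (.node (nat_lit 293) (.leaf (nat_lit 23234209)) (.node (nat_lit 294) (.leaf (nat_lit 23273617)) (.leaf (nat_lit 23332401))))
 (.node (nat_lit 297) (.node (nat_lit 296) (.leaf (nat_lit 23430928)) (.leaf (nat_lit 23475216))) (.node (nat_lit 298) (.leaf (nat_lit 23528833)) (.leaf (nat_lit 23601185)))))))))
 (.node (nat_lit 349) (.node (nat_lit 324) (.node (nat_lit 311) (.node (nat_lit 305) (.node (nat_lit 302) (.node (nat_lit 300) (.leaf (nat_lit 23692561)) (.node (nat_lit 301) (.leaf (nat_lit 23761168)) (.leaf (nat_lit 23765025)))) (.node (nat_lit 303) (.leaf (nat_lit 24117601)) (.node (nat_lit 304) (.leaf (nat_lit 24119889)) (.leaf (nat_lit 24129905)))))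
 (.node (nat_lit 308) (.node (nat_lit 306) (.leaf (nat_lit 24132161)) (.node (nat_lit 307) (.leaf (nat_lit 24142081)) (.leaf (nat_lit 24142689)))) (.node (nat_lit 309) (.leaf (nat_lit 24143953)) (.node (nat_lit 310) (.leaf (nat_lit 24144385)) (.leaf (nat_lit 24154113))))))
 (.node (nat_lit 317) (.node (nat_lit 314) (.node (nat_lit 312) (.leaf (nat_lit 24199793)) (.node (nat_lit 313) (.leaf (nat_lit 24220785)) (.leaf (nat_lit 24322609)))) (.node (nat_lit 315) (.leaf (nat_lit 24342785)) (.node (nat_lit 316) (.leaf (nat_lit 24344657)) (.leaf (nat_lit 24382081)))))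
 (.node (nat_lit 320) (.node (nat_lit 318) (.leaf (nat_lit 24447489)) (.node (nat_lit 319) (.leaf (nat_lit 24470081)) (.leaf (nat_lit 24510721))))
 (.node (nat_lit 322) (.node (nat_lit 321) (.leaf (nat_lit 24537457)) (.leaf (nat_lit 24576305))) (.node (nat_lit 323) (.leaf (nat_lit 24652161)) (.leaf (nat_lit 24671073)))))))
 (.node (nat_lit 336) (.node (nat_lit 330) (.node (nat_lit 327) (.node (nat_lit 325) (.leaf (nat_lit 24672769)) (.node (nat_lit 326) (.leaf (nat_lit 24707328)) (.leaf (nat_lit 24791361)))) (.node (nat_lit 328) (.leaf (nat_lit 24811329)) (.node (nat_lit 329) (.leaf (nat_lit 25387793)) (.leaf (nat_lit 25404257)))))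
 (.node (nat_lit 333) (.node (nat_lit 331) (.leaf (nat_lit 25449729)) (.node (nat_lit 332) (.leaf (nat_lit 25646593)) (.leaf (nat_lit 25716897)))) (.node (nat_lit 334) (.leaf (nat_lit 25733201)) (.node (nat_lit 335) (.leaf (nat_lit 26235521)) (.leaf (nat_lit 26237233))))))
 (.node (nat_lit 342) (.node (nat_lit 339) (.node (nat_lit 337) (.leaf (nat_lit 26298225)) (.node (nat_lit 338) (.leaf (nat_lit 26486049)) (.leaf (nat_lit 26547841)))) (.node (nat_lit 340) (.leaf (nat_lit 26613041)) (.node (nat_lit 341) (.leaf (nat_lit 26683025)) (.leaf (nat_lit 26887233)))))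
 (.node (nat_lit 345) (.node (nat_lit 343) (.leaf (nat_lit 27288081)) (.node (nat_lit 344) (.leaf (nat_lit 27290017)) (.leaf (nat_lit 27330193))))
 (.node (nat_lit 347) (.node (nat_lit 346) (.leaf (nat_lit 27494017)) (.leaf (nat_lit 27526672))) (.node (nat_lit 348) (.leaf (nat_lit 27539216)) (.leaf (nat_lit 27549712))))))))
 (.node (nat_lit 374) (.node (nat_lit 361) (.node (nat_lit 355) (.node (nat_lit 352) (.node (nat_lit 350) (.leaf (nat_lit 27600993)) (.node (nat_lit 351) (.leaf (nat_lit 27665233)) (.leaf (nat_lit 27723024)))) (.node (nat_lit 353) (.leaf (nat_lit 27742224)) (.node (nat_lit 354) (.leaf (nat_lit 27755536)) (.leaf (nat_lit 27821361)))))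
 (.node (nat_lit 358) (.node (nat_lit 356) (.leaf (nat_lit 27919649)) (.node (nat_lit 357) (.leaf (nat_lit 33694465)) (.leaf (nat_lit 33694480)))) (.node (nat_lit 359) (.leaf (nat_lit 33724417)) (.node (nat_lit 360) (.leaf (nat_lit 33724432)) (.leaf (nat_lit 33837633))))))
 (.node (nat_lit 367) (.node (nat_lit 364) (.node (nat_lit 362) (.leaf (nat_lit 33843521)) (.node (nat_lit 363) (.leaf (nat_lit 33892513)) (.leaf (nat_lit 33919905)))) (.node (nat_lit 365) (.leaf (nat_lit 33956625)) (.node (nat_lit 366) (.leaf (nat_lit 33986577)) (.leaf (nat_lit 34036081)))))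
 (.node (nat_lit 370) (.node (nat_lit 368) (.leaf (nat_lit 34038385)) (.node (nat_lit 369) (.leaf (nat_lit 34153232)) (.leaf (nat_lit 34154497))))
 (.node (nat_lit 372) (.node (nat_lit 371) (.leaf (nat_lit 34181889)) (.leaf (nat_lit 34183184))) (.node (nat_lit 373) (.leaf (nat_lit 34619393)) (.leaf (nat_lit 34628225)))))))
 (.node (nat_lit 386) (.node (nat_lit 380) (.node (nat_lit 377) (.node (nat_lit 375) (.leaf (nat_lit 34629937)) (.node (nat_lit 376) (.leaf (nat_lit 34671201)) (.leaf (nat_lit 34691600)))) (.node (nat_lit 378) (.leaf (nat_lit 34759440)) (.node (nat_lit 379) (.leaf (nat_lit 34763569)) (.leaf (nat_lit 34800433)))))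
 (.node (nat_lit 383) (.node (nat_lit 381) (.leaf (nat_lit 34841953)) (.node (nat_lit 382) (.leaf (nat_lit 34882721)) (.leaf (nat_lit 34931601)))) (.node (nat_lit 384) (.leaf (nat_lit 34968129)) (.node (nat_lit 385) (.leaf (nat_lit 34998305)) (.leaf (nat_lit 35035505))))))
 (.node (nat_lit 392) (.node (nat_lit 389) (.node (nat_lit 387) (.leaf (nat_lit 35079953)) (.node (nat_lit 388) (.leaf (nat_lit 35129473)) (.leaf (nat_lit 35169873)))) (.node (nat_lit 390) (.leaf (nat_lit 35215376)) (.node (nat_lit 391) (.leaf (nat_lit 35223681)) (.leaf (nat_lit 35258705)))))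
 (.node (nat_lit 395) (.node (nat_lit 393) (.leaf (nat_lit 35283216)) (.node (nat_lit 394) (.leaf (nat_lit 35668625)) (.leaf (nat_lit 35670305))))
 (.node (nat_lit 397) (.node (nat_lit 396) (.leaf (nat_lit 35825505)) (.leaf (nat_lit 35848225))) (.node (nat_lit 398) (.leaf (nat_lit 35848545)) (.leaf (nat_lit 35869537))))))))))
noncomputable def V_2 : Tr ℕ := (.node (nat_lit 498) (.node (nat_lit 448) (.node (nat_lit 423) (.node (nat_lit 411) (.node (nat_lit 405) (.node (nat_lit 402) (.node (nat_lit 400) (.leaf (nat_lit 35994128)) (.node (nat_lit 401) (.leaf (nat_lit 36006241)) (.leaf (nat_lit 36069969)))) (.node (nat_lit 403) (.leaf (nat_lit 36077840)) (.node (nat_lit 404) (.leaf (nat_lit 36176017)) (.leaf (nat_lit 36178513)))))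
 (.node (nat_lit 408) (.node (nat_lit 406) (.leaf (nat_lit 36198481)) (.node (nat_lit 407) (.leaf (nat_lit 36283473)) (.leaf (nat_lit 36778768)))) (.node (nat_lit 409) (.leaf (nat_lit 36803856)) (.node (nat_lit 410) (.leaf (nat_lit 37365264)) (.leaf (nat_lit 37390352))))))
 (.node (nat_lit 417) (.node (nat_lit 414) (.node (nat_lit 412) (.leaf (nat_lit 37888145)) (.node (nat_lit 413) (.leaf (nat_lit 37906849)) (.leaf (nat_lit 37980705)))) (.node (nat_lit 415) (.leaf (nat_lit 38029617)) (.node (nat_lit 416) (.leaf (nat_lit 38035489)) (.leaf (nat_lit 38038113)))))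
 (.node (nat_lit 420) (.node (nat_lit 418) (.leaf (nat_lit 38052209)) (.node (nat_lit 419) (.leaf (nat_lit 38224513)) (.leaf (nat_lit 38232209)))) (.node (nat_lit 421) (.leaf (nat_lit 38232401)) (.node (nat_lit 422) (.leaf (nat_lit 38251073)) (.leaf (nat_lit 38306193)))))))
 (.node (nat_lit 435) (.node (nat_lit 429) (.node (nat_lit 426) (.node (nat_lit 424) (.leaf (nat_lit 38346785)) (.node (nat_lit 425) (.leaf (nat_lit 38363665)) (.leaf (nat_lit 38865281)))) (.node (nat_lit 427) (.leaf (nat_lit 38884257)) (.node (nat_lit 428) (.leaf (nat_lit 39034913)) (.leaf (nat_lit 39135361)))))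
 (.node (nat_lit 432) (.node (nat_lit 430) (.leaf (nat_lit 39163169)) (.node (nat_lit 431) (.leaf (nat_lit 39199537)) (.leaf (nat_lit 39229073)))) (.node (nat_lit 433) (.leaf (nat_lit 39362705)) (.node (nat_lit 434) (.leaf (nat_lit 39453233)) (.leaf (nat_lit 39475217))))))
 (.node (nat_lit 441) (.node (nat_lit 438) (.node (nat_lit 436) (.leaf (nat_lit 39912065)) (.node (nat_lit 437) (.leaf (nat_lit 39938209)) (.leaf (nat_lit 40046625)))) (.node (nat_lit 439) (.leaf (nat_lit 40183329)) (.node (nat_lit 440) (.leaf (nat_lit 40211329)) (.leaf (nat_lit 40248721)))))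
 (.node (nat_lit 444) (.node (nat_lit 442) (.leaf (nat_lit 40278065)) (.node (nat_lit 443) (.leaf (nat_lit 40374417)) (.leaf (nat_lit 40503601))))
 (.node (nat_lit 446) (.node (nat_lit 445) (.leaf (nat_lit 40526609)) (.leaf (nat_lit 41046689))) (.node (nat_lit 447) (.leaf (nat_lit 41062545)) (.leaf (nat_lit 41103649))))))))
 (.node (nat_lit 473) (.node (nat_lit 460) (.node (nat_lit 454) (.node (nat_lit 451) (.node (nat_lit 449) (.leaf (nat_lit 41163377)) (.node (nat_lit 450) (.leaf (nat_lit 41177121)) (.leaf (nat_lit 41177441)))) (.node (nat_lit 452) (.leaf (nat_lit 41185841)) (.node (nat_lit 453) (.leaf (nat_lit 41357633)) (.leaf (nat_lit 41373841)))))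
 (.node (nat_lit 457) (.node (nat_lit 455) (.leaf (nat_lit 41376337)) (.node (nat_lit 456) (.leaf (nat_lit 41384321)) (.leaf (nat_lit 41433745)))) (.node (nat_lit 458) (.leaf (nat_lit 41507089)) (.node (nat_lit 459) (.leaf (nat_lit 41521185)) (.leaf (nat_lit 42018320))))))
 (.node (nat_lit 466) (.node (nat_lit 463) (.node (nat_lit 461) (.leaf (nat_lit 42043408)) (.node (nat_lit 462) (.leaf (nat_lit 42611472)) (.leaf (nat_lit 42636560)))) (.node (nat_lit 464) (.leaf (nat_lit 43020833)) (.node (nat_lit 465) (.leaf (nat_lit 43022737)) (.leaf (nat_lit 43127905)))))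
 (.node (nat_lit 469) (.node (nat_lit 467) (.leaf (nat_lit 43188257)) (.node (nat_lit 468) (.leaf (nat_lit 43190881)) (.leaf (nat_lit 43214945))))
 (.node (nat_lit 471) (.node (nat_lit 470) (.leaf (nat_lit 43340385)) (.leaf (nat_lit 43352336))) (.node (nat_lit 472) (.leaf (nat_lit 43399696)) (.leaf (nat_lit 43407697)))))))
 (.node (nat_lit 485) (.node (nat_lit 479) (.node (nat_lit 476) (.node (nat_lit 474) (.leaf (nat_lit 43516049)) (.node (nat_lit 475) (.leaf (nat_lit 43516241)) (.leaf (nat_lit 43541329)))) (.node (nat_lit 477) (.leaf (nat_lit 43587409)) (.node (nat_lit 478) (.leaf (nat_lit 44061233)) (.leaf (nat_lit 44063105)))))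
 (.node (nat_lit 482) (.node (nat_lit 480) (.leaf (nat_lit 44068865)) (.node (nat_lit 481) (.leaf (nat_lit 44106081)) (.leaf (nat_lit 44130576)))) (.node (nat_lit 483) (.leaf (nat_lit 44189745)) (.node (nat_lit 484) (.leaf (nat_lit 44193808)) (.leaf (nat_lit 44238897))))))
 (.node (nat_lit 491) (.node (nat_lit 488) (.node (nat_lit 486) (.leaf (nat_lit 44242529)) (.node (nat_lit 487) (.leaf (nat_lit 44332961)) (.leaf (nat_lit 44370065)))) (.node (nat_lit 489) (.leaf (nat_lit 44378433)) (.node (nat_lit 490) (.leaf (nat_lit 44434209)) (.leaf (nat_lit 44442225)))))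
 (.node (nat_lit 494) (.node (nat_lit 492) (.leaf (nat_lit 44528657)) (.node (nat_lit 493) (.leaf (nat_lit 44565377)) (.leaf (nat_lit 44569937))))
 (.node (nat_lit 496) (.node (nat_lit 495) (.leaf (nat_lit 44647297)) (.leaf (nat_lit 44655376))) (.node (nat_lit 497) (.leaf (nat_lit 44698193)) (.leaf (nat_lit 44718608)))))))))
 (.node (nat_lit 548) (.node (nat_lit 523) (.node (nat_lit 510) (.node (nat_lit 504) (.node (nat_lit 501) (.node (nat_lit 499) (.leaf (nat_lit 50420113)) (.node (nat_lit 500) (.leaf (nat_lit 50422417)) (.leaf (nat_lit 50540833)))) (.node (nat_lit 502) (.leaf (nat_lit 50545809)) (.node (nat_lit 503) (.leaf (nat_lit 50558865)) (.leaf (nat_lit 50563617)))))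
 (.node (nat_lit 507) (.node (nat_lit 505) (.leaf (nat_lit 50870929)) (.node (nat_lit 506) (.leaf (nat_lit 50874145)) (.leaf (nat_lit 50885665)))) (.node (nat_lit 508) (.leaf (nat_lit 50889105)) (.node (nat_lit 509) (.leaf (nat_lit 51008033)) (.leaf (nat_lit 51013921))))))
 (.node (nat_lit 516) (.node (nat_lit 513) (.node (nat_lit 511) (.leaf (nat_lit 51476225)) (.node (nat_lit 512) (.leaf (nat_lit 51664144)) (.leaf (nat_lit 51714097)))) (.node (nat_lit 514) (.leaf (nat_lit 51730977)) (.node (nat_lit 515) (.leaf (nat_lit 51778433)) (.leaf (nat_lit 51794321)))))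
 (.node (nat_lit 519) (.node (nat_lit 517) (.leaf (nat_lit 51865104)) (.node (nat_lit 518) (.leaf (nat_lit 52065281)) (.leaf (nat_lit 52523569))))
 (.node (nat_lit 521) (.node (nat_lit 520) (.leaf (nat_lit 52637968)) (.leaf (nat_lit 52988432))) (.node (nat_lit 522) (.leaf (nat_lit 53115265)) (.leaf (nat_lit 53543473)))))))
 (.node (nat_lit 535) (.node (nat_lit 529) (.node (nat_lit 526) (.node (nat_lit 524) (.leaf (nat_lit 53560401)) (.node (nat_lit 525) (.leaf (nat_lit 53577233)) (.leaf (nat_lit 53578337)))) (.node (nat_lit 527) (.leaf (nat_lit 53838097)) (.node (nat_lit 528) (.leaf (nat_lit 53906081)) (.leaf (nat_lit 54135169)))))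
 (.node (nat_lit 532) (.node (nat_lit 530) (.leaf (nat_lit 54151009)) (.node (nat_lit 531) (.leaf (nat_lit 54165841)) (.leaf (nat_lit 54166945)))) (.node (nat_lit 533) (.leaf (nat_lit 54735104)) (.node (nat_lit 534) (.leaf (nat_lit 54739457)) (.leaf (nat_lit 54755584))))))
 (.node (nat_lit 541) (.node (nat_lit 538) (.node (nat_lit 536) (.leaf (nat_lit 54853969)) (.node (nat_lit 537) (.leaf (nat_lit 54866241)) (.leaf (nat_lit 54878369)))) (.node (nat_lit 539) (.leaf (nat_lit 54921825)) (.node (nat_lit 540) (.leaf (nat_lit 54934129)) (.leaf (nat_lit 54943761)))))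
 (.node (nat_lit 544) (.node (nat_lit 542) (.leaf (nat_lit 55068929)) (.node (nat_lit 543) (.leaf (nat_lit 55616593)) (.leaf (nat_lit 55617377))))
 (.node (nat_lit 546) (.node (nat_lit 545) (.leaf (nat_lit 55645057)) (.leaf (nat_lit 55801441))) (.node (nat_lit 547) (.leaf (nat_lit 56099072)) (.leaf (nat_lit 56128849))))))))
 (.node (nat_lit 573) (.node (nat_lit 560) (.node (nat_lit 554) (.node (nat_lit 551) (.node (nat_lit 549) (.leaf (nat_lit 56236081)) (.node (nat_lit 550) (.leaf (nat_lit 56628321)) (.leaf (nat_lit 56629073)))) (.node (nat_lit 552) (.leaf (nat_lit 56731777)) (.node (nat_lit 553) (.leaf (nat_lit 56819968)) (.leaf (nat_lit 56837473)))))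
 (.node (nat_lit 557) (.node (nat_lit 555) (.leaf (nat_lit 57165393)) (.node (nat_lit 556) (.leaf (nat_lit 57320241)) (.leaf (nat_lit 57899265)))) (.node (nat_lit 558) (.leaf (nat_lit 58002001)) (.node (nat_lit 559) (.leaf (nat_lit 58020001)) (.leaf (nat_lit 58034753))))))
 (.node (nat_lit 566) (.node (nat_lit 563) (.node (nat_lit 561) (.leaf (nat_lit 58065249)) (.node (nat_lit 562) (.leaf (nat_lit 58085393)) (.leaf (nat_lit 58098033)))) (.node (nat_lit 564) (.leaf (nat_lit 58208512)) (.node (nat_lit 565) (.leaf (nat_lit 58225153)) (.leaf (nat_lit 58228992)))))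
 (.node (nat_lit 569) (.node (nat_lit 567) (.leaf (nat_lit 58788145)) (.node (nat_lit 568) (.leaf (nat_lit 58798433)) (.leaf (nat_lit 58799377))))
 (.node (nat_lit 571) (.node (nat_lit 570) (.leaf (nat_lit 58816337)) (.leaf (nat_lit 59062801))) (.node (nat_lit 572) (.leaf (nat_lit 59126177)) (.leaf (nat_lit 59376257)))))))
 (.node (nat_lit 585) (.node (nat_lit 579) (.node (nat_lit 576) (.node (nat_lit 574) (.leaf (nat_lit 59389601)) (.node (nat_lit 575) (.leaf (nat_lit 59390545)) (.leaf (nat_lit 59405409)))) (.node (nat_lit 577) (.leaf (nat_lit 59853105)) (.node (nat_lit 578) (.leaf (nat_lit 60000784)) (.leaf (nat_lit 60305680)))))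
 (.node (nat_lit 582) (.node (nat_lit 580) (.leaf (nat_lit 60441217)) (.node (nat_lit 581) (.leaf (nat_lit 60900353)) (.leaf (nat_lit 61105680)))) (.node (nat_lit 583) (.leaf (nat_lit 61169953)) (.node (nat_lit 584) (.leaf (nat_lit 61186865)) (.leaf (nat_lit 61237905))))))
 (.node (nat_lit 591) (.node (nat_lit 588) (.node (nat_lit 586) (.leaf (nat_lit 61253761)) (.node (nat_lit 587) (.leaf (nat_lit 61297936)) (.leaf (nat_lit 61490945)))) (.node (nat_lit 589) (.leaf (nat_lit 67113488)) (.node (nat_lit 590) (.leaf (nat_lit 67114257)) (.leaf (nat_lit 67114657)))))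
 (.node (nat_lit 594) (.node (nat_lit 592) (.leaf (nat_lit 67151265)) (.node (nat_lit 593) (.leaf (nat_lit 67151377)) (.leaf (nat_lit 67152144))))
 (.node (nat_lit 596) (.node (nat_lit 595) (.leaf (nat_lit 67239953)) (.leaf (nat_lit 67306289))) (.node (nat_lit 597) (.leaf (nat_lit 67307569)) (.leaf (nat_lit 67311521))))))))))
noncomputable def V_3 : Tr ℕ := (.node (nat_lit 698) (.node (nat_lit 648) (.node (nat_lit 623) (.node (nat_lit 610) (.node (nat_lit 604) (.node (nat_lit 601) (.node (nat_lit 599) (.leaf (nat_lit 67322769)) (.node (nat_lit 600) (.leaf (nat_lit 67336337)) (.leaf (nat_lit 67347617)))) (.node (nat_lit 602) (.leaf (nat_lit 67440657)) (.node (nat_lit 603) (.leaf (nat_lit 67450129)) (.leaf (nat_lit 67470865)))))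
 (.node (nat_lit 607) (.node (nat_lit 605) (.leaf (nat_lit 67477521)) (.node (nat_lit 606) (.leaf (nat_lit 67506337)) (.leaf (nat_lit 67516065)))) (.node (nat_lit 608) (.leaf (nat_lit 67536289)) (.node (nat_lit 609) (.leaf (nat_lit 67543201)) (.leaf (nat_lit 67634049))))))
 (.node (nat_lit 616) (.node (nat_lit 613) (.node (nat_lit 611) (.leaf (nat_lit 67635329)) (.node (nat_lit 612) (.leaf (nat_lit 67638289)) (.leaf (nat_lit 67651617)))) (.node (nat_lit 614) (.leaf (nat_lit 67662625)) (.node (nat_lit 615) (.leaf (nat_lit 67675921)) (.leaf (nat_lit 67698849)))))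
 (.node (nat_lit 619) (.node (nat_lit 617) (.leaf (nat_lit 68239489)) (.node (nat_lit 618) (.leaf (nat_lit 68318993)) (.leaf (nat_lit 68371761))))
 (.node (nat_lit 621) (.node (nat_lit 620) (.leaf (nat_lit 68457633)) (.leaf (nat_lit 68654865))) (.node (nat_lit 622) (.leaf (nat_lit 68699777)) (.leaf (nat_lit 68777121)))))))
 (.node (nat_lit 635) (.node (nat_lit 629) (.node (nat_lit 626) (.node (nat_lit 624) (.leaf (nat_lit 68829233)) (.node (nat_lit 625) (.leaf (nat_lit 69210113)) (.leaf (nat_lit 69347585)))) (.node (nat_lit 627) (.leaf (nat_lit 69355633)) (.node (nat_lit 628) (.leaf (nat_lit 69437200)) (.leaf (nat_lit 69445777)))))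
 (.node (nat_lit 632) (.node (nat_lit 630) (.leaf (nat_lit 69474881)) (.node (nat_lit 631) (.leaf (nat_lit 69502992)) (.leaf (nat_lit 69669233)))) (.node (nat_lit 633) (.leaf (nat_lit 69677840)) (.node (nat_lit 634) (.leaf (nat_lit 69743632)) (.leaf (nat_lit 69772065))))))
 (.node (nat_lit 641) (.node (nat_lit 638) (.node (nat_lit 636) (.leaf (nat_lit 69804545)) (.node (nat_lit 637) (.leaf (nat_lit 69813057)) (.leaf (nat_lit 70267664)))) (.node (nat_lit 639) (.leaf (nat_lit 70289424)) (.node (nat_lit 640) (.leaf (nat_lit 70402097)) (.leaf (nat_lit 70424737)))))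
 (.node (nat_lit 644) (.node (nat_lit 642) (.leaf (nat_lit 70519089)) (.node (nat_lit 643) (.leaf (nat_lit 70530321)) (.leaf (nat_lit 70557713))))
 (.node (nat_lit 646) (.node (nat_lit 645) (.leaf (nat_lit 70608433)) (.leaf (nat_lit 70673793))) (.node (nat_lit 647) (.leaf (nat_lit 70713985)) (.leaf (nat_lit 70727329))))))))
 (.node (nat_lit 673) (.node (nat_lit 660) (.node (nat_lit 654) (.node (nat_lit 651) (.node (nat_lit 649) (.leaf (nat_lit 70754465)) (.node (nat_lit 650) (.leaf (nat_lit 70860929)) (.leaf (nat_lit 70882065)))) (.node (nat_lit 652) (.leaf (nat_lit 71308193)) (.node (nat_lit 653) (.leaf (nat_lit 71309329)) (.leaf (nat_lit 71316257)))))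
 (.node (nat_lit 657) (.node (nat_lit 655) (.leaf (nat_lit 71317649)) (.node (nat_lit 656) (.leaf (nat_lit 71454753)) (.leaf (nat_lit 71502129)))) (.node (nat_lit 658) (.leaf (nat_lit 71509137)) (.node (nat_lit 659) (.leaf (nat_lit 71606561)) (.leaf (nat_lit 71635761))))))
 (.node (nat_lit 666) (.node (nat_lit 663) (.node (nat_lit 661) (.leaf (nat_lit 71655537)) (.node (nat_lit 662) (.leaf (nat_lit 71702657)) (.leaf (nat_lit 71721025)))) (.node (nat_lit 664) (.leaf (nat_lit 71805585)) (.node (nat_lit 665) (.leaf (nat_lit 71828097)) (.leaf (nat_lit 71837473)))))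
 (.node (nat_lit 669) (.node (nat_lit 667) (.leaf (nat_lit 71913617)) (.node (nat_lit 668) (.leaf (nat_lit 72355857)) (.leaf (nat_lit 72356001))))
 (.node (nat_lit 671) (.node (nat_lit 670) (.leaf (nat_lit 72437809)) (.leaf (nat_lit 72451329))) (.node (nat_lit 672) (.leaf (nat_lit 72454689)) (.leaf (nat_lit 72499713)))))))
 (.node (nat_lit 685) (.node (nat_lit 679) (.node (nat_lit 676) (.node (nat_lit 674) (.leaf (nat_lit 72521473)) (.node (nat_lit 675) (.leaf (nat_lit 72619409)) (.leaf (nat_lit 72643841)))) (.node (nat_lit 677) (.leaf (nat_lit 72683569)) (.node (nat_lit 678) (.leaf (nat_lit 72717329)) (.leaf (nat_lit 72749185)))))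
 (.node (nat_lit 682) (.node (nat_lit 680) (.leaf (nat_lit 72783777)) (.node (nat_lit 681) (.leaf (nat_lit 72816161)) (.leaf (nat_lit 72840705)))) (.node (nat_lit 683) (.leaf (nat_lit 72960257)) (.node (nat_lit 684) (.leaf (nat_lit 72979457)) (.leaf (nat_lit 73027713))))))
 (.node (nat_lit 691) (.node (nat_lit 688) (.node (nat_lit 686) (.leaf (nat_lit 73041409)) (.node (nat_lit 687) (.leaf (nat_lit 73046417)) (.leaf (nat_lit 73441297)))) (.node (nat_lit 689) (.leaf (nat_lit 73441441)) (.node (nat_lit 690) (.leaf (nat_lit 73476385)) (.leaf (nat_lit 73479681)))))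
 (.node (nat_lit 694) (.node (nat_lit 692) (.leaf (nat_lit 73490481)) (.node (nat_lit 693) (.leaf (nat_lit 73540609)) (.leaf (nat_lit 73562369))))
 (.node (nat_lit 696) (.node (nat_lit 695) (.leaf (nat_lit 73680385)) (.leaf (nat_lit 73705105))) (.node (nat_lit 697) (.leaf (nat_lit 73738001)) (.leaf (nat_lit 73769009)))))))))
 (.node (nat_lit 748) (.node (nat_lit 723) (.node (nat_lit 710) (.node (nat_lit 704) (.node (nat_lit 701) (.node (nat_lit 699) (.leaf (nat_lit 73802913)) (.node (nat_lit 700) (.leaf (nat_lit 73834625)) (.leaf (nat_lit 73876737)))) (.node (nat_lit 702) (.leaf (nat_lit 73901345)) (.node (nat_lit 703) (.leaf (nat_lit 74000129)) (.leaf (nat_lit 74019329)))))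
 (.node (nat_lit 707) (.node (nat_lit 705) (.leaf (nat_lit 74064529)) (.node (nat_lit 706) (.leaf (nat_lit 74069249)) (.leaf (nat_lit 74080385)))) (.node (nat_lit 708) (.leaf (nat_lit 74482577)) (.node (nat_lit 709) (.leaf (nat_lit 74483745)) (.leaf (nat_lit 74490641))))))
 (.node (nat_lit 716) (.node (nat_lit 713) (.node (nat_lit 711) (.leaf (nat_lit 74492065)) (.node (nat_lit 712) (.leaf (nat_lit 74604577)) (.leaf (nat_lit 74646065)))) (.node (nat_lit 714) (.leaf (nat_lit 74684305)) (.node (nat_lit 715) (.leaf (nat_lit 74717729)) (.leaf (nat_lit 74797169)))))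
 (.node (nat_lit 719) (.node (nat_lit 717) (.leaf (nat_lit 74819633)) (.node (nat_lit 718) (.leaf (nat_lit 74862657)) (.leaf (nat_lit 74883969))))
 (.node (nat_lit 721) (.node (nat_lit 720) (.leaf (nat_lit 74912145)) (.leaf (nat_lit 74975617))) (.node (nat_lit 722) (.leaf (nat_lit 75011105)) (.leaf (nat_lit 75063441)))))))
 (.node (nat_lit 735) (.node (nat_lit 729) (.node (nat_lit 726) (.node (nat_lit 724) (.leaf (nat_lit 75510544)) (.node (nat_lit 725) (.leaf (nat_lit 75532304)) (.leaf (nat_lit 75637665)))) (.node (nat_lit 727) (.leaf (nat_lit 75657265)) (.node (nat_lit 728) (.leaf (nat_lit 75760177)) (.leaf (nat_lit 75763729)))))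
 (.node (nat_lit 732) (.node (nat_lit 730) (.leaf (nat_lit 75793937)) (.node (nat_lit 731) (.leaf (nat_lit 75846961)) (.leaf (nat_lit 75912833)))) (.node (nat_lit 733) (.leaf (nat_lit 75958657)) (.node (nat_lit 734) (.leaf (nat_lit 75960481)) (.leaf (nat_lit 75990433))))))
 (.node (nat_lit 741) (.node (nat_lit 738) (.node (nat_lit 736) (.leaf (nat_lit 76097553)) (.node (nat_lit 737) (.leaf (nat_lit 76116097)) (.leaf (nat_lit 76587009)))) (.node (nat_lit 739) (.leaf (nat_lit 76706673)) (.node (nat_lit 740) (.leaf (nat_lit 76714497)) (.leaf (nat_lit 76747665)))))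
 (.node (nat_lit 744) (.node (nat_lit 742) (.leaf (nat_lit 76755984)) (.node (nat_lit 743) (.leaf (nat_lit 76821264)) (.leaf (nat_lit 76849473))))
 (.node (nat_lit 746) (.node (nat_lit 745) (.leaf (nat_lit 77039632)) (.leaf (nat_lit 77048433))) (.node (nat_lit 747) (.leaf (nat_lit 77076513)) (.leaf (nat_lit 77104912))))))))
 (.node (nat_lit 773) (.node (nat_lit 760) (.node (nat_lit 754) (.node (nat_lit 751) (.node (nat_lit 749) (.leaf (nat_lit 77166657)) (.node (nat_lit 750) (.leaf (nat_lit 77175041)) (.leaf (nat_lit 77688961)))) (.node (nat_lit 752) (.leaf (nat_lit 77743121)) (.node (nat_lit 753) (.leaf (nat_lit 77821489)) (.leaf (nat_lit 77866913)))))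
 (.node (nat_lit 757) (.node (nat_lit 755) (.leaf (nat_lit 78062609)) (.node (nat_lit 756) (.leaf (nat_lit 78148993)) (.leaf (nat_lit 78202785)))) (.node (nat_lit 758) (.leaf (nat_lit 78278705)) (.node (nat_lit 759) (.leaf (nat_lit 83900432)) (.leaf (nat_lit 83907088))))))
 (.node (nat_lit 766) (.node (nat_lit 763) (.node (nat_lit 761) (.leaf (nat_lit 83912976)) (.node (nat_lit 762) (.leaf (nat_lit 83919632)) (.leaf (nat_lit 84017233)))) (.node (nat_lit 764) (.leaf (nat_lit 84082817)) (.node (nat_lit 765) (.leaf (nat_lit 84087889)) (.leaf (nat_lit 84093473)))))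
 (.node (nat_lit 769) (.node (nat_lit 767) (.leaf (nat_lit 84119841)) (.node (nat_lit 768) (.leaf (nat_lit 84125521)) (.leaf (nat_lit 84410417))))
 (.node (nat_lit 771) (.node (nat_lit 770) (.leaf (nat_lit 84416353)) (.leaf (nat_lit 84418961))) (.node (nat_lit 772) (.leaf (nat_lit 84449937)) (.leaf (nat_lit 84452449)))))))
 (.node (nat_lit 785) (.node (nat_lit 779) (.node (nat_lit 776) (.node (nat_lit 774) (.leaf (nat_lit 84476001)) (.node (nat_lit 775) (.leaf (nat_lit 85002513)) (.leaf (nat_lit 85016577)))) (.node (nat_lit 777) (.leaf (nat_lit 85072385)) (.node (nat_lit 778) (.leaf (nat_lit 85084001)) (.leaf (nat_lit 85104641)))))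
 (.node (nat_lit 782) (.node (nat_lit 780) (.leaf (nat_lit 85146241)) (.node (nat_lit 781) (.leaf (nat_lit 85148929)) (.leaf (nat_lit 85295169)))) (.node (nat_lit 783) (.leaf (nat_lit 85360753)) (.node (nat_lit 784) (.leaf (nat_lit 85471537)) (.leaf (nat_lit 85476865))))))
 (.node (nat_lit 791) (.node (nat_lit 788) (.node (nat_lit 786) (.leaf (nat_lit 85528833)) (.node (nat_lit 787) (.leaf (nat_lit 85541969)) (.leaf (nat_lit 85562113)))) (.node (nat_lit 789) (.leaf (nat_lit 85590689)) (.node (nat_lit 790) (.leaf (nat_lit 85606401)) (.leaf (nat_lit 86012481)))))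
 (.node (nat_lit 794) (.node (nat_lit 792) (.leaf (nat_lit 86014321)) (.node (nat_lit 793) (.leaf (nat_lit 86079041)) (.leaf (nat_lit 86092304))))
 (.node (nat_lit 796) (.node (nat_lit 795) (.leaf (nat_lit 86115393)) (.leaf (nat_lit 86145569))) (.node (nat_lit 797) (.leaf (nat_lit 86152785)) (.leaf (nat_lit 86156033))))))))))
noncomputable def V_4 : Tr ℕ := (.node (nat_lit 897) (.node (nat_lit 847) (.node (nat_lit 822) (.node (nat_lit 810) (.node (nat_lit 804) (.node (nat_lit 801) (.node (nat_lit 799) (.leaf (nat_lit 86189617)) (.node (nat_lit 800) (.leaf (nat_lit 86202897)) (.leaf (nat_lit 86221328)))) (.node (nat_lit 802) (.leaf (nat_lit 86513936)) (.node (nat_lit 803) (.leaf (nat_lit 86517121)) (.leaf (nat_lit 86528417)))))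
 (.node (nat_lit 807) (.node (nat_lit 805) (.leaf (nat_lit 86574961)) (.node (nat_lit 806) (.leaf (nat_lit 86602129)) (.leaf (nat_lit 86611297)))) (.node (nat_lit 808) (.leaf (nat_lit 86616065)) (.node (nat_lit 809) (.leaf (nat_lit 86642960)) (.leaf (nat_lit 86668657))))))
 (.node (nat_lit 816) (.node (nat_lit 813) (.node (nat_lit 811) (.leaf (nat_lit 87060833)) (.node (nat_lit 812) (.leaf (nat_lit 87063121)) (.leaf (nat_lit 87103841)))) (.node (nat_lit 814) (.leaf (nat_lit 87163553)) (.node (nat_lit 815) (.leaf (nat_lit 87623953)) (.leaf (nat_lit 87691857)))))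
 (.node (nat_lit 819) (.node (nat_lit 817) (.leaf (nat_lit 88097313)) (.node (nat_lit 818) (.leaf (nat_lit 88099217)) (.leaf (nat_lit 88101649)))) (.node (nat_lit 820) (.leaf (nat_lit 88103073)) (.node (nat_lit 821) (.leaf (nat_lit 88110177)) (.leaf (nat_lit 88110929)))))))
 (.node (nat_lit 834) (.node (nat_lit 828) (.node (nat_lit 825) (.node (nat_lit 823) (.leaf (nat_lit 88228368)) (.node (nat_lit 824) (.leaf (nat_lit 88441681)) (.leaf (nat_lit 88508513)))) (.node (nat_lit 826) (.leaf (nat_lit 88701200)) (.node (nat_lit 827) (.leaf (nat_lit 89150289)) (.leaf (nat_lit 89151585)))))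
 (.node (nat_lit 831) (.node (nat_lit 829) (.leaf (nat_lit 89205377)) (.node (nat_lit 830) (.leaf (nat_lit 89260288)) (.leaf (nat_lit 89342209)))) (.node (nat_lit 832) (.leaf (nat_lit 89347329)) (.node (nat_lit 833) (.leaf (nat_lit 89477169)) (.leaf (nat_lit 89542785))))))
 (.node (nat_lit 840) (.node (nat_lit 837) (.node (nat_lit 835) (.leaf (nat_lit 89672193)) (.node (nat_lit 836) (.leaf (nat_lit 89675265)) (.leaf (nat_lit 89792817)))) (.node (nat_lit 838) (.leaf (nat_lit 90202977)) (.node (nat_lit 839) (.leaf (nat_lit 90204241)) (.leaf (nat_lit 90280321)))))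
 (.node (nat_lit 843) (.node (nat_lit 841) (.leaf (nat_lit 90400257)) (.node (nat_lit 842) (.leaf (nat_lit 90405377)) (.leaf (nat_lit 90529841))))
 (.node (nat_lit 845) (.node (nat_lit 844) (.leaf (nat_lit 90595457)) (.leaf (nat_lit 90727681))) (.node (nat_lit 846) (.leaf (nat_lit 90730753)) (.leaf (nat_lit 90767616))))))))
 (.node (nat_lit 872) (.node (nat_lit 859) (.node (nat_lit 853) (.node (nat_lit 850) (.node (nat_lit 848) (.leaf (nat_lit 90872369)) (.node (nat_lit 849) (.leaf (nat_lit 91243601)) (.leaf (nat_lit 91244385)))) (.node (nat_lit 851) (.leaf (nat_lit 91251617)) (.node (nat_lit 852) (.leaf (nat_lit 91252753)) (.leaf (nat_lit 91255441)))))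
 (.node (nat_lit 856) (.node (nat_lit 854) (.leaf (nat_lit 91257121)) (.node (nat_lit 855) (.leaf (nat_lit 91388176)) (.leaf (nat_lit 91568209)))) (.node (nat_lit 857) (.leaf (nat_lit 91632481)) (.node (nat_lit 858) (.leaf (nat_lit 91832848)) (.leaf (nat_lit 92291409))))))
 (.node (nat_lit 865) (.node (nat_lit 862) (.node (nat_lit 860) (.leaf (nat_lit 92293729)) (.node (nat_lit 861) (.leaf (nat_lit 92381793)) (.leaf (nat_lit 92408225)))) (.node (nat_lit 863) (.leaf (nat_lit 92865041)) (.node (nat_lit 864) (.leaf (nat_lit 92973393)) (.leaf (nat_lit 93340273)))))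
 (.node (nat_lit 868) (.node (nat_lit 866) (.leaf (nat_lit 93342017)) (.node (nat_lit 867) (.leaf (nat_lit 93393168)) (.leaf (nat_lit 93406529))))
 (.node (nat_lit 870) (.node (nat_lit 869) (.leaf (nat_lit 93456193)) (.leaf (nat_lit 93460481))) (.node (nat_lit 871) (.leaf (nat_lit 93463889)) (.leaf (nat_lit 93471009)))))))
 (.node (nat_lit 884) (.node (nat_lit 878) (.node (nat_lit 875) (.node (nat_lit 873) (.leaf (nat_lit 93526288)) (.node (nat_lit 874) (.leaf (nat_lit 93544721)) (.leaf (nat_lit 93558065)))) (.node (nat_lit 876) (.leaf (nat_lit 93874849)) (.node (nat_lit 877) (.leaf (nat_lit 93886081)) (.leaf (nat_lit 93889040)))))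
 (.node (nat_lit 881) (.node (nat_lit 879) (.leaf (nat_lit 93914225)) (.node (nat_lit 880) (.leaf (nat_lit 93917953)) (.leaf (nat_lit 93922913)))) (.node (nat_lit 882) (.leaf (nat_lit 93932177)) (.node (nat_lit 883) (.leaf (nat_lit 93996657)) (.leaf (nat_lit 94022160))))))
 (.node (nat_lit 890) (.node (nat_lit 887) (.node (nat_lit 885) (.leaf (nat_lit 94437905)) (.node (nat_lit 886) (.leaf (nat_lit 94466049)) (.leaf (nat_lit 94511873)))) (.node (nat_lit 888) (.leaf (nat_lit 94532705)) (.node (nat_lit 889) (.leaf (nat_lit 94544129)) (.leaf (nat_lit 94598657)))))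
 (.node (nat_lit 893) (.node (nat_lit 891) (.leaf (nat_lit 94601601)) (.node (nat_lit 892) (.leaf (nat_lit 94711873)) (.leaf (nat_lit 94777457))))
 (.node (nat_lit 895) (.node (nat_lit 894) (.leaf (nat_lit 94926081)) (.leaf (nat_lit 94931505))) (.node (nat_lit 896) (.leaf (nat_lit 94971905)) (.leaf (nat_lit 94992209)))))))))
 (.node (nat_lit 947) (.node (nat_lit 922) (.node (nat_lit 909) (.node (nat_lit 903) (.node (nat_lit 900) (.node (nat_lit 898) (.leaf (nat_lit 95005185)) (.node (nat_lit 899) (.leaf (nat_lit 95029665)) (.leaf (nat_lit 95055873)))) (.node (nat_lit 901) (.leaf (nat_lit 100676368)) (.node (nat_lit 902) (.leaf (nat_lit 100686096)) (.leaf (nat_lit 100688400)))))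
 (.node (nat_lit 906) (.node (nat_lit 904) (.leaf (nat_lit 100698128)) (.node (nat_lit 905) (.leaf (nat_lit 100794465)) (.leaf (nat_lit 100859953)))) (.node (nat_lit 907) (.leaf (nat_lit 100865121)) (.node (nat_lit 908) (.leaf (nat_lit 100870801)) (.leaf (nat_lit 100897169))))))
 (.node (nat_lit 915) (.node (nat_lit 912) (.node (nat_lit 910) (.leaf (nat_lit 100902753)) (.node (nat_lit 911) (.leaf (nat_lit 101187713)) (.leaf (nat_lit 101193553)))) (.node (nat_lit 913) (.leaf (nat_lit 101196065)) (.node (nat_lit 914) (.leaf (nat_lit 101227041)) (.leaf (nat_lit 101229649)))))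
 (.node (nat_lit 918) (.node (nat_lit 916) (.leaf (nat_lit 101253201)) (.node (nat_lit 917) (.leaf (nat_lit 101778081)) (.leaf (nat_lit 101806081))))
 (.node (nat_lit 920) (.node (nat_lit 919) (.leaf (nat_lit 101851905)) (.leaf (nat_lit 101872721))) (.node (nat_lit 921) (.leaf (nat_lit 101884161)) (.leaf (nat_lit 101938689)))))))
 (.node (nat_lit 934) (.node (nat_lit 928) (.node (nat_lit 925) (.node (nat_lit 923) (.leaf (nat_lit 101941553)) (.node (nat_lit 924) (.leaf (nat_lit 102051953)) (.leaf (nat_lit 102117441)))) (.node (nat_lit 926) (.leaf (nat_lit 102266113)) (.node (nat_lit 927) (.leaf (nat_lit 102271617)) (.leaf (nat_lit 102311937)))))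
 (.node (nat_lit 931) (.node (nat_lit 929) (.leaf (nat_lit 102332257)) (.node (nat_lit 930) (.leaf (nat_lit 102345217)) (.leaf (nat_lit 102369553)))) (.node (nat_lit 932) (.leaf (nat_lit 102395905)) (.node (nat_lit 933) (.leaf (nat_lit 102777409)) (.leaf (nat_lit 102779249))))))
 (.node (nat_lit 940) (.node (nat_lit 937) (.node (nat_lit 935) (.leaf (nat_lit 102843761)) (.node (nat_lit 936) (.leaf (nat_lit 102867216)) (.leaf (nat_lit 102893425)))) (.node (nat_lit 938) (.leaf (nat_lit 102897665)) (.node (nat_lit 939) (.leaf (nat_lit 102901089)) (.leaf (nat_lit 102908305)))))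
 (.node (nat_lit 943) (.node (nat_lit 941) (.leaf (nat_lit 102982049)) (.node (nat_lit 942) (.leaf (nat_lit 102995329)) (.leaf (nat_lit 103000336))))
 (.node (nat_lit 945) (.node (nat_lit 944) (.leaf (nat_lit 103289360)) (.leaf (nat_lit 103311889))) (.node (nat_lit 946) (.leaf (nat_lit 103323185)) (.leaf (nat_lit 103351361))))))))
 (.node (nat_lit 972) (.node (nat_lit 959) (.node (nat_lit 953) (.node (nat_lit 950) (.node (nat_lit 948) (.leaf (nat_lit 103355137)) (.node (nat_lit 949) (.leaf (nat_lit 103360081)) (.leaf (nat_lit 103369249)))) (.node (nat_lit 951) (.leaf (nat_lit 103422480)) (.node (nat_lit 952) (.leaf (nat_lit 103433793)) (.leaf (nat_lit 103825761)))))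
 (.node (nat_lit 956) (.node (nat_lit 954) (.leaf (nat_lit 103828049)) (.node (nat_lit 955) (.leaf (nat_lit 103916113)) (.leaf (nat_lit 103942417)))) (.node (nat_lit 957) (.leaf (nat_lit 104399521)) (.node (nat_lit 958) (.leaf (nat_lit 104507745)) (.leaf (nat_lit 104875105))))))
 (.node (nat_lit 965) (.node (nat_lit 962) (.node (nat_lit 960) (.leaf (nat_lit 104875857)) (.node (nat_lit 961) (.leaf (nat_lit 104882961)) (.leaf (nat_lit 104884385)))) (.node (nat_lit 963) (.leaf (nat_lit 104886817)) (.node (nat_lit 964) (.leaf (nat_lit 104888721)) (.leaf (nat_lit 105007376)))))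
 (.node (nat_lit 968) (.node (nat_lit 966) (.leaf (nat_lit 105199713)) (.node (nat_lit 967) (.leaf (nat_lit 105263953)) (.leaf (nat_lit 105476624))))
 (.node (nat_lit 970) (.node (nat_lit 969) (.leaf (nat_lit 105931601)) (.leaf (nat_lit 105932897))) (.node (nat_lit 971) (.leaf (nat_lit 106008881)) (.leaf (nat_lit 106128897)))))))
 (.node (nat_lit 984) (.node (nat_lit 978) (.node (nat_lit 975) (.node (nat_lit 973) (.leaf (nat_lit 106134017)) (.node (nat_lit 974) (.leaf (nat_lit 106258561)) (.leaf (nat_lit 106324017)))) (.node (nat_lit 976) (.leaf (nat_lit 106456321)) (.node (nat_lit 977) (.leaf (nat_lit 106459393)) (.leaf (nat_lit 106496256)))))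
 (.node (nat_lit 981) (.node (nat_lit 979) (.leaf (nat_lit 106601089)) (.node (nat_lit 980) (.leaf (nat_lit 106976097)) (.leaf (nat_lit 106977361)))) (.node (nat_lit 982) (.leaf (nat_lit 107031089)) (.node (nat_lit 983) (.leaf (nat_lit 107086080)) (.leaf (nat_lit 107168001))))))
 (.node (nat_lit 990) (.node (nat_lit 987) (.node (nat_lit 985) (.leaf (nat_lit 107173121)) (.node (nat_lit 986) (.leaf (nat_lit 107303041)) (.leaf (nat_lit 107368497)))) (.node (nat_lit 988) (.leaf (nat_lit 107497985)) (.node (nat_lit 989) (.leaf (nat_lit 107501057)) (.leaf (nat_lit 107618689)))))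
 (.node (nat_lit 993) (.node (nat_lit 991) (.leaf (nat_lit 108020369)) (.node (nat_lit 992) (.leaf (nat_lit 108022049)) (.leaf (nat_lit 108024737))))
 (.node (nat_lit 995) (.node (nat_lit 994) (.leaf (nat_lit 108025873)) (.leaf (nat_lit 108033105))) (.node (nat_lit 996) (.leaf (nat_lit 108033889)) (.leaf (nat_lit 108163600))))))))))
noncomputable def V_5 : Tr ℕ := (.node (nat_lit 1097) (.node (nat_lit 1047) (.node (nat_lit 1022) (.node (nat_lit 1009) (.node (nat_lit 1003) (.node (nat_lit 1000) (.node (nat_lit 998) (.leaf (nat_lit 108364641)) (.node (nat_lit 999) (.leaf (nat_lit 108431441)) (.leaf (nat_lit 108611856)))) (.node (nat_lit 1001) (.leaf (nat_lit 109080913)) (.node (nat_lit 1002) (.leaf (nat_lit 109083233)) (.leaf (nat_lit 109123921)))))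
 (.node (nat_lit 1006) (.node (nat_lit 1004) (.leaf (nat_lit 109183505)) (.node (nat_lit 1005) (.leaf (nat_lit 109644193)) (.leaf (nat_lit 109711969)))) (.node (nat_lit 1007) (.leaf (nat_lit 110129777)) (.node (nat_lit 1008) (.leaf (nat_lit 110131521)) (.leaf (nat_lit 110172688))))))
 (.node (nat_lit 1015) (.node (nat_lit 1012) (.node (nat_lit 1010) (.leaf (nat_lit 110196337)) (.node (nat_lit 1011) (.leaf (nat_lit 110232689)) (.leaf (nat_lit 110262929)))) (.node (nat_lit 1013) (.leaf (nat_lit 110270049)) (.node (nat_lit 1014) (.leaf (nat_lit 110273281)) (.leaf (nat_lit 110301712)))))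
 (.node (nat_lit 1018) (.node (nat_lit 1016) (.leaf (nat_lit 110306945)) (.node (nat_lit 1017) (.leaf (nat_lit 110320289)) (.leaf (nat_lit 110634289))))
 (.node (nat_lit 1020) (.node (nat_lit 1019) (.leaf (nat_lit 110645521)) (.leaf (nat_lit 110668048))) (.node (nat_lit 1021) (.leaf (nat_lit 110692161)) (.leaf (nat_lit 110719265)))))))
 (.node (nat_lit 1034) (.node (nat_lit 1028) (.node (nat_lit 1025) (.node (nat_lit 1023) (.leaf (nat_lit 110728529)) (.node (nat_lit 1024) (.leaf (nat_lit 110733313)) (.leaf (nat_lit 110785857)))) (.node (nat_lit 1026) (.leaf (nat_lit 110797072)) (.node (nat_lit 1027) (.leaf (nat_lit 111217057)) (.leaf (nat_lit 111230977)))))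
 (.node (nat_lit 1031) (.node (nat_lit 1029) (.leaf (nat_lit 111286785)) (.node (nat_lit 1030) (.leaf (nat_lit 111298385)) (.leaf (nat_lit 111319041)))) (.node (nat_lit 1032) (.leaf (nat_lit 111360561)) (.node (nat_lit 1033) (.leaf (nat_lit 111363329)) (.leaf (nat_lit 111509617))))))
 (.node (nat_lit 1040) (.node (nat_lit 1037) (.node (nat_lit 1035) (.leaf (nat_lit 111575105)) (.node (nat_lit 1036) (.leaf (nat_lit 111686017)) (.leaf (nat_lit 111691265)))) (.node (nat_lit 1038) (.leaf (nat_lit 111743233)) (.node (nat_lit 1039) (.leaf (nat_lit 111756385)) (.leaf (nat_lit 111776513)))))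
 (.node (nat_lit 1043) (.node (nat_lit 1041) (.leaf (nat_lit 111804945)) (.node (nat_lit 1042) (.leaf (nat_lit 111820801)) (.leaf (nat_lit 117446049))))
 (.node (nat_lit 1045) (.node (nat_lit 1044) (.leaf (nat_lit 117446161)) (.leaf (nat_lit 117446928))) (.node (nat_lit 1046) (.leaf (nat_lit 117482000)) (.leaf (nat_lit 117482769))))))))
 (.node (nat_lit 1072) (.node (nat_lit 1059) (.node (nat_lit 1053) (.node (nat_lit 1050) (.node (nat_lit 1048) (.leaf (nat_lit 117483169)) (.node (nat_lit 1049) (.leaf (nat_lit 117571745)) (.leaf (nat_lit 117638017)))) (.node (nat_lit 1051) (.leaf (nat_lit 117639297)) (.node (nat_lit 1052) (.leaf (nat_lit 117643025)) (.leaf (nat_lit 117654305)))))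
 (.node (nat_lit 1056) (.node (nat_lit 1054) (.leaf (nat_lit 117667873)) (.node (nat_lit 1055) (.leaf (nat_lit 117679121)) (.leaf (nat_lit 117772449)))) (.node (nat_lit 1057) (.leaf (nat_lit 117781921)) (.node (nat_lit 1058) (.leaf (nat_lit 117802657)) (.leaf (nat_lit 117809313))))))
 (.node (nat_lit 1065) (.node (nat_lit 1062) (.node (nat_lit 1060) (.leaf (nat_lit 117837841)) (.node (nat_lit 1061) (.leaf (nat_lit 117847569)) (.leaf (nat_lit 117867793)))) (.node (nat_lit 1063) (.leaf (nat_lit 117874705)) (.node (nat_lit 1064) (.leaf (nat_lit 117965617)) (.leaf (nat_lit 117966897)))))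
 (.node (nat_lit 1068) (.node (nat_lit 1066) (.leaf (nat_lit 117970081)) (.node (nat_lit 1067) (.leaf (nat_lit 117983377)) (.leaf (nat_lit 117994385))))
 (.node (nat_lit 1070) (.node (nat_lit 1069) (.leaf (nat_lit 118007713)) (.leaf (nat_lit 118030353))) (.node (nat_lit 1071) (.leaf (nat_lit 118583345)) (.leaf (nat_lit 118637729)))))))
 (.node (nat_lit 1084) (.node (nat_lit 1078) (.node (nat_lit 1075) (.node (nat_lit 1073) (.leaf (nat_lit 118716033)) (.node (nat_lit 1074) (.leaf (nat_lit 118761233)) (.leaf (nat_lit 118957217)))) (.node (nat_lit 1076) (.leaf (nat_lit 119043377)) (.node (nat_lit 1077) (.leaf (nat_lit 119097105)) (.leaf (nat_lit 119173249)))))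
 (.node (nat_lit 1081) (.node (nat_lit 1079) (.leaf (nat_lit 119578625)) (.node (nat_lit 1080) (.leaf (nat_lit 119698241)) (.leaf (nat_lit 119706113)))) (.node (nat_lit 1082) (.leaf (nat_lit 119739169)) (.node (nat_lit 1083) (.leaf (nat_lit 119768080)) (.leaf (nat_lit 119833360))))))
 (.node (nat_lit 1090) (.node (nat_lit 1087) (.node (nat_lit 1085) (.leaf (nat_lit 119841137)) (.node (nat_lit 1086) (.leaf (nat_lit 120010768)) (.leaf (nat_lit 120040001)))) (.node (nat_lit 1088) (.leaf (nat_lit 120068241)) (.node (nat_lit 1089) (.leaf (nat_lit 120076048)) (.leaf (nat_lit 120158321)))))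
 (.node (nat_lit 1093) (.node (nat_lit 1091) (.leaf (nat_lit 120166657)) (.node (nat_lit 1092) (.leaf (nat_lit 120600592)) (.leaf (nat_lit 120619792))))
 (.node (nat_lit 1095) (.node (nat_lit 1094) (.leaf (nat_lit 120726289)) (.leaf (nat_lit 120746113))) (.node (nat_lit 1096) (.leaf (nat_lit 120849025)) (.leaf (nat_lit 120852641)))))))))
 (.node (nat_lit 1147) (.node (nat_lit 1122) (.node (nat_lit 1109) (.node (nat_lit 1103) (.node (nat_lit 1100) (.node (nat_lit 1098) (.leaf (nat_lit 120882849)) (.node (nat_lit 1099) (.leaf (nat_lit 120935809)) (.leaf (nat_lit 121001521)))) (.node (nat_lit 1101) (.leaf (nat_lit 121047345)) (.node (nat_lit 1102) (.leaf (nat_lit 121049105)) (.leaf (nat_lit 121079057)))))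
 (.node (nat_lit 1106) (.node (nat_lit 1104) (.leaf (nat_lit 121186465)) (.node (nat_lit 1105) (.leaf (nat_lit 121204785)) (.leaf (nat_lit 121668385)))) (.node (nat_lit 1107) (.leaf (nat_lit 121669777)) (.node (nat_lit 1108) (.leaf (nat_lit 121676705)) (.leaf (nat_lit 121677841))))))
 (.node (nat_lit 1115) (.node (nat_lit 1112) (.node (nat_lit 1110) (.leaf (nat_lit 121790609)) (.node (nat_lit 1111) (.leaf (nat_lit 121832065)) (.leaf (nat_lit 121870113)))) (.node (nat_lit 1113) (.leaf (nat_lit 121903761)) (.node (nat_lit 1114) (.leaf (nat_lit 121983041)) (.leaf (nat_lit 122005633)))))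
 (.node (nat_lit 1118) (.node (nat_lit 1116) (.leaf (nat_lit 122048625)) (.node (nat_lit 1117) (.leaf (nat_lit 122069809)) (.leaf (nat_lit 122097953))))
 (.node (nat_lit 1120) (.node (nat_lit 1119) (.leaf (nat_lit 122161457)) (.leaf (nat_lit 122197137))) (.node (nat_lit 1121) (.leaf (nat_lit 122249249)) (.leaf (nat_lit 122724369)))))))
 (.node (nat_lit 1134) (.node (nat_lit 1128) (.node (nat_lit 1125) (.node (nat_lit 1123) (.leaf (nat_lit 122724513)) (.node (nat_lit 1124) (.leaf (nat_lit 122759569)) (.leaf (nat_lit 122762753)))) (.node (nat_lit 1126) (.leaf (nat_lit 122773633)) (.node (nat_lit 1127) (.leaf (nat_lit 122823681)) (.leaf (nat_lit 122845441)))))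
 (.node (nat_lit 1131) (.node (nat_lit 1129) (.leaf (nat_lit 122963457)) (.node (nat_lit 1130) (.leaf (nat_lit 122988065)) (.leaf (nat_lit 123021217)))) (.node (nat_lit 1132) (.leaf (nat_lit 123052161)) (.node (nat_lit 1133) (.leaf (nat_lit 123085841)) (.leaf (nat_lit 123117617))))))
 (.node (nat_lit 1140) (.node (nat_lit 1137) (.node (nat_lit 1135) (.leaf (nat_lit 123159809)) (.node (nat_lit 1136) (.leaf (nat_lit 123184529)) (.leaf (nat_lit 123283201)))) (.node (nat_lit 1138) (.leaf (nat_lit 123302401)) (.node (nat_lit 1139) (.leaf (nat_lit 123347489)) (.leaf (nat_lit 123352321)))))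
 (.node (nat_lit 1143) (.node (nat_lit 1141) (.leaf (nat_lit 123363377)) (.node (nat_lit 1142) (.leaf (nat_lit 123736081)) (.leaf (nat_lit 123736225))))
 (.node (nat_lit 1145) (.node (nat_lit 1144) (.leaf (nat_lit 123818113)) (.leaf (nat_lit 123831553))) (.node (nat_lit 1146) (.leaf (nat_lit 123835025)) (.leaf (nat_lit 123879937))))))))
 (.node (nat_lit 1172) (.node (nat_lit 1159) (.node (nat_lit 1153) (.node (nat_lit 1150) (.node (nat_lit 1148) (.leaf (nat_lit 123901697)) (.node (nat_lit 1149) (.leaf (nat_lit 123999521)) (.leaf (nat_lit 124024065)))) (.node (nat_lit 1151) (.leaf (nat_lit 124063873)) (.node (nat_lit 1152) (.leaf (nat_lit 124097697)) (.leaf (nat_lit 124129329)))))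
 (.node (nat_lit 1156) (.node (nat_lit 1154) (.leaf (nat_lit 124163857)) (.node (nat_lit 1155) (.leaf (nat_lit 124196497)) (.leaf (nat_lit 124220929)))) (.node (nat_lit 1157) (.leaf (nat_lit 124340481)) (.node (nat_lit 1158) (.leaf (nat_lit 124359681)) (.leaf (nat_lit 124407857))))))
 (.node (nat_lit 1165) (.node (nat_lit 1162) (.node (nat_lit 1160) (.leaf (nat_lit 124421633)) (.node (nat_lit 1161) (.leaf (nat_lit 124426529)) (.leaf (nat_lit 124785425)))) (.node (nat_lit 1163) (.leaf (nat_lit 124786849)) (.node (nat_lit 1164) (.leaf (nat_lit 124793745)) (.leaf (nat_lit 124794913)))))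
 (.node (nat_lit 1168) (.node (nat_lit 1166) (.leaf (nat_lit 124932241)) (.node (nat_lit 1167) (.leaf (nat_lit 124979585)) (.leaf (nat_lit 124986401))))
 (.node (nat_lit 1170) (.node (nat_lit 1169) (.leaf (nat_lit 125084049)) (.leaf (nat_lit 125113217))) (.node (nat_lit 1171) (.leaf (nat_lit 125132865)) (.leaf (nat_lit 125179953)))))))
 (.node (nat_lit 1184) (.node (nat_lit 1178) (.node (nat_lit 1175) (.node (nat_lit 1173) (.leaf (nat_lit 125198449)) (.node (nat_lit 1174) (.leaf (nat_lit 125282849)) (.leaf (nat_lit 125305393)))) (.node (nat_lit 1176) (.leaf (nat_lit 125314961)) (.node (nat_lit 1177) (.leaf (nat_lit 125390881)) (.leaf (nat_lit 125843472)))))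
 (.node (nat_lit 1181) (.node (nat_lit 1179) (.leaf (nat_lit 125862672)) (.node (nat_lit 1180) (.leaf (nat_lit 125976705)) (.leaf (nat_lit 125999121)))) (.node (nat_lit 1182) (.leaf (nat_lit 126093697)) (.node (nat_lit 1183) (.leaf (nat_lit 126104993)) (.leaf (nat_lit 126132385))))))
 (.node (nat_lit 1190) (.node (nat_lit 1187) (.node (nat_lit 1185) (.leaf (nat_lit 126183041)) (.node (nat_lit 1186) (.leaf (nat_lit 126248241)) (.leaf (nat_lit 126288433)))) (.node (nat_lit 1188) (.leaf (nat_lit 126301713)) (.node (nat_lit 1189) (.leaf (nat_lit 126328849)) (.leaf (nat_lit 126435377)))))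
 (.node (nat_lit 1193) (.node (nat_lit 1191) (.leaf (nat_lit 126456737)) (.node (nat_lit 1192) (.leaf (nat_lit 126881793)) (.leaf (nat_lit 127019265))))
 (.node (nat_lit 1195) (.node (nat_lit 1194) (.leaf (nat_lit 127027265)) (.leaf (nat_lit 127088400))) (.node (nat_lit 1196) (.leaf (nat_lit 127117345)) (.leaf (nat_lit 127146609))))))))))
noncomputable def V_6 : Tr ℕ := (.node (nat_lit 1296) (.node (nat_lit 1246) (.node (nat_lit 1221) (.node (nat_lit 1209) (.node (nat_lit 1203) (.node (nat_lit 1200) (.node (nat_lit 1198) (.leaf (nat_lit 127154192)) (.node (nat_lit 1199) (.leaf (nat_lit 127340865)) (.leaf (nat_lit 127370000)))) (.node (nat_lit 1201) (.leaf (nat_lit 127435792)) (.node (nat_lit 1202) (.leaf (nat_lit 127443857)) (.leaf (nat_lit 127476225)))))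
 (.node (nat_lit 1206) (.node (nat_lit 1204) (.leaf (nat_lit 127484785)) (.node (nat_lit 1205) (.leaf (nat_lit 128008241)) (.leaf (nat_lit 128087969)))) (.node (nat_lit 1207) (.leaf (nat_lit 128140673)) (.node (nat_lit 1208) (.leaf (nat_lit 128226321)) (.leaf (nat_lit 128423841))))))
 (.node (nat_lit 1215) (.node (nat_lit 1212) (.node (nat_lit 1210) (.leaf (nat_lit 128468529)) (.node (nat_lit 1211) (.leaf (nat_lit 128545809)) (.leaf (nat_lit 128598145)))) (.node (nat_lit 1213) (.leaf (nat_lit 134306081)) (.node (nat_lit 1214) (.leaf (nat_lit 134308385)) (.leaf (nat_lit 134427025)))))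
 (.node (nat_lit 1218) (.node (nat_lit 1216) (.leaf (nat_lit 134431777)) (.node (nat_lit 1217) (.leaf (nat_lit 134444833)) (.leaf (nat_lit 134449809)))) (.node (nat_lit 1219) (.leaf (nat_lit 134756897)) (.node (nat_lit 1220) (.leaf (nat_lit 134760337)) (.leaf (nat_lit 134771857)))))))
 (.node (nat_lit 1233) (.node (nat_lit 1227) (.node (nat_lit 1224) (.node (nat_lit 1222) (.leaf (nat_lit 134775073)) (.node (nat_lit 1223) (.leaf (nat_lit 134894225)) (.leaf (nat_lit 134900113)))) (.node (nat_lit 1225) (.leaf (nat_lit 135349249)) (.node (nat_lit 1226) (.leaf (nat_lit 135550480)) (.leaf (nat_lit 135618961)))))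
 (.node (nat_lit 1230) (.node (nat_lit 1228) (.leaf (nat_lit 135635841)) (.node (nat_lit 1229) (.leaf (nat_lit 135686689)) (.leaf (nat_lit 135702577)))) (.node (nat_lit 1231) (.leaf (nat_lit 135750928)) (.node (nat_lit 1232) (.leaf (nat_lit 135939841)) (.leaf (nat_lit 136399233))))))
 (.node (nat_lit 1239) (.node (nat_lit 1236) (.node (nat_lit 1234) (.leaf (nat_lit 136526352)) (.node (nat_lit 1235) (.leaf (nat_lit 136872208)) (.leaf (nat_lit 136987185)))) (.node (nat_lit 1237) (.leaf (nat_lit 137431425)) (.node (nat_lit 1238) (.leaf (nat_lit 137441617)) (.leaf (nat_lit 137442721)))))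
 (.node (nat_lit 1242) (.node (nat_lit 1240) (.leaf (nat_lit 137459553)) (.node (nat_lit 1241) (.leaf (nat_lit 137706145)) (.leaf (nat_lit 137769233))))
 (.node (nat_lit 1244) (.node (nat_lit 1243) (.leaf (nat_lit 138019377)) (.leaf (nat_lit 138032657))) (.node (nat_lit 1245) (.leaf (nat_lit 138033761)) (.leaf (nat_lit 138048593))))))))
 (.node (nat_lit 1271) (.node (nat_lit 1258) (.node (nat_lit 1252) (.node (nat_lit 1249) (.node (nat_lit 1247) (.leaf (nat_lit 138639617)) (.node (nat_lit 1248) (.leaf (nat_lit 138742369)) (.leaf (nat_lit 138760209)))) (.node (nat_lit 1250) (.leaf (nat_lit 138775153)) (.node (nat_lit 1251) (.leaf (nat_lit 138805585)) (.leaf (nat_lit 138825889)))))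
 (.node (nat_lit 1255) (.node (nat_lit 1253) (.leaf (nat_lit 138838337)) (.node (nat_lit 1254) (.leaf (nat_lit 138948864)) (.leaf (nat_lit 138965505)))) (.node (nat_lit 1256) (.leaf (nat_lit 138969344)) (.node (nat_lit 1257) (.leaf (nat_lit 139465809)) (.leaf (nat_lit 139466593))))))
 (.node (nat_lit 1264) (.node (nat_lit 1261) (.node (nat_lit 1259) (.leaf (nat_lit 139569201)) (.node (nat_lit 1260) (.leaf (nat_lit 139657472)) (.leaf (nat_lit 139674961)))) (.node (nat_lit 1262) (.leaf (nat_lit 140002913)) (.node (nat_lit 1263) (.leaf (nat_lit 140157825)) (.leaf (nat_lit 140551265)))))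
 (.node (nat_lit 1267) (.node (nat_lit 1265) (.leaf (nat_lit 140552017)) (.node (nat_lit 1266) (.leaf (nat_lit 140579633)) (.leaf (nat_lit 140736081))))
 (.node (nat_lit 1269) (.node (nat_lit 1268) (.leaf (nat_lit 141033728)) (.leaf (nat_lit 141063521))) (.node (nat_lit 1270) (.leaf (nat_lit 141170817)) (.leaf (nat_lit 141766912)))))))
 (.node (nat_lit 1283) (.node (nat_lit 1277) (.node (nat_lit 1274) (.node (nat_lit 1272) (.leaf (nat_lit 141771265)) (.node (nat_lit 1273) (.leaf (nat_lit 141787392)) (.leaf (nat_lit 141885793)))) (.node (nat_lit 1275) (.leaf (nat_lit 141898097)) (.node (nat_lit 1276) (.leaf (nat_lit 141910033)) (.leaf (nat_lit 141953617)))))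
 (.node (nat_lit 1280) (.node (nat_lit 1278) (.leaf (nat_lit 141965889)) (.node (nat_lit 1279) (.leaf (nat_lit 141975713)) (.leaf (nat_lit 142100737)))) (.node (nat_lit 1281) (.leaf (nat_lit 142672513)) (.node (nat_lit 1282) (.leaf (nat_lit 142689377)) (.leaf (nat_lit 142706337))))))
 (.node (nat_lit 1289) (.node (nat_lit 1286) (.node (nat_lit 1284) (.leaf (nat_lit 142707281)) (.node (nat_lit 1285) (.leaf (nat_lit 142967201)) (.leaf (nat_lit 143034897)))) (.node (nat_lit 1287) (.leaf (nat_lit 143264049)) (.node (nat_lit 1288) (.leaf (nat_lit 143279953)) (.leaf (nat_lit 143294817)))))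
 (.node (nat_lit 1292) (.node (nat_lit 1290) (.leaf (nat_lit 143295761)) (.node (nat_lit 1291) (.leaf (nat_lit 143749761)) (.leaf (nat_lit 143884560))))
 (.node (nat_lit 1294) (.node (nat_lit 1293) (.leaf (nat_lit 144194064)) (.leaf (nat_lit 144341297))) (.node (nat_lit 1295) (.leaf (nat_lit 144799489)) (.leaf (nat_lit 144991504)))))))))
 (.node (nat_lit 1346) (.node (nat_lit 1321) (.node (nat_lit 1308) (.node (nat_lit 1302) (.node (nat_lit 1299) (.node (nat_lit 1297) (.leaf (nat_lit 145037441)) (.node (nat_lit 1298) (.leaf (nat_lit 145054353)) (.leaf (nat_lit 145101617)))) (.node (nat_lit 1300) (.leaf (nat_lit 145117473)) (.node (nat_lit 1301) (.leaf (nat_lit 145184272)) (.leaf (nat_lit 145388545)))))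
 (.node (nat_lit 1305) (.node (nat_lit 1303) (.leaf (nat_lit 151134977)) (.node (nat_lit 1304) (.leaf (nat_lit 151136272)) (.leaf (nat_lit 151163664)))) (.node (nat_lit 1306) (.leaf (nat_lit 151164929)) (.node (nat_lit 1307) (.leaf (nat_lit 151278193)) (.leaf (nat_lit 151284081))))))
 (.node (nat_lit 1314) (.node (nat_lit 1311) (.node (nat_lit 1309) (.leaf (nat_lit 151332881)) (.node (nat_lit 1310) (.leaf (nat_lit 151360273)) (.leaf (nat_lit 151397281)))) (.node (nat_lit 1312) (.leaf (nat_lit 151427233)) (.node (nat_lit 1313) (.leaf (nat_lit 151476545)) (.leaf (nat_lit 151478849)))))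
 (.node (nat_lit 1317) (.node (nat_lit 1315) (.leaf (nat_lit 151595009)) (.node (nat_lit 1316) (.leaf (nat_lit 151595024)) (.leaf (nat_lit 151622401))))
 (.node (nat_lit 1319) (.node (nat_lit 1318) (.leaf (nat_lit 151622416)) (.leaf (nat_lit 152064641))) (.node (nat_lit 1320) (.leaf (nat_lit 152066353)) (.leaf (nat_lit 152072193)))))))
 (.node (nat_lit 1333) (.node (nat_lit 1327) (.node (nat_lit 1324) (.node (nat_lit 1322) (.leaf (nat_lit 152109393)) (.node (nat_lit 1323) (.leaf (nat_lit 152129808)) (.leaf (nat_lit 152193153)))) (.node (nat_lit 1325) (.leaf (nat_lit 152201232)) (.node (nat_lit 1326) (.leaf (nat_lit 152242305)) (.leaf (nat_lit 152245841)))))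
 (.node (nat_lit 1330) (.node (nat_lit 1328) (.leaf (nat_lit 152336145)) (.node (nat_lit 1329) (.leaf (nat_lit 152373281)) (.leaf (nat_lit 152381809)))) (.node (nat_lit 1331) (.leaf (nat_lit 152437649)) (.node (nat_lit 1332) (.leaf (nat_lit 152445505)) (.leaf (nat_lit 152532129))))))
 (.node (nat_lit 1339) (.node (nat_lit 1336) (.node (nat_lit 1334) (.leaf (nat_lit 152568625)) (.node (nat_lit 1335) (.leaf (nat_lit 152573281)) (.leaf (nat_lit 152650545)))) (.node (nat_lit 1337) (.leaf (nat_lit 152654608)) (.node (nat_lit 1338) (.leaf (nat_lit 152701537)) (.leaf (nat_lit 152726032)))))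
 (.node (nat_lit 1342) (.node (nat_lit 1340) (.leaf (nat_lit 153121425)) (.node (nat_lit 1341) (.leaf (nat_lit 153123105)) (.leaf (nat_lit 153228369))))
 (.node (nat_lit 1344) (.node (nat_lit 1343) (.leaf (nat_lit 153288849)) (.leaf (nat_lit 153291345))) (.node (nat_lit 1345) (.leaf (nat_lit 153315409)) (.leaf (nat_lit 153432336))))))))
 (.node (nat_lit 1371) (.node (nat_lit 1358) (.node (nat_lit 1352) (.node (nat_lit 1349) (.node (nat_lit 1347) (.leaf (nat_lit 153440849)) (.node (nat_lit 1348) (.leaf (nat_lit 153508193)) (.leaf (nat_lit 153520656)))) (.node (nat_lit 1350) (.leaf (nat_lit 153616417)) (.node (nat_lit 1351) (.leaf (nat_lit 153616737)) (.leaf (nat_lit 153641825)))))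
 (.node (nat_lit 1355) (.node (nat_lit 1353) (.leaf (nat_lit 153687905)) (.node (nat_lit 1354) (.leaf (nat_lit 154220560)) (.leaf (nat_lit 154244624)))) (.node (nat_lit 1356) (.leaf (nat_lit 154805520)) (.node (nat_lit 1357) (.leaf (nat_lit 154829584)) (.leaf (nat_lit 155341329))))))
 (.node (nat_lit 1364) (.node (nat_lit 1361) (.node (nat_lit 1359) (.leaf (nat_lit 155357217)) (.node (nat_lit 1360) (.leaf (nat_lit 155398545)) (.leaf (nat_lit 155458113)))) (.node (nat_lit 1362) (.leaf (nat_lit 155472017)) (.node (nat_lit 1363) (.leaf (nat_lit 155472209)) (.leaf (nat_lit 155480705)))))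
 (.node (nat_lit 1367) (.node (nat_lit 1365) (.leaf (nat_lit 155652465)) (.node (nat_lit 1366) (.leaf (nat_lit 155668513)) (.leaf (nat_lit 155671137))))
 (.node (nat_lit 1369) (.node (nat_lit 1368) (.leaf (nat_lit 155679025)) (.leaf (nat_lit 155728417))) (.node (nat_lit 1370) (.leaf (nat_lit 155802017)) (.leaf (nat_lit 155816081)))))))
 (.node (nat_lit 1383) (.node (nat_lit 1377) (.node (nat_lit 1374) (.node (nat_lit 1372) (.leaf (nat_lit 156303921)) (.node (nat_lit 1373) (.leaf (nat_lit 156330001)) (.leaf (nat_lit 156438673)))) (.node (nat_lit 1375) (.leaf (nat_lit 156575377)) (.node (nat_lit 1376) (.leaf (nat_lit 156603185)) (.leaf (nat_lit 156640545)))))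
 (.node (nat_lit 1380) (.node (nat_lit 1378) (.leaf (nat_lit 156670081)) (.node (nat_lit 1379) (.leaf (nat_lit 156766241)) (.leaf (nat_lit 156895617)))) (.node (nat_lit 1381) (.leaf (nat_lit 156918689)) (.node (nat_lit 1382) (.leaf (nat_lit 157354289)) (.leaf (nat_lit 157373201))))))
 (.node (nat_lit 1389) (.node (nat_lit 1386) (.node (nat_lit 1384) (.leaf (nat_lit 157524113)) (.node (nat_lit 1385) (.leaf (nat_lit 157624369)) (.leaf (nat_lit 157652369)))) (.node (nat_lit 1387) (.leaf (nat_lit 157688705)) (.node (nat_lit 1388) (.leaf (nat_lit 157718049)) (.leaf (nat_lit 157851681)))))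
 (.node (nat_lit 1392) (.node (nat_lit 1390) (.leaf (nat_lit 157942401)) (.node (nat_lit 1391) (.leaf (nat_lit 157964449)) (.leaf (nat_lit 158474273))))
 (.node (nat_lit 1394) (.node (nat_lit 1393) (.leaf (nat_lit 158492945)) (.leaf (nat_lit 158567057))) (.node (nat_lit 1395) (.leaf (nat_lit 158615937)) (.leaf (nat_lit 158621841))))))))))
noncomputable def V_7 : Tr ℕ := (.node (nat_lit 1496) (.node (nat_lit 1446) (.node (nat_lit 1421) (.node (nat_lit 1408) (.node (nat_lit 1402) (.node (nat_lit 1399) (.node (nat_lit 1397) (.leaf (nat_lit 158624337)) (.node (nat_lit 1398) (.leaf (nat_lit 158638401)) (.leaf (nat_lit 158810673)))) (.node (nat_lit 1400) (.leaf (nat_lit 158818337)) (.node (nat_lit 1401) (.leaf (nat_lit 158818657)) (.leaf (nat_lit 158837361)))))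
 (.node (nat_lit 1405) (.node (nat_lit 1403) (.leaf (nat_lit 158892321)) (.node (nat_lit 1404) (.leaf (nat_lit 158933137)) (.leaf (nat_lit 158950049)))) (.node (nat_lit 1406) (.leaf (nat_lit 159458576)) (.node (nat_lit 1407) (.leaf (nat_lit 159482640)) (.leaf (nat_lit 160053264))))))
 (.node (nat_lit 1414) (.node (nat_lit 1411) (.node (nat_lit 1409) (.leaf (nat_lit 160077328)) (.node (nat_lit 1410) (.leaf (nat_lit 160449057)) (.leaf (nat_lit 160450961)))) (.node (nat_lit 1412) (.leaf (nat_lit 160606033)) (.node (nat_lit 1413) (.leaf (nat_lit 160628881)) (.leaf (nat_lit 160629073)))))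
 (.node (nat_lit 1417) (.node (nat_lit 1415) (.leaf (nat_lit 160650065)) (.node (nat_lit 1416) (.leaf (nat_lit 160786769)) (.leaf (nat_lit 160795152))))
 (.node (nat_lit 1419) (.node (nat_lit 1418) (.leaf (nat_lit 160837904)) (.leaf (nat_lit 160850529))) (.node (nat_lit 1420) (.leaf (nat_lit 160956449)) (.leaf (nat_lit 160959073)))))))
 (.node (nat_lit 1433) (.node (nat_lit 1427) (.node (nat_lit 1424) (.node (nat_lit 1422) (.leaf (nat_lit 160979041)) (.node (nat_lit 1423) (.leaf (nat_lit 161064033)) (.leaf (nat_lit 161497089)))) (.node (nat_lit 1425) (.leaf (nat_lit 161505841)) (.node (nat_lit 1426) (.leaf (nat_lit 161507713)) (.leaf (nat_lit 161548881)))))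
 (.node (nat_lit 1430) (.node (nat_lit 1428) (.leaf (nat_lit 161573392)) (.node (nat_lit 1429) (.leaf (nat_lit 161633040)) (.leaf (nat_lit 161641345)))) (.node (nat_lit 1431) (.leaf (nat_lit 161678209)) (.node (nat_lit 1432) (.leaf (nat_lit 161719633)) (.leaf (nat_lit 161760273))))))
 (.node (nat_lit 1439) (.node (nat_lit 1436) (.node (nat_lit 1434) (.leaf (nat_lit 161809185)) (.node (nat_lit 1435) (.leaf (nat_lit 161845873)) (.leaf (nat_lit 161876113)))) (.node (nat_lit 1437) (.leaf (nat_lit 161913153)) (.node (nat_lit 1438) (.leaf (nat_lit 161957793)) (.leaf (nat_lit 162007089)))))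
 (.node (nat_lit 1442) (.node (nat_lit 1440) (.leaf (nat_lit 162047585)) (.node (nat_lit 1441) (.leaf (nat_lit 162097168)) (.leaf (nat_lit 162101297))))
 (.node (nat_lit 1444) (.node (nat_lit 1443) (.leaf (nat_lit 162136417)) (.leaf (nat_lit 162156816))) (.node (nat_lit 1445) (.leaf (nat_lit 167858465)) (.leaf (nat_lit 167864865))))))))
 (.node (nat_lit 1471) (.node (nat_lit 1458) (.node (nat_lit 1452) (.node (nat_lit 1449) (.node (nat_lit 1447) (.leaf (nat_lit 167909969)) (.node (nat_lit 1448) (.leaf (nat_lit 167913009)) (.leaf (nat_lit 167941425)))) (.node (nat_lit 1450) (.leaf (nat_lit 167944529)) (.node (nat_lit 1451) (.leaf (nat_lit 167977857)) (.leaf (nat_lit 168007809)))))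
 (.node (nat_lit 1455) (.node (nat_lit 1453) (.leaf (nat_lit 168110753)) (.node (nat_lit 1454) (.leaf (nat_lit 168137121)) (.leaf (nat_lit 168173841)))) (.node (nat_lit 1456) (.leaf (nat_lit 168204817)) (.node (nat_lit 1457) (.leaf (nat_lit 168306737)) (.leaf (nat_lit 168334129))))))
 (.node (nat_lit 1464) (.node (nat_lit 1461) (.node (nat_lit 1459) (.leaf (nat_lit 168366433)) (.node (nat_lit 1460) (.leaf (nat_lit 168371585)) (.leaf (nat_lit 168400513)))) (.node (nat_lit 1462) (.leaf (nat_lit 168405601)) (.node (nat_lit 1463) (.leaf (nat_lit 168450705)) (.leaf (nat_lit 168452497)))))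
 (.node (nat_lit 1467) (.node (nat_lit 1465) (.leaf (nat_lit 168845985)) (.node (nat_lit 1466) (.leaf (nat_lit 168847633)) (.leaf (nat_lit 168887841))))
 (.node (nat_lit 1469) (.node (nat_lit 1468) (.leaf (nat_lit 169051697)) (.leaf (nat_lit 169084432))) (.node (nat_lit 1470) (.leaf (nat_lit 169103376)) (.leaf (nat_lit 169117456)))))))
 (.node (nat_lit 1483) (.node (nat_lit 1477) (.node (nat_lit 1474) (.node (nat_lit 1472) (.leaf (nat_lit 169158737)) (.node (nat_lit 1473) (.leaf (nat_lit 169223009)) (.leaf (nat_lit 169280784)))) (.node (nat_lit 1475) (.leaf (nat_lit 169292816)) (.node (nat_lit 1476) (.leaf (nat_lit 169304080)) (.leaf (nat_lit 169379201)))))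
 (.node (nat_lit 1480) (.node (nat_lit 1478) (.leaf (nat_lit 169477521)) (.node (nat_lit 1479) (.leaf (nat_lit 169890353)) (.leaf (nat_lit 169892225)))) (.node (nat_lit 1481) (.leaf (nat_lit 169953089)) (.node (nat_lit 1482) (.leaf (nat_lit 170141073)) (.leaf (nat_lit 170202673))))))
 (.node (nat_lit 1489) (.node (nat_lit 1486) (.node (nat_lit 1484) (.leaf (nat_lit 170268033)) (.node (nat_lit 1485) (.leaf (nat_lit 170337825)) (.leaf (nat_lit 170542193)))) (.node (nat_lit 1487) (.leaf (nat_lit 171140001)) (.node (nat_lit 1488) (.leaf (nat_lit 171156305)) (.leaf (nat_lit 171201793)))))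
 (.node (nat_lit 1492) (.node (nat_lit 1490) (.leaf (nat_lit 171398657)) (.node (nat_lit 1491) (.leaf (nat_lit 171468817)) (.leaf (nat_lit 171485281))))
 (.node (nat_lit 1494) (.node (nat_lit 1493) (.leaf (nat_lit 171966801)) (.leaf (nat_lit 171969121))) (.node (nat_lit 1495) (.leaf (nat_lit 171979073)) (.leaf (nat_lit 171981425)))))))))
 (.node (nat_lit 1546) (.node (nat_lit 1521) (.node (nat_lit 1508) (.node (nat_lit 1502) (.node (nat_lit 1499) (.node (nat_lit 1497) (.leaf (nat_lit 171991297)) (.node (nat_lit 1498) (.leaf (nat_lit 171991889)) (.leaf (nat_lit 171993185)))) (.node (nat_lit 1500) (.leaf (nat_lit 171993601)) (.node (nat_lit 1501) (.leaf (nat_lit 172003329)) (.leaf (nat_lit 172048961)))))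
 (.node (nat_lit 1505) (.node (nat_lit 1503) (.leaf (nat_lit 172069953)) (.node (nat_lit 1504) (.leaf (nat_lit 172171905)) (.leaf (nat_lit 172192001)))) (.node (nat_lit 1506) (.leaf (nat_lit 172193889)) (.node (nat_lit 1507) (.leaf (nat_lit 172231217)) (.leaf (nat_lit 172296705))))))
 (.node (nat_lit 1514) (.node (nat_lit 1511) (.node (nat_lit 1509) (.leaf (nat_lit 172319345)) (.node (nat_lit 1510) (.leaf (nat_lit 172359937)) (.leaf (nat_lit 172386625)))) (.node (nat_lit 1512) (.leaf (nat_lit 172425601)) (.node (nat_lit 1513) (.leaf (nat_lit 172501297)) (.leaf (nat_lit 172520273)))))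
 (.node (nat_lit 1517) (.node (nat_lit 1515) (.leaf (nat_lit 172521985)) (.node (nat_lit 1516) (.leaf (nat_lit 172556544)) (.leaf (nat_lit 172640625))))
 (.node (nat_lit 1519) (.node (nat_lit 1518) (.leaf (nat_lit 172660593)) (.leaf (nat_lit 173120016))) (.node (nat_lit 1520) (.leaf (nat_lit 173121569)) (.leaf (nat_lit 173180433)))))))
 (.node (nat_lit 1533) (.node (nat_lit 1527) (.node (nat_lit 1524) (.node (nat_lit 1522) (.leaf (nat_lit 173219873)) (.node (nat_lit 1523) (.leaf (nat_lit 173278849)) (.leaf (nat_lit 173356816)))) (.node (nat_lit 1525) (.leaf (nat_lit 173442064)) (.node (nat_lit 1526) (.leaf (nat_lit 173475121)) (.leaf (nat_lit 173547665)))))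
 (.node (nat_lit 1530) (.node (nat_lit 1528) (.leaf (nat_lit 173639073)) (.node (nat_lit 1529) (.leaf (nat_lit 173678864)) (.leaf (nat_lit 173711505)))) (.node (nat_lit 1531) (.leaf (nat_lit 174133281)) (.node (nat_lit 1532) (.leaf (nat_lit 174137616)) (.leaf (nat_lit 174208273))))))
 (.node (nat_lit 1539) (.node (nat_lit 1536) (.node (nat_lit 1534) (.leaf (nat_lit 174297121)) (.node (nat_lit 1535) (.leaf (nat_lit 174327169)) (.leaf (nat_lit 174425104)))) (.node (nat_lit 1537) (.leaf (nat_lit 174470928)) (.node (nat_lit 1538) (.leaf (nat_lit 174523953)) (.leaf (nat_lit 174624913)))))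
 (.node (nat_lit 1542) (.node (nat_lit 1540) (.leaf (nat_lit 174667425)) (.node (nat_lit 1541) (.leaf (nat_lit 174723217)) (.leaf (nat_lit 174758416))))
 (.node (nat_lit 1544) (.node (nat_lit 1543) (.leaf (nat_lit 175112545)) (.leaf (nat_lit 175114833))) (.node (nat_lit 1545) (.leaf (nat_lit 175120385)) (.leaf (nat_lit 175132929))))))))
 (.node (nat_lit 1571) (.node (nat_lit 1558) (.node (nat_lit 1552) (.node (nat_lit 1549) (.node (nat_lit 1547) (.leaf (nat_lit 175133537)) (.node (nat_lit 1548) (.leaf (nat_lit 175134801)) (.leaf (nat_lit 175135233)))) (.node (nat_lit 1550) (.leaf (nat_lit 175145329)) (.node (nat_lit 1551) (.leaf (nat_lit 175147585)) (.leaf (nat_lit 175187777)))))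
 (.node (nat_lit 1555) (.node (nat_lit 1553) (.leaf (nat_lit 175208769)) (.node (nat_lit 1554) (.leaf (nat_lit 175243520)) (.leaf (nat_lit 175326049)))) (.node (nat_lit 1556) (.leaf (nat_lit 175327745)) (.node (nat_lit 1557) (.leaf (nat_lit 175348097)) (.leaf (nat_lit 175374641))))))
 (.node (nat_lit 1564) (.node (nat_lit 1561) (.node (nat_lit 1559) (.leaf (nat_lit 175440129)) (.node (nat_lit 1560) (.leaf (nat_lit 175462769)) (.leaf (nat_lit 175507969)))) (.node (nat_lit 1562) (.leaf (nat_lit 175526465)) (.node (nat_lit 1563) (.leaf (nat_lit 175573633)) (.leaf (nat_lit 175653121)))))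
 (.node (nat_lit 1567) (.node (nat_lit 1565) (.leaf (nat_lit 175654993)) (.node (nat_lit 1566) (.leaf (nat_lit 175673905)) (.leaf (nat_lit 175776881))))
 (.node (nat_lit 1569) (.node (nat_lit 1568) (.leaf (nat_lit 175796849)) (.leaf (nat_lit 176363601))) (.node (nat_lit 1570) (.leaf (nat_lit 176380065)) (.leaf (nat_lit 176449025)))))))
 (.node (nat_lit 1583) (.node (nat_lit 1577) (.node (nat_lit 1574) (.node (nat_lit 1572) (.leaf (nat_lit 176645377)) (.node (nat_lit 1573) (.leaf (nat_lit 176690017)) (.leaf (nat_lit 176706321)))) (.node (nat_lit 1575) (.leaf (nat_lit 177234561)) (.node (nat_lit 1576) (.leaf (nat_lit 177236273)) (.leaf (nat_lit 177304641)))))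
 (.node (nat_lit 1580) (.node (nat_lit 1578) (.leaf (nat_lit 177510033)) (.node (nat_lit 1579) (.leaf (nat_lit 177579313)) (.leaf (nat_lit 177645185)))) (.node (nat_lit 1581) (.leaf (nat_lit 177706273)) (.node (nat_lit 1582) (.leaf (nat_lit 177895281)) (.leaf (nat_lit 178278929))))))
 (.node (nat_lit 1589) (.node (nat_lit 1586) (.node (nat_lit 1584) (.leaf (nat_lit 178280865)) (.node (nat_lit 1585) (.leaf (nat_lit 178324769)) (.leaf (nat_lit 178468145)))) (.node (nat_lit 1587) (.leaf (nat_lit 178521360)) (.node (nat_lit 1588) (.leaf (nat_lit 178533392)) (.leaf (nat_lit 178544656)))))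
 (.node (nat_lit 1592) (.node (nat_lit 1590) (.leaf (nat_lit 178623313)) (.node (nat_lit 1591) (.leaf (nat_lit 178690145)) (.leaf (nat_lit 178718224))))
 (.node (nat_lit 1594) (.node (nat_lit 1593) (.leaf (nat_lit 178737168)) (.leaf (nat_lit 178751248))) (.node (nat_lit 1595) (.leaf (nat_lit 178796161)) (.leaf (nat_lit 178914961))))))))))
noncomputable def V : Tr ℕ := (.node (nat_lit 798) (.node (nat_lit 399) (.node (nat_lit 199) V_0 V_1) (.node (nat_lit 598) V_2 V_3)) (.node (nat_lit 1197) (.node (nat_lit 997) V_4 V_5) (.node (nat_lit 1396) V_6 V_7)))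
theorem pts : ptR C11 7 true V 1596 0 1596 = true := by decide +kernel
noncomputable def M0 : Sp := [[(nat_lit 1, nat_lit 1)],
  [(nat_lit 2, nat_lit 1)],
  [(nat_lit 3, nat_lit 1)],
  [(nat_lit 4, nat_lit 1)],
  [(nat_lit 5, nat_lit 1)],
  [(nat_lit 6, nat_lit 1)],
  [(nat_lit 0, nat_lit 1)]]
noncomputable def M1 : Sp := [[(nat_lit 0, nat_lit 8), (nat_lit 1, nat_lit 2), (nat_lit 2, nat_lit 10), (nat_lit 3, nat_lit 10), (nat_lit 4, nat_lit 8), (nat_lit 5, nat_lit 10), (nat_lit 6, nat_lit 8)],
  [(nat_lit 0, nat_lit 9), (nat_lit 1, nat_lit 1), (nat_lit 2, nat_lit 1), (nat_lit 3, nat_lit 3), (nat_lit 4, nat_lit 1), (nat_lit 5, nat_lit 3), (nat_lit 6, nat_lit 3)],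
  [(nat_lit 0, nat_lit 10), (nat_lit 1, nat_lit 10), (nat_lit 2, nat_lit 8), (nat_lit 3, nat_lit 10), (nat_lit 4, nat_lit 8), (nat_lit 5, nat_lit 8), (nat_lit 6, nat_lit 2)],
  [(nat_lit 0, nat_lit 10), (nat_lit 1, nat_lit 8), (nat_lit 2, nat_lit 10), (nat_lit 3, nat_lit 8), (nat_lit 4, nat_lit 8), (nat_lit 5, nat_lit 2), (nat_lit 6, nat_lit 10)],
  [(nat_lit 0, nat_lit 8), (nat_lit 1, nat_lit 10), (nat_lit 2, nat_lit 8), (nat_lit 3, nat_lit 8), (nat_lit 4, nat_lit 2), (nat_lit 5, nat_lit 10), (nat_lit 6, nat_lit 10)],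
  [(nat_lit 0, nat_lit 1), (nat_lit 1, nat_lit 3), (nat_lit 2, nat_lit 3), (nat_lit 3, nat_lit 9), (nat_lit 4, nat_lit 1), (nat_lit 5, nat_lit 1), (nat_lit 6, nat_lit 3)],
  [(nat_lit 0, nat_lit 3), (nat_lit 1, nat_lit 3), (nat_lit 2, nat_lit 9), (nat_lit 3, nat_lit 1), (nat_lit 4, nat_lit 1), (nat_lit 5, nat_lit 3), (nat_lit 6, nat_lit 1)]]
noncomputable def MT : Tr Sp := (.node (nat_lit 1) (.leaf M0) (.leaf M1))
noncomputable def SC : Tr ℕ := (.node (nat_lit 1) (.leaf (nat_lit 0x571112911146a1867453471292a98849173a8147a213338a92169215a54117611651a541176161881a947318a4217335a291832921299a867453745711129111461a5527724411aa77944966124124a35861977119743222621199959561111a5682643957516a766754514a7676455145a642687953561111122261291995965121424a35861971719847141733aa1188711431645718411712941a9a275a39182161721949272914291613a9812592141a2a97411781467513556556566566714a17a48651131861351a411447aa7171165468437567565a1624352514a79686597a14966859417a6253725a16546487356751a564a11447aa77111581531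811663a714a17a41a55a441111aaaa166177aa1111a3142127389479a3a137963114a71425881382a19291921291a6572a47911492711947a2429192156a1922a199231694341117a5278188381a277938421948a99669725524211118aa974983721248118524817a4116973313891a2291291651a29411974a279242a74911729129192a15691a292817258a71114496313833a49124839772a3122552496697911114a71a417531681311568a71aa7741144a11567573486546a16579568697a415253426a15273526a7149586694a1567537846546561a17aa774114a41136611813518514a71a417a166177aaaa1111a55a44111aa1181754613711429a7a191241618123a95492179249127295182a39161a927a1219471143157641866566565565519179718635a2414128749995911222625611116157953426865a14545766a714554676a7165395782646a511119995192122626519719718635a24411247314718811aa331714641119211175a1354768479a2921331a274813a7914885a9213892611671145a51161671145a153372148a3174a918883a291629a99212354768746411192111751a66944977aa11442772558922391a831138a1239892174a1a27494927a1a471474729a11111111a9234784747874365156a561165a6517654a651651156156a456787437474347856921a111111a129a471a1947272941a174a74743992821138aa831128239965747474655674477456))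 (.leaf (nat_lit 0x9246122a531788932a383a253112137977557a7348a3195717563394412393633927757473aa78713a9213a53621aa2569737a5919578a821374273aa56a2a5739724258394954231637438228115745841717321196156986aa85944a4a471483662742855a4842117a8a617a1aa329a44a17a196a23aa715616a44445a4a17a9898241aa192815457295673a35a226156144a6562a91152113457951a52254692224a58aa35813979296a9a3928a99aa92512885537477315915a5427536a3483357a566462836a719a3592251a1868228535441a76952464448886331241846852238a811783328633424748578768a362a931852287397267574321748653651a7593186432a36a9a96243526a579761686331198121123271282aa6699a57aa68295819279a51a244624392823314654674a83794647797a999a44181968399a82815a9a54425291121887388758a993713222613515a58154517681665249aa926969979797144a4616214161391684682875aa2a8199a1919794868255124238189955767998712834527669698291166768646a8765783221227a652675965a1a9848477763a985448a47878767a647a58292882943246aa848855632731611855663969221aaa546661474a4583654812268a1873339769276143418919831871a39aa319a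381a7668a8772673315a8143315454862134a4416269765238824313894a29657a2991924a1628192766821826854272386144496446a2116596127829894227857a486558961415338937a92aa86a83586566837756485738a1a8534369a321529562543217776a526259123a262561667a383119118266a6457885754642796218677488333a3a367a81148a951575438215131192424684939163755879a21852a3282a339924244423a9512683692784757542a4a124938977664319a3731184444429716a785a33687818634752668648712a43333577494135117934a46a52a34539744372715a36796a593711951842817737559169615a6395215264638a2a213697151a9452961182a6528455442144283112756277aa15912319745682839a123442567532a651645a835779117758a)))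
theorem act : ActAll C11 7 true V 1596 (nat_lit 11) (nat_lit 2047) MT G0 SC 2 := actAll_of (by decide +kernel)
theorem frame : frameChk C11 7 true V 1596 [[(nat_lit 0, nat_lit 2), (nat_lit 1, nat_lit 3), (nat_lit 2, nat_lit 6), (nat_lit 3, nat_lit 9), (nat_lit 4, nat_lit 8), (nat_lit 5, nat_lit 2), (nat_lit 6, nat_lit 4)],
  [(nat_lit 0, nat_lit 4), (nat_lit 1, nat_lit 1), (nat_lit 2, nat_lit 7), (nat_lit 3, nat_lit 3), (nat_lit 5, nat_lit 6), (nat_lit 6, nat_lit 1)],
  [(nat_lit 0, nat_lit 7), (nat_lit 1, nat_lit 8), (nat_lit 2, nat_lit 8), (nat_lit 3, nat_lit 1), (nat_lit 4, nat_lit 2), (nat_lit 5, nat_lit 1), (nat_lit 6, nat_lit 10)],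
  [(nat_lit 0, nat_lit 4), (nat_lit 1, nat_lit 5), (nat_lit 2, nat_lit 2), (nat_lit 5, nat_lit 6), (nat_lit 6, nat_lit 6)],
  [(nat_lit 0, nat_lit 10), (nat_lit 1, nat_lit 1), (nat_lit 2, nat_lit 8), (nat_lit 3, nat_lit 4), (nat_lit 4, nat_lit 10), (nat_lit 5, nat_lit 6), (nat_lit 6, nat_lit 6)],
  [(nat_lit 1, nat_lit 7), (nat_lit 2, nat_lit 7), (nat_lit 3, nat_lit 1), (nat_lit 4, nat_lit 2), (nat_lit 5, nat_lit 8), (nat_lit 6, nat_lit 10)],
  [(nat_lit 0, nat_lit 7), (nat_lit 1, nat_lit 8), (nat_lit 2, nat_lit 6), (nat_lit 3, nat_lit 4), (nat_lit 5, nat_lit 4), (nat_lit 6, nat_lit 7)]]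
  (.node (nat_lit 3) (.node (nat_lit 1) (.leaf (nat_lit 221)) (.node (nat_lit 2) (.leaf (nat_lit 49)) (.leaf (nat_lit 241))))
 (.node (nat_lit 5) (.node (nat_lit 4) (.leaf (nat_lit 1165)) (.leaf (nat_lit 1530))) (.node (nat_lit 6) (.leaf (nat_lit 27)) (.leaf (nat_lit 607))))) 0 = true := by decide +kernel
instance f11 : Fact (Nat.Prime 11) := ⟨by norm_num⟩
theorem eX : Cfsg.jankoMatrixX = decM C11 Nat.cast Fin.val (MT.get 0) :=
  (fm11 (F := ZMod 11)).entChk (ix_fin 7) (S := MT.get 0) (c := fun i j => (Cfsg.jankoMatrixX i j).val) (fun _ _ => (ZMod.natCast_zmod_val _).symm)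
    (by decide +kernel)
theorem eY : Cfsg.jankoMatrixY = decM C11 Nat.cast Fin.val (MT.get 1) :=
  (fm11 (F := ZMod 11)).entChk (ix_fin 7) (S := MT.get 1) (c := fun i j => (Cfsg.jankoMatrixY i j).val) (fun _ _ => (ZMod.natCast_zmod_val _).symm)
    (by decide +kernel)
theorem iso : Nonempty (Cfsg.Spor.J1 ≃* P) := by
  have h := fm11 (F := ZMod 11)
  have hx := ix_fin 7
  obtain ⟨ρ, hs, hk⟩ := exists_hom_gen gen (h.pt_inj hx (τGL Cfsg.Spor.J1) pts)
    (act.lets h hx fun j hj => by
      interval_cases j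
      exacts [⟨⟨_, Subgroup.subset_closure (Or.inl rfl)⟩, eX⟩, ⟨⟨_, Subgroup.subset_closure (Or.inr rfl)⟩, eY⟩])
    _ (closure_subtype _) (lets_G0 gen (by decide +kernel)) (by
      rintro ⟨s, hs⟩ (rfl | rfl)
      exacts [⟨0, act.rep h hx (by decide) eX⟩, ⟨1, act.rep h hx (by decide) eY⟩])
  refine iso_of_hom ρ hs fun g hg => ?_
  obtain ⟨c, hc, e⟩ := h.frame hx frame (hk g hg)
  refine eq_one_of_scalar ?_ (by simp; decide) g hc.1 e
  rintro s (rfl | rfl)
  · exact det_eq_one (k := 7) ((congrArg (· ^ 7) eX).trans (h.powChk hx (by decide +kernel))) (by decide) (by simp; decide)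
  · have h1 : Cfsg.jankoMatrixY.det ^ 5 = 1 := by
      rw [← det_pow, eY, h.powChk hx (by decide +kernel), det_one]
    have h2 : Cfsg.jankoMatrixY.det ^ 2 = 1 := by
      have : det (Cfsg.jankoMatrixY * Cfsg.jankoMatrixYᵀ) = det 1 := congrArg det Cfsg.Spor.jankoY.val_inv
      rwa [det_mul, det_one, det_transpose, ← sq] at this
    show Cfsg.jankoMatrixY.det = 1
    simpa using pow_gcd_eq_one.2 ⟨h1, h2⟩

end H8.J1
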