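import Cfsg.Agent.H8.GJ3
import Cfsg.Agent.H8.SJ3
import Cfsg.Agent.H8.Pres
import Cfsg.Prelude.Def_Spor_J3

/-! H8.XJ3: `iso`: J3 is isomorphic to `P` (generated certificate) -/

set_option autoImplicit false
set_option maxRecDepth 200000

open Matrix

namespace H8.J3

noncomputable def ms0 : Sp := [[(nat_lit 0, nat_lit 1)],
  [(nat_lit 5, nat_lit 1), (nat_lit 7, nat_lit 1), (nat_lit 8, nat_lit 1)],
  [(nat_lit 4, nat_lit 1), (nat_lit 5, nat_lit 1), (nat_lit 7, nat_lit 1)],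
  [(nat_lit 4, nat_lit 1), (nat_lit 5, nat_lit 1), (nat_lit 8, nat_lit 1)],
  [(nat_lit 2, nat_lit 1), (nat_lit 3, nat_lit 1), (nat_lit 6, nat_lit 1)],
  [(nat_lit 1, nat_lit 1), (nat_lit 2, nat_lit 1), (nat_lit 3, nat_lit 1)],
  [(nat_lit 4, nat_lit 1), (nat_lit 7, nat_lit 1), (nat_lit 8, nat_lit 1)],
  [(nat_lit 1, nat_lit 1), (nat_lit 2, nat_lit 1), (nat_lit 6, nat_lit 1)],
  [(nat_lit 1, nat_lit 1), (nat_lit 3, nat_lit 1), (nat_lit 6, nat_lit 1)]]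
noncomputable def ms1 : Sp := [[(nat_lit 5, nat_lit 2)],
  [(nat_lit 3, nat_lit 2), (nat_lit 4, nat_lit 3), (nat_lit 8, nat_lit 1)],
  [(nat_lit 2, nat_lit 3), (nat_lit 3, nat_lit 2), (nat_lit 4, nat_lit 3)],
  [(nat_lit 2, nat_lit 3), (nat_lit 3, nat_lit 2), (nat_lit 8, nat_lit 1)],
  [(nat_lit 0, nat_lit 3), (nat_lit 1, nat_lit 3), (nat_lit 7, nat_lit 2)],
  [(nat_lit 1, nat_lit 3), (nat_lit 6, nat_lit 2), (nat_lit 7, nat_lit 2)],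
  [(nat_lit 2, nat_lit 3), (nat_lit 4, nat_lit 3), (nat_lit 8, nat_lit 1)],
  [(nat_lit 0, nat_lit 3), (nat_lit 1, nat_lit 3), (nat_lit 6, nat_lit 2)],
  [(nat_lit 0, nat_lit 3), (nat_lit 6, nat_lit 2), (nat_lit 7, nat_lit 2)]]
noncomputable def ms2 : Sp := [[(nat_lit 0, nat_lit 2), (nat_lit 1, nat_lit 3), (nat_lit 2, nat_lit 3), (nat_lit 3, nat_lit 3), (nat_lit 4, nat_lit 3), (nat_lit 5, nat_lit 3), (nat_lit 6, nat_lit 3), (nat_lit 7, nat_lit 1), (nat_lit 8, nat_lit 1)],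
  [(nat_lit 0, nat_lit 2), (nat_lit 1, nat_lit 1), (nat_lit 2, nat_lit 1), (nat_lit 3, nat_lit 3), (nat_lit 5, nat_lit 1), (nat_lit 6, nat_lit 3), (nat_lit 7, nat_lit 3)],
  [(nat_lit 0, nat_lit 2), (nat_lit 2, nat_lit 2), (nat_lit 5, nat_lit 1), (nat_lit 6, nat_lit 1), (nat_lit 8, nat_lit 2)],
  [(nat_lit 0, nat_lit 2), (nat_lit 1, nat_lit 1), (nat_lit 4, nat_lit 1), (nat_lit 5, nat_lit 2), (nat_lit 6, nat_lit 2), (nat_lit 7, nat_lit 3), (nat_lit 8, nat_lit 2)],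
  [(nat_lit 0, nat_lit 1), (nat_lit 1, nat_lit 2), (nat_lit 2, nat_lit 1), (nat_lit 3, nat_lit 1), (nat_lit 5, nat_lit 1), (nat_lit 6, nat_lit 2), (nat_lit 8, nat_lit 1)],
  [(nat_lit 0, nat_lit 1), (nat_lit 1, nat_lit 2), (nat_lit 2, nat_lit 1), (nat_lit 3, nat_lit 3), (nat_lit 4, nat_lit 1), (nat_lit 5, nat_lit 2), (nat_lit 6, nat_lit 3), (nat_lit 7, nat_lit 1), (nat_lit 8, nat_lit 2)],
  [(nat_lit 0, nat_lit 2), (nat_lit 3, nat_lit 3), (nat_lit 4, nat_lit 3), (nat_lit 5, nat_lit 1), (nat_lit 7, nat_lit 3)],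
  [(nat_lit 0, nat_lit 2), (nat_lit 1, nat_lit 1), (nat_lit 3, nat_lit 2), (nat_lit 4, nat_lit 3), (nat_lit 5, nat_lit 2), (nat_lit 7, nat_lit 3), (nat_lit 8, nat_lit 1)],
  [(nat_lit 0, nat_lit 2), (nat_lit 1, nat_lit 2), (nat_lit 3, nat_lit 2), (nat_lit 5, nat_lit 3), (nat_lit 6, nat_lit 1), (nat_lit 7, nat_lit 3), (nat_lit 8, nat_lit 1)]]
noncomputable def ms3 : Sp := [[(nat_lit 4, nat_lit 2), (nat_lit 7, nat_lit 2), (nat_lit 8, nat_lit 2)],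
  [(nat_lit 4, nat_lit 2), (nat_lit 5, nat_lit 2), (nat_lit 7, nat_lit 2)],
  [(nat_lit 2, nat_lit 2), (nat_lit 3, nat_lit 2), (nat_lit 6, nat_lit 2)],
  [(nat_lit 1, nat_lit 3), (nat_lit 2, nat_lit 3), (nat_lit 3, nat_lit 3)],
  [(nat_lit 1, nat_lit 2), (nat_lit 2, nat_lit 2), (nat_lit 6, nat_lit 2)],
  [(nat_lit 0, nat_lit 3)],
  [(nat_lit 5, nat_lit 3), (nat_lit 7, nat_lit 3), (nat_lit 8, nat_lit 3)],
  [(nat_lit 4, nat_lit 3), (nat_lit 5, nat_lit 3), (nat_lit 8, nat_lit 3)],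
  [(nat_lit 1, nat_lit 1), (nat_lit 3, nat_lit 1), (nat_lit 6, nat_lit 1)]]
noncomputable def ms4 : Sp := [[(nat_lit 0, nat_lit 3), (nat_lit 1, nat_lit 3), (nat_lit 2, nat_lit 1), (nat_lit 3, nat_lit 2), (nat_lit 4, nat_lit 1), (nat_lit 6, nat_lit 2), (nat_lit 8, nat_lit 3)],
  [(nat_lit 0, nat_lit 2), (nat_lit 1, nat_lit 1), (nat_lit 2, nat_lit 1), (nat_lit 3, nat_lit 1), (nat_lit 4, nat_lit 3), (nat_lit 5, nat_lit 2), (nat_lit 6, nat_lit 1), (nat_lit 7, nat_lit 1), (nat_lit 8, nat_lit 2)],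
  [(nat_lit 0, nat_lit 3), (nat_lit 1, nat_lit 1), (nat_lit 6, nat_lit 3), (nat_lit 7, nat_lit 2), (nat_lit 8, nat_lit 3)],
  [(nat_lit 0, nat_lit 2), (nat_lit 1, nat_lit 1), (nat_lit 2, nat_lit 2), (nat_lit 3, nat_lit 2), (nat_lit 4, nat_lit 1), (nat_lit 5, nat_lit 3), (nat_lit 6, nat_lit 2), (nat_lit 7, nat_lit 1), (nat_lit 8, nat_lit 1)],
  [(nat_lit 0, nat_lit 3), (nat_lit 1, nat_lit 1), (nat_lit 2, nat_lit 1), (nat_lit 3, nat_lit 2), (nat_lit 5, nat_lit 3), (nat_lit 6, nat_lit 1), (nat_lit 7, nat_lit 3)],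
  [(nat_lit 0, nat_lit 1), (nat_lit 1, nat_lit 2), (nat_lit 2, nat_lit 2), (nat_lit 4, nat_lit 1), (nat_lit 5, nat_lit 2), (nat_lit 7, nat_lit 3), (nat_lit 8, nat_lit 1)],
  [(nat_lit 0, nat_lit 3), (nat_lit 1, nat_lit 1), (nat_lit 2, nat_lit 3), (nat_lit 3, nat_lit 2), (nat_lit 5, nat_lit 3), (nat_lit 7, nat_lit 2), (nat_lit 8, nat_lit 3)],
  [(nat_lit 0, nat_lit 2), (nat_lit 1, nat_lit 1), (nat_lit 2, nat_lit 2), (nat_lit 3, nat_lit 1), (nat_lit 4, nat_lit 3), (nat_lit 5, nat_lit 1), (nat_lit 6, nat_lit 1)],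
  [(nat_lit 0, nat_lit 3), (nat_lit 1, nat_lit 1), (nat_lit 3, nat_lit 1), (nat_lit 5, nat_lit 1), (nat_lit 6, nat_lit 3), (nat_lit 7, nat_lit 1), (nat_lit 8, nat_lit 1)]]
noncomputable def ms5 : Sp := [[(nat_lit 0, nat_lit 2), (nat_lit 1, nat_lit 3), (nat_lit 2, nat_lit 2), (nat_lit 3, nat_lit 3), (nat_lit 4, nat_lit 2), (nat_lit 5, nat_lit 1), (nat_lit 6, nat_lit 2), (nat_lit 7, nat_lit 3), (nat_lit 8, nat_lit 2)],
  [(nat_lit 0, nat_lit 2), (nat_lit 1, nat_lit 1), (nat_lit 2, nat_lit 1), (nat_lit 3, nat_lit 1), (nat_lit 4, nat_lit 1), (nat_lit 5, nat_lit 3), (nat_lit 6, nat_lit 1), (nat_lit 7, nat_lit 1), (nat_lit 8, nat_lit 1)],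
  [(nat_lit 0, nat_lit 1), (nat_lit 1, nat_lit 1), (nat_lit 3, nat_lit 3), (nat_lit 4, nat_lit 1), (nat_lit 5, nat_lit 3), (nat_lit 6, nat_lit 2), (nat_lit 7, nat_lit 3)],
  [(nat_lit 0, nat_lit 3), (nat_lit 1, nat_lit 1), (nat_lit 3, nat_lit 3), (nat_lit 4, nat_lit 3), (nat_lit 6, nat_lit 3), (nat_lit 7, nat_lit 1), (nat_lit 8, nat_lit 1)],
  [(nat_lit 0, nat_lit 1), (nat_lit 1, nat_lit 2), (nat_lit 3, nat_lit 1), (nat_lit 5, nat_lit 1), (nat_lit 7, nat_lit 2)],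
  [(nat_lit 1, nat_lit 3), (nat_lit 3, nat_lit 2), (nat_lit 4, nat_lit 2), (nat_lit 5, nat_lit 3), (nat_lit 6, nat_lit 2), (nat_lit 7, nat_lit 1), (nat_lit 8, nat_lit 1)],
  [(nat_lit 0, nat_lit 3), (nat_lit 1, nat_lit 1), (nat_lit 2, nat_lit 2), (nat_lit 3, nat_lit 3), (nat_lit 4, nat_lit 1), (nat_lit 7, nat_lit 1), (nat_lit 8, nat_lit 2)],
  [(nat_lit 1, nat_lit 1), (nat_lit 2, nat_lit 3), (nat_lit 3, nat_lit 1), (nat_lit 4, nat_lit 2), (nat_lit 5, nat_lit 2), (nat_lit 6, nat_lit 3), (nat_lit 8, nat_lit 1)],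
  [(nat_lit 0, nat_lit 2), (nat_lit 1, nat_lit 3), (nat_lit 2, nat_lit 2), (nat_lit 3, nat_lit 1), (nat_lit 5, nat_lit 1), (nat_lit 6, nat_lit 2), (nat_lit 8, nat_lit 1)]]
noncomputable def ms6 : Sp := [[(nat_lit 0, nat_lit 3), (nat_lit 1, nat_lit 2), (nat_lit 3, nat_lit 3), (nat_lit 4, nat_lit 3), (nat_lit 5, nat_lit 3), (nat_lit 6, nat_lit 1), (nat_lit 8, nat_lit 2)],
  [(nat_lit 0, nat_lit 3), (nat_lit 3, nat_lit 1), (nat_lit 4, nat_lit 1), (nat_lit 5, nat_lit 3), (nat_lit 6, nat_lit 1), (nat_lit 7, nat_lit 3), (nat_lit 8, nat_lit 2)],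
  [(nat_lit 0, nat_lit 1), (nat_lit 1, nat_lit 3), (nat_lit 2, nat_lit 3), (nat_lit 3, nat_lit 3), (nat_lit 4, nat_lit 1), (nat_lit 5, nat_lit 1), (nat_lit 6, nat_lit 3), (nat_lit 7, nat_lit 2), (nat_lit 8, nat_lit 3)],
  [(nat_lit 0, nat_lit 3), (nat_lit 1, nat_lit 2), (nat_lit 2, nat_lit 1), (nat_lit 3, nat_lit 1), (nat_lit 4, nat_lit 3), (nat_lit 6, nat_lit 1), (nat_lit 8, nat_lit 3)],
  [(nat_lit 0, nat_lit 2), (nat_lit 1, nat_lit 1), (nat_lit 2, nat_lit 1), (nat_lit 3, nat_lit 3), (nat_lit 5, nat_lit 2), (nat_lit 6, nat_lit 2), (nat_lit 7, nat_lit 3)],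
  [(nat_lit 0, nat_lit 3), (nat_lit 1, nat_lit 1), (nat_lit 2, nat_lit 3), (nat_lit 4, nat_lit 1), (nat_lit 5, nat_lit 1), (nat_lit 6, nat_lit 1), (nat_lit 8, nat_lit 1)],
  [(nat_lit 0, nat_lit 2), (nat_lit 2, nat_lit 2), (nat_lit 5, nat_lit 2), (nat_lit 6, nat_lit 3), (nat_lit 8, nat_lit 1)],
  [(nat_lit 0, nat_lit 2), (nat_lit 1, nat_lit 1), (nat_lit 2, nat_lit 1), (nat_lit 3, nat_lit 2), (nat_lit 4, nat_lit 1), (nat_lit 6, nat_lit 1), (nat_lit 7, nat_lit 3)],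
  [(nat_lit 0, nat_lit 3), (nat_lit 1, nat_lit 3), (nat_lit 2, nat_lit 3), (nat_lit 3, nat_lit 3), (nat_lit 4, nat_lit 1), (nat_lit 5, nat_lit 2), (nat_lit 6, nat_lit 2), (nat_lit 7, nat_lit 2), (nat_lit 8, nat_lit 2)]]
noncomputable def ms7 : Sp := [[(nat_lit 0, nat_lit 1), (nat_lit 1, nat_lit 1), (nat_lit 2, nat_lit 3), (nat_lit 3, nat_lit 1), (nat_lit 4, nat_lit 2), (nat_lit 5, nat_lit 1), (nat_lit 6, nat_lit 2), (nat_lit 7, nat_lit 2), (nat_lit 8, nat_lit 1)],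
  [(nat_lit 0, nat_lit 2), (nat_lit 2, nat_lit 1), (nat_lit 3, nat_lit 2), (nat_lit 4, nat_lit 3), (nat_lit 5, nat_lit 3), (nat_lit 7, nat_lit 3), (nat_lit 8, nat_lit 1)],
  [(nat_lit 2, nat_lit 1), (nat_lit 3, nat_lit 3), (nat_lit 4, nat_lit 3), (nat_lit 5, nat_lit 1), (nat_lit 6, nat_lit 2), (nat_lit 7, nat_lit 3), (nat_lit 8, nat_lit 1)],
  [(nat_lit 0, nat_lit 1), (nat_lit 1, nat_lit 3), (nat_lit 2, nat_lit 1), (nat_lit 3, nat_lit 3), (nat_lit 4, nat_lit 1), (nat_lit 7, nat_lit 2), (nat_lit 8, nat_lit 1)],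
  [(nat_lit 0, nat_lit 1), (nat_lit 1, nat_lit 3), (nat_lit 2, nat_lit 3), (nat_lit 3, nat_lit 1), (nat_lit 5, nat_lit 3), (nat_lit 7, nat_lit 3), (nat_lit 8, nat_lit 3)],
  [(nat_lit 0, nat_lit 1), (nat_lit 1, nat_lit 1), (nat_lit 2, nat_lit 3), (nat_lit 4, nat_lit 2), (nat_lit 5, nat_lit 3), (nat_lit 6, nat_lit 2), (nat_lit 8, nat_lit 2)],
  [(nat_lit 0, nat_lit 3), (nat_lit 1, nat_lit 3), (nat_lit 2, nat_lit 1), (nat_lit 3, nat_lit 3), (nat_lit 4, nat_lit 2), (nat_lit 5, nat_lit 3), (nat_lit 6, nat_lit 1), (nat_lit 7, nat_lit 3), (nat_lit 8, nat_lit 2)],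
  [(nat_lit 1, nat_lit 1), (nat_lit 2, nat_lit 2), (nat_lit 4, nat_lit 1), (nat_lit 7, nat_lit 1), (nat_lit 8, nat_lit 2)],
  [(nat_lit 0, nat_lit 2), (nat_lit 1, nat_lit 2), (nat_lit 2, nat_lit 1), (nat_lit 3, nat_lit 1), (nat_lit 5, nat_lit 3), (nat_lit 6, nat_lit 3), (nat_lit 8, nat_lit 2)]]
noncomputable def ms8 : Sp := [[(nat_lit 1, nat_lit 3), (nat_lit 3, nat_lit 3), (nat_lit 4, nat_lit 1), (nat_lit 5, nat_lit 2), (nat_lit 6, nat_lit 2), (nat_lit 7, nat_lit 1), (nat_lit 8, nat_lit 2)],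
  [(nat_lit 0, nat_lit 2), (nat_lit 2, nat_lit 2), (nat_lit 3, nat_lit 2), (nat_lit 4, nat_lit 2), (nat_lit 5, nat_lit 2), (nat_lit 6, nat_lit 1), (nat_lit 8, nat_lit 1)],
  [(nat_lit 1, nat_lit 3), (nat_lit 2, nat_lit 1), (nat_lit 3, nat_lit 2), (nat_lit 4, nat_lit 1), (nat_lit 5, nat_lit 1), (nat_lit 6, nat_lit 2), (nat_lit 7, nat_lit 1)],
  [(nat_lit 0, nat_lit 2), (nat_lit 1, nat_lit 3), (nat_lit 2, nat_lit 3), (nat_lit 3, nat_lit 1), (nat_lit 4, nat_lit 2), (nat_lit 5, nat_lit 3), (nat_lit 6, nat_lit 2), (nat_lit 7, nat_lit 1), (nat_lit 8, nat_lit 1)],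
  [(nat_lit 0, nat_lit 1), (nat_lit 1, nat_lit 3), (nat_lit 2, nat_lit 1), (nat_lit 3, nat_lit 3), (nat_lit 4, nat_lit 1), (nat_lit 5, nat_lit 3), (nat_lit 6, nat_lit 2), (nat_lit 7, nat_lit 1), (nat_lit 8, nat_lit 1)],
  [(nat_lit 0, nat_lit 3), (nat_lit 1, nat_lit 3), (nat_lit 2, nat_lit 1), (nat_lit 3, nat_lit 2), (nat_lit 4, nat_lit 2), (nat_lit 7, nat_lit 3), (nat_lit 8, nat_lit 1)],
  [(nat_lit 0, nat_lit 3), (nat_lit 1, nat_lit 1), (nat_lit 2, nat_lit 3), (nat_lit 3, nat_lit 3), (nat_lit 4, nat_lit 3)],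
  [(nat_lit 0, nat_lit 1), (nat_lit 2, nat_lit 1), (nat_lit 3, nat_lit 1), (nat_lit 4, nat_lit 1), (nat_lit 5, nat_lit 2), (nat_lit 7, nat_lit 1), (nat_lit 8, nat_lit 1)],
  [(nat_lit 0, nat_lit 3), (nat_lit 1, nat_lit 1), (nat_lit 3, nat_lit 1), (nat_lit 4, nat_lit 1), (nat_lit 5, nat_lit 1), (nat_lit 7, nat_lit 1), (nat_lit 8, nat_lit 1)]]
noncomputable def ms9 : Sp := [[(nat_lit 0, nat_lit 2), (nat_lit 1, nat_lit 2), (nat_lit 2, nat_lit 3), (nat_lit 3, nat_lit 3), (nat_lit 6, nat_lit 2), (nat_lit 7, nat_lit 2), (nat_lit 8, nat_lit 1)],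
  [(nat_lit 0, nat_lit 2), (nat_lit 1, nat_lit 3), (nat_lit 2, nat_lit 2), (nat_lit 4, nat_lit 1), (nat_lit 5, nat_lit 1), (nat_lit 6, nat_lit 1), (nat_lit 8, nat_lit 3)],
  [(nat_lit 0, nat_lit 1), (nat_lit 4, nat_lit 3), (nat_lit 6, nat_lit 3), (nat_lit 7, nat_lit 1), (nat_lit 8, nat_lit 2)],
  [(nat_lit 0, nat_lit 2), (nat_lit 1, nat_lit 3), (nat_lit 2, nat_lit 2), (nat_lit 3, nat_lit 1), (nat_lit 4, nat_lit 2), (nat_lit 6, nat_lit 1), (nat_lit 8, nat_lit 1)],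
  [(nat_lit 1, nat_lit 3), (nat_lit 6, nat_lit 1), (nat_lit 7, nat_lit 2)],
  [(nat_lit 2, nat_lit 1), (nat_lit 3, nat_lit 3), (nat_lit 4, nat_lit 1), (nat_lit 5, nat_lit 3), (nat_lit 8, nat_lit 3)],
  [(nat_lit 0, nat_lit 1), (nat_lit 1, nat_lit 1), (nat_lit 2, nat_lit 2), (nat_lit 3, nat_lit 2), (nat_lit 4, nat_lit 1), (nat_lit 6, nat_lit 1), (nat_lit 7, nat_lit 1)],
  [(nat_lit 0, nat_lit 3), (nat_lit 1, nat_lit 1), (nat_lit 3, nat_lit 2), (nat_lit 4, nat_lit 1), (nat_lit 5, nat_lit 2), (nat_lit 6, nat_lit 2), (nat_lit 8, nat_lit 3)],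
  [(nat_lit 0, nat_lit 1), (nat_lit 1, nat_lit 2), (nat_lit 4, nat_lit 2), (nat_lit 7, nat_lit 1), (nat_lit 8, nat_lit 1)]]
noncomputable def ms10 : Sp := [[(nat_lit 0, nat_lit 3), (nat_lit 1, nat_lit 3), (nat_lit 2, nat_lit 1), (nat_lit 3, nat_lit 3), (nat_lit 6, nat_lit 1), (nat_lit 7, nat_lit 2), (nat_lit 8, nat_lit 1)],
  [(nat_lit 0, nat_lit 3), (nat_lit 1, nat_lit 2), (nat_lit 3, nat_lit 2), (nat_lit 4, nat_lit 2), (nat_lit 6, nat_lit 1), (nat_lit 7, nat_lit 1), (nat_lit 8, nat_lit 3)],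
  [(nat_lit 0, nat_lit 2), (nat_lit 1, nat_lit 3), (nat_lit 3, nat_lit 3), (nat_lit 5, nat_lit 1), (nat_lit 6, nat_lit 3)],
  [(nat_lit 0, nat_lit 2), (nat_lit 3, nat_lit 1), (nat_lit 5, nat_lit 2), (nat_lit 6, nat_lit 3), (nat_lit 7, nat_lit 3)],
  [(nat_lit 1, nat_lit 1), (nat_lit 2, nat_lit 2), (nat_lit 3, nat_lit 3), (nat_lit 5, nat_lit 1), (nat_lit 6, nat_lit 1), (nat_lit 7, nat_lit 1), (nat_lit 8, nat_lit 3)],
  [(nat_lit 1, nat_lit 1), (nat_lit 5, nat_lit 2), (nat_lit 7, nat_lit 3)],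
  [(nat_lit 0, nat_lit 3), (nat_lit 1, nat_lit 1), (nat_lit 2, nat_lit 2), (nat_lit 3, nat_lit 1), (nat_lit 4, nat_lit 1), (nat_lit 6, nat_lit 1), (nat_lit 7, nat_lit 3)],
  [(nat_lit 0, nat_lit 3), (nat_lit 2, nat_lit 1), (nat_lit 4, nat_lit 3), (nat_lit 6, nat_lit 1), (nat_lit 8, nat_lit 1)],
  [(nat_lit 0, nat_lit 1), (nat_lit 1, nat_lit 2), (nat_lit 2, nat_lit 3), (nat_lit 3, nat_lit 1), (nat_lit 5, nat_lit 2), (nat_lit 7, nat_lit 2), (nat_lit 8, nat_lit 1)]]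
noncomputable def ms11 : Sp := [[(nat_lit 1, nat_lit 1), (nat_lit 2, nat_lit 1), (nat_lit 3, nat_lit 1), (nat_lit 4, nat_lit 2), (nat_lit 5, nat_lit 1), (nat_lit 6, nat_lit 3), (nat_lit 7, nat_lit 3)],
  [(nat_lit 0, nat_lit 3), (nat_lit 1, nat_lit 3), (nat_lit 2, nat_lit 1), (nat_lit 3, nat_lit 3), (nat_lit 4, nat_lit 1), (nat_lit 5, nat_lit 1), (nat_lit 7, nat_lit 2)],
  [(nat_lit 0, nat_lit 3), (nat_lit 1, nat_lit 3), (nat_lit 2, nat_lit 3), (nat_lit 3, nat_lit 1), (nat_lit 4, nat_lit 1), (nat_lit 5, nat_lit 2), (nat_lit 6, nat_lit 3), (nat_lit 7, nat_lit 3), (nat_lit 8, nat_lit 1)],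
  [(nat_lit 1, nat_lit 3), (nat_lit 2, nat_lit 2), (nat_lit 4, nat_lit 2), (nat_lit 6, nat_lit 2), (nat_lit 7, nat_lit 2)],
  [(nat_lit 0, nat_lit 3), (nat_lit 1, nat_lit 1), (nat_lit 2, nat_lit 1), (nat_lit 3, nat_lit 3), (nat_lit 4, nat_lit 2), (nat_lit 5, nat_lit 2), (nat_lit 6, nat_lit 1), (nat_lit 7, nat_lit 1), (nat_lit 8, nat_lit 1)],
  [(nat_lit 0, nat_lit 2), (nat_lit 1, nat_lit 1), (nat_lit 4, nat_lit 1), (nat_lit 5, nat_lit 1), (nat_lit 7, nat_lit 2)],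
  [(nat_lit 0, nat_lit 2), (nat_lit 1, nat_lit 3), (nat_lit 2, nat_lit 1), (nat_lit 3, nat_lit 3), (nat_lit 4, nat_lit 1), (nat_lit 5, nat_lit 1), (nat_lit 6, nat_lit 1), (nat_lit 7, nat_lit 3), (nat_lit 8, nat_lit 2)],
  [(nat_lit 0, nat_lit 2), (nat_lit 1, nat_lit 2), (nat_lit 2, nat_lit 3), (nat_lit 4, nat_lit 2), (nat_lit 6, nat_lit 2), (nat_lit 7, nat_lit 2), (nat_lit 8, nat_lit 3)],
  [(nat_lit 0, nat_lit 3), (nat_lit 1, nat_lit 1), (nat_lit 4, nat_lit 1), (nat_lit 5, nat_lit 1), (nat_lit 6, nat_lit 3), (nat_lit 7, nat_lit 1), (nat_lit 8, nat_lit 2)]]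
noncomputable def ms12 : Sp := [[(nat_lit 1, nat_lit 2), (nat_lit 2, nat_lit 2), (nat_lit 4, nat_lit 2), (nat_lit 5, nat_lit 3), (nat_lit 6, nat_lit 3), (nat_lit 7, nat_lit 3), (nat_lit 8, nat_lit 2)],
  [(nat_lit 0, nat_lit 1), (nat_lit 1, nat_lit 2), (nat_lit 2, nat_lit 2), (nat_lit 3, nat_lit 2), (nat_lit 4, nat_lit 1), (nat_lit 5, nat_lit 1), (nat_lit 6, nat_lit 2), (nat_lit 7, nat_lit 3), (nat_lit 8, nat_lit 1)],
  [(nat_lit 0, nat_lit 1), (nat_lit 1, nat_lit 1), (nat_lit 2, nat_lit 2), (nat_lit 3, nat_lit 3), (nat_lit 4, nat_lit 1), (nat_lit 6, nat_lit 1), (nat_lit 7, nat_lit 2)],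
  [(nat_lit 0, nat_lit 1), (nat_lit 1, nat_lit 2), (nat_lit 2, nat_lit 1), (nat_lit 4, nat_lit 2), (nat_lit 6, nat_lit 2)],
  [(nat_lit 0, nat_lit 3), (nat_lit 1, nat_lit 1), (nat_lit 2, nat_lit 1), (nat_lit 3, nat_lit 3), (nat_lit 4, nat_lit 3), (nat_lit 5, nat_lit 1), (nat_lit 6, nat_lit 1), (nat_lit 7, nat_lit 3), (nat_lit 8, nat_lit 1)],
  [(nat_lit 0, nat_lit 1), (nat_lit 1, nat_lit 1), (nat_lit 2, nat_lit 3), (nat_lit 4, nat_lit 3), (nat_lit 5, nat_lit 1), (nat_lit 6, nat_lit 1), (nat_lit 8, nat_lit 1)],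
  [(nat_lit 0, nat_lit 2), (nat_lit 2, nat_lit 2), (nat_lit 3, nat_lit 3), (nat_lit 4, nat_lit 1), (nat_lit 6, nat_lit 1), (nat_lit 7, nat_lit 3), (nat_lit 8, nat_lit 2)],
  [(nat_lit 0, nat_lit 2), (nat_lit 1, nat_lit 3), (nat_lit 2, nat_lit 2), (nat_lit 3, nat_lit 3), (nat_lit 4, nat_lit 1), (nat_lit 5, nat_lit 3), (nat_lit 6, nat_lit 2), (nat_lit 7, nat_lit 3), (nat_lit 8, nat_lit 1)],
  [(nat_lit 2, nat_lit 1), (nat_lit 4, nat_lit 1), (nat_lit 6, nat_lit 3), (nat_lit 7, nat_lit 2), (nat_lit 8, nat_lit 3)]]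
noncomputable def ms13 : Sp := [[(nat_lit 0, nat_lit 2), (nat_lit 3, nat_lit 1), (nat_lit 4, nat_lit 2), (nat_lit 5, nat_lit 1), (nat_lit 6, nat_lit 2), (nat_lit 7, nat_lit 1), (nat_lit 8, nat_lit 1)],
  [(nat_lit 0, nat_lit 1), (nat_lit 1, nat_lit 3), (nat_lit 2, nat_lit 3), (nat_lit 6, nat_lit 2), (nat_lit 7, nat_lit 2)],
  [(nat_lit 0, nat_lit 1), (nat_lit 1, nat_lit 3), (nat_lit 2, nat_lit 1), (nat_lit 3, nat_lit 3), (nat_lit 4, nat_lit 1), (nat_lit 5, nat_lit 2), (nat_lit 6, nat_lit 2), (nat_lit 7, nat_lit 1), (nat_lit 8, nat_lit 1)],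
  [(nat_lit 1, nat_lit 2), (nat_lit 2, nat_lit 2), (nat_lit 4, nat_lit 2), (nat_lit 5, nat_lit 1), (nat_lit 6, nat_lit 1), (nat_lit 7, nat_lit 1), (nat_lit 8, nat_lit 2)],
  [(nat_lit 1, nat_lit 2), (nat_lit 2, nat_lit 2), (nat_lit 3, nat_lit 3), (nat_lit 5, nat_lit 2), (nat_lit 6, nat_lit 1), (nat_lit 7, nat_lit 1), (nat_lit 8, nat_lit 3)],
  [(nat_lit 0, nat_lit 2), (nat_lit 1, nat_lit 3), (nat_lit 2, nat_lit 3), (nat_lit 3, nat_lit 1), (nat_lit 4, nat_lit 2), (nat_lit 5, nat_lit 3), (nat_lit 6, nat_lit 2), (nat_lit 7, nat_lit 1), (nat_lit 8, nat_lit 2)],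
  [(nat_lit 0, nat_lit 1), (nat_lit 2, nat_lit 2), (nat_lit 3, nat_lit 3), (nat_lit 4, nat_lit 1), (nat_lit 6, nat_lit 1), (nat_lit 7, nat_lit 2), (nat_lit 8, nat_lit 2)],
  [(nat_lit 0, nat_lit 3), (nat_lit 1, nat_lit 2), (nat_lit 3, nat_lit 1), (nat_lit 5, nat_lit 3), (nat_lit 6, nat_lit 2), (nat_lit 7, nat_lit 2), (nat_lit 8, nat_lit 3)],
  [(nat_lit 0, nat_lit 3), (nat_lit 1, nat_lit 3), (nat_lit 2, nat_lit 1), (nat_lit 3, nat_lit 1), (nat_lit 5, nat_lit 1), (nat_lit 6, nat_lit 1), (nat_lit 7, nat_lit 1)]]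
noncomputable def ms14 : Sp := [[(nat_lit 0, nat_lit 3), (nat_lit 1, nat_lit 1), (nat_lit 2, nat_lit 1), (nat_lit 5, nat_lit 3), (nat_lit 6, nat_lit 1), (nat_lit 7, nat_lit 2), (nat_lit 8, nat_lit 2)],
  [(nat_lit 1, nat_lit 2), (nat_lit 2, nat_lit 2), (nat_lit 3, nat_lit 3), (nat_lit 4, nat_lit 3), (nat_lit 5, nat_lit 2), (nat_lit 7, nat_lit 3), (nat_lit 8, nat_lit 2)],
  [(nat_lit 1, nat_lit 2), (nat_lit 2, nat_lit 1), (nat_lit 3, nat_lit 3), (nat_lit 4, nat_lit 3), (nat_lit 5, nat_lit 2), (nat_lit 6, nat_lit 3), (nat_lit 8, nat_lit 1)],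
  [(nat_lit 0, nat_lit 1), (nat_lit 2, nat_lit 2), (nat_lit 4, nat_lit 2), (nat_lit 5, nat_lit 1), (nat_lit 6, nat_lit 2), (nat_lit 7, nat_lit 1), (nat_lit 8, nat_lit 1)],
  [(nat_lit 0, nat_lit 3), (nat_lit 2, nat_lit 1), (nat_lit 3, nat_lit 3), (nat_lit 5, nat_lit 3), (nat_lit 6, nat_lit 1)],
  [(nat_lit 0, nat_lit 1), (nat_lit 2, nat_lit 3), (nat_lit 3, nat_lit 1), (nat_lit 4, nat_lit 3), (nat_lit 5, nat_lit 2), (nat_lit 7, nat_lit 2), (nat_lit 8, nat_lit 1)],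
  [(nat_lit 0, nat_lit 3), (nat_lit 1, nat_lit 3), (nat_lit 2, nat_lit 3), (nat_lit 3, nat_lit 1), (nat_lit 4, nat_lit 1), (nat_lit 5, nat_lit 3), (nat_lit 6, nat_lit 1), (nat_lit 7, nat_lit 3), (nat_lit 8, nat_lit 1)],
  [(nat_lit 0, nat_lit 1), (nat_lit 1, nat_lit 3), (nat_lit 2, nat_lit 1), (nat_lit 3, nat_lit 1), (nat_lit 4, nat_lit 1), (nat_lit 5, nat_lit 1), (nat_lit 6, nat_lit 3), (nat_lit 7, nat_lit 3), (nat_lit 8, nat_lit 1)],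
  [(nat_lit 0, nat_lit 1), (nat_lit 2, nat_lit 1), (nat_lit 3, nat_lit 3), (nat_lit 4, nat_lit 2), (nat_lit 5, nat_lit 3), (nat_lit 6, nat_lit 3), (nat_lit 7, nat_lit 2)]]
noncomputable def ms15 : Sp := [[(nat_lit 1, nat_lit 2), (nat_lit 3, nat_lit 2), (nat_lit 4, nat_lit 1), (nat_lit 7, nat_lit 2), (nat_lit 8, nat_lit 3)],
  [(nat_lit 1, nat_lit 2), (nat_lit 3, nat_lit 2), (nat_lit 4, nat_lit 2), (nat_lit 5, nat_lit 3), (nat_lit 8, nat_lit 1)],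
  [(nat_lit 0, nat_lit 1), (nat_lit 1, nat_lit 2), (nat_lit 2, nat_lit 2), (nat_lit 3, nat_lit 2), (nat_lit 6, nat_lit 1)],
  [(nat_lit 1, nat_lit 3), (nat_lit 2, nat_lit 1), (nat_lit 4, nat_lit 1), (nat_lit 5, nat_lit 1), (nat_lit 6, nat_lit 1), (nat_lit 7, nat_lit 3), (nat_lit 8, nat_lit 3)],
  [(nat_lit 2, nat_lit 1), (nat_lit 3, nat_lit 3), (nat_lit 4, nat_lit 1), (nat_lit 5, nat_lit 1), (nat_lit 6, nat_lit 1), (nat_lit 7, nat_lit 3), (nat_lit 8, nat_lit 3)],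
  [(nat_lit 1, nat_lit 2), (nat_lit 2, nat_lit 2), (nat_lit 3, nat_lit 2), (nat_lit 5, nat_lit 1), (nat_lit 6, nat_lit 1), (nat_lit 7, nat_lit 1), (nat_lit 8, nat_lit 2)],
  [(nat_lit 0, nat_lit 1), (nat_lit 1, nat_lit 1), (nat_lit 2, nat_lit 2), (nat_lit 3, nat_lit 1), (nat_lit 5, nat_lit 1), (nat_lit 7, nat_lit 1), (nat_lit 8, nat_lit 2)],
  [(nat_lit 0, nat_lit 2), (nat_lit 1, nat_lit 1), (nat_lit 3, nat_lit 1), (nat_lit 5, nat_lit 2), (nat_lit 6, nat_lit 2), (nat_lit 7, nat_lit 2), (nat_lit 8, nat_lit 3)],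
  [(nat_lit 4, nat_lit 3), (nat_lit 5, nat_lit 1), (nat_lit 7, nat_lit 1)]]
noncomputable def ms16 : Sp := [[(nat_lit 2, nat_lit 2), (nat_lit 6, nat_lit 2), (nat_lit 7, nat_lit 1)],
  [(nat_lit 0, nat_lit 1), (nat_lit 1, nat_lit 1), (nat_lit 2, nat_lit 1), (nat_lit 3, nat_lit 3), (nat_lit 5, nat_lit 1), (nat_lit 6, nat_lit 2), (nat_lit 7, nat_lit 2)],
  [(nat_lit 2, nat_lit 1), (nat_lit 3, nat_lit 2), (nat_lit 4, nat_lit 2), (nat_lit 5, nat_lit 1), (nat_lit 6, nat_lit 1)],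
  [(nat_lit 0, nat_lit 1), (nat_lit 1, nat_lit 1), (nat_lit 2, nat_lit 1), (nat_lit 4, nat_lit 3), (nat_lit 5, nat_lit 1), (nat_lit 6, nat_lit 2), (nat_lit 7, nat_lit 2)],
  [(nat_lit 0, nat_lit 2), (nat_lit 1, nat_lit 1), (nat_lit 3, nat_lit 2), (nat_lit 4, nat_lit 2), (nat_lit 8, nat_lit 3)],
  [(nat_lit 1, nat_lit 3), (nat_lit 3, nat_lit 2), (nat_lit 4, nat_lit 2), (nat_lit 5, nat_lit 2), (nat_lit 6, nat_lit 2), (nat_lit 7, nat_lit 1), (nat_lit 8, nat_lit 2)],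
  [(nat_lit 2, nat_lit 2), (nat_lit 3, nat_lit 2), (nat_lit 4, nat_lit 2), (nat_lit 5, nat_lit 2), (nat_lit 7, nat_lit 1)],
  [(nat_lit 0, nat_lit 1), (nat_lit 3, nat_lit 3), (nat_lit 4, nat_lit 3), (nat_lit 5, nat_lit 2), (nat_lit 6, nat_lit 2), (nat_lit 7, nat_lit 1), (nat_lit 8, nat_lit 2)],
  [(nat_lit 0, nat_lit 3), (nat_lit 1, nat_lit 2), (nat_lit 3, nat_lit 3), (nat_lit 4, nat_lit 3), (nat_lit 5, nat_lit 1), (nat_lit 6, nat_lit 1), (nat_lit 7, nat_lit 3)]]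
noncomputable def ms17 : Sp := [[(nat_lit 3, nat_lit 1), (nat_lit 4, nat_lit 3), (nat_lit 6, nat_lit 1), (nat_lit 7, nat_lit 3), (nat_lit 8, nat_lit 2)],
  [(nat_lit 1, nat_lit 3), (nat_lit 2, nat_lit 3), (nat_lit 3, nat_lit 3), (nat_lit 4, nat_lit 3), (nat_lit 5, nat_lit 2), (nat_lit 6, nat_lit 3), (nat_lit 8, nat_lit 2)],
  [(nat_lit 1, nat_lit 3), (nat_lit 2, nat_lit 3), (nat_lit 3, nat_lit 3), (nat_lit 4, nat_lit 3), (nat_lit 6, nat_lit 2), (nat_lit 7, nat_lit 2), (nat_lit 8, nat_lit 1)],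
  [(nat_lit 0, nat_lit 2), (nat_lit 1, nat_lit 3), (nat_lit 2, nat_lit 3), (nat_lit 3, nat_lit 3), (nat_lit 4, nat_lit 1), (nat_lit 5, nat_lit 1), (nat_lit 6, nat_lit 1), (nat_lit 7, nat_lit 1), (nat_lit 8, nat_lit 3)],
  [(nat_lit 0, nat_lit 3), (nat_lit 1, nat_lit 3), (nat_lit 2, nat_lit 3), (nat_lit 3, nat_lit 2), (nat_lit 4, nat_lit 3), (nat_lit 5, nat_lit 1), (nat_lit 6, nat_lit 3)],
  [(nat_lit 1, nat_lit 1), (nat_lit 3, nat_lit 2), (nat_lit 4, nat_lit 2), (nat_lit 7, nat_lit 2), (nat_lit 8, nat_lit 3)],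
  [(nat_lit 0, nat_lit 2), (nat_lit 1, nat_lit 3), (nat_lit 2, nat_lit 1), (nat_lit 3, nat_lit 2), (nat_lit 4, nat_lit 3), (nat_lit 7, nat_lit 1), (nat_lit 8, nat_lit 2)],
  [(nat_lit 0, nat_lit 3), (nat_lit 2, nat_lit 1), (nat_lit 3, nat_lit 2), (nat_lit 5, nat_lit 1), (nat_lit 6, nat_lit 2), (nat_lit 7, nat_lit 3), (nat_lit 8, nat_lit 2)],
  [(nat_lit 0, nat_lit 1), (nat_lit 1, nat_lit 1), (nat_lit 2, nat_lit 2), (nat_lit 3, nat_lit 3), (nat_lit 5, nat_lit 3), (nat_lit 6, nat_lit 1), (nat_lit 7, nat_lit 1)]]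
noncomputable def ms18 : Sp := [[(nat_lit 3, nat_lit 1), (nat_lit 4, nat_lit 1), (nat_lit 5, nat_lit 2), (nat_lit 6, nat_lit 3), (nat_lit 7, nat_lit 3)],
  [(nat_lit 1, nat_lit 3), (nat_lit 2, nat_lit 2), (nat_lit 3, nat_lit 3), (nat_lit 5, nat_lit 1), (nat_lit 6, nat_lit 2), (nat_lit 7, nat_lit 2), (nat_lit 8, nat_lit 3)],
  [(nat_lit 1, nat_lit 1), (nat_lit 2, nat_lit 3), (nat_lit 3, nat_lit 3), (nat_lit 4, nat_lit 3), (nat_lit 6, nat_lit 3), (nat_lit 7, nat_lit 3), (nat_lit 8, nat_lit 3)],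
  [(nat_lit 0, nat_lit 2), (nat_lit 1, nat_lit 3), (nat_lit 2, nat_lit 3), (nat_lit 4, nat_lit 1), (nat_lit 6, nat_lit 1), (nat_lit 7, nat_lit 2), (nat_lit 8, nat_lit 3)],
  [(nat_lit 0, nat_lit 2), (nat_lit 2, nat_lit 3), (nat_lit 3, nat_lit 2), (nat_lit 5, nat_lit 3), (nat_lit 6, nat_lit 1), (nat_lit 7, nat_lit 1), (nat_lit 8, nat_lit 1)],
  [(nat_lit 0, nat_lit 1), (nat_lit 1, nat_lit 2), (nat_lit 4, nat_lit 3), (nat_lit 5, nat_lit 3), (nat_lit 6, nat_lit 2), (nat_lit 7, nat_lit 1), (nat_lit 8, nat_lit 1)],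
  [(nat_lit 0, nat_lit 3), (nat_lit 1, nat_lit 1), (nat_lit 2, nat_lit 3), (nat_lit 3, nat_lit 2), (nat_lit 4, nat_lit 2), (nat_lit 5, nat_lit 1), (nat_lit 6, nat_lit 3), (nat_lit 7, nat_lit 1), (nat_lit 8, nat_lit 2)],
  [(nat_lit 0, nat_lit 3), (nat_lit 1, nat_lit 1), (nat_lit 2, nat_lit 3), (nat_lit 3, nat_lit 1), (nat_lit 4, nat_lit 2), (nat_lit 5, nat_lit 2), (nat_lit 6, nat_lit 2), (nat_lit 7, nat_lit 3), (nat_lit 8, nat_lit 2)],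
  [(nat_lit 1, nat_lit 3), (nat_lit 2, nat_lit 3), (nat_lit 3, nat_lit 3), (nat_lit 4, nat_lit 2), (nat_lit 5, nat_lit 2), (nat_lit 6, nat_lit 1), (nat_lit 7, nat_lit 1)]]
noncomputable def MS : Tr Sp := (.node (nat_lit 9) (.node (nat_lit 4) (.node (nat_lit 2) (.node (nat_lit 1) (.leaf ms0) (.leaf ms1)) (.node (nat_lit 3) (.leaf ms2) (.leaf ms3)))
 (.node (nat_lit 6) (.node (nat_lit 5) (.leaf ms4) (.leaf ms5)) (.node (nat_lit 7) (.leaf ms6) (.node (nat_lit 8) (.leaf ms7) (.leaf ms8)))))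
 (.node (nat_lit 14) (.node (nat_lit 11) (.node (nat_lit 10) (.leaf ms9) (.leaf ms10)) (.node (nat_lit 12) (.leaf ms11) (.node (nat_lit 13) (.leaf ms12) (.leaf ms13))))
 (.node (nat_lit 16) (.node (nat_lit 15) (.leaf ms14) (.leaf ms15)) (.node (nat_lit 17) (.leaf ms16) (.node (nat_lit 18) (.leaf ms17) (.leaf ms18))))))
noncomputable def MD : Tr (List ℕ) := (.node (nat_lit 9) (.node (nat_lit 4) (.node (nat_lit 2) (.node (nat_lit 1) (.leaf []) (.leaf [])) (.node (nat_lit 3) (.leaf [nat_lit 1, nat_lit 1, nat_lit 1, nat_lit 1]) (.leaf [nat_lit 2, nat_lit 2, nat_lit 2, nat_lit 2])))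
 (.node (nat_lit 6) (.node (nat_lit 5) (.leaf [nat_lit 3, nat_lit 0, nat_lit 3, nat_lit 3, nat_lit 0, nat_lit 1, nat_lit 0, nat_lit 1, nat_lit 1, nat_lit 0, nat_lit 1, nat_lit 0, nat_lit 3, nat_lit 3, nat_lit 0]) (.leaf [nat_lit 0, nat_lit 1, nat_lit 1, nat_lit 0, nat_lit 3, nat_lit 0, nat_lit 3, nat_lit 3, nat_lit 0, nat_lit 3, nat_lit 0, nat_lit 1, nat_lit 1, nat_lit 0, nat_lit 1])) (.node (nat_lit 7) (.leaf [nat_lit 0, nat_lit 1, nat_lit 0, nat_lit 1, nat_lit 1, nat_lit 1, nat_lit 0, nat_lit 1, nat_lit 1, nat_lit 0, nat_lit 3, nat_lit 0, nat_lit 3, nat_lit 3, nat_lit 0, nat_lit 1, nat_lit 1, nat_lit 1, nat_lit 1, nat_lit 1, nat_lit 0, nat_lit 3, nat_lit 0, nat_lit 3, nat_lit 0, nat_lit 3]) (.node (nat_lit 8) (.leaf [nat_lit 6, nat_lit 6, nat_lit 6, nat_lit 6]) (.leaf [nat_lit 3, nat_lit 3, nat_lit 0, nat_lit 1, nat_lit 0, nat_lit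 3, nat_lit 0, nat_lit 1, nat_lit 1])))))
 (.node (nat_lit 14) (.node (nat_lit 11) (.node (nat_lit 10) (.leaf [nat_lit 4, nat_lit 4, nat_lit 7, nat_lit 5, nat_lit 6, nat_lit 5, nat_lit 8, nat_lit 4, nat_lit 7]) (.leaf [nat_lit 6, nat_lit 5, nat_lit 8, nat_lit 4, nat_lit 7, nat_lit 4, nat_lit 6, nat_lit 5, nat_lit 5])) (.node (nat_lit 12) (.leaf [nat_lit 6, nat_lit 4, nat_lit 6, nat_lit 8, nat_lit 5, nat_lit 6, nat_lit 5]) (.node (nat_lit 13) (.leaf [nat_lit 4, nat_lit 7, nat_lit 4, nat_lit 8, nat_lit 7, nat_lit 5, nat_lit 7]) (.leaf [nat_lit 11, nat_lit 10, nat_lit 12, nat_lit 9]))))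
 (.node (nat_lit 16) (.node (nat_lit 15) (.leaf [nat_lit 10, nat_lit 12, nat_lit 12, nat_lit 10]) (.leaf [nat_lit 11, nat_lit 10, nat_lit 12])) (.node (nat_lit 17) (.leaf [nat_lit 15, nat_lit 15, nat_lit 15]) (.node (nat_lit 18) (.leaf [nat_lit 6, nat_lit 8, nat_lit 11, nat_lit 10, nat_lit 12]) (.leaf [nat_lit 8, nat_lit 3, nat_lit 5, nat_lit 5, nat_lit 3, nat_lit 8, nat_lit 9, nat_lit 5, nat_lit 11, nat_lit 9, nat_lit 11, nat_lit 10, nat_lit 12, nat_lit 10]))))))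
noncomputable def MI : Tr ℕ := (.node (nat_lit 3) (.node (nat_lit 1) (.leaf (nat_lit 13)) (.node (nat_lit 2) (.leaf (nat_lit 14)) (.leaf (nat_lit 15)))) (.node (nat_lit 4) (.leaf (nat_lit 16)) (.node (nat_lit 5) (.leaf (nat_lit 17)) (.leaf (nat_lit 18)))))
noncomputable def MT : Tr Sp := MI.map MS.get
theorem mslp : mslpR C4 9 MS MD 2 17 = true := by decide +kernel
theorem msel : MI.all (fun j => Nat.ble (Nat.succ j) (2 + 17)) = true := by decide +kernel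
noncomputable def RZ : Tr ℕ := (.node (nat_lit 12) (.node (nat_lit 6) (.node (nat_lit 3) (.node (nat_lit 1) (.leaf (nat_lit 1)) (.node (nat_lit 2) (.leaf (nat_lit 1)) (.leaf (nat_lit 2)))) (.node (nat_lit 4) (.leaf (nat_lit 1)) (.node (nat_lit 5) (.leaf (nat_lit 3)) (.leaf (nat_lit 2))))) (.node (nat_lit 9) (.node (nat_lit 7) (.leaf (nat_lit 1)) (.node (nat_lit 8) (.leaf (nat_lit 1)) (.leaf (nat_lit 3)))) (.node (nat_lit 10) (.leaf (nat_lit 1)) (.node (nat_lit 11) (.leaf (nat_lit 2)) (.leaf (nat_lit 1)))))) (.node (nat_lit 18) (.node (nat_lit 15) (.node (nat_lit 13) (.leaf (nat_lit 1)) (.node (nat_lit 14) (.leaf (nat_lit 2)) (.leaf (nat_lit 1)))) (.node (nat_lit 16) (.leaf (nat_lit 1)) (.node (nat_lit 17) (.leaf (nat_lit 2)) (.leaf (nat_lit 3))))) (.node (nat_lit 21) (.node (nat_lit 19) (.leaf (nat_lit 3)) (.node (nat_lit 20) (.leaf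 (nat_lit 2)) (.leaf (nat_lit 2))))
 (.node (nat_lit 23) (.node (nat_lit 22) (.leaf (nat_lit 2)) (.leaf (nat_lit 1))) (.node (nat_lit 24) (.leaf (nat_lit 2)) (.leaf (nat_lit 2)))))))
theorem mrel : RL.all2 (fun w c => scalW C4 9 MT (mpT MT w) c []) RZ = true := by decide +kernel
theorem mz : scalW C4 9 MT (mpT MT (RL.get 2)) 2 [] = true := by decide +kernel
theorem mns : 0 < 9 ∧ 3 < 9 ∧ 0 ≠ 3 ∧ C4.eqv (C4.ent (MT.get 0) 0 3) 0 = false := by decide +kernel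
noncomputable def GM : Tr Sp := (.node (nat_lit 23) (.node (nat_lit 11) (.node (nat_lit 5) (.node (nat_lit 2) (.node (nat_lit 1) (.leaf [[(nat_lit 0, nat_lit 1)],
  [(nat_lit 1, nat_lit 1)],
  [(nat_lit 2, nat_lit 1)],
  [(nat_lit 3, nat_lit 1)],
  [(nat_lit 4, nat_lit 1)],
  [(nat_lit 5, nat_lit 1)],
  [(nat_lit 6, nat_lit 1)],
  [(nat_lit 7, nat_lit 1)],
  [(nat_lit 8, nat_lit 1)]]) (.leaf [[(nat_lit 0, nat_lit 1)],
  [(nat_lit 1, nat_lit 2)],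
  [(nat_lit 2, nat_lit 3)],
  [(nat_lit 3, nat_lit 1)],
  [(nat_lit 4, nat_lit 2)],
  [(nat_lit 5, nat_lit 3)],
  [(nat_lit 6, nat_lit 1)],
  [(nat_lit 7, nat_lit 2)],
  [(nat_lit 8, nat_lit 3)]])) (.node (nat_lit 3) (.leaf [[(nat_lit 0, nat_lit 1)],
  [(nat_lit 1, nat_lit 3)],
  [(nat_lit 2, nat_lit 2)],
  [(nat_lit 3, nat_lit 1)],
  [(nat_lit 4, nat_lit 3)],
  [(nat_lit 5, nat_lit 2)],
  [(nat_lit 6, nat_lit 1)],
  [(nat_lit 7, nat_lit 3)],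
  [(nat_lit 8, nat_lit 2)]]) (.node (nat_lit 4) (.leaf [[(nat_lit 0, nat_lit 1)],
  [(nat_lit 1, nat_lit 1)],
  [(nat_lit 2, nat_lit 1)],
  [(nat_lit 3, nat_lit 2)],
  [(nat_lit 4, nat_lit 2)],
  [(nat_lit 5, nat_lit 2)],
  [(nat_lit 6, nat_lit 3)],
  [(nat_lit 7, nat_lit 3)],
  [(nat_lit 8, nat_lit 3)]]) (.leaf [[(nat_lit 0, nat_lit 1)],
  [(nat_lit 1, nat_lit 2)],
  [(nat_lit 2, nat_lit 3)],
  [(nat_lit 3, nat_lit 2)],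
  [(nat_lit 4, nat_lit 3)],
  [(nat_lit 5, nat_lit 1)],
  [(nat_lit 6, nat_lit 3)],
  [(nat_lit 7, nat_lit 1)],
  [(nat_lit 8, nat_lit 2)]]))))
 (.node (nat_lit 8) (.node (nat_lit 6) (.leaf [[(nat_lit 0, nat_lit 1)],
  [(nat_lit 1, nat_lit 3)],
  [(nat_lit 2, nat_lit 2)],
  [(nat_lit 3, nat_lit 2)],
  [(nat_lit 4, nat_lit 1)],
  [(nat_lit 5, nat_lit 3)],
  [(nat_lit 6, nat_lit 3)],
  [(nat_lit 7, nat_lit 2)],
  [(nat_lit 8, nat_lit 1)]]) (.node (nat_lit 7) (.leaf [[(nat_lit 0, nat_lit 1)],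
  [(nat_lit 1, nat_lit 1)],
  [(nat_lit 2, nat_lit 1)],
  [(nat_lit 3, nat_lit 3)],
  [(nat_lit 4, nat_lit 3)],
  [(nat_lit 5, nat_lit 3)],
  [(nat_lit 6, nat_lit 2)],
  [(nat_lit 7, nat_lit 2)],
  [(nat_lit 8, nat_lit 2)]]) (.leaf [[(nat_lit 0, nat_lit 1)],
  [(nat_lit 1, nat_lit 2)],
  [(nat_lit 2, nat_lit 3)],
  [(nat_lit 3, nat_lit 3)],
  [(nat_lit 4, nat_lit 1)],
  [(nat_lit 5, nat_lit 2)],
  [(nat_lit 6, nat_lit 2)],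
  [(nat_lit 7, nat_lit 3)],
  [(nat_lit 8, nat_lit 1)]]))) (.node (nat_lit 9) (.leaf [[(nat_lit 0, nat_lit 1)],
  [(nat_lit 1, nat_lit 3)],
  [(nat_lit 2, nat_lit 2)],
  [(nat_lit 3, nat_lit 3)],
  [(nat_lit 4, nat_lit 2)],
  [(nat_lit 5, nat_lit 1)],
  [(nat_lit 6, nat_lit 2)],
  [(nat_lit 7, nat_lit 1)],
  [(nat_lit 8, nat_lit 3)]]) (.node (nat_lit 10) (.leaf [[(nat_lit 0, nat_lit 1)],
  [(nat_lit 1, nat_lit 2)],
  [(nat_lit 2, nat_lit 2)],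
  [(nat_lit 3, nat_lit 2)],
  [(nat_lit 4, nat_lit 3)],
  [(nat_lit 5, nat_lit 3)],
  [(nat_lit 6, nat_lit 2)],
  [(nat_lit 7, nat_lit 3)],
  [(nat_lit 8, nat_lit 3)]]) (.leaf [[(nat_lit 0, nat_lit 2)],
  [(nat_lit 1, nat_lit 1)],
  [(nat_lit 2, nat_lit 2)],
  [(nat_lit 3, nat_lit 3)],
  [(nat_lit 4, nat_lit 2)],
  [(nat_lit 5, nat_lit 3)],
  [(nat_lit 6, nat_lit 3)],
  [(nat_lit 7, nat_lit 2)],
  [(nat_lit 8, nat_lit 3)]])))))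
 (.node (nat_lit 17) (.node (nat_lit 14) (.node (nat_lit 12) (.leaf [[(nat_lit 0, nat_lit 2)],
  [(nat_lit 1, nat_lit 2)],
  [(nat_lit 2, nat_lit 1)],
  [(nat_lit 3, nat_lit 3)],
  [(nat_lit 4, nat_lit 3)],
  [(nat_lit 5, nat_lit 2)],
  [(nat_lit 6, nat_lit 3)],
  [(nat_lit 7, nat_lit 3)],
  [(nat_lit 8, nat_lit 2)]]) (.node (nat_lit 13) (.leaf [[(nat_lit 0, nat_lit 2)],
  [(nat_lit 1, nat_lit 3)],
  [(nat_lit 2, nat_lit 3)],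
  [(nat_lit 3, nat_lit 1)],
  [(nat_lit 4, nat_lit 2)],
  [(nat_lit 5, nat_lit 2)],
  [(nat_lit 6, nat_lit 2)],
  [(nat_lit 7, nat_lit 3)],
  [(nat_lit 8, nat_lit 3)]]) (.leaf [[(nat_lit 0, nat_lit 3)],
  [(nat_lit 1, nat_lit 2)],
  [(nat_lit 2, nat_lit 3)],
  [(nat_lit 3, nat_lit 2)],
  [(nat_lit 4, nat_lit 1)],
  [(nat_lit 5, nat_lit 2)],
  [(nat_lit 6, nat_lit 3)],
  [(nat_lit 7, nat_lit 2)],
  [(nat_lit 8, nat_lit 3)]]))) (.node (nat_lit 15) (.leaf [[(nat_lit 0, nat_lit 3)],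
  [(nat_lit 1, nat_lit 3)],
  [(nat_lit 2, nat_lit 2)],
  [(nat_lit 3, nat_lit 2)],
  [(nat_lit 4, nat_lit 2)],
  [(nat_lit 5, nat_lit 1)],
  [(nat_lit 6, nat_lit 3)],
  [(nat_lit 7, nat_lit 3)],
  [(nat_lit 8, nat_lit 2)]]) (.node (nat_lit 16) (.leaf [[(nat_lit 0, nat_lit 2)],
  [(nat_lit 1, nat_lit 3)],
  [(nat_lit 2, nat_lit 3)],
  [(nat_lit 3, nat_lit 2)],
  [(nat_lit 4, nat_lit 3)],
  [(nat_lit 5, nat_lit 3)],
  [(nat_lit 6, nat_lit 1)],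
  [(nat_lit 7, nat_lit 2)],
  [(nat_lit 8, nat_lit 2)]]) (.leaf [[(nat_lit 0, nat_lit 3)],
  [(nat_lit 1, nat_lit 2)],
  [(nat_lit 2, nat_lit 3)],
  [(nat_lit 3, nat_lit 3)],
  [(nat_lit 4, nat_lit 2)],
  [(nat_lit 5, nat_lit 3)],
  [(nat_lit 6, nat_lit 2)],
  [(nat_lit 7, nat_lit 1)],
  [(nat_lit 8, nat_lit 2)]]))))
 (.node (nat_lit 20) (.node (nat_lit 18) (.leaf [[(nat_lit 0, nat_lit 3)],
  [(nat_lit 1, nat_lit 3)],
  [(nat_lit 2, nat_lit 2)],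
  [(nat_lit 3, nat_lit 3)],
  [(nat_lit 4, nat_lit 3)],
  [(nat_lit 5, nat_lit 2)],
  [(nat_lit 6, nat_lit 2)],
  [(nat_lit 7, nat_lit 2)],
  [(nat_lit 8, nat_lit 1)]]) (.node (nat_lit 19) (.leaf [[(nat_lit 0, nat_lit 1)],
  [(nat_lit 1, nat_lit 1)],
  [(nat_lit 2, nat_lit 1)],
  [(nat_lit 3, nat_lit 1)],
  [(nat_lit 4, nat_lit 1)],
  [(nat_lit 5, nat_lit 1)],
  [(nat_lit 6, nat_lit 1)],
  [(nat_lit 7, nat_lit 1)],
  [(nat_lit 8, nat_lit 1)]]) (.leaf [[(nat_lit 2, nat_lit 1)],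
  [(nat_lit 0, nat_lit 1)],
  [(nat_lit 1, nat_lit 1)],
  [(nat_lit 5, nat_lit 1)],
  [(nat_lit 3, nat_lit 1)],
  [(nat_lit 4, nat_lit 2)],
  [(nat_lit 8, nat_lit 1)],
  [(nat_lit 6, nat_lit 1)],
  [(nat_lit 7, nat_lit 3)]]))) (.node (nat_lit 21) (.leaf [[(nat_lit 1, nat_lit 1)],
  [(nat_lit 2, nat_lit 1)],
  [(nat_lit 0, nat_lit 1)],
  [(nat_lit 4, nat_lit 1)],
  [(nat_lit 5, nat_lit 3)],
  [(nat_lit 3, nat_lit 1)],
  [(nat_lit 7, nat_lit 1)],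
  [(nat_lit 8, nat_lit 2)],
  [(nat_lit 6, nat_lit 1)]]) (.node (nat_lit 22) (.leaf [[(nat_lit 6, nat_lit 1)],
  [(nat_lit 7, nat_lit 1)],
  [(nat_lit 8, nat_lit 1)],
  [(nat_lit 0, nat_lit 1)],
  [(nat_lit 1, nat_lit 1)],
  [(nat_lit 2, nat_lit 1)],
  [(nat_lit 3, nat_lit 1)],
  [(nat_lit 4, nat_lit 3)],
  [(nat_lit 5, nat_lit 2)]]) (.leaf [[(nat_lit 8, nat_lit 1)],
  [(nat_lit 6, nat_lit 2)],
  [(nat_lit 7, nat_lit 1)],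
  [(nat_lit 2, nat_lit 3)],
  [(nat_lit 0, nat_lit 1)],
  [(nat_lit 1, nat_lit 1)],
  [(nat_lit 5, nat_lit 1)],
  [(nat_lit 3, nat_lit 1)],
  [(nat_lit 4, nat_lit 1)]]))))))
 (.node (nat_lit 35) (.node (nat_lit 29) (.node (nat_lit 26) (.node (nat_lit 24) (.leaf [[(nat_lit 7, nat_lit 1)],
  [(nat_lit 8, nat_lit 1)],
  [(nat_lit 6, nat_lit 3)],
  [(nat_lit 1, nat_lit 2)],
  [(nat_lit 2, nat_lit 1)],
  [(nat_lit 0, nat_lit 1)],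
  [(nat_lit 4, nat_lit 1)],
  [(nat_lit 5, nat_lit 1)],
  [(nat_lit 3, nat_lit 1)]]) (.node (nat_lit 25) (.leaf [[(nat_lit 3, nat_lit 1)],
  [(nat_lit 4, nat_lit 1)],
  [(nat_lit 5, nat_lit 1)],
  [(nat_lit 6, nat_lit 1)],
  [(nat_lit 7, nat_lit 2)],
  [(nat_lit 8, nat_lit 3)],
  [(nat_lit 0, nat_lit 1)],
  [(nat_lit 1, nat_lit 1)],
  [(nat_lit 2, nat_lit 1)]]) (.leaf [[(nat_lit 5, nat_lit 1)],
  [(nat_lit 3, nat_lit 3)],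
  [(nat_lit 4, nat_lit 1)],
  [(nat_lit 8, nat_lit 1)],
  [(nat_lit 6, nat_lit 1)],
  [(nat_lit 7, nat_lit 1)],
  [(nat_lit 2, nat_lit 2)],
  [(nat_lit 0, nat_lit 1)],
  [(nat_lit 1, nat_lit 1)]]))) (.node (nat_lit 27) (.leaf [[(nat_lit 4, nat_lit 1)],
  [(nat_lit 5, nat_lit 1)],
  [(nat_lit 3, nat_lit 2)],
  [(nat_lit 7, nat_lit 1)],
  [(nat_lit 8, nat_lit 1)],
  [(nat_lit 6, nat_lit 1)],
  [(nat_lit 1, nat_lit 3)],
  [(nat_lit 2, nat_lit 1)],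
  [(nat_lit 0, nat_lit 1)]]) (.node (nat_lit 28) (.leaf [[(nat_lit 0, nat_lit 1)],
  [(nat_lit 1, nat_lit 1)],
  [(nat_lit 2, nat_lit 1)],
  [(nat_lit 3, nat_lit 1)],
  [(nat_lit 4, nat_lit 1)],
  [(nat_lit 5, nat_lit 1)],
  [(nat_lit 6, nat_lit 1)],
  [(nat_lit 7, nat_lit 1)],
  [(nat_lit 8, nat_lit 1)]]) (.leaf [[(nat_lit 0, nat_lit 1)],
  [(nat_lit 1, nat_lit 1)],
  [(nat_lit 2, nat_lit 1)],
  [(nat_lit 3, nat_lit 1)],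
  [(nat_lit 4, nat_lit 1)],
  [(nat_lit 5, nat_lit 1)],
  [(nat_lit 6, nat_lit 1)],
  [(nat_lit 7, nat_lit 1)],
  [(nat_lit 8, nat_lit 1)]]))))
 (.node (nat_lit 32) (.node (nat_lit 30) (.leaf [[(nat_lit 0, nat_lit 1)],
  [(nat_lit 2, nat_lit 1)],
  [(nat_lit 1, nat_lit 1)],
  [(nat_lit 6, nat_lit 1)],
  [(nat_lit 8, nat_lit 1)],
  [(nat_lit 7, nat_lit 1)],
  [(nat_lit 3, nat_lit 1)],
  [(nat_lit 5, nat_lit 1)],
  [(nat_lit 4, nat_lit 1)]]) (.node (nat_lit 31) (.leaf [[(nat_lit 0, nat_lit 1)],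
  [(nat_lit 6, nat_lit 1)],
  [(nat_lit 3, nat_lit 1)],
  [(nat_lit 1, nat_lit 1)],
  [(nat_lit 7, nat_lit 1)],
  [(nat_lit 4, nat_lit 1)],
  [(nat_lit 2, nat_lit 1)],
  [(nat_lit 8, nat_lit 1)],
  [(nat_lit 5, nat_lit 1)]]) (.leaf [[(nat_lit 0, nat_lit 1)],
  [(nat_lit 5, nat_lit 1)],
  [(nat_lit 7, nat_lit 1)],
  [(nat_lit 8, nat_lit 1)],
  [(nat_lit 1, nat_lit 1)],
  [(nat_lit 3, nat_lit 1)],
  [(nat_lit 4, nat_lit 1)],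
  [(nat_lit 6, nat_lit 1)],
  [(nat_lit 2, nat_lit 1)]]))) (.node (nat_lit 33) (.leaf [[(nat_lit 0, nat_lit 1)],
  [(nat_lit 4, nat_lit 1)],
  [(nat_lit 8, nat_lit 1)],
  [(nat_lit 5, nat_lit 1)],
  [(nat_lit 6, nat_lit 1)],
  [(nat_lit 1, nat_lit 1)],
  [(nat_lit 7, nat_lit 1)],
  [(nat_lit 2, nat_lit 1)],
  [(nat_lit 3, nat_lit 1)]]) (.node (nat_lit 34) (.leaf [[(nat_lit 0, nat_lit 1)],
  [(nat_lit 3, nat_lit 1)],
  [(nat_lit 6, nat_lit 1)],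
  [(nat_lit 2, nat_lit 1)],
  [(nat_lit 5, nat_lit 1)],
  [(nat_lit 8, nat_lit 1)],
  [(nat_lit 1, nat_lit 1)],
  [(nat_lit 4, nat_lit 1)],
  [(nat_lit 7, nat_lit 1)]]) (.leaf [[(nat_lit 0, nat_lit 1)],
  [(nat_lit 8, nat_lit 1)],
  [(nat_lit 4, nat_lit 1)],
  [(nat_lit 7, nat_lit 1)],
  [(nat_lit 3, nat_lit 1)],
  [(nat_lit 2, nat_lit 1)],
  [(nat_lit 5, nat_lit 1)],
  [(nat_lit 1, nat_lit 1)],
  [(nat_lit 6, nat_lit 1)]])))))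
 (.node (nat_lit 41) (.node (nat_lit 38) (.node (nat_lit 36) (.leaf [[(nat_lit 0, nat_lit 1)],
  [(nat_lit 7, nat_lit 1)],
  [(nat_lit 5, nat_lit 1)],
  [(nat_lit 4, nat_lit 1)],
  [(nat_lit 2, nat_lit 1)],
  [(nat_lit 6, nat_lit 1)],
  [(nat_lit 8, nat_lit 1)],
  [(nat_lit 3, nat_lit 1)],
  [(nat_lit 1, nat_lit 1)]]) (.node (nat_lit 37) (.leaf [[(nat_lit 0, nat_lit 1)],
  [(nat_lit 1, nat_lit 1)],
  [(nat_lit 2, nat_lit 1)],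
  [(nat_lit 3, nat_lit 1)],
  [(nat_lit 4, nat_lit 1)],
  [(nat_lit 5, nat_lit 1)],
  [(nat_lit 6, nat_lit 1)],
  [(nat_lit 7, nat_lit 1)],
  [(nat_lit 8, nat_lit 1)]]) (.leaf [[(nat_lit 0, nat_lit 1)],
  [(nat_lit 2, nat_lit 1), (nat_lit 3, nat_lit 1), (nat_lit 6, nat_lit 1)],
  [(nat_lit 1, nat_lit 1), (nat_lit 3, nat_lit 1), (nat_lit 6, nat_lit 1)],
  [(nat_lit 1, nat_lit 1), (nat_lit 2, nat_lit 1), (nat_lit 3, nat_lit 1)],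
  [(nat_lit 4, nat_lit 1), (nat_lit 7, nat_lit 1), (nat_lit 8, nat_lit 1)],
  [(nat_lit 5, nat_lit 1), (nat_lit 7, nat_lit 1), (nat_lit 8, nat_lit 1)],
  [(nat_lit 1, nat_lit 1), (nat_lit 2, nat_lit 1), (nat_lit 6, nat_lit 1)],
  [(nat_lit 4, nat_lit 1), (nat_lit 5, nat_lit 1), (nat_lit 7, nat_lit 1)],
  [(nat_lit 4, nat_lit 1), (nat_lit 5, nat_lit 1), (nat_lit 8, nat_lit 1)]]))) (.node (nat_lit 39) (.leaf [[(nat_lit 0, nat_lit 1)],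
  [(nat_lit 1, nat_lit 1), (nat_lit 3, nat_lit 1), (nat_lit 6, nat_lit 1)],
  [(nat_lit 2, nat_lit 1), (nat_lit 3, nat_lit 1), (nat_lit 6, nat_lit 1)],
  [(nat_lit 1, nat_lit 1), (nat_lit 2, nat_lit 1), (nat_lit 6, nat_lit 1)],
  [(nat_lit 4, nat_lit 1), (nat_lit 5, nat_lit 1), (nat_lit 8, nat_lit 1)],
  [(nat_lit 4, nat_lit 1), (nat_lit 5, nat_lit 1), (nat_lit 7, nat_lit 1)],
  [(nat_lit 1, nat_lit 1), (nat_lit 2, nat_lit 1), (nat_lit 3, nat_lit 1)],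
  [(nat_lit 5, nat_lit 1), (nat_lit 7, nat_lit 1), (nat_lit 8, nat_lit 1)],
  [(nat_lit 4, nat_lit 1), (nat_lit 7, nat_lit 1), (nat_lit 8, nat_lit 1)]]) (.node (nat_lit 40) (.leaf [[(nat_lit 0, nat_lit 1)],
  [(nat_lit 1, nat_lit 1), (nat_lit 2, nat_lit 1), (nat_lit 6, nat_lit 1)],
  [(nat_lit 1, nat_lit 1), (nat_lit 2, nat_lit 1), (nat_lit 3, nat_lit 1)],
  [(nat_lit 2, nat_lit 1), (nat_lit 3, nat_lit 1), (nat_lit 6, nat_lit 1)],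
  [(nat_lit 4, nat_lit 1), (nat_lit 5, nat_lit 1), (nat_lit 7, nat_lit 1)],
  [(nat_lit 4, nat_lit 1), (nat_lit 7, nat_lit 1), (nat_lit 8, nat_lit 1)],
  [(nat_lit 1, nat_lit 1), (nat_lit 3, nat_lit 1), (nat_lit 6, nat_lit 1)],
  [(nat_lit 4, nat_lit 1), (nat_lit 5, nat_lit 1), (nat_lit 8, nat_lit 1)],
  [(nat_lit 5, nat_lit 1), (nat_lit 7, nat_lit 1), (nat_lit 8, nat_lit 1)]]) (.leaf [[(nat_lit 0, nat_lit 1)],
  [(nat_lit 5, nat_lit 1), (nat_lit 7, nat_lit 1), (nat_lit 8, nat_lit 1)],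
  [(nat_lit 4, nat_lit 1), (nat_lit 5, nat_lit 1), (nat_lit 7, nat_lit 1)],
  [(nat_lit 4, nat_lit 1), (nat_lit 5, nat_lit 1), (nat_lit 8, nat_lit 1)],
  [(nat_lit 2, nat_lit 1), (nat_lit 3, nat_lit 1), (nat_lit 6, nat_lit 1)],
  [(nat_lit 1, nat_lit 1), (nat_lit 2, nat_lit 1), (nat_lit 3, nat_lit 1)],
  [(nat_lit 4, nat_lit 1), (nat_lit 7, nat_lit 1), (nat_lit 8, nat_lit 1)],
  [(nat_lit 1, nat_lit 1), (nat_lit 2, nat_lit 1), (nat_lit 6, nat_lit 1)],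
  [(nat_lit 1, nat_lit 1), (nat_lit 3, nat_lit 1), (nat_lit 6, nat_lit 1)]]))))
 (.node (nat_lit 44) (.node (nat_lit 42) (.leaf [[(nat_lit 0, nat_lit 1)],
  [(nat_lit 4, nat_lit 1), (nat_lit 7, nat_lit 1), (nat_lit 8, nat_lit 1)],
  [(nat_lit 4, nat_lit 1), (nat_lit 5, nat_lit 1), (nat_lit 8, nat_lit 1)],
  [(nat_lit 5, nat_lit 1), (nat_lit 7, nat_lit 1), (nat_lit 8, nat_lit 1)],
  [(nat_lit 1, nat_lit 1), (nat_lit 2, nat_lit 1), (nat_lit 6, nat_lit 1)],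
  [(nat_lit 2, nat_lit 1), (nat_lit 3, nat_lit 1), (nat_lit 6, nat_lit 1)],
  [(nat_lit 4, nat_lit 1), (nat_lit 5, nat_lit 1), (nat_lit 7, nat_lit 1)],
  [(nat_lit 1, nat_lit 1), (nat_lit 3, nat_lit 1), (nat_lit 6, nat_lit 1)],
  [(nat_lit 1, nat_lit 1), (nat_lit 2, nat_lit 1), (nat_lit 3, nat_lit 1)]]) (.node (nat_lit 43) (.leaf [[(nat_lit 0, nat_lit 1)],
  [(nat_lit 1, nat_lit 1), (nat_lit 2, nat_lit 1), (nat_lit 3, nat_lit 1)],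
  [(nat_lit 1, nat_lit 1), (nat_lit 2, nat_lit 1), (nat_lit 6, nat_lit 1)],
  [(nat_lit 1, nat_lit 1), (nat_lit 3, nat_lit 1), (nat_lit 6, nat_lit 1)],
  [(nat_lit 5, nat_lit 1), (nat_lit 7, nat_lit 1), (nat_lit 8, nat_lit 1)],
  [(nat_lit 4, nat_lit 1), (nat_lit 5, nat_lit 1), (nat_lit 8, nat_lit 1)],
  [(nat_lit 2, nat_lit 1), (nat_lit 3, nat_lit 1), (nat_lit 6, nat_lit 1)],
  [(nat_lit 4, nat_lit 1), (nat_lit 7, nat_lit 1), (nat_lit 8, nat_lit 1)],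
  [(nat_lit 4, nat_lit 1), (nat_lit 5, nat_lit 1), (nat_lit 7, nat_lit 1)]]) (.leaf [[(nat_lit 0, nat_lit 1)],
  [(nat_lit 4, nat_lit 1), (nat_lit 5, nat_lit 1), (nat_lit 8, nat_lit 1)],
  [(nat_lit 4, nat_lit 1), (nat_lit 7, nat_lit 1), (nat_lit 8, nat_lit 1)],
  [(nat_lit 4, nat_lit 1), (nat_lit 5, nat_lit 1), (nat_lit 7, nat_lit 1)],
  [(nat_lit 1, nat_lit 1), (nat_lit 2, nat_lit 1), (nat_lit 3, nat_lit 1)],
  [(nat_lit 1, nat_lit 1), (nat_lit 3, nat_lit 1), (nat_lit 6, nat_lit 1)],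
  [(nat_lit 5, nat_lit 1), (nat_lit 7, nat_lit 1), (nat_lit 8, nat_lit 1)],
  [(nat_lit 2, nat_lit 1), (nat_lit 3, nat_lit 1), (nat_lit 6, nat_lit 1)],
  [(nat_lit 1, nat_lit 1), (nat_lit 2, nat_lit 1), (nat_lit 6, nat_lit 1)]]))) (.node (nat_lit 45) (.leaf [[(nat_lit 0, nat_lit 1)],
  [(nat_lit 4, nat_lit 1), (nat_lit 5, nat_lit 1), (nat_lit 7, nat_lit 1)],
  [(nat_lit 5, nat_lit 1), (nat_lit 7, nat_lit 1), (nat_lit 8, nat_lit 1)],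
  [(nat_lit 4, nat_lit 1), (nat_lit 7, nat_lit 1), (nat_lit 8, nat_lit 1)],
  [(nat_lit 1, nat_lit 1), (nat_lit 3, nat_lit 1), (nat_lit 6, nat_lit 1)],
  [(nat_lit 1, nat_lit 1), (nat_lit 2, nat_lit 1), (nat_lit 6, nat_lit 1)],
  [(nat_lit 4, nat_lit 1), (nat_lit 5, nat_lit 1), (nat_lit 8, nat_lit 1)],
  [(nat_lit 1, nat_lit 1), (nat_lit 2, nat_lit 1), (nat_lit 3, nat_lit 1)],
  [(nat_lit 2, nat_lit 1), (nat_lit 3, nat_lit 1), (nat_lit 6, nat_lit 1)]]) (.node (nat_lit 46) (.leaf [[(nat_lit 0, nat_lit 1)],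
  [(nat_lit 5, nat_lit 1), (nat_lit 7, nat_lit 1), (nat_lit 8, nat_lit 1)],
  [(nat_lit 4, nat_lit 1), (nat_lit 5, nat_lit 1), (nat_lit 7, nat_lit 1)],
  [(nat_lit 4, nat_lit 1), (nat_lit 5, nat_lit 1), (nat_lit 8, nat_lit 1)],
  [(nat_lit 2, nat_lit 1), (nat_lit 3, nat_lit 1), (nat_lit 6, nat_lit 1)],
  [(nat_lit 1, nat_lit 1), (nat_lit 2, nat_lit 1), (nat_lit 3, nat_lit 1)],
  [(nat_lit 4, nat_lit 1), (nat_lit 7, nat_lit 1), (nat_lit 8, nat_lit 1)],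
  [(nat_lit 1, nat_lit 1), (nat_lit 2, nat_lit 1), (nat_lit 6, nat_lit 1)],
  [(nat_lit 1, nat_lit 1), (nat_lit 3, nat_lit 1), (nat_lit 6, nat_lit 1)]]) (.leaf [[(nat_lit 5, nat_lit 2)],
  [(nat_lit 3, nat_lit 2), (nat_lit 4, nat_lit 3), (nat_lit 8, nat_lit 1)],
  [(nat_lit 2, nat_lit 3), (nat_lit 3, nat_lit 2), (nat_lit 4, nat_lit 3)],
  [(nat_lit 2, nat_lit 3), (nat_lit 3, nat_lit 2), (nat_lit 8, nat_lit 1)],
  [(nat_lit 0, nat_lit 3), (nat_lit 1, nat_lit 3), (nat_lit 7, nat_lit 2)],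
  [(nat_lit 1, nat_lit 3), (nat_lit 6, nat_lit 2), (nat_lit 7, nat_lit 2)],
  [(nat_lit 2, nat_lit 3), (nat_lit 4, nat_lit 3), (nat_lit 8, nat_lit 1)],
  [(nat_lit 0, nat_lit 3), (nat_lit 1, nat_lit 3), (nat_lit 6, nat_lit 2)],
  [(nat_lit 0, nat_lit 3), (nat_lit 6, nat_lit 2), (nat_lit 7, nat_lit 2)]])))))))
noncomputable def GW : Tr (List ℕ) := (.node (nat_lit 23) (.node (nat_lit 11) (.node (nat_lit 5) (.node (nat_lit 2) (.node (nat_lit 1) (.leaf []) (.leaf [nat_lit 4, nat_lit 5, nat_lit 0, nat_lit 4, nat_lit 0, nat_lit 0, nat_lit 5, nat_lit 0, nat_lit 4, nat_lit 3, nat_lit 4, nat_lit 2, nat_lit 0, nat_lit 3, nat_lit 1, nat_lit 1])) (.node (nat_lit 3) (.leaf [nat_lit 0, nat_lit 2, nat_lit 5, nat_lit 3, nat_lit 5, nat_lit 2, nat_lit 1, nat_lit 5, nat_lit 4, nat_lit 1, nat_lit 1, nat_lit 1, nat_lit 4, nat_lit 2, nat_lit 0, nat_lit 0,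 nat_lit 3, nat_lit 0]) (.node (nat_lit 4) (.leaf [nat_lit 0, nat_lit 3, nat_lit 4, nat_lit 5, nat_lit 3, nat_lit 3, nat_lit 5, nat_lit 3, nat_lit 4, nat_lit 3, nat_lit 0, nat_lit 0, nat_lit 4, nat_lit 0]) (.leaf [nat_lit 4, nat_lit 0, nat_lit 2, nat_lit 5, nat_lit 4, nat_lit 3, nat_lit 1, nat_lit 5, nat_lit 1, nat_lit 4, nat_lit 2, nat_lit 1, nat_lit 4, nat_lit 3, nat_lit 3, nat_lit 1, nat_lit 1]))))
 (.node (nat_lit 8) (.node (nat_lit 6) (.leaf [nat_lit 5, nat_lit 0, nat_lit 2, nat_lit 1, nat_lit 5, nat_lit 0, nat_lit 5, nat_lit 0, nat_lit 4, nat_lit 2, nat_lit 4, nat_lit 2]) (.node (nat_lit 7) (.leaf [nat_lit 3, nat_lit 4, nat_lit 5, nat_lit 1, nat_lit 5, nat_lit 3, nat_lit 1, nat_lit 5, nat_lit 1, nat_lit 3, nat_lit 4, nat_lit 2]) (.leaf [nat_lit 5, nat_lit 0, nat_lit 5, nat_lit 3, nat_lit 3, nat_lit 1, nat_lit 5, nat_lit 2, nat_lit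 4, nat_lit 0, nat_lit 0, nat_lit 4, nat_lit 1, nat_lit 2, nat_lit 1, nat_lit 1]))) (.node (nat_lit 9) (.leaf [nat_lit 3, nat_lit 4, nat_lit 2, nat_lit 5, nat_lit 0, nat_lit 5, nat_lit 2, nat_lit 0, nat_lit 0, nat_lit 4, nat_lit 0, nat_lit 2]) (.node (nat_lit 10) (.leaf [nat_lit 0, nat_lit 5, nat_lit 0, nat_lit 4, nat_lit 0, nat_lit 5, nat_lit 0, nat_lit 4, nat_lit 2, nat_lit 1, nat_lit 4, nat_lit 0, nat_lit 0, nat_lit 0]) (.leaf [nat_lit 3, nat_lit 5, nat_lit 3, nat_lit 1, nat_lit 5, nat_lit 3, nat_lit 1, nat_lit 5, nat_lit 4, nat_lit 1, nat_lit 4, nat_lit 3, nat_lit 4, nat_lit 2, nat_lit 1, nat_lit 3])))))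
 (.node (nat_lit 17) (.node (nat_lit 14) (.node (nat_lit 12) (.leaf [nat_lit 2, nat_lit 5, nat_lit 3, nat_lit 3, nat_lit 5, nat_lit 1, nat_lit 5, nat_lit 3, nat_lit 0, nat_lit 4, nat_lit 3, nat_lit 4, nat_lit 1, nat_lit 1, nat_lit 3, nat_lit 1]) (.node (nat_lit 13) (.leaf [nat_lit 4, nat_lit 3, nat_lit 4, nat_lit 5, nat_lit 1, nat_lit 5, nat_lit 2, nat_lit 1, nat_lit 1, nat_lit 4, nat_lit 0, nat_lit 0, nat_lit 2]) (.leaf [nat_lit 1, nat_lit 5, nat_lit 4, nat_lit 5, nat_lit 1, nat_lit 3, nat_lit 5, nat_lit 2, nat_lit 1, nat_lit 4, nat_lit 3, nat_lit 4, nat_lit 3, nat_lit 0, nat_lit 0, nat_lit 3]))) (.node (nat_lit 15) (.leaf [nat_lit 1, nat_lit 2, nat_lit 5, nat_lit 3, nat_lit 4, nat_lit 1, nat_lit 3, nat_lit 4, nat_lit 3]) (.node (nat_lit 16) (.leaf [nat_lit 0, nat_lit 5, nat_lit 1, nat_lit 4, nat_lit 0, nat_lit 2, nat_lit 1, nat_lit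 5, nat_lit 1, nat_lit 4, nat_lit 3, nat_lit 4, nat_lit 2, nat_lit 1, nat_lit 4, nat_lit 3, nat_lit 1, nat_lit 3, nat_lit 0]) (.leaf [nat_lit 5, nat_lit 4, nat_lit 1, nat_lit 5, nat_lit 1, nat_lit 4, nat_lit 5, nat_lit 0, nat_lit 3, nat_lit 4, nat_lit 2, nat_lit 4, nat_lit 3, nat_lit 1, nat_lit 1]))))
 (.node (nat_lit 20) (.node (nat_lit 18) (.leaf [nat_lit 0, nat_lit 4, nat_lit 1, nat_lit 4, nat_lit 5, nat_lit 1, nat_lit 5, nat_lit 0, nat_lit 3, nat_lit 4, nat_lit 0, nat_lit 4, nat_lit 1, nat_lit 3, nat_lit 1]) (.node (nat_lit 19) (.leaf []) (.leaf [nat_lit 5, nat_lit 1, nat_lit 4, nat_lit 0, nat_lit 5, nat_lit 4, nat_lit 5, nat_lit 4, nat_lit 3, nat_lit 4, nat_lit 0, nat_lit 2, nat_lit 0, nat_lit 0]))) (.node (nat_lit 21) (.leaf [nat_lit 3, nat_lit 5, nat_lit 4, nat_lit 2, nat_lit 1, nat_lit 1, nat_lit 5, nat_lit 0, nat_lit 4, nat_lit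 1, nat_lit 1, nat_lit 4, nat_lit 0, nat_lit 3]) (.node (nat_lit 22) (.leaf [nat_lit 3, nat_lit 4, nat_lit 0, nat_lit 2, nat_lit 5, nat_lit 2, nat_lit 1, nat_lit 4, nat_lit 3, nat_lit 4, nat_lit 2, nat_lit 0, nat_lit 0]) (.leaf [nat_lit 5, nat_lit 0, nat_lit 3, nat_lit 5, nat_lit 4, nat_lit 3, nat_lit 5, nat_lit 2, nat_lit 4, nat_lit 2, nat_lit 4, nat_lit 0, nat_lit 4, nat_lit 2, nat_lit 1, nat_lit 1]))))))
 (.node (nat_lit 35) (.node (nat_lit 29) (.node (nat_lit 26) (.node (nat_lit 24) (.leaf [nat_lit 5, nat_lit 3, nat_lit 5, nat_lit 2, nat_lit 5, nat_lit 1, nat_lit 5, nat_lit 0, nat_lit 3, nat_lit 4, nat_lit 0, nat_lit 4, nat_lit 3, nat_lit 1, nat_lit 1, nat_lit 3]) (.node (nat_lit 25) (.leaf [nat_lit 4, nat_lit 2, nat_lit 1, nat_lit 5, nat_lit 0, nat_lit 3, nat_lit 5, nat_lit 3, nat_lit 4, nat_lit 1, nat_lit 4, nat_lit 2, nat_lit 1,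 nat_lit 1, nat_lit 3, nat_lit 1]) (.leaf [nat_lit 1, nat_lit 5, nat_lit 1, nat_lit 3, nat_lit 5, nat_lit 2, nat_lit 5, nat_lit 2, nat_lit 4, nat_lit 0, nat_lit 4, nat_lit 2, nat_lit 1, nat_lit 1, nat_lit 3, nat_lit 1]))) (.node (nat_lit 27) (.leaf [nat_lit 3, nat_lit 5, nat_lit 2, nat_lit 5, nat_lit 4, nat_lit 1, nat_lit 5, nat_lit 1, nat_lit 2, nat_lit 4, nat_lit 0, nat_lit 0, nat_lit 4, nat_lit 2, nat_lit 1, nat_lit 1]) (.node (nat_lit 28) (.leaf []) (.leaf []))))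
 (.node (nat_lit 32) (.node (nat_lit 30) (.leaf [nat_lit 3, nat_lit 3, nat_lit 5, nat_lit 4, nat_lit 1, nat_lit 4, nat_lit 5, nat_lit 0, nat_lit 4, nat_lit 2, nat_lit 1, nat_lit 4, nat_lit 3, nat_lit 0, nat_lit 0]) (.node (nat_lit 31) (.leaf [nat_lit 4, nat_lit 3, nat_lit 0, nat_lit 0, nat_lit 4, nat_lit 5, nat_lit 0, nat_lit 0, nat_lit 4, nat_lit 3, nat_lit 4, nat_lit 0, nat_lit 2, nat_lit 0]) (.leaf [nat_lit 1, nat_lit 2, nat_lit 5, nat_lit 1, nat_lit 2, nat_lit 5, nat_lit 1, nat_lit 4, nat_lit 2, nat_lit 1, nat_lit 1, nat_lit 4, nat_lit 1]))) (.node (nat_lit 33) (.leaf [nat_lit 3, nat_lit 1, nat_lit 5, nat_lit 4, nat_lit 5, nat_lit 2, nat_lit 4, nat_lit 1, nat_lit 3, nat_lit 4, nat_lit 3, nat_lit 0, nat_lit 0, nat_lit 3, nat_lit 0]) (.node (nat_lit 34) (.leaf [nat_lit 1, nat_lit 1, nat_lit 1, nat_lit 5, nat_lit 3, nat_lit 1, nat_lit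 5, nat_lit 2, nat_lit 4, nat_lit 2, nat_lit 4, nat_lit 2, nat_lit 0, nat_lit 3, nat_lit 1]) (.leaf [nat_lit 0, nat_lit 3, nat_lit 5, nat_lit 3, nat_lit 4, nat_lit 5, nat_lit 1, nat_lit 5, nat_lit 1, nat_lit 2, nat_lit 4, nat_lit 0, nat_lit 0, nat_lit 4, nat_lit 2, nat_lit 1, nat_lit 1, nat_lit 3, nat_lit 1])))))
 (.node (nat_lit 41) (.node (nat_lit 38) (.node (nat_lit 36) (.leaf [nat_lit 3, nat_lit 3, nat_lit 5, nat_lit 3, nat_lit 1, nat_lit 4, nat_lit 1, nat_lit 5, nat_lit 3, nat_lit 1, nat_lit 4, nat_lit 3, nat_lit 4, nat_lit 1, nat_lit 3, nat_lit 0]) (.node (nat_lit 37) (.leaf []) (.leaf [nat_lit 2, nat_lit 5, nat_lit 1, nat_lit 3, nat_lit 4, nat_lit 3, nat_lit 1, nat_lit 5, nat_lit 3, nat_lit 4, nat_lit 3, nat_lit 0, nat_lit 0, nat_lit 4, nat_lit 1, nat_lit 2, nat_lit 1, nat_lit 1]))) (.node (nat_lit 39) (.leaf [nat_lit 1, nat_lit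 2, nat_lit 4, nat_lit 1, nat_lit 3, nat_lit 0, nat_lit 5, nat_lit 1, nat_lit 3, nat_lit 4, nat_lit 1, nat_lit 1, nat_lit 4, nat_lit 3, nat_lit 1]) (.node (nat_lit 40) (.leaf [nat_lit 4, nat_lit 2, nat_lit 5, nat_lit 0, nat_lit 5, nat_lit 3, nat_lit 4, nat_lit 2, nat_lit 4, nat_lit 0, nat_lit 4, nat_lit 1, nat_lit 1, nat_lit 3, nat_lit 1]) (.leaf [nat_lit 5, nat_lit 0, nat_lit 3, nat_lit 5, nat_lit 1, nat_lit 2, nat_lit 5, nat_lit 2, nat_lit 0, nat_lit 0, nat_lit 4, nat_lit 1, nat_lit 4, nat_lit 2, nat_lit 0, nat_lit 0, nat_lit 3]))))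
 (.node (nat_lit 44) (.node (nat_lit 42) (.leaf [nat_lit 3, nat_lit 1, nat_lit 5, nat_lit 1, nat_lit 2, nat_lit 1, nat_lit 1, nat_lit 5, nat_lit 3, nat_lit 0, nat_lit 4, nat_lit 3, nat_lit 4, nat_lit 3, nat_lit 1, nat_lit 3, nat_lit 0]) (.node (nat_lit 43) (.leaf [nat_lit 5, nat_lit 0, nat_lit 3, nat_lit 5, nat_lit 4, nat_lit 1, nat_lit 5, nat_lit 0, nat_lit 0, nat_lit 4, nat_lit 1, nat_lit 4, nat_lit 3, nat_lit 1]) (.leaf [nat_lit 4, nat_lit 1, nat_lit 1, nat_lit 2, nat_lit 5, nat_lit 0, nat_lit 5, nat_lit 1, nat_lit 4, nat_lit 0, nat_lit 4, nat_lit 2, nat_lit 0, nat_lit 0, nat_lit 3]))) (.node (nat_lit 45) (.leaf [nat_lit 3, nat_lit 5, nat_lit 4, nat_lit 1, nat_lit 5, nat_lit 1, nat_lit 4, nat_lit 1, nat_lit 1, nat_lit 1, nat_lit 4, nat_lit 3, nat_lit 3, nat_lit 1, nat_lit 1]) (.node (nat_lit 46) (.leaf [nat_lit 5, nat_lit 0, nat_lit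 3, nat_lit 5, nat_lit 1, nat_lit 2, nat_lit 5, nat_lit 2, nat_lit 0, nat_lit 0, nat_lit 4, nat_lit 1, nat_lit 4, nat_lit 2, nat_lit 0, nat_lit 0, nat_lit 3]) (.leaf [nat_lit 0, nat_lit 4, nat_lit 1, nat_lit 3, nat_lit 0, nat_lit 5, nat_lit 1, nat_lit 4, nat_lit 2, nat_lit 1, nat_lit 4, nat_lit 3, nat_lit 0, nat_lit 3, nat_lit 1])))))))
noncomputable def GZ : Tr ℕ := (.node (nat_lit 23) (.node (nat_lit 11) (.node (nat_lit 5) (.node (nat_lit 2) (.node (nat_lit 1) (.leaf (nat_lit 1)) (.leaf (nat_lit 3))) (.node (nat_lit 3) (.leaf (nat_lit 3)) (.node (nat_lit 4) (.leaf (nat_lit 1)) (.leaf (nat_lit 1)))))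
 (.node (nat_lit 8) (.node (nat_lit 6) (.leaf (nat_lit 2)) (.node (nat_lit 7) (.leaf (nat_lit 3)) (.leaf (nat_lit 3)))) (.node (nat_lit 9) (.leaf (nat_lit 2)) (.node (nat_lit 10) (.leaf (nat_lit 2)) (.leaf (nat_lit 1))))))
 (.node (nat_lit 17) (.node (nat_lit 14) (.node (nat_lit 12) (.leaf (nat_lit 1)) (.node (nat_lit 13) (.leaf (nat_lit 1)) (.leaf (nat_lit 1)))) (.node (nat_lit 15) (.leaf (nat_lit 3)) (.node (nat_lit 16) (.leaf (nat_lit 1)) (.leaf (nat_lit 3)))))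
 (.node (nat_lit 20) (.node (nat_lit 18) (.leaf (nat_lit 1)) (.node (nat_lit 19) (.leaf (nat_lit 1)) (.leaf (nat_lit 2)))) (.node (nat_lit 21) (.leaf (nat_lit 2)) (.node (nat_lit 22) (.leaf (nat_lit 3)) (.leaf (nat_lit 3)))))))
 (.node (nat_lit 35) (.node (nat_lit 29) (.node (nat_lit 26) (.node (nat_lit 24) (.leaf (nat_lit 1)) (.node (nat_lit 25) (.leaf (nat_lit 3)) (.leaf (nat_lit 1)))) (.node (nat_lit 27) (.leaf (nat_lit 3)) (.node (nat_lit 28) (.leaf (nat_lit 1)) (.leaf (nat_lit 1)))))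
 (.node (nat_lit 32) (.node (nat_lit 30) (.leaf (nat_lit 1)) (.node (nat_lit 31) (.leaf (nat_lit 1)) (.leaf (nat_lit 1)))) (.node (nat_lit 33) (.leaf (nat_lit 3)) (.node (nat_lit 34) (.leaf (nat_lit 2)) (.leaf (nat_lit 1))))))
 (.node (nat_lit 41) (.node (nat_lit 38) (.node (nat_lit 36) (.leaf (nat_lit 2)) (.node (nat_lit 37) (.leaf (nat_lit 1)) (.leaf (nat_lit 1)))) (.node (nat_lit 39) (.leaf (nat_lit 1)) (.node (nat_lit 40) (.leaf (nat_lit 2)) (.leaf (nat_lit 3)))))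
 (.node (nat_lit 44) (.node (nat_lit 42) (.leaf (nat_lit 1)) (.node (nat_lit 43) (.leaf (nat_lit 3)) (.leaf (nat_lit 1)))) (.node (nat_lit 45) (.leaf (nat_lit 3)) (.node (nat_lit 46) (.leaf (nat_lit 3)) (.leaf (nat_lit 2))))))))
theorem gw : ∀ j < 47, scalW C4 9 MT [GM.get j] (GZ.get j) (GW.get j) = true ∧ ltN (topN L) (GW.get j) = true := by decide +kernel
theorem gab : (∀ j < 2, prodChk C4 9 [MS.get j] [GM.get (45 + j)] = true) ∧ prodChk C4 9 [MS.get 0] (mpT GM [nat_lit 29, nat_lit 44]) = true ∧ prodChk C4 9 [MS.get 1] (mpT GM [nat_lit 42, nat_lit 25, nat_lit 17]) = true := by decide +kernel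
theorem gsu : ∀ j < 2, powChk C4 9 (MS.get j) 34 = true ∧ bilChk C4 9 idF (fun a => C4.pow a 2) (MS.get j) = true := by decide +kernel
theorem gpw : ∀ j < 45, powChk C4 9 (GM.get j) 72 = true := by decide +kernel
open Cfsg Cfsg.Spor in
/-- coding of `F9` -/
def ix9 (z : F9) : ℕ := z.1.val + 3 * z.2.val
def un9 (j : ℕ) : Cfsg.Spor.F9 := ((j : ZMod 3), ((j / 3 : ℕ) : ZMod 3))
theorem hx9 : IX ix9 un9 9 := ⟨by decide, by decide, by decide⟩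

section
variable {F : Type*} [Field F] {ω : F} {ι : Type} [Fintype ι] [DecidableEq ι] [Nonempty ι] {ix : ι → ℕ} {un : ℕ → ι}
  {G : Type*} [Group G] [Finite G] {τ : G →* Matrix ι ι F}

theorem core [Fintype F] (hF : Fintype.card F = 4) (hω : ω ^ 2 + ω + 1 = 0) (hx : IX ix un 9)
    (hτ : Function.Injective τ) (h0 : haveI : CharP F 2 := charP_of_card (k := 2) (by norm_num) hF
      ∀ j < 2, ∃ g : G, τ g = decM C4 (φ4 ω) ix (MS.get j)) (S0 : Set G) (h1 : Subgroup.closure S0 = ⊤)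
    (h2 : ∀ s ∈ S0, ∃ j < 47, τ s = decM C4 (φ4 ω) ix (GM.get j)) :
    Nat.card (Subgroup.center G) = 3 ∧ (∀ z ∈ Subgroup.center G, ∃ c : F, τ z = c • 1) ∧
      ∃ (g : ℕ → G) (e : G ⧸ Subgroup.center G ≃* P), (∀ y, τ (g y) = decM C4 (φ4 ω) ix (MT.get y)) ∧
        ∀ y < topN L, e (g y : G) = std.lets.e y := by
  haveI : CharP F 2 := charP_of_card (k := 2) (by norm_num) hF
  have h := fm4 hω
  haveI := simple
  obtain ⟨g, hg⟩ := exists_sel' (h.mslp hx mslp h0) msel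
  obtain ⟨e1, e, e2⟩ := iso_of_pres hτ (by rw [card]; norm_num) std g (h.rels_scal hx hg mrel) S0 h1
    (fun s hs => by
      obtain ⟨j, hj, e⟩ := h2 s hs
      exact ⟨_, _, ltN_iff.1 (gw j hj).2, by simpa [e] using h.scalW hx (gw j hj).1 fun y _ => hg y⟩)
    ⟨_, h.not_scal hx (hg 0) 0 3 mns⟩
  refine ⟨?_, fun z hz => by rwa [e1] at hz, g, e, hg, e2⟩
  rw [e1]
  refine card_scal_prime hτ Nat.prime_three (by rw [hF]) (z := ev g (RL.get 2)) (c := φ4 ω 2) ?_ fun e => ?_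
  · rw [← prod_mpT (MT := MT) _ fun y _ => hg y, h.scalW hx mz (g := g) (τ := τ) (by simp)]; simp
  · exact absurd (h.eqv.2 (e.trans h.one.symm)) (by decide +kernel)

end

open Cfsg.Spor

noncomputable def oC (n : ZMod 3) : ℕ := C4.pow 2 n.val
noncomputable def cA (Z w z : F9) : ℕ := if w = z then oC (Z.1 * w.1 + Z.2 * w.2) else 0
noncomputable def cE (Z w z : F9) : ℕ := if w = z then oC ((Z.1 - w.1) ^ 2 + (Z.2 - w.2) ^ 2) else 0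
noncomputable def cD (Z w z : F9) : ℕ := if w = z + Z then (if z = 0 then 1
  else if F9.div Z z = F9.I - F9.one then 2 else if F9.div Z z = -F9.I - F9.one then C4.pow 2 2 else 1) else 0
noncomputable def cB (Z w z : F9) : ℕ := if w = F9.mul Z z then 1 else 0
noncomputable def cC (Z w z : F9) : ℕ := if z = 0 then (if w = 0 then 1 else 0)
  else if w = -F9.div Z z ∨ w = F9.mul F9.I (F9.div Z z) ∨ w = -F9.mul F9.I (F9.div Z z) then 1 else 0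
theorem ent : ∀ Z : F9, entChk C4 9 (GM.get (ix9 Z)) (fun i j => cA Z (un9 i) (un9 j)) = true ∧
    entChk C4 9 (GM.get (9 + ix9 Z)) (fun i j => cE Z (un9 i) (un9 j)) = true ∧
    entChk C4 9 (GM.get (18 + ix9 Z)) (fun i j => cD Z (un9 i) (un9 j)) = true ∧ (Z ≠ 0 →
    entChk C4 9 (GM.get (27 + ix9 Z)) (fun i j => cB Z (un9 i) (un9 j)) = true ∧
    entChk C4 9 (GM.get (36 + ix9 Z)) (fun i j => cC Z (un9 i) (un9 j)) = true) := by decide +kernel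

section
variable {F : Type*} [Field F] [CharP F 2] {ω : F} (hω : ω ^ 2 + ω + 1 = 0)
include hω

theorem gens_iff (M : Matrix F9 F9 F) :
    M ∈ j3Gens F ω ↔ ∃ j < 45, j ≠ 27 ∧ j ≠ 36 ∧ M = decM C4 (φ4 ω) ix9 (GM.get j) := by
  have h := fm4 hω
  have o : ∀ n, omegaPow F ω n = φ4 ω (oC n) := fun n => by rw [oC, h.pow, φ4_two]; rfl
  have a : ∀ Z, j3A F ω Z = decM C4 (φ4 ω) ix9 (GM.get (ix9 Z)) := fun Z => h.entChk hx9 (c := cA Z)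
    (fun i j => by simp only [j3A, cA, diagonal_apply, apply_ite (φ4 ω), h.zero, o]) (ent Z).1
  have e : ∀ Z, j3E F ω Z = decM C4 (φ4 ω) ix9 (GM.get (9 + ix9 Z)) := fun Z => h.entChk hx9 (c := cE Z)
    (fun i j => by simp only [j3E, cE, diagonal_apply, apply_ite (φ4 ω), h.zero, o]) (ent Z).2.1
  have d : ∀ Z, j3D F ω Z = decM C4 (φ4 ω) ix9 (GM.get (18 + ix9 Z)) := fun Z => h.entChk hx9 (c := cD Z)
    (fun i j => by simp only [j3D, j3Lam, cD, of_apply, apply_ite (φ4 ω), h.zero, h.one, h.pow, φ4_two]) (ent Z).2.2.1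
  have b : ∀ Z ≠ 0, j3B F Z = decM C4 (φ4 ω) ix9 (GM.get (27 + ix9 Z)) := fun Z hZ => h.entChk hx9 (c := cB Z)
    (fun i j => by simp only [j3B, cB, of_apply, apply_ite (φ4 ω), h.zero, h.one]) ((ent Z).2.2.2 hZ).1
  have c : ∀ Z ≠ 0, j3C F Z = decM C4 (φ4 ω) ix9 (GM.get (36 + ix9 Z)) := fun Z hZ => h.entChk hx9 (c := cC Z)
    (fun i j => by simp only [j3C, cC, of_apply, apply_ite (φ4 ω), h.zero, h.one]) ((ent Z).2.2.2 hZ).2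
  have z : ∀ Z : F9, ix9 Z < 9 ∧ (Z ≠ 0 → ix9 Z ≠ 0) := by decide
  have u : ∀ j < 45, j ≠ 27 → j ≠ 36 → ∃ Z, j = ix9 Z ∨ j = 9 + ix9 Z ∨ j = 18 + ix9 Z ∨
    Z ≠ 0 ∧ (j = 27 + ix9 Z ∨ j = 36 + ix9 Z) := fun j h1 h2 h3 => ⟨un9 (j % 9), by interval_cases j <;> first | omega | decide⟩
  constructor
  · rintro ((((⟨Z, rfl⟩ | ⟨Z, rfl⟩) | ⟨Z, rfl⟩) | ⟨Z, hZ, rfl⟩) | ⟨Z, hZ, rfl⟩) <;> have := z Z
    exacts [⟨_, by omega, by omega, by omega, a Z⟩, ⟨_, by omega, by omega, by omega, e Z⟩,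
      ⟨_, by omega, by omega, by omega, d Z⟩, ⟨_, by omega, by have := this.2 hZ; omega, by omega, b Z hZ⟩,
      ⟨_, by omega, by omega, by have := this.2 hZ; omega, c Z hZ⟩]
  · rintro ⟨j, h1, h2, h3, rfl⟩
    obtain ⟨Z, rfl | rfl | rfl | ⟨hZ, rfl | rfl⟩⟩ := u j h1 h2 h3
    exacts [.inl (.inl (.inl (.inl ⟨Z, a Z⟩))), .inl (.inl (.inl (.inr ⟨Z, e Z⟩))), .inl (.inl (.inr ⟨Z, d Z⟩)),
      .inl (.inr ⟨Z, hZ, (b Z hZ).symm⟩), .inr ⟨Z, hZ, (c Z hZ).symm⟩]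

theorem exists_ab : ∀ j < 2, ∃ g : threeJ3 F ω, τGL _ g = decM C4 (φ4 ω) ix9 (MS.get j) := by
  have h := fm4 hω
  have : ∀ j, ∃ g : threeJ3 F ω, j < 45 → j ≠ 27 → j ≠ 36 → τGL _ g = decM C4 (φ4 ω) ix9 (GM.get j) := fun j => by
    by_cases hj : j < 45 ∧ j ≠ 27 ∧ j ≠ 36
    · obtain ⟨g, hg⟩ := exists_GL (by decide) (h.powChk hx9 (gpw j hj.1))
      exact ⟨⟨g, Subgroup.subset_closure ((gens_iff hω _).2 ⟨j, hj.1, hj.2.1, hj.2.2, hg⟩)⟩, fun _ _ _ => hg⟩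
    · exact ⟨1, fun a b c => absurd ⟨a, b, c⟩ hj⟩
  choose g hg using this
  have k : ∀ w : List ℕ, (∀ y ∈ w, y < 45 ∧ y ≠ 27 ∧ y ≠ 36) → ∀ S, prodChk C4 9 [S] (mpT GM w) = true →
      ∃ g : threeJ3 F ω, τGL _ g = decM C4 (φ4 ω) ix9 S := fun w hw S e => ⟨ev g w, by
    rw [← prod_mpT (MT := GM) w fun y hy => hg y (hw y hy).1 (hw y hy).2.1 (hw y hy).2.2, ← h.prodChk hx9 e]; simp⟩
  intro j hj
  interval_cases j
  exacts [k _ (by decide) _ gab.2.1, k _ (by decide) _ gab.2.2]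

end

theorem main {F : Type*} [Field F] [Fintype F] (hF : Fintype.card F = 4) (ω : F) (hω : ω ^ 2 + ω + 1 = 0) :
    Nat.card (Subgroup.center (threeJ3 F ω)) = 3 ∧ (∀ z ∈ Subgroup.center (threeJ3 F ω), ∃ c : F, τGL _ z = c • 1) ∧
      ∃ (g : ℕ → threeJ3 F ω) (e : J3 F ω ≃* P), (∀ y, τGL _ (g y) = decM C4 (φ4 ω) ix9 (MT.get y)) ∧
        ∀ y < topN L, e (g y : threeJ3 F ω) = std.lets.e y := by
  haveI : CharP F 2 := charP_of_card (k := 2) (by norm_num) hF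
  exact core hF hω hx9 (τGL_inj _) (exists_ab hω) _ (closure_subtype _) fun s hs => by
    obtain ⟨j, h1, -, -, e⟩ := (gens_iff hω _).1 hs
    exact ⟨j, by omega, e⟩

theorem iso {F : Type*} [Field F] [Fintype F] (hF : Fintype.card F = 4) (ω : F) (hω : ω ^ 2 + ω + 1 = 0) :
    Nonempty (J3 F ω ≃* P) := by
  obtain ⟨-, -, -, e, -⟩ := main hF ω hω
  exact ⟨e⟩

theorem su {F : Type*} [Field F] [Fintype F] (hF : Fintype.card F = 4) : ∃ H : Subgroup (Cfsg.SU 9 F 2),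
    Nat.card (Subgroup.center H) = 3 ∧ Nonempty (H ⧸ Subgroup.center H ≃* P) := by
  haveI : CharP F 2 := charP_of_card (k := 2) (by norm_num) hF
  obtain ⟨ω, hω⟩ := exists_fm4 hF
  have h := fm4 hω
  have : ∀ j : Fin 2, ∃ g : Cfsg.SU 9 F 2, τSU 9 F 2 g = decM C4 (φ4 ω) Fin.val (MS.get j) := fun j =>
    h.exists_SU 2 1 rfl (gsu j j.2).1 (by decide) (by rw [hF]; decide) (gsu j j.2).2
  choose g hg using this
  obtain ⟨h1, -, -, e, -⟩ := core (τ := (τSU 9 F 2).comp (Subgroup.closure (Set.range g)).subtype) hF hω (ix_fin 9)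
    (fun x y e => Subtype.ext (Subtype.ext (Subtype.ext e)))
    (fun j hj => ⟨⟨g ⟨j, hj⟩, Subgroup.subset_closure ⟨_, rfl⟩⟩, hg ⟨j, hj⟩⟩) _ (closure_subtype _) (by
      rintro ⟨s, hs⟩ ⟨j, rfl⟩
      exact ⟨45 + j, by omega, (hg j).trans (by simpa using h.prodChk (ix_fin 9) (gab.1 j j.2))⟩)
  exact ⟨_, h1, ⟨e⟩⟩

end H8.J3
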