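import Cfsg.Agent.H8.GO73
import Cfsg.Agent.H8.Glue
import Cfsg.Agent.S0292

/-! H8.XO73: `iso`: POmega(7,3) is isomorphic to `P` (generated certificate) -/

set_option autoImplicit false
set_option maxRecDepth 200000

open Matrix

namespace H8.O73

noncomputable def V_0 : Tr ℕ := (.node (nat_lit 91) (.node (nat_lit 45) (.node (nat_lit 22) (.node (nat_lit 11) (.node (nat_lit 5) (.node (nat_lit 2) (.node (nat_lit 1) (.leaf (nat_lit 4)) (.leaf (nat_lit 16))) (.node (nat_lit 3) (.leaf (nat_lit 20)) (.node (nat_lit 4) (.leaf (nat_lit 36)) (.leaf (nat_lit 64)))))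
 (.node (nat_lit 8) (.node (nat_lit 6) (.leaf (nat_lit 68)) (.node (nat_lit 7) (.leaf (nat_lit 80)) (.leaf (nat_lit 84)))) (.node (nat_lit 9) (.leaf (nat_lit 100)) (.node (nat_lit 10) (.leaf (nat_lit 132)) (.leaf (nat_lit 144))))))
 (.node (nat_lit 16) (.node (nat_lit 13) (.node (nat_lit 12) (.leaf (nat_lit 148)) (.leaf (nat_lit 164))) (.node (nat_lit 14) (.leaf (nat_lit 256)) (.node (nat_lit 15) (.leaf (nat_lit 265)) (.leaf (nat_lit 272)))))
 (.node (nat_lit 19) (.node (nat_lit 17) (.leaf (nat_lit 281)) (.node (nat_lit 18) (.leaf (nat_lit 297)) (.leaf (nat_lit 320)))) (.node (nat_lit 20) (.leaf (nat_lit 329)) (.node (nat_lit 21) (.leaf (nat_lit 336)) (.leaf (nat_lit 345)))))))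
 (.node (nat_lit 33) (.node (nat_lit 27) (.node (nat_lit 24) (.node (nat_lit 23) (.leaf (nat_lit 361)) (.leaf (nat_lit 393))) (.node (nat_lit 25) (.leaf (nat_lit 400)) (.node (nat_lit 26) (.leaf (nat_lit 409)) (.leaf (nat_lit 425)))))
 (.node (nat_lit 30) (.node (nat_lit 28) (.leaf (nat_lit 517)) (.node (nat_lit 29) (.leaf (nat_lit 528)) (.leaf (nat_lit 533)))) (.node (nat_lit 31) (.leaf (nat_lit 549)) (.node (nat_lit 32) (.leaf (nat_lit 576)) (.leaf (nat_lit 581))))))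
 (.node (nat_lit 39) (.node (nat_lit 36) (.node (nat_lit 34) (.leaf (nat_lit 592)) (.node (nat_lit 35) (.leaf (nat_lit 597)) (.leaf (nat_lit 613)))) (.node (nat_lit 37) (.leaf (nat_lit 645)) (.node (nat_lit 38) (.leaf (nat_lit 656)) (.leaf (nat_lit 661)))))
 (.node (nat_lit 42) (.node (nat_lit 40) (.leaf (nat_lit 677)) (.node (nat_lit 41) (.leaf (nat_lit 1024)) (.leaf (nat_lit 1028)))) (.node (nat_lit 43) (.leaf (nat_lit 1057)) (.node (nat_lit 44) (.leaf (nat_lit 1061)) (.leaf (nat_lit 1065))))))))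
 (.node (nat_lit 68) (.node (nat_lit 56) (.node (nat_lit 50) (.node (nat_lit 47) (.node (nat_lit 46) (.leaf (nat_lit 1088)) (.leaf (nat_lit 1092))) (.node (nat_lit 48) (.leaf (nat_lit 1121)) (.node (nat_lit 49) (.leaf (nat_lit 1125)) (.leaf (nat_lit 1129)))))
 (.node (nat_lit 53) (.node (nat_lit 51) (.leaf (nat_lit 1156)) (.node (nat_lit 52) (.leaf (nat_lit 1185)) (.leaf (nat_lit 1189)))) (.node (nat_lit 54) (.leaf (nat_lit 1193)) (.node (nat_lit 55) (.leaf (nat_lit 1280)) (.leaf (nat_lit 1289))))))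
 (.node (nat_lit 62) (.node (nat_lit 59) (.node (nat_lit 57) (.leaf (nat_lit 1301)) (.node (nat_lit 58) (.leaf (nat_lit 1313)) (.leaf (nat_lit 1316)))) (.node (nat_lit 60) (.leaf (nat_lit 1344)) (.node (nat_lit 61) (.leaf (nat_lit 1353)) (.leaf (nat_lit 1365)))))
 (.node (nat_lit 65) (.node (nat_lit 63) (.leaf (nat_lit 1377)) (.node (nat_lit 64) (.leaf (nat_lit 1380)) (.leaf (nat_lit 1417)))) (.node (nat_lit 66) (.leaf (nat_lit 1429)) (.node (nat_lit 67) (.leaf (nat_lit 1441)) (.leaf (nat_lit 1444)))))))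
 (.node (nat_lit 79) (.node (nat_lit 73) (.node (nat_lit 70) (.node (nat_lit 69) (.leaf (nat_lit 1541)) (.leaf (nat_lit 1556))) (.node (nat_lit 71) (.leaf (nat_lit 1561)) (.node (nat_lit 72) (.leaf (nat_lit 1569)) (.leaf (nat_lit 1600)))))
 (.node (nat_lit 76) (.node (nat_lit 74) (.leaf (nat_lit 1605)) (.node (nat_lit 75) (.leaf (nat_lit 1620)) (.leaf (nat_lit 1625)))) (.node (nat_lit 77) (.leaf (nat_lit 1633)) (.node (nat_lit 78) (.leaf (nat_lit 1669)) (.leaf (nat_lit 1684))))))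
 (.node (nat_lit 85) (.node (nat_lit 82) (.node (nat_lit 80) (.leaf (nat_lit 1689)) (.node (nat_lit 81) (.leaf (nat_lit 1697)) (.leaf (nat_lit 2052)))) (.node (nat_lit 83) (.leaf (nat_lit 2065)) (.node (nat_lit 84) (.leaf (nat_lit 2069)) (.leaf (nat_lit 2073)))))
 (.node (nat_lit 88) (.node (nat_lit 86) (.leaf (nat_lit 2112)) (.node (nat_lit 87) (.leaf (nat_lit 2116)) (.leaf (nat_lit 2129)))) (.node (nat_lit 89) (.leaf (nat_lit 2133)) (.node (nat_lit 90) (.leaf (nat_lit 2137)) (.leaf (nat_lit 2180)))))))))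
 (.node (nat_lit 136) (.node (nat_lit 113) (.node (nat_lit 102) (.node (nat_lit 96) (.node (nat_lit 93) (.node (nat_lit 92) (.leaf (nat_lit 2193)) (.leaf (nat_lit 2197))) (.node (nat_lit 94) (.leaf (nat_lit 2201)) (.node (nat_lit 95) (.leaf (nat_lit 2304)) (.leaf (nat_lit 2313)))))
 (.node (nat_lit 99) (.node (nat_lit 97) (.leaf (nat_lit 2321)) (.node (nat_lit 98) (.leaf (nat_lit 2324)) (.leaf (nat_lit 2341)))) (.node (nat_lit 100) (.leaf (nat_lit 2368)) (.node (nat_lit 101) (.leaf (nat_lit 2377)) (.leaf (nat_lit 2385))))))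
 (.node (nat_lit 107) (.node (nat_lit 104) (.node (nat_lit 103) (.leaf (nat_lit 2388)) (.leaf (nat_lit 2405))) (.node (nat_lit 105) (.leaf (nat_lit 2441)) (.node (nat_lit 106) (.leaf (nat_lit 2449)) (.leaf (nat_lit 2452)))))
 (.node (nat_lit 110) (.node (nat_lit 108) (.leaf (nat_lit 2469)) (.node (nat_lit 109) (.leaf (nat_lit 2565)) (.leaf (nat_lit 2577)))) (.node (nat_lit 111) (.leaf (nat_lit 2596)) (.node (nat_lit 112) (.leaf (nat_lit 2601)) (.leaf (nat_lit 2624)))))))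
 (.node (nat_lit 124) (.node (nat_lit 118) (.node (nat_lit 115) (.node (nat_lit 114) (.leaf (nat_lit 2629)) (.leaf (nat_lit 2641))) (.node (nat_lit 116) (.leaf (nat_lit 2660)) (.node (nat_lit 117) (.leaf (nat_lit 2665)) (.leaf (nat_lit 2693)))))
 (.node (nat_lit 121) (.node (nat_lit 119) (.leaf (nat_lit 2705)) (.node (nat_lit 120) (.leaf (nat_lit 2724)) (.leaf (nat_lit 2729)))) (.node (nat_lit 122) (.leaf (nat_lit 4096)) (.node (nat_lit 123) (.leaf (nat_lit 4100)) (.leaf (nat_lit 4112))))))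
 (.node (nat_lit 130) (.node (nat_lit 127) (.node (nat_lit 125) (.leaf (nat_lit 4116)) (.node (nat_lit 126) (.leaf (nat_lit 4132)) (.leaf (nat_lit 4225)))) (.node (nat_lit 128) (.leaf (nat_lit 4229)) (.node (nat_lit 129) (.leaf (nat_lit 4233)) (.leaf (nat_lit 4241)))))
 (.node (nat_lit 133) (.node (nat_lit 131) (.leaf (nat_lit 4245)) (.node (nat_lit 132) (.leaf (nat_lit 4249)) (.leaf (nat_lit 4257)))) (.node (nat_lit 134) (.leaf (nat_lit 4261)) (.node (nat_lit 135) (.leaf (nat_lit 4265)) (.leaf (nat_lit 4352))))))))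
 (.node (nat_lit 159) (.node (nat_lit 147) (.node (nat_lit 141) (.node (nat_lit 138) (.node (nat_lit 137) (.leaf (nat_lit 4361)) (.leaf (nat_lit 4368))) (.node (nat_lit 139) (.leaf (nat_lit 4377)) (.node (nat_lit 140) (.leaf (nat_lit 4393)) (.leaf (nat_lit 4421)))))
 (.node (nat_lit 144) (.node (nat_lit 142) (.leaf (nat_lit 4437)) (.node (nat_lit 143) (.leaf (nat_lit 4453)) (.leaf (nat_lit 4481)))) (.node (nat_lit 145) (.leaf (nat_lit 4484)) (.node (nat_lit 146) (.leaf (nat_lit 4497)) (.leaf (nat_lit 4500))))))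
 (.node (nat_lit 153) (.node (nat_lit 150) (.node (nat_lit 148) (.leaf (nat_lit 4513)) (.node (nat_lit 149) (.leaf (nat_lit 4516)) (.leaf (nat_lit 4613)))) (.node (nat_lit 151) (.leaf (nat_lit 4624)) (.node (nat_lit 152) (.leaf (nat_lit 4629)) (.leaf (nat_lit 4645)))))
 (.node (nat_lit 156) (.node (nat_lit 154) (.leaf (nat_lit 4676)) (.node (nat_lit 155) (.leaf (nat_lit 4681)) (.leaf (nat_lit 4692)))) (.node (nat_lit 157) (.leaf (nat_lit 4697)) (.node (nat_lit 158) (.leaf (nat_lit 4708)) (.leaf (nat_lit 4713)))))))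
 (.node (nat_lit 170) (.node (nat_lit 164) (.node (nat_lit 161) (.node (nat_lit 160) (.leaf (nat_lit 4737)) (.leaf (nat_lit 4753))) (.node (nat_lit 162) (.leaf (nat_lit 4769)) (.node (nat_lit 163) (.leaf (nat_lit 5120)) (.leaf (nat_lit 5124)))))
 (.node (nat_lit 167) (.node (nat_lit 165) (.leaf (nat_lit 5153)) (.node (nat_lit 166) (.leaf (nat_lit 5157)) (.leaf (nat_lit 5161)))) (.node (nat_lit 168) (.leaf (nat_lit 5201)) (.node (nat_lit 169) (.leaf (nat_lit 5205)) (.leaf (nat_lit 5209))))))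
 (.node (nat_lit 176) (.node (nat_lit 173) (.node (nat_lit 171) (.leaf (nat_lit 5220)) (.node (nat_lit 172) (.leaf (nat_lit 5249)) (.leaf (nat_lit 5253)))) (.node (nat_lit 174) (.leaf (nat_lit 5257)) (.node (nat_lit 175) (.leaf (nat_lit 5264)) (.leaf (nat_lit 5268)))))
 (.node (nat_lit 179) (.node (nat_lit 177) (.leaf (nat_lit 5376)) (.node (nat_lit 178) (.leaf (nat_lit 5385)) (.leaf (nat_lit 5397)))) (.node (nat_lit 180) (.leaf (nat_lit 5409)) (.node (nat_lit 181) (.leaf (nat_lit 5412)) (.leaf (nat_lit 5445))))))))))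
noncomputable def V_1 : Tr ℕ := (.node (nat_lit 273) (.node (nat_lit 227) (.node (nat_lit 204) (.node (nat_lit 193) (.node (nat_lit 187) (.node (nat_lit 184) (.node (nat_lit 183) (.leaf (nat_lit 5457)) (.leaf (nat_lit 5460))) (.node (nat_lit 185) (.leaf (nat_lit 5481)) (.node (nat_lit 186) (.leaf (nat_lit 5505)) (.leaf (nat_lit 5508)))))
 (.node (nat_lit 190) (.node (nat_lit 188) (.leaf (nat_lit 5520)) (.node (nat_lit 189) (.leaf (nat_lit 5529)) (.leaf (nat_lit 5541)))) (.node (nat_lit 191) (.leaf (nat_lit 5637)) (.node (nat_lit 192) (.leaf (nat_lit 5652)) (.leaf (nat_lit 5657))))))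
 (.node (nat_lit 198) (.node (nat_lit 195) (.node (nat_lit 194) (.leaf (nat_lit 5665)) (.leaf (nat_lit 5700))) (.node (nat_lit 196) (.leaf (nat_lit 5705)) (.node (nat_lit 197) (.leaf (nat_lit 5713)) (.leaf (nat_lit 5733)))))
 (.node (nat_lit 201) (.node (nat_lit 199) (.leaf (nat_lit 5761)) (.node (nat_lit 200) (.leaf (nat_lit 5776)) (.leaf (nat_lit 5781)))) (.node (nat_lit 202) (.leaf (nat_lit 5796)) (.node (nat_lit 203) (.leaf (nat_lit 5801)) (.leaf (nat_lit 6148)))))))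
 (.node (nat_lit 215) (.node (nat_lit 209) (.node (nat_lit 206) (.node (nat_lit 205) (.leaf (nat_lit 6161)) (.leaf (nat_lit 6165))) (.node (nat_lit 207) (.leaf (nat_lit 6169)) (.node (nat_lit 208) (.leaf (nat_lit 6224)) (.leaf (nat_lit 6228)))))
 (.node (nat_lit 212) (.node (nat_lit 210) (.leaf (nat_lit 6241)) (.node (nat_lit 211) (.leaf (nat_lit 6245)) (.leaf (nat_lit 6249)))) (.node (nat_lit 213) (.leaf (nat_lit 6273)) (.node (nat_lit 214) (.leaf (nat_lit 6277)) (.leaf (nat_lit 6281))))))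
 (.node (nat_lit 221) (.node (nat_lit 218) (.node (nat_lit 216) (.leaf (nat_lit 6308)) (.node (nat_lit 217) (.leaf (nat_lit 6400)) (.leaf (nat_lit 6409)))) (.node (nat_lit 219) (.leaf (nat_lit 6417)) (.node (nat_lit 220) (.leaf (nat_lit 6420)) (.leaf (nat_lit 6437)))))
 (.node (nat_lit 224) (.node (nat_lit 222) (.leaf (nat_lit 6469)) (.node (nat_lit 223) (.leaf (nat_lit 6480)) (.leaf (nat_lit 6489)))) (.node (nat_lit 225) (.leaf (nat_lit 6497)) (.node (nat_lit 226) (.leaf (nat_lit 6500)) (.leaf (nat_lit 6529))))))))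
 (.node (nat_lit 250) (.node (nat_lit 238) (.node (nat_lit 232) (.node (nat_lit 229) (.node (nat_lit 228) (.leaf (nat_lit 6532)) (.leaf (nat_lit 6549))) (.node (nat_lit 230) (.leaf (nat_lit 6569)) (.node (nat_lit 231) (.leaf (nat_lit 6661)) (.leaf (nat_lit 6673)))))
 (.node (nat_lit 235) (.node (nat_lit 233) (.leaf (nat_lit 6692)) (.node (nat_lit 234) (.leaf (nat_lit 6697)) (.leaf (nat_lit 6724)))) (.node (nat_lit 236) (.leaf (nat_lit 6729)) (.node (nat_lit 237) (.leaf (nat_lit 6736)) (.leaf (nat_lit 6741))))))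
 (.node (nat_lit 244) (.node (nat_lit 241) (.node (nat_lit 239) (.leaf (nat_lit 6753)) (.node (nat_lit 240) (.leaf (nat_lit 6785)) (.leaf (nat_lit 6804)))) (.node (nat_lit 242) (.leaf (nat_lit 6809)) (.node (nat_lit 243) (.leaf (nat_lit 6821)) (.leaf (nat_lit 8196)))))
 (.node (nat_lit 247) (.node (nat_lit 245) (.leaf (nat_lit 8208)) (.node (nat_lit 246) (.leaf (nat_lit 8212)) (.leaf (nat_lit 8228)))) (.node (nat_lit 248) (.leaf (nat_lit 8257)) (.node (nat_lit 249) (.leaf (nat_lit 8261)) (.leaf (nat_lit 8265)))))))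
 (.node (nat_lit 261) (.node (nat_lit 255) (.node (nat_lit 252) (.node (nat_lit 251) (.leaf (nat_lit 8273)) (.leaf (nat_lit 8277))) (.node (nat_lit 253) (.leaf (nat_lit 8281)) (.node (nat_lit 254) (.leaf (nat_lit 8289)) (.leaf (nat_lit 8293)))))
 (.node (nat_lit 258) (.node (nat_lit 256) (.leaf (nat_lit 8297)) (.node (nat_lit 257) (.leaf (nat_lit 8448)) (.leaf (nat_lit 8457)))) (.node (nat_lit 259) (.leaf (nat_lit 8464)) (.node (nat_lit 260) (.leaf (nat_lit 8473)) (.leaf (nat_lit 8489))))))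
 (.node (nat_lit 267) (.node (nat_lit 264) (.node (nat_lit 262) (.leaf (nat_lit 8513)) (.node (nat_lit 263) (.leaf (nat_lit 8516)) (.leaf (nat_lit 8529)))) (.node (nat_lit 265) (.leaf (nat_lit 8532)) (.node (nat_lit 266) (.leaf (nat_lit 8545)) (.leaf (nat_lit 8548)))))
 (.node (nat_lit 270) (.node (nat_lit 268) (.leaf (nat_lit 8581)) (.node (nat_lit 269) (.leaf (nat_lit 8597)) (.leaf (nat_lit 8613)))) (.node (nat_lit 271) (.leaf (nat_lit 8709)) (.node (nat_lit 272) (.leaf (nat_lit 8720)) (.leaf (nat_lit 8725)))))))))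
 (.node (nat_lit 318) (.node (nat_lit 295) (.node (nat_lit 284) (.node (nat_lit 278) (.node (nat_lit 275) (.node (nat_lit 274) (.leaf (nat_lit 8741)) (.leaf (nat_lit 8769))) (.node (nat_lit 276) (.leaf (nat_lit 8785)) (.node (nat_lit 277) (.leaf (nat_lit 8801)) (.leaf (nat_lit 8836)))))
 (.node (nat_lit 281) (.node (nat_lit 279) (.leaf (nat_lit 8841)) (.node (nat_lit 280) (.leaf (nat_lit 8852)) (.leaf (nat_lit 8857)))) (.node (nat_lit 282) (.leaf (nat_lit 8868)) (.node (nat_lit 283) (.leaf (nat_lit 8873)) (.leaf (nat_lit 9216))))))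
 (.node (nat_lit 289) (.node (nat_lit 286) (.node (nat_lit 285) (.leaf (nat_lit 9220)) (.leaf (nat_lit 9249))) (.node (nat_lit 287) (.leaf (nat_lit 9253)) (.node (nat_lit 288) (.leaf (nat_lit 9257)) (.leaf (nat_lit 9281)))))
 (.node (nat_lit 292) (.node (nat_lit 290) (.leaf (nat_lit 9285)) (.node (nat_lit 291) (.leaf (nat_lit 9289)) (.leaf (nat_lit 9296)))) (.node (nat_lit 293) (.leaf (nat_lit 9300)) (.node (nat_lit 294) (.leaf (nat_lit 9361)) (.leaf (nat_lit 9365)))))))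
 (.node (nat_lit 306) (.node (nat_lit 300) (.node (nat_lit 297) (.node (nat_lit 296) (.leaf (nat_lit 9369)) (.leaf (nat_lit 9380))) (.node (nat_lit 298) (.leaf (nat_lit 9472)) (.node (nat_lit 299) (.leaf (nat_lit 9481)) (.leaf (nat_lit 9493)))))
 (.node (nat_lit 303) (.node (nat_lit 301) (.leaf (nat_lit 9505)) (.node (nat_lit 302) (.leaf (nat_lit 9508)) (.leaf (nat_lit 9537)))) (.node (nat_lit 304) (.leaf (nat_lit 9540)) (.node (nat_lit 305) (.leaf (nat_lit 9552)) (.leaf (nat_lit 9561))))))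
 (.node (nat_lit 312) (.node (nat_lit 309) (.node (nat_lit 307) (.leaf (nat_lit 9573)) (.node (nat_lit 308) (.leaf (nat_lit 9605)) (.leaf (nat_lit 9617)))) (.node (nat_lit 310) (.leaf (nat_lit 9620)) (.node (nat_lit 311) (.leaf (nat_lit 9641)) (.leaf (nat_lit 9733)))))
 (.node (nat_lit 315) (.node (nat_lit 313) (.leaf (nat_lit 9748)) (.node (nat_lit 314) (.leaf (nat_lit 9753)) (.leaf (nat_lit 9761)))) (.node (nat_lit 316) (.leaf (nat_lit 9793)) (.node (nat_lit 317) (.leaf (nat_lit 9808)) (.leaf (nat_lit 9813))))))))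
 (.node (nat_lit 341) (.node (nat_lit 329) (.node (nat_lit 323) (.node (nat_lit 320) (.node (nat_lit 319) (.leaf (nat_lit 9828)) (.leaf (nat_lit 9833))) (.node (nat_lit 321) (.leaf (nat_lit 9860)) (.node (nat_lit 322) (.leaf (nat_lit 9865)) (.leaf (nat_lit 9873)))))
 (.node (nat_lit 326) (.node (nat_lit 324) (.leaf (nat_lit 9893)) (.node (nat_lit 325) (.leaf (nat_lit 10244)) (.leaf (nat_lit 10257)))) (.node (nat_lit 327) (.leaf (nat_lit 10261)) (.node (nat_lit 328) (.leaf (nat_lit 10265)) (.leaf (nat_lit 10305))))))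
 (.node (nat_lit 335) (.node (nat_lit 332) (.node (nat_lit 330) (.leaf (nat_lit 10309)) (.node (nat_lit 331) (.leaf (nat_lit 10313)) (.leaf (nat_lit 10340)))) (.node (nat_lit 333) (.leaf (nat_lit 10384)) (.node (nat_lit 334) (.leaf (nat_lit 10388)) (.leaf (nat_lit 10401)))))
 (.node (nat_lit 338) (.node (nat_lit 336) (.leaf (nat_lit 10405)) (.node (nat_lit 337) (.leaf (nat_lit 10409)) (.leaf (nat_lit 10496)))) (.node (nat_lit 339) (.leaf (nat_lit 10505)) (.node (nat_lit 340) (.leaf (nat_lit 10513)) (.leaf (nat_lit 10516)))))))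
 (.node (nat_lit 352) (.node (nat_lit 346) (.node (nat_lit 343) (.node (nat_lit 342) (.leaf (nat_lit 10533)) (.leaf (nat_lit 10561))) (.node (nat_lit 344) (.leaf (nat_lit 10564)) (.node (nat_lit 345) (.leaf (nat_lit 10581)) (.leaf (nat_lit 10601)))))
 (.node (nat_lit 349) (.node (nat_lit 347) (.leaf (nat_lit 10629)) (.node (nat_lit 348) (.leaf (nat_lit 10640)) (.leaf (nat_lit 10649)))) (.node (nat_lit 350) (.leaf (nat_lit 10657)) (.node (nat_lit 351) (.leaf (nat_lit 10660)) (.leaf (nat_lit 10757))))))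
 (.node (nat_lit 358) (.node (nat_lit 355) (.node (nat_lit 353) (.leaf (nat_lit 10769)) (.node (nat_lit 354) (.leaf (nat_lit 10788)) (.leaf (nat_lit 10793)))) (.node (nat_lit 356) (.leaf (nat_lit 10817)) (.node (nat_lit 357) (.leaf (nat_lit 10836)) (.leaf (nat_lit 10841)))))
 (.node (nat_lit 361) (.node (nat_lit 359) (.leaf (nat_lit 10853)) (.node (nat_lit 360) (.leaf (nat_lit 10884)) (.leaf (nat_lit 10889)))) (.node (nat_lit 362) (.leaf (nat_lit 10896)) (.node (nat_lit 363) (.leaf (nat_lit 10901)) (.leaf (nat_lit 10913))))))))))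
noncomputable def V : Tr ℕ := (.node (nat_lit 182) V_0 V_1)
theorem pts : ptR C3 7 true V 364 0 364 = true := by decide +kernel
noncomputable def TT0 : ℕ := (nat_lit 0x991b03c82ac1b65c9242591a8ba01a7c6b0fa22f2a4f957922613d0b33a74277ea6459622f1597ae0264be9e1184d18ee170e8a25168772505e405959cf4b4039824022ad285c52633a54548f7a40c1d33a5b95702dae48c78a396564fd028f3ad54460c8ee791aa6ac629385a8d8f84ba4855a2201f594c287b094a6f3b2e2dd1c0949bbd3a24aa95512a56f3002673a84d5e3137f8dd0abf8b1a65202a135a8681569aea9003289936f7373317c0b468cecd4031168e55f4c449cf24119d59050041f4c69628cf99ed95646063076186a8e47533a6bd213b3624ac938a31220c821e40a532da5e373454d5df8a06137e5657628025a5882b6ad49033108fe1b8eb4ce0ca3d842034a27bb1f4a835470730db4b3493105137468187c31de438a73cc750ca9c5c94fe5b58e143287290028a440fc289a419395612432785336078ae4f39031367ec69107c7b2aadc188ad7583d486ea052ba322e6d835c76b183b5d1452235588d0ab105b8b3aeb9a2308b0391f71553d21a50b7b1d038cb3217c42e13c2e4ba0478151834c8f9bd0151989a138255dd04b28b)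
noncomputable def TT1 : ℕ := (nat_lit 0x5fdaaa41ab3d9821646484ec2c2afd7848b00b5697758ab87aab54115a43350a7d3a9b4ca5d2a9348a3d1a8b44a190604721bcfa0c6f9da6e730b1f2261d34284c88d30302525a498acaa31283cbccf4f87c8b0542b8fc7a3a5b2e9a233292645a56f08998a226587cd61a769c428d83971cf60ade81d04e9007fbf9fa542914e47246bbd866359323cbd1477939da6445ba9d26b469a9caa0838e9c29538411ba773ab693cd87ba19088569b49a2d0678b4b42e2e072c6c8072f58ab20a5816a1fb5af98c0dac8757218102d9822759b104b5c57ab8020201aa8080504818180751a8942e4373653a3b9d2687a434b901c12e30911229079239ce4a7598e6c8827b59a8d5140a4a2803f9f8687c3dc964e786e431b70139d00e2df9e27cdb0974398d31a3399a20ec45449272f2fbc636cb8e334b2582b958aafc7d3ed033343bb89b1725a32584823cc48a924c10a84961fcdd323c4e38a10389f8d9e87d7a8c8623017b319d229048504835a099635d11d4c42b76055974ca0dda2a2b80bd6c2ac3b1048236507b1d78a5058294e085229950a955ab15a00)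
noncomputable def TT2 : ℕ := (nat_lit 0x301947c691c944b4402b04010190ac2e3ea476bce82b65745e62dc6342960ecac2569af98257d1b3c42c6e9ee28a2e9cb2b6b4ddf50f57b25e31e828189c0a0083c302919050861f0684875506cc4d6f689c3a612c2673dd555c96cc2849749569627fa333eccd89023a44a77ad166c8060b420d395ca7232e80b984ec6639038da13350ec3c6735990be2e341e0e84537928a83f2e9665f59592857c819225a956552a3e7c7948ab0f7266440a66848e2f50f434fba9aa9e7dd75b688b056dae8388d20441d1e0dc4c5c2114cb00c319789003abbba4a7c56b3120b89d3025c9d8c5861d697243116c7b5b99c6fe51559a4ca6d266c92c8b511fed181bbd535e3e8145e2c150c41235000cce0621189c6c0b0d01c04502911c9857231cc9e4b7048ecf1aaa5aa02e7463f130d4a5ca620dd5dcaa98f866c567ef2a8c3556a68eb78f5344da0987494a2f2ab3b2d86c4024089d4e26c0b1dc5a282a9b9e09aa9ace9ccb43421888ab1b864ef654485d6f444ad5473d69cca011262cd6a4fd5024e80bfb141e8e7e6fca1684d108f47044208704a49020ac6034)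
noncomputable def TT : Tr ℕ := (.node (nat_lit 1) (.leaf TT0) (.node (nat_lit 2) (.leaf TT1) (.leaf TT2)))
noncomputable def M0 : Sp := [[(nat_lit 0, nat_lit 2), (nat_lit 1, nat_lit 2), (nat_lit 2, nat_lit 2), (nat_lit 4, nat_lit 1), (nat_lit 5, nat_lit 2), (nat_lit 6, nat_lit 1)],
  [(nat_lit 1, nat_lit 1), (nat_lit 2, nat_lit 1)],
  [(nat_lit 1, nat_lit 1), (nat_lit 2, nat_lit 2), (nat_lit 3, nat_lit 1), (nat_lit 4, nat_lit 2), (nat_lit 5, nat_lit 1), (nat_lit 6, nat_lit 2)],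
  [(nat_lit 2, nat_lit 2), (nat_lit 3, nat_lit 2)],
  [(nat_lit 1, nat_lit 2), (nat_lit 3, nat_lit 2), (nat_lit 4, nat_lit 2), (nat_lit 5, nat_lit 2), (nat_lit 6, nat_lit 1)],
  [(nat_lit 0, nat_lit 1), (nat_lit 2, nat_lit 1), (nat_lit 4, nat_lit 1), (nat_lit 5, nat_lit 2), (nat_lit 6, nat_lit 1)],
  [(nat_lit 0, nat_lit 1), (nat_lit 1, nat_lit 2), (nat_lit 4, nat_lit 1), (nat_lit 5, nat_lit 2)]]
noncomputable def M1 : Sp := [[(nat_lit 0, nat_lit 1), (nat_lit 2, nat_lit 1), (nat_lit 3, nat_lit 1), (nat_lit 4, nat_lit 2), (nat_lit 5, nat_lit 1), (nat_lit 6, nat_lit 2)],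
  [(nat_lit 0, nat_lit 1), (nat_lit 1, nat_lit 2), (nat_lit 2, nat_lit 2), (nat_lit 3, nat_lit 2), (nat_lit 4, nat_lit 1), (nat_lit 5, nat_lit 2), (nat_lit 6, nat_lit 1)],
  [(nat_lit 0, nat_lit 2), (nat_lit 3, nat_lit 1), (nat_lit 4, nat_lit 2), (nat_lit 5, nat_lit 1), (nat_lit 6, nat_lit 2)],
  [(nat_lit 0, nat_lit 1), (nat_lit 2, nat_lit 2), (nat_lit 3, nat_lit 1), (nat_lit 4, nat_lit 1), (nat_lit 5, nat_lit 2), (nat_lit 6, nat_lit 1)],
  [(nat_lit 4, nat_lit 2)],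
  [(nat_lit 0, nat_lit 2), (nat_lit 2, nat_lit 1), (nat_lit 3, nat_lit 1), (nat_lit 4, nat_lit 2), (nat_lit 6, nat_lit 2)],
  [(nat_lit 0, nat_lit 2), (nat_lit 2, nat_lit 1), (nat_lit 3, nat_lit 1), (nat_lit 4, nat_lit 2), (nat_lit 5, nat_lit 1), (nat_lit 6, nat_lit 1)]]
noncomputable def M2 : Sp := [[(nat_lit 0, nat_lit 2), (nat_lit 1, nat_lit 2), (nat_lit 2, nat_lit 2), (nat_lit 3, nat_lit 1)],
  [(nat_lit 0, nat_lit 1), (nat_lit 1, nat_lit 2), (nat_lit 2, nat_lit 2), (nat_lit 3, nat_lit 1), (nat_lit 4, nat_lit 2), (nat_lit 5, nat_lit 2)],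
  [(nat_lit 0, nat_lit 2), (nat_lit 1, nat_lit 1), (nat_lit 2, nat_lit 1), (nat_lit 4, nat_lit 1), (nat_lit 5, nat_lit 1)],
  [(nat_lit 1, nat_lit 1), (nat_lit 2, nat_lit 2), (nat_lit 3, nat_lit 1)],
  [(nat_lit 0, nat_lit 1), (nat_lit 3, nat_lit 2), (nat_lit 4, nat_lit 2), (nat_lit 6, nat_lit 1)],
  [(nat_lit 0, nat_lit 1), (nat_lit 1, nat_lit 2), (nat_lit 2, nat_lit 2), (nat_lit 3, nat_lit 1), (nat_lit 4, nat_lit 2), (nat_lit 6, nat_lit 1)],
  [(nat_lit 4, nat_lit 2), (nat_lit 5, nat_lit 1)]]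
noncomputable def MT : Tr Sp := (.node (nat_lit 1) (.leaf M0) (.node (nat_lit 2) (.leaf M1) (.leaf M2)))
noncomputable def SC : Tr ℕ := (.node (nat_lit 1) (.leaf (nat_lit 0xa6565956696695a666a69a6aa959555aa99a5a956695a56a6969a95999696a5559a6aaa659a55a595a55999a56a955699a5aa99a6aa6a55956a9999655559565666699a9959665a9696a6aaa6a9595996665659969655a5569699a)) (.node (nat_lit 2) (.leaf (nat_lit 0xa5a69aa6aa9a5aaaaaaa9666a96666a9669955aa99a69999669a96a955aa56a96959a9696695aaa66a5966a69a6596a5a5a6a999a5969a656a555aa6aa55a9a959a59a999aa9596a969965966a69aaa9556599969aa96999aaa596)) (.leaf (nat_lit 0xa65659696969666559966995a9669555a6669966a965999656a5a6a666a69656665a559a59a99669aa5a5a5556a959995599aa659666a55669a66a99a59669656aa965a695965a69a9a5aa55559599659a66566a55a6569a95959a))))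
theorem act : ActAll C3 7 true V 364 (nat_lit 9) (nat_lit 511) MT TT SC 3 := actAll_of (by decide +kernel)
noncomputable def OT : Tr ℕ := (.node (nat_lit 1) (.leaf (nat_lit 14)) (.node (nat_lit 2) (.leaf (nat_lit 2)) (.leaf (nat_lit 15))))
noncomputable def BQ (i j : ℕ) : ℕ := ite' (bor (band true (band (Nat.beq i 0) (Nat.beq j 0))) (band (Nat.beq j (i + 3)) (Nat.ble 1 i))) 1 0
theorem pw : ∀ j < 3, powChk C3 7 (MT.get j) (OT.get j) = true ∧ 0 < OT.get j ∧ quadChk C3 7 BQ (MT.get j) = true := by decide +kernel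
theorem cen : Subgroup.center P = ⊥ := center_eq_bot lets base (nat_lit 0) [[nat_lit 5, nat_lit 2, nat_lit 8]] [[], [nat_lit 9, nat_lit 6, nat_lit 7, nat_lit 2, nat_lit 9], [nat_lit 8, nat_lit 4, nat_lit 9, nat_lit 1, nat_lit 9], [nat_lit 7, nat_lit 6, nat_lit 8, nat_lit 1, nat_lit 9], [nat_lit 9, nat_lit 4, nat_lit 0, nat_lit 9], [nat_lit 5, nat_lit 8, nat_lit 3, nat_lit 9], [nat_lit 7, nat_lit 9, nat_lit 8, nat_lit 0, nat_lit 9]] (by decide +kernel)
theorem iso {F : Type*} [Field F] [Fintype F] (hF : Fintype.card F = 3) :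
    Nonempty (Cfsg.POmega F (Cfsg.quadFormOdd 3 F) ≃* P) := by
  haveI : CharP F 3 := charP_of_card (k := 1) (by norm_num) hF
  have h := fm3 (F := F)
  have hx := ix_usum 3
  refine iso_quot_center gen (h.pt_inj hx (τGL (Cfsg.isometryGroup F (Cfsg.quadFormOdd 3 F))) pts)
    (lets_comm (act.lets h hx fun j hj => h.exists_O hx (fun v => ?_) (pw j hj).1 (pw j hj).2.1 (pw j hj).2.2)
      (.node (nat_lit 1) (.leaf 0) (.node (nat_lit 2) (.leaf 0) (.leaf 1))) (.node (nat_lit 1) (.leaf 1) (.node (nat_lit 2) (.leaf 2) (.leaf 2))) (by decide +kernel)) cen ?_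
  · simp [Cfsg.quadFormOdd, dotProduct, mulVec, decF, Fintype.sum_sum_type, Fin.sum_univ_succ, BQ, ixS, ixU, ite', band, bor, Nat.beq, Nat.ble, sq]
  · have := Cfsg.Agent.S0292.result hF (by decide) 3 (by norm_num)
    rw [card]
    simp only [Finset.prod_range_succ, Finset.prod_range_zero] at this
    norm_num at this
    show Nat.card (Cfsg.POmega F (Cfsg.quadFormOdd 3 F)) ≤ _
    omega

end H8.O73
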