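import Cfsg.Agent.H8.Chev2
import Cfsg.Agent.H8.GA
import Cfsg.Agent.H8.GM
import Cfsg.Agent.H8.Or
import Cfsg.Agent.H8.Sub3
import Cfsg.Agent.H8.XL28
import Cfsg.Agent.S1069

/-! H8.XR3: the Ree group over the field with three elements and its derived group (generated certificate) -/

set_option autoImplicit false
set_option maxRecDepth 200000

set_option linter.all false
open Subgroup 

namespace H8.R3

instance : NeZero Cfsg.Lie.chevG2.rank := ⟨by decide⟩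
instance : NeZero Cfsg.Lie.chevG2.nroots := ⟨by decide⟩
noncomputable def V : Tr ℕ := (.node (nat_lit 14) (.node (nat_lit 7) (.node (nat_lit 3) (.node (nat_lit 1) (.leaf (nat_lit 16)) (.node (nat_lit 2) (.leaf (nat_lit 67108864)) (.leaf (nat_lit 68166249))))
 (.node (nat_lit 5) (.node (nat_lit 4) (.leaf (nat_lit 73830996)) (.leaf (nat_lit 77945365))) (.node (nat_lit 6) (.leaf (nat_lit 86582613)) (.leaf (nat_lit 88343593)))))
 (.node (nat_lit 10) (.node (nat_lit 8) (.leaf (nat_lit 89679957)) (.node (nat_lit 9) (.leaf (nat_lit 90221201)) (.leaf (nat_lit 92707092))))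
 (.node (nat_lit 12) (.node (nat_lit 11) (.leaf (nat_lit 94521705)) (.leaf (nat_lit 100745361))) (.node (nat_lit 13) (.leaf (nat_lit 103131300)) (.leaf (nat_lit 111806801))))))
 (.node (nat_lit 21) (.node (nat_lit 17) (.node (nat_lit 15) (.leaf (nat_lit 135270745)) (.node (nat_lit 16) (.leaf (nat_lit 139104528)) (.leaf (nat_lit 141207845))))
 (.node (nat_lit 19) (.node (nat_lit 18) (.leaf (nat_lit 143217168)) (.leaf (nat_lit 145318244))) (.node (nat_lit 20) (.leaf (nat_lit 153491045)) (.leaf (nat_lit 155806244)))))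
 (.node (nat_lit 24) (.node (nat_lit 22) (.leaf (nat_lit 157387353)) (.node (nat_lit 23) (.leaf (nat_lit 159908889)) (.leaf (nat_lit 160733285))))
 (.node (nat_lit 26) (.node (nat_lit 25) (.leaf (nat_lit 161503649)) (.leaf (nat_lit 167936161))) (.node (nat_lit 27) (.leaf (nat_lit 170547348)) (.leaf (nat_lit 174393953)))))))
theorem pts : ptR C3 14 true V 28 0 28 = true := by decide +kernel
noncomputable def ft0 : ℕ := (nat_lit 0x6b1683994928e2478b7acd698bda7093820)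
noncomputable def ft1 : ℕ := (nat_lit 0xc36a38c9e416d25d1e0e0ded35b29951900)
noncomputable def ft2 : ℕ := (nat_lit 0x93c9b5272545aedab34638e2170a14c4d60)
noncomputable def ft3 : ℕ := (nat_lit 0x815584aeae43cdb95061b66f30474468987)
noncomputable def fT : Tr ℕ := (.node (nat_lit 2) (.node (nat_lit 1) (.leaf ft0) (.leaf ft1)) (.node (nat_lit 3) (.leaf ft2) (.leaf ft3)))
noncomputable def fL0 : Lev := ⟨(nat_lit 0), (nat_lit 4), (nat_lit 0x3010102010401040203030203020402030204030404020302010300), (nat_lit 0x5040305020304030404030505020503020303040104040404030300),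
 (.leaf 0),
 (.leaf 0)⟩
noncomputable def fL1 : Lev := ⟨(nat_lit 1), (nat_lit 3), (nat_lit 0x2030101010203020302030103020102020101030203010203030000), (nat_lit 0x3050202030503040204040404030404010405010204030303030000),
 (.leaf 0),
 (.leaf 0)⟩
noncomputable def fL2 : Lev := ⟨(nat_lit 2), (nat_lit 1), (nat_lit 0x10000000000000000000000000000), (nat_lit 0x10000000000000000000000000000),
 (.leaf 0),
 (.leaf 0)⟩
noncomputable def fL : List Lev := [fL0, fL1, fL2]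
noncomputable def fs0 : ℕ := (nat_lit 0xc38946dd22a9d489d8112e76c868d278c2b)
noncomputable def fs1 : ℕ := (nat_lit 0x93c9b5272545aedab34638e2170a14c4d60)
noncomputable def fs2 : ℕ := (nat_lit 0x4995bb3a78791871eae8046b0915791502d)
noncomputable def fs3 : ℕ := (nat_lit 0xc36a38c9e416d25d1e0e0ded35b29951900)
noncomputable def fs4 : ℕ := (nat_lit 0x3a7711c88f155ab9e2017191a2e54ca5ec0)
noncomputable def fs5 : ℕ := (nat_lit 0xca0ce106437db0da2e2481749da8f5bcd80)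
noncomputable def fs6 : ℕ := (nat_lit 0x6b1683994928e2478b7acd698bda7093820)
noncomputable def fs7 : ℕ := (nat_lit 0x815584aeae43cdb95061b66f30474468987)
noncomputable def fS : Tr ℕ := (.node (nat_lit 4) (.node (nat_lit 2) (.node (nat_lit 1) (.leaf fs0) (.leaf fs1)) (.node (nat_lit 3) (.leaf fs2) (.leaf fs3)))
 (.node (nat_lit 6) (.node (nat_lit 5) (.leaf fs4) (.leaf fs5)) (.node (nat_lit 7) (.leaf fs6) (.leaf fs7))))
noncomputable def fD : Tr (List ℕ) := (.node (nat_lit 4) (.node (nat_lit 2) (.node (nat_lit 1) (.leaf []) (.leaf [])) (.node (nat_lit 3) (.leaf [nat_lit 0, nat_lit 0, nat_lit 0, nat_lit 0, nat_lit 0, nat_lit 0, nat_lit 0, nat_lit 0]) (.leaf [nat_lit 1, nat_lit 1, nat_lit 1, nat_lit 1, nat_lit 1, nat_lit 1, nat_lit 1, nat_lit 1])))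
 (.node (nat_lit 6) (.node (nat_lit 5) (.leaf [nat_lit 2, nat_lit 2, nat_lit 2, nat_lit 2, nat_lit 1, nat_lit 2]) (.leaf [nat_lit 0, nat_lit 3, nat_lit 0, nat_lit 0, nat_lit 0, nat_lit 0])) (.node (nat_lit 7) (.leaf [nat_lit 5, nat_lit 5, nat_lit 3, nat_lit 4]) (.leaf [nat_lit 1, nat_lit 0, nat_lit 6, nat_lit 5]))))
theorem fslp : slpChk 28 (nat_lit 5) (nat_lit 31) fS fD 2 6 = true := by decide +kernel
noncomputable def M0 : Sp := [[(nat_lit 0, nat_lit 1), (nat_lit 2, nat_lit 1), (nat_lit 3, nat_lit 1), (nat_lit 6, nat_lit 1)],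
  [(nat_lit 1, nat_lit 1), (nat_lit 7, nat_lit 1)],
  [(nat_lit 2, nat_lit 1)],
  [(nat_lit 2, nat_lit 2), (nat_lit 3, nat_lit 1)],
  [(nat_lit 3, nat_lit 2), (nat_lit 4, nat_lit 1)],
  [(nat_lit 3, nat_lit 2), (nat_lit 4, nat_lit 2), (nat_lit 5, nat_lit 1)],
  [(nat_lit 3, nat_lit 1), (nat_lit 4, nat_lit 1), (nat_lit 5, nat_lit 2), (nat_lit 6, nat_lit 1)],
  [(nat_lit 2, nat_lit 1), (nat_lit 3, nat_lit 2), (nat_lit 7, nat_lit 1)],
  [(nat_lit 1, nat_lit 1), (nat_lit 2, nat_lit 1), (nat_lit 7, nat_lit 2), (nat_lit 8, nat_lit 1)],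
  [(nat_lit 0, nat_lit 1), (nat_lit 1, nat_lit 1), (nat_lit 3, nat_lit 2), (nat_lit 4, nat_lit 1), (nat_lit 6, nat_lit 2), (nat_lit 9, nat_lit 1)],
  [(nat_lit 0, nat_lit 1), (nat_lit 1, nat_lit 1), (nat_lit 3, nat_lit 1), (nat_lit 4, nat_lit 2), (nat_lit 6, nat_lit 2), (nat_lit 8, nat_lit 2), (nat_lit 9, nat_lit 1), (nat_lit 10, nat_lit 1)],
  [(nat_lit 3, nat_lit 1), (nat_lit 4, nat_lit 1), (nat_lit 5, nat_lit 2), (nat_lit 6, nat_lit 2), (nat_lit 8, nat_lit 1), (nat_lit 10, nat_lit 1), (nat_lit 11, nat_lit 1)],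
  [(nat_lit 1, nat_lit 1), (nat_lit 2, nat_lit 2), (nat_lit 7, nat_lit 2), (nat_lit 8, nat_lit 1), (nat_lit 12, nat_lit 1)],
  [(nat_lit 2, nat_lit 1), (nat_lit 3, nat_lit 2), (nat_lit 7, nat_lit 2), (nat_lit 12, nat_lit 1), (nat_lit 13, nat_lit 1)]]
noncomputable def M1 : Sp := [[(nat_lit 0, nat_lit 1), (nat_lit 9, nat_lit 1), (nat_lit 12, nat_lit 1), (nat_lit 13, nat_lit 1)],
  [(nat_lit 1, nat_lit 1), (nat_lit 8, nat_lit 1)],
  [(nat_lit 2, nat_lit 1), (nat_lit 3, nat_lit 1), (nat_lit 8, nat_lit 2), (nat_lit 12, nat_lit 2), (nat_lit 13, nat_lit 1)],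
  [(nat_lit 1, nat_lit 1), (nat_lit 3, nat_lit 1), (nat_lit 7, nat_lit 1), (nat_lit 8, nat_lit 2), (nat_lit 13, nat_lit 2)],
  [(nat_lit 4, nat_lit 1), (nat_lit 5, nat_lit 1), (nat_lit 7, nat_lit 1), (nat_lit 9, nat_lit 2), (nat_lit 10, nat_lit 2), (nat_lit 11, nat_lit 1), (nat_lit 12, nat_lit 1)],
  [(nat_lit 0, nat_lit 1), (nat_lit 1, nat_lit 1), (nat_lit 5, nat_lit 1), (nat_lit 6, nat_lit 1), (nat_lit 7, nat_lit 2), (nat_lit 9, nat_lit 2), (nat_lit 11, nat_lit 2), (nat_lit 12, nat_lit 1)],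
  [(nat_lit 0, nat_lit 1), (nat_lit 1, nat_lit 1), (nat_lit 6, nat_lit 1), (nat_lit 9, nat_lit 2), (nat_lit 11, nat_lit 1), (nat_lit 12, nat_lit 2)],
  [(nat_lit 1, nat_lit 1), (nat_lit 7, nat_lit 1), (nat_lit 8, nat_lit 2), (nat_lit 13, nat_lit 1)],
  [(nat_lit 8, nat_lit 1), (nat_lit 12, nat_lit 2), (nat_lit 13, nat_lit 1)],
  [(nat_lit 9, nat_lit 1), (nat_lit 10, nat_lit 2), (nat_lit 11, nat_lit 1), (nat_lit 12, nat_lit 1)],
  [(nat_lit 10, nat_lit 1), (nat_lit 11, nat_lit 2), (nat_lit 12, nat_lit 2)],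
  [(nat_lit 11, nat_lit 1), (nat_lit 12, nat_lit 2)],
  [(nat_lit 12, nat_lit 1), (nat_lit 13, nat_lit 2)],
  [(nat_lit 13, nat_lit 1)]]
noncomputable def MT : Tr Sp := (.node (nat_lit 1) (.leaf M0) (.leaf M1))
noncomputable def SC : Tr ℕ := (.node (nat_lit 1) (.leaf (nat_lit 0x59a5aa965aaa65)) (.leaf (nat_lit 0x59a69669599aa5)))
theorem act : ActAll C3 14 true V 28 (nat_lit 5) (nat_lit 31) MT fS SC 2 := actAll_of (by decide +kernel)
noncomputable def X7_1 : Sp := [[(nat_lit 0, nat_lit 1), (nat_lit 6, nat_lit 1)],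
  [(nat_lit 1, nat_lit 1)],
  [(nat_lit 2, nat_lit 1)],
  [(nat_lit 3, nat_lit 1)],
  [(nat_lit 3, nat_lit 2), (nat_lit 4, nat_lit 1)],
  [(nat_lit 3, nat_lit 2), (nat_lit 4, nat_lit 2), (nat_lit 5, nat_lit 1)],
  [(nat_lit 6, nat_lit 1)],
  [(nat_lit 3, nat_lit 2), (nat_lit 7, nat_lit 1)],
  [(nat_lit 8, nat_lit 1)],
  [(nat_lit 0, nat_lit 1), (nat_lit 1, nat_lit 1), (nat_lit 6, nat_lit 2), (nat_lit 9, nat_lit 1)],
  [(nat_lit 8, nat_lit 2), (nat_lit 10, nat_lit 1)],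
  [(nat_lit 8, nat_lit 1), (nat_lit 10, nat_lit 1), (nat_lit 11, nat_lit 1)],
  [(nat_lit 8, nat_lit 1), (nat_lit 12, nat_lit 1)],
  [(nat_lit 13, nat_lit 1)]]
noncomputable def X6_1 : Sp := [[(nat_lit 0, nat_lit 1)],
  [(nat_lit 1, nat_lit 1), (nat_lit 7, nat_lit 1)],
  [(nat_lit 2, nat_lit 1)],
  [(nat_lit 2, nat_lit 2), (nat_lit 3, nat_lit 1)],
  [(nat_lit 4, nat_lit 1)],
  [(nat_lit 5, nat_lit 1)],
  [(nat_lit 5, nat_lit 2), (nat_lit 6, nat_lit 1)],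
  [(nat_lit 7, nat_lit 1)],
  [(nat_lit 1, nat_lit 1), (nat_lit 7, nat_lit 2), (nat_lit 8, nat_lit 1)],
  [(nat_lit 9, nat_lit 1)],
  [(nat_lit 9, nat_lit 1), (nat_lit 10, nat_lit 1)],
  [(nat_lit 11, nat_lit 1)],
  [(nat_lit 12, nat_lit 1)],
  [(nat_lit 12, nat_lit 1), (nat_lit 13, nat_lit 1)]]
noncomputable def X8_1 : Sp := [[(nat_lit 0, nat_lit 1), (nat_lit 5, nat_lit 1)],
  [(nat_lit 1, nat_lit 1)],
  [(nat_lit 2, nat_lit 1)],
  [(nat_lit 3, nat_lit 1)],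
  [(nat_lit 2, nat_lit 2), (nat_lit 4, nat_lit 1)],
  [(nat_lit 5, nat_lit 1)],
  [(nat_lit 2, nat_lit 1), (nat_lit 4, nat_lit 1), (nat_lit 6, nat_lit 1)],
  [(nat_lit 7, nat_lit 1)],
  [(nat_lit 2, nat_lit 1), (nat_lit 8, nat_lit 1)],
  [(nat_lit 7, nat_lit 2), (nat_lit 9, nat_lit 1)],
  [(nat_lit 0, nat_lit 1), (nat_lit 1, nat_lit 2), (nat_lit 5, nat_lit 2), (nat_lit 10, nat_lit 1)],
  [(nat_lit 7, nat_lit 2), (nat_lit 9, nat_lit 2), (nat_lit 11, nat_lit 1)],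
  [(nat_lit 12, nat_lit 1)],
  [(nat_lit 7, nat_lit 2), (nat_lit 13, nat_lit 1)]]
noncomputable def X9_1 : Sp := [[(nat_lit 0, nat_lit 1), (nat_lit 4, nat_lit 2)],
  [(nat_lit 1, nat_lit 1)],
  [(nat_lit 2, nat_lit 1)],
  [(nat_lit 3, nat_lit 1)],
  [(nat_lit 4, nat_lit 1)],
  [(nat_lit 2, nat_lit 1), (nat_lit 5, nat_lit 1)],
  [(nat_lit 3, nat_lit 1), (nat_lit 6, nat_lit 1)],
  [(nat_lit 7, nat_lit 1)],
  [(nat_lit 8, nat_lit 1)],
  [(nat_lit 2, nat_lit 2), (nat_lit 5, nat_lit 1), (nat_lit 9, nat_lit 1)],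
  [(nat_lit 3, nat_lit 1), (nat_lit 6, nat_lit 2), (nat_lit 10, nat_lit 1)],
  [(nat_lit 0, nat_lit 2), (nat_lit 4, nat_lit 2), (nat_lit 11, nat_lit 1)],
  [(nat_lit 2, nat_lit 1), (nat_lit 12, nat_lit 1)],
  [(nat_lit 3, nat_lit 2), (nat_lit 13, nat_lit 1)]]
noncomputable def X10_0 : Sp := [[(nat_lit 0, nat_lit 1)],
  [(nat_lit 1, nat_lit 1)],
  [(nat_lit 2, nat_lit 1)],
  [(nat_lit 3, nat_lit 1)],
  [(nat_lit 4, nat_lit 1)],
  [(nat_lit 5, nat_lit 1)],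
  [(nat_lit 6, nat_lit 1)],
  [(nat_lit 7, nat_lit 1)],
  [(nat_lit 8, nat_lit 1)],
  [(nat_lit 9, nat_lit 1)],
  [(nat_lit 10, nat_lit 1)],
  [(nat_lit 11, nat_lit 1)],
  [(nat_lit 12, nat_lit 1)],
  [(nat_lit 13, nat_lit 1)]]
noncomputable def X11_0 : Sp := [[(nat_lit 0, nat_lit 1)],
  [(nat_lit 1, nat_lit 1)],
  [(nat_lit 2, nat_lit 1)],
  [(nat_lit 3, nat_lit 1)],
  [(nat_lit 4, nat_lit 1)],
  [(nat_lit 5, nat_lit 1)],
  [(nat_lit 6, nat_lit 1)],
  [(nat_lit 7, nat_lit 1)],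
  [(nat_lit 8, nat_lit 1)],
  [(nat_lit 9, nat_lit 1)],
  [(nat_lit 10, nat_lit 1)],
  [(nat_lit 11, nat_lit 1)],
  [(nat_lit 12, nat_lit 1)],
  [(nat_lit 13, nat_lit 1)]]
noncomputable def X4_2 : Sp := [[(nat_lit 0, nat_lit 1), (nat_lit 9, nat_lit 1)],
  [(nat_lit 1, nat_lit 1)],
  [(nat_lit 2, nat_lit 1)],
  [(nat_lit 3, nat_lit 1), (nat_lit 7, nat_lit 1)],
  [(nat_lit 4, nat_lit 1), (nat_lit 5, nat_lit 1), (nat_lit 7, nat_lit 1)],
  [(nat_lit 5, nat_lit 1), (nat_lit 7, nat_lit 2)],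
  [(nat_lit 0, nat_lit 1), (nat_lit 1, nat_lit 1), (nat_lit 6, nat_lit 1), (nat_lit 9, nat_lit 2)],
  [(nat_lit 7, nat_lit 1)],
  [(nat_lit 8, nat_lit 1), (nat_lit 12, nat_lit 2)],
  [(nat_lit 9, nat_lit 1)],
  [(nat_lit 10, nat_lit 1), (nat_lit 11, nat_lit 2), (nat_lit 12, nat_lit 2)],
  [(nat_lit 11, nat_lit 1), (nat_lit 12, nat_lit 2)],
  [(nat_lit 12, nat_lit 1)],
  [(nat_lit 13, nat_lit 1)]]
noncomputable def X5_2 : Sp := [[(nat_lit 0, nat_lit 1)],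
  [(nat_lit 1, nat_lit 1), (nat_lit 8, nat_lit 1)],
  [(nat_lit 2, nat_lit 1), (nat_lit 3, nat_lit 1)],
  [(nat_lit 3, nat_lit 1)],
  [(nat_lit 4, nat_lit 1)],
  [(nat_lit 5, nat_lit 1), (nat_lit 6, nat_lit 1)],
  [(nat_lit 6, nat_lit 1)],
  [(nat_lit 1, nat_lit 1), (nat_lit 7, nat_lit 1), (nat_lit 8, nat_lit 2)],
  [(nat_lit 8, nat_lit 1)],
  [(nat_lit 9, nat_lit 1), (nat_lit 10, nat_lit 2)],
  [(nat_lit 10, nat_lit 1)],
  [(nat_lit 11, nat_lit 1)],
  [(nat_lit 12, nat_lit 1), (nat_lit 13, nat_lit 2)],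
  [(nat_lit 13, nat_lit 1)]]
noncomputable def X3_2 : Sp := [[(nat_lit 0, nat_lit 1), (nat_lit 10, nat_lit 1)],
  [(nat_lit 1, nat_lit 1)],
  [(nat_lit 2, nat_lit 1), (nat_lit 8, nat_lit 2)],
  [(nat_lit 3, nat_lit 1)],
  [(nat_lit 4, nat_lit 1), (nat_lit 6, nat_lit 2), (nat_lit 8, nat_lit 2)],
  [(nat_lit 0, nat_lit 1), (nat_lit 1, nat_lit 2), (nat_lit 5, nat_lit 1), (nat_lit 10, nat_lit 2)],
  [(nat_lit 6, nat_lit 1), (nat_lit 8, nat_lit 2)],
  [(nat_lit 7, nat_lit 1), (nat_lit 13, nat_lit 1)],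
  [(nat_lit 8, nat_lit 1)],
  [(nat_lit 9, nat_lit 1), (nat_lit 11, nat_lit 1), (nat_lit 13, nat_lit 1)],
  [(nat_lit 10, nat_lit 1)],
  [(nat_lit 11, nat_lit 1), (nat_lit 13, nat_lit 2)],
  [(nat_lit 12, nat_lit 1)],
  [(nat_lit 13, nat_lit 1)]]
noncomputable def X2_2 : Sp := [[(nat_lit 0, nat_lit 1), (nat_lit 11, nat_lit 2)],
  [(nat_lit 1, nat_lit 1)],
  [(nat_lit 2, nat_lit 1), (nat_lit 12, nat_lit 2)],
  [(nat_lit 3, nat_lit 1), (nat_lit 13, nat_lit 1)],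
  [(nat_lit 0, nat_lit 2), (nat_lit 4, nat_lit 1), (nat_lit 11, nat_lit 2)],
  [(nat_lit 5, nat_lit 1), (nat_lit 9, nat_lit 2), (nat_lit 12, nat_lit 1)],
  [(nat_lit 6, nat_lit 1), (nat_lit 10, nat_lit 1), (nat_lit 13, nat_lit 2)],
  [(nat_lit 7, nat_lit 1)],
  [(nat_lit 8, nat_lit 1)],
  [(nat_lit 9, nat_lit 1), (nat_lit 12, nat_lit 1)],
  [(nat_lit 10, nat_lit 1), (nat_lit 13, nat_lit 1)],
  [(nat_lit 11, nat_lit 1)],
  [(nat_lit 12, nat_lit 1)],
  [(nat_lit 13, nat_lit 1)]]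
noncomputable def X1_0 : Sp := [[(nat_lit 0, nat_lit 1)],
  [(nat_lit 1, nat_lit 1)],
  [(nat_lit 2, nat_lit 1)],
  [(nat_lit 3, nat_lit 1)],
  [(nat_lit 4, nat_lit 1)],
  [(nat_lit 5, nat_lit 1)],
  [(nat_lit 6, nat_lit 1)],
  [(nat_lit 7, nat_lit 1)],
  [(nat_lit 8, nat_lit 1)],
  [(nat_lit 9, nat_lit 1)],
  [(nat_lit 10, nat_lit 1)],
  [(nat_lit 11, nat_lit 1)],
  [(nat_lit 12, nat_lit 1)],
  [(nat_lit 13, nat_lit 1)]]
noncomputable def X0_0 : Sp := [[(nat_lit 0, nat_lit 1)],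
  [(nat_lit 1, nat_lit 1)],
  [(nat_lit 2, nat_lit 1)],
  [(nat_lit 3, nat_lit 1)],
  [(nat_lit 4, nat_lit 1)],
  [(nat_lit 5, nat_lit 1)],
  [(nat_lit 6, nat_lit 1)],
  [(nat_lit 7, nat_lit 1)],
  [(nat_lit 8, nat_lit 1)],
  [(nat_lit 9, nat_lit 1)],
  [(nat_lit 10, nat_lit 1)],
  [(nat_lit 11, nat_lit 1)],
  [(nat_lit 12, nat_lit 1)],
  [(nat_lit 13, nat_lit 1)]]
noncomputable def W0 : List (ℕ × ℕ × Sp) := [(7, 1, X7_1), (6, 1, X6_1), (8, 1, X8_1), (9, 1, X9_1), (10, 0, X10_0), (11, 0, X11_0)]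
theorem pw0 : wordChk C3 3 14 Cfsg.Lie.chevG2 (unS Cfsg.Lie.chevG2.rank Cfsg.Lie.chevG2.nroots) W0 (MT.get 0) 9 = true := by decide +kernel
noncomputable def W1 : List (ℕ × ℕ × Sp) := [(4, 2, X4_2), (5, 2, X5_2), (3, 2, X3_2), (2, 2, X2_2), (1, 0, X1_0), (0, 0, X0_0)]
theorem pw1 : wordChk C3 3 14 Cfsg.Lie.chevG2 (unS Cfsg.Lie.chevG2.rank Cfsg.Lie.chevG2.nroots) W1 (MT.get 1) 9 = true := by decide +kernel
noncomputable def yt0 : ℕ := (nat_lit 0x6b1683994928e2478b7acd698bda7093820)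
noncomputable def yt1 : ℕ := (nat_lit 0x10e38b5db4597263a6ac985c47c248d6d40)
noncomputable def yt2 : ℕ := (nat_lit 0x309afb8670aba34c4b2c3a5435ec0446ac5)
noncomputable def yT : Tr ℕ := (.node (nat_lit 1) (.leaf yt0) (.node (nat_lit 2) (.leaf yt1) (.leaf yt2)))
noncomputable def yR : Tr (List ℕ) := (.node (nat_lit 4) (.node (nat_lit 2) (.node (nat_lit 1) (.leaf [nat_lit 0, nat_lit 1, nat_lit 0, nat_lit 1, nat_lit 2, nat_lit 1, nat_lit 2, nat_lit 1, nat_lit 2, nat_lit 0, nat_lit 2, nat_lit 0, nat_lit 2]) (.leaf [nat_lit 0, nat_lit 0])) (.node (nat_lit 3) (.leaf [nat_lit 1, nat_lit 0, nat_lit 1, nat_lit 2, nat_lit 1, nat_lit 0, nat_lit 2, nat_lit 0, nat_lit 1, nat_lit 0, nat_lit 2, nat_lit 0, nat_lit 1, nat_lit 2]) (.leaf [nat_lit 1, nat_lit 0, nat_lit 1, nat_lit 0, nat_lit 1, nat_lit 0, nat_lit 1, nat_lit 0, nat_lit 1, nat_lit 0, nat_lit 1, nat_lit 0, nat_lit 1, nat_lit 0, nat_lit 1, nat_lit 0, nat_lit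 1, nat_lit 0])))
 (.node (nat_lit 6) (.node (nat_lit 5) (.leaf [nat_lit 1, nat_lit 1]) (.leaf [nat_lit 1, nat_lit 0, nat_lit 1, nat_lit 0, nat_lit 2, nat_lit 1, nat_lit 2, nat_lit 0, nat_lit 1, nat_lit 0, nat_lit 1, nat_lit 2, nat_lit 0, nat_lit 2])) (.node (nat_lit 7) (.leaf [nat_lit 1, nat_lit 0, nat_lit 1, nat_lit 2, nat_lit 0, nat_lit 1, nat_lit 2, nat_lit 0, nat_lit 2, nat_lit 0, nat_lit 2, nat_lit 1, nat_lit 0, nat_lit 2]) (.leaf [nat_lit 2, nat_lit 2]))))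
noncomputable def yL0 : Lev := ⟨(nat_lit 0), (nat_lit 3), (nat_lit 0x1020101010203010102020102030201020102030303030201010200), (nat_lit 0x5040405050603050202050605030405030404040406010503040500),
 (.node (nat_lit 1) (.leaf (nat_lit 0x1000000000000000900010000000000010005000000020001000100000001000000010001000100080001000100000000000b0000))
 (.node (nat_lit 2) (.leaf (nat_lit 0x2000000010002000100000001000400010000000000020000000100000004000000010000000100010003000100000001000300000000))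
 (.leaf (nat_lit 0x10004000700030002000b00000007000100010007000600040000000600030001000200030000000000000000000600010005000a0001)))),
 (.node (nat_lit 1) (.leaf (nat_lit 0x10000000000000000000000010000010000000000000000010000030b000000000201000100000101000000000101000000000101000101000101000002000101000101000000000000000000000000))
 (.node (nat_lit 2) (.leaf (nat_lit 0x508000000000400000208000400000000000400000001000400000000000000000600000000000400000000000505000000000400000000000400000401000401000401000000000401000401000000000000))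
 (.leaf (nat_lit 0x70000000a000700000008000608000700000000000700000701000700000004000004000701000000000004000206000700000008000701000000000000000000000000000004000701000701000006000701))))⟩
noncomputable def yL1 : Lev := ⟨(nat_lit 1), (nat_lit 2), (nat_lit 0x1000000000001010000000000010200000202000000000000020000), (nat_lit 0x4000000000002080000000000060300000107000000000000050000),
 (.node (nat_lit 1) (.leaf (nat_lit 0x10000000000010001000000000000000000000000000100000000))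
 (.leaf (nat_lit 0x1000000000000000000000001000200000000000000000000000100000000000000000000000000000000000000000000000000010000))),
 (.node (nat_lit 1) (.leaf (nat_lit 0x101000000000000000101000101000000000000000000000000000000000000000101000000000000))
 (.leaf (nat_lit 0x400000000000000000000000000000000000400000308000000000000000000000000000000000400000000000000000000000000000000000000000000000000000000000000000000000000000401000000)))⟩
noncomputable def yL2 : Lev := ⟨(nat_lit 2), (nat_lit 1), (nat_lit 0x10000000000000000000000000000), (nat_lit 0x10000000000000000000000000000),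
 (.leaf (nat_lit 0x100000000)),
 (.leaf (nat_lit 0x101000000000000))⟩
noncomputable def yL : List Lev := [yL0, yL1, yL2]
noncomputable def yE : Tr (List ℕ) := (.node (nat_lit 1) (.leaf [nat_lit 0]) (.node (nat_lit 2) (.leaf [nat_lit 0, nat_lit 1, nat_lit 0, nat_lit 2, nat_lit 0]) (.leaf [nat_lit 2, nat_lit 3, nat_lit 2, nat_lit 3, nat_lit 0, nat_lit 1, nat_lit 1, nat_lit 0])))
theorem yw_0 : yT.all2 (fun c w => isProd 28 (nat_lit 5) (nat_lit 31) fT c w) yE = true := by decide +kernel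
theorem yw : yT.all2 (fun c w => isProd 28 (nat_lit 5) (nat_lit 31) fT c w) yE = true := yw_0
theorem ylev0 : levChk 28 (nat_lit 5) (nat_lit 31) yT yR yL0 yL1.N = true := by decide +kernel
theorem ylev1 : levChk 28 (nat_lit 5) (nat_lit 31) yT yR yL1 yL2.N = true := by decide +kernel
theorem ylev2 : levChk 28 (nat_lit 5) (nat_lit 31) yT yR yL2 0 = true := by decide +kernel
theorem ychain : Chain 28 (nat_lit 5) (nat_lit 31) yT yR yL := chain_cons ylev0 <| chain_cons ylev1 <| chain_one ylev2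
theorem ysd : band (selChk yT yT (topN yL)) (yR.all fun w => eqB (fL.map Lev.b) (apL (nat_lit 5) (nat_lit 31) yT w) fun a => a) = true := by decide +kernel
theorem ytc : tchainChk 28 (nat_lit 5) (nat_lit 31) yT yL = true := by decide +kernel
noncomputable def ys0 : ℕ := (nat_lit 0x92e056382203f46bc48a6cce8c2695de6c3)
noncomputable def ys1 : ℕ := (nat_lit 0x85778450b74b58a3ac79205d3d08167c4d2)
noncomputable def ys2 : ℕ := (nat_lit 0x1c4477848556dd995977d30c84c30d052b3)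
noncomputable def ys3 : ℕ := (nat_lit 0xc9d98a13564005b1a65174277786ab69945)
noncomputable def ys4 : ℕ := (nat_lit 0xc876be2ad668a832a935b85023e27ca760)
noncomputable def ys5 : ℕ := (nat_lit 0xde74f241c194d96c54511a547418b75b680)
noncomputable def ys6 : ℕ := (nat_lit 0x6b1683994928e2478b7acd698bda7093820)
noncomputable def ys7 : ℕ := (nat_lit 0x10e38b5db4597263a6ac985c47c248d6d40)
noncomputable def ys8 : ℕ := (nat_lit 0x309afb8670aba34c4b2c3a5435ec0446ac5)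
noncomputable def yS : Tr ℕ := (.node (nat_lit 4) (.node (nat_lit 2) (.node (nat_lit 1) (.leaf ys0) (.leaf ys1)) (.node (nat_lit 3) (.leaf ys2) (.leaf ys3)))
 (.node (nat_lit 6) (.node (nat_lit 5) (.leaf ys4) (.leaf ys5)) (.node (nat_lit 7) (.leaf ys6) (.node (nat_lit 8) (.leaf ys7) (.leaf ys8)))))
noncomputable def yD : Tr (List ℕ) := (.node (nat_lit 4) (.node (nat_lit 2) (.node (nat_lit 1) (.leaf []) (.leaf [])) (.node (nat_lit 3) (.leaf [nat_lit 0, nat_lit 0, nat_lit 0, nat_lit 0, nat_lit 0, nat_lit 0, nat_lit 0, nat_lit 0]) (.leaf [nat_lit 1, nat_lit 1, nat_lit 1, nat_lit 1, nat_lit 1, nat_lit 1, nat_lit 1, nat_lit 1])))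
 (.node (nat_lit 6) (.node (nat_lit 5) (.leaf [nat_lit 0, nat_lit 3, nat_lit 2, nat_lit 2, nat_lit 2, nat_lit 3]) (.leaf [nat_lit 3, nat_lit 2, nat_lit 1, nat_lit 1, nat_lit 1, nat_lit 1])) (.node (nat_lit 7) (.leaf [nat_lit 4, nat_lit 5, nat_lit 4]) (.node (nat_lit 8) (.leaf [nat_lit 5, nat_lit 6, nat_lit 5]) (.leaf [nat_lit 3, nat_lit 5, nat_lit 6])))))
theorem yslp : slpChk 28 (nat_lit 5) (nat_lit 31) yS yD 2 7 = true := by decide +kernel
noncomputable def yU : Tr ℕ := (.node (nat_lit 2) (.node (nat_lit 1) (.leaf (nat_lit 0x9372039137c286cdbc4bb14d00cdc8a6a35)) (.leaf (nat_lit 0xac3602b10389a813ceee92b2bb0b1a7a5a4))) (.node (nat_lit 3) (.leaf (nat_lit 0x96ad481d4f585a2c4c7573009c94868df68)) (.leaf (nat_lit 0x3345825256755817cf514292b1ec173e605))))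
noncomputable def yuE : Tr (List ℕ) := (.node (nat_lit 2) (.node (nat_lit 1) (.leaf [nat_lit 0, nat_lit 2, nat_lit 0, nat_lit 3, nat_lit 2, nat_lit 2, nat_lit 2, nat_lit 0]) (.leaf [nat_lit 1, nat_lit 3, nat_lit 2, nat_lit 3, nat_lit 2, nat_lit 2, nat_lit 2])) (.node (nat_lit 3) (.leaf [nat_lit 1, nat_lit 1, nat_lit 1, nat_lit 3, nat_lit 0, nat_lit 2, nat_lit 2]) (.leaf [nat_lit 2, nat_lit 3, nat_lit 2, nat_lit 3, nat_lit 1, nat_lit 0, nat_lit 1])))
theorem yuw_0 : yU.all2 (fun c w => isProd 28 (nat_lit 5) (nat_lit 31) fT c w) yuE = true := by decide +kernel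
theorem yuw : yU.all2 (fun c w => isProd 28 (nat_lit 5) (nat_lit 31) fT c w) yuE = true := yuw_0
noncomputable def nrW : Tr (List ℕ) := (.node (nat_lit 6) (.node (nat_lit 3) (.node (nat_lit 1) (.leaf [nat_lit 0]) (.node (nat_lit 2) (.leaf [nat_lit 0, nat_lit 1, nat_lit 0]) (.leaf [nat_lit 0, nat_lit 2, nat_lit 0]))) (.node (nat_lit 4) (.leaf [nat_lit 0, nat_lit 1, nat_lit 0]) (.node (nat_lit 5) (.leaf [nat_lit 1, nat_lit 0, nat_lit 1, nat_lit 0, nat_lit 1]) (.leaf [nat_lit 0, nat_lit 1, nat_lit 2, nat_lit 1, nat_lit 2, nat_lit 1, nat_lit 0, nat_lit 1]))))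
 (.node (nat_lit 9) (.node (nat_lit 7) (.leaf [nat_lit 0, nat_lit 1, nat_lit 0, nat_lit 1, nat_lit 0]) (.node (nat_lit 8) (.leaf [nat_lit 0, nat_lit 1, nat_lit 0, nat_lit 1, nat_lit 0, nat_lit 1, nat_lit 0, nat_lit 1, nat_lit 0]) (.leaf [nat_lit 0, nat_lit 1, nat_lit 2, nat_lit 0, nat_lit 1, nat_lit 2, nat_lit 0, nat_lit 1, nat_lit 0, nat_lit 1]))) (.node (nat_lit 10) (.leaf [nat_lit 1, nat_lit 2, nat_lit 1, nat_lit 2, nat_lit 1]) (.node (nat_lit 11) (.leaf [nat_lit 1, nat_lit 2, nat_lit 1, nat_lit 0, nat_lit 1, nat_lit 0, nat_lit 1, nat_lit 0, nat_lit 1, nat_lit 0]) (.leaf [nat_lit 1, nat_lit 0, nat_lit 2, nat_lit 1, nat_lit 0, nat_lit 2, nat_lit 1, nat_lit 0, nat_lit 1, nat_lit 0])))))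
theorem nr : nrmChk (nat_lit 5) (nat_lit 31) (fL.map Lev.b) fT yT (topN fL) (topN yL) nrW = true := by decide +kernel
noncomputable def iI : Tr (List ℕ) := (.node (nat_lit 2) (.node (nat_lit 1) (.leaf [nat_lit 1, nat_lit 0, nat_lit 1, nat_lit 2, nat_lit 1]) (.leaf [nat_lit 1, nat_lit 2, nat_lit 1, nat_lit 0, nat_lit 1])) (.node (nat_lit 3) (.leaf [nat_lit 0, nat_lit 2, nat_lit 0]) (.leaf [nat_lit 0, nat_lit 1, nat_lit 2, nat_lit 1, nat_lit 0])))
theorem ih : L28.RL.all (fun w => eqB (yL.map Lev.b) (apF (fun y => apL (nat_lit 5) (nat_lit 31) yT (iI.get y)) w) fun a => a) = true := by decide +kernel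
noncomputable def iD : Tr (List ℕ) := (.node (nat_lit 1) (.leaf [nat_lit 0, nat_lit 0, nat_lit 3, nat_lit 0, nat_lit 0, nat_lit 2, nat_lit 0, nat_lit 0]) (.node (nat_lit 2) (.leaf [nat_lit 0, nat_lit 3, nat_lit 1, nat_lit 2, nat_lit 1, nat_lit 2, nat_lit 0, nat_lit 0]) (.leaf [nat_lit 1, nat_lit 1, nat_lit 3, nat_lit 2, nat_lit 1, nat_lit 1])))
theorem is : band (surChk (nat_lit 5) (nat_lit 31) (yL.map Lev.b) yT iI (topN L28.L) iD (topN yL)) (Nat.ble (chainOrd 9 L28.L) (chainOrd 28 yL)) = true := by decide +kernel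
theorem ftc : tchainChk 28 (nat_lit 5) (nat_lit 31) fT fL = true := by decide +kernel
theorem hx : IX (ixS _) (unS Cfsg.Lie.chevG2.rank Cfsg.Lie.chevG2.nroots) 14 := ix_sum _ _
theorem card2 : Nat.card (Cfsg.Lie.twistedG2 (ZMod 3) 1) = 1512 := (Cfsg.Agent.S1069.result (m := 0) (ZMod.card 3)).trans (by norm_num)
noncomputable abbrev pt := ptL (τGL (Cfsg.Lie.twistedG2 (ZMod 3) 1)) C3 Nat.cast (ixS Cfsg.Lie.chevG2.rank) true V
theorem gens : ∀ j < 2, ∃ g : Cfsg.Lie.twistedG2 (ZMod 3) 1, Rep 28 (nat_lit 5) (nat_lit 31) pt (fS.get j) g :=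
  act.lets fm3 hx fun j hj => by
    interval_cases j
    exacts [fm3.word 3 (by decide) hx pw0 ⟨1, 0, 0, .inl (by decide)⟩, fm3.word 3 (by decide) hx pw1 ⟨1, 0, 0, .inr (by decide)⟩]
theorem fch : Ch (Cfsg.Lie.twistedG2 (ZMod 3) 1) 28 (nat_lit 5) (nat_lit 31) pt fT fL :=
  ⟨(lets_slp ⊤ (fun j hj => (gens j hj).imp fun _ h => ⟨trivial, h⟩) fslp (by decide +kernel)).up, fm3.pt_inj hx _ pts, ftc, by rw [card2]; decide +kernel⟩
theorem main0 {G : Type*} [Group G] [Finite G] {X : Type*} [MulAction G X] {pt : ℕ → X} (C : Ch G 28 (nat_lit 5) (nat_lit 31) pt fT fL) :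
    Nat.card (commutator G) = 504 ∧ Nonempty (L28.P ≃* commutator G) := by
  obtain ⟨N, D, _⟩ := (C.gen (lets_words C.lets yE yw) ychain ysd ytc)
  have LY : Lets (commutator G) 28 (nat_lit 5) (nat_lit 31) pt yT :=
    lets_slp' (lets_comm (N := 4) (fun j _ => lets_words C.lets yuE yuw j) (.node (nat_lit 1) (.leaf 0) (.leaf 2)) (.node (nat_lit 1) (.leaf 1) (.leaf 3)) (by decide +kernel)) yslp (by decide +kernel)
  haveI := C.normal D nr
  have i3 : N.index = 3 := Nat.eq_of_mul_eq_mul_right (D.card ▸ Nat.card_pos) ((C.index D).trans (by decide +kernel))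
  haveI : Fact (Nat.Prime 3) := ⟨by norm_num⟩
  haveI : IsCyclic (G ⧸ N) := isCyclic_of_prime_card (p := 3) i3
  have e : N = commutator G := le_antisymm (D.le_lets C.base LY) (Subgroup.Normal.quotient_commutative_iff_commutator_le.1 inferInstance)
  have CY : Ch (commutator G) 28 (nat_lit 5) (nat_lit 31) pt yT yL := e ▸ D
  exact ⟨CY.card.trans (by decide +kernel), (L28.std.isoW CY ih is)⟩
theorem main : Nat.card (commutator (Cfsg.Lie.twistedG2 (ZMod 3) 1)) = 504 ∧ Nonempty (L28.P ≃* commutator (Cfsg.Lie.twistedG2 (ZMod 3) 1)) :=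
  main0 fch

end H8.R3
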