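import Cfsg.Agent.H8.GS63
import Cfsg.Agent.H8.Glue
import Cfsg.Agent.S0245
import Cfsg.Agent.S0246

/-! H8.XS63: `iso`: PSp(6,3) is isomorphic to `P` (generated certificate) -/

set_option autoImplicit false
set_option maxRecDepth 200000

open Matrix

namespace H8.S63

noncomputable def V_0 : Tr ℕ := (.node (nat_lit 91) (.node (nat_lit 45) (.node (nat_lit 22) (.node (nat_lit 11) (.node (nat_lit 5) (.node (nat_lit 2) (.node (nat_lit 1) (.leaf (nat_lit 1)) (.leaf (nat_lit 4))) (.node (nat_lit 3) (.leaf (nat_lit 5)) (.node (nat_lit 4) (.leaf (nat_lit 9)) (.leaf (nat_lit 16)))))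
 (.node (nat_lit 8) (.node (nat_lit 6) (.leaf (nat_lit 17)) (.node (nat_lit 7) (.leaf (nat_lit 20)) (.leaf (nat_lit 21)))) (.node (nat_lit 9) (.leaf (nat_lit 25)) (.node (nat_lit 10) (.leaf (nat_lit 33)) (.leaf (nat_lit 36))))))
 (.node (nat_lit 16) (.node (nat_lit 13) (.node (nat_lit 12) (.leaf (nat_lit 37)) (.leaf (nat_lit 41))) (.node (nat_lit 14) (.leaf (nat_lit 64)) (.node (nat_lit 15) (.leaf (nat_lit 65)) (.leaf (nat_lit 68)))))
 (.node (nat_lit 19) (.node (nat_lit 17) (.leaf (nat_lit 69)) (.node (nat_lit 18) (.leaf (nat_lit 73)) (.leaf (nat_lit 80)))) (.node (nat_lit 20) (.leaf (nat_lit 81)) (.node (nat_lit 21) (.leaf (nat_lit 84)) (.leaf (nat_lit 85)))))))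
 (.node (nat_lit 33) (.node (nat_lit 27) (.node (nat_lit 24) (.node (nat_lit 23) (.leaf (nat_lit 89)) (.leaf (nat_lit 97))) (.node (nat_lit 25) (.leaf (nat_lit 100)) (.node (nat_lit 26) (.leaf (nat_lit 101)) (.leaf (nat_lit 105)))))
 (.node (nat_lit 30) (.node (nat_lit 28) (.leaf (nat_lit 129)) (.node (nat_lit 29) (.leaf (nat_lit 132)) (.leaf (nat_lit 133)))) (.node (nat_lit 31) (.leaf (nat_lit 137)) (.node (nat_lit 32) (.leaf (nat_lit 144)) (.leaf (nat_lit 145))))))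
 (.node (nat_lit 39) (.node (nat_lit 36) (.node (nat_lit 34) (.leaf (nat_lit 148)) (.node (nat_lit 35) (.leaf (nat_lit 149)) (.leaf (nat_lit 153)))) (.node (nat_lit 37) (.leaf (nat_lit 161)) (.node (nat_lit 38) (.leaf (nat_lit 164)) (.leaf (nat_lit 165)))))
 (.node (nat_lit 42) (.node (nat_lit 40) (.leaf (nat_lit 169)) (.node (nat_lit 41) (.leaf (nat_lit 256)) (.leaf (nat_lit 257)))) (.node (nat_lit 43) (.leaf (nat_lit 260)) (.node (nat_lit 44) (.leaf (nat_lit 261)) (.leaf (nat_lit 265))))))))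
 (.node (nat_lit 68) (.node (nat_lit 56) (.node (nat_lit 50) (.node (nat_lit 47) (.node (nat_lit 46) (.leaf (nat_lit 272)) (.leaf (nat_lit 273))) (.node (nat_lit 48) (.leaf (nat_lit 276)) (.node (nat_lit 49) (.leaf (nat_lit 277)) (.leaf (nat_lit 281)))))
 (.node (nat_lit 53) (.node (nat_lit 51) (.leaf (nat_lit 289)) (.node (nat_lit 52) (.leaf (nat_lit 292)) (.leaf (nat_lit 293)))) (.node (nat_lit 54) (.leaf (nat_lit 297)) (.node (nat_lit 55) (.leaf (nat_lit 320)) (.leaf (nat_lit 321))))))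
 (.node (nat_lit 62) (.node (nat_lit 59) (.node (nat_lit 57) (.leaf (nat_lit 324)) (.node (nat_lit 58) (.leaf (nat_lit 325)) (.leaf (nat_lit 329)))) (.node (nat_lit 60) (.leaf (nat_lit 336)) (.node (nat_lit 61) (.leaf (nat_lit 337)) (.leaf (nat_lit 340)))))
 (.node (nat_lit 65) (.node (nat_lit 63) (.leaf (nat_lit 341)) (.node (nat_lit 64) (.leaf (nat_lit 345)) (.leaf (nat_lit 353)))) (.node (nat_lit 66) (.leaf (nat_lit 356)) (.node (nat_lit 67) (.leaf (nat_lit 357)) (.leaf (nat_lit 361)))))))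
 (.node (nat_lit 79) (.node (nat_lit 73) (.node (nat_lit 70) (.node (nat_lit 69) (.leaf (nat_lit 385)) (.leaf (nat_lit 388))) (.node (nat_lit 71) (.leaf (nat_lit 389)) (.node (nat_lit 72) (.leaf (nat_lit 393)) (.leaf (nat_lit 400)))))
 (.node (nat_lit 76) (.node (nat_lit 74) (.leaf (nat_lit 401)) (.node (nat_lit 75) (.leaf (nat_lit 404)) (.leaf (nat_lit 405)))) (.node (nat_lit 77) (.leaf (nat_lit 409)) (.node (nat_lit 78) (.leaf (nat_lit 417)) (.leaf (nat_lit 420))))))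
 (.node (nat_lit 85) (.node (nat_lit 82) (.node (nat_lit 80) (.leaf (nat_lit 421)) (.node (nat_lit 81) (.leaf (nat_lit 425)) (.leaf (nat_lit 513)))) (.node (nat_lit 83) (.leaf (nat_lit 516)) (.node (nat_lit 84) (.leaf (nat_lit 517)) (.leaf (nat_lit 521)))))
 (.node (nat_lit 88) (.node (nat_lit 86) (.leaf (nat_lit 528)) (.node (nat_lit 87) (.leaf (nat_lit 529)) (.leaf (nat_lit 532)))) (.node (nat_lit 89) (.leaf (nat_lit 533)) (.node (nat_lit 90) (.leaf (nat_lit 537)) (.leaf (nat_lit 545)))))))))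
 (.node (nat_lit 136) (.node (nat_lit 113) (.node (nat_lit 102) (.node (nat_lit 96) (.node (nat_lit 93) (.node (nat_lit 92) (.leaf (nat_lit 548)) (.leaf (nat_lit 549))) (.node (nat_lit 94) (.leaf (nat_lit 553)) (.node (nat_lit 95) (.leaf (nat_lit 576)) (.leaf (nat_lit 577)))))
 (.node (nat_lit 99) (.node (nat_lit 97) (.leaf (nat_lit 580)) (.node (nat_lit 98) (.leaf (nat_lit 581)) (.leaf (nat_lit 585)))) (.node (nat_lit 100) (.leaf (nat_lit 592)) (.node (nat_lit 101) (.leaf (nat_lit 593)) (.leaf (nat_lit 596))))))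
 (.node (nat_lit 107) (.node (nat_lit 104) (.node (nat_lit 103) (.leaf (nat_lit 597)) (.leaf (nat_lit 601))) (.node (nat_lit 105) (.leaf (nat_lit 609)) (.node (nat_lit 106) (.leaf (nat_lit 612)) (.leaf (nat_lit 613)))))
 (.node (nat_lit 110) (.node (nat_lit 108) (.leaf (nat_lit 617)) (.node (nat_lit 109) (.leaf (nat_lit 641)) (.leaf (nat_lit 644)))) (.node (nat_lit 111) (.leaf (nat_lit 645)) (.node (nat_lit 112) (.leaf (nat_lit 649)) (.leaf (nat_lit 656)))))))
 (.node (nat_lit 124) (.node (nat_lit 118) (.node (nat_lit 115) (.node (nat_lit 114) (.leaf (nat_lit 657)) (.leaf (nat_lit 660))) (.node (nat_lit 116) (.leaf (nat_lit 661)) (.node (nat_lit 117) (.leaf (nat_lit 665)) (.leaf (nat_lit 673)))))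
 (.node (nat_lit 121) (.node (nat_lit 119) (.leaf (nat_lit 676)) (.node (nat_lit 120) (.leaf (nat_lit 677)) (.leaf (nat_lit 681)))) (.node (nat_lit 122) (.leaf (nat_lit 1024)) (.node (nat_lit 123) (.leaf (nat_lit 1025)) (.leaf (nat_lit 1028))))))
 (.node (nat_lit 130) (.node (nat_lit 127) (.node (nat_lit 125) (.leaf (nat_lit 1029)) (.node (nat_lit 126) (.leaf (nat_lit 1033)) (.leaf (nat_lit 1040)))) (.node (nat_lit 128) (.leaf (nat_lit 1041)) (.node (nat_lit 129) (.leaf (nat_lit 1044)) (.leaf (nat_lit 1045)))))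
 (.node (nat_lit 133) (.node (nat_lit 131) (.leaf (nat_lit 1049)) (.node (nat_lit 132) (.leaf (nat_lit 1057)) (.leaf (nat_lit 1060)))) (.node (nat_lit 134) (.leaf (nat_lit 1061)) (.node (nat_lit 135) (.leaf (nat_lit 1065)) (.leaf (nat_lit 1088))))))))
 (.node (nat_lit 159) (.node (nat_lit 147) (.node (nat_lit 141) (.node (nat_lit 138) (.node (nat_lit 137) (.leaf (nat_lit 1089)) (.leaf (nat_lit 1092))) (.node (nat_lit 139) (.leaf (nat_lit 1093)) (.node (nat_lit 140) (.leaf (nat_lit 1097)) (.leaf (nat_lit 1104)))))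
 (.node (nat_lit 144) (.node (nat_lit 142) (.leaf (nat_lit 1105)) (.node (nat_lit 143) (.leaf (nat_lit 1108)) (.leaf (nat_lit 1109)))) (.node (nat_lit 145) (.leaf (nat_lit 1113)) (.node (nat_lit 146) (.leaf (nat_lit 1121)) (.leaf (nat_lit 1124))))))
 (.node (nat_lit 153) (.node (nat_lit 150) (.node (nat_lit 148) (.leaf (nat_lit 1125)) (.node (nat_lit 149) (.leaf (nat_lit 1129)) (.leaf (nat_lit 1153)))) (.node (nat_lit 151) (.leaf (nat_lit 1156)) (.node (nat_lit 152) (.leaf (nat_lit 1157)) (.leaf (nat_lit 1161)))))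
 (.node (nat_lit 156) (.node (nat_lit 154) (.leaf (nat_lit 1168)) (.node (nat_lit 155) (.leaf (nat_lit 1169)) (.leaf (nat_lit 1172)))) (.node (nat_lit 157) (.leaf (nat_lit 1173)) (.node (nat_lit 158) (.leaf (nat_lit 1177)) (.leaf (nat_lit 1185)))))))
 (.node (nat_lit 170) (.node (nat_lit 164) (.node (nat_lit 161) (.node (nat_lit 160) (.leaf (nat_lit 1188)) (.leaf (nat_lit 1189))) (.node (nat_lit 162) (.leaf (nat_lit 1193)) (.node (nat_lit 163) (.leaf (nat_lit 1280)) (.leaf (nat_lit 1281)))))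
 (.node (nat_lit 167) (.node (nat_lit 165) (.leaf (nat_lit 1284)) (.node (nat_lit 166) (.leaf (nat_lit 1285)) (.leaf (nat_lit 1289)))) (.node (nat_lit 168) (.leaf (nat_lit 1296)) (.node (nat_lit 169) (.leaf (nat_lit 1297)) (.leaf (nat_lit 1300))))))
 (.node (nat_lit 176) (.node (nat_lit 173) (.node (nat_lit 171) (.leaf (nat_lit 1301)) (.node (nat_lit 172) (.leaf (nat_lit 1305)) (.leaf (nat_lit 1313)))) (.node (nat_lit 174) (.leaf (nat_lit 1316)) (.node (nat_lit 175) (.leaf (nat_lit 1317)) (.leaf (nat_lit 1321)))))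
 (.node (nat_lit 179) (.node (nat_lit 177) (.leaf (nat_lit 1344)) (.node (nat_lit 178) (.leaf (nat_lit 1345)) (.leaf (nat_lit 1348)))) (.node (nat_lit 180) (.leaf (nat_lit 1349)) (.node (nat_lit 181) (.leaf (nat_lit 1353)) (.leaf (nat_lit 1360))))))))))
noncomputable def V_1 : Tr ℕ := (.node (nat_lit 273) (.node (nat_lit 227) (.node (nat_lit 204) (.node (nat_lit 193) (.node (nat_lit 187) (.node (nat_lit 184) (.node (nat_lit 183) (.leaf (nat_lit 1361)) (.leaf (nat_lit 1364))) (.node (nat_lit 185) (.leaf (nat_lit 1365)) (.node (nat_lit 186) (.leaf (nat_lit 1369)) (.leaf (nat_lit 1377)))))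
 (.node (nat_lit 190) (.node (nat_lit 188) (.leaf (nat_lit 1380)) (.node (nat_lit 189) (.leaf (nat_lit 1381)) (.leaf (nat_lit 1385)))) (.node (nat_lit 191) (.leaf (nat_lit 1409)) (.node (nat_lit 192) (.leaf (nat_lit 1412)) (.leaf (nat_lit 1413))))))
 (.node (nat_lit 198) (.node (nat_lit 195) (.node (nat_lit 194) (.leaf (nat_lit 1417)) (.leaf (nat_lit 1424))) (.node (nat_lit 196) (.leaf (nat_lit 1425)) (.node (nat_lit 197) (.leaf (nat_lit 1428)) (.leaf (nat_lit 1429)))))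
 (.node (nat_lit 201) (.node (nat_lit 199) (.leaf (nat_lit 1433)) (.node (nat_lit 200) (.leaf (nat_lit 1441)) (.leaf (nat_lit 1444)))) (.node (nat_lit 202) (.leaf (nat_lit 1445)) (.node (nat_lit 203) (.leaf (nat_lit 1449)) (.leaf (nat_lit 1537)))))))
 (.node (nat_lit 215) (.node (nat_lit 209) (.node (nat_lit 206) (.node (nat_lit 205) (.leaf (nat_lit 1540)) (.leaf (nat_lit 1541))) (.node (nat_lit 207) (.leaf (nat_lit 1545)) (.node (nat_lit 208) (.leaf (nat_lit 1552)) (.leaf (nat_lit 1553)))))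
 (.node (nat_lit 212) (.node (nat_lit 210) (.leaf (nat_lit 1556)) (.node (nat_lit 211) (.leaf (nat_lit 1557)) (.leaf (nat_lit 1561)))) (.node (nat_lit 213) (.leaf (nat_lit 1569)) (.node (nat_lit 214) (.leaf (nat_lit 1572)) (.leaf (nat_lit 1573))))))
 (.node (nat_lit 221) (.node (nat_lit 218) (.node (nat_lit 216) (.leaf (nat_lit 1577)) (.node (nat_lit 217) (.leaf (nat_lit 1600)) (.leaf (nat_lit 1601)))) (.node (nat_lit 219) (.leaf (nat_lit 1604)) (.node (nat_lit 220) (.leaf (nat_lit 1605)) (.leaf (nat_lit 1609)))))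
 (.node (nat_lit 224) (.node (nat_lit 222) (.leaf (nat_lit 1616)) (.node (nat_lit 223) (.leaf (nat_lit 1617)) (.leaf (nat_lit 1620)))) (.node (nat_lit 225) (.leaf (nat_lit 1621)) (.node (nat_lit 226) (.leaf (nat_lit 1625)) (.leaf (nat_lit 1633))))))))
 (.node (nat_lit 250) (.node (nat_lit 238) (.node (nat_lit 232) (.node (nat_lit 229) (.node (nat_lit 228) (.leaf (nat_lit 1636)) (.leaf (nat_lit 1637))) (.node (nat_lit 230) (.leaf (nat_lit 1641)) (.node (nat_lit 231) (.leaf (nat_lit 1665)) (.leaf (nat_lit 1668)))))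
 (.node (nat_lit 235) (.node (nat_lit 233) (.leaf (nat_lit 1669)) (.node (nat_lit 234) (.leaf (nat_lit 1673)) (.leaf (nat_lit 1680)))) (.node (nat_lit 236) (.leaf (nat_lit 1681)) (.node (nat_lit 237) (.leaf (nat_lit 1684)) (.leaf (nat_lit 1685))))))
 (.node (nat_lit 244) (.node (nat_lit 241) (.node (nat_lit 239) (.leaf (nat_lit 1689)) (.node (nat_lit 240) (.leaf (nat_lit 1697)) (.leaf (nat_lit 1700)))) (.node (nat_lit 242) (.leaf (nat_lit 1701)) (.node (nat_lit 243) (.leaf (nat_lit 1705)) (.leaf (nat_lit 2049)))))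
 (.node (nat_lit 247) (.node (nat_lit 245) (.leaf (nat_lit 2052)) (.node (nat_lit 246) (.leaf (nat_lit 2053)) (.leaf (nat_lit 2057)))) (.node (nat_lit 248) (.leaf (nat_lit 2064)) (.node (nat_lit 249) (.leaf (nat_lit 2065)) (.leaf (nat_lit 2068)))))))
 (.node (nat_lit 261) (.node (nat_lit 255) (.node (nat_lit 252) (.node (nat_lit 251) (.leaf (nat_lit 2069)) (.leaf (nat_lit 2073))) (.node (nat_lit 253) (.leaf (nat_lit 2081)) (.node (nat_lit 254) (.leaf (nat_lit 2084)) (.leaf (nat_lit 2085)))))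
 (.node (nat_lit 258) (.node (nat_lit 256) (.leaf (nat_lit 2089)) (.node (nat_lit 257) (.leaf (nat_lit 2112)) (.leaf (nat_lit 2113)))) (.node (nat_lit 259) (.leaf (nat_lit 2116)) (.node (nat_lit 260) (.leaf (nat_lit 2117)) (.leaf (nat_lit 2121))))))
 (.node (nat_lit 267) (.node (nat_lit 264) (.node (nat_lit 262) (.leaf (nat_lit 2128)) (.node (nat_lit 263) (.leaf (nat_lit 2129)) (.leaf (nat_lit 2132)))) (.node (nat_lit 265) (.leaf (nat_lit 2133)) (.node (nat_lit 266) (.leaf (nat_lit 2137)) (.leaf (nat_lit 2145)))))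
 (.node (nat_lit 270) (.node (nat_lit 268) (.leaf (nat_lit 2148)) (.node (nat_lit 269) (.leaf (nat_lit 2149)) (.leaf (nat_lit 2153)))) (.node (nat_lit 271) (.leaf (nat_lit 2177)) (.node (nat_lit 272) (.leaf (nat_lit 2180)) (.leaf (nat_lit 2181)))))))))
 (.node (nat_lit 318) (.node (nat_lit 295) (.node (nat_lit 284) (.node (nat_lit 278) (.node (nat_lit 275) (.node (nat_lit 274) (.leaf (nat_lit 2185)) (.leaf (nat_lit 2192))) (.node (nat_lit 276) (.leaf (nat_lit 2193)) (.node (nat_lit 277) (.leaf (nat_lit 2196)) (.leaf (nat_lit 2197)))))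
 (.node (nat_lit 281) (.node (nat_lit 279) (.leaf (nat_lit 2201)) (.node (nat_lit 280) (.leaf (nat_lit 2209)) (.leaf (nat_lit 2212)))) (.node (nat_lit 282) (.leaf (nat_lit 2213)) (.node (nat_lit 283) (.leaf (nat_lit 2217)) (.leaf (nat_lit 2304))))))
 (.node (nat_lit 289) (.node (nat_lit 286) (.node (nat_lit 285) (.leaf (nat_lit 2305)) (.leaf (nat_lit 2308))) (.node (nat_lit 287) (.leaf (nat_lit 2309)) (.node (nat_lit 288) (.leaf (nat_lit 2313)) (.leaf (nat_lit 2320)))))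
 (.node (nat_lit 292) (.node (nat_lit 290) (.leaf (nat_lit 2321)) (.node (nat_lit 291) (.leaf (nat_lit 2324)) (.leaf (nat_lit 2325)))) (.node (nat_lit 293) (.leaf (nat_lit 2329)) (.node (nat_lit 294) (.leaf (nat_lit 2337)) (.leaf (nat_lit 2340)))))))
 (.node (nat_lit 306) (.node (nat_lit 300) (.node (nat_lit 297) (.node (nat_lit 296) (.leaf (nat_lit 2341)) (.leaf (nat_lit 2345))) (.node (nat_lit 298) (.leaf (nat_lit 2368)) (.node (nat_lit 299) (.leaf (nat_lit 2369)) (.leaf (nat_lit 2372)))))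
 (.node (nat_lit 303) (.node (nat_lit 301) (.leaf (nat_lit 2373)) (.node (nat_lit 302) (.leaf (nat_lit 2377)) (.leaf (nat_lit 2384)))) (.node (nat_lit 304) (.leaf (nat_lit 2385)) (.node (nat_lit 305) (.leaf (nat_lit 2388)) (.leaf (nat_lit 2389))))))
 (.node (nat_lit 312) (.node (nat_lit 309) (.node (nat_lit 307) (.leaf (nat_lit 2393)) (.node (nat_lit 308) (.leaf (nat_lit 2401)) (.leaf (nat_lit 2404)))) (.node (nat_lit 310) (.leaf (nat_lit 2405)) (.node (nat_lit 311) (.leaf (nat_lit 2409)) (.leaf (nat_lit 2433)))))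
 (.node (nat_lit 315) (.node (nat_lit 313) (.leaf (nat_lit 2436)) (.node (nat_lit 314) (.leaf (nat_lit 2437)) (.leaf (nat_lit 2441)))) (.node (nat_lit 316) (.leaf (nat_lit 2448)) (.node (nat_lit 317) (.leaf (nat_lit 2449)) (.leaf (nat_lit 2452))))))))
 (.node (nat_lit 341) (.node (nat_lit 329) (.node (nat_lit 323) (.node (nat_lit 320) (.node (nat_lit 319) (.leaf (nat_lit 2453)) (.leaf (nat_lit 2457))) (.node (nat_lit 321) (.leaf (nat_lit 2465)) (.node (nat_lit 322) (.leaf (nat_lit 2468)) (.leaf (nat_lit 2469)))))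
 (.node (nat_lit 326) (.node (nat_lit 324) (.leaf (nat_lit 2473)) (.node (nat_lit 325) (.leaf (nat_lit 2561)) (.leaf (nat_lit 2564)))) (.node (nat_lit 327) (.leaf (nat_lit 2565)) (.node (nat_lit 328) (.leaf (nat_lit 2569)) (.leaf (nat_lit 2576))))))
 (.node (nat_lit 335) (.node (nat_lit 332) (.node (nat_lit 330) (.leaf (nat_lit 2577)) (.node (nat_lit 331) (.leaf (nat_lit 2580)) (.leaf (nat_lit 2581)))) (.node (nat_lit 333) (.leaf (nat_lit 2585)) (.node (nat_lit 334) (.leaf (nat_lit 2593)) (.leaf (nat_lit 2596)))))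
 (.node (nat_lit 338) (.node (nat_lit 336) (.leaf (nat_lit 2597)) (.node (nat_lit 337) (.leaf (nat_lit 2601)) (.leaf (nat_lit 2624)))) (.node (nat_lit 339) (.leaf (nat_lit 2625)) (.node (nat_lit 340) (.leaf (nat_lit 2628)) (.leaf (nat_lit 2629)))))))
 (.node (nat_lit 352) (.node (nat_lit 346) (.node (nat_lit 343) (.node (nat_lit 342) (.leaf (nat_lit 2633)) (.leaf (nat_lit 2640))) (.node (nat_lit 344) (.leaf (nat_lit 2641)) (.node (nat_lit 345) (.leaf (nat_lit 2644)) (.leaf (nat_lit 2645)))))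
 (.node (nat_lit 349) (.node (nat_lit 347) (.leaf (nat_lit 2649)) (.node (nat_lit 348) (.leaf (nat_lit 2657)) (.leaf (nat_lit 2660)))) (.node (nat_lit 350) (.leaf (nat_lit 2661)) (.node (nat_lit 351) (.leaf (nat_lit 2665)) (.leaf (nat_lit 2689))))))
 (.node (nat_lit 358) (.node (nat_lit 355) (.node (nat_lit 353) (.leaf (nat_lit 2692)) (.node (nat_lit 354) (.leaf (nat_lit 2693)) (.leaf (nat_lit 2697)))) (.node (nat_lit 356) (.leaf (nat_lit 2704)) (.node (nat_lit 357) (.leaf (nat_lit 2705)) (.leaf (nat_lit 2708)))))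
 (.node (nat_lit 361) (.node (nat_lit 359) (.leaf (nat_lit 2709)) (.node (nat_lit 360) (.leaf (nat_lit 2713)) (.leaf (nat_lit 2721)))) (.node (nat_lit 362) (.leaf (nat_lit 2724)) (.node (nat_lit 363) (.leaf (nat_lit 2725)) (.leaf (nat_lit 2729))))))))))
noncomputable def V : Tr ℕ := (.node (nat_lit 182) V_0 V_1)
theorem pts : ptR C3 6 true V 364 0 364 = true := by decide +kernel
noncomputable def M0 : Sp := [[(nat_lit 0, nat_lit 2), (nat_lit 3, nat_lit 2), (nat_lit 4, nat_lit 1), (nat_lit 5, nat_lit 2)],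
  [(nat_lit 0, nat_lit 1), (nat_lit 1, nat_lit 1), (nat_lit 2, nat_lit 1), (nat_lit 3, nat_lit 1), (nat_lit 4, nat_lit 1), (nat_lit 5, nat_lit 2)],
  [(nat_lit 2, nat_lit 2), (nat_lit 3, nat_lit 2), (nat_lit 4, nat_lit 2)],
  [(nat_lit 0, nat_lit 1), (nat_lit 1, nat_lit 2), (nat_lit 3, nat_lit 1), (nat_lit 4, nat_lit 2)],
  [(nat_lit 0, nat_lit 2), (nat_lit 1, nat_lit 1), (nat_lit 2, nat_lit 2), (nat_lit 4, nat_lit 2)],
  [(nat_lit 1, nat_lit 2), (nat_lit 2, nat_lit 2), (nat_lit 4, nat_lit 2), (nat_lit 5, nat_lit 1)]]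
noncomputable def M1 : Sp := [[(nat_lit 0, nat_lit 1), (nat_lit 1, nat_lit 1), (nat_lit 2, nat_lit 1), (nat_lit 3, nat_lit 1), (nat_lit 4, nat_lit 2)],
  [(nat_lit 0, nat_lit 2), (nat_lit 1, nat_lit 1), (nat_lit 2, nat_lit 2), (nat_lit 3, nat_lit 2), (nat_lit 4, nat_lit 2)],
  [(nat_lit 0, nat_lit 2), (nat_lit 1, nat_lit 2), (nat_lit 2, nat_lit 2), (nat_lit 3, nat_lit 1), (nat_lit 4, nat_lit 1), (nat_lit 5, nat_lit 1)],
  [(nat_lit 0, nat_lit 1), (nat_lit 3, nat_lit 1), (nat_lit 4, nat_lit 2), (nat_lit 5, nat_lit 2)],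
  [(nat_lit 1, nat_lit 1), (nat_lit 3, nat_lit 2), (nat_lit 4, nat_lit 1), (nat_lit 5, nat_lit 2)],
  [(nat_lit 0, nat_lit 1), (nat_lit 1, nat_lit 2), (nat_lit 3, nat_lit 2), (nat_lit 4, nat_lit 1), (nat_lit 5, nat_lit 2)]]
noncomputable def MT : Tr Sp := (.node (nat_lit 1) (.leaf M0) (.leaf M1))
noncomputable def SC : Tr ℕ := (.node (nat_lit 1) (.leaf (nat_lit 0x6665659656659aaaa9a6a6aaaaa59596556566599656659aaa66aa6596559656659aaa6a9aa5965595a95965959966a6aa69aa6a6aaa5959a55656659a9a9aaa95665955959965656659aaa669a65955996665655656659a9aa9a6)) (.leaf (nat_lit 0x965a695699696a965a5aa59996a5569a55aa95999a9969965999a99a6a5965969a55aa5a5a659696a96666a996a6955aa56566a65a6996666a665a96565969655aa5a5aa59696a96565a996a6956aa56666a65665966a6a665a965)))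
theorem act : ActAll C3 6 true V 364 (nat_lit 9) (nat_lit 511) MT G0 SC 2 := actAll_of (by decide +kernel)
noncomputable def BJ (i j : ℕ) : ℕ := ite' (Nat.beq j (i + 3)) 2 (ite' (Nat.beq i (j + 3)) 1 0)
theorem pw : ∀ j < 2, bilChk C3 6 BJ (fun a => a) (MT.get j) = true := by decide +kernel
theorem cen : Subgroup.center P = ⊥ := center_eq_bot lets base (nat_lit 0) [[nat_lit 12, nat_lit 10]] [[], [nat_lit 13, nat_lit 9, nat_lit 13, nat_lit 3, nat_lit 13], [nat_lit 13, nat_lit 8, nat_lit 10, nat_lit 13], [nat_lit 12, nat_lit 13, nat_lit 11, nat_lit 13], [nat_lit 6, nat_lit 13, nat_lit 0, nat_lit 13], [nat_lit 7, nat_lit 5, nat_lit 13, nat_lit 3, nat_lit 13], [nat_lit 13, nat_lit 11, nat_lit 9, nat_lit 1, nat_lit 13], [nat_lit 8, nat_lit 12, nat_lit 13, nat_lit 2, nat_lit 13]] (by decide +kernel)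
theorem iso {F : Type*} [Field F] [Fintype F] (hF : Fintype.card F = 3) :
    Nonempty (Cfsg.PSp 3 F ≃* P) := by
  haveI : CharP F 3 := charP_of_card (k := 1) (by norm_num) hF
  have h := fm3 (F := F)
  have t : (3 : F) = 0 := CharP.cast_eq_zero F 3
  have hx := ix_sum 3 3
  refine iso_quot_center gen (h.pt_inj hx (symplecticGroup (Fin 3) F).subtype pts)
    (act.lets h hx fun j hj => h.exists_Sp hx ?_ (pw j hj)) cen ?_
  · have n1 : ((2 : ℕ) : F) = (-1 : F) := by rw [← h.one]; exact eq_neg_of_add_eq_zero_left (by rw [← h.add, ← h.zero]; exact h.eqv.1 (by decide +kernel))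
    ext (i | i) (j | j) <;> fin_cases i <;> fin_cases j <;>
      first | exact h.zero | exact n1 | exact h.one.trans (neg_neg _).symm | exact h.one | exact h.zero.trans neg_zero.symm
  · have h1 := Subgroup.card_eq_card_quotient_mul_card_subgroup (Subgroup.center (symplecticGroup (Fin 3) F))
    rw [Cfsg.Agent.S0245.result hF, Cfsg.Agent.S0246.result hF 3 (by norm_num)] at h1
    simp only [Finset.prod_range_succ, Finset.prod_range_zero] at h1
    norm_num at h1
    rw [card]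
    omega

end H8.S63
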