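import Cfsg.Agent.H8.GSL29
import Cfsg.Agent.H8.Glue
import Cfsg.Agent.S0242

/-! H8.XSL29: `iso`: SL(2,9) is isomorphic to `P` (generated certificate) -/

set_option autoImplicit false
set_option maxRecDepth 200000

open Matrix

namespace H8.SL29

noncomputable def V : Tr ℕ := (.node (nat_lit 40) (.node (nat_lit 20) (.node (nat_lit 10) (.node (nat_lit 5) (.node (nat_lit 2) (.node (nat_lit 1) (.leaf (nat_lit 1)) (.leaf (nat_lit 2))) (.node (nat_lit 3) (.leaf (nat_lit 4)) (.node (nat_lit 4) (.leaf (nat_lit 5)) (.leaf (nat_lit 6)))))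
 (.node (nat_lit 7) (.node (nat_lit 6) (.leaf (nat_lit 8)) (.leaf (nat_lit 9))) (.node (nat_lit 8) (.leaf (nat_lit 10)) (.node (nat_lit 9) (.leaf (nat_lit 16)) (.leaf (nat_lit 17))))))
 (.node (nat_lit 15) (.node (nat_lit 12) (.node (nat_lit 11) (.leaf (nat_lit 18)) (.leaf (nat_lit 20))) (.node (nat_lit 13) (.leaf (nat_lit 21)) (.node (nat_lit 14) (.leaf (nat_lit 22)) (.leaf (nat_lit 24)))))
 (.node (nat_lit 17) (.node (nat_lit 16) (.leaf (nat_lit 25)) (.leaf (nat_lit 26))) (.node (nat_lit 18) (.leaf (nat_lit 32)) (.node (nat_lit 19) (.leaf (nat_lit 33)) (.leaf (nat_lit 34)))))))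
 (.node (nat_lit 30) (.node (nat_lit 25) (.node (nat_lit 22) (.node (nat_lit 21) (.leaf (nat_lit 36)) (.leaf (nat_lit 37))) (.node (nat_lit 23) (.leaf (nat_lit 38)) (.node (nat_lit 24) (.leaf (nat_lit 40)) (.leaf (nat_lit 41)))))
 (.node (nat_lit 27) (.node (nat_lit 26) (.leaf (nat_lit 42)) (.leaf (nat_lit 64))) (.node (nat_lit 28) (.leaf (nat_lit 65)) (.node (nat_lit 29) (.leaf (nat_lit 66)) (.leaf (nat_lit 68))))))
 (.node (nat_lit 35) (.node (nat_lit 32) (.node (nat_lit 31) (.leaf (nat_lit 69)) (.leaf (nat_lit 70))) (.node (nat_lit 33) (.leaf (nat_lit 72)) (.node (nat_lit 34) (.leaf (nat_lit 73)) (.leaf (nat_lit 74)))))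
 (.node (nat_lit 37) (.node (nat_lit 36) (.leaf (nat_lit 80)) (.leaf (nat_lit 81))) (.node (nat_lit 38) (.leaf (nat_lit 82)) (.node (nat_lit 39) (.leaf (nat_lit 84)) (.leaf (nat_lit 85))))))))
 (.node (nat_lit 60) (.node (nat_lit 50) (.node (nat_lit 45) (.node (nat_lit 42) (.node (nat_lit 41) (.leaf (nat_lit 86)) (.leaf (nat_lit 88))) (.node (nat_lit 43) (.leaf (nat_lit 89)) (.node (nat_lit 44) (.leaf (nat_lit 90)) (.leaf (nat_lit 96)))))
 (.node (nat_lit 47) (.node (nat_lit 46) (.leaf (nat_lit 97)) (.leaf (nat_lit 98))) (.node (nat_lit 48) (.leaf (nat_lit 100)) (.node (nat_lit 49) (.leaf (nat_lit 101)) (.leaf (nat_lit 102))))))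
 (.node (nat_lit 55) (.node (nat_lit 52) (.node (nat_lit 51) (.leaf (nat_lit 104)) (.leaf (nat_lit 105))) (.node (nat_lit 53) (.leaf (nat_lit 106)) (.node (nat_lit 54) (.leaf (nat_lit 128)) (.leaf (nat_lit 129)))))
 (.node (nat_lit 57) (.node (nat_lit 56) (.leaf (nat_lit 130)) (.leaf (nat_lit 132))) (.node (nat_lit 58) (.leaf (nat_lit 133)) (.node (nat_lit 59) (.leaf (nat_lit 134)) (.leaf (nat_lit 136)))))))
 (.node (nat_lit 70) (.node (nat_lit 65) (.node (nat_lit 62) (.node (nat_lit 61) (.leaf (nat_lit 137)) (.leaf (nat_lit 138))) (.node (nat_lit 63) (.leaf (nat_lit 144)) (.node (nat_lit 64) (.leaf (nat_lit 145)) (.leaf (nat_lit 146)))))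
 (.node (nat_lit 67) (.node (nat_lit 66) (.leaf (nat_lit 148)) (.leaf (nat_lit 149))) (.node (nat_lit 68) (.leaf (nat_lit 150)) (.node (nat_lit 69) (.leaf (nat_lit 152)) (.leaf (nat_lit 153))))))
 (.node (nat_lit 75) (.node (nat_lit 72) (.node (nat_lit 71) (.leaf (nat_lit 154)) (.leaf (nat_lit 160))) (.node (nat_lit 73) (.leaf (nat_lit 161)) (.node (nat_lit 74) (.leaf (nat_lit 162)) (.leaf (nat_lit 164)))))
 (.node (nat_lit 77) (.node (nat_lit 76) (.leaf (nat_lit 165)) (.leaf (nat_lit 166))) (.node (nat_lit 78) (.leaf (nat_lit 168)) (.node (nat_lit 79) (.leaf (nat_lit 169)) (.leaf (nat_lit 170)))))))))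
theorem pts : ptR C9 2 false V 80 0 80 = true := by decide +kernel
noncomputable def M0 : Sp := [[(nat_lit 1, nat_lit 9)],
  [(nat_lit 0, nat_lit 5), (nat_lit 1, nat_lit 2)]]
noncomputable def M1 : Sp := [[(nat_lit 0, nat_lit 9), (nat_lit 1, nat_lit 4)],
  [(nat_lit 0, nat_lit 10), (nat_lit 1, nat_lit 8)]]
noncomputable def MT : Tr Sp := (.node (nat_lit 1) (.leaf M0) (.leaf M1))
noncomputable def SC : Tr ℕ := (.node (nat_lit 1) (.leaf (nat_lit 0x11111111111111111111111111111111111111111111111111111111111111111111111111111111)) (.leaf (nat_lit 0x11111111111111111111111111111111111111111111111111111111111111111111111111111111)))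
theorem act : ActAll C9 2 false V 80 (nat_lit 7) (nat_lit 127) MT G0 SC 2 := actAll_of (by decide +kernel)
noncomputable def OT : Tr ℕ := (.node (nat_lit 1) (.leaf (nat_lit 3)) (.leaf (nat_lit 5)))
theorem pw : ∀ j < 2, powChk C9 2 (MT.get j) (OT.get j) = true ∧ 0 < OT.get j ∧ Nat.Coprime (OT.get j) 8 := by decide +kernel
theorem iso {F : Type*} [Field F] [Fintype F] (hF : Fintype.card F = 9) :
    Nonempty (Matrix.SpecialLinearGroup (Fin 2) F ≃* P) := by
  haveI : CharP F 3 := charP_of_card (k := 2) (by norm_num) hF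
  obtain ⟨ω, hω⟩ := exists_fm9 hF
  have h := fm9 hω
  refine iso_of_card' gen (h.pt_inj (ix_fin 2) (τSL (Fin 2) F) pts)
    (act.lets h (ix_fin 2) fun j hj => h.exists_SL (ix_fin 2) (pw j hj).1 (pw j hj).2.1 (by rw [hF]; exact (pw j hj).2.2)) ?_
  have := Cfsg.Agent.S0242.result hF 2 (by norm_num)
  rw [card]
  simp only [Fin.prod_univ_succ, Fin.prod_univ_zero] at this
  norm_num at this
  omega

end H8.SL29
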