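import Cfsg.Agent.H8.GU34
import Cfsg.Agent.H8.FMT
import Cfsg.Agent.S0280

/-! H8.XU34: `iso`: PSU(3,4) is isomorphic to `P` (generated certificate) -/

set_option autoImplicit false
set_option maxRecDepth 200000

open Matrix

namespace H8.U34

noncomputable def V : Tr ℕ := (.node (nat_lit 32) (.node (nat_lit 16) (.node (nat_lit 8) (.node (nat_lit 4) (.node (nat_lit 2) (.node (nat_lit 1) (.leaf (nat_lit 17)) (.leaf (nat_lit 129))) (.node (nat_lit 3) (.leaf (nat_lit 161)) (.leaf (nat_lit 193))))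
 (.node (nat_lit 6) (.node (nat_lit 5) (.leaf (nat_lit 241)) (.leaf (nat_lit 257))) (.node (nat_lit 7) (.leaf (nat_lit 272)) (.leaf (nat_lit 577)))))
 (.node (nat_lit 12) (.node (nat_lit 10) (.node (nat_lit 9) (.leaf (nat_lit 593)) (.leaf (nat_lit 609))) (.node (nat_lit 11) (.leaf (nat_lit 657)) (.leaf (nat_lit 737))))
 (.node (nat_lit 14) (.node (nat_lit 13) (.leaf (nat_lit 833)) (.leaf (nat_lit 849))) (.node (nat_lit 15) (.leaf (nat_lit 865)) (.leaf (nat_lit 913))))))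
 (.node (nat_lit 24) (.node (nat_lit 20) (.node (nat_lit 18) (.node (nat_lit 17) (.leaf (nat_lit 993)) (.leaf (nat_lit 1057))) (.node (nat_lit 19) (.leaf (nat_lit 1073)) (.leaf (nat_lit 1137))))
 (.node (nat_lit 22) (.node (nat_lit 21) (.leaf (nat_lit 1201)) (.leaf (nat_lit 1233))) (.node (nat_lit 23) (.leaf (nat_lit 1313)) (.leaf (nat_lit 1329)))))
 (.node (nat_lit 28) (.node (nat_lit 26) (.node (nat_lit 25) (.leaf (nat_lit 1393)) (.leaf (nat_lit 1457))) (.node (nat_lit 27) (.leaf (nat_lit 1489)) (.leaf (nat_lit 1569))))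
 (.node (nat_lit 30) (.node (nat_lit 29) (.leaf (nat_lit 1585)) (.leaf (nat_lit 1649))) (.node (nat_lit 31) (.leaf (nat_lit 1713)) (.leaf (nat_lit 1745)))))))
 (.node (nat_lit 48) (.node (nat_lit 40) (.node (nat_lit 36) (.node (nat_lit 34) (.node (nat_lit 33) (.leaf (nat_lit 1857)) (.leaf (nat_lit 1873))) (.node (nat_lit 35) (.leaf (nat_lit 1889)) (.leaf (nat_lit 1937))))
 (.node (nat_lit 38) (.node (nat_lit 37) (.leaf (nat_lit 2017)) (.leaf (nat_lit 2049))) (.node (nat_lit 39) (.leaf (nat_lit 2064)) (.leaf (nat_lit 2337)))))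
 (.node (nat_lit 44) (.node (nat_lit 42) (.node (nat_lit 41) (.leaf (nat_lit 2353)) (.leaf (nat_lit 2417))) (.node (nat_lit 43) (.leaf (nat_lit 2481)) (.leaf (nat_lit 2513))))
 (.node (nat_lit 46) (.node (nat_lit 45) (.leaf (nat_lit 2561)) (.leaf (nat_lit 2576))) (.node (nat_lit 47) (.leaf (nat_lit 2881)) (.leaf (nat_lit 2897))))))
 (.node (nat_lit 56) (.node (nat_lit 52) (.node (nat_lit 50) (.node (nat_lit 49) (.leaf (nat_lit 2913)) (.leaf (nat_lit 2961))) (.node (nat_lit 51) (.leaf (nat_lit 3041)) (.leaf (nat_lit 3073))))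
 (.node (nat_lit 54) (.node (nat_lit 53) (.leaf (nat_lit 3088)) (.leaf (nat_lit 3393))) (.node (nat_lit 55) (.leaf (nat_lit 3409)) (.leaf (nat_lit 3425)))))
 (.node (nat_lit 60) (.node (nat_lit 58) (.node (nat_lit 57) (.leaf (nat_lit 3473)) (.leaf (nat_lit 3553))) (.node (nat_lit 59) (.leaf (nat_lit 3617)) (.leaf (nat_lit 3633))))
 (.node (nat_lit 62) (.node (nat_lit 61) (.leaf (nat_lit 3697)) (.leaf (nat_lit 3761))) (.node (nat_lit 63) (.leaf (nat_lit 3793)) (.node (nat_lit 64) (.leaf (nat_lit 3841)) (.leaf (nat_lit 3856)))))))))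
theorem pts : ptR C16 3 true V 65 0 65 = true := by decide +kernel
noncomputable def M0 : Sp := [[(nat_lit 0, nat_lit 6), (nat_lit 1, nat_lit 4), (nat_lit 2, nat_lit 15)],
  [(nat_lit 0, nat_lit 5), (nat_lit 2, nat_lit 7)],
  [(nat_lit 0, nat_lit 8), (nat_lit 1, nat_lit 7), (nat_lit 2, nat_lit 7)]]
noncomputable def M1 : Sp := [[(nat_lit 2, nat_lit 8)],
  [(nat_lit 0, nat_lit 3), (nat_lit 1, nat_lit 9)],
  [(nat_lit 0, nat_lit 5), (nat_lit 1, nat_lit 13)]]
noncomputable def MT : Tr Sp := (.node (nat_lit 1) (.leaf M0) (.leaf M1))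
noncomputable def SC : Tr ℕ := (.node (nat_lit 1) (.leaf (nat_lit 0x3a92a85aec79a3f6397fc296d8b6e87c3ef43c1c8af3bce6278e6725af528efb9)) (.leaf (nat_lit 0x112222299999cc6666688dddddaa44444bbbbb333337777755555eeeeeff4b76c)))
theorem act : ActAll C16 3 true V 65 (nat_lit 7) (nat_lit 127) MT G0 SC 2 := actAll_of (by decide +kernel)
noncomputable def OT : Tr ℕ := (.node (nat_lit 1) (.leaf (nat_lit 2)) (.leaf (nat_lit 13)))
theorem pw : ∀ j < 2, powChk C16 3 (MT.get j) (OT.get j) = true ∧ 0 < OT.get j ∧ Nat.Coprime (OT.get j) 15 ∧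
    bilChk C16 3 idF (fun a => C16.pow a 4) (MT.get j) = true := by decide +kernel
theorem cen : Subgroup.center P = ⊥ := center_eq_bot lets base (nat_lit 0) [[nat_lit 4, nat_lit 3]] [[], [nat_lit 6, nat_lit 0, nat_lit 6], [nat_lit 5, nat_lit 6], [nat_lit 1, nat_lit 5, nat_lit 2, nat_lit 0, nat_lit 6]] (by decide +kernel)
theorem iso {F : Type*} [Field F] [Fintype F] (hF : Fintype.card F = 16) :
    Nonempty (Cfsg.PSU 3 F 4 ≃* P) := by
  haveI : CharP F 2 := charP_of_card (k := 4) (by norm_num) hF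
  obtain ⟨φ, h⟩ := exists_fm16 hF
  refine iso_quot_center gen (h.pt_inj (ix_fin 3) (τSU 3 F 4) pts)
    (act.lets h (ix_fin 3) fun j hj => h.exists_SU 2 2 rfl (pw j hj).1 (pw j hj).2.1 (by rw [hF]; exact (pw j hj).2.2.1)
      (pw j hj).2.2.2) cen ?_
  have := Cfsg.Agent.S0280.result (q := 4) hF 3 (by norm_num)
  rw [card]
  simp only [Finset.prod_range_succ, Finset.prod_range_zero] at this
  norm_num [Nat.even_iff] at this
  show Nat.card (Cfsg.PSU 3 F 4) ≤ _
  omega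

end H8.U34
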