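import Cfsg.Agent.H8.GU35
import Cfsg.Agent.H8.Glue
import Cfsg.Agent.H8.FM25
import Cfsg.Agent.S0280

/-! H8.XU35: `iso`: PSU(3,5) is isomorphic to `P` (generated certificate) -/

set_option autoImplicit false
set_option maxRecDepth 200000

open Matrix

namespace H8.U35

noncomputable def V : Tr ℕ := (.node (nat_lit 63) (.node (nat_lit 31) (.node (nat_lit 15) (.node (nat_lit 7) (.node (nat_lit 3) (.node (nat_lit 1) (.leaf (nat_lit 129)) (.node (nat_lit 2) (.leaf (nat_lit 193)) (.leaf (nat_lit 577))))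
 (.node (nat_lit 5) (.node (nat_lit 4) (.leaf (nat_lit 769)) (.leaf (nat_lit 2113))) (.node (nat_lit 6) (.leaf (nat_lit 2305)) (.leaf (nat_lit 4609)))))
 (.node (nat_lit 11) (.node (nat_lit 9) (.node (nat_lit 8) (.leaf (nat_lit 5185)) (.leaf (nat_lit 5377))) (.node (nat_lit 10) (.leaf (nat_lit 5697)) (.leaf (nat_lit 5889))))
 (.node (nat_lit 13) (.node (nat_lit 12) (.leaf (nat_lit 6145)) (.leaf (nat_lit 8193))) (.node (nat_lit 14) (.leaf (nat_lit 8256)) (.leaf (nat_lit 12289))))))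
 (.node (nat_lit 23) (.node (nat_lit 19) (.node (nat_lit 17) (.node (nat_lit 16) (.leaf (nat_lit 12352)) (.leaf (nat_lit 16897))) (.node (nat_lit 18) (.leaf (nat_lit 17473)) (.leaf (nat_lit 17665))))
 (.node (nat_lit 21) (.node (nat_lit 20) (.leaf (nat_lit 17985)) (.leaf (nat_lit 18177))) (.node (nat_lit 22) (.leaf (nat_lit 18433)) (.leaf (nat_lit 32833)))))
 (.node (nat_lit 27) (.node (nat_lit 25) (.node (nat_lit 24) (.leaf (nat_lit 33025)) (.leaf (nat_lit 33921))) (.node (nat_lit 26) (.leaf (nat_lit 33985)) (.leaf (nat_lit 34433))))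
 (.node (nat_lit 29) (.node (nat_lit 28) (.leaf (nat_lit 34497)) (.leaf (nat_lit 36865))) (.node (nat_lit 30) (.leaf (nat_lit 36928)) (.leaf (nat_lit 41601)))))))
 (.node (nat_lit 47) (.node (nat_lit 39) (.node (nat_lit 35) (.node (nat_lit 33) (.node (nat_lit 32) (.leaf (nat_lit 41665)) (.leaf (nat_lit 41985))) (.node (nat_lit 34) (.leaf (nat_lit 42497)) (.leaf (nat_lit 43137))))
 (.node (nat_lit 37) (.node (nat_lit 36) (.leaf (nat_lit 43201)) (.leaf (nat_lit 45697))) (.node (nat_lit 38) (.leaf (nat_lit 45761)) (.leaf (nat_lit 46081)))))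
 (.node (nat_lit 43) (.node (nat_lit 41) (.node (nat_lit 40) (.leaf (nat_lit 46593)) (.leaf (nat_lit 47233))) (.node (nat_lit 42) (.leaf (nat_lit 47297)) (.leaf (nat_lit 49153))))
 (.node (nat_lit 45) (.node (nat_lit 44) (.leaf (nat_lit 49216)) (.leaf (nat_lit 66177))) (.node (nat_lit 46) (.leaf (nat_lit 66241)) (.leaf (nat_lit 66561))))))
 (.node (nat_lit 55) (.node (nat_lit 51) (.node (nat_lit 49) (.node (nat_lit 48) (.leaf (nat_lit 67073)) (.leaf (nat_lit 67713))) (.node (nat_lit 50) (.leaf (nat_lit 67777)) (.leaf (nat_lit 69697))))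
 (.node (nat_lit 53) (.node (nat_lit 52) (.leaf (nat_lit 69889)) (.leaf (nat_lit 70785))) (.node (nat_lit 54) (.leaf (nat_lit 70849)) (.leaf (nat_lit 71297)))))
 (.node (nat_lit 59) (.node (nat_lit 57) (.node (nat_lit 56) (.leaf (nat_lit 71361)) (.leaf (nat_lit 74241))) (.node (nat_lit 58) (.leaf (nat_lit 74817)) (.leaf (nat_lit 75009))))
 (.node (nat_lit 61) (.node (nat_lit 60) (.leaf (nat_lit 75329)) (.leaf (nat_lit 75521))) (.node (nat_lit 62) (.leaf (nat_lit 75777)) (.leaf (nat_lit 78337))))))))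
 (.node (nat_lit 94) (.node (nat_lit 78) (.node (nat_lit 70) (.node (nat_lit 66) (.node (nat_lit 64) (.leaf (nat_lit 78913)) (.node (nat_lit 65) (.leaf (nat_lit 79105)) (.leaf (nat_lit 79425))))
 (.node (nat_lit 68) (.node (nat_lit 67) (.leaf (nat_lit 79617)) (.leaf (nat_lit 79873))) (.node (nat_lit 69) (.leaf (nat_lit 81985)) (.leaf (nat_lit 82177)))))
 (.node (nat_lit 74) (.node (nat_lit 72) (.node (nat_lit 71) (.leaf (nat_lit 83073)) (.leaf (nat_lit 83137))) (.node (nat_lit 73) (.leaf (nat_lit 83585)) (.leaf (nat_lit 83649))))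
 (.node (nat_lit 76) (.node (nat_lit 75) (.leaf (nat_lit 98945)) (.leaf (nat_lit 99009))) (.node (nat_lit 77) (.leaf (nat_lit 99329)) (.leaf (nat_lit 99841))))))
 (.node (nat_lit 86) (.node (nat_lit 82) (.node (nat_lit 80) (.node (nat_lit 79) (.leaf (nat_lit 100481)) (.leaf (nat_lit 100545))) (.node (nat_lit 81) (.leaf (nat_lit 102465)) (.leaf (nat_lit 102657))))
 (.node (nat_lit 84) (.node (nat_lit 83) (.leaf (nat_lit 103553)) (.leaf (nat_lit 103617))) (.node (nat_lit 85) (.leaf (nat_lit 104065)) (.leaf (nat_lit 104129)))))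
 (.node (nat_lit 90) (.node (nat_lit 88) (.node (nat_lit 87) (.leaf (nat_lit 107009)) (.leaf (nat_lit 107585))) (.node (nat_lit 89) (.leaf (nat_lit 107777)) (.leaf (nat_lit 108097))))
 (.node (nat_lit 92) (.node (nat_lit 91) (.leaf (nat_lit 108289)) (.leaf (nat_lit 108545))) (.node (nat_lit 93) (.leaf (nat_lit 111105)) (.leaf (nat_lit 111681)))))))
 (.node (nat_lit 110) (.node (nat_lit 102) (.node (nat_lit 98) (.node (nat_lit 96) (.node (nat_lit 95) (.leaf (nat_lit 111873)) (.leaf (nat_lit 112193))) (.node (nat_lit 97) (.leaf (nat_lit 112385)) (.leaf (nat_lit 112641))))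
 (.node (nat_lit 100) (.node (nat_lit 99) (.leaf (nat_lit 114753)) (.leaf (nat_lit 114945))) (.node (nat_lit 101) (.leaf (nat_lit 115841)) (.leaf (nat_lit 115905)))))
 (.node (nat_lit 106) (.node (nat_lit 104) (.node (nat_lit 103) (.leaf (nat_lit 116353)) (.leaf (nat_lit 116417))) (.node (nat_lit 105) (.leaf (nat_lit 131137)) (.leaf (nat_lit 131329))))
 (.node (nat_lit 108) (.node (nat_lit 107) (.leaf (nat_lit 132225)) (.leaf (nat_lit 132289))) (.node (nat_lit 109) (.leaf (nat_lit 132737)) (.leaf (nat_lit 132801))))))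
 (.node (nat_lit 118) (.node (nat_lit 114) (.node (nat_lit 112) (.node (nat_lit 111) (.leaf (nat_lit 135169)) (.leaf (nat_lit 135232))) (.node (nat_lit 113) (.leaf (nat_lit 139905)) (.leaf (nat_lit 139969))))
 (.node (nat_lit 116) (.node (nat_lit 115) (.leaf (nat_lit 140289)) (.leaf (nat_lit 140801))) (.node (nat_lit 117) (.leaf (nat_lit 141441)) (.leaf (nat_lit 141505)))))
 (.node (nat_lit 122) (.node (nat_lit 120) (.node (nat_lit 119) (.leaf (nat_lit 144001)) (.leaf (nat_lit 144065))) (.node (nat_lit 121) (.leaf (nat_lit 144385)) (.leaf (nat_lit 144897))))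
 (.node (nat_lit 124) (.node (nat_lit 123) (.leaf (nat_lit 145537)) (.leaf (nat_lit 145601))) (.node (nat_lit 125) (.leaf (nat_lit 147457)) (.leaf (nat_lit 147520)))))))))
theorem pts : ptR C25 3 true V 126 0 126 = true := by decide +kernel
noncomputable def M0 : Sp := [[(nat_lit 0, nat_lit 16), (nat_lit 1, nat_lit 26), (nat_lit 2, nat_lit 17)],
  [(nat_lit 0, nat_lit 20), (nat_lit 1, nat_lit 24), (nat_lit 2, nat_lit 27)],
  [(nat_lit 0, nat_lit 26), (nat_lit 1, nat_lit 8), (nat_lit 2, nat_lit 10)]]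
noncomputable def M1 : Sp := [[(nat_lit 0, nat_lit 25), (nat_lit 1, nat_lit 24), (nat_lit 2, nat_lit 1)],
  [(nat_lit 0, nat_lit 8), (nat_lit 1, nat_lit 11), (nat_lit 2, nat_lit 26)],
  [(nat_lit 1, nat_lit 24), (nat_lit 2, nat_lit 3)]]
noncomputable def MT : Tr Sp := (.node (nat_lit 1) (.leaf M0) (.leaf M1))
noncomputable def SC : Tr ℕ := (.node (nat_lit 1) (.leaf (nat_lit 0xd085148c8846e43106138526138518dc2022521148648e08e26e08c451869004b9206906212522a141b40421290c81a24c8101015226584a452204869b81444866311a9098d44c14534c14480cc4c88496e04132d181a8816116a225b323)) (.leaf (nat_lit 0x2e051368a6084522a026329a26351390109b0da21051266291846290840982010b4998202540da71465180809a48a8a00ca8a02044188496924181026518504c26642204839108c49198c44c230a8c25034624e34938a06042538180d12a4)))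
theorem act : ActAll C25 3 true V 126 (nat_lit 7) (nat_lit 127) MT G0 SC 2 := actAll_of (by decide +kernel)
noncomputable def OT : Tr ℕ := (.node (nat_lit 1) (.leaf (nat_lit 7)) (.leaf (nat_lit 7)))
theorem pw : ∀ j < 2, powChk C25 3 (MT.get j) (OT.get j) = true ∧ 0 < OT.get j ∧ Nat.Coprime (OT.get j) 24 ∧
    bilChk C25 3 idF (fun a => C25.pow a 5) (MT.get j) = true := by decide +kernel
theorem cen : Subgroup.center P = ⊥ := center_eq_bot lets base (nat_lit 0) [[nat_lit 3, nat_lit 0]] [[], [nat_lit 3, nat_lit 0, nat_lit 4, nat_lit 2, nat_lit 0, nat_lit 4], [nat_lit 4, nat_lit 0, nat_lit 4], [nat_lit 2, nat_lit 2, nat_lit 3, nat_lit 2, nat_lit 0, nat_lit 4]] (by decide +kernel)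
theorem iso {F : Type*} [Field F] [Fintype F] (hF : Fintype.card F = 25) :
    Nonempty (Cfsg.PSU 3 F 5 ≃* P) := by
  haveI : Fact (Nat.Prime 5) := ⟨by norm_num⟩
  haveI : CharP F 5 := charP_of_card (k := 2) (by norm_num) hF
  obtain ⟨ω, hω⟩ := exists_fm25 hF
  have h := fm25 hω
  refine iso_quot_center gen (h.pt_inj (ix_fin 3) (τSU 3 F 5) pts)
    (act.lets h (ix_fin 3) fun j hj => h.exists_SU 5 1 rfl (pw j hj).1 (pw j hj).2.1 (by rw [hF]; exact (pw j hj).2.2.1)
      (pw j hj).2.2.2) cen ?_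
  have := Cfsg.Agent.S0280.result (q := 5) hF 3 (by norm_num)
  rw [card]
  simp only [Finset.prod_range_succ, Finset.prod_range_zero] at this
  norm_num [Nat.even_iff] at this
  show Nat.card (Cfsg.PSU 3 F 5) ≤ _
  omega

end H8.U35
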