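import Cfsg.Agent.H8.GU42
import Cfsg.Agent.H8.Glue
import Cfsg.Agent.S0280

/-! H8.XU42: `iso`: PSU(4,2) is isomorphic to `P` (generated certificate) -/

set_option autoImplicit false
set_option maxRecDepth 200000

open Matrix

namespace H8.U42

noncomputable def V : Tr ℕ := (.node (nat_lit 22) (.node (nat_lit 11) (.node (nat_lit 5) (.node (nat_lit 2) (.node (nat_lit 1) (.leaf (nat_lit 5)) (.leaf (nat_lit 9))) (.node (nat_lit 3) (.leaf (nat_lit 13)) (.node (nat_lit 4) (.leaf (nat_lit 17)) (.leaf (nat_lit 20)))))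
 (.node (nat_lit 8) (.node (nat_lit 6) (.leaf (nat_lit 33)) (.node (nat_lit 7) (.leaf (nat_lit 36)) (.leaf (nat_lit 49)))) (.node (nat_lit 9) (.leaf (nat_lit 52)) (.node (nat_lit 10) (.leaf (nat_lit 65)) (.leaf (nat_lit 68))))))
 (.node (nat_lit 16) (.node (nat_lit 13) (.node (nat_lit 12) (.leaf (nat_lit 80)) (.leaf (nat_lit 85))) (.node (nat_lit 14) (.leaf (nat_lit 89)) (.node (nat_lit 15) (.leaf (nat_lit 93)) (.leaf (nat_lit 101)))))
 (.node (nat_lit 19) (.node (nat_lit 17) (.leaf (nat_lit 105)) (.node (nat_lit 18) (.leaf (nat_lit 109)) (.leaf (nat_lit 117)))) (.node (nat_lit 20) (.leaf (nat_lit 121)) (.node (nat_lit 21) (.leaf (nat_lit 125)) (.leaf (nat_lit 129)))))))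
 (.node (nat_lit 33) (.node (nat_lit 27) (.node (nat_lit 24) (.node (nat_lit 23) (.leaf (nat_lit 132)) (.leaf (nat_lit 144))) (.node (nat_lit 25) (.leaf (nat_lit 149)) (.node (nat_lit 26) (.leaf (nat_lit 153)) (.leaf (nat_lit 157)))))
 (.node (nat_lit 30) (.node (nat_lit 28) (.leaf (nat_lit 165)) (.node (nat_lit 29) (.leaf (nat_lit 169)) (.leaf (nat_lit 173)))) (.node (nat_lit 31) (.leaf (nat_lit 181)) (.node (nat_lit 32) (.leaf (nat_lit 185)) (.leaf (nat_lit 189))))))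
 (.node (nat_lit 39) (.node (nat_lit 36) (.node (nat_lit 34) (.leaf (nat_lit 193)) (.node (nat_lit 35) (.leaf (nat_lit 196)) (.leaf (nat_lit 208)))) (.node (nat_lit 37) (.leaf (nat_lit 213)) (.node (nat_lit 38) (.leaf (nat_lit 217)) (.leaf (nat_lit 221)))))
 (.node (nat_lit 42) (.node (nat_lit 40) (.leaf (nat_lit 229)) (.node (nat_lit 41) (.leaf (nat_lit 233)) (.leaf (nat_lit 237)))) (.node (nat_lit 43) (.leaf (nat_lit 245)) (.node (nat_lit 44) (.leaf (nat_lit 249)) (.leaf (nat_lit 253))))))))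
theorem pts : ptR C4 4 true V 45 0 45 = true := by decide +kernel
noncomputable def M0 : Sp := [[(nat_lit 0, nat_lit 2), (nat_lit 2, nat_lit 1), (nat_lit 3, nat_lit 3)],
  [(nat_lit 0, nat_lit 2), (nat_lit 1, nat_lit 3), (nat_lit 3, nat_lit 3)],
  [(nat_lit 0, nat_lit 3), (nat_lit 1, nat_lit 1), (nat_lit 2, nat_lit 2)],
  [(nat_lit 1, nat_lit 3), (nat_lit 2, nat_lit 1), (nat_lit 3, nat_lit 3)]]
noncomputable def M1 : Sp := [[(nat_lit 0, nat_lit 1), (nat_lit 2, nat_lit 3), (nat_lit 3, nat_lit 3)],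
  [(nat_lit 1, nat_lit 3), (nat_lit 2, nat_lit 2), (nat_lit 3, nat_lit 2)],
  [(nat_lit 0, nat_lit 3), (nat_lit 1, nat_lit 3), (nat_lit 2, nat_lit 2)],
  [(nat_lit 0, nat_lit 2), (nat_lit 1, nat_lit 2), (nat_lit 3, nat_lit 1)]]
noncomputable def MT : Tr Sp := (.node (nat_lit 1) (.leaf M0) (.leaf M1))
noncomputable def SC : Tr ℕ := (.node (nat_lit 1) (.leaf (nat_lit 0x2afd5b9e57f5bfaabe67dbf)) (.leaf (nat_lit 0x15fdf7bf56ad9da95ef9ad5)))
theorem act : ActAll C4 4 true V 45 (nat_lit 6) (nat_lit 63) MT G0 SC 2 := actAll_of (by decide +kernel)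
noncomputable def OT : Tr ℕ := (.node (nat_lit 1) (.leaf (nat_lit 4)) (.leaf (nat_lit 5)))
theorem pw : ∀ j < 2, powChk C4 4 (MT.get j) (OT.get j) = true ∧ 0 < OT.get j ∧ Nat.Coprime (OT.get j) 3 ∧
    bilChk C4 4 idF (fun a => C4.pow a 2) (MT.get j) = true := by decide +kernel
theorem cen : Subgroup.center P = ⊥ := center_eq_bot lets base (nat_lit 0) [[nat_lit 3, nat_lit 2]] [[], [nat_lit 4, nat_lit 1, nat_lit 4], [nat_lit 2, nat_lit 0, nat_lit 4], [nat_lit 4]] (by decide +kernel)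
theorem iso {F : Type*} [Field F] [Fintype F] (hF : Fintype.card F = 4) :
    Nonempty (Cfsg.PSU 4 F 2 ≃* P) := by
  haveI : CharP F 2 := charP_of_card (k := 2) (by norm_num) hF
  obtain ⟨ω, hω⟩ := exists_fm4 hF
  have h := fm4 hω
  refine iso_quot_center gen (h.pt_inj (ix_fin 4) (τSU 4 F 2) pts)
    (act.lets h (ix_fin 4) fun j hj => h.exists_SU 2 1 rfl (pw j hj).1 (pw j hj).2.1 (by rw [hF]; exact (pw j hj).2.2.1)
      (pw j hj).2.2.2) cen ?_
  have := Cfsg.Agent.S0280.result (q := 2) hF 4 (by norm_num)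
  rw [card]
  simp only [Finset.prod_range_succ, Finset.prod_range_zero] at this
  norm_num [Nat.even_iff] at this
  show Nat.card (Cfsg.PSU 4 F 2) ≤ _
  omega

end H8.U42
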