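import Cfsg.Agent.H8.GO73
import Cfsg.Agent.H8.NC

/-! H8.YO73: classes of elements of order 3 in O7(3) (generated certificate) -/

set_option autoImplicit false
set_option maxRecDepth 200000

set_option linter.all false
open Subgroup 

namespace H8.O73

theorem ch : Ch P 364 (nat_lit 9) (nat_lit 511) (Fin.ofNat 364) T L := std.ch0 (by decide +kernel)
noncomputable def y3t0 : ℕ := (nat_lit 0x1f0f06c3d373aa6af2765897960af98498492f12e80e17237aaacaa9d498c30188bca2286aca1a0cfa3d1a8aada1d0a82d935938d06334d46a8c55fcd9d334999e0ea70219d96ab05a5856cce93c9a4a322a970ba5ba228d44a853c192b084c4292f1489c48220e0f841209449272129e83a6a0a1e0d8483a257fbf9fafc7dbe9f2f87b81c0a04040dc70731ccc1e0e797b9acab8b1d9888463311db93c9f369c75861d5ab2c42b0ac582a9235e46cd6652a934854ce5cb37714e8c86533916b75e6430a572a77bc658711d1c8e8bdb4adeceb96b3523f1e8e8a4b0592bd35554c562ae04968046117164446914170c850348e87a35128c43c32170d1209842270c3d4faf47b1f0f6f33d1e4120c0302c14413b908812d76ca5d0eeb42c6d76a279a8a04d6db75b13870569815dae30468351996a38cb8db49a350a7d394d3b9fb7e7a6031128be4863d5d7cc975cba65311f9b4de6c1dac976bab22ce45219034ca654290b85b4b57ab94aa44da653e9d874452310498542c1c09c662a8f8bc0608a081a844423078801a823f9f90a8041a050c84018080200)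
noncomputable def y3t1 : ℕ := (nat_lit 0x369b1666f58b99d23773d8a5560afb00c05f60989b2dc2336aab39a9d4a7454299494ca4163399acca3d1a8b1fa1d0a835927b7c9ae0283199464644dacb349990480ee75908e8b95eaf0e54a93c9a4ad3688d4683356ab156592ba68349e0ba70331489c4844204988d188e46c5a131883c6a0a1509a842c9f7fbf9fafc7dbe9f2f87ba0d0c844059174ed5d9c0e76321d9a6a71763a993576eb1eb06327558cce133b7a8065692be96ae19158ab49a44a1a0cf2c55088bf23d4670d86daf8bc619b91569611c8e160e8594a65b2b1b0e8dd2c158aa88a351295971c8d94452288f474241412c20490a13c184d178aa82330c0fc2c430d0c25124904ea65229b478141204038300c08058290a82409fcfd323bcba62b5782d971301ed9c7c3c9f9aa773d61b8d88c59e12ebc4c24d6e43229016950a953b5e4630188be9a6935cf8d15dad12ab8487139184e5979d8f0751fdaed16a1dadddef1795a4b85d2dc929f50a70b85ad56b351554c4422a008b08045120e87c12021c81a552e874c0743c960dc0a230e07c401a7c3d1e4faf37b1edeaf4018080200)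
noncomputable def y3t2 : ℕ := (nat_lit 0x1d0d86e6e1c0fc763c3b90c847039b7683427050e6f396d4ea76e59ecfdc950a7d3a98aa57d26914aa2d1e8d4422978c2602719cc664331289068355a1716ab5d7ec0b3595897363b2d99792892c9e4d236bc8a43208f4763ecb8e070220d0703c202509050421f0b8622d188d2221c8b8822a231289a4e28917ebfdfcfa7e3edeef97c1ede87d3cad160b1b0da6ceb55badac8bd5d2ec9a4f32940be44231888e493592c986992355a8d668b4da4d067b399acc8dce1b8d86cb6dc3406f37e78e3714f8ea761f0f4f06c1c9b4de40389c8e8415752d5aac55d3550a754a914ca551a8a1e8744c5d1d15464651a944823d2413120584c151386c3a1e1008834230ca110c8540a0d047e401fdeaf63e3ccf52d964a5d0f0994be6131764d9d5356356590ca5f55580c1a9b0ebac462d70b65d2e168b2582b95464532915052bfa8d4aa8c7abd599358af30ab55b973bde2f295399cee995ccdd6ed774d068331a9585e31180b85a2c158a850514b40203028541a0b0883a6d330b4ea7d410950a552f044c40d349c86a7a180605020080b0601c1205018080200)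
noncomputable def y3t3 : ℕ := (nat_lit 0x99cd1dd3676caa56e9964b9df319911cc25e22114d44825928cc4d319389f50a7d39554d575229549a35168f44ad572bac4a92faa6c1aad5ab0caac9b8d8361d1cce0713910cf0771d8fced28934964ed79248a43208ec7e3d1b65c2d350c4f435390181c120b0750c241e0d0e08c30200f8884214090904a267f3f5fefb7d3f1f0f77c9f0faf53d1008274210dc706f1c9b478751e8faa951602fd8b5b6130ebcc96355d8ec891b51acd569345a6d067b399acc8e1a09269261acbe6031118c8652819dd1297339e5b3575ba9d8f2984bde0f1a5abd5aac55d314ea95429548a651a882e190d03836100f0443a130a89c2c988125600974b275329b844193f0a50215088641205067f3f201e87b7b1e5e6b9b1af17ab1afac967605ada16cb86dcddb1389f4edc73c9eb7a834070d08b85b2e968b2582b8c8ac522a14c50e2724fdcad96d4e9b9396eb7e86e0b158560b4b32ed7564b2dad6f67b4da866351a154602f188b85a2c158a8a22947a4628934422a228b882311b1a472250f0e87a4921124a44e33158b45e30070402c0a0a030300809018080200)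
noncomputable def y3t4 : ℕ := (nat_lit 0xb55a1636b591008277213a1dd2d94b6a7ce36ccf2ad5962d608c6623910c630188bca2286a3419f28a2d1e8cac64b1eaebe9eb8276dd9f97cc06a311c8dc7438adeceb95eda5df2a964ade4cc934964e561916cb85da228d44a85384c1a1507858389d4da66210e47c46170d860844c181387c488943a321e8e7fbf9fafc7dbe9f2f87b81808090557ec4bcb00f47c3a1e0d9d8f1754d5b1386fb6d815dae306b450241349e4a2a8b0542b91c91aece66d2a934854afd895161d528343a1370d26b271a0de6c1d8fcdaba59d9176ed994c65ceb6ab5a3b1f8f0a4b0592baaa994d55ab42011074292f064ac2131128a23626a082286069f8088c40228ac5d271948bd4faf47b1f0f6f33d1e40a070602017665b596c639218dc707397b9a60f070b91bd40a9b1aa555641248a4b2618466341a8ba38cb8db49a34fa754148c2adb2abd3a9cb966ee233990bc65381d4ec785c2d2c2b05aba669339b39e45219034ca852298b4b4aea5abd4ca50d05c2419804093c964e46a308b8b41e0a9a8486c3a250f05128924524110813f201087f4120d0a86018080200)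
noncomputable def y3t5 : ℕ := (nat_lit 0xb45ae5d6a989e0ecb63abc47aef79135c0df27b76b156a0d64c8c63399590522a14d48a515b399acca35168f1f6230d8a689dd767f5a9e93096e4248ddcc391c2cd646d37ac6c12b954b2bf4892c9e4cd2698d46833562ad5a592b879101d4506d16974aa621d1180c42190b86a782e9a0d2703293488891e237fbf9fafc7dbe9f2f87ba0d0c84404a5d06c96d8568e95839c75621b1b8946aae120d73e719a678c27157ab6e568ab95f4b19158ab4aa4b419f282c13a8663a119aaec963941bce1655025ef05aae2603f991dc763e5bd9ed23c150b1454451a99971c8d8a450518f475249448086281f8986224994e8813611448410e0e87c012d020e03e080d818100a090301c180a0402d0a82409fcfc40b21048534384da66435ecd572bc604e182be23d508846a8cdcbd399d1164121910b550a953c91ae31178c29adc6cafdb45f30360c4dba9d54c35239d8ecb665d3b5dceb5dbb0e871393a8b65c2ec8e9f50a71685cd66a355554c83c24290547232148d8304c2b150b09c49081345a30128d09540a18ba7e327b3cbcde87a3e3d8faf5018080200)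
noncomputable def y3t6 : ℕ := (nat_lit 0x623297ebeadb0d915160b158ec6600941c150f86822130686420180b05c394ea853d5caf515229549a2d1e8d4c9c4fa80da6c39278dd6f36dc6df70a422c898ba510f18894661c9287c5626302d0b45c2c150a0525119158aa331a19c8860259a0a064311a4ca5f261ad3e9e4bc3141044d41530a14e40d2b098fc763d2693c96412191349acd566245191145a4d1b10444511f1a4722a75426e4edc137a1b8a7b3972d067ed915974b65c2b960b22f1894ca8521a87842200a0983a231203c36220909eb95564d7aad5aabd4eb354aed4ab0c2a228d4aa45352d58ab56aa14ea9a6aaa11004dc2a030286a660f064b42d3a493311c944f2f18cd445271208c6126b2e391b91b5e492867b41a8d368b359c701e8fcdc731f0ec7440218f0ee3696bb65f35743b9e0ea73ca5d730763a5ea7d7a3ecf6f63e3f5fc7a3cbcdf32a9b3be632b99bca64e6964d1e32e1c1c8d8781b9d0da75210e4e26f3b1050c8442bfcfe803f3e9f8814120df0f7b45817566b5d7d7765b3daac564b1ae172b4592d97b6158da56abc582cd6e04058280408028240203060180e00)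
noncomputable def y3t7 : ℕ := (nat_lit 0x1187824270f890401c0d8742826112e966bdb3ae16ab15bae578b45b2cac94fa7541474455526914aa35168eaf6fb91b5416cd09bb3d71395b9437013cd046259249a6034910d64726140c4807dbf1f48141bddf0f97fbf5fc85423a25d3099cd654ea94cbde0ec95cb5370a4b27a00a14ca620d08812713aa019154ac2d2d0b8a22914160ba5b291288a6527198d45f30990bc6731921b73e9cb7a6ee19c4ee78e39d501b13f413d5e87d3e3d8f67e3f9e4f4f3435a97765b0d82c56bb32c2c75fb4da02a1010894321a0685822180705c260fa65354ea95428948a652aad5aac5752e090986c312b034fc1d350585a5e0332774b1e53674b9ddaf177b9a68eb988d46634150ac5830188bcb8572c950a640368dc783e3a10872781c1d47a418723625168d24e23144744d11188823dacd46ac9da2d269c7a3acd6733241154822d0f0f8ba45288a492251919378ec6c703b1ccee6e391c474431f9b1971b8e47d9f28684964d246bc8e43225f31abcc36230192c8adb298b5160d6aad54a954eb8c7ac2feb35561576ae03058280c08008080e0c020240a00)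
noncomputable def y3T : Tr ℕ := (.node (nat_lit 4) (.node (nat_lit 2) (.node (nat_lit 1) (.leaf y3t0) (.leaf y3t1)) (.node (nat_lit 3) (.leaf y3t2) (.leaf y3t3)))
 (.node (nat_lit 6) (.node (nat_lit 5) (.leaf y3t4) (.leaf y3t5)) (.node (nat_lit 7) (.leaf y3t6) (.leaf y3t7))))
noncomputable def y3R : Tr (List ℕ) := (.node (nat_lit 10) (.node (nat_lit 5) (.node (nat_lit 2) (.node (nat_lit 1) (.leaf [nat_lit 0, nat_lit 1]) (.leaf [nat_lit 1, nat_lit 3, nat_lit 0, nat_lit 5, nat_lit 2, nat_lit 4])) (.node (nat_lit 3) (.leaf [nat_lit 1, nat_lit 4, nat_lit 3, nat_lit 7, nat_lit 5, nat_lit 0, nat_lit 2, nat_lit 6]) (.node (nat_lit 4) (.leaf [nat_lit 0, nat_lit 3, nat_lit 1, nat_lit 4, nat_lit 2, nat_lit 5]) (.leaf [nat_lit 0, nat_lit 5, nat_lit 0, nat_lit 5, nat_lit 0, nat_lit 5]))))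
 (.node (nat_lit 7) (.node (nat_lit 6) (.leaf [nat_lit 0, nat_lit 0, nat_lit 0]) (.leaf [nat_lit 0, nat_lit 4, nat_lit 0, nat_lit 4, nat_lit 0, nat_lit 4])) (.node (nat_lit 8) (.leaf [nat_lit 6, nat_lit 0, nat_lit 5, nat_lit 6, nat_lit 0, nat_lit 5, nat_lit 6, nat_lit 0, nat_lit 5]) (.node (nat_lit 9) (.leaf [nat_lit 1, nat_lit 2, nat_lit 4, nat_lit 6, nat_lit 5, nat_lit 1, nat_lit 5, nat_lit 7]) (.leaf [nat_lit 1, nat_lit 3, nat_lit 4, nat_lit 0, nat_lit 3, nat_lit 5, nat_lit 3])))))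
 (.node (nat_lit 15) (.node (nat_lit 12) (.node (nat_lit 11) (.leaf [nat_lit 6, nat_lit 2, nat_lit 6, nat_lit 2, nat_lit 6, nat_lit 2]) (.leaf [nat_lit 2, nat_lit 3])) (.node (nat_lit 13) (.leaf [nat_lit 2, nat_lit 2, nat_lit 2]) (.node (nat_lit 14) (.leaf [nat_lit 4, nat_lit 6, nat_lit 3, nat_lit 7, nat_lit 5, nat_lit 6, nat_lit 2, nat_lit 7]) (.leaf [nat_lit 6, nat_lit 3, nat_lit 6, nat_lit 3, nat_lit 6, nat_lit 3]))))
 (.node (nat_lit 18) (.node (nat_lit 16) (.leaf [nat_lit 4, nat_lit 5]) (.node (nat_lit 17) (.leaf [nat_lit 4, nat_lit 4, nat_lit 4]) (.leaf [nat_lit 2, nat_lit 4, nat_lit 3, nat_lit 7, nat_lit 5, nat_lit 6, nat_lit 4, nat_lit 6, nat_lit 5, nat_lit 7]))) (.node (nat_lit 19) (.leaf [nat_lit 6, nat_lit 7]) (.node (nat_lit 20) (.leaf [nat_lit 6, nat_lit 6, nat_lit 6]) (.leaf [nat_lit 0, nat_lit 3, nat_lit 5, nat_lit 1, nat_lit 3, nat_lit 4, nat_lit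 3]))))))
noncomputable def y3L0 : Lev := ⟨(nat_lit 1), (nat_lit 8), (nat_lit 0x7070500000000000008000000000000000000000000000000000000000000000000000000000000000608020105070707080800000000000000000000000000000000000000000000000000000008080800000007070701010400000000000000000000000000000000000000000000000000000000080808080808080000000000080000000000000000000000000000000000000000000000000000000105080808070202010707070808000000000000000000000000000000000000000000000000000000020604020604000000050504000000000000000000000000000000000000000000000000000000000007070700010707010200000008000000000000000000000000000000000000000000000000000000070207060000000000060707080800000000000000000000000000000000000000000000000000000004000004000803070308080000), (nat_lit 0x50504000000000000050000000000000000000000000000000000000000000000000000000000000004030404040505050304000000000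00000000000000000000000000000000000000000000005050500000005050502020300000000000000000000000000000000000000000000000000000000030304030303040000000000030000000000000000000000000000000000000000000000000000000404050505050404040505050505000000000000000000000000000000000000000000000000000000020203020203000000020203000000000000000000000000000000000000000000000000000000000003030400040303040400000005000000000000000000000000000000000000000000000000000000030403040000000000040303050500000000000000000000000000000000000000000000000000000002000002000102010203030000),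
 (.node (nat_lit 4) (.node (nat_lit 2) (.node (nat_lit 1) (.leaf (nat_lit 0x45003b0020000000000000000000000000005400000000000000000000000000000000000000000000000000000000000000000000000000000000000000000000000000000000000000000000000000000025000100330000001a0055005000490001004a000000000000000000000000000000000000000000000000000000000000000000000000000000000000000000000000000000000000004e0052004e00000000000000430045003f000000000014000000000000000000000000000000000000000000000000000000000000000000000000000000000000000000000000000000000000000000190022001d002600110018001c00000000000000000000000100000000000000000000000000000000000000000000000000000000000000000000000000000000000000000000000000000000000000000018004c004f00480042004c0002000000440041003a00290024000000000000000000000000000000000000000000000000000000000000000000000000000000000000000000000000000000000000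00020003001500020008000d00000000000000060007000c0000000000000000000000000000000000000000000000000000000000000000000000000000000000000000000000000000000000000000000000010032002c00000000004d00490000001d000000000000002a00000000000000000000000000000000000000000000000000000000000000000000000000000000000000000000000000000000000000010002002b002400000000000000000000002100210027004000370000000000000000000000000000000000000000000000000000000000000000000000000000000000000000000000000000000000000002000000000005000000010005000100100008000700000000))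
 (.leaf (nat_lit 0x4500390022000000000000000000000000005600000000000000000000000000000000000000000000000000000000000000000000000000000000000000000000000000000000000000000000000000000012001d00000003002c004d0050004900010048000000000000000000000000000000000000000000000000000000000000000000000000000000000000000000000000000000000000004f0051004d0000000000000044004400400003000300160000000000000000000000000000000000000000000000000000000000000000000000000000000000000000000000000000000000000000001900010021001900250001001e00000000000000000000004e000000000000000000000000000000000000000000000000000000000000000000000000000000000000000000000000000000000000002200280055002a0025004200000000004b002b004100380051004a00000000000000000000000000000000000000000000000000000000000000000000000000000000000000000000000000000000000000000004000f00000003000600000000000000020009000e000000000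0000000000000000000000000000000000000000000000000000000000000000000000000000000000000000000000000000000000000010034001b00000003004b0001001a0000000000000000004600000000000000000000000000000000000000000000000000000000000000000000000000000000000000000000000000000000000000310000002d002600000000000000000000001e002300270043003c000000000000000000000000000000000000000000000000000000000000000000000000000000000000000000000000000000000000000800000000000700000001000d000100150007000600000000)))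
 (.node (nat_lit 3) (.leaf (nat_lit 0x270026002300000000000000000000000000270000000000000000000000000000000000000000000000000000000000000000000000000000000000000000000000000000000000000000000000000000001f00060037001d001d0027002c002b0015000b000000000000000000000000000000000000000000000000000000000000000000000000000000000000000000000000000000000000002b0028002a0000000000000038001f00390001000100160000000000000000000000000000000000000000000000000000000000000000000000000000000000000000000000000000000000000000001e001c0009001d000f0010001100000000000000000000001400000000000000000000000000000000000000000000000000000000000000000000000000000000000000000000000000000000000000220022002b001d001b0019001900460045001a004300440028002300000000000000000000000000000000000000000000000000000000000000000000000000000000000000000000000000000000000000010014001300010002000300000000000000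17000f000e00000000000000000000000000000000000000000000000000000000000000000000000000000000000000000000000000000000000000000000001a0008001b00000031001200030024001f0000000000000020000000000000000000000000000000000000000000000000000000000000000000000000000000000000000000000000000000000000002f002e000a002500000000000000000000001f00050009003600350000000000000000000000000000000000000000000000000000000000000000000000000000000000000000000000000000000000000002000000000002000000010000000100000004000400000000))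
 (.leaf (nat_lit 0x180028002300000000000000000000000000280000000000000000000000000000000000000000000000000000000000000000000000000000000000000000000000000000000000000000000000000000001f00200038001c001e002c0028002d000c001300000000000000000000000000000000000000000000000000000000000000000000000000000000000000000000000000000000000000290029002c000000000000001e003a003900100018000000000000000000000000000000000000000000000000000000000000000000000000000000000000000000000000000000000000000000000007001e001d000a00110012000e00000000000000000000001600000000000000000000000000000000000000000000000000000000000000000000000000000000000000000000000000000000000000240021002a001c001c00250046001a004700420045001b002900240000000000000000000000000000000000000000000000000000000000000000000000000000000000000000000000000000000000000015001200000003000400000000000000000015000d0000000000000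000000000000000000000000000000000000000000000000000000000000000000000000000000000000000000000000000000000000007001c0019000000300013000200260023000000000000003600000000000000000000000000000000000000000000000000000000000000000000000000000000000000000000000000000000000000090030002d001e00000000000000000000002000040008002100370000000000000000000000000000000000000000000000000000000000000000000000000000000000000000000000000000000000000000000000000000000000010003000100030005000500000000))))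
 (.node (nat_lit 6) (.node (nat_lit 5) (.leaf (nat_lit 0x43003d00000000000000000000000000000022000000000000000000000000000000000000000000000000000000000000000000000000000000000000000000000000000000000000000000000000000000270001003500180000004b004e00510018004c000000000000000000000000000000000000000000000000000000000000000000000000000000000000000000000000000000000000004c0052004f00000000000000410045003f000a0005001400000000000000000000000000000000000000000000000000000000000000000000000000000000000000000000000000000000000000000022000100240002001a00010016000000000000000000000018000000000000000000000000000000000000000000000000000000000000000000000000000000000000000000000000000000000000002000000026004a004d0037004a002f0026003800280042001d00520000000000000000000000000000000000000000000000000000000000000000000000000000000000000000000000000000000000000004000200150009000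2000900000000000000000000000800000000000000000000000000000000000000000000000000000000000000000000000000000000000000000000000000000000000000000000002a001500340000002e0049004d002800230000000000000024000000000000000000000000000000000000000000000000000000000000000000000000000000000000000000000000000000000000001a0019002b001b000000000000000000000002000300230018003e0000000000000000000000000000000000000000000000000000000000000000000000000000000000000000000000000000000000000007000000000012000000010005000100020005000300000000))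
 (.leaf (nat_lit 0x4300290004000000000000000000000000004c00000000000000000000000000000000000000000000000000000000000000000000000000000000000000000000000000000000000000000000000000000000001b0019001a002c004b004e0027002d004e000000000000000000000000000000000000000000000000000000000000000000000000000000000000000000000000000000000000004d0053005000000000000000420046003e000a00050016000000000000000000000000000000000000000000000000000000000000000000000000000000000000000000000000000000000000000000170001001f0001001c0029002400000000000000000000004a0000000000000000000000000000000000000000000000000000000000000000000000000000000000000000000000000000000000000024000300530023001e003900190017004b0019003f0023004f005200000000000000000000000000000000000000000000000000000000000000000000000000000000000000000000000000000000000000030000001100040000000600000000000000030003000a000000000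0000000000000000000000000000000000000000000000000000000000000000000000000000000000000000000000000000000000000010017003600000030004b002500260021000000000000004400000000000000000000000000000000000000000000000000000000000000000000000000000000000000000000000000000000000000330016002b0000000000000000000000000000000300250038003c000000000000000000000000000000000000000000000000000000000000000000000000000000000000000000000000000000000000000700000000001300000001000b000100060004000200000000)))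
 (.node (nat_lit 7) (.leaf (nat_lit 0x100000000000000000000000000020000000000000000000000000000000000000000000000000000000000000000000000000000000000000000000000000000000000000000000000000000002b00020001000100010000000000000002002f0000000000000000000000000000000000000000000000000000000000000000000000000000000000000000000000000000000000000002000200020000000000000000000000000001000100010000000000000000000000000000000000000000000000000000000000000000000000000000000000000000000000000000000000000000000200020002000200020002004f0000000000000000000000020000000000000000000000000000000000000000000000000000000000000000000000000000000000000000000000000000000000000001000100020002000200000001000100010000000000000002000200000000000000000000000000000000000000000000000000000000000000000000000000000000000000000000000000000000000000010001000100010001002000000000000000010001000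1000000000000000000000000000000000000000000000000000000000000000000000000000000000000000000000000000000000000000000000000000000000000005000000000000100010000000000000002000000000000000000000000000000000000000000000000000000000000000000000000000000000000000000000000000000000000000000300000000100000000000000000000002a00000000000200020000000000000000000000000000000000000000000000000000000000000000000000000000000000000000000000000000000000000002000000000001000000020002000000010003000300010000))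
 (.leaf (nat_lit 0x30003000100000000000000000000000000000000000000000000000000000000000000000000000000000000000000000000000000000000000000000000000000000000000000000000000000000000002100000001000100010003000300030000000000000000000000000000000000000000000000000000000000000000000000000000000000000000000000000000000000000000000000000000000000000000000000030003000300010001000100000000000000000000000000000000000000000000000000000000000000000000000000000000000000000000000000000000000000000000000000000000000000000000000000000000000000000000000000000000000000000000000000000000000000000000000000000000000000000000000000000000000000000000000000000000000100010000000000000003000100010001000300030003000000000000000000000000000000000000000000000000000000000000000000000000000000000000000000000000000000000000000000000001000100310001000100290000000000000001000100510000000000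00000000000000000000000000000000000000000000000000000000000000000000000000000000000000000000000000000000000003000300030000005000030003000100010000000000000000000000000000000000000000000000000000000000000000000000000000000000000000000000000000000000000000000000000000000300300003000100000000000000000000002c00030003000000000000000000000000000000000000000000000000000000000000000000000000000000000000000000000000000000000000000000000004000000000003000000000004000300030000000000010000))))),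
 (.node (nat_lit 4) (.node (nat_lit 2) (.node (nat_lit 1) (.leaf (nat_lit 0x50000050000040400000000000000000000000000000000000000040200000000000000000000000000000000000000000000000000000000000000000000000000000000000000000000000000000000000000000000000000000000000000000000000000000000000000000000000000000000000000000000050000000000050100000000010200050100050000050000000000050100000000000000000000000000000000000000000000000000000000000000000000000000000000000000000000000000000000000000000000000000000000000000000000000000000000000000000000020500000000000000000000000000000000030000000000020500000000000000040000000000000000000000000000000000000000000000000000000000000000000000000000000000000000000000000000000000000000000000000000000000000000000000000000000000000000000000000000050000050000020500040000020500030000040400000000000000000000000000000000000000000000000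0000000000000000000000000000000000000000000000000000000000000000000000000000000000000000000000000000000000000000000000000000000000000000000000000000000000000000701000205000402000205000500000000000500000000000404000604000000000205000205000000000000000000000000000000000000000000000000000000000000000000000000000000000000000000000000000000000000000000000000000000000000000000000000000000000000000000000501000000000501000501000501000501000000000000000000000500000704000400000000000000000000000000000000000000000000000000000000000000000000000000000000000000000000000000000000000000000000000000000000000000000000000000000000000000000000000000000000000000000000000500000000000000000502000000000000000502000000000000000000000707000000000000000000000000000000000000000000000000000000000000000000000000000000000000000000000000000000000000000000000000000000000000000000000000000000000000000000000000000502000602000602000000000000000000000000000000000502000602000502000402000300000000000000000000000000000000000000000000000000000000000000000000000000000000000000000000000000000000000000000000000000000000000000000000000000000000000000000000000205000000000000000000000000000000000102000000000000000000000000000000000000))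
 (.leaf (nat_lit 0x10009000000010000000000000000000000000000000000000000010000000000000000000000000000000000000000000000000000000000000000000000000000000000000000000000000000000000000000000000000000000000000000000000000000000000000000000000000000000000000000000000010000010000000000010000010000010000010000010000010009000000000000000000000000000000000000000000000000000000000000000000000000000000000000000000000000000000000000000000000000000000000000000000000000000000000000000000000000010009000008000000000000000000000000010009000000010000010000010000010000000000000000000000000000000000000000000000000000000000000000000000000000000000000000000000000000000000000000000000000000000000000000000000000000000000000000000000000000010000010000010000010000010000010000010000000000000000000000000000000000010000000000000000000000000000000000000000000000000000000000000000000000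00000000000000000000000000000000000000000000000000000000000000000000000000000000000000000000000001000001000001000001000001000001000000000000000001000001000001000001000001000001000000000000000000000000000000000000000000000000000000000000000000000000000000000000000000000000000000000000000000000000000000000000000000000000000000000000000000000000000302000800000000000001000001000000000000000000000805000001000001000000000000000000000000000000000000000000000000000000000000000000000000000000000000000000000000000000000000000000000000000000000000000000000000000000000000000000000000000000000001000001000001000000000001000302000001000001000000000000000000000000000001000000000000000000000000000000000000000000000000000000000000000000000000000000000000000000000000000000000000000000000000000000000000000000000000000000000000000000000100000000000001000001000000000000000000000000000000000001000001000001000001000001000000000000000000000000000000000000000000000000000000000000000000000000000000000000000000000000000000000000000000000000000000000000000000000000000000000000000000000001000000000000000001000000000001000001000001000001000200000200000000000000)))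
 (.node (nat_lit 3) (.leaf (nat_lit 0xc01000b00000c01000000000000000000000000000000000000000a05000000000000000000000000000000000000000000000000000000000000000000000000000000000000000000000000000000000000000000000000000000000000000000000000000000000000000000000000000000000000000000000c01000a01000304000b00000304000d06000c00000a01000c00000a01000000000000000000000000000000000000000000000000000000000000000000000000000000000000000000000000000000000000000000000000000000000000000000000000000000000000000000000c00000a03000b00000000000000000000000a03000b00000c02000b00000b00000b00000000000000000000000000000000000000000000000000000000000000000000000000000000000000000000000000000000000000000000000000000000000000000000000000000000000000000000000000000104000a01000a01000c02000b00000a01000c02000000000000000000000000000000000b000000000000000000000000000000000000000000000000000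00000000000000000000000000000000000000000000000000000000000000000000000000000000000000000000000000000000000000000000b00000304000b00000b00000a01000b00000801000c00000a03000d06000b00000c02000a05000a05000000000000000000000000000000000000000000000000000000000000000000000000000000000000000000000000000000000000000000000000000000000000000000000000000000000000000000000b00000c01000b00000b00000801000c02000000000000000000000c02000c01000b00000000000000000000000000000000000000000000000000000000000000000000000000000000000000000000000000000000000000000000000000000000000000000000000000000000000000000000000000000000000b00000b00000c02000000000b00000a05000b00000b00000b00000000000000000000000a05000000000000000000000000000000000000000000000000000000000000000000000000000000000000000000000000000000000000000000000000000000000000000000000000000000000000000000000c01000b00000b00000c02000000000000000000000000000000000801000b00000b00000c00000206000000000000000000000000000000000000000000000000000000000000000000000000000000000000000000000000000000000000000000000000000000000000000000000000000000000000000000000c00000000000000000c00000000000b00000000000b00000000000a05000a05000000000000))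
 (.leaf (nat_lit 0xd02000b01000b01000000000000000000000000000000000000000b01000000000000000000000000000000000000000000000000000000000000000000000000000000000000000000000000000000000000000000000000000000000000000000000000000000000000000000000000000000000000000000000b01000b01000b01000d02000b01000b01000b01000b01000b01000e01000000000000000000000000000000000000000000000000000000000000000000000000000000000000000000000000000000000000000000000000000000000000000000000000000000000000000000000b01000e03000b01000000000000000000000d02000b01000b01000b01000b01000000000000000000000000000000000000000000000000000000000000000000000000000000000000000000000000000000000000000000000000000000000000000000000000000000000000000000000000000000000b01000b01000b01000b01000b01000b01000e01000000000000000000000000000000000b0100000000000000000000000000000000000000000000000000000000000000000000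0000000000000000000000000000000000000000000000000000000000000000000000000000000000000000000000000b01000904000d02000e01000b01000e03000b01000b01000b01000101000b01000b01000b01000b01000000000000000000000000000000000000000000000000000000000000000000000000000000000000000000000000000000000000000000000000000000000000000000000000000000000000000000000b01000101000000000b01000b01000000000000000000000000000301000301000000000000000000000000000000000000000000000000000000000000000000000000000000000000000000000000000000000000000000000000000000000000000000000000000000000000000000000000000000000000000d02000b01000e05000000000901000b01000d02000b01000101000000000000000000000b01000000000000000000000000000000000000000000000000000000000000000000000000000000000000000000000000000000000000000000000000000000000000000000000000000000000000000000000d02000b01000906000904000000000000000000000000000000000b01000d02000e05000b01000b01000000000000000000000000000000000000000000000000000000000000000000000000000000000000000000000000000000000000000000000000000000000000000000000000000000000000000000000000000000000000000000000000000b01000b01000b01000b01000b01000b01000000000000))))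
 (.node (nat_lit 6) (.node (nat_lit 5) (.leaf (nat_lit 0x1000000f00000000000000000000000000000000000000000000000d00000000000000000000000000000000000000000000000000000000000000000000000000000000000000000000000000000000000000000000000000000000000000000000000000000000000000000000000000000000000000000000000f00000f00001001000f00000000001001001000000603000f00000f00000000000000000000000000000000000000000000000000000000000000000000000000000000000000000000000000000000000000000000000000000000000000000000000000000000000000000000001106000303000303000000000000000000000802000303000f00001000001000000f00000000000000000000000000000000000000000000000000000000000000000000000000000000000000000000000000000000000000000000000000000000000000000000000000000000000000000000000000000f00000f00001000001106000802000f0000110600000000000000000000000000000000030300000000000000000000000000000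0000000000000000000000000000000000000000000000000000000000000000000000000000000000000000000000000000000000000000000000000000000000000000f00000000001106000902000105001101001000001000000f00001001001106000105001106001002000000000000000000000000000000000000000000000000000000000000000000000000000000000000000000000000000000000000000000000000000000000000000000000000000000000000000000000601001001001001000601001001001001000000000000000000000000000000000f00000000000000000000000000000000000000000000000000000000000000000000000000000000000000000000000000000000000000000000000000000000000000000000000000000000000000000000000000000000001106000201000f00000000000f00000802001002001002001002000000000000000000000f00000000000000000000000000000000000000000000000000000000000000000000000000000000000000000000000000000000000000000000000000000000000000000000000000000000000000000000000f00001002001002001002000000000000000000000000000000001002001002000201001106001002000000000000000000000000000000000000000000000000000000000000000000000000000000000000000000000000000000000000000000000000000000000000000000000000000000000000000000000f00000000000000000f00000000000f00000f00000f00000201000f00000f00000000000000))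
 (.leaf (nat_lit 0xf01000f01000f01000000000000000000000000000000000000000f01000000000000000000000000000000000000000000000000000000000000000000000000000000000000000000000000000000000000000000000000000000000000000000000000000000000000000000000000000000000000000000000000000f01000204000f01000f01000f01000f01000f01000806000f01000000000000000000000000000000000000000000000000000000000000000000000000000000000000000000000000000000000000000000000000000000000000000000000000000000000000000000000f01000f01000f01000000000000000000000f01000f01001104000f01000f01000f01000000000000000000000000000000000000000000000000000000000000000000000000000000000000000000000000000000000000000000000000000000000000000000000000000000000000000000000000000f01000f01000103000f01000f01000f01000f01000000000000000000000000000000000f0100000000000000000000000000000000000000000000000000000000000000000000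0000000000000000000000000000000000000000000000000000000000000000000000000000000000000000000000000f01000f01000f01000f01000f01000f01000f01000204000305000f01000f01001104000f01000f01000000000000000000000000000000000000000000000000000000000000000000000000000000000000000000000000000000000000000000000000000000000000000000000000000000000000000000000f01000000000405000305000000000405000000000000000000000f01000f01000f01000000000000000000000000000000000000000000000000000000000000000000000000000000000000000000000000000000000000000000000000000000000000000000000000000000000000000000000000000000000f01000806000f01000000000f01000f01000708000401000204000000000000000000000f01000000000000000000000000000000000000000000000000000000000000000000000000000000000000000000000000000000000000000000000000000000000000000000000000000000000000000000000401000f01000f01000000000000000000000000000000000000000000000f01000f01000f01000204000000000000000000000000000000000000000000000000000000000000000000000000000000000000000000000000000000000000000000000000000000000000000000000000000000000000000000000905000000000000000905000000000f01000f01000f01000f01000d04000d04000000000000)))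
 (.node (nat_lit 7) (.leaf (nat_lit 0x1200000000000000000000000000000000000000001301000000000000000000000000000000000000000000000000000000000000000000000000000000000000000000000000000000000000000000000000000000000000000000000000000000000000000000000000000000000000000000001300001300001200001200001200000000000000000000001300000a00000000000000000000000000000000000000000000000000000000000000000000000000000000000000000000000000000000000000000000000000000000000000000000000000000000000000000000001301001301001301000000000000000000000000000000000000001200001200001200000000000000000000000000000000000000000000000000000000000000000000000000000000000000000000000000000000000000000000000000000000000000000000000000000000000000000000000000001300001300001300001300001300001300000803000000000000000000000000000000001300000000000000000000000000000000000000000000000000000000000000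000000000000000000000000000000000000000000000000000000000000000000000000000000000000000000000000000000001200001200001300001300001300000000001200001200001200000000000000000000001302001302000000000000000000000000000000000000000000000000000000000000000000000000000000000000000000000000000000000000000000000000000000000000000000000000000000000000000000001200001200001200001200001200000a02000000000000000000001200001200001200000000000000000000000000000000000000000000000000000000000000000000000000000000000000000000000000000000000000000000000000000000000000000000000000000000000000000000000000000000000000000000000000000000001302000000000000001200001200000000000000000000001302000000000000000000000000000000000000000000000000000000000000000000000000000000000000000000000000000000000000000000000000000000000000000000000000000000000000000000000000001302000000001200000000000000000000000000000000001200000000000000001302001302000000000000000000000000000000000000000000000000000000000000000000000000000000000000000000000000000000000000000000000000000000000000000000000000000000000000000000000a02000000000000001200000000001301000e02000000001200001302001302001200000000))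
 (.leaf (nat_lit 0x12010012010012010000000000000000000000000000000000000000000000000000000000000000000000000000000000000000000000000000000000000000000000000000000000000000000000000000000000000000000000000000000000000000000000000000000000000000000000000000000000000012010000000012010012010012010012010012010012010000000000000000000000000000000000000000000000000000000000000000000000000000000000000000000000000000000000000000000000000000000000000000000000000000000000000000000000000000000000000000000000000000000000000000000012010012010012010012010012010012010000000000000000000000000000000000000000000000000000000000000000000000000000000000000000000000000000000000000000000000000000000000000000000000000000000000000000000000000000000000000000000000000000000000000000000000000000000000000000000000000000000000000000000000000000000000000000000000000000000000000000000000000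00000000000000000000000000000000000000000000000000000000000000000000000000000000000000000000000001201001201000000000000000000001201001201001201001201001201001201001201000000000000000000000000000000000000000000000000000000000000000000000000000000000000000000000000000000000000000000000000000000000000000000000000000000000000000000000000000000001201001201001201001201001201000203000000000000000000001201001201001201000000000000000000000000000000000000000000000000000000000000000000000000000000000000000000000000000000000000000000000000000000000000000000000000000000000000000000000000000000001201001201001201000000001201001201001201001201001201000000000000000000000000000000000000000000000000000000000000000000000000000000000000000000000000000000000000000000000000000000000000000000000000000000000000000000000000000000000000000000001201001201001201001201000000000000000000000000000000001201001201001201000000000000000000000000000000000000000000000000000000000000000000000000000000000000000000000000000000000000000000000000000000000000000000000000000000000000000000000000000000001201000000000000001201000000000000001201001201001201000000000000001201000000)))))⟩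
noncomputable def y3L1 : Lev := ⟨(nat_lit 13), (nat_lit 6), (nat_lit 0x4050304040604060501010602060405030402060104020105010500000000000000000000000000000000000000000000000000000000000000000000000000000000000000000000000000000000000000000000000000000000000000000000000000000000000000000000000000000000000000000000060604010302010304030404020205020203030103010405030601000000000000000000000000000000000000000000000000000000000000000000000000000000000000000000000000000000000000000000000000000000000000000000000000000000000000000000000000000000000000000000000002010302040205030301050304010206010206030404040103030000000000000000000000000000), (nat_lit 0x3010103030404030403040403020102020402030304030404030300000000000000000000000000000000000000000000000000000000000000000000000000000000000000000000000000000000000000000000000000000000000000000000000000000000000000000000000000000000000000000000040303020303020203030303020204030403030203030304030104000000000000000000000000000000000000000000000000000000000000000000000000000000000000000000000000000000000000000000000000000000000000000000000000000000000000000000000000000000000000000000000002040404020303030403020303020403040302040304020303030000000000000000000000000000),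
 (.node (nat_lit 3) (.node (nat_lit 1) (.leaf (nat_lit 0x2300010001002d0006001400190006003200000000000b00020003000100010001002400020005000000140002000000090000001900000000000000000000000000000000000000000000000000000000000000000000000000000000000000000000000000000000000000000000000000000000000000000000000000000000000000000000000000000000000000000000000000000000000000000000000000000000000000000000000000000000000000000000000000000000000000000000000000000000000000000000000000000000000000000000000000000000000000000000000000000000000000000003000500060000000d0007000000240028002e0001001000020002000400030009000400080000000200000001002700080001000000000000000000000000000000000000000000000000000000000000000000000000000000000000000000000000000000000000000000000000000000000000000000000000000000000000000000000000000000000000000000000000000000000000000000000000000000000000000000000000000000000000000000000000000000000000000000000000000000000000000000000000000000000000000000000000000000000000000000000000000000000000000000000000000200000018000c000100020001001c000c000000010012002100000013000700000002000100110020000800010000002c001d00000000000000000000000000000000000000000000000000000000))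
 (.node (nat_lit 2) (.leaf (nat_lit 0x2500010001000100080014001a000700330003001b000500000001000100030007002300000006002400150000002100040003000500000000000000000000000000000000000000000000000000000000000000000000000000000000000000000000000000000000000000000000000000000000000000000000000000000000000000000000000000000000000000000000000000000000000000000000000000000000000000000000000000000000000000000000000000000000000000000000000000000000000000000000000000000000000000000000000000000000000000000000000000000000000000000007001200190003000d0000000300010001002e0015000600000000000d0000000000020006000300040005000e0029000a000100090000000000000000000000000000000000000000000000000000000000000000000000000000000000000000000000000000000000000000000000000000000000000000000000000000000000000000000000000000000000000000000000000000000000000000000000000000000000000000000000000000000000000000000000000000000000000000000000000000000000000000000000000000000000000000000000000000000000000000000000000000000000000000000000000028001a0000000100000009001e000c0003000100130001000300000001002f0000000100110022000a00010003002d000100000000000000000000000000000000000000000000000000000000))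
 (.leaf (nat_lit 0x200010000000200020007000200010036001900150022001000010002000100000011000100160020001a0035001f0005000100100000000000000000000000000000000000000000000000000000000000000000000000000000000000000000000000000000000000000000000000000000000000000000000000000000000000000000000000000000000000000000000000000000000000000000000000000000000000000000000000000000000000000000000000000000000000000000000000000000000000000000000000000000000000000000000000000000000000000000000000000000000000000000000e0017000200010000001e00030000000200000002000200040001000a000c00300000000000010000000400020021000000010016000000000000000000000000000000000000000000000000000000000000000000000000000000000000000000000000000000000000000000000000000000000000000000000000000000000000000000000000000000000000000000000000000000000000000000000000000000000000000000000000000000000000000000000000000000000000000000000000000000000000000000000000000000000000000000000000000000000000000000000000000000000000000000000001002f000000090002000800010000000000030001000000020001000500010023000b000100000002001e0002001d0000000000010000000000000000000000000000000000000000000000000000))))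
 (.node (nat_lit 4) (.leaf (nat_lit 0x1000300000000001f000000200034001b0017000d00120001000000010003000000010001000900000001001f000800010030000000000000000000000000000000000000000000000000000000000000000000000000000000000000000000000000000000000000000000000000000000000000000000000000000000000000000000000000000000000000000000000000000000000000000000000000000000000000000000000000000000000000000000000000000000000000000000000000000000000000000000000000000000000000000000000000000000000000000000000000000000000000000000240004000000010003001c000200030000000300000000000a0001000600050011000300030001000300020000001f00030001001800000000000000000000000000000000000000000000000000000000000000000000000000000000000000000000000000000000000000000000000000000000000000000000000000000000000000000000000000000000000000000000000000000000000000000000000000000000000000000000000000000000000000000000000000000000000000000000000000000000000000000000000000000000000000000000000000000000000000000000000000000000000000000000000100310003000b00000022001800030014000500010003000000010015000f0021000d0001003700000000000000060003000300010000000000000000000000000000000000000000000000000000))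
 (.node (nat_lit 5) (.leaf (nat_lit 0x2300000001002b000400100005000400000014001300090009000200010000000600250001000300070003000f001d000000010000000000000000000000000000000000000000000000000000000000000000000000000000000000000000000000000000000000000000000000000000000000000000000000000000000000000000000000000000000000000000000000000000000000000000000000000000000000000000000000000000000000000000000000000000000000000000000000000000000000000000000000000000000000000000000000000000000000000000000000000000000000000000000000050003001400050016000600030004002f0030001700060001000100000001001e001600080003001f000500010000000e000200040000000000000000000000000000000000000000000000000000000000000000000000000000000000000000000000000000000000000000000000000000000000000000000000000000000000000000000000000000000000000000000000000000000000000000000000000000000000000000000000000000000000000000000000000000000000000000000000000000000000000000000000000000000000000000000000000000000000000000000000000000000000000000000000020024000b000b000400060000001e000500240000000f001b0001000c00050005001a0002000f0012000e00020004002a001500010000000000000000000000000000000000000000000000000000))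
 (.leaf (nat_lit 0x25000300010001001c0000001800000031000800150000001200000001000300040004000500000007000d0001001f0007000900050000000000000000000000000000000000000000000000000000000000000000000000000000000000000000000000000000000000000000000000000000000000000000000000000000000000000000000000000000000000000000000000000000000000000000000000000000000000000000000000000000000000000000000000000000000000000000000000000000000000000000000000000000000000000000000000000000000000000000000000000000000000000000000000000017000100040004000500060001002e0015001d00020003000d000300030016000a000100070001000e002b00100000001c00000000000000000000000000000000000000000000000000000000000000000000000000000000000000000000000000000000000000000000000000000000000000000000000000000000000000000000000000000000000000000000000000000000000000000000000000000000000000000000000000000000000000000000000000000000000000000000000000000000000000000000000000000000000000000000000000000000000000000000000000000000000000000000000400260010000400020004000700200008001300030011001b0003000a0000002500050000000f0022000a00040006002c001300010000000000000000000000000000000000000000000000000000))))),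
 (.node (nat_lit 3) (.node (nat_lit 1) (.leaf (nat_lit 0x404000000000000000102000404000501000402000402000402000000000000000400000500000000000000000000000000000000000500000404000000000404000501000000000500000000000500000000000000000000000000000000000000000000000000000000000000000000000000000000000000000000000000000000000000000000000000000000000000000000000000000000000000000000000000000000000000000000000000000000000000000000000000000000000000000000000000000000000000000000000000000000000000000000000000000000000000000000000000000000000000000000000000000000000000000000000000000000000000000000000000000000000000000000000000000000000000000000000000000000000000000000000000000000000000000000000000000000000000000000000000000000000000000000000000000000000000000000000000000000000000000604000102000000000000000501000502000000000502000501000500000000000400000500000500000402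000500000501000500000501000000000903000000000000000400000300000000000000000000000000000000000000000000000000000000000000000000000000000000000000000000000000000000000000000000000000000000000000000000000000000000000000000000000000000000000000000000000000000000000000000000000000000000000000000000000000000000000000000000000000000000000000000000000000000000000000000000000000000000000000000000000000000000000000000000000000000000000000000000000000000000000000000000000000000000000000000000000000000000000000000000000000000000000000000000000000000000000000000000000000000000000000000000000000000000000000000000000000000000000000000000000000000000000502000000000404000300000000000501000000000000000502000000000000000300000500000000000602000000000000000502000000000502000404000000000000000000000600000502000000000000000000000000000000000000000000000000000000000000000000000000000000000000))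
 (.node (nat_lit 2) (.leaf (nat_lit 0x1000001000001000001000001000001000001000001000001000001000302000001000000000001000001000001000001000302000000000001000001000001000000000001000001000001000302000000000000000000000000000000000000000000000000000000000000000000000000000000000000000000000000000000000000000000000000000000000000000000000000000000000000000000000000000000000000000000000000000000000000000000000000000000000000000000000000000000000000000000000000000000000000000000000000000000000000000000000000000000000000000000000000000000000000000000000000000000000000000000000000000000000000000000000000000000000000000000000000000000000000000000000000000000000000000000000000000000000000000000000000000000000000000000000000000000000000000000000000000000000000000302000001000001000001000001000000000001000001000001000001000001000001000000000000000001000000000000001403000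100000001000001000001000001000001000001000001000001000000000000000000000000000000000000000000000000000000000000000000000000000000000000000000000000000000000000000000000000000000000000000000000000000000000000000000000000000000000000000000000000000000000000000000000000000000000000000000000000000000000000000000000000000000000000000000000000000000000000000000000000000000000000000000000000000000000000000000000000000000000000000000000000000000000000000000000000000000000000000000000000000000000000000000000000000000000000000000000000000000000000000000000000000000000000000000000000000000000000000000000000000000000000000000000000000001000001000000000001000000000001000001000001000001000001000001000001000001000000000001000001000000000001000001000001000001000001000001000001000001000000000000000000000000000000000000000000000000000000000000000000000000000000000000))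
 (.leaf (nat_lit 0xc00000b00000000000c00000c00000b00000c00000b00000c00000b00000b00000b00000b00000b00000c01000b00000000000c01000b00000c01000b00000c01000b00000c01000304000b00000104000000000000000000000000000000000000000000000000000000000000000000000000000000000000000000000000000000000000000000000000000000000000000000000000000000000000000000000000000000000000000000000000000000000000000000000000000000000000000000000000000000000000000000000000000000000000000000000000000000000000000000000000000000000000000000000000000000000000000000000000000000000000000000000000000000000000000000000000000000000000000000000000000000000000000000000000000000000000000000000000000000000000000000000000000000000000000000000000000000000000000000000000000000000000000b00000c01000c01000b00000000000c01000b00000000000c01000000000c01000c01000104000b00000c00000c00000c00000000000000000b0000000000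0c00000c00000c00000000000b00000b00000000000000000000000000000000000000000000000000000000000000000000000000000000000000000000000000000000000000000000000000000000000000000000000000000000000000000000000000000000000000000000000000000000000000000000000000000000000000000000000000000000000000000000000000000000000000000000000000000000000000000000000000000000000000000000000000000000000000000000000000000000000000000000000000000000000000000000000000000000000000000000000000000000000000000000000000000000000000000000000000000000000000000000000000000000000000000000000000000000000000000000000000000000000000000000000b00000304000000000b00000c02000104000b00000000000000000b00000b00000000000c02000b00000b00000b00000c02000b00000b00000000000c02000304000c02000b00000000000000000b00000000000000000000000000000000000000000000000000000000000000000000000000000000))))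
 (.node (nat_lit 4) (.leaf (nat_lit 0xb01000b01000000000000000b01000000000b01000301000b01000b01000301000b01000b01000000000b01000b01000000000b01000b01000b01000000000b01000b01000101000b01000b01000000000000000000000000000000000000000000000000000000000000000000000000000000000000000000000000000000000000000000000000000000000000000000000000000000000000000000000000000000000000000000000000000000000000000000000000000000000000000000000000000000000000000000000000000000000000000000000000000000000000000000000000000000000000000000000000000000000000000000000000000000000000000000000000000000000000000000000000000000000000000000000000000000000000000000000000000000000000000000000000000000000000000000000000000000000000000000000000000000000000000000000000000000000000000b01000901000000000b01000b01000301000301000b01000000000b01000000000000000301000b01000b01000b01000b01000b01000b010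00b01000b01000301000000000904000b01000b01000b01000000000000000000000000000000000000000000000000000000000000000000000000000000000000000000000000000000000000000000000000000000000000000000000000000000000000000000000000000000000000000000000000000000000000000000000000000000000000000000000000000000000000000000000000000000000000000000000000000000000000000000000000000000000000000000000000000000000000000000000000000000000000000000000000000000000000000000000000000000000000000000000000000000000000000000000000000000000000000000000000000000000000000000000000000000000000000000000000000000000000000000000000000000000000000000000b01000b01000b01000b01000000000b01000301000b01000301000b01000b01000b01000000000b01000301000301000301000b01000b01000b01000000000000000000000906000b01000b01000b01000000000000000000000000000000000000000000000000000000000000000000000000000000))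
 (.node (nat_lit 5) (.leaf (nat_lit 0xf00000000000f00001000000303001000000f00001001000000001001000f00001000000f00001000000f00000000001000001001000f00001001001000000303001000000f00000000000f00000000000000000000000000000000000000000000000000000000000000000000000000000000000000000000000000000000000000000000000000000000000000000000000000000000000000000000000000000000000000000000000000000000000000000000000000000000000000000000000000000000000000000000000000000000000000000000000000000000000000000000000000000000000000000000000000000000000000000000000000000000000000000000000000000000000000000000000000000000000000000000000000000000000000000000000000000000000000000000000000000000000000000000000000000000000000000000000000000000000000000000000000000000000000000000001000001000000f00000f00000f00000601000f00000303000f00001002001002000603000f00000f00000000000f000010010010010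00601000f00001000000f00000f00000000000f00001001000f00000000000000000000000000000000000000000000000000000000000000000000000000000000000000000000000000000000000000000000000000000000000000000000000000000000000000000000000000000000000000000000000000000000000000000000000000000000000000000000000000000000000000000000000000000000000000000000000000000000000000000000000000000000000000000000000000000000000000000000000000000000000000000000000000000000000000000000000000000000000000000000000000000000000000000000000000000000000000000000000000000000000000000000000000000000000000000000000000000000000000000000000000000000000000000000000603000105000f00000f00001002001002000000000f00000f00001001000000000f00001001000f00001002001002000f00000105001002001001000303000105000303000f00000303000605000f00000000000000000000000000000000000000000000000000000000000000000000000000000000))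
 (.leaf (nat_lit 0xf01000f01000f01000f01000f01000000000f01000000000f01000401000f01000000000103000000000f01000f01000103000103000f01000000000f01000f01000f01000f01000f01000f01000f01000000000000000000000000000000000000000000000000000000000000000000000000000000000000000000000000000000000000000000000000000000000000000000000000000000000000000000000000000000000000000000000000000000000000000000000000000000000000000000000000000000000000000000000000000000000000000000000000000000000000000000000000000000000000000000000000000000000000000000000000000000000000000000000000000000000000000000000000000000000000000000000000000000000000000000000000000000000000000000000000000000000000000000000000000000000000000000000000000000000000000000000000000000000000000000000000000f01000f01000905000305000f01000f01000f01000403000403000403000403000f01000401000401000401000f01000f01000f01000f0100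0f01000305000f01000f01000000000401000000000000000000000000000000000000000000000000000000000000000000000000000000000000000000000000000000000000000000000000000000000000000000000000000000000000000000000000000000000000000000000000000000000000000000000000000000000000000000000000000000000000000000000000000000000000000000000000000000000000000000000000000000000000000000000000000000000000000000000000000000000000000000000000000000000000000000000000000000000000000000000000000000000000000000000000000000000000000000000000000000000000000000000000000000000000000000000000000000000000000000000000000000000000000000000f01000f01000f01000f01000103000405000f01000f01000f01000f01000f01000f01000f01000f01000305000000000f01000f01000000000f01000305000305000f01000f01000f01000405000f01000000000000000000000000000000000000000000000000000000000000000000000000000000)))))⟩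
noncomputable def y3L2 : Lev := ⟨(nat_lit 4), (nat_lit 2), (nat_lit 0x100000000000000000000000000000000000000000000000000000000000000000000000000000000000000000000000000000000000000000000000000000000000000000000000000000000000000000000000000000000000000000000000000000000000000000000000000000002000000000000000000000000000000000000000000000000000000000000000000000000000000000000000000000000000000000000000000000000000000000000000000000000000000000000000000000000000000000000000000000000000000000000000000000000000000000000000000000000000000000000000000000000), (nat_lit 0x100000000000000000000000000000000000000000000000000000000000000000000000000000000000000000000000000000000000000000000000000000000000000000000000000000000000000000000000000000000000000000000000000000000000000000000000000000001000000000000000000000000000000000000000000000000000000000000000000000000000000000000000000000000000000000000000000000000000000000000000000000000000000000000000000000000000000000000000000000000000000000000000000000000000000000000000000000000000000000000000000000000),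
 (.node (nat_lit 1) (.leaf (nat_lit 0x2000000000000000000000000000000000000000000000000000000000000000000000000000000000000000000000000000000000000000000000000000000000000000000000000000000000000000000000000000000000000000000000000000000000000000000000000000000000000000000000000000000000000000000000000000000000000000000000000000000000000000000000000000000000000000000000000000000000000000000000000000000000000000000000000000000000000000000000000000000000000000000000000000000000000000000000000000000000000000000000000000000000000000000000000000000010000000000000000))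
 (.leaf (nat_lit 0x30000000000000000000000000000000000000000000000000000000000000000000000000000000000000000000000000000000000000000000000000000000000000000000000000000000000000000000000000000000000000000000000000000000000000000000000000000000000000000000000000000000000000000000000000000000000000000000000000000000000000000000000000000000000000000000000000000000000000000000000000000000000000000000000000000000000000000000000000000000000000000000000000000000000000000000000000000000000000000000000000000000000000000000000000000000000000000000000000000000000000000000000000000000000000000000000000000000000000000000000000000000000000000000000000000000000000000000000000000000000000000000000000000000000000000000000000000000000000000000000000000000000000000000000000000000000000000000000000000000000000000000000000000000000000000000000000000000000000000000000000000000000000000000000000000000000000000000000000000000000000000000000000000000000000000000000000000000000000000000000010000000000000000))),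
 (.node (nat_lit 1) (.leaf (nat_lit 0x501000000000000000000000000000000000000000000000000000000000000000000000000000000000000000000000000000000000000000000000000000000000000000000000000000000000000000000000000000000000000000000000000000000000000000000000000000000000000000000000000000000000000000000000000000000000000000000000000000000000000000000000000000000000000000000000000000000000000000000000000000000000000000000000000000000000000000000000000000000000000000000000000000000000000000000000000000000000000000000000000000000000000000000000000000000000000000000000000000000000000000000000000000000000000000000000000000000000000000000000000000000000000000000000000000000000000000000000000000000000000000000000000000000000000000000000000000000000000000000000000000000000000000000000000000000000000000000000000000000000000000000000000))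
 (.leaf (nat_lit 0x10000000000000000000000000000000000000000000000000000000000000000000000000000000000000000000000000000000000000000000000000000000000000000000000000000000000000000000000000000000000000000000000000000000000000000000000000000000000000000000000000000000000000000000000000000000000000000000000000000000000000000000000000000000000000000000000000000000000000000000000000000000000000000000000000000000000000000000000000000000000000000000000000000000000000000000000000000000000000000000000000000000000000000000000000000000000000000000000000000000000000000000000000000000000000000000000000000000000000000000000000000000000000000000000000000000000000000000000000000000000000000000000000000000000000000000000000000000000000000000000000000000000000000000000000000000000000000000000000000000000000000000000000000000000000000000000000000000000000000000000000000000000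00000000000000000000000000000000000000000000000000000000000000000000000000000000000000000000000000000000000000000000000000000000000000000000000000000000000000000000000000000000000000000000000000000000000000000000000000000000000000000000000000000000000000000000000000000000000000000000000000000000000000000000000000000000000000000000000000000000000000000000000000000000000000000000000000000000000000000000000000000000000000000000000000000000000000000000000000000000000000000000000000000000000000000000000000000000000000000000000000000000000000000000000000000000000000000000000000000000000001000000000000000000000000)))⟩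
noncomputable def y3L : List Lev := [y3L0, y3L1, y3L2]
noncomputable def y3E : Tr (List ℕ) := (.node (nat_lit 4) (.node (nat_lit 2) (.node (nat_lit 1) (.leaf [nat_lit 6, nat_lit 3, nat_lit 4, nat_lit 7, nat_lit 4, nat_lit 2, nat_lit 6, nat_lit 3, nat_lit 4, nat_lit 0]) (.leaf [nat_lit 7, nat_lit 3, nat_lit 4, nat_lit 7, nat_lit 3, nat_lit 4, nat_lit 6, nat_lit 2, nat_lit 4, nat_lit 3, nat_lit 1])) (.node (nat_lit 3) (.leaf [nat_lit 7, nat_lit 5, nat_lit 7, nat_lit 4, nat_lit 3, nat_lit 3, nat_lit 6, nat_lit 5, nat_lit 4, nat_lit 3, nat_lit 1]) (.leaf [nat_lit 5, nat_lit 7, nat_lit 5, nat_lit 7, nat_lit 4, nat_lit 3, nat_lit 3, nat_lit 6, nat_lit 4, nat_lit 2, nat_lit 1])))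
 (.node (nat_lit 6) (.node (nat_lit 5) (.leaf [nat_lit 7, nat_lit 4, nat_lit 3, nat_lit 3, nat_lit 6]) (.leaf [nat_lit 4, nat_lit 7, nat_lit 4, nat_lit 3, nat_lit 3, nat_lit 6, nat_lit 4])) (.node (nat_lit 7) (.leaf [nat_lit 7, nat_lit 5, nat_lit 8, nat_lit 0, nat_lit 8, nat_lit 6, nat_lit 2, nat_lit 4, nat_lit 7, nat_lit 5, nat_lit 6, nat_lit 5, nat_lit 4, nat_lit 1]) (.leaf [nat_lit 8, nat_lit 5, nat_lit 8, nat_lit 7, nat_lit 0, nat_lit 7, nat_lit 4, nat_lit 3, nat_lit 3, nat_lit 6, nat_lit 2, nat_lit 0]))))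
theorem y3w_0 : y3T.all2 (fun c w => isProd 364 (nat_lit 9) (nat_lit 511) O73.T c w) y3E = true := by decide +kernel
theorem y3w : y3T.all2 (fun c w => isProd 364 (nat_lit 9) (nat_lit 511) O73.T c w) y3E = true := y3w_0
theorem y3lev0 : levChk 364 (nat_lit 9) (nat_lit 511) y3T y3R y3L0 y3L1.N = true := by decide +kernel
theorem y3lev1 : levChk 364 (nat_lit 9) (nat_lit 511) y3T y3R y3L1 y3L2.N = true := by decide +kernel
theorem y3lev2 : levChk 364 (nat_lit 9) (nat_lit 511) y3T y3R y3L2 0 = true := by decide +kernel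
theorem y3chain : Chain 364 (nat_lit 9) (nat_lit 511) y3T y3R y3L := chain_cons y3lev0 <| chain_cons y3lev1 <| chain_one y3lev2
theorem y3sd : band (selChk y3T y3T (topN y3L)) (y3R.all fun w => eqB (O73.L.map Lev.b) (apL (nat_lit 9) (nat_lit 511) y3T w) fun a => a) = true := by decide +kernel
theorem y3tc : tchainChk 364 (nat_lit 9) (nat_lit 511) y3T y3L = true := by decide +kernel
noncomputable def k3z0 : ℕ := (nat_lit 0xaf36a0c4d49a1c2cbb4f1de7733b028480b708b9d1d006388ea72e25504dcce663350885573ccf27aa35168f203554a850c4b1e11aea1059c84db74cd2023faf84d126ba0270e2dc611425a0892c9e4ca5531edec7c198d06aa95438d2e628cb282e0f82c4de0bca89b17b2f37ce60f5a0e19a245f9f0f990b07c3e5eefc7dbe8040300a8da6d1183bec8c11c4fcbd18ac8603ab68423c8ce259b244b66994386c9f62041286452355a8d6148a0a20a05a00fc7f539d9c935222c5873832a422212b2c357c69788ddc2720f2d5d0458d4103f58a5abcb65d2e218ae582c8100a0990c8ad6709612d15541237536958bbb832439d5a2bb2b31bac7ab413220989d700c8ac558f47e3b50a7d39a544510c45f031dc5842b8ad9d2524f3443d80de0a122210b6c5a58a67733b20475590880e06060b5971b8e5329b2867b41e80e501052531b1d5475437291d19576cc2836919b1867b56b105574f21ca690283412aa914aa49685c2a160adea7d4589d72991e3b4c161635726f0927455313c0d2fc93306f9b4e76a06caa28ad29949ae54562ae49237fbf9fa00)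
noncomputable def k3z1 : ℕ := (nat_lit 0x9b89c92ed4c56e1ede1d99c830b5943a84e962080d2b599c12a26321c65680b05020f6f66953a9f50a3d1a8a585d9160d5e99431c4b3081b194eb89a4607561c83679155fcc1cca023d8e86307e3e9f6351a355a8d657aba960504a39c84008d4e5c95b592c312d84501609b33110ed6588a858734098e1b88fa6d31542d2d0b9ea7d7a3f95aab295849c734ccd9b2b80a9a0ea2262c411b5232108ee1f70a1dd09713132d13a19a9948a58f4763e2f18bccf27a0224db4370b5613f66231e01ef04eb8d750a94884c26db54518d5598839ca8c68b4df2f87b9f0522828c8243222c95e822373d525f179f1c0386b80d656d129cb21dc6f12195630d610fcbc89b20300e0665c6e38cf684a158fd7f950a68b6f8f2b89a605889e740a121d8d8b3ba92c6a3958234be4f4ac7a177022150a754c94ac322aa8d44cc66b38b93b0f135e2c94a36c6c2531416babc8b4f5e41b0d18173099540aae3a495a4020301511007e3fc9a4e8642a10b65d5b928dd00963757a192f9c582ef8c22ab5071f04a70909ab1d38500ed7e7e2ca4525054a158a9028391b5e4800)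
noncomputable def k3z2 : ℕ := (nat_lit 0x27bb8bf0e9939a3134264525444789411f318818a586823234ca4945cce354ea853d4ca454526914aa3d1a8aabb10918810112c98213b431acb530f0e0eae582b76073d4f90a830d1e368e42f93c9a4ad368a0506822e16cbafe7fa687339839e1c54338a5cdaa1204eeb20e5e320321b5c59aa4b1ae5a82cbe6b355a8fc7dbe8582b154890c842a0ed366f6dc0a809c21cea78983741ac957ae83d7b5410d5ace120d586bcb56946e38cb148a0a231181e9e6797ec3de466893a8912d8cbae609073914bc9233a21e11748ca4d48e9a9390e6953aa4180703294020201824080556ab2b6b012da58a18afd444c0d6388d76dc8442c743d719c1bc969c265be7782158aa323e1eded2867b410b219014ca4155d56967550a2d82eb45cafc23589fb61406c4ac28e9421b1d8e7374f38466341a969f2f77c3d4facd6733246d91f4fa1841808fdc09d84b92003761076c6ca0e5ad802064add8627b007e3d1f8ebd0fc7f400b85a592b96248d79b22a5e64461ad132b319825c4a49bbc8eec8992e2c6174a5222ed8a935d0a30402e9a0a5151298aa57d2d5c00)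
noncomputable def k3z3 : ℕ := (nat_lit 0xb21b233311137c94b15f43992154dcd423141e418c6dc46314e846b3cb27d49a55223f1d1902c100aa3d1a8afeacb8c8f694c1391cc30fbaac50a1f31d32609dbac7ec1242c975031045cdf287d3edf807062a54ea82c164af239207681052624aaa7373ad4c95b1cce6cb301b90d10b64e39828dea925097076934da22e1696948a652abe412229a3c1ee0505a8811174059b73227d68dcb96d3c65626449c616680850aa912031445029a228d44d0679e4f4f36bbbc30bc4b8e97f4134d82190fab091420d769dd275d80941b13d9490ad65f2b155a8d56b479e8f53e96cba5c7fbf4bcca7286a6f0032c6abc789b06d60127222d8c9e22ad268758b25acc1997a0d02820080c04803f9fa434b57148a93f9698aaf15ae08e084d59a7c76ee2209e79581e9aebeeca18846c8d4aaf5eef97c49d554da63d8f6ce66335570889d441d2a5bc34e48762365e4669c4b8dabbb4274271020a45806a6e870542b161f0623017c964c09020155aac1c3c02f6324d4cece19989534614524213610f4e9851833c0970e9711c1911ca7d3867508db2c6a34422150c00)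
noncomputable def k3z4 : ℕ := (nat_lit 0x9e38dc53e724e1b0d96db85c1406f4052a9782261349c862793f09502860f4ea853d554da5d2a9348a35168ea24a241249187a2d0e8844c5e2a8c8cafaaac060b0d895dae316acc66432ab0d093c9a4b236bc8245218f4763f1c8dd917aba5caed78b458586d3675aaddcce774ccdd73676cd1dcef78cc9e5317fbf9fafa7e3edf0f77c9edeaf43d579855aadafea352aa54d8f59abb261d10454451f1289a4e291647462348d92351acd569345a6cf943399acc65a6e1a9985a752d008140e150682c226f396e36a753b72cf67edda0d0a86df57ab958ab56d314ea9542994aa4a228dd8ea9acb65929953a256f097cba60b1afacec0b2b158ecb66b45a9716b5b2110c854120506803f9f8faf63e1e5e64a35920d44531178c2602719cc6660d8443a1e1006844230c8902c2613854b65d2e0b8ae592c0c8ac522a14c52210f85c301c068381e101284826142f9108c4734124964c349909a4f2819466351a1545e31180b4b42a160ac5051219c080731d0d86e6e1c0fc763c3b9b0da39379c4e4423a104ea761f1e07a0705020120b030300a04010040600)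
noncomputable def k3z5 : ℕ := (nat_lit 0x602faa2c1aa3218d5765312bcc3628482616128541c11078402e210d064314fa75429b4ca5d26914aa35168f444ba553102504293f0650a7134994f1909c673297cc445309809068359a4d52892c9e4d236bc8a43208f4763ecb8e39e5ae694ba5d0f177bc9daeb753b8783e1e8d86e3a1c9b870402110c82737f3f5fefc7dbe9eef97c3d8faf53c918885e2393c9a6328198964a249320b098441e01018225a070b4dc36189d92359aad469345a6d067b319ccd8d874381b068784c241385044200f88ead5963b26b1525fd56a6c2ad576b95b57ab956ad562a94ea9542914ca551a88da6c379d87e751d9e0ee72389c0e92f973c2653098caa592b99cd9d9349aa190a8440a0d047f3f201e87c3dbccf5399c4de754270d0686de9ecf2773f4645d1c8d4443d168a44a3d289348a48b65d2e0b4b0572c958aa542994853108721e23188b456351989c492114a0375c0df6c365b8da6db8dc4e5724f866351a0c8602f189685c2c158a85051b057d6162b55a2cf6b5bd96c6bab32d571695b2c566b45958572bdb22f17606058280a080601c0809010040600)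
noncomputable def k3z6 : ℕ := (nat_lit 0x8a84809073cbacb53373920044639ce6f5cb5139da3c0d5844e4945a65becd673310c84a59e9e679a3d1a8b2145091366f1f4f9dc5f5856a73073311ceae5abd8e6310858e9b0a007248ce0893c9a4aa6521f0f6f6198d06aa754c047f189a062beb638cb4d6c109d0180686f428e81b5c246531681cf443567cbddf0fc7dbe8020201a89a6d118922aa14a1c0918ec112cad2c520b9a2e95640657b5425cbdba700e5ae591252b59aad4148a0a20a059f8fe80544f130608ab181b098a4aa60b95f9b42511255061b385bb0cca8e9a9d9622357ab8b85b2ea14b2572c024080591482b6d927c3de4155d268723b9b186c4dc843083a504797a7f59b23bd12384e158aa328f47e3b4ea853da4a3a20bc6078713a966c40836cc894874c84b0c5e221e06c82d741f13319887ae3652d018070316a371c65d35552867b41e96821cea564ca8899c09d4bc65d6174f90acee9232352c2064d9aa46aa10d90283415329348a50b85a2c158a9ea7d78aed7c379d91635580f87a0c7249cccef04b00590e694f385b55e5a935d0ab2994a485456ab246d77f3f5fe00)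
noncomputable def k3Z : Tr ℕ := (.node (nat_lit 3) (.node (nat_lit 1) (.leaf k3z0) (.node (nat_lit 2) (.leaf k3z1) (.leaf k3z2)))
 (.node (nat_lit 5) (.node (nat_lit 4) (.leaf k3z3) (.leaf k3z4)) (.node (nat_lit 6) (.leaf k3z5) (.leaf k3z6))))
noncomputable def k3W : Tr (ℕ × List ℕ) := (.node (nat_lit 0x562aa3a7bd6cb44) (.node (nat_lit 0x2bed185a93a0ac8) (.node (nat_lit 0x14cfeddb74101f8) (.node (nat_lit 0x30449715631c78) (.node (nat_lit 0x22b6f7d687e030) (.node (nat_lit 0x20ef1f5f79f388) (.node (nat_lit 0x150f91f63ce988) (.node (nat_lit 0xe22fb6a3988b4) (.node (nat_lit 0xb5df0328e55f8) (.node (nat_lit 0x8d8d6d3b697a4) (.node (nat_lit 0x8b02abfed0448) (.node (nat_lit 0x89eb736d039a4) (.leaf ((nat_lit 6), [nat_lit 8, nat_lit 3, nat_lit 6, nat_lit 9, nat_lit 7, nat_lit 1, nat_lit 8, nat_lit 7, nat_lit 5, nat_lit 0, nat_lit 7, nat_lit 2, nat_lit 4, nat_lit 6, nat_lit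 3])) (.leaf ((nat_lit 2), [nat_lit 5, nat_lit 2, nat_lit 8, nat_lit 5, nat_lit 7, nat_lit 2, nat_lit 2, nat_lit 6, nat_lit 5, nat_lit 3, nat_lit 3, nat_lit 3, nat_lit 0]))) (.node (nat_lit 0x8c76358ff652c) (.leaf ((nat_lit 1), [nat_lit 0, nat_lit 7, nat_lit 0, nat_lit 9, nat_lit 1, nat_lit 9, nat_lit 2, nat_lit 6, nat_lit 1, nat_lit 8, nat_lit 1, nat_lit 7, nat_lit 5, nat_lit 6, nat_lit 3, nat_lit 1])) (.leaf ((nat_lit 0), [nat_lit 7, nat_lit 1, nat_lit 7, nat_lit 8, nat_lit 5, nat_lit 7, nat_lit 5, nat_lit 4, nat_lit 3, nat_lit 3, nat_lit 0]))))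
 (.node (nat_lit 0x901882039f808) (.node (nat_lit 0x8f01066e315ec) (.leaf ((nat_lit 0), [nat_lit 6, nat_lit 8, nat_lit 7, nat_lit 3, nat_lit 4, nat_lit 7, nat_lit 3, nat_lit 3, nat_lit 6, nat_lit 2, nat_lit 2])) (.leaf ((nat_lit 3), [nat_lit 0, nat_lit 7, nat_lit 0, nat_lit 9, nat_lit 1, nat_lit 9, nat_lit 7, nat_lit 5, nat_lit 6, nat_lit 8, nat_lit 3, nat_lit 6, nat_lit 1, nat_lit 7, nat_lit 6, nat_lit 5]))) (.node (nat_lit 0x9074fb9dd0bec) (.leaf ((nat_lit 1), [nat_lit 2, nat_lit 7, nat_lit 9, nat_lit 5, nat_lit 9, nat_lit 2, nat_lit 7, nat_lit 8, nat_lit 7, nat_lit 1, nat_lit 7, nat_lit 3, nat_lit 3, nat_lit 6, nat_lit 5, nat_lit 2, nat_lit 4])) (.node (nat_lit 0x92a343123a2a4) (.leaf ((nat_lit 2), [nat_lit 4, nat_lit 0, nat_lit 7, nat_lit 8, nat_lit 7, nat_lit 5, nat_lit 1, nat_lit 7, nat_lit 3, nat_lit 3, nat_lit 6, nat_lit 3, nat_lit 3, nat_lit 3])) (.leaf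 ((nat_lit 3), [nat_lit 2, nat_lit 7, nat_lit 9, nat_lit 5, nat_lit 9, nat_lit 4, nat_lit 7, nat_lit 6, nat_lit 8, nat_lit 0, nat_lit 7, nat_lit 6, nat_lit 4, nat_lit 3, nat_lit 6, nat_lit 2, nat_lit 4]))))))
 (.node (nat_lit 0xbb51bc3e7084c) (.node (nat_lit 0xb80d33706b05c) (.node (nat_lit 0xb63bd21a84e84) (.leaf ((nat_lit 3), [nat_lit 6, nat_lit 9, nat_lit 2, nat_lit 1, nat_lit 9, nat_lit 5, nat_lit 8, nat_lit 0, nat_lit 8, nat_lit 7, nat_lit 3, nat_lit 4, nat_lit 6, nat_lit 3, nat_lit 3, nat_lit 1])) (.leaf ((nat_lit 6), [nat_lit 6, nat_lit 5, nat_lit 3, nat_lit 9, nat_lit 5, nat_lit 8, nat_lit 1, nat_lit 8, nat_lit 3, nat_lit 4, nat_lit 7, nat_lit 5, nat_lit 3, nat_lit 6, nat_lit 1]))) (.node (nat_lit 0xb923a6ea72084) (.leaf ((nat_lit 3), [nat_lit 0, nat_lit 7, nat_lit 0, nat_lit 9, nat_lit 1, nat_lit 9, nat_lit 8, nat_lit 5, nat_lit 7, nat_lit 8, nat_lit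 6, nat_lit 5, nat_lit 7, nat_lit 5, nat_lit 6, nat_lit 0])) (.node (nat_lit 0xba3b34774e95c) (.leaf ((nat_lit 1), [nat_lit 6, nat_lit 9, nat_lit 2, nat_lit 1, nat_lit 9, nat_lit 8, nat_lit 6, nat_lit 3, nat_lit 8, nat_lit 6, nat_lit 7, nat_lit 4, nat_lit 3, nat_lit 6, nat_lit 4, nat_lit 3, nat_lit 1])) (.leaf ((nat_lit 0), [nat_lit 7, nat_lit 0, nat_lit 8, nat_lit 7, nat_lit 1, nat_lit 7, nat_lit 2, nat_lit 6, nat_lit 3, nat_lit 0])))))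
 (.node (nat_lit 0xbcc5b1ca0cfcc) (.node (nat_lit 0xbc6873a272818) (.leaf ((nat_lit 6), [nat_lit 5, nat_lit 6, nat_lit 4, nat_lit 9, nat_lit 7, nat_lit 8, nat_lit 0, nat_lit 8, nat_lit 7, nat_lit 3, nat_lit 6, nat_lit 3, nat_lit 4])) (.leaf ((nat_lit 0), [nat_lit 6, nat_lit 8, nat_lit 5, nat_lit 7, nat_lit 5, nat_lit 7, nat_lit 6, nat_lit 4, nat_lit 3, nat_lit 6, nat_lit 3, nat_lit 1]))) (.node (nat_lit 0xbef3e35388bb4) (.leaf ((nat_lit 1), [nat_lit 6, nat_lit 9, nat_lit 2, nat_lit 1, nat_lit 9, nat_lit 1, nat_lit 8, nat_lit 1, nat_lit 8, nat_lit 5, nat_lit 7, nat_lit 2, nat_lit 4, nat_lit 3, nat_lit 6, nat_lit 5, nat_lit 2, nat_lit 4])) (.node (nat_lit 0xe1d2393ddd098) (.leaf ((nat_lit 0), [nat_lit 4, nat_lit 3, nat_lit 8, nat_lit 6, nat_lit 3, nat_lit 3, nat_lit 6, nat_lit 5])) (.leaf ((nat_lit 2), [nat_lit 9, nat_lit 4, nat_lit 6, nat_lit 9, nat_lit 8, nat_lit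 2, nat_lit 5, nat_lit 8, nat_lit 4, nat_lit 7, nat_lit 6, nat_lit 2, nat_lit 2])))))))
 (.node (nat_lit 0x124a8282d80204) (.node (nat_lit 0xe7ff5d63699b8) (.node (nat_lit 0xe4ba6336d898c) (.node (nat_lit 0xe3a3284f7fdd8) (.leaf ((nat_lit 3), [nat_lit 2, nat_lit 7, nat_lit 9, nat_lit 5, nat_lit 9, nat_lit 1, nat_lit 7, nat_lit 8, nat_lit 5, nat_lit 4, nat_lit 7, nat_lit 6, nat_lit 2, nat_lit 2])) (.leaf ((nat_lit 3), [nat_lit 6, nat_lit 9, nat_lit 2, nat_lit 1, nat_lit 9, nat_lit 2, nat_lit 6, nat_lit 8, nat_lit 4, nat_lit 6, nat_lit 5, nat_lit 0]))) (.node (nat_lit 0xe5d19b10ab574) (.leaf ((nat_lit 1), [nat_lit 2, nat_lit 7, nat_lit 9, nat_lit 5, nat_lit 9, nat_lit 8, nat_lit 6, nat_lit 3, nat_lit 8, nat_lit 5, nat_lit 7, nat_lit 3, nat_lit 3, nat_lit 3, nat_lit 6, nat_lit 5])) (.node (nat_lit 0xe745b6b31391c) (.leaf ((nat_lit 2), [nat_lit 0, nat_lit 9, nat_lit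 1, nat_lit 9, nat_lit 2, nat_lit 8, nat_lit 6, nat_lit 5, nat_lit 0, nat_lit 7, nat_lit 2, nat_lit 2])) (.leaf ((nat_lit 2), [nat_lit 6, nat_lit 9, nat_lit 2, nat_lit 1, nat_lit 9, nat_lit 3, nat_lit 0, nat_lit 8, nat_lit 2, nat_lit 4, nat_lit 7, nat_lit 2, nat_lit 6, nat_lit 4, nat_lit 3])))))
 (.node (nat_lit 0xeae7171272f04) (.node (nat_lit 0xe916673e8fd38) (.leaf ((nat_lit 2), [nat_lit 0, nat_lit 9, nat_lit 0, nat_lit 9, nat_lit 0, nat_lit 8, nat_lit 6, nat_lit 1, nat_lit 8, nat_lit 5, nat_lit 7, nat_lit 5, nat_lit 6, nat_lit 4, nat_lit 2, nat_lit 2])) (.leaf ((nat_lit 0), [nat_lit 3, nat_lit 0, nat_lit 8, nat_lit 7, nat_lit 1, nat_lit 7, nat_lit 2, nat_lit 4, nat_lit 3, nat_lit 0]))) (.node (nat_lit 0x1227acd853a71c) (.leaf ((nat_lit 1), [nat_lit 6, nat_lit 9, nat_lit 2, nat_lit 1, nat_lit 9, nat_lit 3, nat_lit 5, nat_lit 6, nat_lit 8, nat_lit 3, nat_lit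 3, nat_lit 6, nat_lit 5, nat_lit 3, nat_lit 4, nat_lit 1])) (.node (nat_lit 0x123ee709951a38) (.leaf ((nat_lit 3), [nat_lit 6, nat_lit 9, nat_lit 2, nat_lit 1, nat_lit 9, nat_lit 8, nat_lit 1, nat_lit 8, nat_lit 4, nat_lit 7, nat_lit 4, nat_lit 6, nat_lit 2, nat_lit 4, nat_lit 3, nat_lit 1])) (.leaf ((nat_lit 1), [nat_lit 0, nat_lit 7, nat_lit 0, nat_lit 9, nat_lit 1, nat_lit 9, nat_lit 3, nat_lit 6, nat_lit 8, nat_lit 5, nat_lit 7, nat_lit 5, nat_lit 7, nat_lit 6, nat_lit 2, nat_lit 2, nat_lit 6]))))))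
 (.node (nat_lit 0x12e76e6e8b56c4) (.node (nat_lit 0x12ad4f3641cb04) (.node (nat_lit 0x1250566551a9b8) (.leaf ((nat_lit 3), [nat_lit 0, nat_lit 7, nat_lit 0, nat_lit 9, nat_lit 1, nat_lit 9, nat_lit 7, nat_lit 2, nat_lit 8, nat_lit 6, nat_lit 2, nat_lit 4, nat_lit 7, nat_lit 6, nat_lit 4, nat_lit 3, nat_lit 1])) (.leaf ((nat_lit 1), [nat_lit 6, nat_lit 9, nat_lit 2, nat_lit 1, nat_lit 9, nat_lit 7, nat_lit 5, nat_lit 0, nat_lit 8, nat_lit 2, nat_lit 4, nat_lit 7, nat_lit 2, nat_lit 6, nat_lit 5, nat_lit 2, nat_lit 4, nat_lit 2]))) (.node (nat_lit 0x12c49393eeed38) (.leaf ((nat_lit 2), [nat_lit 9, nat_lit 6, nat_lit 8, nat_lit 1, nat_lit 9, nat_lit 8, nat_lit 6, nat_lit 0, nat_lit 7, nat_lit 6, nat_lit 4, nat_lit 2, nat_lit 6, nat_lit 4, nat_lit 3])) (.node (nat_lit 0x12d60736eae69c) (.leaf ((nat_lit 6), [nat_lit 8, nat_lit 2, nat_lit 0, nat_lit 9, nat_lit 1,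 nat_lit 8, nat_lit 6, nat_lit 5, nat_lit 7, nat_lit 4, nat_lit 6, nat_lit 5, nat_lit 2, nat_lit 4])) (.leaf ((nat_lit 0), [nat_lit 7, nat_lit 0, nat_lit 8, nat_lit 2, nat_lit 4, nat_lit 3, nat_lit 6, nat_lit 5, nat_lit 0])))))
 (.node (nat_lit 0x14ecaa966bd46c) (.node (nat_lit 0x12f315368cb4dc) (.leaf ((nat_lit 0), [nat_lit 8, nat_lit 3, nat_lit 1, nat_lit 8, nat_lit 5, nat_lit 6, nat_lit 7, nat_lit 2, nat_lit 4, nat_lit 0])) (.leaf ((nat_lit 2), [nat_lit 0, nat_lit 9, nat_lit 0, nat_lit 9, nat_lit 7, nat_lit 5, nat_lit 6, nat_lit 8, nat_lit 7, nat_lit 5, nat_lit 1, nat_lit 7, nat_lit 5, nat_lit 6, nat_lit 5, nat_lit 3, nat_lit 6, nat_lit 3, nat_lit 0]))) (.node (nat_lit 0x14fe2238c37088) (.leaf ((nat_lit 6), [nat_lit 4, nat_lit 3, nat_lit 8, nat_lit 0, nat_lit 7, nat_lit 3, nat_lit 4, nat_lit 3, nat_lit 3, nat_lit 6, nat_lit 5, nat_lit 2, nat_lit 4, nat_lit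 2, nat_lit 0])) (.node (nat_lit 0x1509be169d19e4) (.leaf ((nat_lit 0), [nat_lit 3, nat_lit 6, nat_lit 3, nat_lit 8, nat_lit 7, nat_lit 5, nat_lit 7, nat_lit 6, nat_lit 3, nat_lit 4, nat_lit 6])) (.leaf ((nat_lit 0), [nat_lit 3, nat_lit 0, nat_lit 8, nat_lit 4, nat_lit 7, nat_lit 6, nat_lit 2, nat_lit 2, nat_lit 6]))))))))
 (.node (nat_lit 0x1b5969d6640f8c) (.node (nat_lit 0x18319369a50964) (.node (nat_lit 0x15ac7de1f03fb4) (.node (nat_lit 0x158996c71cfc98) (.node (nat_lit 0x1572616430a234) (.leaf ((nat_lit 3), [nat_lit 2, nat_lit 7, nat_lit 9, nat_lit 5, nat_lit 9, nat_lit 6, nat_lit 3, nat_lit 1, nat_lit 8, nat_lit 3, nat_lit 6, nat_lit 1, nat_lit 7, nat_lit 4, nat_lit 6, nat_lit 2, nat_lit 4])) (.leaf ((nat_lit 6), [nat_lit 9, nat_lit 3, nat_lit 9, nat_lit 8, nat_lit 1, nat_lit 8, nat_lit 6, nat_lit 5, nat_lit 0, nat_lit 7, nat_lit 4, nat_lit 3, nat_lit 6,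 nat_lit 4, nat_lit 0]))) (.node (nat_lit 0x159b0a6732fc8c) (.leaf ((nat_lit 3), [nat_lit 2, nat_lit 7, nat_lit 9, nat_lit 5, nat_lit 9, nat_lit 1, nat_lit 8, nat_lit 1, nat_lit 8, nat_lit 7, nat_lit 6, nat_lit 5, nat_lit 3, nat_lit 6, nat_lit 3, nat_lit 3, nat_lit 3])) (.node (nat_lit 0x15a6a787088a98) (.leaf ((nat_lit 3), [nat_lit 6, nat_lit 9, nat_lit 2, nat_lit 1, nat_lit 9, nat_lit 6, nat_lit 2, nat_lit 8, nat_lit 6, nat_lit 5, nat_lit 6, nat_lit 7, nat_lit 2, nat_lit 6])) (.leaf ((nat_lit 0), [nat_lit 7, nat_lit 5, nat_lit 8, nat_lit 1, nat_lit 8, nat_lit 5, nat_lit 7, nat_lit 5, nat_lit 1, nat_lit 7, nat_lit 5])))))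
 (.node (nat_lit 0x17bd54411bcb98) (.node (nat_lit 0x17abe8e1daf1cc) (.leaf ((nat_lit 1), [nat_lit 6, nat_lit 9, nat_lit 2, nat_lit 1, nat_lit 9, nat_lit 3, nat_lit 8, nat_lit 5, nat_lit 0, nat_lit 7, nat_lit 4, nat_lit 3, nat_lit 6, nat_lit 3, nat_lit 3, nat_lit 3])) (.leaf ((nat_lit 2), [nat_lit 8, nat_lit 0, nat_lit 9, nat_lit 1, nat_lit 9, nat_lit 0, nat_lit 7, nat_lit 8, nat_lit 2, nat_lit 4, nat_lit 7, nat_lit 4, nat_lit 6, nat_lit 0]))) (.node (nat_lit 0x17c329e407484c) (.leaf ((nat_lit 2), [nat_lit 8, nat_lit 2, nat_lit 5, nat_lit 8, nat_lit 7, nat_lit 5, nat_lit 7, nat_lit 3, nat_lit 3, nat_lit 6, nat_lit 5, nat_lit 2, nat_lit 4, nat_lit 1])) (.node (nat_lit 0x17d49bbdf1b6b4) (.leaf ((nat_lit 0), [nat_lit 4, nat_lit 3, nat_lit 8, nat_lit 4, nat_lit 0, nat_lit 7, nat_lit 3, nat_lit 3, nat_lit 6, nat_lit 2, nat_lit 1])) (.leaf ((nat_lit 1), [nat_lit 6,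 nat_lit 9, nat_lit 2, nat_lit 1, nat_lit 9, nat_lit 5, nat_lit 8, nat_lit 7, nat_lit 5, nat_lit 6, nat_lit 7, nat_lit 4, nat_lit 2, nat_lit 2, nat_lit 6, nat_lit 4, nat_lit 3, nat_lit 3, nat_lit 1]))))))
 (.node (nat_lit 0x1a13f24fc4a618) (.node (nat_lit 0x185a3dcb625fec) (.node (nat_lit 0x1848d66b833988) (.leaf ((nat_lit 3), [nat_lit 0, nat_lit 7, nat_lit 0, nat_lit 9, nat_lit 1, nat_lit 9, nat_lit 8, nat_lit 6, nat_lit 1, nat_lit 8, nat_lit 5, nat_lit 7, nat_lit 5, nat_lit 4, nat_lit 2, nat_lit 2, nat_lit 1])) (.leaf ((nat_lit 2), [nat_lit 9, nat_lit 4, nat_lit 6, nat_lit 9, nat_lit 8, nat_lit 5, nat_lit 2, nat_lit 8, nat_lit 6, nat_lit 1, nat_lit 7, nat_lit 6, nat_lit 4, nat_lit 2, nat_lit 6]))) (.node (nat_lit 0x1865e1771ae664) (.leaf ((nat_lit 1), [nat_lit 2, nat_lit 7, nat_lit 9, nat_lit 5, nat_lit 9, nat_lit 7, nat_lit 3, nat_lit 4, nat_lit 7, nat_lit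 6, nat_lit 5, nat_lit 3, nat_lit 1])) (.node (nat_lit 0x186bad88dbd8ec) (.leaf ((nat_lit 2), [nat_lit 6, nat_lit 9, nat_lit 2, nat_lit 1, nat_lit 9, nat_lit 5, nat_lit 1, nat_lit 8, nat_lit 0, nat_lit 7, nat_lit 2, nat_lit 6, nat_lit 4, nat_lit 3])) (.leaf ((nat_lit 1), [nat_lit 2, nat_lit 7, nat_lit 9, nat_lit 5, nat_lit 9, nat_lit 6, nat_lit 3, nat_lit 0, nat_lit 8, nat_lit 6, nat_lit 7, nat_lit 6, nat_lit 4, nat_lit 1])))))
 (.node (nat_lit 0x1a2b35c1b93acc) (.node (nat_lit 0x1a1f98236dc0b4) (.leaf ((nat_lit 6), [nat_lit 7, nat_lit 5, nat_lit 8, nat_lit 1, nat_lit 8, nat_lit 1, nat_lit 7, nat_lit 2, nat_lit 6, nat_lit 3, nat_lit 4, nat_lit 3, nat_lit 1])) (.leaf ((nat_lit 2), [nat_lit 3, nat_lit 3, nat_lit 9, nat_lit 0, nat_lit 9, nat_lit 2, nat_lit 7, nat_lit 8, nat_lit 6, nat_lit 5, nat_lit 7, nat_lit 6, nat_lit 4, nat_lit 2, nat_lit 6, nat_lit 2, nat_lit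 2, nat_lit 0]))) (.node (nat_lit 0x1a4e189b12f634) (.leaf ((nat_lit 0), [nat_lit 8, nat_lit 7, nat_lit 0, nat_lit 8, nat_lit 5, nat_lit 1, nat_lit 7, nat_lit 5, nat_lit 3, nat_lit 4])) (.node (nat_lit 0x1b422c74ba634c) (.leaf ((nat_lit 0), [nat_lit 6, nat_lit 8, nat_lit 1, nat_lit 8, nat_lit 7, nat_lit 6, nat_lit 3, nat_lit 4, nat_lit 6, nat_lit 3, nat_lit 3, nat_lit 0])) (.leaf ((nat_lit 3), [nat_lit 2, nat_lit 7, nat_lit 9, nat_lit 5, nat_lit 9, nat_lit 4, nat_lit 8, nat_lit 2, nat_lit 1, nat_lit 8, nat_lit 1, nat_lit 7, nat_lit 6, nat_lit 4, nat_lit 3, nat_lit 6, nat_lit 2, nat_lit 1])))))))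
 (.node (nat_lit 0x1e073675ef639c) (.node (nat_lit 0x1ce49e0e3fc4e4) (.node (nat_lit 0x1b7c4eb24d8934) (.node (nat_lit 0x1b70a6def49918) (.leaf ((nat_lit 2), [nat_lit 7, nat_lit 5, nat_lit 8, nat_lit 7, nat_lit 5, nat_lit 7, nat_lit 6, nat_lit 3, nat_lit 3, nat_lit 6, nat_lit 5, nat_lit 4, nat_lit 2])) (.leaf ((nat_lit 1), [nat_lit 2, nat_lit 7, nat_lit 9, nat_lit 5, nat_lit 9, nat_lit 8, nat_lit 4, nat_lit 6, nat_lit 8, nat_lit 0, nat_lit 7, nat_lit 6, nat_lit 2, nat_lit 4]))) (.node (nat_lit 0x1b82145d803c18) (.leaf ((nat_lit 3), [nat_lit 6, nat_lit 9, nat_lit 2, nat_lit 1, nat_lit 9, nat_lit 8, nat_lit 7, nat_lit 1, nat_lit 8, nat_lit 6, nat_lit 1, nat_lit 7, nat_lit 6, nat_lit 4, nat_lit 2, nat_lit 6, nat_lit 1])) (.node (nat_lit 0x1cd901c60977c8) (.leaf ((nat_lit 1), [nat_lit 2, nat_lit 7, nat_lit 9, nat_lit 5, nat_lit 9, nat_lit 5, nat_lit 8, nat_lit 2,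 nat_lit 1, nat_lit 8, nat_lit 4, nat_lit 7, nat_lit 5, nat_lit 3, nat_lit 4, nat_lit 1])) (.leaf ((nat_lit 3), [nat_lit 0, nat_lit 7, nat_lit 0, nat_lit 9, nat_lit 1, nat_lit 9, nat_lit 5, nat_lit 7, nat_lit 5, nat_lit 7, nat_lit 5, nat_lit 6, nat_lit 5, nat_lit 2, nat_lit 0])))))
 (.node (nat_lit 0x1cf611a89c0408) (.node (nat_lit 0x1cea6925e89e2c) (.leaf ((nat_lit 6), [nat_lit 0, nat_lit 9, nat_lit 0, nat_lit 9, nat_lit 8, nat_lit 5, nat_lit 8, nat_lit 7, nat_lit 5, nat_lit 6, nat_lit 7, nat_lit 6, nat_lit 2, nat_lit 4, nat_lit 6, nat_lit 3, nat_lit 0])) (.leaf ((nat_lit 3), [nat_lit 2, nat_lit 7, nat_lit 9, nat_lit 5, nat_lit 9, nat_lit 4, nat_lit 3, nat_lit 8, nat_lit 6, nat_lit 3, nat_lit 3, nat_lit 6, nat_lit 5, nat_lit 4, nat_lit 2, nat_lit 2, nat_lit 0]))) (.node (nat_lit 0x1d0778ee9bfbac) (.leaf ((nat_lit 0), [nat_lit 7, nat_lit 8, nat_lit 6, nat_lit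 3, nat_lit 8, nat_lit 6, nat_lit 3, nat_lit 4, nat_lit 7, nat_lit 2, nat_lit 0])) (.node (nat_lit 0x1d18eba01989a4) (.leaf ((nat_lit 0), [nat_lit 7, nat_lit 1, nat_lit 7, nat_lit 8, nat_lit 5, nat_lit 6, nat_lit 3, nat_lit 3, nat_lit 3, nat_lit 1])) (.leaf ((nat_lit 1), [nat_lit 2, nat_lit 7, nat_lit 9, nat_lit 5, nat_lit 9, nat_lit 5, nat_lit 6, nat_lit 7, nat_lit 6, nat_lit 4, nat_lit 2, nat_lit 6, nat_lit 2, nat_lit 2]))))))
 (.node (nat_lit 0x1fa3d013ba3cc4) (.node (nat_lit 0x1e35b05be7b638) (.node (nat_lit 0x1e1e75308e29dc) (.leaf ((nat_lit 6), [nat_lit 6, nat_lit 8, nat_lit 7, nat_lit 5, nat_lit 1, nat_lit 7, nat_lit 3, nat_lit 3, nat_lit 6, nat_lit 4])) (.leaf ((nat_lit 1), [nat_lit 0, nat_lit 7, nat_lit 0, nat_lit 9, nat_lit 1, nat_lit 9, nat_lit 7, nat_lit 5, nat_lit 8, nat_lit 7, nat_lit 4, nat_lit 2, nat_lit 6, nat_lit 5, nat_lit 2, nat_lit 2]))) (.node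 (nat_lit 0x1e471b9b898fc4) (.leaf ((nat_lit 0), [nat_lit 2, nat_lit 7, nat_lit 6, nat_lit 8, nat_lit 2, nat_lit 4, nat_lit 7, nat_lit 2, nat_lit 4, nat_lit 6, nat_lit 5, nat_lit 2, nat_lit 1])) (.node (nat_lit 0x1f98352752e1b8) (.leaf ((nat_lit 0), [nat_lit 4, nat_lit 3, nat_lit 8, nat_lit 7, nat_lit 0, nat_lit 7, nat_lit 3, nat_lit 4, nat_lit 6, nat_lit 5, nat_lit 4])) (.leaf ((nat_lit 2), [nat_lit 8, nat_lit 0, nat_lit 9, nat_lit 1, nat_lit 9, nat_lit 6, nat_lit 7, nat_lit 6, nat_lit 4, nat_lit 3, nat_lit 6, nat_lit 4, nat_lit 3, nat_lit 3, nat_lit 1])))))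
 (.node (nat_lit 0x1fb543ab308278) (.node (nat_lit 0x1fa9a8ca4edb1c) (.leaf ((nat_lit 3), [nat_lit 6, nat_lit 9, nat_lit 2, nat_lit 1, nat_lit 9, nat_lit 3, nat_lit 5, nat_lit 8, nat_lit 4, nat_lit 7, nat_lit 6, nat_lit 5, nat_lit 4, nat_lit 3, nat_lit 3, nat_lit 1])) (.leaf ((nat_lit 1), [nat_lit 6, nat_lit 9, nat_lit 2, nat_lit 1, nat_lit 9, nat_lit 6, nat_lit 2, nat_lit 8, nat_lit 3, nat_lit 4, nat_lit 7, nat_lit 3, nat_lit 6, nat_lit 5, nat_lit 4, nat_lit 3, nat_lit 0]))) (.node (nat_lit 0x1fd81f01690444) (.leaf ((nat_lit 3), [nat_lit 0, nat_lit 7, nat_lit 0, nat_lit 9, nat_lit 1, nat_lit 9, nat_lit 5, nat_lit 0, nat_lit 8, nat_lit 6, nat_lit 1, nat_lit 7, nat_lit 3, nat_lit 4, nat_lit 6, nat_lit 2, nat_lit 4])) (.node (nat_lit 0x20c6687e47beac) (.leaf ((nat_lit 2), [nat_lit 9, nat_lit 0, nat_lit 7, nat_lit 2, nat_lit 9, nat_lit 2, nat_lit 6, nat_lit 1, nat_lit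 8, nat_lit 2, nat_lit 6, nat_lit 5, nat_lit 3, nat_lit 3, nat_lit 1])) (.leaf ((nat_lit 2), [nat_lit 9, nat_lit 6, nat_lit 8, nat_lit 1, nat_lit 9, nat_lit 5, nat_lit 0, nat_lit 8, nat_lit 6, nat_lit 5, nat_lit 7, nat_lit 6, nat_lit 4, nat_lit 0])))))))))
 (.node (nat_lit 0x21daaf25cfe448) (.node (nat_lit 0x21946199a8c6e4) (.node (nat_lit 0x217216606068c8) (.node (nat_lit 0x2160131ef65bf8) (.node (nat_lit 0x215a4378366a78) (.node (nat_lit 0x21065b45ad98a4) (.leaf ((nat_lit 2), [nat_lit 0, nat_lit 9, nat_lit 0, nat_lit 9, nat_lit 3, nat_lit 6, nat_lit 8, nat_lit 1, nat_lit 7, nat_lit 5, nat_lit 3, nat_lit 4, nat_lit 3, nat_lit 0])) (.leaf ((nat_lit 1), [nat_lit 0, nat_lit 7, nat_lit 0, nat_lit 9, nat_lit 1, nat_lit 9, nat_lit 4, nat_lit 6, nat_lit 8, nat_lit 5, nat_lit 0, nat_lit 7, nat_lit 4, nat_lit 3, nat_lit 6, nat_lit 3, nat_lit 1]))) (.node (nat_lit 0x215a43fc72ad4c)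 (.leaf ((nat_lit 1), [nat_lit 1, nat_lit 9, nat_lit 5, nat_lit 9, nat_lit 1, nat_lit 8, nat_lit 7, nat_lit 1, nat_lit 8, nat_lit 4, nat_lit 7, nat_lit 2, nat_lit 2, nat_lit 6, nat_lit 4, nat_lit 2])) (.node (nat_lit 0x215a447aee3404) (.leaf ((nat_lit 0), [nat_lit 6, nat_lit 9, nat_lit 5, nat_lit 9, nat_lit 8, nat_lit 5, nat_lit 8, nat_lit 6, nat_lit 1, nat_lit 7, nat_lit 6, nat_lit 5, nat_lit 6, nat_lit 3, nat_lit 4])) (.leaf ((nat_lit 2), [nat_lit 7, nat_lit 8, nat_lit 7, nat_lit 2, nat_lit 4, nat_lit 6, nat_lit 5, nat_lit 3, nat_lit 3])))))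
 (.node (nat_lit 0x216013c89171f8) (.node (nat_lit 0x216013a33225f0) (.leaf ((nat_lit 6), [nat_lit 5, nat_lit 8, nat_lit 5, nat_lit 8, nat_lit 5, nat_lit 4, nat_lit 7, nat_lit 2, nat_lit 2, nat_lit 1])) (.leaf ((nat_lit 6), [nat_lit 9, nat_lit 7, nat_lit 5, nat_lit 0, nat_lit 9, nat_lit 2, nat_lit 5, nat_lit 8, nat_lit 5, nat_lit 6, nat_lit 7, nat_lit 6, nat_lit 4, nat_lit 2, nat_lit 2]))) (.node (nat_lit 0x216672b20cb81c) (.leaf ((nat_lit 5), [nat_lit 2, nat_lit 9, nat_lit 3, nat_lit 5, nat_lit 9, nat_lit 8, nat_lit 5, nat_lit 1, nat_lit 8, nat_lit 4, nat_lit 7, nat_lit 2, nat_lit 6, nat_lit 3])) (.node (nat_lit 0x216c42d748ac08) (.leaf ((nat_lit 0), [nat_lit 6, nat_lit 9, nat_lit 2, nat_lit 1, nat_lit 9, nat_lit 5, nat_lit 7, nat_lit 8, nat_lit 5, nat_lit 6, nat_lit 7, nat_lit 5, nat_lit 6, nat_lit 1])) (.leaf ((nat_lit 0), [nat_lit 6, nat_lit 9, nat_lit 5,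 nat_lit 3, nat_lit 1, nat_lit 9, nat_lit 7, nat_lit 5, nat_lit 6, nat_lit 8, nat_lit 5, nat_lit 6, nat_lit 4, nat_lit 1]))))))
 (.node (nat_lit 0x217d2312c8cfe4) (.node (nat_lit 0x217752f90c7ef8) (.node (nat_lit 0x2177529d0fd474) (.leaf ((nat_lit 0), [nat_lit 9, nat_lit 7, nat_lit 5, nat_lit 0, nat_lit 9, nat_lit 8, nat_lit 6, nat_lit 5, nat_lit 7, nat_lit 5, nat_lit 6, nat_lit 5, nat_lit 3, nat_lit 6, nat_lit 5, nat_lit 2, nat_lit 2])) (.leaf ((nat_lit 2), [nat_lit 4, nat_lit 7, nat_lit 6, nat_lit 8, nat_lit 7, nat_lit 5, nat_lit 0, nat_lit 7, nat_lit 4, nat_lit 3, nat_lit 6, nat_lit 4, nat_lit 2, nat_lit 0]))) (.node (nat_lit 0x2177537a67efdc) (.leaf ((nat_lit 2), [nat_lit 6, nat_lit 9, nat_lit 2, nat_lit 1, nat_lit 9, nat_lit 5, nat_lit 1, nat_lit 8, nat_lit 1, nat_lit 7, nat_lit 3, nat_lit 3, nat_lit 6, nat_lit 1])) (.node (nat_lit 0x217d22385022f4) (.leaf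 ((nat_lit 2), [nat_lit 7, nat_lit 8, nat_lit 6, nat_lit 3, nat_lit 8, nat_lit 6, nat_lit 5, nat_lit 7, nat_lit 5, nat_lit 3, nat_lit 6, nat_lit 5, nat_lit 3])) (.leaf ((nat_lit 0), [nat_lit 8, nat_lit 5, nat_lit 0, nat_lit 8, nat_lit 6, nat_lit 5, nat_lit 3, nat_lit 6, nat_lit 3, nat_lit 0])))))
 (.node (nat_lit 0x218381aea689c8) (.node (nat_lit 0x217d234686b044) (.leaf ((nat_lit 0), [nat_lit 4, nat_lit 1, nat_lit 9, nat_lit 5, nat_lit 9, nat_lit 3, nat_lit 1, nat_lit 8, nat_lit 7, nat_lit 4, nat_lit 2, nat_lit 6, nat_lit 5, nat_lit 4, nat_lit 3, nat_lit 3])) (.leaf ((nat_lit 0), [nat_lit 3, nat_lit 7, nat_lit 8, nat_lit 5, nat_lit 7, nat_lit 4, nat_lit 3, nat_lit 3, nat_lit 3, nat_lit 1]))) (.node (nat_lit 0x218951c862dab4) (.leaf ((nat_lit 0), [nat_lit 2, nat_lit 9, nat_lit 3, nat_lit 5, nat_lit 9, nat_lit 0, nat_lit 8, nat_lit 7, nat_lit 2, nat_lit 2, nat_lit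 6, nat_lit 4, nat_lit 3, nat_lit 1])) (.node (nat_lit 0x218f255cfa3a74) (.leaf ((nat_lit 0), [nat_lit 2, nat_lit 2, nat_lit 9, nat_lit 1, nat_lit 9, nat_lit 6, nat_lit 2, nat_lit 8, nat_lit 5, nat_lit 6, nat_lit 7, nat_lit 3, nat_lit 4, nat_lit 0])) (.leaf ((nat_lit 0), [nat_lit 0, nat_lit 7, nat_lit 0, nat_lit 9, nat_lit 1, nat_lit 9, nat_lit 3, nat_lit 6, nat_lit 3, nat_lit 8, nat_lit 7, nat_lit 5, nat_lit 0, nat_lit 7, nat_lit 2, nat_lit 4, nat_lit 3, nat_lit 6])))))))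
 (.node (nat_lit 0x21b7d4732d7af4) (.node (nat_lit 0x21a664b2d4165c) (.node (nat_lit 0x2194625d2308cc) (.node (nat_lit 0x219461dbc6a79c) (.leaf ((nat_lit 0), [nat_lit 8, nat_lit 5, nat_lit 8, nat_lit 4, nat_lit 0, nat_lit 7, nat_lit 3, nat_lit 3, nat_lit 3, nat_lit 6, nat_lit 3, nat_lit 4, nat_lit 1])) (.leaf ((nat_lit 0), [nat_lit 7, nat_lit 2, nat_lit 1, nat_lit 8, nat_lit 5, nat_lit 4, nat_lit 7, nat_lit 2, nat_lit 2, nat_lit 6, nat_lit 1]))) (.node (nat_lit 0x219ac1048069f4) (.leaf ((nat_lit 0), [nat_lit 1, nat_lit 9, nat_lit 5, nat_lit 9, nat_lit 0, nat_lit 8, nat_lit 5, nat_lit 6, nat_lit 7, nat_lit 4, nat_lit 2, nat_lit 2, nat_lit 6, nat_lit 2, nat_lit 4])) (.node (nat_lit 0x21a09112bd139c) (.leaf ((nat_lit 0), [nat_lit 7, nat_lit 9, nat_lit 2, nat_lit 1, nat_lit 9, nat_lit 7, nat_lit 8, nat_lit 5, nat_lit 1, nat_lit 7, nat_lit 6, nat_lit 5, nat_lit 3,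 nat_lit 6, nat_lit 2, nat_lit 4])) (.leaf ((nat_lit 0), [nat_lit 2, nat_lit 7, nat_lit 9, nat_lit 5, nat_lit 9, nat_lit 3, nat_lit 1, nat_lit 8, nat_lit 0, nat_lit 7, nat_lit 5, nat_lit 3, nat_lit 6, nat_lit 5, nat_lit 4, nat_lit 2])))))
 (.node (nat_lit 0x21aba12900cc1c) (.node (nat_lit 0x21aba0a4c500b8) (.leaf ((nat_lit 0), [nat_lit 2, nat_lit 2, nat_lit 9, nat_lit 0, nat_lit 9, nat_lit 0, nat_lit 8, nat_lit 6, nat_lit 1, nat_lit 8, nat_lit 4, nat_lit 0, nat_lit 7, nat_lit 4, nat_lit 6, nat_lit 3, nat_lit 1])) (.leaf ((nat_lit 1), [nat_lit 4, nat_lit 1, nat_lit 9, nat_lit 5, nat_lit 9, nat_lit 7, nat_lit 0, nat_lit 8, nat_lit 0, nat_lit 7, nat_lit 5, nat_lit 6, nat_lit 3, nat_lit 3]))) (.node (nat_lit 0x21aba1a77d4764) (.leaf ((nat_lit 3), [nat_lit 1, nat_lit 9, nat_lit 5, nat_lit 9, nat_lit 0, nat_lit 8, nat_lit 6, nat_lit 1, nat_lit 7, nat_lit 5, nat_lit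 2, nat_lit 2])) (.node (nat_lit 0x21b2044831b41c) (.leaf ((nat_lit 0), [nat_lit 6, nat_lit 9, nat_lit 5, nat_lit 9, nat_lit 0, nat_lit 8, nat_lit 6, nat_lit 1, nat_lit 8, nat_lit 3, nat_lit 4, nat_lit 7, nat_lit 6, nat_lit 2, nat_lit 4, nat_lit 2, nat_lit 0])) (.leaf ((nat_lit 0), [nat_lit 7, nat_lit 9, nat_lit 2, nat_lit 1, nat_lit 9, nat_lit 1, nat_lit 7, nat_lit 8, nat_lit 6, nat_lit 5, nat_lit 1, nat_lit 7, nat_lit 2, nat_lit 6, nat_lit 3, nat_lit 3, nat_lit 1]))))))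
 (.node (nat_lit 0x21c8afc99d8ce4) (.node (nat_lit 0x21c2e0147e0fa4) (.node (nat_lit 0x21bda026562cb4) (.leaf ((nat_lit 0), [nat_lit 6, nat_lit 9, nat_lit 2, nat_lit 1, nat_lit 9, nat_lit 7, nat_lit 2, nat_lit 1, nat_lit 8, nat_lit 5, nat_lit 1, nat_lit 7, nat_lit 2, nat_lit 2, nat_lit 6, nat_lit 1])) (.leaf ((nat_lit 0), [nat_lit 7, nat_lit 9, nat_lit 2, nat_lit 1, nat_lit 9, nat_lit 7, nat_lit 5, nat_lit 8, nat_lit 4, nat_lit 7, nat_lit 5, nat_lit 3, nat_lit 6]))) (.node (nat_lit 0x21c2e095da6b24) (.leaf ((nat_lit 2), [nat_lit 2, nat_lit 7, nat_lit 8, nat_lit 4, nat_lit 7, nat_lit 4, nat_lit 2, nat_lit 2, nat_lit 6, nat_lit 2, nat_lit 2, nat_lit 0])) (.node (nat_lit 0x21c2e0eef71eb0) (.leaf ((nat_lit 0), [nat_lit 6, nat_lit 9, nat_lit 5, nat_lit 9, nat_lit 8, nat_lit 1, nat_lit 7, nat_lit 8, nat_lit 2, nat_lit 4, nat_lit 3, nat_lit 6, nat_lit 4, nat_lit 3,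 nat_lit 3, nat_lit 0])) (.leaf ((nat_lit 1), [nat_lit 4, nat_lit 1, nat_lit 9, nat_lit 5, nat_lit 9, nat_lit 5, nat_lit 0, nat_lit 7, nat_lit 8, nat_lit 6, nat_lit 5, nat_lit 2, nat_lit 4, nat_lit 2, nat_lit 0])))))
 (.node (nat_lit 0x21c8b0a6f6fef8) (.node (nat_lit 0x21c8b0259a9984) (.leaf ((nat_lit 3), [nat_lit 1, nat_lit 9, nat_lit 5, nat_lit 9, nat_lit 3, nat_lit 7, nat_lit 5, nat_lit 8, nat_lit 7, nat_lit 2, nat_lit 4, nat_lit 7, nat_lit 3, nat_lit 3, nat_lit 6, nat_lit 5, nat_lit 0])) (.leaf ((nat_lit 3), [nat_lit 4, nat_lit 1, nat_lit 9, nat_lit 5, nat_lit 9, nat_lit 7, nat_lit 5, nat_lit 8, nat_lit 6, nat_lit 0, nat_lit 7, nat_lit 3, nat_lit 6, nat_lit 3, nat_lit 3, nat_lit 3, nat_lit 0]))) (.node (nat_lit 0x21cf135eaab5f4) (.leaf ((nat_lit 3), [nat_lit 7, nat_lit 5, nat_lit 1, nat_lit 8, nat_lit 7, nat_lit 5, nat_lit 6, nat_lit 2, nat_lit 4, nat_lit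 2, nat_lit 1])) (.node (nat_lit 0x21d4e372a73288) (.leaf ((nat_lit 0), [nat_lit 6, nat_lit 9, nat_lit 2, nat_lit 1, nat_lit 9, nat_lit 1, nat_lit 7, nat_lit 8, nat_lit 3, nat_lit 6, nat_lit 1, nat_lit 7, nat_lit 3, nat_lit 6])) (.leaf ((nat_lit 0), [nat_lit 2, nat_lit 9, nat_lit 3, nat_lit 5, nat_lit 9, nat_lit 0, nat_lit 7, nat_lit 8, nat_lit 6, nat_lit 5, nat_lit 1, nat_lit 7, nat_lit 3, nat_lit 3, nat_lit 3, nat_lit 1]))))))))
 (.node (nat_lit 0x226b6ad4f517e4) (.node (nat_lit 0x224e5b797eb8a4) (.node (nat_lit 0x21ec22a042555c) (.node (nat_lit 0x21dfef7b7479b0) (.node (nat_lit 0x21dfeefa1977b4) (.leaf ((nat_lit 0), [nat_lit 2, nat_lit 9, nat_lit 3, nat_lit 5, nat_lit 9, nat_lit 2, nat_lit 6, nat_lit 1, nat_lit 8, nat_lit 4, nat_lit 1, nat_lit 7, nat_lit 2, nat_lit 6, nat_lit 4, nat_lit 3])) (.leaf ((nat_lit 3), [nat_lit 4, nat_lit 1, nat_lit 9, nat_lit 5,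 nat_lit 9, nat_lit 8, nat_lit 6, nat_lit 3, nat_lit 4, nat_lit 6, nat_lit 5, nat_lit 4, nat_lit 3]))) (.node (nat_lit 0x21dfefd49221cc) (.leaf ((nat_lit 1), [nat_lit 4, nat_lit 1, nat_lit 9, nat_lit 5, nat_lit 9, nat_lit 5, nat_lit 0, nat_lit 7, nat_lit 5, nat_lit 6, nat_lit 5, nat_lit 3, nat_lit 6, nat_lit 5, nat_lit 2])) (.node (nat_lit 0x21e65280c635c8) (.leaf ((nat_lit 0), [nat_lit 6, nat_lit 9, nat_lit 5, nat_lit 9, nat_lit 2, nat_lit 1, nat_lit 8, nat_lit 6, nat_lit 0, nat_lit 7, nat_lit 6, nat_lit 5, nat_lit 6, nat_lit 4])) (.leaf ((nat_lit 0), [nat_lit 2, nat_lit 9, nat_lit 3, nat_lit 5, nat_lit 9, nat_lit 7, nat_lit 1, nat_lit 7, nat_lit 8, nat_lit 7, nat_lit 4, nat_lit 2, nat_lit 6, nat_lit 5, nat_lit 4, nat_lit 0])))))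
 (.node (nat_lit 0x22488bad5ff3f8) (.node (nat_lit 0x21f1ee536b071c) (.leaf ((nat_lit 0), [nat_lit 7, nat_lit 9, nat_lit 2, nat_lit 1, nat_lit 9, nat_lit 5, nat_lit 7, nat_lit 8, nat_lit 5, nat_lit 7, nat_lit 3, nat_lit 3, nat_lit 6, nat_lit 1])) (.leaf ((nat_lit 0), [nat_lit 6, nat_lit 9, nat_lit 2, nat_lit 1, nat_lit 9, nat_lit 7, nat_lit 8, nat_lit 5, nat_lit 7, nat_lit 5, nat_lit 6, nat_lit 5, nat_lit 3, nat_lit 6, nat_lit 3, nat_lit 3, nat_lit 3, nat_lit 1]))) (.node (nat_lit 0x22488c2ebb64dc) (.leaf ((nat_lit 0), [nat_lit 6, nat_lit 9, nat_lit 5, nat_lit 9, nat_lit 3, nat_lit 7, nat_lit 5, nat_lit 8, nat_lit 4, nat_lit 7, nat_lit 3, nat_lit 6, nat_lit 4, nat_lit 2, nat_lit 2, nat_lit 1])) (.node (nat_lit 0x22488c87d97a74) (.leaf ((nat_lit 1), [nat_lit 1, nat_lit 9, nat_lit 5, nat_lit 9, nat_lit 5, nat_lit 6, nat_lit 8, nat_lit 7, nat_lit 6, nat_lit 2, nat_lit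 2, nat_lit 6, nat_lit 5, nat_lit 4, nat_lit 2])) (.leaf ((nat_lit 2), [nat_lit 6, nat_lit 9, nat_lit 5, nat_lit 9, nat_lit 8, nat_lit 2, nat_lit 6, nat_lit 0, nat_lit 8, nat_lit 5, nat_lit 0, nat_lit 7, nat_lit 3, nat_lit 6, nat_lit 5, nat_lit 2, nat_lit 2]))))))
 (.node (nat_lit 0x22605e142d96c8) (.node (nat_lit 0x224e5c3cf80e84) (.node (nat_lit 0x224e5bbb9d0df4) (.leaf ((nat_lit 0), [nat_lit 1, nat_lit 9, nat_lit 5, nat_lit 9, nat_lit 8, nat_lit 2, nat_lit 6, nat_lit 8, nat_lit 6, nat_lit 2, nat_lit 2, nat_lit 6, nat_lit 5, nat_lit 3, nat_lit 3, nat_lit 3])) (.leaf ((nat_lit 0), [nat_lit 5, nat_lit 2, nat_lit 8, nat_lit 1, nat_lit 7, nat_lit 3, nat_lit 4, nat_lit 6, nat_lit 0]))) (.node (nat_lit 0x2254ba435afff4) (.leaf ((nat_lit 0), [nat_lit 7, nat_lit 1, nat_lit 8, nat_lit 1, nat_lit 8, nat_lit 0, nat_lit 7, nat_lit 6, nat_lit 2])) (.node (nat_lit 0x225a8e424f0374)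 (.leaf ((nat_lit 0), [nat_lit 6, nat_lit 9, nat_lit 2, nat_lit 1, nat_lit 9, nat_lit 8, nat_lit 5, nat_lit 0, nat_lit 8, nat_lit 4, nat_lit 7, nat_lit 6, nat_lit 4, nat_lit 3, nat_lit 6, nat_lit 4, nat_lit 3])) (.leaf ((nat_lit 0), [nat_lit 2, nat_lit 2, nat_lit 9, nat_lit 1, nat_lit 9, nat_lit 6, nat_lit 7, nat_lit 1, nat_lit 8, nat_lit 7, nat_lit 6, nat_lit 5, nat_lit 6, nat_lit 3, nat_lit 4, nat_lit 3, nat_lit 1])))))
 (.node (nat_lit 0x22659b2e351c70) (.node (nat_lit 0x22659aa9f9c5a4) (.leaf ((nat_lit 0), [nat_lit 0, nat_lit 7, nat_lit 0, nat_lit 9, nat_lit 1, nat_lit 9, nat_lit 2, nat_lit 8, nat_lit 1, nat_lit 7, nat_lit 6, nat_lit 3, nat_lit 3, nat_lit 6, nat_lit 1])) (.leaf ((nat_lit 0), [nat_lit 6, nat_lit 9, nat_lit 5, nat_lit 9, nat_lit 8, nat_lit 5, nat_lit 8, nat_lit 7, nat_lit 5, nat_lit 6, nat_lit 7, nat_lit 3, nat_lit 6, nat_lit 3, nat_lit 3])))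 (.node (nat_lit 0x22659bacb12764) (.leaf ((nat_lit 2), [nat_lit 6, nat_lit 8, nat_lit 5, nat_lit 1, nat_lit 7, nat_lit 6, nat_lit 5, nat_lit 3, nat_lit 6, nat_lit 5, nat_lit 2, nat_lit 4, nat_lit 2, nat_lit 1])) (.node (nat_lit 0x226b6a50b9b44c) (.leaf ((nat_lit 1), [nat_lit 1, nat_lit 9, nat_lit 5, nat_lit 9, nat_lit 8, nat_lit 4, nat_lit 6, nat_lit 8, nat_lit 7, nat_lit 3, nat_lit 3, nat_lit 3, nat_lit 6, nat_lit 0])) (.leaf ((nat_lit 5), [nat_lit 6, nat_lit 9, nat_lit 5, nat_lit 9, nat_lit 5, nat_lit 1, nat_lit 8, nat_lit 6, nat_lit 5, nat_lit 7, nat_lit 4, nat_lit 2, nat_lit 2, nat_lit 6, nat_lit 4, nat_lit 3])))))))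
 (.node (nat_lit 0x2294ac66a1445c) (.node (nat_lit 0x2282a99b13f178) (.node (nat_lit 0x2271c934752a5c) (.node (nat_lit 0x226b6afa53e11c) (.leaf ((nat_lit 6), [nat_lit 3, nat_lit 8, nat_lit 7, nat_lit 9, nat_lit 2, nat_lit 6, nat_lit 2, nat_lit 8, nat_lit 2, nat_lit 6, nat_lit 3, nat_lit 4, nat_lit 3, nat_lit 3])) (.leaf ((nat_lit 6), [nat_lit 9, nat_lit 5, nat_lit 8, nat_lit 3, nat_lit 9, nat_lit 5, nat_lit 1, nat_lit 8, nat_lit 6, nat_lit 4, nat_lit 2, nat_lit 6, nat_lit 2, nat_lit 1]))) (.node (nat_lit 0x22779d3ee8d0dc) (.leaf ((nat_lit 0), [nat_lit 2, nat_lit 9, nat_lit 3, nat_lit 5, nat_lit 9, nat_lit 7, nat_lit 5, nat_lit 8, nat_lit 1, nat_lit 8, nat_lit 6, nat_lit 0, nat_lit 7, nat_lit 3, nat_lit 4, nat_lit 6, nat_lit 2])) (.node (nat_lit 0x227d6d10c76874) (.leaf ((nat_lit 0), [nat_lit 6, nat_lit 9, nat_lit 5, nat_lit 3, nat_lit 1, nat_lit 9, nat_lit 3,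 nat_lit 7, nat_lit 0, nat_lit 8, nat_lit 6, nat_lit 5, nat_lit 1, nat_lit 7, nat_lit 3, nat_lit 0])) (.leaf ((nat_lit 0), [nat_lit 2, nat_lit 2, nat_lit 9, nat_lit 0, nat_lit 9, nat_lit 7, nat_lit 2, nat_lit 8, nat_lit 6, nat_lit 5, nat_lit 7, nat_lit 6, nat_lit 3, nat_lit 3, nat_lit 6])))))
 (.node (nat_lit 0x2282aaa94af638) (.node (nat_lit 0x2282aa758c9030) (.leaf ((nat_lit 0), [nat_lit 4, nat_lit 1, nat_lit 9, nat_lit 5, nat_lit 9, nat_lit 5, nat_lit 1, nat_lit 8, nat_lit 6, nat_lit 0, nat_lit 7, nat_lit 2, nat_lit 2, nat_lit 6, nat_lit 5, nat_lit 4])) (.leaf ((nat_lit 0), [nat_lit 8, nat_lit 7, nat_lit 5, nat_lit 6, nat_lit 7, nat_lit 4, nat_lit 2, nat_lit 6, nat_lit 5, nat_lit 4]))) (.node (nat_lit 0x2289087ecf6788) (.leaf ((nat_lit 0), [nat_lit 6, nat_lit 2, nat_lit 1, nat_lit 8, nat_lit 5, nat_lit 7, nat_lit 5, nat_lit 0, nat_lit 7, nat_lit 3, nat_lit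 0])) (.node (nat_lit 0x228edc94c2b108) (.leaf ((nat_lit 0), [nat_lit 7, nat_lit 9, nat_lit 2, nat_lit 1, nat_lit 9, nat_lit 7, nat_lit 1, nat_lit 7, nat_lit 8, nat_lit 7, nat_lit 1, nat_lit 7, nat_lit 5, nat_lit 6, nat_lit 0])) (.leaf ((nat_lit 0), [nat_lit 2, nat_lit 7, nat_lit 9, nat_lit 5, nat_lit 9, nat_lit 2, nat_lit 7, nat_lit 6, nat_lit 8, nat_lit 2, nat_lit 4, nat_lit 7, nat_lit 5, nat_lit 6, nat_lit 5, nat_lit 3, nat_lit 4, nat_lit 0]))))))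
 (.node (nat_lit 0x22a61c241abec8) (.node (nat_lit 0x2299e95b4a73f8) (.node (nat_lit 0x2299e8d9ee0e84) (.leaf ((nat_lit 0), [nat_lit 9, nat_lit 7, nat_lit 5, nat_lit 0, nat_lit 9, nat_lit 8, nat_lit 1, nat_lit 8, nat_lit 5, nat_lit 7, nat_lit 5, nat_lit 6, nat_lit 5, nat_lit 2, nat_lit 4])) (.leaf ((nat_lit 1), [nat_lit 1, nat_lit 9, nat_lit 5, nat_lit 9, nat_lit 8, nat_lit 2, nat_lit 5, nat_lit 8, nat_lit 7, nat_lit 5, nat_lit 7, nat_lit 3, nat_lit 3, nat_lit 6, nat_lit 5, nat_lit 3, nat_lit 3]))) (.node (nat_lit 0x2299e9b46732e4) (.leaf ((nat_lit 0), [nat_lit 6, nat_lit 9, nat_lit 5, nat_lit 9, nat_lit 2, nat_lit 1, nat_lit 8, nat_lit 5, nat_lit 1, nat_lit 7, nat_lit 4, nat_lit 3, nat_lit 6, nat_lit 3, nat_lit 3, nat_lit 3, nat_lit 1])) (.node (nat_lit 0x22a04cdf17b834) (.leaf ((nat_lit 3), [nat_lit 4, nat_lit 1, nat_lit 9, nat_lit 5, nat_lit 9, nat_lit 7,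 nat_lit 2, nat_lit 5, nat_lit 8, nat_lit 7, nat_lit 1, nat_lit 7, nat_lit 6, nat_lit 3, nat_lit 3, nat_lit 6, nat_lit 3])) (.leaf ((nat_lit 0), [nat_lit 6, nat_lit 9, nat_lit 5, nat_lit 3, nat_lit 1, nat_lit 9, nat_lit 6, nat_lit 1, nat_lit 7, nat_lit 4, nat_lit 2, nat_lit 6, nat_lit 5, nat_lit 3, nat_lit 3])))))
 (.node (nat_lit 0x22b1282ce8075c) (.node (nat_lit 0x22abe7da235948) (.leaf ((nat_lit 0), [nat_lit 2, nat_lit 2, nat_lit 9, nat_lit 1, nat_lit 9, nat_lit 5, nat_lit 0, nat_lit 8, nat_lit 6, nat_lit 2, nat_lit 4, nat_lit 7, nat_lit 3, nat_lit 6, nat_lit 4, nat_lit 3])) (.leaf ((nat_lit 0), [nat_lit 2, nat_lit 7, nat_lit 9, nat_lit 5, nat_lit 9, nat_lit 3, nat_lit 5, nat_lit 8, nat_lit 7, nat_lit 2, nat_lit 4, nat_lit 3, nat_lit 6, nat_lit 5, nat_lit 4, nat_lit 1]))) (.node (nat_lit 0x22b128b124c034) (.leaf ((nat_lit 2), [nat_lit 9, nat_lit 1, nat_lit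 9, nat_lit 3, nat_lit 6, nat_lit 3, nat_lit 8, nat_lit 6, nat_lit 5, nat_lit 6, nat_lit 7, nat_lit 5, nat_lit 3, nat_lit 4, nat_lit 1])) (.node (nat_lit 0x22b1292fa053b8) (.leaf ((nat_lit 1), [nat_lit 1, nat_lit 9, nat_lit 5, nat_lit 9, nat_lit 2, nat_lit 8, nat_lit 5, nat_lit 4, nat_lit 7, nat_lit 2, nat_lit 6, nat_lit 5, nat_lit 3, nat_lit 3, nat_lit 3, nat_lit 1])) (.leaf ((nat_lit 0), [nat_lit 6, nat_lit 9, nat_lit 5, nat_lit 9, nat_lit 6, nat_lit 8, nat_lit 6, nat_lit 5, nat_lit 1, nat_lit 7, nat_lit 3, nat_lit 6, nat_lit 4, nat_lit 2, nat_lit 2]))))))))))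
 (.node (nat_lit 0x2da83e1313f04c) (.node (nat_lit 0x2388c439ea935c) (.node (nat_lit 0x234303729c30f4) (.node (nat_lit 0x22d49b17ac359c) (.node (nat_lit 0x22c32b2394765c) (.node (nat_lit 0x22b6f8d9409b74) (.node (nat_lit 0x22b6f85ac42b8c) (.leaf ((nat_lit 3), [nat_lit 1, nat_lit 9, nat_lit 5, nat_lit 9, nat_lit 1, nat_lit 8, nat_lit 7, nat_lit 1, nat_lit 7, nat_lit 2, nat_lit 6, nat_lit 1])) (.leaf ((nat_lit 0), [nat_lit 6, nat_lit 9, nat_lit 5, nat_lit 9, nat_lit 7, nat_lit 1, nat_lit 7, nat_lit 8, nat_lit 6, nat_lit 5, nat_lit 7, nat_lit 6, nat_lit 2, nat_lit 2, nat_lit 6, nat_lit 2, nat_lit 4]))) (.node (nat_lit 0x22bd5bf590b5c8) (.leaf ((nat_lit 1), [nat_lit 1, nat_lit 9, nat_lit 5, nat_lit 9, nat_lit 8, nat_lit 6, nat_lit 2, nat_lit 8, nat_lit 2, nat_lit 4, nat_lit 7, nat_lit 6, nat_lit 5, nat_lit 4, nat_lit 3, nat_lit 3])) (.leaf ((nat_lit 0), [nat_lit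 2, nat_lit 2, nat_lit 9, nat_lit 1, nat_lit 9, nat_lit 7, nat_lit 8, nat_lit 7, nat_lit 1, nat_lit 8, nat_lit 6, nat_lit 0, nat_lit 7, nat_lit 6, nat_lit 2, nat_lit 2, nat_lit 0]))))
 (.node (nat_lit 0x22ce372c61c05c) (.node (nat_lit 0x22c8f6d99d10dc) (.leaf ((nat_lit 0), [nat_lit 2, nat_lit 7, nat_lit 9, nat_lit 5, nat_lit 9, nat_lit 6, nat_lit 8, nat_lit 6, nat_lit 1, nat_lit 7, nat_lit 6, nat_lit 4, nat_lit 2, nat_lit 6, nat_lit 5, nat_lit 3, nat_lit 0])) (.leaf ((nat_lit 0), [nat_lit 2, nat_lit 2, nat_lit 9, nat_lit 1, nat_lit 9, nat_lit 1, nat_lit 7, nat_lit 8, nat_lit 5, nat_lit 7, nat_lit 5, nat_lit 7, nat_lit 3, nat_lit 6, nat_lit 5, nat_lit 3, nat_lit 4, nat_lit 0]))) (.node (nat_lit 0x22ce37885f52a4) (.leaf ((nat_lit 3), [nat_lit 4, nat_lit 1, nat_lit 9, nat_lit 5, nat_lit 9, nat_lit 4, nat_lit 7, nat_lit 6, nat_lit 8, nat_lit 7, nat_lit 3, nat_lit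 6, nat_lit 2, nat_lit 4, nat_lit 2, nat_lit 1])) (.node (nat_lit 0x22ce3809bac938) (.leaf ((nat_lit 3), [nat_lit 7, nat_lit 8, nat_lit 7, nat_lit 1, nat_lit 8, nat_lit 1, nat_lit 7, nat_lit 5, nat_lit 3, nat_lit 6, nat_lit 5, nat_lit 2, nat_lit 2])) (.leaf ((nat_lit 3), [nat_lit 1, nat_lit 9, nat_lit 5, nat_lit 9, nat_lit 3, nat_lit 7, nat_lit 5, nat_lit 8, nat_lit 5, nat_lit 6, nat_lit 7, nat_lit 2, nat_lit 6, nat_lit 3, nat_lit 4, nat_lit 1]))))))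
 (.node (nat_lit 0x233104ee037a24) (.node (nat_lit 0x22e036073837f4) (.node (nat_lit 0x22da6a512f9d74) (.leaf ((nat_lit 0), [nat_lit 2, nat_lit 7, nat_lit 9, nat_lit 5, nat_lit 9, nat_lit 6, nat_lit 8, nat_lit 5, nat_lit 4, nat_lit 7, nat_lit 4, nat_lit 2, nat_lit 2, nat_lit 6, nat_lit 2])) (.leaf ((nat_lit 0), [nat_lit 6, nat_lit 9, nat_lit 5, nat_lit 3, nat_lit 1, nat_lit 9, nat_lit 5, nat_lit 1, nat_lit 8, nat_lit 2, nat_lit 4, nat_lit 7, nat_lit 4, nat_lit 3, nat_lit 3, nat_lit 6, nat_lit 3, nat_lit 1]))) (.node (nat_lit 0x23310410a9fcb0) (.leaf ((nat_lit 0), [nat_lit 6, nat_lit 9, nat_lit 5, nat_lit 3, nat_lit 1, nat_lit 9, nat_lit 5, nat_lit 1, nat_lit 8, nat_lit 7, nat_lit 3, nat_lit 4, nat_lit 7, nat_lit 6, nat_lit 5, nat_lit 4, nat_lit 2])) (.node (nat_lit 0x2331046ca71ea4) (.leaf ((nat_lit 2), [nat_lit 7, nat_lit 9, nat_lit 2, nat_lit 1, nat_lit 9,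 nat_lit 8, nat_lit 3, nat_lit 1, nat_lit 8, nat_lit 5, nat_lit 0, nat_lit 7, nat_lit 5, nat_lit 2, nat_lit 2])) (.leaf ((nat_lit 2), [nat_lit 1, nat_lit 8, nat_lit 7, nat_lit 1, nat_lit 8, nat_lit 3, nat_lit 6, nat_lit 7, nat_lit 3, nat_lit 3, nat_lit 6, nat_lit 3, nat_lit 4, nat_lit 3, nat_lit 3])))))
 (.node (nat_lit 0x2336d486636e24) (.node (nat_lit 0x2336d3abea4c9c) (.leaf ((nat_lit 2), [nat_lit 2, nat_lit 2, nat_lit 9, nat_lit 1, nat_lit 9, nat_lit 7, nat_lit 1, nat_lit 8, nat_lit 5, nat_lit 4, nat_lit 7, nat_lit 6, nat_lit 5, nat_lit 3, nat_lit 4, nat_lit 1])) (.leaf ((nat_lit 0), [nat_lit 2, nat_lit 6, nat_lit 0, nat_lit 8, nat_lit 7, nat_lit 5, nat_lit 1, nat_lit 7, nat_lit 6, nat_lit 5, nat_lit 2, nat_lit 4, nat_lit 0]))) (.node (nat_lit 0x2336d4ba223a8c) (.leaf ((nat_lit 0), [nat_lit 8, nat_lit 5, nat_lit 1, nat_lit 8, nat_lit 3, nat_lit 4, nat_lit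 7, nat_lit 4, nat_lit 3, nat_lit 6, nat_lit 5, nat_lit 3, nat_lit 0])) (.node (nat_lit 0x233d33a0bd995c) (.leaf ((nat_lit 0), [nat_lit 4, nat_lit 1, nat_lit 9, nat_lit 5, nat_lit 9, nat_lit 5, nat_lit 8, nat_lit 0, nat_lit 8, nat_lit 7, nat_lit 4, nat_lit 3])) (.leaf ((nat_lit 0), [nat_lit 2, nat_lit 2, nat_lit 9, nat_lit 0, nat_lit 9, nat_lit 6, nat_lit 7, nat_lit 1, nat_lit 8, nat_lit 7, nat_lit 4, nat_lit 3, nat_lit 3, nat_lit 3, nat_lit 0])))))))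
 (.node (nat_lit 0x2365e5bbefa4c8) (.node (nat_lit 0x2353e2dc4278f0) (.node (nat_lit 0x234e131023b444) (.node (nat_lit 0x2348d6cad5761c) (.leaf ((nat_lit 0), [nat_lit 6, nat_lit 9, nat_lit 5, nat_lit 3, nat_lit 1, nat_lit 9, nat_lit 8, nat_lit 2, nat_lit 1, nat_lit 8, nat_lit 7, nat_lit 6, nat_lit 3, nat_lit 4, nat_lit 1])) (.leaf ((nat_lit 0), [nat_lit 6, nat_lit 9, nat_lit 2, nat_lit 1, nat_lit 9, nat_lit 6, nat_lit 7, nat_lit 2, nat_lit 1, nat_lit 8, nat_lit 2, nat_lit 4, nat_lit 7, nat_lit 5, nat_lit 4, nat_lit 3, nat_lit 1]))) (.node (nat_lit 0x234e13917fa7f8) (.leaf ((nat_lit 1), [nat_lit 4, nat_lit 1, nat_lit 9, nat_lit 5, nat_lit 9, nat_lit 4, nat_lit 0, nat_lit 7, nat_lit 8, nat_lit 4, nat_lit 7, nat_lit 6, nat_lit 5, nat_lit 2])) (.node (nat_lit 0x234e13ea9d478c) (.leaf ((nat_lit 2), [nat_lit 7, nat_lit 9, nat_lit 6, nat_lit 0, nat_lit 9, nat_lit 4,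 nat_lit 8, nat_lit 0, nat_lit 8, nat_lit 7, nat_lit 5, nat_lit 0, nat_lit 7, nat_lit 6, nat_lit 5, nat_lit 6, nat_lit 3])) (.leaf ((nat_lit 0), [nat_lit 6, nat_lit 9, nat_lit 5, nat_lit 9, nat_lit 8, nat_lit 5, nat_lit 2, nat_lit 8, nat_lit 5, nat_lit 0, nat_lit 7, nat_lit 5, nat_lit 3, nat_lit 0])))))
 (.node (nat_lit 0x2353e39fbc5478) (.node (nat_lit 0x2353e31e60dc78) (.leaf ((nat_lit 0), [nat_lit 5, nat_lit 8, nat_lit 5, nat_lit 8, nat_lit 3, nat_lit 4, nat_lit 7, nat_lit 1])) (.leaf ((nat_lit 0), [nat_lit 1, nat_lit 9, nat_lit 5, nat_lit 9, nat_lit 5, nat_lit 1, nat_lit 8, nat_lit 6, nat_lit 5, nat_lit 0, nat_lit 7, nat_lit 2, nat_lit 4, nat_lit 3]))) (.node (nat_lit 0x235a429d576b08) (.leaf ((nat_lit 0), [nat_lit 8, nat_lit 5, nat_lit 8, nat_lit 2, nat_lit 6, nat_lit 4, nat_lit 2, nat_lit 2, nat_lit 1])) (.node (nat_lit 0x2360126f35fe5c) (.leaf ((nat_lit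 0), [nat_lit 0, nat_lit 7, nat_lit 0, nat_lit 9, nat_lit 1, nat_lit 9, nat_lit 5, nat_lit 7, nat_lit 5, nat_lit 8, nat_lit 7, nat_lit 3, nat_lit 4, nat_lit 7, nat_lit 5, nat_lit 6, nat_lit 4])) (.leaf ((nat_lit 0), [nat_lit 2, nat_lit 2, nat_lit 9, nat_lit 1, nat_lit 9, nat_lit 2, nat_lit 7, nat_lit 6, nat_lit 8, nat_lit 7, nat_lit 0, nat_lit 7, nat_lit 2, nat_lit 2]))))))
 (.node (nat_lit 0x237751c50fde88) (.node (nat_lit 0x236b2268bb19a4) (.node (nat_lit 0x236b21e47eca04) (.leaf ((nat_lit 0), [nat_lit 7, nat_lit 9, nat_lit 2, nat_lit 1, nat_lit 9, nat_lit 2, nat_lit 7, nat_lit 6, nat_lit 8, nat_lit 7, nat_lit 5, nat_lit 1, nat_lit 7, nat_lit 5, nat_lit 3, nat_lit 0])) (.leaf ((nat_lit 6), [nat_lit 7, nat_lit 6, nat_lit 3, nat_lit 9, nat_lit 6, nat_lit 7, nat_lit 2, nat_lit 1, nat_lit 8, nat_lit 3, nat_lit 6, nat_lit 7, nat_lit 4, nat_lit 0]))) (.node (nat_lit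 0x236b228e1a5774) (.leaf ((nat_lit 5), [nat_lit 6, nat_lit 9, nat_lit 5, nat_lit 3, nat_lit 1, nat_lit 9, nat_lit 5, nat_lit 0, nat_lit 8, nat_lit 3, nat_lit 4, nat_lit 7, nat_lit 3, nat_lit 6, nat_lit 5, nat_lit 0])) (.node (nat_lit 0x237181f3314b34) (.leaf ((nat_lit 6), [nat_lit 4, nat_lit 7, nat_lit 8, nat_lit 1, nat_lit 9, nat_lit 7, nat_lit 2, nat_lit 8, nat_lit 7, nat_lit 5, nat_lit 6, nat_lit 7, nat_lit 4, nat_lit 2, nat_lit 6, nat_lit 1])) (.leaf ((nat_lit 0), [nat_lit 9, nat_lit 7, nat_lit 5, nat_lit 0, nat_lit 9, nat_lit 2, nat_lit 1, nat_lit 8, nat_lit 6, nat_lit 7, nat_lit 6, nat_lit 2, nat_lit 1])))))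
 (.node (nat_lit 0x2382613d390bcc) (.node (nat_lit 0x237d250649e1f4) (.leaf ((nat_lit 0), [nat_lit 2, nat_lit 7, nat_lit 9, nat_lit 5, nat_lit 9, nat_lit 8, nat_lit 2, nat_lit 6, nat_lit 8, nat_lit 3, nat_lit 4, nat_lit 7, nat_lit 6, nat_lit 3, nat_lit 0])) (.leaf ((nat_lit 0), [nat_lit 2, nat_lit 9, nat_lit 3, nat_lit 5, nat_lit 9, nat_lit 6, nat_lit 5, nat_lit 2, nat_lit 8, nat_lit 7, nat_lit 0, nat_lit 7, nat_lit 2, nat_lit 4, nat_lit 6, nat_lit 2]))) (.node (nat_lit 0x238261993692b4) (.leaf ((nat_lit 3), [nat_lit 6, nat_lit 2, nat_lit 8, nat_lit 6, nat_lit 2, nat_lit 4, nat_lit 7, nat_lit 6, nat_lit 3, nat_lit 3, nat_lit 1])) (.node (nat_lit 0x2382621a9194b0) (.leaf ((nat_lit 3), [nat_lit 1, nat_lit 9, nat_lit 5, nat_lit 9, nat_lit 8, nat_lit 5, nat_lit 2, nat_lit 8, nat_lit 3, nat_lit 6, nat_lit 7, nat_lit 4, nat_lit 2, nat_lit 6, nat_lit 5, nat_lit 4, nat_lit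 3])) (.leaf ((nat_lit 3), [nat_lit 4, nat_lit 1, nat_lit 9, nat_lit 5, nat_lit 9, nat_lit 8, nat_lit 5, nat_lit 2, nat_lit 8, nat_lit 7, nat_lit 4, nat_lit 2, nat_lit 6, nat_lit 3, nat_lit 4]))))))))
 (.node (nat_lit 0x2cbfc6fd3ee44c) (.node (nat_lit 0x23ab9f232b445c) (.node (nat_lit 0x2399a17beb1ef8) (.node (nat_lit 0x23945fbef1d9dc) (.node (nat_lit 0x238e900cb246c8) (.leaf ((nat_lit 0), [nat_lit 9, nat_lit 7, nat_lit 5, nat_lit 0, nat_lit 9, nat_lit 2, nat_lit 2, nat_lit 8, nat_lit 6, nat_lit 3, nat_lit 3, nat_lit 6, nat_lit 3, nat_lit 3, nat_lit 1])) (.leaf ((nat_lit 0), [nat_lit 2, nat_lit 2, nat_lit 9, nat_lit 0, nat_lit 9, nat_lit 7, nat_lit 1, nat_lit 7, nat_lit 8, nat_lit 4, nat_lit 1, nat_lit 7, nat_lit 6, nat_lit 3, nat_lit 1]))) (.node (nat_lit 0x2399a09e928d8c) (.leaf ((nat_lit 0), [nat_lit 9, nat_lit 7, nat_lit 5, nat_lit 0, nat_lit 9, nat_lit 4,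 nat_lit 3, nat_lit 8, nat_lit 6, nat_lit 1, nat_lit 7, nat_lit 5, nat_lit 3, nat_lit 6, nat_lit 2, nat_lit 0])) (.node (nat_lit 0x2399a0fa8f2b44) (.leaf ((nat_lit 2), [nat_lit 9, nat_lit 7, nat_lit 5, nat_lit 0, nat_lit 9, nat_lit 5, nat_lit 0, nat_lit 8, nat_lit 3, nat_lit 6, nat_lit 7, nat_lit 5, nat_lit 6, nat_lit 2, nat_lit 4, nat_lit 0])) (.leaf ((nat_lit 2), [nat_lit 9, nat_lit 7, nat_lit 5, nat_lit 0, nat_lit 9, nat_lit 7, nat_lit 8, nat_lit 7, nat_lit 0, nat_lit 7, nat_lit 6, nat_lit 5, nat_lit 6, nat_lit 5, nat_lit 2, nat_lit 4, nat_lit 3])))))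
 (.node (nat_lit 0x239f70be0e3e38) (.node (nat_lit 0x239f703cb2c7a4) (.leaf ((nat_lit 2), [nat_lit 2, nat_lit 9, nat_lit 3, nat_lit 5, nat_lit 9, nat_lit 0, nat_lit 8, nat_lit 7, nat_lit 1, nat_lit 8, nat_lit 7, nat_lit 1, nat_lit 7, nat_lit 5, nat_lit 6, nat_lit 2, nat_lit 4, nat_lit 1])) (.leaf ((nat_lit 0), [nat_lit 6, nat_lit 9, nat_lit 5, nat_lit 9, nat_lit 7, nat_lit 1, nat_lit 7, nat_lit 8, nat_lit 7, nat_lit 0, nat_lit 7, nat_lit 4, nat_lit 2, nat_lit 6, nat_lit 4, nat_lit 3, nat_lit 3, nat_lit 3]))) (.node (nat_lit 0x239f71172b665c) (.leaf ((nat_lit 3), [nat_lit 4, nat_lit 1, nat_lit 9, nat_lit 5, nat_lit 9, nat_lit 6, nat_lit 0, nat_lit 8, nat_lit 1, nat_lit 7, nat_lit 2, nat_lit 2, nat_lit 6, nat_lit 5, nat_lit 3, nat_lit 3])) (.node (nat_lit 0x23a5d339644f34) (.leaf ((nat_lit 1), [nat_lit 4, nat_lit 1, nat_lit 9, nat_lit 5, nat_lit 9, nat_lit 7, nat_lit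 8, nat_lit 6, nat_lit 1, nat_lit 7, nat_lit 4, nat_lit 6, nat_lit 4, nat_lit 2])) (.leaf ((nat_lit 0), [nat_lit 2, nat_lit 2, nat_lit 9, nat_lit 0, nat_lit 9, nat_lit 8, nat_lit 7, nat_lit 1, nat_lit 8, nat_lit 2, nat_lit 4, nat_lit 7, nat_lit 5, nat_lit 6]))))))
 (.node (nat_lit 0x23bd1266ff7208) (.node (nat_lit 0x23b6af6a4dea78) (.node (nat_lit 0x23b16ebe6b95b4) (.leaf ((nat_lit 0), [nat_lit 9, nat_lit 7, nat_lit 5, nat_lit 0, nat_lit 9, nat_lit 6, nat_lit 7, nat_lit 1, nat_lit 8, nat_lit 5, nat_lit 0, nat_lit 7, nat_lit 5, nat_lit 6, nat_lit 5, nat_lit 3, nat_lit 6])) (.leaf ((nat_lit 0), [nat_lit 0, nat_lit 7, nat_lit 0, nat_lit 9, nat_lit 1, nat_lit 9, nat_lit 4, nat_lit 7, nat_lit 8, nat_lit 7, nat_lit 5, nat_lit 6, nat_lit 7, nat_lit 6, nat_lit 4, nat_lit 2, nat_lit 6, nat_lit 4, nat_lit 3, nat_lit 1]))) (.node (nat_lit 0x23b6afee894ca4) (.leaf ((nat_lit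 0), [nat_lit 6, nat_lit 9, nat_lit 5, nat_lit 9, nat_lit 2, nat_lit 5, nat_lit 8, nat_lit 6, nat_lit 5, nat_lit 6, nat_lit 7, nat_lit 4, nat_lit 2, nat_lit 6, nat_lit 5])) (.node (nat_lit 0x23b6b06d054244) (.leaf ((nat_lit 1), [nat_lit 1, nat_lit 9, nat_lit 5, nat_lit 9, nat_lit 4, nat_lit 3, nat_lit 8, nat_lit 7, nat_lit 5, nat_lit 0, nat_lit 7, nat_lit 2, nat_lit 4, nat_lit 3, nat_lit 0])) (.leaf ((nat_lit 3), [nat_lit 1, nat_lit 9, nat_lit 5, nat_lit 9, nat_lit 6, nat_lit 3, nat_lit 8, nat_lit 0, nat_lit 7, nat_lit 3, nat_lit 3, nat_lit 3, nat_lit 6])))))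
 (.node (nat_lit 0x23c8adec06b888) (.node (nat_lit 0x23c2de4546c874) (.leaf ((nat_lit 0), [nat_lit 0, nat_lit 7, nat_lit 0, nat_lit 9, nat_lit 1, nat_lit 9, nat_lit 8, nat_lit 1, nat_lit 7, nat_lit 8, nat_lit 4, nat_lit 1, nat_lit 7, nat_lit 3, nat_lit 4, nat_lit 6, nat_lit 3, nat_lit 3])) (.leaf ((nat_lit 0), [nat_lit 0, nat_lit 7, nat_lit 0, nat_lit 9, nat_lit 1, nat_lit 9, nat_lit 7, nat_lit 1, nat_lit 7, nat_lit 8, nat_lit 7, nat_lit 6, nat_lit 3, nat_lit 3, nat_lit 6, nat_lit 3, nat_lit 4, nat_lit 0]))) (.node (nat_lit 0x2cb4b6659eca9c) (.leaf ((nat_lit 0), [nat_lit 2, nat_lit 2, nat_lit 9, nat_lit 0, nat_lit 9, nat_lit 5, nat_lit 8, nat_lit 0, nat_lit 8, nat_lit 1, nat_lit 7, nat_lit 2, nat_lit 6, nat_lit 3, nat_lit 4])) (.node (nat_lit 0x2cb9f5766e1ef8) (.leaf ((nat_lit 0), [nat_lit 7, nat_lit 9, nat_lit 2, nat_lit 1, nat_lit 9, nat_lit 8, nat_lit 5, nat_lit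 0, nat_lit 8, nat_lit 3, nat_lit 6, nat_lit 1, nat_lit 7, nat_lit 6, nat_lit 2])) (.leaf ((nat_lit 0), [nat_lit 2, nat_lit 9, nat_lit 3, nat_lit 5, nat_lit 9, nat_lit 7, nat_lit 1, nat_lit 7, nat_lit 8, nat_lit 7, nat_lit 5, nat_lit 0, nat_lit 7, nat_lit 4, nat_lit 6, nat_lit 5, nat_lit 4, nat_lit 3])))))))
 (.node (nat_lit 0x2ce337aed41dc0) (.node (nat_lit 0x2cd1c565188674) (.node (nat_lit 0x2cc62972d4392c) (.node (nat_lit 0x2cc628ee986f34) (.leaf ((nat_lit 0), [nat_lit 6, nat_lit 9, nat_lit 2, nat_lit 1, nat_lit 9, nat_lit 3, nat_lit 7, nat_lit 8, nat_lit 6, nat_lit 1, nat_lit 7, nat_lit 4, nat_lit 6, nat_lit 2, nat_lit 4, nat_lit 1])) (.leaf ((nat_lit 3), [nat_lit 1, nat_lit 9, nat_lit 5, nat_lit 9, nat_lit 8, nat_lit 4, nat_lit 6, nat_lit 8, nat_lit 4, nat_lit 3, nat_lit 3, nat_lit 0]))) (.node (nat_lit 0x2cc629ee70c8dc) (.leaf ((nat_lit 2), [nat_lit 8, nat_lit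 3, nat_lit 9, nat_lit 0, nat_lit 9, nat_lit 8, nat_lit 7, nat_lit 0, nat_lit 7, nat_lit 5, nat_lit 6, nat_lit 5, nat_lit 4, nat_lit 3, nat_lit 3])) (.node (nat_lit 0x2ccbf3f826eb9c) (.leaf ((nat_lit 0), [nat_lit 6, nat_lit 9, nat_lit 5, nat_lit 9, nat_lit 5, nat_lit 8, nat_lit 0, nat_lit 8, nat_lit 5, nat_lit 7, nat_lit 4, nat_lit 2, nat_lit 2, nat_lit 6, nat_lit 2, nat_lit 4, nat_lit 0])) (.leaf ((nat_lit 0), [nat_lit 2, nat_lit 2, nat_lit 9, nat_lit 1, nat_lit 9, nat_lit 2, nat_lit 7, nat_lit 6, nat_lit 8, nat_lit 7, nat_lit 2, nat_lit 4, nat_lit 7, nat_lit 5, nat_lit 2, nat_lit 4, nat_lit 1])))))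
 (.node (nat_lit 0x2cdcd5fcb8a024) (.node (nat_lit 0x2cd7048ce71c8c) (.leaf ((nat_lit 0), [nat_lit 2, nat_lit 7, nat_lit 9, nat_lit 5, nat_lit 9, nat_lit 7, nat_lit 5, nat_lit 1, nat_lit 8, nat_lit 5, nat_lit 1, nat_lit 7, nat_lit 4, nat_lit 2, nat_lit 6, nat_lit 4, nat_lit 3, nat_lit 3])) (.leaf ((nat_lit 0), [nat_lit 0, nat_lit 7, nat_lit 0, nat_lit 9, nat_lit 1, nat_lit 9, nat_lit 7, nat_lit 2, nat_lit 8, nat_lit 0, nat_lit 7, nat_lit 2, nat_lit 4, nat_lit 3, nat_lit 6, nat_lit 1]))) (.node (nat_lit 0x2ce336d73bd544) (.leaf ((nat_lit 0), [nat_lit 2, nat_lit 2, nat_lit 9, nat_lit 0, nat_lit 9, nat_lit 7, nat_lit 8, nat_lit 7, nat_lit 1, nat_lit 8, nat_lit 4, nat_lit 7, nat_lit 5, nat_lit 4, nat_lit 2])) (.node (nat_lit 0x2ce33755b7675c) (.leaf ((nat_lit 1), [nat_lit 6, nat_lit 9, nat_lit 5, nat_lit 9, nat_lit 4, nat_lit 6, nat_lit 8, nat_lit 7, nat_lit 3, nat_lit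 6, nat_lit 5, nat_lit 4, nat_lit 3, nat_lit 3, nat_lit 3, nat_lit 1])) (.leaf ((nat_lit 0), [nat_lit 4, nat_lit 1, nat_lit 9, nat_lit 5, nat_lit 9, nat_lit 6, nat_lit 8, nat_lit 4, nat_lit 7, nat_lit 3, nat_lit 3, nat_lit 3, nat_lit 6, nat_lit 4, nat_lit 3, nat_lit 3, nat_lit 1]))))))
 (.node (nat_lit 0x2cf4152d33abb8) (.node (nat_lit 0x2ce9083b8cc9d4) (.node (nat_lit 0x2ce907e27083c4) (.leaf ((nat_lit 0), [nat_lit 7, nat_lit 2, nat_lit 1, nat_lit 8, nat_lit 5, nat_lit 7, nat_lit 4, nat_lit 3, nat_lit 3, nat_lit 3])) (.leaf ((nat_lit 1), [nat_lit 1, nat_lit 9, nat_lit 5, nat_lit 9, nat_lit 2, nat_lit 7, nat_lit 8, nat_lit 1, nat_lit 7, nat_lit 2, nat_lit 1]))) (.node (nat_lit 0x2ce908bce930b4) (.leaf ((nat_lit 1), [nat_lit 1, nat_lit 9, nat_lit 5, nat_lit 9, nat_lit 5, nat_lit 7, nat_lit 6, nat_lit 8, nat_lit 6, nat_lit 7, nat_lit 6, nat_lit 4, nat_lit 2, nat_lit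 0])) (.node (nat_lit 0x2ceed464923e08) (.leaf ((nat_lit 0), [nat_lit 1, nat_lit 9, nat_lit 5, nat_lit 9, nat_lit 8, nat_lit 1, nat_lit 8, nat_lit 0, nat_lit 7, nat_lit 3, nat_lit 4, nat_lit 6, nat_lit 3, nat_lit 4])) (.leaf ((nat_lit 0), [nat_lit 9, nat_lit 7, nat_lit 5, nat_lit 0, nat_lit 9, nat_lit 8, nat_lit 5, nat_lit 1, nat_lit 7, nat_lit 4, nat_lit 6, nat_lit 5, nat_lit 4, nat_lit 3])))))
 (.node (nat_lit 0x2cfa77c267fe00) (.node (nat_lit 0x2cfa77410c1cc8) (.leaf ((nat_lit 0), [nat_lit 6, nat_lit 9, nat_lit 5, nat_lit 3, nat_lit 1, nat_lit 9, nat_lit 0, nat_lit 8, nat_lit 6, nat_lit 5, nat_lit 7, nat_lit 6, nat_lit 5, nat_lit 6, nat_lit 4, nat_lit 3, nat_lit 3, nat_lit 3])) (.leaf ((nat_lit 3), [nat_lit 6, nat_lit 9, nat_lit 5, nat_lit 9, nat_lit 0, nat_lit 8, nat_lit 7, nat_lit 5, nat_lit 6, nat_lit 7, nat_lit 5, nat_lit 3, nat_lit 6, nat_lit 5, nat_lit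 1]))) (.node (nat_lit 0x2cfa781b85a788) (.leaf ((nat_lit 2), [nat_lit 2, nat_lit 7, nat_lit 9, nat_lit 5, nat_lit 9, nat_lit 5, nat_lit 7, nat_lit 5, nat_lit 8, nat_lit 6, nat_lit 5, nat_lit 6, nat_lit 7, nat_lit 5])) (.node (nat_lit 0x2da2fe1c4be434) (.leaf ((nat_lit 5), [nat_lit 2, nat_lit 9, nat_lit 3, nat_lit 5, nat_lit 9, nat_lit 7, nat_lit 5, nat_lit 8, nat_lit 5, nat_lit 4, nat_lit 7, nat_lit 5, nat_lit 6, nat_lit 2, nat_lit 2, nat_lit 0])) (.leaf ((nat_lit 0), [nat_lit 2, nat_lit 9, nat_lit 3, nat_lit 5, nat_lit 9, nat_lit 4, nat_lit 7, nat_lit 6, nat_lit 8, nat_lit 6, nat_lit 2, nat_lit 4, nat_lit 6, nat_lit 2, nat_lit 4])))))))))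
 (.node (nat_lit 0x2ed138b3f8c694) (.node (nat_lit 0x2e8b76011a64c8) (.node (nat_lit 0x2dcbb151349488) (.node (nat_lit 0x2dba3c94ccc134) (.node (nat_lit 0x2db47120e192d4) (.node (nat_lit 0x2dae0eb3ebfde4) (.leaf ((nat_lit 0), [nat_lit 2, nat_lit 2, nat_lit 9, nat_lit 0, nat_lit 9, nat_lit 8, nat_lit 1, nat_lit 8, nat_lit 5, nat_lit 1, nat_lit 7, nat_lit 3, nat_lit 6, nat_lit 2, nat_lit 4, nat_lit 0])) (.leaf ((nat_lit 0), [nat_lit 9, nat_lit 7, nat_lit 5, nat_lit 0, nat_lit 9, nat_lit 8, nat_lit 5, nat_lit 2, nat_lit 8, nat_lit 1, nat_lit 7, nat_lit 2, nat_lit 2, nat_lit 6, nat_lit 2, nat_lit 4, nat_lit 3, nat_lit 1]))) (.node (nat_lit 0x2db471a23df9b4) (.leaf ((nat_lit 2), [nat_lit 9, nat_lit 7, nat_lit 5, nat_lit 0, nat_lit 9, nat_lit 2, nat_lit 6, nat_lit 8, nat_lit 5, nat_lit 7, nat_lit 5, nat_lit 3, nat_lit 6, nat_lit 2, nat_lit 4, nat_lit 3])) (.node (nat_lit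 0x2db471fb5b9504) (.leaf ((nat_lit 5), [nat_lit 2, nat_lit 2, nat_lit 9, nat_lit 0, nat_lit 9, nat_lit 2, nat_lit 8, nat_lit 2, nat_lit 4, nat_lit 7, nat_lit 5, nat_lit 4, nat_lit 3, nat_lit 3, nat_lit 0])) (.leaf ((nat_lit 3), [nat_lit 6, nat_lit 9, nat_lit 5, nat_lit 9, nat_lit 5, nat_lit 1, nat_lit 8, nat_lit 5, nat_lit 7, nat_lit 5, nat_lit 3, nat_lit 3, nat_lit 3, nat_lit 0])))))
 (.node (nat_lit 0x2dc54de4670978) (.node (nat_lit 0x2dc00d18e5b308) (.leaf ((nat_lit 0), [nat_lit 6, nat_lit 9, nat_lit 5, nat_lit 3, nat_lit 1, nat_lit 9, nat_lit 7, nat_lit 2, nat_lit 5, nat_lit 8, nat_lit 4, nat_lit 2, nat_lit 6, nat_lit 2, nat_lit 4, nat_lit 2])) (.leaf ((nat_lit 0), [nat_lit 2, nat_lit 2, nat_lit 9, nat_lit 1, nat_lit 9, nat_lit 2, nat_lit 2, nat_lit 8, nat_lit 7, nat_lit 3, nat_lit 4, nat_lit 7, nat_lit 6, nat_lit 5, nat_lit 4, nat_lit 1]))) (.node (nat_lit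 0x2dcbb0515ca140) (.leaf ((nat_lit 0), [nat_lit 2, nat_lit 7, nat_lit 9, nat_lit 5, nat_lit 9, nat_lit 3, nat_lit 1, nat_lit 8, nat_lit 4, nat_lit 2, nat_lit 6, nat_lit 3, nat_lit 0])) (.node (nat_lit 0x2dcbb0d598ee08) (.leaf ((nat_lit 2), [nat_lit 7, nat_lit 1, nat_lit 8, nat_lit 5, nat_lit 7, nat_lit 3, nat_lit 3, nat_lit 3, nat_lit 6, nat_lit 5, nat_lit 4, nat_lit 3, nat_lit 3, nat_lit 0])) (.leaf ((nat_lit 0), [nat_lit 6, nat_lit 9, nat_lit 5, nat_lit 9, nat_lit 5, nat_lit 8, nat_lit 0, nat_lit 8, nat_lit 0, nat_lit 7, nat_lit 2, nat_lit 2, nat_lit 6, nat_lit 5, nat_lit 4, nat_lit 0]))))))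
 (.node (nat_lit 0x2de2eee97c8874) (.node (nat_lit 0x2dd6bc79c9dd38) (.node (nat_lit 0x2dd17c7a62129c) (.leaf ((nat_lit 3), [nat_lit 1, nat_lit 9, nat_lit 5, nat_lit 9, nat_lit 5, nat_lit 0, nat_lit 7, nat_lit 8, nat_lit 4, nat_lit 7, nat_lit 4, nat_lit 2, nat_lit 6, nat_lit 5, nat_lit 2, nat_lit 0])) (.leaf ((nat_lit 0), [nat_lit 0, nat_lit 7, nat_lit 0, nat_lit 9, nat_lit 1, nat_lit 9, nat_lit 5, nat_lit 0, nat_lit 7, nat_lit 8, nat_lit 4, nat_lit 7, nat_lit 5, nat_lit 4, nat_lit 3, nat_lit 3, nat_lit 1]))) (.node (nat_lit 0x2ddc8d0f22438c) (.leaf ((nat_lit 0), [nat_lit 6, nat_lit 9, nat_lit 2, nat_lit 1, nat_lit 9, nat_lit 7, nat_lit 5, nat_lit 8, nat_lit 6, nat_lit 5, nat_lit 6, nat_lit 7, nat_lit 3, nat_lit 6, nat_lit 5, nat_lit 2, nat_lit 2])) (.node (nat_lit 0x2de2ee6b007c14) (.leaf ((nat_lit 0), [nat_lit 7, nat_lit 9, nat_lit 2, nat_lit 1, nat_lit 9,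 nat_lit 4, nat_lit 7, nat_lit 8, nat_lit 3, nat_lit 4, nat_lit 7, nat_lit 4, nat_lit 6, nat_lit 2, nat_lit 4, nat_lit 0])) (.leaf ((nat_lit 0), [nat_lit 6, nat_lit 3, nat_lit 1, nat_lit 8, nat_lit 7, nat_lit 5, nat_lit 1, nat_lit 7, nat_lit 5, nat_lit 3, nat_lit 6, nat_lit 5, nat_lit 2, nat_lit 4])))))
 (.node (nat_lit 0x2de8bf76352d6c) (.node (nat_lit 0x2de2ef429a2808) (.leaf ((nat_lit 1), [nat_lit 6, nat_lit 9, nat_lit 5, nat_lit 9, nat_lit 5, nat_lit 7, nat_lit 5, nat_lit 0, nat_lit 7, nat_lit 3, nat_lit 3, nat_lit 6, nat_lit 4, nat_lit 3, nat_lit 3, nat_lit 1])) (.leaf ((nat_lit 0), [nat_lit 4, nat_lit 1, nat_lit 9, nat_lit 5, nat_lit 9, nat_lit 2, nat_lit 5, nat_lit 8, nat_lit 7, nat_lit 1, nat_lit 7, nat_lit 2, nat_lit 6, nat_lit 2]))) (.node (nat_lit 0x2de8bfcf52d41c) (.leaf ((nat_lit 1), [nat_lit 6, nat_lit 9, nat_lit 5, nat_lit 9, nat_lit 7, nat_lit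 1, nat_lit 8, nat_lit 3, nat_lit 6, nat_lit 7, nat_lit 2, nat_lit 4, nat_lit 6, nat_lit 1])) (.node (nat_lit 0x2de8c050ae4ef4) (.leaf ((nat_lit 0), [nat_lit 1, nat_lit 9, nat_lit 5, nat_lit 9, nat_lit 8, nat_lit 7, nat_lit 0, nat_lit 8, nat_lit 0, nat_lit 7, nat_lit 5, nat_lit 4])) (.leaf ((nat_lit 1), [nat_lit 1, nat_lit 9, nat_lit 5, nat_lit 9, nat_lit 1, nat_lit 7, nat_lit 8, nat_lit 5, nat_lit 7, nat_lit 5, nat_lit 6, nat_lit 5, nat_lit 4])))))))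
 (.node (nat_lit 0x2eadc4987f2bf8) (.node (nat_lit 0x2e9ce9870c7a48) (.node (nat_lit 0x2e97187bd7cd34) (.node (nat_lit 0x2e90b6c6dbe9b8) (.leaf ((nat_lit 0), [nat_lit 6, nat_lit 9, nat_lit 2, nat_lit 1, nat_lit 9, nat_lit 7, nat_lit 5, nat_lit 6, nat_lit 8, nat_lit 0, nat_lit 7, nat_lit 6, nat_lit 4, nat_lit 2, nat_lit 0])) (.leaf ((nat_lit 0), [nat_lit 2, nat_lit 2, nat_lit 9, nat_lit 1, nat_lit 9, nat_lit 7, nat_lit 5, nat_lit 8, nat_lit 0, nat_lit 8, nat_lit 7, nat_lit 5, nat_lit 0, nat_lit 7, nat_lit 5, nat_lit 2, nat_lit 0]))) (.node (nat_lit 0x2e9718fa5353ec) (.leaf ((nat_lit 0), [nat_lit 4, nat_lit 1, nat_lit 9, nat_lit 5, nat_lit 9, nat_lit 3, nat_lit 6, nat_lit 8, nat_lit 5, nat_lit 7, nat_lit 2, nat_lit 2, nat_lit 6, nat_lit 2, nat_lit 1])) (.node (nat_lit 0x2e971953708a48) (.leaf ((nat_lit 0), [nat_lit 8, nat_lit 5, nat_lit 0, nat_lit 8, nat_lit 3,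 nat_lit 6, nat_lit 7, nat_lit 6, nat_lit 2, nat_lit 2, nat_lit 6, nat_lit 2, nat_lit 1])) (.leaf ((nat_lit 1), [nat_lit 6, nat_lit 9, nat_lit 5, nat_lit 9, nat_lit 2, nat_lit 4, nat_lit 7, nat_lit 2, nat_lit 6, nat_lit 5, nat_lit 4, nat_lit 2, nat_lit 1])))))
 (.node (nat_lit 0x2e9cea61851900) (.node (nat_lit 0x2e9ce9e02937c8) (.leaf ((nat_lit 0), [nat_lit 1, nat_lit 9, nat_lit 5, nat_lit 9, nat_lit 8, nat_lit 2, nat_lit 6, nat_lit 8, nat_lit 6, nat_lit 7, nat_lit 6, nat_lit 5, nat_lit 6, nat_lit 5])) (.leaf ((nat_lit 1), [nat_lit 1, nat_lit 9, nat_lit 5, nat_lit 9, nat_lit 6, nat_lit 3, nat_lit 0, nat_lit 8, nat_lit 5, nat_lit 0, nat_lit 7, nat_lit 3, nat_lit 4, nat_lit 6, nat_lit 2, nat_lit 2]))) (.node (nat_lit 0x2ea2b4069ee3c8) (.leaf ((nat_lit 1), [nat_lit 6, nat_lit 9, nat_lit 5, nat_lit 9, nat_lit 4, nat_lit 6, nat_lit 8, nat_lit 3, nat_lit 4, nat_lit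 7, nat_lit 6, nat_lit 2, nat_lit 2, nat_lit 6, nat_lit 3, nat_lit 4])) (.node (nat_lit 0x2ea884fad44adc) (.leaf ((nat_lit 0), [nat_lit 2, nat_lit 7, nat_lit 9, nat_lit 5, nat_lit 9, nat_lit 5, nat_lit 8, nat_lit 0, nat_lit 8, nat_lit 6, nat_lit 7, nat_lit 4, nat_lit 6, nat_lit 3, nat_lit 1])) (.leaf ((nat_lit 0), [nat_lit 6, nat_lit 9, nat_lit 5, nat_lit 3, nat_lit 1, nat_lit 9, nat_lit 4, nat_lit 3, nat_lit 8, nat_lit 5, nat_lit 7, nat_lit 4, nat_lit 2, nat_lit 2, nat_lit 6, nat_lit 5, nat_lit 2, nat_lit 4, nat_lit 2]))))))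
 (.node (nat_lit 0x2ebfc42b4f5ab4) (.node (nat_lit 0x2eb9f883a6491c) (.node (nat_lit 0x2eb39595544d4c) (.leaf ((nat_lit 0), [nat_lit 7, nat_lit 9, nat_lit 2, nat_lit 1, nat_lit 9, nat_lit 4, nat_lit 0, nat_lit 7, nat_lit 8, nat_lit 6, nat_lit 5, nat_lit 6, nat_lit 7, nat_lit 3, nat_lit 6, nat_lit 5, nat_lit 1])) (.leaf ((nat_lit 0), [nat_lit 2, nat_lit 9, nat_lit 3, nat_lit 5, nat_lit 9, nat_lit 6, nat_lit 3, nat_lit 8, nat_lit 7, nat_lit 3, nat_lit 4, nat_lit 7, nat_lit 3, nat_lit 6, nat_lit 3, nat_lit 0]))) (.node (nat_lit 0x2eb9f90501c3f4) (.leaf ((nat_lit 5), [nat_lit 4, nat_lit 1, nat_lit 9, nat_lit 5, nat_lit 9, nat_lit 7, nat_lit 6, nat_lit 8, nat_lit 4, nat_lit 7, nat_lit 6, nat_lit 4, nat_lit 2, nat_lit 6, nat_lit 3, nat_lit 0])) (.node (nat_lit 0x2eb9f95e1eeaac) (.leaf ((nat_lit 3), [nat_lit 6, nat_lit 9, nat_lit 5, nat_lit 9, nat_lit 8, nat_lit 6,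 nat_lit 3, nat_lit 8, nat_lit 5, nat_lit 1, nat_lit 7, nat_lit 4, nat_lit 0])) (.leaf ((nat_lit 2), [nat_lit 4, nat_lit 1, nat_lit 9, nat_lit 5, nat_lit 9, nat_lit 2, nat_lit 2, nat_lit 8, nat_lit 4, nat_lit 0, nat_lit 7, nat_lit 2, nat_lit 2, nat_lit 6, nat_lit 4, nat_lit 3, nat_lit 3, nat_lit 0])))))
 (.node (nat_lit 0x2ecad4c2ef7464) (.node (nat_lit 0x2ec503ba9aabcc) (.leaf ((nat_lit 0), [nat_lit 2, nat_lit 2, nat_lit 9, nat_lit 0, nat_lit 9, nat_lit 5, nat_lit 0, nat_lit 8, nat_lit 1, nat_lit 7, nat_lit 5, nat_lit 6, nat_lit 5, nat_lit 3, nat_lit 6, nat_lit 4, nat_lit 0])) (.leaf ((nat_lit 0), [nat_lit 9, nat_lit 7, nat_lit 5, nat_lit 0, nat_lit 9, nat_lit 8, nat_lit 3, nat_lit 1, nat_lit 8, nat_lit 2, nat_lit 4, nat_lit 7, nat_lit 4, nat_lit 2, nat_lit 2, nat_lit 6]))) (.node (nat_lit 0x2ed137b42158f4) (.leaf ((nat_lit 0), [nat_lit 0, nat_lit 7, nat_lit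 0, nat_lit 9, nat_lit 1, nat_lit 9, nat_lit 8, nat_lit 2, nat_lit 6, nat_lit 8, nat_lit 5, nat_lit 0, nat_lit 7, nat_lit 6, nat_lit 2, nat_lit 2, nat_lit 6, nat_lit 5, nat_lit 2])) (.node (nat_lit 0x2ed138385d9784) (.leaf ((nat_lit 0), [nat_lit 6, nat_lit 9, nat_lit 5, nat_lit 9, nat_lit 8, nat_lit 5, nat_lit 1, nat_lit 8, nat_lit 4, nat_lit 0, nat_lit 7, nat_lit 3, nat_lit 3, nat_lit 3, nat_lit 6, nat_lit 3, nat_lit 1])) (.leaf ((nat_lit 3), [nat_lit 1, nat_lit 9, nat_lit 5, nat_lit 9, nat_lit 3, nat_lit 8, nat_lit 7, nat_lit 2, nat_lit 4, nat_lit 7, nat_lit 5, nat_lit 6, nat_lit 5, nat_lit 3, nat_lit 6, nat_lit 5, nat_lit 2, nat_lit 2]))))))))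
 (.node (nat_lit 0x2f627fc66259c8) (.node (nat_lit 0x2f3fa0db2adbdc) (.node (nat_lit 0x2f2e34732d2714) (.node (nat_lit 0x2f2860041d2b74) (.node (nat_lit 0x2f229037fe66c8) (.leaf ((nat_lit 2), [nat_lit 1, nat_lit 7, nat_lit 5, nat_lit 8, nat_lit 1, nat_lit 7, nat_lit 6, nat_lit 3, nat_lit 4, nat_lit 3, nat_lit 0])) (.leaf ((nat_lit 0), [nat_lit 2, nat_lit 9, nat_lit 3, nat_lit 5, nat_lit 9, nat_lit 1, nat_lit 8, nat_lit 6, nat_lit 1, nat_lit 8, nat_lit 6, nat_lit 5, nat_lit 7, nat_lit 2, nat_lit 4, nat_lit 6, nat_lit 0]))) (.node (nat_lit 0x2f2e3370755ef4) (.leaf ((nat_lit 0), [nat_lit 0, nat_lit 7, nat_lit 0, nat_lit 9, nat_lit 1, nat_lit 9, nat_lit 2, nat_lit 8, nat_lit 7, nat_lit 4, nat_lit 2, nat_lit 6, nat_lit 2, nat_lit 0])) (.node (nat_lit 0x2f2e33f1d1b908) (.leaf ((nat_lit 2), [nat_lit 6, nat_lit 9, nat_lit 5, nat_lit 3, nat_lit 1, nat_lit 9, nat_lit 2,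 nat_lit 6, nat_lit 8, nat_lit 3, nat_lit 6, nat_lit 1, nat_lit 7, nat_lit 6, nat_lit 3, nat_lit 1])) (.leaf ((nat_lit 3), [nat_lit 6, nat_lit 3, nat_lit 8, nat_lit 4, nat_lit 3])))))
 (.node (nat_lit 0x2f3404f4663300) (.node (nat_lit 0x2f3404702a6a74) (.leaf ((nat_lit 6), [nat_lit 0, nat_lit 7, nat_lit 0, nat_lit 9, nat_lit 1, nat_lit 9, nat_lit 4, nat_lit 6, nat_lit 8, nat_lit 6, nat_lit 7, nat_lit 6, nat_lit 5, nat_lit 6, nat_lit 5, nat_lit 1])) (.leaf ((nat_lit 0), [nat_lit 6, nat_lit 2, nat_lit 1, nat_lit 8, nat_lit 6, nat_lit 2, nat_lit 4, nat_lit 7, nat_lit 4, nat_lit 2, nat_lit 2, nat_lit 6, nat_lit 0]))) (.node (nat_lit 0x2f34057002c6f4) (.leaf ((nat_lit 3), [nat_lit 6, nat_lit 9, nat_lit 5, nat_lit 9, nat_lit 1, nat_lit 8, nat_lit 2, nat_lit 4, nat_lit 7, nat_lit 6, nat_lit 5, nat_lit 3, nat_lit 6, nat_lit 3, nat_lit 3, nat_lit 1])) (.node (nat_lit 0x2f3942228e0be4)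 (.leaf ((nat_lit 0), [nat_lit 4, nat_lit 1, nat_lit 9, nat_lit 5, nat_lit 9, nat_lit 7, nat_lit 2, nat_lit 1, nat_lit 8, nat_lit 5, nat_lit 6, nat_lit 7, nat_lit 3, nat_lit 4, nat_lit 6, nat_lit 3])) (.leaf ((nat_lit 0), [nat_lit 2, nat_lit 2, nat_lit 9, nat_lit 1, nat_lit 9, nat_lit 1, nat_lit 7, nat_lit 8, nat_lit 5, nat_lit 0, nat_lit 7, nat_lit 3, nat_lit 6, nat_lit 4, nat_lit 3, nat_lit 1]))))))
 (.node (nat_lit 0x2f5112644c9448) (.node (nat_lit 0x2f4b43bd648d88) (.node (nat_lit 0x2f456f0396e474) (.leaf ((nat_lit 0), [nat_lit 2, nat_lit 2, nat_lit 9, nat_lit 1, nat_lit 9, nat_lit 0, nat_lit 8, nat_lit 6, nat_lit 1, nat_lit 8, nat_lit 7, nat_lit 3, nat_lit 3, nat_lit 3, nat_lit 6, nat_lit 4, nat_lit 0])) (.leaf ((nat_lit 0), [nat_lit 0, nat_lit 7, nat_lit 0, nat_lit 9, nat_lit 1, nat_lit 9, nat_lit 6, nat_lit 7, nat_lit 1, nat_lit 8, nat_lit 4, nat_lit 1,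 nat_lit 7, nat_lit 6, nat_lit 4, nat_lit 2, nat_lit 2, nat_lit 0]))) (.node (nat_lit 0x2f4b443ec06d54) (.leaf ((nat_lit 0), [nat_lit 6, nat_lit 7, nat_lit 2, nat_lit 1, nat_lit 8, nat_lit 5, nat_lit 4, nat_lit 7, nat_lit 3, nat_lit 6, nat_lit 1])) (.node (nat_lit 0x2f4b4497de16dc) (.leaf ((nat_lit 1), [nat_lit 6, nat_lit 9, nat_lit 5, nat_lit 9, nat_lit 5, nat_lit 2, nat_lit 8, nat_lit 5, nat_lit 7, nat_lit 5, nat_lit 7, nat_lit 6, nat_lit 2, nat_lit 4])) (.leaf ((nat_lit 0), [nat_lit 4, nat_lit 1, nat_lit 9, nat_lit 5, nat_lit 9, nat_lit 6, nat_lit 2, nat_lit 8, nat_lit 6, nat_lit 1, nat_lit 7, nat_lit 3, nat_lit 4, nat_lit 3, nat_lit 3, nat_lit 6, nat_lit 3, nat_lit 3])))))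
 (.node (nat_lit 0x2f511341a58eec) (.node (nat_lit 0x2f5112c04a1f74) (.leaf ((nat_lit 2), [nat_lit 7, nat_lit 9, nat_lit 6, nat_lit 0, nat_lit 9, nat_lit 6, nat_lit 5, nat_lit 2, nat_lit 8, nat_lit 5, nat_lit 1, nat_lit 7, nat_lit 4, nat_lit 6, nat_lit 2, nat_lit 2])) (.leaf ((nat_lit 0), [nat_lit 4, nat_lit 1, nat_lit 9, nat_lit 5, nat_lit 9, nat_lit 8, nat_lit 1, nat_lit 7, nat_lit 8, nat_lit 7, nat_lit 2, nat_lit 4, nat_lit 7, nat_lit 3, nat_lit 0]))) (.node (nat_lit 0x2f564f6475d5cc) (.leaf ((nat_lit 0), [nat_lit 7, nat_lit 5, nat_lit 6, nat_lit 8, nat_lit 5, nat_lit 0, nat_lit 7, nat_lit 6, nat_lit 5, nat_lit 6, nat_lit 0])) (.node (nat_lit 0x2f5c1f36546d64) (.leaf ((nat_lit 0), [nat_lit 0, nat_lit 7, nat_lit 0, nat_lit 9, nat_lit 1, nat_lit 9, nat_lit 2, nat_lit 8, nat_lit 4, nat_lit 2, nat_lit 2, nat_lit 6, nat_lit 5, nat_lit 3, nat_lit 3, nat_lit 0]))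 (.leaf ((nat_lit 0), [nat_lit 2, nat_lit 2, nat_lit 9, nat_lit 1, nat_lit 9, nat_lit 5, nat_lit 7, nat_lit 5, nat_lit 8, nat_lit 7, nat_lit 1, nat_lit 7, nat_lit 6, nat_lit 4, nat_lit 3, nat_lit 3])))))))
 (.node (nat_lit 0x3021b849ca9ecc) (.node (nat_lit 0x3010d7e8ebad74) (.node (nat_lit 0x2f685213441408) (.node (nat_lit 0x2f685194c88084) (.leaf ((nat_lit 0), [nat_lit 2, nat_lit 9, nat_lit 3, nat_lit 5, nat_lit 9, nat_lit 3, nat_lit 8, nat_lit 6, nat_lit 1, nat_lit 8, nat_lit 4, nat_lit 0, nat_lit 7, nat_lit 6, nat_lit 5, nat_lit 1])) (.leaf ((nat_lit 6), [nat_lit 4, nat_lit 9, nat_lit 0, nat_lit 9, nat_lit 3, nat_lit 6, nat_lit 8, nat_lit 7, nat_lit 5, nat_lit 0, nat_lit 7, nat_lit 4, nat_lit 2, nat_lit 6, nat_lit 1]))) (.node (nat_lit 0x2f68526c60ca6c) (.leaf ((nat_lit 2), [nat_lit 2, nat_lit 2, nat_lit 9, nat_lit 0, nat_lit 9, nat_lit 4, nat_lit 0, nat_lit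 7, nat_lit 6, nat_lit 4, nat_lit 3, nat_lit 6, nat_lit 3, nat_lit 3])) (.node (nat_lit 0x2f6d8eb76fcd38) (.leaf ((nat_lit 3), [nat_lit 1, nat_lit 9, nat_lit 5, nat_lit 9, nat_lit 0, nat_lit 7, nat_lit 8, nat_lit 6, nat_lit 1, nat_lit 7, nat_lit 6, nat_lit 5, nat_lit 3, nat_lit 6, nat_lit 2, nat_lit 2])) (.leaf ((nat_lit 0), [nat_lit 2, nat_lit 9, nat_lit 3, nat_lit 5, nat_lit 9, nat_lit 7, nat_lit 5, nat_lit 8, nat_lit 6, nat_lit 1, nat_lit 7, nat_lit 4, nat_lit 2, nat_lit 6, nat_lit 5])))))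
 (.node (nat_lit 0x301c7ba59ee59c) (.node (nat_lit 0x3016a7b50a6ddc) (.leaf ((nat_lit 0), [nat_lit 7, nat_lit 9, nat_lit 2, nat_lit 1, nat_lit 9, nat_lit 5, nat_lit 7, nat_lit 8, nat_lit 6, nat_lit 7, nat_lit 5, nat_lit 4, nat_lit 2, nat_lit 1])) (.leaf ((nat_lit 0), [nat_lit 9, nat_lit 7, nat_lit 5, nat_lit 0, nat_lit 9, nat_lit 7, nat_lit 5, nat_lit 0, nat_lit 8, nat_lit 1, nat_lit 7, nat_lit 5, nat_lit 6, nat_lit 3, nat_lit 3]))) (.node (nat_lit 0x301c7c241a6c54) (.leaf ((nat_lit 2), [nat_lit 2, nat_lit 7, nat_lit 9, nat_lit 5, nat_lit 9, nat_lit 2, nat_lit 6, nat_lit 2, nat_lit 8, nat_lit 6, nat_lit 5, nat_lit 7, nat_lit 3, nat_lit 6, nat_lit 5, nat_lit 0])) (.node (nat_lit 0x301c7c7d37a588) (.leaf ((nat_lit 3), [nat_lit 1, nat_lit 9, nat_lit 5, nat_lit 9, nat_lit 2, nat_lit 8, nat_lit 6, nat_lit 7, nat_lit 6, nat_lit 3, nat_lit 4, nat_lit 3, nat_lit 3, nat_lit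 0])) (.leaf ((nat_lit 6), [nat_lit 8, nat_lit 5, nat_lit 8, nat_lit 5, nat_lit 6, nat_lit 7, nat_lit 5, nat_lit 6, nat_lit 5, nat_lit 3, nat_lit 6, nat_lit 4, nat_lit 2, nat_lit 0]))))))
 (.node (nat_lit 0x30398b239426c0) (.node (nat_lit 0x302de8191bc488) (.node (nat_lit 0x3027881ba93664) (.leaf ((nat_lit 0), [nat_lit 9, nat_lit 7, nat_lit 5, nat_lit 0, nat_lit 9, nat_lit 7, nat_lit 8, nat_lit 0, nat_lit 8, nat_lit 5, nat_lit 6, nat_lit 7, nat_lit 2, nat_lit 2, nat_lit 6, nat_lit 5])) (.leaf ((nat_lit 0), [nat_lit 2, nat_lit 7, nat_lit 9, nat_lit 5, nat_lit 9, nat_lit 0, nat_lit 8, nat_lit 6, nat_lit 1, nat_lit 8, nat_lit 5, nat_lit 7, nat_lit 5, nat_lit 7, nat_lit 4, nat_lit 3]))) (.node (nat_lit 0x3033b6b48426dc) (.leaf ((nat_lit 0), [nat_lit 2, nat_lit 7, nat_lit 9, nat_lit 5, nat_lit 9, nat_lit 2, nat_lit 1, nat_lit 8, nat_lit 5, nat_lit 1, nat_lit 7, nat_lit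 6, nat_lit 5, nat_lit 6, nat_lit 1])) (.node (nat_lit 0x30398aa238b5dc) (.leaf ((nat_lit 0), [nat_lit 9, nat_lit 7, nat_lit 5, nat_lit 0, nat_lit 9, nat_lit 1, nat_lit 8, nat_lit 7, nat_lit 1, nat_lit 8, nat_lit 3, nat_lit 6, nat_lit 1, nat_lit 7, nat_lit 3, nat_lit 6, nat_lit 2, nat_lit 2])) (.leaf ((nat_lit 3), [nat_lit 7, nat_lit 8, nat_lit 4, nat_lit 7, nat_lit 6, nat_lit 2, nat_lit 4, nat_lit 6, nat_lit 4, nat_lit 2, nat_lit 2])))))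
 (.node (nat_lit 0x303f5ba1edc2c8) (.node (nat_lit 0x30398ba4f0f844) (.leaf ((nat_lit 6), [nat_lit 3, nat_lit 6, nat_lit 9, nat_lit 3, nat_lit 5, nat_lit 8, nat_lit 5, nat_lit 4, nat_lit 7, nat_lit 2, nat_lit 6, nat_lit 5, nat_lit 3, nat_lit 4, nat_lit 3])) (.leaf ((nat_lit 2), [nat_lit 5, nat_lit 1, nat_lit 8, nat_lit 6, nat_lit 3, nat_lit 4, nat_lit 7, nat_lit 6, nat_lit 2, nat_lit 4, nat_lit 0]))) (.node (nat_lit 0x303f5c262a02c4) (.leaf ((nat_lit 0), [nat_lit 4, nat_lit 1, nat_lit 9, nat_lit 5, nat_lit 9, nat_lit 3, nat_lit 7, nat_lit 5, nat_lit 8, nat_lit 6, nat_lit 1, nat_lit 7, nat_lit 5, nat_lit 2, nat_lit 4, nat_lit 2])) (.node (nat_lit 0x303f5ca1c534ac) (.leaf ((nat_lit 0), [nat_lit 7, nat_lit 5, nat_lit 6, nat_lit 8, nat_lit 6, nat_lit 7, nat_lit 3, nat_lit 3, nat_lit 3, nat_lit 6, nat_lit 3, nat_lit 0])) (.leaf ((nat_lit 3), [nat_lit 6, nat_lit 9,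 nat_lit 5, nat_lit 9, nat_lit 7, nat_lit 0, nat_lit 8, nat_lit 1, nat_lit 7, nat_lit 3, nat_lit 6, nat_lit 4, nat_lit 3, nat_lit 3, nat_lit 3])))))))))))
 (.node (nat_lit 0x508d76d2185048) (.node (nat_lit 0x3fb2860756e428) (.node (nat_lit 0x3253674e80e1fc) (.node (nat_lit 0x311c2ff527ad08) (.node (nat_lit 0x30f951298f2f5c) (.node (nat_lit 0x3050cbfaa1da00) (.node (nat_lit 0x3050cb20293cb4) (.node (nat_lit 0x304af735549674) (.leaf ((nat_lit 0), [nat_lit 7, nat_lit 9, nat_lit 2, nat_lit 1, nat_lit 9, nat_lit 4, nat_lit 0, nat_lit 7, nat_lit 8, nat_lit 6, nat_lit 7, nat_lit 2, nat_lit 4, nat_lit 3])) (.leaf ((nat_lit 0), [nat_lit 7, nat_lit 9, nat_lit 2, nat_lit 1, nat_lit 9, nat_lit 0, nat_lit 7, nat_lit 8, nat_lit 7, nat_lit 5, nat_lit 3, nat_lit 4, nat_lit 3]))) (.node (nat_lit 0x3050cba184b4b4) (.leaf ((nat_lit 0), [nat_lit 4, nat_lit 1, nat_lit 9, nat_lit 5,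 nat_lit 9, nat_lit 3, nat_lit 5, nat_lit 8, nat_lit 6, nat_lit 0, nat_lit 7, nat_lit 6, nat_lit 5, nat_lit 3, nat_lit 6, nat_lit 4])) (.leaf ((nat_lit 0), [nat_lit 8, nat_lit 2, nat_lit 1, nat_lit 8, nat_lit 5, nat_lit 7, nat_lit 5, nat_lit 7, nat_lit 6, nat_lit 3, nat_lit 3, nat_lit 6, nat_lit 4, nat_lit 2, nat_lit 1]))))
 (.node (nat_lit 0x30569a230dde54) (.node (nat_lit 0x305699c7114208) (.leaf ((nat_lit 1), [nat_lit 1, nat_lit 9, nat_lit 5, nat_lit 9, nat_lit 7, nat_lit 0, nat_lit 8, nat_lit 6, nat_lit 7, nat_lit 5, nat_lit 6, nat_lit 3, nat_lit 3])) (.leaf ((nat_lit 0), [nat_lit 4, nat_lit 1, nat_lit 9, nat_lit 5, nat_lit 9, nat_lit 3, nat_lit 5, nat_lit 8, nat_lit 0, nat_lit 7, nat_lit 4, nat_lit 2, nat_lit 2, nat_lit 1]))) (.node (nat_lit 0x30569aa469d374) (.leaf ((nat_lit 0), [nat_lit 7, nat_lit 5, nat_lit 6, nat_lit 8, nat_lit 0, nat_lit 7, nat_lit 6,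 nat_lit 2, nat_lit 2, nat_lit 6, nat_lit 2, nat_lit 2])) (.node (nat_lit 0x305bd79ed344e4) (.leaf ((nat_lit 2), [nat_lit 3, nat_lit 6, nat_lit 8, nat_lit 6, nat_lit 3, nat_lit 4, nat_lit 7, nat_lit 2, nat_lit 2, nat_lit 6, nat_lit 5, nat_lit 1])) (.leaf ((nat_lit 0), [nat_lit 2, nat_lit 7, nat_lit 9, nat_lit 5, nat_lit 9, nat_lit 5, nat_lit 8, nat_lit 0, nat_lit 8, nat_lit 6, nat_lit 5, nat_lit 6, nat_lit 7, nat_lit 4, nat_lit 2, nat_lit 0]))))))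
 (.node (nat_lit 0x310ac3d7e79bc0) (.node (nat_lit 0x3104f530ff966c) (.node (nat_lit 0x30ff20f5adf408) (.leaf ((nat_lit 0), [nat_lit 6, nat_lit 9, nat_lit 2, nat_lit 1, nat_lit 9, nat_lit 2, nat_lit 7, nat_lit 6, nat_lit 8, nat_lit 7, nat_lit 5, nat_lit 0, nat_lit 7, nat_lit 4, nat_lit 2, nat_lit 6, nat_lit 4])) (.leaf ((nat_lit 0), [nat_lit 2, nat_lit 2, nat_lit 9, nat_lit 0, nat_lit 9, nat_lit 5, nat_lit 8, nat_lit 0, nat_lit 8, nat_lit 6, nat_lit 5, nat_lit 7, nat_lit 2, nat_lit 6, nat_lit 3, nat_lit 1]))) (.node (nat_lit 0x3104f5b25bf908) (.leaf ((nat_lit 1), [nat_lit 6, nat_lit 9, nat_lit 5, nat_lit 9, nat_lit 5, nat_lit 7, nat_lit 5, nat_lit 8, nat_lit 3, nat_lit 6, nat_lit 1, nat_lit 7, nat_lit 2, nat_lit 2, nat_lit 1])) (.node (nat_lit 0x3104f60b7995c4) (.leaf ((nat_lit 0), [nat_lit 4, nat_lit 1, nat_lit 9, nat_lit 5, nat_lit 9, nat_lit 2, nat_lit 1,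 nat_lit 8, nat_lit 6, nat_lit 5, nat_lit 7, nat_lit 3, nat_lit 6, nat_lit 3, nat_lit 3, nat_lit 3])) (.leaf ((nat_lit 0), [nat_lit 3, nat_lit 8, nat_lit 6, nat_lit 1, nat_lit 8, nat_lit 6, nat_lit 5, nat_lit 7, nat_lit 2, nat_lit 6, nat_lit 4])))))
 (.node (nat_lit 0x310ac4b541165c) (.node (nat_lit 0x310ac433e59b84) (.leaf ((nat_lit 0), [nat_lit 7, nat_lit 8, nat_lit 5, nat_lit 8, nat_lit 0, nat_lit 7, nat_lit 3, nat_lit 3, nat_lit 1])) (.leaf ((nat_lit 2), [nat_lit 2, nat_lit 2, nat_lit 8, nat_lit 3, nat_lit 6, nat_lit 7, nat_lit 6, nat_lit 4]))) (.node (nat_lit 0x311001596cd0f8) (.leaf ((nat_lit 0), [nat_lit 4, nat_lit 1, nat_lit 9, nat_lit 5, nat_lit 9, nat_lit 7, nat_lit 5, nat_lit 1, nat_lit 8, nat_lit 5, nat_lit 7, nat_lit 5, nat_lit 7, nat_lit 5, nat_lit 6, nat_lit 2, nat_lit 4, nat_lit 2])) (.node (nat_lit 0x311660e6c2ecb4) (.leaf ((nat_lit 0), [nat_lit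 6, nat_lit 9, nat_lit 2, nat_lit 1, nat_lit 9, nat_lit 2, nat_lit 7, nat_lit 5, nat_lit 8, nat_lit 1, nat_lit 7, nat_lit 3, nat_lit 4, nat_lit 3, nat_lit 0])) (.leaf ((nat_lit 0), [nat_lit 6, nat_lit 9, nat_lit 5, nat_lit 3, nat_lit 1, nat_lit 9, nat_lit 4, nat_lit 7, nat_lit 4, nat_lit 2, nat_lit 6, nat_lit 5, nat_lit 2, nat_lit 4, nat_lit 0])))))))
 (.node (nat_lit 0x313943eaf077dc) (.node (nat_lit 0x312da033fd0e5c) (.node (nat_lit 0x31220386deb3b4) (.node (nat_lit 0x3122030862a8c0) (.leaf ((nat_lit 0), [nat_lit 2, nat_lit 2, nat_lit 9, nat_lit 0, nat_lit 9, nat_lit 5, nat_lit 0, nat_lit 8, nat_lit 5, nat_lit 6, nat_lit 5, nat_lit 2, nat_lit 1])) (.leaf ((nat_lit 3), [nat_lit 1, nat_lit 9, nat_lit 5, nat_lit 9, nat_lit 6, nat_lit 8, nat_lit 0, nat_lit 8, nat_lit 6, nat_lit 5, nat_lit 7, nat_lit 2, nat_lit 6, nat_lit 5, nat_lit 3, nat_lit 0]))) (.node (nat_lit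 0x312203dffc54b4) (.leaf ((nat_lit 6), [nat_lit 5, nat_lit 9, nat_lit 3, nat_lit 9, nat_lit 6, nat_lit 1, nat_lit 8, nat_lit 6, nat_lit 1, nat_lit 7, nat_lit 3, nat_lit 3, nat_lit 3, nat_lit 6, nat_lit 2, nat_lit 4])) (.node (nat_lit 0x31274150419b24) (.leaf ((nat_lit 2), [nat_lit 1, nat_lit 9, nat_lit 5, nat_lit 9, nat_lit 5, nat_lit 8, nat_lit 7, nat_lit 2, nat_lit 4, nat_lit 7, nat_lit 6, nat_lit 4, nat_lit 3, nat_lit 6, nat_lit 4, nat_lit 3, nat_lit 3, nat_lit 0])) (.leaf ((nat_lit 0), [nat_lit 6, nat_lit 9, nat_lit 5, nat_lit 3, nat_lit 1, nat_lit 9, nat_lit 3, nat_lit 7, nat_lit 8, nat_lit 7, nat_lit 0, nat_lit 7, nat_lit 6, nat_lit 2, nat_lit 4, nat_lit 6])))))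
 (.node (nat_lit 0x313372e85b1348) (.node (nat_lit 0x31337266ff226c) (.leaf ((nat_lit 0), [nat_lit 6, nat_lit 9, nat_lit 2, nat_lit 1, nat_lit 9, nat_lit 7, nat_lit 5, nat_lit 8, nat_lit 5, nat_lit 6, nat_lit 7, nat_lit 3, nat_lit 4, nat_lit 6, nat_lit 2, nat_lit 4, nat_lit 0])) (.leaf ((nat_lit 6), [nat_lit 9, nat_lit 7, nat_lit 5, nat_lit 0, nat_lit 9, nat_lit 8, nat_lit 5, nat_lit 8, nat_lit 1, nat_lit 7, nat_lit 4, nat_lit 2, nat_lit 6, nat_lit 5, nat_lit 4, nat_lit 2]))) (.node (nat_lit 0x31337369b77034) (.leaf ((nat_lit 2), [nat_lit 6, nat_lit 9, nat_lit 5, nat_lit 9, nat_lit 1, nat_lit 8, nat_lit 4, nat_lit 0, nat_lit 7, nat_lit 2, nat_lit 2, nat_lit 6, nat_lit 5])) (.node (nat_lit 0x31394366b42b14) (.leaf ((nat_lit 3), [nat_lit 7, nat_lit 5, nat_lit 1, nat_lit 8, nat_lit 3, nat_lit 6, nat_lit 1, nat_lit 7, nat_lit 3])) (.leaf ((nat_lit 3), [nat_lit 6,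 nat_lit 9, nat_lit 5, nat_lit 9, nat_lit 4, nat_lit 7, nat_lit 8, nat_lit 5, nat_lit 6, nat_lit 7, nat_lit 3, nat_lit 3, nat_lit 6, nat_lit 0]))))))
 (.node (nat_lit 0x31f09f74f1e3f8) (.node (nat_lit 0x313e7fdce1d28c) (.node (nat_lit 0x313944668c1fc8) (.leaf ((nat_lit 0), [nat_lit 4, nat_lit 1, nat_lit 9, nat_lit 5, nat_lit 9, nat_lit 6, nat_lit 8, nat_lit 1, nat_lit 7, nat_lit 2, nat_lit 2, nat_lit 6, nat_lit 5, nat_lit 4, nat_lit 1])) (.leaf ((nat_lit 0), [nat_lit 8, nat_lit 5, nat_lit 0, nat_lit 8, nat_lit 6, nat_lit 7, nat_lit 6, nat_lit 5, nat_lit 3, nat_lit 4, nat_lit 1]))) (.node (nat_lit 0x31444faec06a24) (.leaf ((nat_lit 0), [nat_lit 2, nat_lit 2, nat_lit 9, nat_lit 0, nat_lit 9, nat_lit 0, nat_lit 8, nat_lit 6, nat_lit 1, nat_lit 8, nat_lit 5, nat_lit 4, nat_lit 7, nat_lit 2, nat_lit 2, nat_lit 6, nat_lit 0])) (.node (nat_lit 0x31eacb9831fa3c) (.leaf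 ((nat_lit 0), [nat_lit 6, nat_lit 9, nat_lit 5, nat_lit 3, nat_lit 1, nat_lit 9, nat_lit 4, nat_lit 1, nat_lit 7, nat_lit 4, nat_lit 6, nat_lit 2, nat_lit 4, nat_lit 3])) (.leaf ((nat_lit 4), [nat_lit 6, nat_lit 9, nat_lit 2, nat_lit 1, nat_lit 9, nat_lit 7, nat_lit 5, nat_lit 6, nat_lit 8, nat_lit 6, nat_lit 0, nat_lit 7, nat_lit 2, nat_lit 6, nat_lit 0])))))
 (.node (nat_lit 0x32195242a2d668) (.node (nat_lit 0x32020a0af305bc) (.leaf ((nat_lit 1), [nat_lit 6, nat_lit 3, nat_lit 0, nat_lit 8, nat_lit 6, nat_lit 1, nat_lit 7, nat_lit 6, nat_lit 2, nat_lit 4, nat_lit 6, nat_lit 2, nat_lit 1])) (.leaf ((nat_lit 0), [nat_lit 6, nat_lit 9, nat_lit 2, nat_lit 1, nat_lit 9, nat_lit 1, nat_lit 7, nat_lit 8, nat_lit 6, nat_lit 1, nat_lit 7, nat_lit 6, nat_lit 5, nat_lit 3, nat_lit 3]))) (.node (nat_lit 0x322abd7c851038) (.leaf ((nat_lit 0), [nat_lit 2, nat_lit 7, nat_lit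 9, nat_lit 5, nat_lit 9, nat_lit 3, nat_lit 6, nat_lit 8, nat_lit 5, nat_lit 4, nat_lit 7, nat_lit 6, nat_lit 4, nat_lit 2, nat_lit 6, nat_lit 5, nat_lit 3, nat_lit 3])) (.node (nat_lit 0x3242002ddf88e8) (.leaf ((nat_lit 0), [nat_lit 0, nat_lit 7, nat_lit 0, nat_lit 9, nat_lit 1, nat_lit 9, nat_lit 7, nat_lit 1, nat_lit 7, nat_lit 8, nat_lit 5, nat_lit 6, nat_lit 5, nat_lit 4, nat_lit 2])) (.leaf ((nat_lit 1), [nat_lit 8, nat_lit 7, nat_lit 1, nat_lit 8, nat_lit 7, nat_lit 3, nat_lit 4, nat_lit 6, nat_lit 5, nat_lit 4]))))))))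
 (.node (nat_lit 0x38e301dc13b708) (.node (nat_lit 0x3700a0c567d438) (.node (nat_lit 0x36a9789551f66c) (.node (nat_lit 0x327c1a195830f8) (.node (nat_lit 0x32593f4d1b2168) (.leaf ((nat_lit 0), [nat_lit 6, nat_lit 9, nat_lit 2, nat_lit 1, nat_lit 9, nat_lit 4, nat_lit 7, nat_lit 8, nat_lit 5, nat_lit 7, nat_lit 4, nat_lit 2, nat_lit 6, nat_lit 5, nat_lit 4, nat_lit 2])) (.leaf ((nat_lit 1), [nat_lit 7, nat_lit 5, nat_lit 1, nat_lit 8, nat_lit 5, nat_lit 4, nat_lit 7, nat_lit 3, nat_lit 6, nat_lit 5, nat_lit 4, nat_lit 2, nat_lit 1]))) (.node (nat_lit 0x3680c5fe3ee548) (.leaf ((nat_lit 1), [nat_lit 0, nat_lit 7, nat_lit 0, nat_lit 9, nat_lit 1, nat_lit 9, nat_lit 8, nat_lit 5, nat_lit 8, nat_lit 6, nat_lit 3, nat_lit 3, nat_lit 6, nat_lit 2, nat_lit 1])) (.node (nat_lit 0x369800f5da45e8) (.leaf ((nat_lit 0), [nat_lit 6, nat_lit 9, nat_lit 2, nat_lit 1, nat_lit 9,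 nat_lit 3, nat_lit 7, nat_lit 5, nat_lit 8, nat_lit 6, nat_lit 0, nat_lit 7, nat_lit 6, nat_lit 4, nat_lit 3, nat_lit 6, nat_lit 3, nat_lit 1])) (.leaf ((nat_lit 1), [nat_lit 1, nat_lit 8, nat_lit 7, nat_lit 5, nat_lit 0, nat_lit 7, nat_lit 2, nat_lit 4, nat_lit 6, nat_lit 4, nat_lit 2, nat_lit 0])))))
 (.node (nat_lit 0x36bae3dab36e48) (.node (nat_lit 0x36b51009735c28) (.leaf ((nat_lit 0), [nat_lit 0, nat_lit 7, nat_lit 0, nat_lit 9, nat_lit 1, nat_lit 9, nat_lit 2, nat_lit 2, nat_lit 8, nat_lit 5, nat_lit 4, nat_lit 7, nat_lit 6, nat_lit 2, nat_lit 4, nat_lit 6, nat_lit 3, nat_lit 0])) (.leaf ((nat_lit 0), [nat_lit 2, nat_lit 7, nat_lit 9, nat_lit 5, nat_lit 9, nat_lit 6, nat_lit 8, nat_lit 7, nat_lit 4, nat_lit 6, nat_lit 3, nat_lit 3, nat_lit 3, nat_lit 1]))) (.node (nat_lit 0x36d22a99cd8418) (.leaf ((nat_lit 1), [nat_lit 4, nat_lit 8, nat_lit 0, nat_lit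 8, nat_lit 5, nat_lit 1, nat_lit 7, nat_lit 6, nat_lit 3, nat_lit 3, nat_lit 6, nat_lit 5, nat_lit 3, nat_lit 1])) (.node (nat_lit 0x36e969b9091c98) (.leaf ((nat_lit 0), [nat_lit 6, nat_lit 9, nat_lit 2, nat_lit 1, nat_lit 9, nat_lit 8, nat_lit 7, nat_lit 8, nat_lit 5, nat_lit 8, nat_lit 5, nat_lit 6, nat_lit 7, nat_lit 6, nat_lit 4, nat_lit 2, nat_lit 1])) (.leaf ((nat_lit 1), [nat_lit 2, nat_lit 8, nat_lit 5, nat_lit 1, nat_lit 7, nat_lit 6, nat_lit 5, nat_lit 3, nat_lit 6, nat_lit 2, nat_lit 4, nat_lit 3, nat_lit 1]))))))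
 (.node (nat_lit 0x3880333197cd38) (.node (nat_lit 0x386324155efcb8) (.node (nat_lit 0x3712145fc4468c) (.leaf ((nat_lit 0), [nat_lit 0, nat_lit 7, nat_lit 0, nat_lit 9, nat_lit 1, nat_lit 9, nat_lit 2, nat_lit 8, nat_lit 6, nat_lit 5, nat_lit 7, nat_lit 6, nat_lit 2, nat_lit 4, nat_lit 6, nat_lit 5, nat_lit 3, nat_lit 4, nat_lit 0])) (.leaf ((nat_lit 4), [nat_lit 2, nat_lit 7, nat_lit 9, nat_lit 5, nat_lit 9, nat_lit 4, nat_lit 0, nat_lit 7, nat_lit 8, nat_lit 3, nat_lit 3, nat_lit 6, nat_lit 1]))) (.node (nat_lit 0x386ec7cc9d65cc) (.leaf ((nat_lit 1), [nat_lit 8, nat_lit 2, nat_lit 6, nat_lit 8, nat_lit 4, nat_lit 0, nat_lit 7, nat_lit 6, nat_lit 5, nat_lit 2, nat_lit 1])) (.node (nat_lit 0x38749bc6165658) (.leaf ((nat_lit 0), [nat_lit 2, nat_lit 7, nat_lit 9, nat_lit 5, nat_lit 9, nat_lit 2, nat_lit 6, nat_lit 1, nat_lit 8, nat_lit 6, nat_lit 5, nat_lit 1,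 nat_lit 7, nat_lit 3, nat_lit 4, nat_lit 6, nat_lit 5, nat_lit 0])) (.leaf ((nat_lit 1), [nat_lit 6, nat_lit 2, nat_lit 1, nat_lit 8, nat_lit 3, nat_lit 6, nat_lit 1, nat_lit 7, nat_lit 2, nat_lit 4, nat_lit 6, nat_lit 2, nat_lit 4])))))
 (.node (nat_lit 0x38ba574f37ec2c) (.node (nat_lit 0x38a3160811cecc) (.leaf ((nat_lit 1), [nat_lit 7, nat_lit 0, nat_lit 7, nat_lit 6, nat_lit 5, nat_lit 3, nat_lit 6, nat_lit 5, nat_lit 2, nat_lit 4, nat_lit 0])) (.leaf ((nat_lit 0), [nat_lit 2, nat_lit 7, nat_lit 9, nat_lit 5, nat_lit 9, nat_lit 2, nat_lit 1, nat_lit 8, nat_lit 4, nat_lit 3, nat_lit 6, nat_lit 5, nat_lit 4]))) (.node (nat_lit 0x38cbbe7e38a0a8) (.leaf ((nat_lit 0), [nat_lit 0, nat_lit 7, nat_lit 0, nat_lit 9, nat_lit 1, nat_lit 9, nat_lit 6, nat_lit 7, nat_lit 1, nat_lit 8, nat_lit 4, nat_lit 1, nat_lit 7, nat_lit 6, nat_lit 2, nat_lit 4, nat_lit 6, nat_lit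 0])) (.node (nat_lit 0x38d1964914b2ec) (.leaf ((nat_lit 1), [nat_lit 7, nat_lit 5, nat_lit 8, nat_lit 6, nat_lit 1, nat_lit 7, nat_lit 6, nat_lit 4, nat_lit 3, nat_lit 6, nat_lit 3])) (.leaf ((nat_lit 4), [nat_lit 0, nat_lit 7, nat_lit 0, nat_lit 9, nat_lit 1, nat_lit 9, nat_lit 7, nat_lit 8, nat_lit 7, nat_lit 0, nat_lit 8, nat_lit 4, nat_lit 0, nat_lit 7, nat_lit 3, nat_lit 6, nat_lit 5, nat_lit 4, nat_lit 3, nat_lit 3])))))))
 (.node (nat_lit 0x3d4a84812f456c) (.node (nat_lit 0x3bff3a3d48e2cc) (.node (nat_lit 0x3b90c8824b50f8) (.node (nat_lit 0x3b7991872c0dd8) (.leaf ((nat_lit 1), [nat_lit 0, nat_lit 7, nat_lit 8, nat_lit 2, nat_lit 4, nat_lit 7, nat_lit 4, nat_lit 3, nat_lit 3, nat_lit 6, nat_lit 2, nat_lit 4, nat_lit 2, nat_lit 1])) (.leaf ((nat_lit 0), [nat_lit 2, nat_lit 7, nat_lit 9, nat_lit 5, nat_lit 9, nat_lit 5, nat_lit 1, nat_lit 8, nat_lit 6, nat_lit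 1, nat_lit 7, nat_lit 2, nat_lit 6]))) (.node (nat_lit 0x3b9c6c4229744c) (.leaf ((nat_lit 1), [nat_lit 8, nat_lit 0, nat_lit 7, nat_lit 8, nat_lit 6, nat_lit 0, nat_lit 7, nat_lit 6, nat_lit 3, nat_lit 0])) (.node (nat_lit 0x3ba237fda6e0b8) (.leaf ((nat_lit 1), [nat_lit 8, nat_lit 5, nat_lit 0, nat_lit 8, nat_lit 6, nat_lit 4, nat_lit 3, nat_lit 6, nat_lit 5, nat_lit 3, nat_lit 4, nat_lit 3, nat_lit 3])) (.leaf ((nat_lit 1), [nat_lit 5, nat_lit 6, nat_lit 8, nat_lit 5, nat_lit 1, nat_lit 7, nat_lit 5, nat_lit 3, nat_lit 6, nat_lit 5, nat_lit 2, nat_lit 4, nat_lit 1])))))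
 (.node (nat_lit 0x3c27ecff7a66d8) (.node (nat_lit 0x3c16755a42b038) (.leaf ((nat_lit 1), [nat_lit 2, nat_lit 5, nat_lit 8, nat_lit 7, nat_lit 3, nat_lit 4, nat_lit 3, nat_lit 3, nat_lit 6, nat_lit 5, nat_lit 3, nat_lit 3, nat_lit 3])) (.leaf ((nat_lit 0), [nat_lit 6, nat_lit 9, nat_lit 2, nat_lit 1, nat_lit 9, nat_lit 7, nat_lit 5, nat_lit 6, nat_lit 7, nat_lit 5, nat_lit 2, nat_lit 0]))) (.node (nat_lit 0x3c395841fc264c) (.leaf ((nat_lit 4), [nat_lit 2, nat_lit 7, nat_lit 9, nat_lit 5, nat_lit 9, nat_lit 8, nat_lit 7, nat_lit 0, nat_lit 8, nat_lit 7, nat_lit 5, nat_lit 1, nat_lit 7, nat_lit 6, nat_lit 4, nat_lit 1])) (.node (nat_lit 0x3c44fbead4c298) (.leaf ((nat_lit 0), [nat_lit 0, nat_lit 7, nat_lit 0, nat_lit 9, nat_lit 1, nat_lit 9, nat_lit 2, nat_lit 7, nat_lit 8, nat_lit 6, nat_lit 7, nat_lit 4, nat_lit 2, nat_lit 6])) (.leaf ((nat_lit 0), [nat_lit 2,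 nat_lit 7, nat_lit 9, nat_lit 5, nat_lit 9, nat_lit 6, nat_lit 2, nat_lit 8, nat_lit 5, nat_lit 6, nat_lit 7, nat_lit 6, nat_lit 5, nat_lit 4, nat_lit 2, nat_lit 0]))))))
 (.node (nat_lit 0x3df307ef659138) (.node (nat_lit 0x3d61c3a06addec) (.node (nat_lit 0x3d5beba1d06e28) (.leaf ((nat_lit 0), [nat_lit 6, nat_lit 9, nat_lit 2, nat_lit 1, nat_lit 9, nat_lit 7, nat_lit 5, nat_lit 6, nat_lit 8, nat_lit 5, nat_lit 6, nat_lit 7, nat_lit 2, nat_lit 6, nat_lit 5, nat_lit 3, nat_lit 0])) (.leaf ((nat_lit 4), [nat_lit 0, nat_lit 7, nat_lit 0, nat_lit 9, nat_lit 1, nat_lit 9, nat_lit 8, nat_lit 2, nat_lit 6, nat_lit 0, nat_lit 8, nat_lit 6, nat_lit 5, nat_lit 7, nat_lit 2, nat_lit 4, nat_lit 6]))) (.node (nat_lit 0x3d849e69c79fc8) (.leaf ((nat_lit 1), [nat_lit 5, nat_lit 8, nat_lit 0, nat_lit 8, nat_lit 7, nat_lit 5, nat_lit 1, nat_lit 7, nat_lit 4, nat_lit 6, nat_lit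 4, nat_lit 2, nat_lit 1])) (.node (nat_lit 0x3de76435476fbc) (.leaf ((nat_lit 0), [nat_lit 2, nat_lit 7, nat_lit 9, nat_lit 5, nat_lit 9, nat_lit 7, nat_lit 8, nat_lit 7, nat_lit 1, nat_lit 8, nat_lit 3, nat_lit 4, nat_lit 7, nat_lit 6, nat_lit 4, nat_lit 2, nat_lit 6, nat_lit 1])) (.leaf ((nat_lit 1), [nat_lit 4, nat_lit 7, nat_lit 6, nat_lit 8, nat_lit 3, nat_lit 4, nat_lit 7, nat_lit 4, nat_lit 2, nat_lit 2, nat_lit 6, nat_lit 5, nat_lit 3, nat_lit 4, nat_lit 3])))))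
 (.node (nat_lit 0x3e0472efc356bc) (.node (nat_lit 0x3df8dbe31e7ba8) (.leaf ((nat_lit 4), [nat_lit 6, nat_lit 9, nat_lit 2, nat_lit 1, nat_lit 9, nat_lit 6, nat_lit 2, nat_lit 8, nat_lit 0, nat_lit 7, nat_lit 4, nat_lit 2, nat_lit 2, nat_lit 6, nat_lit 2])) (.leaf ((nat_lit 1), [nat_lit 3, nat_lit 7, nat_lit 8, nat_lit 6, nat_lit 7, nat_lit 3, nat_lit 6, nat_lit 3, nat_lit 3, nat_lit 0]))) (.node (nat_lit 0x3e15ea80db4b28) (.leaf ((nat_lit 0), [nat_lit 2, nat_lit 7, nat_lit 9, nat_lit 5, nat_lit 9, nat_lit 7, nat_lit 1, nat_lit 7, nat_lit 8, nat_lit 4, nat_lit 1, nat_lit 7, nat_lit 6, nat_lit 2, nat_lit 2, nat_lit 6, nat_lit 4])) (.node (nat_lit 0x3e2756251a28b8) (.leaf ((nat_lit 0), [nat_lit 0, nat_lit 7, nat_lit 0, nat_lit 9, nat_lit 1, nat_lit 9, nat_lit 2, nat_lit 7, nat_lit 8, nat_lit 6, nat_lit 5, nat_lit 7, nat_lit 2, nat_lit 4, nat_lit 6, nat_lit 4, nat_lit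 2, nat_lit 0])) (.leaf ((nat_lit 0), [nat_lit 6, nat_lit 9, nat_lit 2, nat_lit 1, nat_lit 9, nat_lit 7, nat_lit 8, nat_lit 7, nat_lit 0, nat_lit 8, nat_lit 4, nat_lit 0, nat_lit 7, nat_lit 4, nat_lit 3, nat_lit 1])))))))))
 (.node (nat_lit 0x4e81d7f51b3c24) (.node (nat_lit 0x4d9fc49f718ab4) (.node (nat_lit 0x4d7c529d8678a4) (.node (nat_lit 0x41d4db07bf3ea8) (.node (nat_lit 0x3fcf9700c0a128) (.node (nat_lit 0x3fb85be3c66ec8) (.leaf ((nat_lit 0), [nat_lit 0, nat_lit 7, nat_lit 0, nat_lit 9, nat_lit 1, nat_lit 9, nat_lit 8, nat_lit 1, nat_lit 7, nat_lit 8, nat_lit 3, nat_lit 4, nat_lit 6, nat_lit 3, nat_lit 0])) (.leaf ((nat_lit 1), [nat_lit 5, nat_lit 8, nat_lit 2, nat_lit 1, nat_lit 8, nat_lit 6, nat_lit 5, nat_lit 7, nat_lit 4, nat_lit 2, nat_lit 6, nat_lit 4, nat_lit 1]))) (.node (nat_lit 0x3fe10cb787c22c) (.leaf ((nat_lit 0), [nat_lit 0, nat_lit 7, nat_lit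 0, nat_lit 9, nat_lit 1, nat_lit 9, nat_lit 8, nat_lit 4, nat_lit 6, nat_lit 8, nat_lit 7, nat_lit 5, nat_lit 7, nat_lit 3, nat_lit 3, nat_lit 6, nat_lit 5, nat_lit 4, nat_lit 3])) (.node (nat_lit 0x3ff277ee89ae48) (.leaf ((nat_lit 1), [nat_lit 8, nat_lit 7, nat_lit 8, nat_lit 5, nat_lit 8, nat_lit 7, nat_lit 0, nat_lit 7, nat_lit 2, nat_lit 6, nat_lit 2, nat_lit 4, nat_lit 2, nat_lit 0])) (.leaf ((nat_lit 1), [nat_lit 8, nat_lit 2, nat_lit 1, nat_lit 8, nat_lit 5, nat_lit 1, nat_lit 7, nat_lit 2, nat_lit 4, nat_lit 6, nat_lit 3, nat_lit 3, nat_lit 0])))))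
 (.node (nat_lit 0x4214c4cdb635b8) (.node (nat_lit 0x41fd81645b47bc) (.leaf ((nat_lit 1), [nat_lit 5, nat_lit 7, nat_lit 6, nat_lit 8, nat_lit 6, nat_lit 7, nat_lit 6, nat_lit 2, nat_lit 4, nat_lit 6, nat_lit 4, nat_lit 1])) (.leaf ((nat_lit 1), [nat_lit 7, nat_lit 5, nat_lit 6, nat_lit 8, nat_lit 5, nat_lit 7, nat_lit 2, nat_lit 6, nat_lit 3, nat_lit 4, nat_lit 3, nat_lit 1]))) (.node (nat_lit 0x4d7146191c9ef4) (.leaf ((nat_lit 0), [nat_lit 6, nat_lit 9, nat_lit 2, nat_lit 1, nat_lit 9, nat_lit 5, nat_lit 7, nat_lit 6, nat_lit 8, nat_lit 6, nat_lit 0, nat_lit 7])) (.node (nat_lit 0x4d7714eb23461c) (.leaf ((nat_lit 0), [nat_lit 7, nat_lit 9, nat_lit 2, nat_lit 1, nat_lit 9, nat_lit 1, nat_lit 7, nat_lit 8, nat_lit 6, nat_lit 0, nat_lit 7, nat_lit 4, nat_lit 6, nat_lit 3, nat_lit 4])) (.leaf ((nat_lit 0), [nat_lit 2, nat_lit 7, nat_lit 9, nat_lit 5, nat_lit 9,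 nat_lit 6, nat_lit 5, nat_lit 2, nat_lit 8, nat_lit 7, nat_lit 3, nat_lit 4, nat_lit 6, nat_lit 1]))))))
 (.node (nat_lit 0x4d8e54077ef748) (.node (nat_lit 0x4d8880c0859144) (.node (nat_lit 0x4d822269a5390c) (.leaf ((nat_lit 0), [nat_lit 6, nat_lit 9, nat_lit 2, nat_lit 1, nat_lit 9, nat_lit 7, nat_lit 2, nat_lit 1, nat_lit 8, nat_lit 7, nat_lit 5, nat_lit 6, nat_lit 7, nat_lit 2, nat_lit 4])) (.leaf ((nat_lit 0), [nat_lit 2, nat_lit 2, nat_lit 9, nat_lit 0, nat_lit 9, nat_lit 8, nat_lit 6, nat_lit 2, nat_lit 8, nat_lit 5, nat_lit 7, nat_lit 5, nat_lit 0, nat_lit 7, nat_lit 5, nat_lit 2, nat_lit 4, nat_lit 1]))) (.node (nat_lit 0x4d888141e10c1c) (.leaf ((nat_lit 0), [nat_lit 8, nat_lit 5, nat_lit 0, nat_lit 8, nat_lit 6, nat_lit 5, nat_lit 1, nat_lit 7, nat_lit 5, nat_lit 6, nat_lit 3])) (.node (nat_lit 0x4d8881c33c7d00) (.leaf ((nat_lit 0), [nat_lit 1, nat_lit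 9, nat_lit 5, nat_lit 9, nat_lit 2, nat_lit 5, nat_lit 8, nat_lit 7, nat_lit 4, nat_lit 3, nat_lit 6, nat_lit 5, nat_lit 4, nat_lit 3, nat_lit 3])) (.leaf ((nat_lit 2), [nat_lit 2, nat_lit 7, nat_lit 5, nat_lit 8, nat_lit 6, nat_lit 7, nat_lit 2, nat_lit 4, nat_lit 3, nat_lit 6, nat_lit 4, nat_lit 2, nat_lit 2, nat_lit 1])))))
 (.node (nat_lit 0x4d99f0447ffd74) (.node (nat_lit 0x4d9390ba0a3c38) (.leaf ((nat_lit 0), [nat_lit 2, nat_lit 9, nat_lit 3, nat_lit 5, nat_lit 9, nat_lit 6, nat_lit 8, nat_lit 0, nat_lit 8, nat_lit 7, nat_lit 5, nat_lit 3, nat_lit 0])) (.leaf ((nat_lit 0), [nat_lit 2, nat_lit 9, nat_lit 3, nat_lit 5, nat_lit 9, nat_lit 1, nat_lit 8, nat_lit 6, nat_lit 1, nat_lit 8, nat_lit 6, nat_lit 7, nat_lit 3, nat_lit 6, nat_lit 5, nat_lit 2]))) (.node (nat_lit 0x4d99f0a35d6e88) (.leaf ((nat_lit 6), [nat_lit 7, nat_lit 0, nat_lit 9, nat_lit 7, nat_lit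 2, nat_lit 5, nat_lit 8, nat_lit 0, nat_lit 7, nat_lit 3, nat_lit 6, nat_lit 5, nat_lit 3])) (.node (nat_lit 0x4d99f121d8f3d4) (.leaf ((nat_lit 3), [nat_lit 5, nat_lit 0, nat_lit 8, nat_lit 5, nat_lit 7, nat_lit 5, nat_lit 7, nat_lit 6, nat_lit 3, nat_lit 3])) (.leaf ((nat_lit 2), [nat_lit 2, nat_lit 7, nat_lit 9, nat_lit 5, nat_lit 9, nat_lit 8, nat_lit 7, nat_lit 1, nat_lit 8, nat_lit 4, nat_lit 6, nat_lit 5, nat_lit 2])))))))
 (.node (nat_lit 0x4e5f8dca09e15c) (.node (nat_lit 0x4db6fe32e24eac) (.node (nat_lit 0x4daacffea4a7e4) (.node (nat_lit 0x4da59471501e08) (.leaf ((nat_lit 0), [nat_lit 2, nat_lit 2, nat_lit 9, nat_lit 0, nat_lit 9, nat_lit 4, nat_lit 7, nat_lit 8, nat_lit 6, nat_lit 3, nat_lit 4, nat_lit 7, nat_lit 5, nat_lit 4, nat_lit 0])) (.leaf ((nat_lit 0), [nat_lit 6, nat_lit 9, nat_lit 5, nat_lit 3, nat_lit 1, nat_lit 9, nat_lit 3, nat_lit 7, nat_lit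 0, nat_lit 8, nat_lit 5, nat_lit 7, nat_lit 5, nat_lit 0, nat_lit 7, nat_lit 2, nat_lit 4, nat_lit 6, nat_lit 2, nat_lit 0]))) (.node (nat_lit 0x4db0a0effa2638) (.leaf ((nat_lit 0), [nat_lit 2, nat_lit 7, nat_lit 9, nat_lit 5, nat_lit 9, nat_lit 3, nat_lit 6, nat_lit 8, nat_lit 4, nat_lit 1, nat_lit 7, nat_lit 3, nat_lit 6, nat_lit 2, nat_lit 4, nat_lit 3])) (.node (nat_lit 0x4db6fdd6e53dc8) (.leaf ((nat_lit 0), [nat_lit 9, nat_lit 7, nat_lit 5, nat_lit 0, nat_lit 9, nat_lit 6, nat_lit 5, nat_lit 2, nat_lit 8, nat_lit 6, nat_lit 2, nat_lit 2, nat_lit 6, nat_lit 4, nat_lit 3, nat_lit 3, nat_lit 3, nat_lit 1])) (.leaf ((nat_lit 0), [nat_lit 8, nat_lit 5, nat_lit 8, nat_lit 6, nat_lit 5, nat_lit 1, nat_lit 7, nat_lit 5, nat_lit 6, nat_lit 5, nat_lit 3, nat_lit 4])))))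
 (.node (nat_lit 0x4dbccf12f86108) (.node (nat_lit 0x4db6feb43eb2b4) (.leaf ((nat_lit 1), [nat_lit 4, nat_lit 1, nat_lit 9, nat_lit 5, nat_lit 9, nat_lit 5, nat_lit 8, nat_lit 6, nat_lit 7, nat_lit 3, nat_lit 4, nat_lit 3, nat_lit 3, nat_lit 6, nat_lit 2, nat_lit 2, nat_lit 0])) (.leaf ((nat_lit 0), [nat_lit 1, nat_lit 9, nat_lit 5, nat_lit 9, nat_lit 2, nat_lit 5, nat_lit 8, nat_lit 7, nat_lit 3, nat_lit 4, nat_lit 7, nat_lit 3, nat_lit 6, nat_lit 4, nat_lit 2, nat_lit 1]))) (.node (nat_lit 0x4dbccf9a148e08) (.leaf ((nat_lit 2), [nat_lit 7, nat_lit 8, nat_lit 1, nat_lit 8, nat_lit 3, nat_lit 4, nat_lit 7, nat_lit 2, nat_lit 4, nat_lit 3, nat_lit 6, nat_lit 2, nat_lit 4, nat_lit 3, nat_lit 1])) (.node (nat_lit 0x4dbccff0515a40) (.leaf ((nat_lit 5), [nat_lit 1, nat_lit 9, nat_lit 5, nat_lit 9, nat_lit 0, nat_lit 8, nat_lit 3, nat_lit 6, nat_lit 7, nat_lit 3, nat_lit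 3, nat_lit 6, nat_lit 5, nat_lit 4, nat_lit 3, nat_lit 0])) (.leaf ((nat_lit 3), [nat_lit 6, nat_lit 9, nat_lit 5, nat_lit 9, nat_lit 5, nat_lit 1, nat_lit 8, nat_lit 3, nat_lit 6, nat_lit 7, nat_lit 6, nat_lit 3, nat_lit 3, nat_lit 6, nat_lit 5, nat_lit 2]))))))
 (.node (nat_lit 0x4e70f89413b594) (.node (nat_lit 0x4e6a98d2ffb978) (.node (nat_lit 0x4e655c23545d48) (.leaf ((nat_lit 0), [nat_lit 2, nat_lit 9, nat_lit 3, nat_lit 5, nat_lit 9, nat_lit 2, nat_lit 6, nat_lit 1, nat_lit 8, nat_lit 7, nat_lit 1, nat_lit 7, nat_lit 3, nat_lit 4, nat_lit 6, nat_lit 2, nat_lit 2, nat_lit 1])) (.leaf ((nat_lit 0), [nat_lit 2, nat_lit 2, nat_lit 9, nat_lit 1, nat_lit 9, nat_lit 3, nat_lit 0, nat_lit 8, nat_lit 6, nat_lit 5, nat_lit 1, nat_lit 7, nat_lit 2, nat_lit 2, nat_lit 6, nat_lit 0]))) (.node (nat_lit 0x4e70f7b6bb2f88) (.leaf ((nat_lit 0), [nat_lit 6, nat_lit 9, nat_lit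 2, nat_lit 1, nat_lit 9, nat_lit 2, nat_lit 7, nat_lit 8, nat_lit 2, nat_lit 4, nat_lit 7, nat_lit 3, nat_lit 3, nat_lit 6])) (.node (nat_lit 0x4e70f812b7d734) (.leaf ((nat_lit 0), [nat_lit 1, nat_lit 9, nat_lit 5, nat_lit 9, nat_lit 8, nat_lit 5, nat_lit 8, nat_lit 3, nat_lit 4, nat_lit 7, nat_lit 4, nat_lit 2, nat_lit 6, nat_lit 3])) (.leaf ((nat_lit 0), [nat_lit 8, nat_lit 5, nat_lit 0, nat_lit 8, nat_lit 6, nat_lit 5, nat_lit 0, nat_lit 7, nat_lit 3, nat_lit 3, nat_lit 3, nat_lit 1])))))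
 (.node (nat_lit 0x4e76c979e9952c) (.node (nat_lit 0x4e76c8f2ce515c) (.leaf ((nat_lit 1), [nat_lit 6, nat_lit 9, nat_lit 5, nat_lit 9, nat_lit 0, nat_lit 7, nat_lit 8, nat_lit 5, nat_lit 7, nat_lit 5, nat_lit 7, nat_lit 5, nat_lit 1])) (.leaf ((nat_lit 5), [nat_lit 1, nat_lit 9, nat_lit 5, nat_lit 9, nat_lit 2, nat_lit 6, nat_lit 3, nat_lit 8, nat_lit 4, nat_lit 0, nat_lit 7, nat_lit 5, nat_lit 4, nat_lit 3]))) (.node (nat_lit 0x4e76c9d026e434) (.leaf ((nat_lit 3), [nat_lit 6, nat_lit 9, nat_lit 5, nat_lit 9, nat_lit 8, nat_lit 0, nat_lit 8, nat_lit 5, nat_lit 6, nat_lit 7, nat_lit 3])) (.node (nat_lit 0x4e7c9b456fdff4) (.leaf ((nat_lit 2), [nat_lit 8, nat_lit 0, nat_lit 7, nat_lit 8, nat_lit 6, nat_lit 4, nat_lit 2, nat_lit 6, nat_lit 5])) (.leaf ((nat_lit 0), [nat_lit 6, nat_lit 9, nat_lit 2, nat_lit 1, nat_lit 9, nat_lit 7, nat_lit 5, nat_lit 8, nat_lit 6,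 nat_lit 1, nat_lit 7, nat_lit 4, nat_lit 2, nat_lit 2, nat_lit 6, nat_lit 2]))))))))
 (.node (nat_lit 0x4f6a52bcb266e4) (.node (nat_lit 0x4eab17a41e8840) (.node (nat_lit 0x4e93dc199da79c) (.node (nat_lit 0x4e8e0823496134) (.node (nat_lit 0x4e87a94b0d8cb8) (.leaf ((nat_lit 0), [nat_lit 2, nat_lit 2, nat_lit 9, nat_lit 1, nat_lit 9, nat_lit 5, nat_lit 0, nat_lit 8, nat_lit 6, nat_lit 7, nat_lit 6, nat_lit 2, nat_lit 2, nat_lit 6, nat_lit 2, nat_lit 2])) (.leaf ((nat_lit 0), [nat_lit 0, nat_lit 7, nat_lit 0, nat_lit 9, nat_lit 1, nat_lit 9, nat_lit 2, nat_lit 8, nat_lit 7, nat_lit 4, nat_lit 3, nat_lit 6, nat_lit 3, nat_lit 0]))) (.node (nat_lit 0x4e8e08a4a4d0ac) (.leaf ((nat_lit 0), [nat_lit 1, nat_lit 9, nat_lit 5, nat_lit 9, nat_lit 6, nat_lit 5, nat_lit 2, nat_lit 8, nat_lit 6, nat_lit 7, nat_lit 6, nat_lit 5, nat_lit 4, nat_lit 3, nat_lit 1])) (.node (nat_lit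 0x4e8e092600c188) (.leaf ((nat_lit 2), [nat_lit 2, nat_lit 7, nat_lit 5, nat_lit 8, nat_lit 3, nat_lit 4, nat_lit 7, nat_lit 6, nat_lit 2, nat_lit 0])) (.leaf ((nat_lit 0), [nat_lit 2, nat_lit 8, nat_lit 6, nat_lit 5, nat_lit 0, nat_lit 7, nat_lit 6, nat_lit 5, nat_lit 6, nat_lit 4, nat_lit 1])))))
 (.node (nat_lit 0x4e9ee8a0e76ce4) (.node (nat_lit 0x4e99abeb7c3f34) (.leaf ((nat_lit 0), [nat_lit 9, nat_lit 7, nat_lit 5, nat_lit 0, nat_lit 9, nat_lit 2, nat_lit 8, nat_lit 6, nat_lit 5, nat_lit 7, nat_lit 4, nat_lit 6, nat_lit 4, nat_lit 3, nat_lit 3, nat_lit 0])) (.leaf ((nat_lit 0), [nat_lit 2, nat_lit 7, nat_lit 9, nat_lit 5, nat_lit 9, nat_lit 3, nat_lit 1, nat_lit 8, nat_lit 4, nat_lit 0, nat_lit 7, nat_lit 4, nat_lit 3, nat_lit 3, nat_lit 6, nat_lit 4]))) (.node (nat_lit 0x4ea4b86d062d4c) (.leaf ((nat_lit 0), [nat_lit 7, nat_lit 9, nat_lit 2, nat_lit 1, nat_lit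 9, nat_lit 7, nat_lit 8, nat_lit 5, nat_lit 7, nat_lit 6, nat_lit 2, nat_lit 2])) (.node (nat_lit 0x4eab174542005c) (.leaf ((nat_lit 0), [nat_lit 9, nat_lit 7, nat_lit 5, nat_lit 0, nat_lit 9, nat_lit 2, nat_lit 8, nat_lit 3, nat_lit 4, nat_lit 7, nat_lit 3, nat_lit 3, nat_lit 3, nat_lit 6, nat_lit 3, nat_lit 4])) (.leaf ((nat_lit 3), [nat_lit 0, nat_lit 8, nat_lit 5, nat_lit 1, nat_lit 7, nat_lit 6, nat_lit 4, nat_lit 2, nat_lit 6, nat_lit 5, nat_lit 2, nat_lit 4]))))))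
 (.node (nat_lit 0x4f58e35b360478) (.node (nat_lit 0x4f48070aad6788) (.node (nat_lit 0x4eab18229b7104) (.leaf ((nat_lit 2), [nat_lit 5, nat_lit 6, nat_lit 8, nat_lit 6, nat_lit 1, nat_lit 7, nat_lit 6, nat_lit 5, nat_lit 6, nat_lit 3, nat_lit 4])) (.leaf ((nat_lit 6), [nat_lit 1, nat_lit 7, nat_lit 0, nat_lit 9, nat_lit 7, nat_lit 8, nat_lit 5, nat_lit 8, nat_lit 4, nat_lit 0, nat_lit 7, nat_lit 2, nat_lit 6]))) (.node (nat_lit 0x4f4dd4f3db6e34) (.leaf ((nat_lit 0), [nat_lit 6, nat_lit 9, nat_lit 2, nat_lit 1, nat_lit 9, nat_lit 7, nat_lit 5, nat_lit 8, nat_lit 1, nat_lit 8, nat_lit 4, nat_lit 1, nat_lit 7, nat_lit 5, nat_lit 0])) (.node (nat_lit 0x4f5311a0a6e1a4) (.leaf ((nat_lit 0), [nat_lit 6, nat_lit 9, nat_lit 5, nat_lit 3, nat_lit 1, nat_lit 9, nat_lit 8, nat_lit 0, nat_lit 8, nat_lit 7, nat_lit 5, nat_lit 7, nat_lit 4, nat_lit 3, nat_lit 3, nat_lit 6,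 nat_lit 3, nat_lit 3, nat_lit 3, nat_lit 0])) (.leaf ((nat_lit 0), [nat_lit 6, nat_lit 9, nat_lit 5, nat_lit 3, nat_lit 1, nat_lit 9, nat_lit 2, nat_lit 7, nat_lit 8, nat_lit 6, nat_lit 7, nat_lit 3, nat_lit 3, nat_lit 6, nat_lit 2, nat_lit 4, nat_lit 1])))))
 (.node (nat_lit 0x4f5f41b4f564c8) (.node (nat_lit 0x4f5f4156185cec) (.leaf ((nat_lit 0), [nat_lit 2, nat_lit 2, nat_lit 9, nat_lit 0, nat_lit 9, nat_lit 3, nat_lit 5, nat_lit 6, nat_lit 8, nat_lit 7, nat_lit 3, nat_lit 4, nat_lit 7, nat_lit 2, nat_lit 4])) (.leaf ((nat_lit 2), [nat_lit 2, nat_lit 2, nat_lit 9, nat_lit 1, nat_lit 9, nat_lit 7, nat_lit 2, nat_lit 1, nat_lit 8, nat_lit 6, nat_lit 7, nat_lit 6, nat_lit 5, nat_lit 3, nat_lit 6, nat_lit 2, nat_lit 4, nat_lit 3, nat_lit 0]))) (.node (nat_lit 0x4f5f423371d8f4) (.leaf ((nat_lit 6), [nat_lit 6, nat_lit 7, nat_lit 2, nat_lit 1, nat_lit 8, nat_lit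 0, nat_lit 7, nat_lit 3, nat_lit 4, nat_lit 6, nat_lit 3])) (.node (nat_lit 0x4f6514131703dc) (.leaf ((nat_lit 3), [nat_lit 3, nat_lit 7, nat_lit 8, nat_lit 1, nat_lit 7, nat_lit 4, nat_lit 6, nat_lit 4, nat_lit 3, nat_lit 3])) (.leaf ((nat_lit 0), [nat_lit 7, nat_lit 9, nat_lit 2, nat_lit 1, nat_lit 9, nat_lit 8, nat_lit 2, nat_lit 6, nat_lit 0, nat_lit 8, nat_lit 6, nat_lit 7, nat_lit 4, nat_lit 3, nat_lit 3])))))))
 (.node (nat_lit 0x4f8d2fab19f538) (.node (nat_lit 0x4f7c5055921314) (.node (nat_lit 0x4f767f197ef140) (.node (nat_lit 0x4f702288d1274c) (.leaf ((nat_lit 0), [nat_lit 2, nat_lit 9, nat_lit 3, nat_lit 5, nat_lit 9, nat_lit 6, nat_lit 3, nat_lit 8, nat_lit 4, nat_lit 1, nat_lit 7, nat_lit 6, nat_lit 5, nat_lit 4, nat_lit 3, nat_lit 3])) (.leaf ((nat_lit 0), [nat_lit 0, nat_lit 7, nat_lit 0, nat_lit 9, nat_lit 1, nat_lit 9, nat_lit 2, nat_lit 2, nat_lit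 8, nat_lit 3, nat_lit 6, nat_lit 7, nat_lit 6, nat_lit 2]))) (.node (nat_lit 0x4f767f757c821c) (.leaf ((nat_lit 1), [nat_lit 6, nat_lit 9, nat_lit 5, nat_lit 9, nat_lit 6, nat_lit 3, nat_lit 0, nat_lit 8, nat_lit 7, nat_lit 0, nat_lit 7, nat_lit 6, nat_lit 5, nat_lit 3, nat_lit 6, nat_lit 4, nat_lit 2])) (.node (nat_lit 0x4f767ff6d8dac4) (.leaf ((nat_lit 0), [nat_lit 1, nat_lit 9, nat_lit 5, nat_lit 9, nat_lit 7, nat_lit 8, nat_lit 7, nat_lit 1, nat_lit 8, nat_lit 7, nat_lit 0, nat_lit 7, nat_lit 4, nat_lit 6, nat_lit 2, nat_lit 2])) (.leaf ((nat_lit 0), [nat_lit 2, nat_lit 8, nat_lit 5, nat_lit 6, nat_lit 7, nat_lit 4, nat_lit 2, nat_lit 6, nat_lit 3, nat_lit 3, nat_lit 3, nat_lit 1])))))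
 (.node (nat_lit 0x4f7c5132eb91f4) (.node (nat_lit 0x4f7c50dcaeb784) (.leaf ((nat_lit 3), [nat_lit 6, nat_lit 9, nat_lit 5, nat_lit 9, nat_lit 7, nat_lit 0, nat_lit 8, nat_lit 2, nat_lit 2, nat_lit 6, nat_lit 3, nat_lit 3, nat_lit 1])) (.leaf ((nat_lit 2), [nat_lit 1, nat_lit 9, nat_lit 5, nat_lit 9, nat_lit 2, nat_lit 7, nat_lit 8, nat_lit 1, nat_lit 7, nat_lit 6, nat_lit 4, nat_lit 2, nat_lit 6, nat_lit 4]))) (.node (nat_lit 0x4f82252c1fc288) (.leaf ((nat_lit 5), [nat_lit 0, nat_lit 7, nat_lit 0, nat_lit 9, nat_lit 1, nat_lit 9, nat_lit 3, nat_lit 0, nat_lit 8, nat_lit 6, nat_lit 3, nat_lit 4, nat_lit 7, nat_lit 3, nat_lit 4, nat_lit 6, nat_lit 5, nat_lit 1])) (.node (nat_lit 0x4f87f4fdfe55dc) (.leaf ((nat_lit 0), [nat_lit 0, nat_lit 7, nat_lit 0, nat_lit 9, nat_lit 1, nat_lit 9, nat_lit 7, nat_lit 2, nat_lit 8, nat_lit 6, nat_lit 5, nat_lit 1, nat_lit 7, nat_lit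 5, nat_lit 4, nat_lit 0])) (.leaf ((nat_lit 0), [nat_lit 2, nat_lit 2, nat_lit 9, nat_lit 1, nat_lit 9, nat_lit 8, nat_lit 1, nat_lit 7, nat_lit 8, nat_lit 5, nat_lit 7, nat_lit 5, nat_lit 7, nat_lit 4, nat_lit 3, nat_lit 3, nat_lit 3]))))))
 (.node (nat_lit 0x5087a77eb62a04) (.node (nat_lit 0x4f939007691534) (.node (nat_lit 0x4f938f860d2014) (.leaf ((nat_lit 0), [nat_lit 7, nat_lit 9, nat_lit 2, nat_lit 1, nat_lit 9, nat_lit 5, nat_lit 7, nat_lit 8, nat_lit 5, nat_lit 6, nat_lit 7, nat_lit 2, nat_lit 6, nat_lit 2, nat_lit 2, nat_lit 0])) (.leaf ((nat_lit 2), [nat_lit 8, nat_lit 5, nat_lit 2, nat_lit 8, nat_lit 5, nat_lit 7, nat_lit 5, nat_lit 1, nat_lit 7, nat_lit 3, nat_lit 3, nat_lit 6, nat_lit 5, nat_lit 2, nat_lit 1]))) (.node (nat_lit 0x4f939088c56f48) (.leaf ((nat_lit 0), [nat_lit 8, nat_lit 2, nat_lit 1, nat_lit 8, nat_lit 3, nat_lit 6, nat_lit 7, nat_lit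 3, nat_lit 3, nat_lit 6, nat_lit 3, nat_lit 3, nat_lit 3])) (.node (nat_lit 0x5081db419166c8) (.leaf ((nat_lit 0), [nat_lit 1, nat_lit 9, nat_lit 5, nat_lit 9, nat_lit 3, nat_lit 6, nat_lit 8, nat_lit 2, nat_lit 4, nat_lit 6, nat_lit 1])) (.leaf ((nat_lit 0), [nat_lit 2, nat_lit 9, nat_lit 3, nat_lit 5, nat_lit 9, nat_lit 0, nat_lit 8, nat_lit 7, nat_lit 5, nat_lit 1, nat_lit 7, nat_lit 3, nat_lit 6, nat_lit 5, nat_lit 2, nat_lit 4, nat_lit 2])))))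
 (.node (nat_lit 0x5087a8816d1454) (.node (nat_lit 0x5087a80011a7b4) (.leaf ((nat_lit 2), [nat_lit 7, nat_lit 5, nat_lit 8, nat_lit 0, nat_lit 8, nat_lit 5, nat_lit 7, nat_lit 5, nat_lit 7, nat_lit 2, nat_lit 6, nat_lit 2, nat_lit 4])) (.leaf ((nat_lit 0), [nat_lit 6, nat_lit 9, nat_lit 5, nat_lit 9, nat_lit 7, nat_lit 1, nat_lit 8, nat_lit 1, nat_lit 8, nat_lit 7, nat_lit 1, nat_lit 7, nat_lit 0]))) (.node (nat_lit 0x508d75cf60ea44) (.leaf ((nat_lit 3), [nat_lit 4, nat_lit 1, nat_lit 9, nat_lit 5, nat_lit 9, nat_lit 3, nat_lit 6, nat_lit 7, nat_lit 2, nat_lit 6, nat_lit 5, nat_lit 2, nat_lit 4, nat_lit 2, nat_lit 1])) (.node (nat_lit 0x508d7650bbedac) (.leaf ((nat_lit 3), [nat_lit 4, nat_lit 1, nat_lit 9, nat_lit 5, nat_lit 9, nat_lit 2, nat_lit 7, nat_lit 5, nat_lit 8, nat_lit 6, nat_lit 5, nat_lit 7, nat_lit 3, nat_lit 6, nat_lit 3, nat_lit 3, nat_lit 0]))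 (.leaf ((nat_lit 6), [nat_lit 5, nat_lit 9, nat_lit 1, nat_lit 9, nat_lit 6, nat_lit 5, nat_lit 7, nat_lit 4, nat_lit 3, nat_lit 6, nat_lit 2, nat_lit 4, nat_lit 1]))))))))))
 (.node (nat_lit 0x67b2d44ef62e3c) (.node (nat_lit 0x52589ad18d5df4) (.node (nat_lit 0x5175f099d79048) (.node (nat_lit 0x50b6266c8761dc) (.node (nat_lit 0x509ee630b4c71c) (.node (nat_lit 0x50991a6f2c899c) (.node (nat_lit 0x5092b78f3a1af8) (.leaf ((nat_lit 2), [nat_lit 6, nat_lit 9, nat_lit 5, nat_lit 9, nat_lit 1, nat_lit 7, nat_lit 8, nat_lit 7, nat_lit 6, nat_lit 5, nat_lit 6, nat_lit 4, nat_lit 2, nat_lit 1])) (.leaf ((nat_lit 0), [nat_lit 2, nat_lit 9, nat_lit 3, nat_lit 5, nat_lit 9, nat_lit 8, nat_lit 7, nat_lit 1, nat_lit 8, nat_lit 4, nat_lit 7, nat_lit 6, nat_lit 3, nat_lit 4, nat_lit 6, nat_lit 3, nat_lit 3]))) (.node (nat_lit 0x509ee5535b5508) (.leaf ((nat_lit 0), [nat_lit 2,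 nat_lit 7, nat_lit 9, nat_lit 5, nat_lit 9, nat_lit 3, nat_lit 1, nat_lit 8, nat_lit 4, nat_lit 2, nat_lit 6, nat_lit 3, nat_lit 3, nat_lit 3])) (.node (nat_lit 0x509ee5af586314) (.leaf ((nat_lit 3), [nat_lit 6, nat_lit 9, nat_lit 5, nat_lit 9, nat_lit 6, nat_lit 2, nat_lit 8, nat_lit 6, nat_lit 1, nat_lit 7, nat_lit 5, nat_lit 2, nat_lit 4, nat_lit 2, nat_lit 0])) (.leaf ((nat_lit 0), [nat_lit 5, nat_lit 8, nat_lit 3, nat_lit 6, nat_lit 7, nat_lit 2, nat_lit 2, nat_lit 6, nat_lit 5, nat_lit 0])))))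
 (.node (nat_lit 0x50aa8adee0611c) (.node (nat_lit 0x50a426edd691cc) (.leaf ((nat_lit 0), [nat_lit 1, nat_lit 9, nat_lit 5, nat_lit 9, nat_lit 5, nat_lit 8, nat_lit 5, nat_lit 8, nat_lit 6, nat_lit 5, nat_lit 0, nat_lit 7, nat_lit 3, nat_lit 6, nat_lit 4, nat_lit 2])) (.leaf ((nat_lit 0), [nat_lit 2, nat_lit 2, nat_lit 9, nat_lit 0, nat_lit 9, nat_lit 7, nat_lit 2, nat_lit 8, nat_lit 7, nat_lit 5, nat_lit 1, nat_lit 7, nat_lit 3, nat_lit 0]))) (.node (nat_lit 0x50b0599fa79974) (.leaf ((nat_lit 0), [nat_lit 0, nat_lit 7, nat_lit 0, nat_lit 9, nat_lit 1, nat_lit 9, nat_lit 3, nat_lit 7, nat_lit 5, nat_lit 8, nat_lit 0, nat_lit 7, nat_lit 6, nat_lit 5, nat_lit 3, nat_lit 4])) (.node (nat_lit 0x50b6260da9f234) (.leaf ((nat_lit 0), [nat_lit 2, nat_lit 2, nat_lit 9, nat_lit 0, nat_lit 9, nat_lit 7, nat_lit 8, nat_lit 7, nat_lit 1, nat_lit 8, nat_lit 7, nat_lit 2, nat_lit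 4, nat_lit 6, nat_lit 5, nat_lit 2, nat_lit 4, nat_lit 0])) (.leaf ((nat_lit 1), [nat_lit 4, nat_lit 1, nat_lit 9, nat_lit 5, nat_lit 9, nat_lit 2, nat_lit 6, nat_lit 3, nat_lit 8, nat_lit 7, nat_lit 6, nat_lit 4, nat_lit 3, nat_lit 3]))))))
 (.node (nat_lit 0x50c136fe67aa0c) (.node (nat_lit 0x50bbf44ff526b4) (.node (nat_lit 0x50b626eb02eb6c) (.leaf ((nat_lit 0), [nat_lit 4, nat_lit 1, nat_lit 9, nat_lit 5, nat_lit 9, nat_lit 6, nat_lit 8, nat_lit 7, nat_lit 3, nat_lit 3, nat_lit 6, nat_lit 4, nat_lit 0])) (.leaf ((nat_lit 1), [nat_lit 4, nat_lit 1, nat_lit 9, nat_lit 5, nat_lit 9, nat_lit 3, nat_lit 5, nat_lit 6, nat_lit 8, nat_lit 7, nat_lit 5, nat_lit 6, nat_lit 5, nat_lit 3, nat_lit 0]))) (.node (nat_lit 0x50bbf4d710d800) (.leaf ((nat_lit 1), [nat_lit 6, nat_lit 9, nat_lit 5, nat_lit 9, nat_lit 2, nat_lit 2, nat_lit 8, nat_lit 7, nat_lit 5, nat_lit 3, nat_lit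 6, nat_lit 3, nat_lit 3, nat_lit 0])) (.node (nat_lit 0x50bbf5302e82f4) (.leaf ((nat_lit 0), [nat_lit 5, nat_lit 8, nat_lit 5, nat_lit 1, nat_lit 7, nat_lit 3, nat_lit 6, nat_lit 5])) (.leaf ((nat_lit 0), [nat_lit 1, nat_lit 9, nat_lit 5, nat_lit 9, nat_lit 6, nat_lit 8, nat_lit 7, nat_lit 2, nat_lit 2, nat_lit 6, nat_lit 1])))))
 (.node (nat_lit 0x517022f27eaa9c) (.node (nat_lit 0x50c705b96f10e4) (.leaf ((nat_lit 0), [nat_lit 2, nat_lit 2, nat_lit 9, nat_lit 1, nat_lit 9, nat_lit 1, nat_lit 7, nat_lit 8, nat_lit 1, nat_lit 7, nat_lit 2, nat_lit 2, nat_lit 6, nat_lit 2, nat_lit 1])) (.leaf ((nat_lit 0), [nat_lit 2, nat_lit 7, nat_lit 9, nat_lit 5, nat_lit 9, nat_lit 2, nat_lit 1, nat_lit 8, nat_lit 7, nat_lit 5, nat_lit 7, nat_lit 4, nat_lit 6, nat_lit 5]))) (.node (nat_lit 0x5175efbc7e1440) (.leaf ((nat_lit 0), [nat_lit 7, nat_lit 9, nat_lit 2, nat_lit 1, nat_lit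 9, nat_lit 0, nat_lit 7, nat_lit 8, nat_lit 2, nat_lit 4, nat_lit 7, nat_lit 4, nat_lit 2, nat_lit 2, nat_lit 6, nat_lit 3])) (.node (nat_lit 0x5175f01b5b1d88) (.leaf ((nat_lit 1), [nat_lit 4, nat_lit 1, nat_lit 9, nat_lit 5, nat_lit 9, nat_lit 2, nat_lit 7, nat_lit 8, nat_lit 0, nat_lit 7, nat_lit 6, nat_lit 5, nat_lit 3, nat_lit 6, nat_lit 4, nat_lit 3])) (.leaf ((nat_lit 1), [nat_lit 6, nat_lit 9, nat_lit 5, nat_lit 9, nat_lit 8, nat_lit 6, nat_lit 4, nat_lit 3, nat_lit 6, nat_lit 4, nat_lit 3, nat_lit 0])))))))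
 (.node (nat_lit 0x5192fdb380a3f4) (.node (nat_lit 0x51876222f9ba74) (.node (nat_lit 0x517bbe85e57cdc) (.node (nat_lit 0x517bbdfec94754) (.leaf ((nat_lit 0), [nat_lit 4, nat_lit 1, nat_lit 9, nat_lit 5, nat_lit 9, nat_lit 0, nat_lit 8, nat_lit 1, nat_lit 7, nat_lit 4, nat_lit 2, nat_lit 2, nat_lit 6, nat_lit 3, nat_lit 4, nat_lit 0])) (.leaf ((nat_lit 0), [nat_lit 5, nat_lit 8, nat_lit 4, nat_lit 0, nat_lit 7, nat_lit 3, nat_lit 4, nat_lit 3, nat_lit 0]))) (.node (nat_lit 0x517bbedf023bc8) (.leaf ((nat_lit 0), [nat_lit 1, nat_lit 9, nat_lit 5, nat_lit 9, nat_lit 8, nat_lit 5, nat_lit 2, nat_lit 8, nat_lit 7, nat_lit 5, nat_lit 3, nat_lit 4, nat_lit 3, nat_lit 3])) (.node (nat_lit 0x5180ff4307478c) (.leaf ((nat_lit 1), [nat_lit 4, nat_lit 1, nat_lit 9, nat_lit 5, nat_lit 9, nat_lit 7, nat_lit 2, nat_lit 8, nat_lit 7, nat_lit 4, nat_lit 0])) (.leaf ((nat_lit 0),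 [nat_lit 0, nat_lit 7, nat_lit 0, nat_lit 9, nat_lit 1, nat_lit 9, nat_lit 2, nat_lit 8, nat_lit 7, nat_lit 5, nat_lit 7, nat_lit 6, nat_lit 4, nat_lit 2, nat_lit 6, nat_lit 5, nat_lit 0])))))
 (.node (nat_lit 0x518d2f62d571f4) (.node (nat_lit 0x518d2ee1797fac) (.leaf ((nat_lit 0), [nat_lit 6, nat_lit 9, nat_lit 5, nat_lit 3, nat_lit 1, nat_lit 9, nat_lit 5, nat_lit 2, nat_lit 8, nat_lit 7, nat_lit 2, nat_lit 4, nat_lit 7, nat_lit 4, nat_lit 2, nat_lit 6, nat_lit 3, nat_lit 1])) (.leaf ((nat_lit 3), [nat_lit 4, nat_lit 1, nat_lit 9, nat_lit 5, nat_lit 9, nat_lit 7, nat_lit 5, nat_lit 8, nat_lit 6, nat_lit 0, nat_lit 7, nat_lit 6, nat_lit 4, nat_lit 2, nat_lit 6, nat_lit 4, nat_lit 2, nat_lit 1]))) (.node (nat_lit 0x518d2fe431ca9c) (.leaf ((nat_lit 2), [nat_lit 4, nat_lit 9, nat_lit 0, nat_lit 9, nat_lit 4, nat_lit 8, nat_lit 2, nat_lit 1, nat_lit 8, nat_lit 6,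 nat_lit 0])) (.node (nat_lit 0x5192fd32243e80) (.leaf ((nat_lit 0), [nat_lit 6, nat_lit 9, nat_lit 5, nat_lit 9, nat_lit 8, nat_lit 1, nat_lit 8, nat_lit 3, nat_lit 6, nat_lit 7, nat_lit 2, nat_lit 2, nat_lit 6, nat_lit 5, nat_lit 4, nat_lit 3, nat_lit 3])) (.leaf ((nat_lit 6), [nat_lit 5, nat_lit 9, nat_lit 0, nat_lit 9, nat_lit 0, nat_lit 8, nat_lit 7, nat_lit 3, nat_lit 4, nat_lit 6, nat_lit 5, nat_lit 4, nat_lit 2, nat_lit 2, nat_lit 1]))))))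
 (.node (nat_lit 0x51aa40f1721e08) (.node (nat_lit 0x519840761212cc) (.node (nat_lit 0x5192fe34dc1bf4) (.leaf ((nat_lit 2), [nat_lit 2, nat_lit 2, nat_lit 9, nat_lit 1, nat_lit 9, nat_lit 3, nat_lit 8, nat_lit 6, nat_lit 7, nat_lit 5, nat_lit 3, nat_lit 6, nat_lit 3])) (.leaf ((nat_lit 3), [nat_lit 4, nat_lit 1, nat_lit 9, nat_lit 5, nat_lit 9, nat_lit 5, nat_lit 6, nat_lit 8, nat_lit 4, nat_lit 0, nat_lit 7, nat_lit 6, nat_lit 2, nat_lit 4, nat_lit 6, nat_lit 4]))) (.node (nat_lit 0x519e0e3cc131e4) (.leaf ((nat_lit 0), [nat_lit 2, nat_lit 7, nat_lit 9, nat_lit 5, nat_lit 9, nat_lit 7, nat_lit 5, nat_lit 1, nat_lit 8, nat_lit 5, nat_lit 1, nat_lit 7, nat_lit 4, nat_lit 2, nat_lit 2, nat_lit 6, nat_lit 0])) (.node (nat_lit 0x51a47316a3a5f4) (.leaf ((nat_lit 0), [nat_lit 6, nat_lit 9, nat_lit 5, nat_lit 3, nat_lit 1, nat_lit 9, nat_lit 8, nat_lit 5, nat_lit 0,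 nat_lit 8, nat_lit 5, nat_lit 0, nat_lit 7, nat_lit 3, nat_lit 4, nat_lit 6, nat_lit 2, nat_lit 0])) (.leaf ((nat_lit 0), [nat_lit 9, nat_lit 7, nat_lit 5, nat_lit 0, nat_lit 9, nat_lit 2, nat_lit 8, nat_lit 4, nat_lit 1, nat_lit 7, nat_lit 3, nat_lit 6, nat_lit 5, nat_lit 3, nat_lit 3, nat_lit 3, nat_lit 1])))))
 (.node (nat_lit 0x51b00cb01a72c8) (.node (nat_lit 0x51b00c541ce1ec) (.leaf ((nat_lit 0), [nat_lit 0, nat_lit 7, nat_lit 0, nat_lit 9, nat_lit 1, nat_lit 9, nat_lit 7, nat_lit 5, nat_lit 0, nat_lit 8, nat_lit 5, nat_lit 7, nat_lit 6, nat_lit 5, nat_lit 3, nat_lit 6, nat_lit 1])) (.leaf ((nat_lit 0), [nat_lit 1, nat_lit 8, nat_lit 1, nat_lit 8, nat_lit 0, nat_lit 7, nat_lit 6, nat_lit 5, nat_lit 3, nat_lit 6, nat_lit 3, nat_lit 0]))) (.node (nat_lit 0x51b00d3176ca04) (.leaf ((nat_lit 0), [nat_lit 1, nat_lit 9, nat_lit 5, nat_lit 9, nat_lit 7, nat_lit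 1, nat_lit 8, nat_lit 1, nat_lit 8, nat_lit 6, nat_lit 5, nat_lit 4, nat_lit 2])) (.node (nat_lit 0x51b54d6d3c3d78) (.leaf ((nat_lit 3), [nat_lit 6, nat_lit 9, nat_lit 5, nat_lit 9, nat_lit 7, nat_lit 6, nat_lit 8, nat_lit 5, nat_lit 7, nat_lit 5, nat_lit 7, nat_lit 6, nat_lit 4, nat_lit 3, nat_lit 6, nat_lit 5, nat_lit 2])) (.leaf ((nat_lit 0), [nat_lit 7, nat_lit 9, nat_lit 2, nat_lit 1, nat_lit 9, nat_lit 7, nat_lit 8, nat_lit 6, nat_lit 5, nat_lit 6, nat_lit 7, nat_lit 2, nat_lit 6, nat_lit 4, nat_lit 2, nat_lit 2]))))))))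
 (.node (nat_lit 0x52988516446cc8) (.node (nat_lit 0x527b75928f5308) (.node (nat_lit 0x5269771f361224) (.node (nat_lit 0x525e66f1f22a74) (.node (nat_lit 0x525e6695f58434) (.leaf ((nat_lit 0), [nat_lit 6, nat_lit 9, nat_lit 2, nat_lit 1, nat_lit 9, nat_lit 5, nat_lit 7, nat_lit 8, nat_lit 4, nat_lit 7, nat_lit 6, nat_lit 2, nat_lit 4, nat_lit 6, nat_lit 4, nat_lit 2, nat_lit 2, nat_lit 1])) (.leaf ((nat_lit 0), [nat_lit 1, nat_lit 9, nat_lit 5, nat_lit 9, nat_lit 2, nat_lit 5, nat_lit 8, nat_lit 5, nat_lit 3, nat_lit 3]))) (.node (nat_lit 0x525e67734e0a40) (.leaf ((nat_lit 3), [nat_lit 6, nat_lit 9, nat_lit 5, nat_lit 9, nat_lit 7, nat_lit 6, nat_lit 4, nat_lit 3, nat_lit 6, nat_lit 3, nat_lit 4, nat_lit 3])) (.node (nat_lit 0x5263a8c8cb7d8c) (.leaf ((nat_lit 0), [nat_lit 8, nat_lit 5, nat_lit 8, nat_lit 6, nat_lit 1, nat_lit 7, nat_lit 3, nat_lit 3, nat_lit 3,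 nat_lit 6, nat_lit 4, nat_lit 3])) (.leaf ((nat_lit 0), [nat_lit 6, nat_lit 9, nat_lit 5, nat_lit 3, nat_lit 1, nat_lit 9, nat_lit 5, nat_lit 1, nat_lit 8, nat_lit 3, nat_lit 4, nat_lit 7, nat_lit 4, nat_lit 6, nat_lit 3, nat_lit 0])))))
 (.node (nat_lit 0x5275a750441ff4) (.node (nat_lit 0x526fda04e85248) (.leaf ((nat_lit 0), [nat_lit 2, nat_lit 2, nat_lit 9, nat_lit 1, nat_lit 9, nat_lit 8, nat_lit 1, nat_lit 8, nat_lit 1, nat_lit 7, nat_lit 2, nat_lit 2, nat_lit 6, nat_lit 4, nat_lit 3, nat_lit 0])) (.leaf ((nat_lit 0), [nat_lit 2, nat_lit 2, nat_lit 9, nat_lit 1, nat_lit 9, nat_lit 7, nat_lit 8, nat_lit 7, nat_lit 1, nat_lit 8, nat_lit 6, nat_lit 5, nat_lit 6, nat_lit 7, nat_lit 4, nat_lit 3, nat_lit 0]))) (.node (nat_lit 0x5275a7af20a394) (.leaf ((nat_lit 0), [nat_lit 4, nat_lit 1, nat_lit 9, nat_lit 5, nat_lit 9, nat_lit 6, nat_lit 8, nat_lit 4, nat_lit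 0, nat_lit 7, nat_lit 3, nat_lit 6, nat_lit 4])) (.node (nat_lit 0x5275a82d9d8dc4) (.leaf ((nat_lit 1), [nat_lit 6, nat_lit 9, nat_lit 5, nat_lit 9, nat_lit 8, nat_lit 5, nat_lit 7, nat_lit 6, nat_lit 2, nat_lit 2, nat_lit 6, nat_lit 3, nat_lit 3, nat_lit 3])) (.leaf ((nat_lit 1), [nat_lit 4, nat_lit 1, nat_lit 9, nat_lit 5, nat_lit 9, nat_lit 8, nat_lit 2, nat_lit 6, nat_lit 3, nat_lit 8, nat_lit 3, nat_lit 6, nat_lit 7, nat_lit 5, nat_lit 2, nat_lit 1]))))))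
 (.node (nat_lit 0x528ce9046209dc) (.node (nat_lit 0x527b7672c7c4ac) (.node (nat_lit 0x527b7619ab7bc4) (.leaf ((nat_lit 0), [nat_lit 1, nat_lit 9, nat_lit 5, nat_lit 9, nat_lit 6, nat_lit 8, nat_lit 5, nat_lit 7, nat_lit 4, nat_lit 6, nat_lit 5, nat_lit 3, nat_lit 3, nat_lit 3, nat_lit 0])) (.leaf ((nat_lit 1), [nat_lit 6, nat_lit 9, nat_lit 5, nat_lit 9, nat_lit 5, nat_lit 0, nat_lit 8, nat_lit 0, nat_lit 7, nat_lit 4, nat_lit 2, nat_lit 2, nat_lit 6, nat_lit 3, nat_lit 1]))) (.node (nat_lit 0x5280b64fb11db8) (.leaf ((nat_lit 0), [nat_lit 8, nat_lit 5, nat_lit 8, nat_lit 7, nat_lit 1, nat_lit 7, nat_lit 5, nat_lit 6, nat_lit 4, nat_lit 2, nat_lit 2])) (.node (nat_lit 0x52871ab69733c8) (.leaf ((nat_lit 0), [nat_lit 6, nat_lit 9, nat_lit 2, nat_lit 1, nat_lit 9, nat_lit 2, nat_lit 7, nat_lit 6, nat_lit 8, nat_lit 7, nat_lit 3, nat_lit 6, nat_lit 5, nat_lit 2,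 nat_lit 4])) (.leaf ((nat_lit 0), [nat_lit 2, nat_lit 2, nat_lit 9, nat_lit 0, nat_lit 9, nat_lit 4, nat_lit 7, nat_lit 8, nat_lit 5, nat_lit 7, nat_lit 4, nat_lit 2, nat_lit 6, nat_lit 4, nat_lit 3, nat_lit 3])))))
 (.node (nat_lit 0x5292b6c599a400) (.node (nat_lit 0x5292b6443e3488) (.leaf ((nat_lit 0), [nat_lit 9, nat_lit 7, nat_lit 5, nat_lit 0, nat_lit 9, nat_lit 8, nat_lit 4, nat_lit 6, nat_lit 8, nat_lit 7, nat_lit 1, nat_lit 7, nat_lit 6, nat_lit 4, nat_lit 3, nat_lit 6, nat_lit 4])) (.leaf ((nat_lit 0), [nat_lit 6, nat_lit 9, nat_lit 5, nat_lit 9, nat_lit 3, nat_lit 7, nat_lit 0, nat_lit 8, nat_lit 6, nat_lit 0, nat_lit 7, nat_lit 5, nat_lit 6, nat_lit 5, nat_lit 3, nat_lit 4, nat_lit 0]))) (.node (nat_lit 0x5292b746f59648) (.leaf ((nat_lit 3), [nat_lit 4, nat_lit 1, nat_lit 9, nat_lit 5, nat_lit 9, nat_lit 6, nat_lit 7, nat_lit 1, nat_lit 8, nat_lit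 6, nat_lit 7, nat_lit 4, nat_lit 2, nat_lit 2, nat_lit 6])) (.node (nat_lit 0x52988494e8f35c) (.leaf ((nat_lit 2), [nat_lit 9, nat_lit 0, nat_lit 9, nat_lit 1, nat_lit 9, nat_lit 2, nat_lit 5, nat_lit 8, nat_lit 6, nat_lit 2, nat_lit 4, nat_lit 7, nat_lit 5, nat_lit 3, nat_lit 1])) (.leaf ((nat_lit 2), [nat_lit 6, nat_lit 9, nat_lit 2, nat_lit 1, nat_lit 9, nat_lit 3, nat_lit 3, nat_lit 8, nat_lit 1, nat_lit 7, nat_lit 2, nat_lit 2, nat_lit 6, nat_lit 4, nat_lit 2])))))))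
 (.node (nat_lit 0x65dc18795de548) (.node (nat_lit 0x648b095ef836ec) (.node (nat_lit 0x529dc5520abe0c) (.node (nat_lit 0x52988597a04c94) (.leaf ((nat_lit 3), [nat_lit 4, nat_lit 1, nat_lit 9, nat_lit 5, nat_lit 9, nat_lit 6, nat_lit 3, nat_lit 0, nat_lit 8, nat_lit 6, nat_lit 2, nat_lit 4, nat_lit 7, nat_lit 5, nat_lit 6, nat_lit 4, nat_lit 0])) (.leaf ((nat_lit 6), [nat_lit 8, nat_lit 4, nat_lit 2, nat_lit 9, nat_lit 3, nat_lit 8, nat_lit 7, nat_lit 1, nat_lit 8, nat_lit 0, nat_lit 7, nat_lit 3, nat_lit 6, nat_lit 2, nat_lit 0]))) (.node (nat_lit 0x6473c1e2224ea8) (.leaf ((nat_lit 0), [nat_lit 9, nat_lit 7, nat_lit 5, nat_lit 0, nat_lit 9, nat_lit 6, nat_lit 5, nat_lit 2, nat_lit 8, nat_lit 6, nat_lit 7, nat_lit 6, nat_lit 2, nat_lit 4, nat_lit 0])) (.node (nat_lit 0x647f64012d3848) (.leaf ((nat_lit 0), [nat_lit 6, nat_lit 9, nat_lit 2, nat_lit 1, nat_lit 9,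 nat_lit 7, nat_lit 8, nat_lit 1, nat_lit 8, nat_lit 5, nat_lit 3, nat_lit 6, nat_lit 2, nat_lit 2])) (.leaf ((nat_lit 0), [nat_lit 0, nat_lit 7, nat_lit 0, nat_lit 9, nat_lit 1, nat_lit 9, nat_lit 3, nat_lit 5, nat_lit 6, nat_lit 8, nat_lit 0, nat_lit 7, nat_lit 4, nat_lit 2, nat_lit 6, nat_lit 5, nat_lit 1])))))
 (.node (nat_lit 0x65a1fe8265ff2c) (.node (nat_lit 0x64ade405d60fc8) (.leaf ((nat_lit 0), [nat_lit 2, nat_lit 7, nat_lit 9, nat_lit 5, nat_lit 9, nat_lit 7, nat_lit 1, nat_lit 7, nat_lit 8, nat_lit 4, nat_lit 2, nat_lit 2, nat_lit 6, nat_lit 5, nat_lit 3, nat_lit 4, nat_lit 3, nat_lit 3, nat_lit 0])) (.leaf ((nat_lit 4), [nat_lit 0, nat_lit 7, nat_lit 0, nat_lit 9, nat_lit 1, nat_lit 9, nat_lit 0, nat_lit 8, nat_lit 6, nat_lit 1, nat_lit 8, nat_lit 5, nat_lit 7, nat_lit 5, nat_lit 6, nat_lit 3]))) (.node (nat_lit 0x65b93da481806c) (.leaf ((nat_lit 1),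 [nat_lit 2, nat_lit 8, nat_lit 5, nat_lit 7, nat_lit 5, nat_lit 7, nat_lit 4, nat_lit 2, nat_lit 6, nat_lit 5, nat_lit 4, nat_lit 2, nat_lit 2])) (.node (nat_lit 0x65d074b0e06ca8) (.leaf ((nat_lit 1), [nat_lit 4, nat_lit 8, nat_lit 2, nat_lit 1, nat_lit 8, nat_lit 4, nat_lit 7, nat_lit 4, nat_lit 6, nat_lit 5, nat_lit 3, nat_lit 4])) (.leaf ((nat_lit 1), [nat_lit 4, nat_lit 8, nat_lit 0, nat_lit 8, nat_lit 4, nat_lit 7, nat_lit 6, nat_lit 5, nat_lit 6, nat_lit 4, nat_lit 3, nat_lit 3, nat_lit 3]))))))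
 (.node (nat_lit 0x667901b607208c) (.node (nat_lit 0x6644af6cd14978) (.node (nat_lit 0x65e1e4295c13a8) (.leaf ((nat_lit 0), [nat_lit 0, nat_lit 7, nat_lit 0, nat_lit 9, nat_lit 1, nat_lit 9, nat_lit 7, nat_lit 5, nat_lit 8, nat_lit 0, nat_lit 8, nat_lit 3, nat_lit 4, nat_lit 6, nat_lit 5, nat_lit 4, nat_lit 2])) (.leaf ((nat_lit 1), [nat_lit 2, nat_lit 5, nat_lit 8, nat_lit 5, nat_lit 7, nat_lit 6, nat_lit 3, nat_lit 4, nat_lit 6]))) (.node (nat_lit 0x664a834991638c) (.leaf ((nat_lit 0), [nat_lit 2, nat_lit 7, nat_lit 9, nat_lit 5, nat_lit 9, nat_lit 0, nat_lit 8, nat_lit 2, nat_lit 4, nat_lit 7, nat_lit 2, nat_lit 2, nat_lit 6, nat_lit 4, nat_lit 0])) (.node (nat_lit 0x6667967c251b58) (.leaf ((nat_lit 0), [nat_lit 6, nat_lit 9, nat_lit 2, nat_lit 1, nat_lit 9, nat_lit 7, nat_lit 8, nat_lit 1, nat_lit 8, nat_lit 7, nat_lit 5, nat_lit 7, nat_lit 2, nat_lit 6,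 nat_lit 5, nat_lit 2, nat_lit 2, nat_lit 1])) (.leaf ((nat_lit 1), [nat_lit 0, nat_lit 8, nat_lit 7, nat_lit 1, nat_lit 8, nat_lit 7, nat_lit 6, nat_lit 4, nat_lit 2, nat_lit 6, nat_lit 3, nat_lit 0])))))
 (.node (nat_lit 0x678fff1d2dd3e8) (.node (nat_lit 0x668a75d7790d18) (.leaf ((nat_lit 1), [nat_lit 4, nat_lit 8, nat_lit 2, nat_lit 1, nat_lit 8, nat_lit 7, nat_lit 5, nat_lit 7, nat_lit 4, nat_lit 2, nat_lit 6, nat_lit 3, nat_lit 3, nat_lit 3])) (.leaf ((nat_lit 0), [nat_lit 0, nat_lit 7, nat_lit 0, nat_lit 9, nat_lit 1, nat_lit 9, nat_lit 5, nat_lit 7, nat_lit 5, nat_lit 8, nat_lit 5, nat_lit 7, nat_lit 5, nat_lit 7, nat_lit 2, nat_lit 4, nat_lit 2, nat_lit 0]))) (.node (nat_lit 0x67a1664f0ea17c) (.leaf ((nat_lit 4), [nat_lit 6, nat_lit 9, nat_lit 2, nat_lit 1, nat_lit 9, nat_lit 8, nat_lit 0, nat_lit 7, nat_lit 4, nat_lit 6, nat_lit 5, nat_lit 2, nat_lit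 4, nat_lit 3])) (.node (nat_lit 0x67ad0a092cc2f8) (.leaf ((nat_lit 0), [nat_lit 0, nat_lit 7, nat_lit 0, nat_lit 9, nat_lit 1, nat_lit 9, nat_lit 7, nat_lit 1, nat_lit 7, nat_lit 8, nat_lit 7, nat_lit 2, nat_lit 6, nat_lit 3, nat_lit 4, nat_lit 3])) (.leaf ((nat_lit 0), [nat_lit 2, nat_lit 7, nat_lit 9, nat_lit 5, nat_lit 9, nat_lit 6, nat_lit 8, nat_lit 5, nat_lit 1, nat_lit 7, nat_lit 6, nat_lit 3, nat_lit 4, nat_lit 6, nat_lit 4, nat_lit 3, nat_lit 3])))))))))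
 (.node (nat_lit 0x14bcad7584b5c04) (.node (nat_lit 0x14af99ee3362064) (.node (nat_lit 0x14ad6bf14e594ec) (.node (nat_lit 0x6ad4df78f3c9f8) (.node (nat_lit 0x6966b58935bcb8) (.node (nat_lit 0x695b1e37937498) (.leaf ((nat_lit 1), [nat_lit 1, nat_lit 8, nat_lit 1, nat_lit 8, nat_lit 5, nat_lit 4, nat_lit 7, nat_lit 3, nat_lit 6, nat_lit 2, nat_lit 4, nat_lit 2, nat_lit 0])) (.leaf ((nat_lit 1), [nat_lit 8, nat_lit 5, nat_lit 0, nat_lit 8, nat_lit 5, nat_lit 7, nat_lit 5, nat_lit 7, nat_lit 3, nat_lit 6, nat_lit 2, nat_lit 1]))) (.node (nat_lit 0x6978247d759138) (.leaf ((nat_lit 0), [nat_lit 2, nat_lit 7, nat_lit 9, nat_lit 5, nat_lit 9, nat_lit 8, nat_lit 2, nat_lit 6, nat_lit 8, nat_lit 5, nat_lit 1, nat_lit 7, nat_lit 1])) (.node (nat_lit 0x699538230be80c) (.leaf ((nat_lit 4), [nat_lit 2, nat_lit 7, nat_lit 9, nat_lit 5, nat_lit 9, nat_lit 2, nat_lit 7, nat_lit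 6, nat_lit 8, nat_lit 7, nat_lit 5, nat_lit 7, nat_lit 6, nat_lit 3, nat_lit 4, nat_lit 1])) (.leaf ((nat_lit 1), [nat_lit 4, nat_lit 8, nat_lit 0, nat_lit 8, nat_lit 6, nat_lit 7, nat_lit 6, nat_lit 4, nat_lit 3, nat_lit 6, nat_lit 5, nat_lit 0])))))
 (.node (nat_lit 0x6afd90b1518aa8) (.node (nat_lit 0x6aec1911da0a7c) (.leaf ((nat_lit 1), [nat_lit 2, nat_lit 6, nat_lit 8, nat_lit 7, nat_lit 1, nat_lit 7, nat_lit 6, nat_lit 4, nat_lit 3, nat_lit 6, nat_lit 5, nat_lit 3, nat_lit 3, nat_lit 1])) (.leaf ((nat_lit 1), [nat_lit 2, nat_lit 1, nat_lit 8, nat_lit 6, nat_lit 5, nat_lit 0, nat_lit 7, nat_lit 6, nat_lit 4, nat_lit 3, nat_lit 3]))) (.node (nat_lit 0x6b092c2d748cf8) (.leaf ((nat_lit 0), [nat_lit 6, nat_lit 9, nat_lit 2, nat_lit 1, nat_lit 9, nat_lit 7, nat_lit 6, nat_lit 8, nat_lit 6, nat_lit 5, nat_lit 6, nat_lit 5, nat_lit 2, nat_lit 1])) (.node (nat_lit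 0x6b0f00074e48a8) (.leaf ((nat_lit 1), [nat_lit 8, nat_lit 5, nat_lit 2, nat_lit 8, nat_lit 7, nat_lit 1, nat_lit 7, nat_lit 4, nat_lit 2, nat_lit 6, nat_lit 2, nat_lit 4])) (.leaf ((nat_lit 0), [nat_lit 6, nat_lit 9, nat_lit 2, nat_lit 1, nat_lit 9, nat_lit 8, nat_lit 2, nat_lit 5, nat_lit 8, nat_lit 3, nat_lit 4, nat_lit 7, nat_lit 5, nat_lit 6, nat_lit 2, nat_lit 0]))))))
 (.node (nat_lit 0x14af3ce39be1fac) (.node (nat_lit 0x14ad6c0179da2b8) (.node (nat_lit 0x14ad6bf9921e1b4) (.leaf ((nat_lit 6), [nat_lit 9, nat_lit 1, nat_lit 8, nat_lit 7, nat_lit 9, nat_lit 1, nat_lit 8, nat_lit 6, nat_lit 1, nat_lit 7, nat_lit 6, nat_lit 5, nat_lit 4, nat_lit 3, nat_lit 1])) (.leaf ((nat_lit 2), [nat_lit 7, nat_lit 9, nat_lit 8, nat_lit 0, nat_lit 9, nat_lit 1, nat_lit 7, nat_lit 8, nat_lit 4, nat_lit 7, nat_lit 3, nat_lit 6, nat_lit 5, nat_lit 2, nat_lit 4, nat_lit 2])))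 (.node (nat_lit 0x14adc8f3fe194a4) (.leaf ((nat_lit 3), [nat_lit 4, nat_lit 1, nat_lit 9, nat_lit 5, nat_lit 9, nat_lit 7, nat_lit 2, nat_lit 8, nat_lit 7, nat_lit 4, nat_lit 3, nat_lit 3, nat_lit 6, nat_lit 4, nat_lit 2])) (.node (nat_lit 0x14adc8f6540a660) (.leaf ((nat_lit 6), [nat_lit 2, nat_lit 6, nat_lit 2, nat_lit 8, nat_lit 7, nat_lit 5, nat_lit 3, nat_lit 3, nat_lit 3])) (.leaf ((nat_lit 6), [nat_lit 2, nat_lit 2, nat_lit 9, nat_lit 1, nat_lit 9, nat_lit 7, nat_lit 5, nat_lit 8, nat_lit 0, nat_lit 7, nat_lit 3, nat_lit 3, nat_lit 6, nat_lit 5, nat_lit 3, nat_lit 3])))))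
 (.node (nat_lit 0x14af3cf17175bb8) (.node (nat_lit 0x14af3ce95bbb1f4) (.leaf ((nat_lit 6), [nat_lit 9, nat_lit 5, nat_lit 9, nat_lit 3, nat_lit 7, nat_lit 5, nat_lit 8, nat_lit 6, nat_lit 0, nat_lit 7, nat_lit 4, nat_lit 2, nat_lit 0])) (.leaf ((nat_lit 6), [nat_lit 4, nat_lit 0, nat_lit 9, nat_lit 5, nat_lit 9, nat_lit 6, nat_lit 3, nat_lit 1, nat_lit 8, nat_lit 4, nat_lit 0, nat_lit 7, nat_lit 5, nat_lit 6, nat_lit 5, nat_lit 3, nat_lit 6, nat_lit 5]))) (.node (nat_lit 0x14af99dd4fe6e2c) (.leaf ((nat_lit 6), [nat_lit 1, nat_lit 9, nat_lit 5, nat_lit 9, nat_lit 5, nat_lit 8, nat_lit 5, nat_lit 8, nat_lit 6, nat_lit 7, nat_lit 4, nat_lit 3, nat_lit 3, nat_lit 6, nat_lit 4])) (.node (nat_lit 0x14af99eaf7802e0) (.leaf ((nat_lit 5), [nat_lit 5, nat_lit 9, nat_lit 3, nat_lit 1, nat_lit 9, nat_lit 6, nat_lit 8, nat_lit 1, nat_lit 8, nat_lit 6, nat_lit 5, nat_lit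 7, nat_lit 6, nat_lit 5])) (.leaf ((nat_lit 3), [nat_lit 6, nat_lit 9, nat_lit 5, nat_lit 9, nat_lit 2, nat_lit 6, nat_lit 3, nat_lit 8, nat_lit 5, nat_lit 7, nat_lit 4, nat_lit 3, nat_lit 3, nat_lit 3, nat_lit 0])))))))
 (.node (nat_lit 0x14b452b664cb5ec) (.node (nat_lit 0x14b281cc5b03ad0) (.node (nat_lit 0x14b10dd787614e4) (.node (nat_lit 0x14b10dd3657efec) (.leaf ((nat_lit 2), [nat_lit 9, nat_lit 3, nat_lit 1, nat_lit 9, nat_lit 7, nat_lit 1, nat_lit 8, nat_lit 5, nat_lit 6, nat_lit 3, nat_lit 3])) (.leaf ((nat_lit 5), [nat_lit 6, nat_lit 1, nat_lit 8, nat_lit 6, nat_lit 0, nat_lit 7, nat_lit 4, nat_lit 3, nat_lit 6, nat_lit 2, nat_lit 4]))) (.node (nat_lit 0x14b10ddf9d23ea0) (.leaf ((nat_lit 3), [nat_lit 6, nat_lit 9, nat_lit 5, nat_lit 9, nat_lit 2, nat_lit 7, nat_lit 8, nat_lit 5, nat_lit 7, nat_lit 5, nat_lit 0, nat_lit 7, nat_lit 3, nat_lit 6, nat_lit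 3, nat_lit 4, nat_lit 1])) (.node (nat_lit 0x14b281c41742b2c) (.leaf ((nat_lit 2), [nat_lit 9, nat_lit 3, nat_lit 1, nat_lit 9, nat_lit 2, nat_lit 8, nat_lit 5, nat_lit 0, nat_lit 7, nat_lit 6, nat_lit 4, nat_lit 2, nat_lit 6, nat_lit 4, nat_lit 0])) (.leaf ((nat_lit 6), [nat_lit 9, nat_lit 1, nat_lit 9, nat_lit 3, nat_lit 0, nat_lit 8, nat_lit 4, nat_lit 7, nat_lit 4, nat_lit 2, nat_lit 2, nat_lit 6, nat_lit 3, nat_lit 4, nat_lit 1])))))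
 (.node (nat_lit 0x14b3f5bb12d38ac) (.node (nat_lit 0x14b281d442c7bcc) (.leaf ((nat_lit 2), [nat_lit 4, nat_lit 1, nat_lit 9, nat_lit 5, nat_lit 9, nat_lit 7, nat_lit 6, nat_lit 8, nat_lit 7, nat_lit 2, nat_lit 2, nat_lit 6, nat_lit 2, nat_lit 2, nat_lit 1])) (.leaf ((nat_lit 3), [nat_lit 4, nat_lit 1, nat_lit 9, nat_lit 5, nat_lit 9, nat_lit 7, nat_lit 5, nat_lit 0, nat_lit 8, nat_lit 7, nat_lit 5, nat_lit 0, nat_lit 7, nat_lit 5, nat_lit 6, nat_lit 3, nat_lit 3]))) (.node (nat_lit 0x14b3f5c32899cb4) (.leaf ((nat_lit 6), [nat_lit 2, nat_lit 9, nat_lit 5, nat_lit 3, nat_lit 9, nat_lit 3, nat_lit 1, nat_lit 8, nat_lit 6, nat_lit 7, nat_lit 6, nat_lit 3, nat_lit 4, nat_lit 1])) (.node (nat_lit 0x14b3f5c8ba68bf8) (.leaf ((nat_lit 3), [nat_lit 1, nat_lit 9, nat_lit 5, nat_lit 9, nat_lit 1, nat_lit 7, nat_lit 5, nat_lit 8, nat_lit 7, nat_lit 0, nat_lit 7, nat_lit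 5, nat_lit 0])) (.leaf ((nat_lit 2), [nat_lit 9, nat_lit 3, nat_lit 1, nat_lit 9, nat_lit 2, nat_lit 2, nat_lit 8, nat_lit 6, nat_lit 7, nat_lit 4, nat_lit 6, nat_lit 5, nat_lit 4, nat_lit 3]))))))
 (.node (nat_lit 0x14b5c6b7141590c) (.node (nat_lit 0x14b452c43a634cc) (.node (nat_lit 0x14b452bc24a0b10) (.leaf ((nat_lit 6), [nat_lit 9, nat_lit 5, nat_lit 4, nat_lit 9, nat_lit 6, nat_lit 8, nat_lit 6, nat_lit 7, nat_lit 5, nat_lit 6, nat_lit 5, nat_lit 3, nat_lit 6, nat_lit 4, nat_lit 3, nat_lit 3, nat_lit 3])) (.leaf ((nat_lit 6), [nat_lit 0, nat_lit 7, nat_lit 9, nat_lit 2, nat_lit 8, nat_lit 6, nat_lit 2, nat_lit 4, nat_lit 7, nat_lit 2, nat_lit 2, nat_lit 6, nat_lit 2, nat_lit 1]))) (.node (nat_lit 0x14b5c6a96c7c2ec) (.leaf ((nat_lit 6), [nat_lit 5, nat_lit 9, nat_lit 3, nat_lit 1, nat_lit 9, nat_lit 8, nat_lit 2, nat_lit 1, nat_lit 8, nat_lit 3, nat_lit 6,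 nat_lit 7, nat_lit 6, nat_lit 5, nat_lit 4, nat_lit 3])) (.node (nat_lit 0x14b5c6b1823e9d0) (.leaf ((nat_lit 6), [nat_lit 4, nat_lit 9, nat_lit 5, nat_lit 9, nat_lit 5, nat_lit 8, nat_lit 5, nat_lit 8, nat_lit 5, nat_lit 4, nat_lit 7, nat_lit 1])) (.leaf ((nat_lit 3), [nat_lit 1, nat_lit 9, nat_lit 5, nat_lit 9, nat_lit 3, nat_lit 8, nat_lit 7, nat_lit 3, nat_lit 6, nat_lit 4, nat_lit 2, nat_lit 0])))))
 (.node (nat_lit 0x14bc507cb6ad224) (.node (nat_lit 0x14bc5074a0f29cc) (.leaf ((nat_lit 2), [nat_lit 5, nat_lit 9, nat_lit 3, nat_lit 1, nat_lit 9, nat_lit 8, nat_lit 5, nat_lit 6, nat_lit 5, nat_lit 3, nat_lit 6, nat_lit 5, nat_lit 3])) (.leaf ((nat_lit 3), [nat_lit 1, nat_lit 9, nat_lit 5, nat_lit 9, nat_lit 5, nat_lit 7, nat_lit 0, nat_lit 8, nat_lit 7, nat_lit 0, nat_lit 7, nat_lit 4, nat_lit 6, nat_lit 2, nat_lit 4, nat_lit 3]))) (.node (nat_lit 0x14bc5082487c884)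 (.leaf ((nat_lit 2), [nat_lit 7, nat_lit 8, nat_lit 1, nat_lit 8, nat_lit 7, nat_lit 5, nat_lit 7, nat_lit 6, nat_lit 5, nat_lit 3, nat_lit 6, nat_lit 5, nat_lit 3, nat_lit 3, nat_lit 3, nat_lit 0])) (.node (nat_lit 0x14bcad7162dea34) (.leaf ((nat_lit 6), [nat_lit 7, nat_lit 9, nat_lit 6, nat_lit 0, nat_lit 9, nat_lit 8, nat_lit 1, nat_lit 8, nat_lit 7, nat_lit 1, nat_lit 7, nat_lit 3, nat_lit 4, nat_lit 6, nat_lit 5, nat_lit 0])) (.leaf ((nat_lit 2), [nat_lit 1, nat_lit 9, nat_lit 5, nat_lit 9, nat_lit 7, nat_lit 5, nat_lit 0, nat_lit 7, nat_lit 3, nat_lit 6, nat_lit 0]))))))))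
 (.node (nat_lit 0x14c4ab2c9112da4) (.node (nat_lit 0x14bff2645fa2384) (.node (nat_lit 0x14be7e5ed68e8b4) (.node (nat_lit 0x14be21646a8fa0c) (.node (nat_lit 0x14bcad7d9a78010) (.leaf ((nat_lit 5), [nat_lit 2, nat_lit 7, nat_lit 5, nat_lit 8, nat_lit 6, nat_lit 7, nat_lit 2, nat_lit 2, nat_lit 6, nat_lit 5, nat_lit 0])) (.leaf ((nat_lit 3), [nat_lit 6, nat_lit 9, nat_lit 5, nat_lit 9, nat_lit 8, nat_lit 5, nat_lit 8, nat_lit 6, nat_lit 0, nat_lit 7, nat_lit 3, nat_lit 4, nat_lit 6, nat_lit 5, nat_lit 2, nat_lit 0]))) (.node (nat_lit 0x14be216cae48b24) (.leaf ((nat_lit 2), [nat_lit 8, nat_lit 6, nat_lit 2, nat_lit 8, nat_lit 6, nat_lit 7, nat_lit 5, nat_lit 6, nat_lit 5, nat_lit 3, nat_lit 6, nat_lit 3, nat_lit 4, nat_lit 1])) (.node (nat_lit 0x14be21749605344) (.leaf ((nat_lit 3), [nat_lit 4, nat_lit 1, nat_lit 9, nat_lit 5, nat_lit 9, nat_lit 6, nat_lit 3, nat_lit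 1, nat_lit 8, nat_lit 5, nat_lit 6, nat_lit 5, nat_lit 3, nat_lit 4, nat_lit 3, nat_lit 3])) (.leaf ((nat_lit 6), [nat_lit 5, nat_lit 9, nat_lit 6, nat_lit 4, nat_lit 9, nat_lit 0, nat_lit 8, nat_lit 4, nat_lit 7, nat_lit 4, nat_lit 2, nat_lit 2, nat_lit 6, nat_lit 5, nat_lit 4, nat_lit 0])))))
 (.node (nat_lit 0x14be7e697034fd0) (.node (nat_lit 0x14be7e671a443c4) (.leaf ((nat_lit 6), [nat_lit 4, nat_lit 9, nat_lit 5, nat_lit 9, nat_lit 3, nat_lit 8, nat_lit 7, nat_lit 1, nat_lit 7, nat_lit 4, nat_lit 3, nat_lit 6, nat_lit 4, nat_lit 1])) (.leaf ((nat_lit 5), [nat_lit 1, nat_lit 9, nat_lit 5, nat_lit 9, nat_lit 4, nat_lit 7, nat_lit 6, nat_lit 8, nat_lit 3, nat_lit 4, nat_lit 6, nat_lit 4, nat_lit 3, nat_lit 3]))) (.node (nat_lit 0x14bff2537c32474) (.leaf ((nat_lit 6), [nat_lit 5, nat_lit 2, nat_lit 8, nat_lit 2, nat_lit 2, nat_lit 6, nat_lit 2, nat_lit 0]))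 (.node (nat_lit 0x14bff26123c0050) (.leaf ((nat_lit 3), [nat_lit 6, nat_lit 9, nat_lit 5, nat_lit 9, nat_lit 2, nat_lit 8, nat_lit 7, nat_lit 1, nat_lit 7, nat_lit 3, nat_lit 6, nat_lit 4])) (.leaf ((nat_lit 2), [nat_lit 7, nat_lit 9, nat_lit 8, nat_lit 0, nat_lit 9, nat_lit 8, nat_lit 5, nat_lit 8, nat_lit 2, nat_lit 4, nat_lit 7, nat_lit 6, nat_lit 5, nat_lit 3, nat_lit 6, nat_lit 3]))))))
 (.node (nat_lit 0x14c2da44dd30cd8) (.node (nat_lit 0x14c1664f7f9a6f4) (.node (nat_lit 0x14c1664769d7ea4) (.leaf ((nat_lit 5), [nat_lit 9, nat_lit 5, nat_lit 9, nat_lit 7, nat_lit 8, nat_lit 0, nat_lit 8, nat_lit 5, nat_lit 1, nat_lit 7, nat_lit 3, nat_lit 3, nat_lit 6, nat_lit 4, nat_lit 2])) (.leaf ((nat_lit 3), [nat_lit 1, nat_lit 9, nat_lit 5, nat_lit 9, nat_lit 2, nat_lit 1, nat_lit 8, nat_lit 0, nat_lit 7, nat_lit 4, nat_lit 6, nat_lit 2, nat_lit 2, nat_lit 0]))) (.node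 (nat_lit 0x14c166551165d58) (.leaf ((nat_lit 2), [nat_lit 4, nat_lit 0, nat_lit 9, nat_lit 5, nat_lit 9, nat_lit 8, nat_lit 5, nat_lit 1, nat_lit 8, nat_lit 4, nat_lit 0, nat_lit 7, nat_lit 5, nat_lit 3, nat_lit 6, nat_lit 2])) (.node (nat_lit 0x14c2da3c9977610) (.leaf ((nat_lit 6), [nat_lit 0, nat_lit 9, nat_lit 5, nat_lit 9, nat_lit 7, nat_lit 1, nat_lit 7, nat_lit 8, nat_lit 6, nat_lit 0, nat_lit 7, nat_lit 4, nat_lit 3, nat_lit 3, nat_lit 6, nat_lit 3, nat_lit 3])) (.leaf ((nat_lit 3), [nat_lit 4, nat_lit 1, nat_lit 9, nat_lit 5, nat_lit 9, nat_lit 6, nat_lit 3, nat_lit 0, nat_lit 8, nat_lit 7, nat_lit 5, nat_lit 0, nat_lit 7, nat_lit 3, nat_lit 4, nat_lit 6, nat_lit 4])))))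
 (.node (nat_lit 0x14c337373374ee4) (.node (nat_lit 0x14c2da4cc4f8820) (.leaf ((nat_lit 6), [nat_lit 9, nat_lit 1, nat_lit 9, nat_lit 6, nat_lit 2, nat_lit 8, nat_lit 5, nat_lit 6, nat_lit 7, nat_lit 6, nat_lit 4, nat_lit 2, nat_lit 6, nat_lit 4, nat_lit 0])) (.leaf ((nat_lit 2), [nat_lit 4, nat_lit 9, nat_lit 5, nat_lit 9, nat_lit 8, nat_lit 6, nat_lit 1, nat_lit 8, nat_lit 3, nat_lit 4, nat_lit 7, nat_lit 3, nat_lit 3, nat_lit 3, nat_lit 6, nat_lit 0]))) (.node (nat_lit 0x14c3373f7735ff4) (.leaf ((nat_lit 2), [nat_lit 5, nat_lit 9, nat_lit 3, nat_lit 1, nat_lit 9, nat_lit 8, nat_lit 6, nat_lit 3, nat_lit 8, nat_lit 7, nat_lit 5, nat_lit 0, nat_lit 7, nat_lit 6])) (.node (nat_lit 0x14c337475eee818) (.leaf ((nat_lit 3), [nat_lit 4, nat_lit 1, nat_lit 9, nat_lit 5, nat_lit 9, nat_lit 1, nat_lit 8, nat_lit 7, nat_lit 5, nat_lit 0, nat_lit 7, nat_lit 2, nat_lit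 2, nat_lit 6, nat_lit 2, nat_lit 4])) (.leaf ((nat_lit 6), [nat_lit 0, nat_lit 9, nat_lit 2, nat_lit 7, nat_lit 9, nat_lit 7, nat_lit 5, nat_lit 8, nat_lit 4, nat_lit 7, nat_lit 6, nat_lit 4, nat_lit 3, nat_lit 6, nat_lit 5])))))))
 (.node (nat_lit 0x14cca8f2e2ed3d8) (.node (nat_lit 0x14cad808ab2ad20) (.node (nat_lit 0x14c4ab3a669f518) (.node (nat_lit 0x14c4ab3250e8434) (.leaf ((nat_lit 6), [nat_lit 2, nat_lit 8, nat_lit 5, nat_lit 0, nat_lit 7, nat_lit 6, nat_lit 2, nat_lit 2, nat_lit 6, nat_lit 5, nat_lit 4, nat_lit 3, nat_lit 3])) (.leaf ((nat_lit 6), [nat_lit 5, nat_lit 8, nat_lit 7, nat_lit 2, nat_lit 4, nat_lit 7, nat_lit 4, nat_lit 3, nat_lit 6, nat_lit 5, nat_lit 2]))) (.node (nat_lit 0x14cad7fad596cd0) (.leaf ((nat_lit 6), [nat_lit 9, nat_lit 0, nat_lit 7, nat_lit 2, nat_lit 9, nat_lit 8, nat_lit 1, nat_lit 8, nat_lit 6, nat_lit 5, nat_lit 7, nat_lit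 0])) (.node (nat_lit 0x14cad8009564918) (.leaf ((nat_lit 6), [nat_lit 0, nat_lit 7, nat_lit 0, nat_lit 9, nat_lit 1, nat_lit 9, nat_lit 2, nat_lit 6, nat_lit 8, nat_lit 5, nat_lit 6, nat_lit 7, nat_lit 6, nat_lit 5, nat_lit 2, nat_lit 2, nat_lit 0])) (.leaf ((nat_lit 6), [nat_lit 6, nat_lit 9, nat_lit 5, nat_lit 9, nat_lit 6, nat_lit 2, nat_lit 8, nat_lit 7, nat_lit 5, nat_lit 7, nat_lit 2, nat_lit 6, nat_lit 5, nat_lit 4, nat_lit 3, nat_lit 0])))))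
 (.node (nat_lit 0x14cb35023129898) (.node (nat_lit 0x14cb34f4899b878) (.leaf ((nat_lit 6), [nat_lit 7, nat_lit 4, nat_lit 2, nat_lit 9, nat_lit 6, nat_lit 3, nat_lit 1, nat_lit 8, nat_lit 3, nat_lit 6, nat_lit 7, nat_lit 1])) (.leaf ((nat_lit 2), [nat_lit 1, nat_lit 9, nat_lit 5, nat_lit 9, nat_lit 3, nat_lit 0, nat_lit 8, nat_lit 6, nat_lit 5, nat_lit 7, nat_lit 2, nat_lit 2, nat_lit 6]))) (.node (nat_lit 0x14cb35056d171cc) (.leaf ((nat_lit 5), [nat_lit 5, nat_lit 1, nat_lit 8, nat_lit 5, nat_lit 6, nat_lit 7, nat_lit 4, nat_lit 2, nat_lit 6, nat_lit 5, nat_lit 2])) (.node (nat_lit 0x14cca8eacd325d0) (.leaf ((nat_lit 3), [nat_lit 6, nat_lit 9, nat_lit 5, nat_lit 9, nat_lit 7, nat_lit 3, nat_lit 4, nat_lit 7, nat_lit 3, nat_lit 3, nat_lit 6, nat_lit 2, nat_lit 4, nat_lit 3])) (.leaf ((nat_lit 2), [nat_lit 2, nat_lit 9, nat_lit 5, nat_lit 3, nat_lit 9, nat_lit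 3, nat_lit 1, nat_lit 8, nat_lit 4, nat_lit 7, nat_lit 6, nat_lit 5, nat_lit 6, nat_lit 4, nat_lit 0]))))))
 (.node (nat_lit 0x14ce79d812e38b8) (.node (nat_lit 0x14cd05e78f1e638) (.node (nat_lit 0x14cca8f874c7d60) (.leaf ((nat_lit 6), [nat_lit 8, nat_lit 1, nat_lit 9, nat_lit 0, nat_lit 9, nat_lit 8, nat_lit 2, nat_lit 6, nat_lit 8, nat_lit 7, nat_lit 0, nat_lit 7, nat_lit 3, nat_lit 6, nat_lit 2, nat_lit 1])) (.leaf ((nat_lit 3), [nat_lit 1, nat_lit 9, nat_lit 5, nat_lit 9, nat_lit 6, nat_lit 2, nat_lit 8, nat_lit 6, nat_lit 1, nat_lit 7, nat_lit 2, nat_lit 2, nat_lit 6]))) (.node (nat_lit 0x14cd05ebb10124c) (.leaf ((nat_lit 3), [nat_lit 6, nat_lit 9, nat_lit 5, nat_lit 9, nat_lit 1, nat_lit 8, nat_lit 6, nat_lit 1, nat_lit 8, nat_lit 7, nat_lit 0, nat_lit 7, nat_lit 2, nat_lit 2, nat_lit 6, nat_lit 4, nat_lit 1])) (.node (nat_lit 0x14cd05f3c6b8058) (.leaf ((nat_lit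 2), [nat_lit 5, nat_lit 9, nat_lit 3, nat_lit 1, nat_lit 9, nat_lit 7, nat_lit 8, nat_lit 5, nat_lit 6, nat_lit 7, nat_lit 4, nat_lit 2, nat_lit 6, nat_lit 2, nat_lit 2])) (.leaf ((nat_lit 5), [nat_lit 7, nat_lit 2, nat_lit 8, nat_lit 7, nat_lit 1, nat_lit 7, nat_lit 3, nat_lit 3, nat_lit 6, nat_lit 2, nat_lit 4])))))
 (.node (nat_lit 0x14ce79e2ac8a418) (.node (nat_lit 0x14ce79e056a4e0c) (.leaf ((nat_lit 6), [nat_lit 2, nat_lit 7, nat_lit 8, nat_lit 1, nat_lit 9, nat_lit 7, nat_lit 8, nat_lit 5, nat_lit 8, nat_lit 4, nat_lit 0, nat_lit 7, nat_lit 2, nat_lit 6, nat_lit 4])) (.leaf ((nat_lit 6), [nat_lit 7, nat_lit 1, nat_lit 9, nat_lit 3, nat_lit 5, nat_lit 8, nat_lit 6, nat_lit 3, nat_lit 4, nat_lit 6, nat_lit 2, nat_lit 4]))) (.node (nat_lit 0x14cfedcd9e841a0) (.leaf ((nat_lit 5), [nat_lit 1, nat_lit 9, nat_lit 5, nat_lit 9, nat_lit 8, nat_lit 5, nat_lit 7,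 nat_lit 8, nat_lit 6, nat_lit 1, nat_lit 7, nat_lit 4, nat_lit 3, nat_lit 6, nat_lit 3, nat_lit 4])) (.node (nat_lit 0x14cfedd35e4e0c4) (.leaf ((nat_lit 6), [nat_lit 3, nat_lit 8, nat_lit 2, nat_lit 9, nat_lit 0, nat_lit 7, nat_lit 8, nat_lit 6, nat_lit 3, nat_lit 4, nat_lit 7, nat_lit 6, nat_lit 2, nat_lit 2, nat_lit 6, nat_lit 2, nat_lit 4])) (.leaf ((nat_lit 6), [nat_lit 9, nat_lit 4, nat_lit 6, nat_lit 9, nat_lit 2, nat_lit 1, nat_lit 8, nat_lit 3, nat_lit 6, nat_lit 1, nat_lit 7, nat_lit 2, nat_lit 2, nat_lit 6, nat_lit 1]))))))))))))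
 (.node (nat_lit 0x1a0c4d0bc20dddc) (.node (nat_lit 0x15929f405fc3788) (.node (nat_lit 0x1545faf2a53de98) (.node (nat_lit 0x150782298a4a6bc) (.node (nat_lit 0x14e8a0f6e1ad994) (.node (nat_lit 0x14d332c09b4b0f8) (.node (nat_lit 0x14d1bebd961faa0) (.node (nat_lit 0x14d161c973e9b64) (.node (nat_lit 0x14d161c3b41c4cc) (.leaf ((nat_lit 6), [nat_lit 9, nat_lit 8, nat_lit 4, nat_lit 9, nat_lit 7, nat_lit 6, nat_lit 8, nat_lit 3, nat_lit 6, nat_lit 1, nat_lit 7, nat_lit 2, nat_lit 0])) (.leaf ((nat_lit 6), [nat_lit 9, nat_lit 7, nat_lit 5, nat_lit 0, nat_lit 9, nat_lit 1, nat_lit 8, nat_lit 1, nat_lit 8, nat_lit 5, nat_lit 7, nat_lit 3, nat_lit 3, nat_lit 6, nat_lit 3, nat_lit 0]))) (.node (nat_lit 0x14d161d189a4c44) (.leaf ((nat_lit 6), [nat_lit 9, nat_lit 5, nat_lit 7, nat_lit 0, nat_lit 9, nat_lit 6, nat_lit 8, nat_lit 0, nat_lit 8, nat_lit 2, nat_lit 4, nat_lit 7,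 nat_lit 3, nat_lit 3, nat_lit 3, nat_lit 6, nat_lit 5, nat_lit 1])) (.leaf ((nat_lit 6), [nat_lit 0, nat_lit 9, nat_lit 5, nat_lit 3, nat_lit 1, nat_lit 9, nat_lit 8, nat_lit 0, nat_lit 8, nat_lit 7, nat_lit 5, nat_lit 1, nat_lit 7, nat_lit 2, nat_lit 2, nat_lit 6]))))
 (.node (nat_lit 0x14d1becb3dad238) (.node (nat_lit 0x14d1bec5abd6b84) (.leaf ((nat_lit 2), [nat_lit 1, nat_lit 9, nat_lit 5, nat_lit 9, nat_lit 6, nat_lit 1, nat_lit 8, nat_lit 5, nat_lit 6, nat_lit 7, nat_lit 2, nat_lit 4, nat_lit 6, nat_lit 4, nat_lit 2, nat_lit 2])) (.leaf ((nat_lit 6), [nat_lit 9, nat_lit 6, nat_lit 4, nat_lit 9, nat_lit 8, nat_lit 5, nat_lit 7, nat_lit 8, nat_lit 7, nat_lit 5, nat_lit 7, nat_lit 4, nat_lit 6, nat_lit 5, nat_lit 3]))) (.node (nat_lit 0x14d332b06fd1ee0) (.leaf ((nat_lit 3), [nat_lit 1, nat_lit 9, nat_lit 5, nat_lit 9, nat_lit 7, nat_lit 8, nat_lit 6, nat_lit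 7, nat_lit 3, nat_lit 3, nat_lit 6, nat_lit 5, nat_lit 4, nat_lit 2])) (.node (nat_lit 0x14d332b8b387884) (.leaf ((nat_lit 3), [nat_lit 4, nat_lit 1, nat_lit 9, nat_lit 5, nat_lit 9, nat_lit 7, nat_lit 8, nat_lit 7, nat_lit 5, nat_lit 0, nat_lit 7, nat_lit 4, nat_lit 2, nat_lit 6, nat_lit 5, nat_lit 3])) (.leaf ((nat_lit 6), [nat_lit 8, nat_lit 0, nat_lit 9, nat_lit 1, nat_lit 9, nat_lit 3, nat_lit 0, nat_lit 8, nat_lit 5, nat_lit 1, nat_lit 7, nat_lit 3, nat_lit 6, nat_lit 5, nat_lit 4, nat_lit 1]))))))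
 (.node (nat_lit 0x14dd014b0ec54fc) (.node (nat_lit 0x14da194a96394bc) (.node (nat_lit 0x14d9bc65e78a5fc) (.leaf ((nat_lit 2), [nat_lit 9, nat_lit 5, nat_lit 9, nat_lit 3, nat_lit 6, nat_lit 3, nat_lit 8, nat_lit 3, nat_lit 6, nat_lit 7, nat_lit 5, nat_lit 6, nat_lit 2, nat_lit 4, nat_lit 2])) (.leaf ((nat_lit 6), [nat_lit 4, nat_lit 9, nat_lit 5, nat_lit 9, nat_lit 3, nat_lit 1, nat_lit 8, nat_lit 6, nat_lit 3, nat_lit 4, nat_lit 7, nat_lit 5, nat_lit 6, nat_lit 4, nat_lit 2]))) (.node (nat_lit 0x14db8d57d915f3c) (.leaf ((nat_lit 5), [nat_lit 4, nat_lit 7, nat_lit 6, nat_lit 8, nat_lit 6, nat_lit 7, nat_lit 3, nat_lit 3, nat_lit 6, nat_lit 5, nat_lit 3, nat_lit 3, nat_lit 3, nat_lit 1])) (.node (nat_lit 0x14dca436c39777c) (.leaf ((nat_lit 6), [nat_lit 9, nat_lit 7, nat_lit 5, nat_lit 0, nat_lit 9, nat_lit 6, nat_lit 5, nat_lit 2, nat_lit 8, nat_lit 5, nat_lit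 6, nat_lit 5, nat_lit 0])) (.leaf ((nat_lit 4), [nat_lit 3, nat_lit 7, nat_lit 5, nat_lit 8, nat_lit 7, nat_lit 1, nat_lit 7, nat_lit 3, nat_lit 4, nat_lit 6, nat_lit 0])))))
 (.node (nat_lit 0x14e04760ebde5bc) (.node (nat_lit 0x14ded37fad9dafc) (.leaf ((nat_lit 5), [nat_lit 8, nat_lit 6, nat_lit 2, nat_lit 8, nat_lit 7, nat_lit 0, nat_lit 7, nat_lit 3, nat_lit 6, nat_lit 5, nat_lit 4, nat_lit 3, nat_lit 1])) (.leaf ((nat_lit 6), [nat_lit 9, nat_lit 8, nat_lit 2, nat_lit 1, nat_lit 9, nat_lit 7, nat_lit 8, nat_lit 6, nat_lit 7, nat_lit 3, nat_lit 6, nat_lit 5, nat_lit 1]))) (.node (nat_lit 0x14e0a4722924e7c) (.leaf ((nat_lit 4), [nat_lit 1, nat_lit 8, nat_lit 7, nat_lit 5, nat_lit 0, nat_lit 7, nat_lit 6, nat_lit 4, nat_lit 3, nat_lit 6, nat_lit 2, nat_lit 1])) (.node (nat_lit 0x14e27561c4c35fc) (.leaf ((nat_lit 4), [nat_lit 5, nat_lit 8, nat_lit 5, nat_lit 8,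 nat_lit 3, nat_lit 4, nat_lit 7, nat_lit 4, nat_lit 6, nat_lit 2, nat_lit 4, nat_lit 2])) (.leaf ((nat_lit 5), [nat_lit 9, nat_lit 1, nat_lit 7, nat_lit 1, nat_lit 9, nat_lit 8, nat_lit 2, nat_lit 5, nat_lit 8, nat_lit 6, nat_lit 1, nat_lit 7, nat_lit 6, nat_lit 4, nat_lit 3, nat_lit 3, nat_lit 0])))))))
 (.node (nat_lit 0x14f785610d0a6e8) (.node (nat_lit 0x14edb810a7c0d28) (.node (nat_lit 0x14ea71e90137b94) (.node (nat_lit 0x14e8fdd46096a54) (.leaf ((nat_lit 6), [nat_lit 5, nat_lit 9, nat_lit 2, nat_lit 1, nat_lit 9, nat_lit 4, nat_lit 0, nat_lit 7, nat_lit 8, nat_lit 3, nat_lit 6, nat_lit 1, nat_lit 7, nat_lit 5, nat_lit 6, nat_lit 5, nat_lit 0])) (.leaf ((nat_lit 5), [nat_lit 3, nat_lit 9, nat_lit 1, nat_lit 9, nat_lit 0, nat_lit 7, nat_lit 8, nat_lit 6, nat_lit 5, nat_lit 6, nat_lit 7, nat_lit 3, nat_lit 4, nat_lit 3, nat_lit 1]))) (.node (nat_lit 0x14ebe5bdabde1d4)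 (.leaf ((nat_lit 6), [nat_lit 7, nat_lit 0, nat_lit 9, nat_lit 1, nat_lit 9, nat_lit 5, nat_lit 0, nat_lit 8, nat_lit 6, nat_lit 5, nat_lit 7, nat_lit 4, nat_lit 3, nat_lit 3, nat_lit 1])) (.node (nat_lit 0x14ec42d8f8d3494) (.leaf ((nat_lit 4), [nat_lit 3, nat_lit 7, nat_lit 5, nat_lit 8, nat_lit 4, nat_lit 1, nat_lit 7, nat_lit 2, nat_lit 6, nat_lit 4, nat_lit 2])) (.leaf ((nat_lit 5), [nat_lit 5, nat_lit 0, nat_lit 8, nat_lit 6, nat_lit 0, nat_lit 7, nat_lit 5, nat_lit 3, nat_lit 6, nat_lit 5, nat_lit 3, nat_lit 4, nat_lit 0])))))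
 (.node (nat_lit 0x14ef8902c74af28) (.node (nat_lit 0x14ef2beab63b9e8) (.leaf ((nat_lit 6), [nat_lit 3, nat_lit 9, nat_lit 8, nat_lit 1, nat_lit 9, nat_lit 3, nat_lit 0, nat_lit 8, nat_lit 7, nat_lit 5, nat_lit 6, nat_lit 7, nat_lit 4, nat_lit 3, nat_lit 6, nat_lit 2, nat_lit 2])) (.leaf ((nat_lit 4), [nat_lit 7, nat_lit 1, nat_lit 7, nat_lit 8, nat_lit 3, nat_lit 3, nat_lit 3, nat_lit 6, nat_lit 2]))) (.node (nat_lit 0x14f09ff8df11028) (.leaf ((nat_lit 4), [nat_lit 7, nat_lit 8, nat_lit 7, nat_lit 0, nat_lit 8, nat_lit 6, nat_lit 5, nat_lit 6, nat_lit 7, nat_lit 5])) (.node (nat_lit 0x14f728752e95a28) (.leaf ((nat_lit 5), [nat_lit 8, nat_lit 7, nat_lit 1, nat_lit 8, nat_lit 3, nat_lit 6, nat_lit 1, nat_lit 7, nat_lit 6, nat_lit 3, nat_lit 3, nat_lit 0])) (.leaf ((nat_lit 6), [nat_lit 9, nat_lit 6, nat_lit 3, nat_lit 9, nat_lit 4, nat_lit 3, nat_lit 8, nat_lit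 6, nat_lit 5, nat_lit 1, nat_lit 7, nat_lit 2, nat_lit 2, nat_lit 6, nat_lit 5, nat_lit 4, nat_lit 0]))))))
 (.node (nat_lit 0x14fdb37762af954) (.node (nat_lit 0x14faca47763b328) (.node (nat_lit 0x14f8f9677c1e4e8) (.leaf ((nat_lit 5), [nat_lit 7, nat_lit 8, nat_lit 0, nat_lit 8, nat_lit 5, nat_lit 1, nat_lit 7, nat_lit 5, nat_lit 3, nat_lit 6, nat_lit 5, nat_lit 4, nat_lit 2, nat_lit 1])) (.leaf ((nat_lit 6), [nat_lit 7, nat_lit 9, nat_lit 5, nat_lit 9, nat_lit 5, nat_lit 8, nat_lit 0, nat_lit 8, nat_lit 5, nat_lit 0, nat_lit 7, nat_lit 5, nat_lit 2, nat_lit 4, nat_lit 3, nat_lit 1]))) (.node (nat_lit 0x14fb275435a6128) (.leaf ((nat_lit 4), [nat_lit 1, nat_lit 8, nat_lit 1, nat_lit 8, nat_lit 0, nat_lit 7, nat_lit 5, nat_lit 6, nat_lit 5, nat_lit 2])) (.node (nat_lit 0x14fc3f8ef4a9094) (.leaf ((nat_lit 5), [nat_lit 6, nat_lit 3, nat_lit 1, nat_lit 8, nat_lit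 4, nat_lit 3, nat_lit 3, nat_lit 6, nat_lit 3, nat_lit 4])) (.leaf ((nat_lit 6), [nat_lit 9, nat_lit 2, nat_lit 6, nat_lit 9, nat_lit 4, nat_lit 8, nat_lit 0, nat_lit 8, nat_lit 1, nat_lit 7, nat_lit 5, nat_lit 3, nat_lit 1])))))
 (.node (nat_lit 0x14ff84741be3f94) (.node (nat_lit 0x14fe10814231b54) (.leaf ((nat_lit 4), [nat_lit 3, nat_lit 5, nat_lit 8, nat_lit 5, nat_lit 6, nat_lit 7, nat_lit 3, nat_lit 3, nat_lit 3, nat_lit 6, nat_lit 5, nat_lit 2, nat_lit 4, nat_lit 1])) (.leaf ((nat_lit 4), [nat_lit 8, nat_lit 5, nat_lit 0, nat_lit 8, nat_lit 3, nat_lit 3, nat_lit 6, nat_lit 4, nat_lit 2, nat_lit 1]))) (.node (nat_lit 0x1505b1248d58dfc) (.leaf ((nat_lit 5), [nat_lit 2, nat_lit 6, nat_lit 0, nat_lit 8, nat_lit 4, nat_lit 0, nat_lit 7, nat_lit 5, nat_lit 3, nat_lit 6, nat_lit 4, nat_lit 3, nat_lit 1])) (.node (nat_lit 0x15060e34b6a823c) (.leaf ((nat_lit 6),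 [nat_lit 1, nat_lit 9, nat_lit 1, nat_lit 9, nat_lit 8, nat_lit 1, nat_lit 7, nat_lit 8, nat_lit 7, nat_lit 5, nat_lit 7, nat_lit 6, nat_lit 5, nat_lit 3, nat_lit 3])) (.leaf ((nat_lit 5), [nat_lit 8, nat_lit 6, nat_lit 3, nat_lit 8, nat_lit 5, nat_lit 7, nat_lit 5, nat_lit 7, nat_lit 6, nat_lit 3, nat_lit 3, nat_lit 6, nat_lit 1]))))))))
 (.node (nat_lit 0x15266218fb9f128) (.node (nat_lit 0x1516c3a4c4ef854) (.node (nat_lit 0x150d50b46bb53fc) (.node (nat_lit 0x1509b00394694fc) (.node (nat_lit 0x1507df13f8cad7c) (.leaf ((nat_lit 4), [nat_lit 8, nat_lit 0, nat_lit 8, nat_lit 4, nat_lit 7, nat_lit 6, nat_lit 3, nat_lit 4, nat_lit 6, nat_lit 5, nat_lit 0])) (.leaf ((nat_lit 5), [nat_lit 2, nat_lit 7, nat_lit 5, nat_lit 8, nat_lit 0, nat_lit 7, nat_lit 5, nat_lit 6, nat_lit 5, nat_lit 3, nat_lit 6, nat_lit 4, nat_lit 3, nat_lit 3]))) (.node (nat_lit 0x150ac5b0591857c)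 (.leaf ((nat_lit 6), [nat_lit 9, nat_lit 6, nat_lit 4, nat_lit 9, nat_lit 6, nat_lit 0, nat_lit 8, nat_lit 7, nat_lit 3, nat_lit 6, nat_lit 3, nat_lit 4, nat_lit 3])) (.node (nat_lit 0x150c39a55ab92bc) (.leaf ((nat_lit 6), [nat_lit 7, nat_lit 9, nat_lit 6, nat_lit 0, nat_lit 9, nat_lit 5, nat_lit 8, nat_lit 0, nat_lit 8, nat_lit 7, nat_lit 0, nat_lit 7, nat_lit 2, nat_lit 6, nat_lit 3, nat_lit 1])) (.leaf ((nat_lit 5), [nat_lit 9, nat_lit 0, nat_lit 7, nat_lit 2, nat_lit 9, nat_lit 8, nat_lit 0, nat_lit 8, nat_lit 7, nat_lit 3, nat_lit 4, nat_lit 7, nat_lit 4, nat_lit 6, nat_lit 3, nat_lit 3, nat_lit 3, nat_lit 1])))))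
 (.node (nat_lit 0x151495b5877c194) (.node (nat_lit 0x150dad98906887c) (.leaf ((nat_lit 4), [nat_lit 6, nat_lit 1, nat_lit 8, nat_lit 0, nat_lit 7, nat_lit 6, nat_lit 4, nat_lit 3, nat_lit 6, nat_lit 0])) (.leaf ((nat_lit 4), [nat_lit 4, nat_lit 8, nat_lit 0, nat_lit 8, nat_lit 7, nat_lit 5, nat_lit 6, nat_lit 7, nat_lit 5, nat_lit 2, nat_lit 0]))) (.node (nat_lit 0x1514f2be81057d4) (.leaf ((nat_lit 6), [nat_lit 4, nat_lit 9, nat_lit 5, nat_lit 9, nat_lit 3, nat_lit 5, nat_lit 8, nat_lit 2, nat_lit 4, nat_lit 7, nat_lit 6, nat_lit 5, nat_lit 6, nat_lit 5, nat_lit 2])) (.node (nat_lit 0x151666b354a7c54) (.leaf ((nat_lit 5), [nat_lit 7, nat_lit 5, nat_lit 0, nat_lit 8, nat_lit 7, nat_lit 5, nat_lit 0, nat_lit 7, nat_lit 6, nat_lit 4, nat_lit 2, nat_lit 6, nat_lit 0])) (.leaf ((nat_lit 4), [nat_lit 0, nat_lit 8, nat_lit 7, nat_lit 1, nat_lit 8, nat_lit 6, nat_lit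 5, nat_lit 6, nat_lit 7, nat_lit 5, nat_lit 3]))))))
 (.node (nat_lit 0x151d4c236a612a8) (.node (nat_lit 0x1519aa41533b7a8) (.node (nat_lit 0x151837979ea1c94) (.leaf ((nat_lit 5), [nat_lit 3, nat_lit 6, nat_lit 9, nat_lit 1, nat_lit 9, nat_lit 5, nat_lit 6, nat_lit 8, nat_lit 6, nat_lit 0, nat_lit 7, nat_lit 6, nat_lit 5, nat_lit 6, nat_lit 4])) (.leaf ((nat_lit 6), [nat_lit 9, nat_lit 8, nat_lit 2, nat_lit 1, nat_lit 9, nat_lit 7, nat_lit 8, nat_lit 5, nat_lit 6, nat_lit 7, nat_lit 5, nat_lit 3, nat_lit 6, nat_lit 4, nat_lit 1]))) (.node (nat_lit 0x151b1e36b0d9668) (.leaf ((nat_lit 6), [nat_lit 9, nat_lit 2, nat_lit 6, nat_lit 3, nat_lit 9, nat_lit 0, nat_lit 8, nat_lit 7, nat_lit 0, nat_lit 7, nat_lit 6, nat_lit 2, nat_lit 4, nat_lit 2, nat_lit 1])) (.node (nat_lit 0x151cef3871e51a8) (.leaf ((nat_lit 5), [nat_lit 6, nat_lit 2, nat_lit 8, nat_lit 7, nat_lit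 5, nat_lit 7, nat_lit 6, nat_lit 4, nat_lit 2, nat_lit 6, nat_lit 5, nat_lit 4, nat_lit 3, nat_lit 3, nat_lit 3, nat_lit 1])) (.leaf ((nat_lit 4), [nat_lit 8, nat_lit 4, nat_lit 6, nat_lit 8, nat_lit 6, nat_lit 5, nat_lit 6, nat_lit 7, nat_lit 4, nat_lit 6, nat_lit 5, nat_lit 3, nat_lit 3])))))
 (.node (nat_lit 0x15237a4b2d79468) (.node (nat_lit 0x15231d33d464228) (.leaf ((nat_lit 4), [nat_lit 2, nat_lit 2, nat_lit 8, nat_lit 6, nat_lit 1, nat_lit 7, nat_lit 4, nat_lit 6, nat_lit 3, nat_lit 4, nat_lit 1])) (.leaf ((nat_lit 6), [nat_lit 9, nat_lit 4, nat_lit 7, nat_lit 3, nat_lit 9, nat_lit 8, nat_lit 2, nat_lit 6, nat_lit 0, nat_lit 8, nat_lit 6, nat_lit 7, nat_lit 6, nat_lit 5, nat_lit 1]))) (.node (nat_lit 0x1524ee40011b8e8) (.leaf ((nat_lit 5), [nat_lit 3, nat_lit 9, nat_lit 0, nat_lit 9, nat_lit 6, nat_lit 5, nat_lit 6, nat_lit 4, nat_lit 3, nat_lit 0]))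 (.node (nat_lit 0x15254b22e3d9028) (.leaf ((nat_lit 4), [nat_lit 3, nat_lit 8, nat_lit 7, nat_lit 3, nat_lit 4, nat_lit 6, nat_lit 2, nat_lit 1])) (.leaf ((nat_lit 5), [nat_lit 5, nat_lit 9, nat_lit 2, nat_lit 1, nat_lit 9, nat_lit 3, nat_lit 6, nat_lit 8, nat_lit 6, nat_lit 5, nat_lit 1, nat_lit 7, nat_lit 2, nat_lit 4, nat_lit 6, nat_lit 3, nat_lit 1])))))))
 (.node (nat_lit 0x1538e75a706f22c) (.node (nat_lit 0x1533178a5dcbdac) (.node (nat_lit 0x1529a5b4cfc3114) (.node (nat_lit 0x152831bfa023b14) (.leaf ((nat_lit 6), [nat_lit 9, nat_lit 5, nat_lit 4, nat_lit 9, nat_lit 5, nat_lit 7, nat_lit 0, nat_lit 8, nat_lit 3, nat_lit 6, nat_lit 7, nat_lit 6, nat_lit 2, nat_lit 2, nat_lit 1])) (.leaf ((nat_lit 6), [nat_lit 9, nat_lit 4, nat_lit 7, nat_lit 3, nat_lit 9, nat_lit 7, nat_lit 5, nat_lit 8, nat_lit 0, nat_lit 7, nat_lit 5, nat_lit 3, nat_lit 6, nat_lit 2, nat_lit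 4, nat_lit 3]))) (.node (nat_lit 0x152b19c8006fc54) (.leaf ((nat_lit 5), [nat_lit 9, nat_lit 6, nat_lit 3, nat_lit 9, nat_lit 3, nat_lit 0, nat_lit 8, nat_lit 3, nat_lit 4, nat_lit 7, nat_lit 5, nat_lit 6, nat_lit 3, nat_lit 4, nat_lit 3, nat_lit 1])) (.node (nat_lit 0x152b76a4c75ea14) (.leaf ((nat_lit 4), [nat_lit 8, nat_lit 6, nat_lit 2, nat_lit 8, nat_lit 5, nat_lit 7, nat_lit 3, nat_lit 4, nat_lit 3, nat_lit 3, nat_lit 6, nat_lit 5])) (.leaf ((nat_lit 4), [nat_lit 6, nat_lit 2, nat_lit 1, nat_lit 8, nat_lit 6, nat_lit 7, nat_lit 5, nat_lit 6, nat_lit 3, nat_lit 3])))))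
 (.node (nat_lit 0x15365c6fb30556c) (.node (nat_lit 0x1534e87cab5486c) (.leaf ((nat_lit 5), [nat_lit 5, nat_lit 7, nat_lit 5, nat_lit 8, nat_lit 3, nat_lit 6, nat_lit 7, nat_lit 2, nat_lit 4, nat_lit 3, nat_lit 6, nat_lit 5, nat_lit 2, nat_lit 4, nat_lit 2])) (.leaf ((nat_lit 5), [nat_lit 9, nat_lit 1, nat_lit 8, nat_lit 7, nat_lit 9, nat_lit 8, nat_lit 0, nat_lit 8, nat_lit 6, nat_lit 5, nat_lit 6, nat_lit 7, nat_lit 4, nat_lit 2, nat_lit 2, nat_lit 6]))) (.node (nat_lit 0x15371668dae0a6c) (.leaf ((nat_lit 5), [nat_lit 8, nat_lit 6, nat_lit 3, nat_lit 8, nat_lit 5, nat_lit 7, nat_lit 5, nat_lit 0, nat_lit 7, nat_lit 6, nat_lit 3, nat_lit 3, nat_lit 1])) (.node (nat_lit 0x15377363a2dcd6c) (.leaf ((nat_lit 6), [nat_lit 4, nat_lit 9, nat_lit 0, nat_lit 9, nat_lit 7, nat_lit 2, nat_lit 8, nat_lit 6, nat_lit 2, nat_lit 4, nat_lit 7, nat_lit 4, nat_lit 6, nat_lit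 5])) (.leaf ((nat_lit 6), [nat_lit 7, nat_lit 9, nat_lit 5, nat_lit 3, nat_lit 1, nat_lit 9, nat_lit 3, nat_lit 7, nat_lit 0, nat_lit 8, nat_lit 6, nat_lit 3, nat_lit 3]))))))
 (.node (nat_lit 0x1541fc1b57ef144) (.node (nat_lit 0x153a5b4ee81452c) (.node (nat_lit 0x15394455f06582c) (.leaf ((nat_lit 6), [nat_lit 3, nat_lit 9, nat_lit 5, nat_lit 9, nat_lit 8, nat_lit 7, nat_lit 0, nat_lit 8, nat_lit 6, nat_lit 1, nat_lit 7, nat_lit 6, nat_lit 2, nat_lit 4, nat_lit 3, nat_lit 0])) (.leaf ((nat_lit 6), [nat_lit 9, nat_lit 0, nat_lit 9, nat_lit 1, nat_lit 9, nat_lit 2, nat_lit 6, nat_lit 0, nat_lit 8, nat_lit 4, nat_lit 3, nat_lit 6, nat_lit 4, nat_lit 3, nat_lit 3]))) (.node (nat_lit 0x153ab848f81652c) (.leaf ((nat_lit 6), [nat_lit 9, nat_lit 4, nat_lit 6, nat_lit 1, nat_lit 9, nat_lit 5, nat_lit 0, nat_lit 8, nat_lit 6, nat_lit 7, nat_lit 6, nat_lit 4, nat_lit 2,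 nat_lit 6, nat_lit 5, nat_lit 4, nat_lit 3])) (.node (nat_lit 0x15419f153e4e704) (.leaf ((nat_lit 6), [nat_lit 6, nat_lit 9, nat_lit 6, nat_lit 0, nat_lit 9, nat_lit 8, nat_lit 1, nat_lit 8, nat_lit 7, nat_lit 5, nat_lit 7, nat_lit 4])) (.leaf ((nat_lit 4), [nat_lit 7, nat_lit 2, nat_lit 1, nat_lit 8, nat_lit 6, nat_lit 7, nat_lit 4, nat_lit 3, nat_lit 6, nat_lit 5, nat_lit 4, nat_lit 2, nat_lit 0])))))
 (.node (nat_lit 0x1543cd0da577c04) (.node (nat_lit 0x15437006d3dcec4) (.leaf ((nat_lit 5), [nat_lit 5, nat_lit 8, nat_lit 2, nat_lit 1, nat_lit 8, nat_lit 7, nat_lit 5, nat_lit 0, nat_lit 7, nat_lit 6, nat_lit 3])) (.leaf ((nat_lit 4), [nat_lit 5, nat_lit 7, nat_lit 0, nat_lit 8, nat_lit 5, nat_lit 0, nat_lit 7, nat_lit 6, nat_lit 2, nat_lit 4, nat_lit 6, nat_lit 4, nat_lit 1]))) (.node (nat_lit 0x1544e3fb4b821c4) (.leaf ((nat_lit 5), [nat_lit 4, nat_lit 8, nat_lit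 0, nat_lit 8, nat_lit 6, nat_lit 5, nat_lit 6, nat_lit 7, nat_lit 6, nat_lit 5, nat_lit 3, nat_lit 4, nat_lit 3, nat_lit 3, nat_lit 1])) (.node (nat_lit 0x15454100ad28904) (.leaf ((nat_lit 4), [nat_lit 6, nat_lit 8, nat_lit 6, nat_lit 5, nat_lit 1, nat_lit 7, nat_lit 4, nat_lit 6, nat_lit 5, nat_lit 2, nat_lit 1])) (.leaf ((nat_lit 5), [nat_lit 6, nat_lit 0, nat_lit 8, nat_lit 2, nat_lit 4, nat_lit 7, nat_lit 2, nat_lit 6, nat_lit 3, nat_lit 4, nat_lit 1])))))))))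
 (.node (nat_lit 0x15719175185b154) (.node (nat_lit 0x15624fde329d95c) (.node (nat_lit 0x155653681987904) (.node (nat_lit 0x15499cd9f239758) (.node (nat_lit 0x1547cbe43acc658) (.node (nat_lit 0x154657f49cfff98) (.leaf ((nat_lit 4), [nat_lit 7, nat_lit 5, nat_lit 8, nat_lit 1, nat_lit 7, nat_lit 6, nat_lit 5, nat_lit 2, nat_lit 4, nat_lit 0])) (.leaf ((nat_lit 4), [nat_lit 6, nat_lit 5, nat_lit 8, nat_lit 0, nat_lit 8, nat_lit 6, nat_lit 0, nat_lit 7, nat_lit 2, nat_lit 2, nat_lit 6, nat_lit 4, nat_lit 3]))) (.node (nat_lit 0x154828e6ea88a58) (.leaf ((nat_lit 4), [nat_lit 3, nat_lit 3, nat_lit 8, nat_lit 3, nat_lit 6, nat_lit 5, nat_lit 3, nat_lit 3])) (.node (nat_lit 0x15493fd8b271958) (.leaf ((nat_lit 4), [nat_lit 8, nat_lit 6, nat_lit 1, nat_lit 8, nat_lit 5, nat_lit 7, nat_lit 5, nat_lit 7, nat_lit 3, nat_lit 3, nat_lit 6, nat_lit 1])) (.leaf ((nat_lit 4),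 [nat_lit 6, nat_lit 8, nat_lit 3, nat_lit 4, nat_lit 3, nat_lit 3, nat_lit 6, nat_lit 5])))))
 (.node (nat_lit 0x1552548bf25fc98) (.node (nat_lit 0x15508399a4d71d8) (.leaf ((nat_lit 4), [nat_lit 6, nat_lit 3, nat_lit 1, nat_lit 8, nat_lit 2, nat_lit 4, nat_lit 6, nat_lit 4, nat_lit 3, nat_lit 3])) (.leaf ((nat_lit 6), [nat_lit 9, nat_lit 6, nat_lit 8, nat_lit 1, nat_lit 9, nat_lit 8, nat_lit 0, nat_lit 8, nat_lit 2, nat_lit 4, nat_lit 7, nat_lit 2, nat_lit 4, nat_lit 6, nat_lit 5, nat_lit 3, nat_lit 4]))) (.node (nat_lit 0x1553c87efa10998) (.leaf ((nat_lit 6), [nat_lit 9, nat_lit 5, nat_lit 4, nat_lit 9, nat_lit 8, nat_lit 5, nat_lit 6, nat_lit 3, nat_lit 4, nat_lit 3, nat_lit 0])) (.node (nat_lit 0x15548275cbfee44) (.leaf ((nat_lit 6), [nat_lit 2, nat_lit 9, nat_lit 0, nat_lit 9, nat_lit 6, nat_lit 1, nat_lit 8, nat_lit 6, nat_lit 5, nat_lit 6, nat_lit 7, nat_lit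 6, nat_lit 3, nat_lit 3, nat_lit 6])) (.leaf ((nat_lit 5), [nat_lit 3, nat_lit 8, nat_lit 6, nat_lit 1, nat_lit 8, nat_lit 6, nat_lit 5, nat_lit 1, nat_lit 7, nat_lit 3, nat_lit 6, nat_lit 3, nat_lit 4, nat_lit 3, nat_lit 1]))))))
 (.node (nat_lit 0x15607ef736b18bc) (.node (nat_lit 0x155f67fef6fcebc) (.node (nat_lit 0x1557c75b2138604) (.leaf ((nat_lit 5), [nat_lit 1, nat_lit 9, nat_lit 5, nat_lit 3, nat_lit 9, nat_lit 8, nat_lit 0, nat_lit 8, nat_lit 7, nat_lit 4, nat_lit 2, nat_lit 6, nat_lit 5])) (.leaf ((nat_lit 5), [nat_lit 1, nat_lit 7, nat_lit 8, nat_lit 7, nat_lit 3, nat_lit 4, nat_lit 7, nat_lit 6, nat_lit 5, nat_lit 3, nat_lit 6, nat_lit 2, nat_lit 2, nat_lit 1]))) (.node (nat_lit 0x155f68070cc359c) (.leaf ((nat_lit 5), [nat_lit 6, nat_lit 8, nat_lit 1, nat_lit 8, nat_lit 7, nat_lit 5, nat_lit 1, nat_lit 7, nat_lit 5, nat_lit 3, nat_lit 6, nat_lit 3,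 nat_lit 4])) (.node (nat_lit 0x155f680f227df60) (.leaf ((nat_lit 0), [nat_lit 2, nat_lit 6, nat_lit 2, nat_lit 8, nat_lit 0, nat_lit 7, nat_lit 4, nat_lit 3, nat_lit 6, nat_lit 5, nat_lit 4, nat_lit 1])) (.leaf ((nat_lit 0), [nat_lit 6, nat_lit 2, nat_lit 1, nat_lit 8, nat_lit 6, nat_lit 3, nat_lit 4, nat_lit 7, nat_lit 4, nat_lit 3, nat_lit 6, nat_lit 3, nat_lit 3])))))
 (.node (nat_lit 0x15607f050c457a0) (.node (nat_lit 0x15607efd248969c) (.leaf ((nat_lit 6), [nat_lit 4, nat_lit 9, nat_lit 0, nat_lit 9, nat_lit 3, nat_lit 5, nat_lit 8, nat_lit 7, nat_lit 1, nat_lit 7, nat_lit 4, nat_lit 3, nat_lit 3, nat_lit 6, nat_lit 2])) (.leaf ((nat_lit 3), [nat_lit 4, nat_lit 1, nat_lit 9, nat_lit 5, nat_lit 9, nat_lit 8, nat_lit 5, nat_lit 2, nat_lit 8, nat_lit 4, nat_lit 7, nat_lit 4, nat_lit 3, nat_lit 3, nat_lit 3, nat_lit 1]))) (.node (nat_lit 0x15624fd05d05a7c) (.leaf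 ((nat_lit 2), [nat_lit 6, nat_lit 9, nat_lit 5, nat_lit 9, nat_lit 2, nat_lit 6, nat_lit 8, nat_lit 7, nat_lit 5, nat_lit 0, nat_lit 7, nat_lit 3, nat_lit 3, nat_lit 6, nat_lit 2, nat_lit 1])) (.node (nat_lit 0x15624fd61cdafa0) (.leaf ((nat_lit 4), [nat_lit 1, nat_lit 8, nat_lit 6, nat_lit 5, nat_lit 6, nat_lit 5, nat_lit 3, nat_lit 4])) (.leaf ((nat_lit 1), [nat_lit 6, nat_lit 9, nat_lit 5, nat_lit 9, nat_lit 8, nat_lit 6, nat_lit 2, nat_lit 8, nat_lit 1, nat_lit 7, nat_lit 5, nat_lit 6, nat_lit 5, nat_lit 3, nat_lit 6, nat_lit 3, nat_lit 0])))))))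
 (.node (nat_lit 0x156def741a2f554) (.node (nat_lit 0x1563c51f3937d3c) (.node (nat_lit 0x1562acec8ffb4b0) (.node (nat_lit 0x1562ace41e37dbc) (.leaf ((nat_lit 1), [nat_lit 6, nat_lit 9, nat_lit 5, nat_lit 9, nat_lit 4, nat_lit 7, nat_lit 6, nat_lit 8, nat_lit 6, nat_lit 5, nat_lit 7, nat_lit 6, nat_lit 4, nat_lit 0])) (.leaf ((nat_lit 5), [nat_lit 9, nat_lit 7, nat_lit 5, nat_lit 0, nat_lit 9, nat_lit 7, nat_lit 2, nat_lit 5, nat_lit 8, nat_lit 0, nat_lit 7, nat_lit 6, nat_lit 4, nat_lit 3, nat_lit 6, nat_lit 1]))) (.node (nat_lit 0x1562acf1f3cbb34) (.leaf ((nat_lit 3), [nat_lit 6, nat_lit 9, nat_lit 5, nat_lit 9, nat_lit 5, nat_lit 2, nat_lit 8, nat_lit 7, nat_lit 5, nat_lit 0, nat_lit 7, nat_lit 4, nat_lit 2, nat_lit 2, nat_lit 6, nat_lit 2, nat_lit 4])) (.node (nat_lit 0x1563680eb3eb77c) (.leaf ((nat_lit 2), [nat_lit 2, nat_lit 2, nat_lit 9, nat_lit 1, nat_lit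 9, nat_lit 2, nat_lit 6, nat_lit 8, nat_lit 1, nat_lit 7, nat_lit 4, nat_lit 3, nat_lit 6, nat_lit 3, nat_lit 3, nat_lit 3, nat_lit 0])) (.leaf ((nat_lit 6), [nat_lit 3, nat_lit 9, nat_lit 3, nat_lit 5, nat_lit 9, nat_lit 0, nat_lit 8, nat_lit 1, nat_lit 7, nat_lit 3, nat_lit 6, nat_lit 5, nat_lit 3, nat_lit 4, nat_lit 0])))))
 (.node (nat_lit 0x1565961186c07fc) (.node (nat_lit 0x156539004979f3c) (.leaf ((nat_lit 6), [nat_lit 8, nat_lit 1, nat_lit 9, nat_lit 0, nat_lit 9, nat_lit 3, nat_lit 0, nat_lit 8, nat_lit 5, nat_lit 1, nat_lit 7, nat_lit 3, nat_lit 6, nat_lit 4, nat_lit 0])) (.leaf ((nat_lit 4), [nat_lit 3, nat_lit 6, nat_lit 8, nat_lit 5, nat_lit 6, nat_lit 7, nat_lit 6, nat_lit 2, nat_lit 4, nat_lit 6, nat_lit 4]))) (.node (nat_lit 0x15670a048e714fc) (.leaf ((nat_lit 4), [nat_lit 3, nat_lit 5, nat_lit 6, nat_lit 8, nat_lit 5, nat_lit 6, nat_lit 7, nat_lit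 6])) (.node (nat_lit 0x156def6e5a65630) (.leaf ((nat_lit 5), [nat_lit 5, nat_lit 8, nat_lit 6, nat_lit 5, nat_lit 0, nat_lit 7, nat_lit 3, nat_lit 3, nat_lit 6, nat_lit 5, nat_lit 3, nat_lit 0])) (.leaf ((nat_lit 1), [nat_lit 1, nat_lit 9, nat_lit 5, nat_lit 9, nat_lit 7, nat_lit 1, nat_lit 8, nat_lit 6, nat_lit 0, nat_lit 7, nat_lit 3, nat_lit 4, nat_lit 6, nat_lit 4, nat_lit 1]))))))
 (.node (nat_lit 0x156fc0752348670) (.node (nat_lit 0x156e4c821b97804) (.node (nat_lit 0x156def7c2ff1688) (.leaf ((nat_lit 4), [nat_lit 8, nat_lit 7, nat_lit 1, nat_lit 8, nat_lit 5, nat_lit 7, nat_lit 4, nat_lit 3, nat_lit 3, nat_lit 1])) (.leaf ((nat_lit 1), [nat_lit 4, nat_lit 1, nat_lit 9, nat_lit 5, nat_lit 9, nat_lit 7, nat_lit 8, nat_lit 6, nat_lit 7, nat_lit 6, nat_lit 3, nat_lit 4, nat_lit 6, nat_lit 3, nat_lit 3, nat_lit 3]))) (.node (nat_lit 0x156e4c8a8d4f620) (.leaf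 ((nat_lit 3), [nat_lit 6, nat_lit 9, nat_lit 5, nat_lit 9, nat_lit 7, nat_lit 2, nat_lit 8, nat_lit 2, nat_lit 4, nat_lit 7, nat_lit 3, nat_lit 4])) (.node (nat_lit 0x156e4c8ff120254) (.leaf ((nat_lit 2), [nat_lit 2, nat_lit 2, nat_lit 9, nat_lit 1, nat_lit 9, nat_lit 6, nat_lit 8, nat_lit 6, nat_lit 5, nat_lit 1, nat_lit 7, nat_lit 4, nat_lit 3, nat_lit 6, nat_lit 2, nat_lit 4, nat_lit 3, nat_lit 1])) (.leaf ((nat_lit 5), [nat_lit 5, nat_lit 0, nat_lit 7, nat_lit 8, nat_lit 6, nat_lit 5, nat_lit 6, nat_lit 3, nat_lit 4, nat_lit 3, nat_lit 1])))))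
 (.node (nat_lit 0x156fc0854ebe114) (.node (nat_lit 0x156fc07d3902ec8) (.leaf ((nat_lit 0), [nat_lit 7, nat_lit 5, nat_lit 0, nat_lit 8, nat_lit 5, nat_lit 7, nat_lit 3, nat_lit 6, nat_lit 2, nat_lit 1])) (.leaf ((nat_lit 0), [nat_lit 8, nat_lit 6, nat_lit 7, nat_lit 4, nat_lit 2, nat_lit 2, nat_lit 6, nat_lit 5, nat_lit 3]))) (.node (nat_lit 0x1571916742d2870) (.leaf ((nat_lit 5), [nat_lit 1, nat_lit 8, nat_lit 1, nat_lit 8, nat_lit 5, nat_lit 7, nat_lit 5, nat_lit 0, nat_lit 7, nat_lit 4, nat_lit 6])) (.node (nat_lit 0x1571916d309e7c8) (.leaf ((nat_lit 3), [nat_lit 4, nat_lit 1, nat_lit 9, nat_lit 5, nat_lit 9, nat_lit 2, nat_lit 8, nat_lit 4, nat_lit 0, nat_lit 7, nat_lit 6, nat_lit 5, nat_lit 3, nat_lit 6, nat_lit 4, nat_lit 1])) (.leaf ((nat_lit 2), [nat_lit 7, nat_lit 9, nat_lit 2, nat_lit 1, nat_lit 9, nat_lit 8, nat_lit 5, nat_lit 2, nat_lit 8, nat_lit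 2, nat_lit 4, nat_lit 7, nat_lit 4, nat_lit 2, nat_lit 2]))))))))
 (.node (nat_lit 0x15830220cdcbd94) (.node (nat_lit 0x157e47ea467a8c4) (.node (nat_lit 0x157591986aab268) (.node (nat_lit 0x1572a9b0335af68) (.node (nat_lit 0x15724c987e48ba8) (.leaf ((nat_lit 6), [nat_lit 0, nat_lit 9, nat_lit 3, nat_lit 5, nat_lit 9, nat_lit 8, nat_lit 7, nat_lit 1, nat_lit 8, nat_lit 4, nat_lit 1, nat_lit 7, nat_lit 4, nat_lit 6, nat_lit 3, nat_lit 1])) (.leaf ((nat_lit 4), [nat_lit 5, nat_lit 8, nat_lit 6, nat_lit 7, nat_lit 5, nat_lit 3, nat_lit 6, nat_lit 5, nat_lit 2, nat_lit 4, nat_lit 2]))) (.node (nat_lit 0x15741da562fa568) (.leaf ((nat_lit 4), [nat_lit 6, nat_lit 3, nat_lit 8, nat_lit 7, nat_lit 5, nat_lit 6, nat_lit 7, nat_lit 6, nat_lit 5, nat_lit 2, nat_lit 2])) (.node (nat_lit 0x157534816d931a8) (.leaf ((nat_lit 5), [nat_lit 6, nat_lit 8, nat_lit 1, nat_lit 8, nat_lit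 5, nat_lit 4, nat_lit 7, nat_lit 3, nat_lit 3, nat_lit 6, nat_lit 4, nat_lit 2, nat_lit 1])) (.leaf ((nat_lit 6), [nat_lit 2, nat_lit 4, nat_lit 9, nat_lit 0, nat_lit 9, nat_lit 7, nat_lit 8, nat_lit 1, nat_lit 8, nat_lit 7, nat_lit 1, nat_lit 7, nat_lit 3, nat_lit 6, nat_lit 3, nat_lit 4, nat_lit 3])))))
 (.node (nat_lit 0x157cd40e3e082e8) (.node (nat_lit 0x157cd408503bc74) (.leaf ((nat_lit 6), [nat_lit 3, nat_lit 9, nat_lit 5, nat_lit 3, nat_lit 9, nat_lit 8, nat_lit 0, nat_lit 7, nat_lit 6, nat_lit 3, nat_lit 3, nat_lit 3, nat_lit 1])) (.leaf ((nat_lit 2), [nat_lit 8, nat_lit 2, nat_lit 6, nat_lit 0, nat_lit 8, nat_lit 3, nat_lit 6, nat_lit 7, nat_lit 2, nat_lit 4, nat_lit 6, nat_lit 3, nat_lit 4]))) (.node (nat_lit 0x157cd41625cfcc4) (.leaf ((nat_lit 6), [nat_lit 9, nat_lit 8, nat_lit 1, nat_lit 9, nat_lit 7, nat_lit 2, nat_lit 8, nat_lit 6, nat_lit 0, nat_lit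 7, nat_lit 2, nat_lit 4, nat_lit 6, nat_lit 5, nat_lit 4])) (.node (nat_lit 0x157e47e486a5234) (.leaf ((nat_lit 3), [nat_lit 4, nat_lit 1, nat_lit 9, nat_lit 5, nat_lit 9, nat_lit 2, nat_lit 6, nat_lit 3, nat_lit 8, nat_lit 1, nat_lit 7, nat_lit 6, nat_lit 5])) (.leaf ((nat_lit 1), [nat_lit 6, nat_lit 9, nat_lit 5, nat_lit 9, nat_lit 4, nat_lit 6, nat_lit 8, nat_lit 7, nat_lit 5, nat_lit 1]))))))
 (.node (nat_lit 0x158018eb4f88274) (.node (nat_lit 0x157ea4f847d7408) (.node (nat_lit 0x157e47f25c319a8) (.leaf ((nat_lit 1), [nat_lit 6, nat_lit 9, nat_lit 5, nat_lit 9, nat_lit 5, nat_lit 0, nat_lit 8, nat_lit 6, nat_lit 3, nat_lit 4, nat_lit 6, nat_lit 5, nat_lit 2, nat_lit 0])) (.leaf ((nat_lit 4), [nat_lit 6, nat_lit 0, nat_lit 8, nat_lit 6, nat_lit 2, nat_lit 4, nat_lit 7, nat_lit 6, nat_lit 3, nat_lit 3, nat_lit 6]))) (.node (nat_lit 0x157ea500b98f668) (.leaf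 ((nat_lit 2), [nat_lit 2, nat_lit 2, nat_lit 9, nat_lit 1, nat_lit 9, nat_lit 2, nat_lit 6, nat_lit 8, nat_lit 6, nat_lit 1, nat_lit 7, nat_lit 6, nat_lit 3, nat_lit 4, nat_lit 3, nat_lit 0])) (.node (nat_lit 0x157ea5061d6b89c) (.leaf ((nat_lit 5), [nat_lit 1, nat_lit 8, nat_lit 1, nat_lit 8, nat_lit 7, nat_lit 4, nat_lit 2, nat_lit 2, nat_lit 6, nat_lit 5])) (.leaf ((nat_lit 3), [nat_lit 6, nat_lit 9, nat_lit 5, nat_lit 9, nat_lit 4, nat_lit 3, nat_lit 8, nat_lit 6, nat_lit 5, nat_lit 6, nat_lit 7, nat_lit 3, nat_lit 3, nat_lit 6, nat_lit 4])))))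
 (.node (nat_lit 0x158018fb7b09484) (.node (nat_lit 0x158018f365431e8) (.leaf ((nat_lit 0), [nat_lit 7, nat_lit 8, nat_lit 5, nat_lit 8, nat_lit 6, nat_lit 5, nat_lit 6, nat_lit 3, nat_lit 3, nat_lit 3])) (.leaf ((nat_lit 5), [nat_lit 9, nat_lit 1, nat_lit 9, nat_lit 7, nat_lit 1, nat_lit 8, nat_lit 7, nat_lit 5, nat_lit 0, nat_lit 7, nat_lit 4, nat_lit 3]))) (.node (nat_lit 0x1580d4316259e14) (.leaf ((nat_lit 0), [nat_lit 6, nat_lit 3, nat_lit 1, nat_lit 8, nat_lit 5, nat_lit 4, nat_lit 7, nat_lit 5, nat_lit 3, nat_lit 0])) (.node (nat_lit 0x1582a516c04b2d4) (.leaf ((nat_lit 5), [nat_lit 3, nat_lit 8, nat_lit 6, nat_lit 1, nat_lit 8, nat_lit 5, nat_lit 7, nat_lit 6, nat_lit 3, nat_lit 3, nat_lit 6, nat_lit 4, nat_lit 2, nat_lit 1])) (.leaf ((nat_lit 6), [nat_lit 9, nat_lit 0, nat_lit 9, nat_lit 2, nat_lit 7, nat_lit 8, nat_lit 3, nat_lit 6, nat_lit 7, nat_lit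 3, nat_lit 3, nat_lit 6, nat_lit 2])))))))
 (.node (nat_lit 0x158fb74fe4b27bc) (.node (nat_lit 0x158d8aad083d63c) (.node (nat_lit 0x15847613d57ca94) (.node (nat_lit 0x1584190b37f05d4) (.leaf ((nat_lit 6), [nat_lit 9, nat_lit 5, nat_lit 9, nat_lit 0, nat_lit 8, nat_lit 4, nat_lit 1, nat_lit 7, nat_lit 2, nat_lit 4, nat_lit 6, nat_lit 5, nat_lit 3, nat_lit 3, nat_lit 3, nat_lit 0])) (.leaf ((nat_lit 4), [nat_lit 6, nat_lit 5, nat_lit 2, nat_lit 8, nat_lit 7, nat_lit 0, nat_lit 7, nat_lit 6, nat_lit 5, nat_lit 3, nat_lit 3, nat_lit 0]))) (.node (nat_lit 0x158b5cbd9ccb6bc) (.leaf ((nat_lit 4), [nat_lit 1, nat_lit 8, nat_lit 7, nat_lit 5, nat_lit 7, nat_lit 4, nat_lit 2, nat_lit 6, nat_lit 2])) (.node (nat_lit 0x158d2dc323b89bc) (.leaf ((nat_lit 5), [nat_lit 0, nat_lit 9, nat_lit 3, nat_lit 5, nat_lit 9, nat_lit 7, nat_lit 5, nat_lit 6, nat_lit 7, nat_lit 6, nat_lit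 3, nat_lit 4, nat_lit 6, nat_lit 3, nat_lit 3, nat_lit 1])) (.leaf ((nat_lit 4), [nat_lit 8, nat_lit 1, nat_lit 8, nat_lit 7, nat_lit 5, nat_lit 7, nat_lit 5, nat_lit 6, nat_lit 5, nat_lit 4, nat_lit 3, nat_lit 3])))))
 (.node (nat_lit 0x158f5a6ada0677c) (.node (nat_lit 0x158ea1a2f204e7c) (.leaf ((nat_lit 5), [nat_lit 5, nat_lit 8, nat_lit 6, nat_lit 7, nat_lit 3, nat_lit 6, nat_lit 5, nat_lit 2, nat_lit 4, nat_lit 2])) (.leaf ((nat_lit 6), [nat_lit 5, nat_lit 9, nat_lit 1, nat_lit 9, nat_lit 3, nat_lit 5, nat_lit 8, nat_lit 7, nat_lit 5, nat_lit 0, nat_lit 7, nat_lit 2, nat_lit 2, nat_lit 6, nat_lit 1]))) (.node (nat_lit 0x158f5a72efcccf0) (.leaf ((nat_lit 6), [nat_lit 9, nat_lit 5, nat_lit 3, nat_lit 9, nat_lit 8, nat_lit 7, nat_lit 2, nat_lit 4, nat_lit 7, nat_lit 6, nat_lit 4, nat_lit 2, nat_lit 6, nat_lit 4, nat_lit 3, nat_lit 3, nat_lit 0])) (.node (nat_lit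 0x158f5a7b05876b4) (.leaf ((nat_lit 1), [nat_lit 1, nat_lit 9, nat_lit 5, nat_lit 9, nat_lit 8, nat_lit 4, nat_lit 7, nat_lit 4, nat_lit 3, nat_lit 3, nat_lit 6, nat_lit 5, nat_lit 4, nat_lit 1])) (.leaf ((nat_lit 1), [nat_lit 4, nat_lit 1, nat_lit 9, nat_lit 5, nat_lit 9, nat_lit 1, nat_lit 7, nat_lit 8, nat_lit 7, nat_lit 6, nat_lit 4, nat_lit 2, nat_lit 0]))))))
 (.node (nat_lit 0x1590ce55f9fedc4) (.node (nat_lit 0x158fb7601037584) (.node (nat_lit 0x158fb757fa74bc8) (.leaf ((nat_lit 6), [nat_lit 3, nat_lit 3, nat_lit 9, nat_lit 0, nat_lit 9, nat_lit 7, nat_lit 8, nat_lit 1, nat_lit 8, nat_lit 7, nat_lit 6, nat_lit 2, nat_lit 2, nat_lit 6, nat_lit 5, nat_lit 2, nat_lit 2])) (.leaf ((nat_lit 2), [nat_lit 0, nat_lit 8, nat_lit 7, nat_lit 1, nat_lit 8, nat_lit 7, nat_lit 5, nat_lit 0, nat_lit 7, nat_lit 3, nat_lit 4, nat_lit 6, nat_lit 4, nat_lit 3]))) (.node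 (nat_lit 0x1590ce4824671bc) (.leaf ((nat_lit 3), [nat_lit 1, nat_lit 9, nat_lit 5, nat_lit 9, nat_lit 5, nat_lit 0, nat_lit 8, nat_lit 6, nat_lit 7, nat_lit 2, nat_lit 2, nat_lit 6, nat_lit 2, nat_lit 2])) (.node (nat_lit 0x1590ce4de43c408) (.leaf ((nat_lit 5), [nat_lit 4, nat_lit 8, nat_lit 6, nat_lit 3, nat_lit 8, nat_lit 5, nat_lit 6, nat_lit 7, nat_lit 3, nat_lit 4, nat_lit 3, nat_lit 3, nat_lit 6, nat_lit 3, nat_lit 0])) (.leaf ((nat_lit 0), [nat_lit 0, nat_lit 8, nat_lit 6, nat_lit 3, nat_lit 8, nat_lit 7, nat_lit 4, nat_lit 3, nat_lit 3, nat_lit 6, nat_lit 4])))))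
 (.node (nat_lit 0x15924259b7289f0) (.node (nat_lit 0x15924253c950d7c) (.leaf ((nat_lit 0), [nat_lit 6, nat_lit 2, nat_lit 1, nat_lit 8, nat_lit 6, nat_lit 5, nat_lit 0, nat_lit 7, nat_lit 4, nat_lit 1])) (.leaf ((nat_lit 4), [nat_lit 6, nat_lit 5, nat_lit 2, nat_lit 8, nat_lit 6, nat_lit 0, nat_lit 7, nat_lit 5, nat_lit 2, nat_lit 4]))) (.node (nat_lit 0x159242619ee4af4) (.leaf ((nat_lit 0), [nat_lit 8, nat_lit 0, nat_lit 7, nat_lit 4, nat_lit 6, nat_lit 3, nat_lit 4])) (.node (nat_lit 0x15929f37ee041fc) (.leaf ((nat_lit 0), [nat_lit 2, nat_lit 8, nat_lit 7, nat_lit 5, nat_lit 0, nat_lit 7, nat_lit 3, nat_lit 4, nat_lit 0])) (.leaf ((nat_lit 4), [nat_lit 7, nat_lit 5, nat_lit 0, nat_lit 8, nat_lit 6, nat_lit 5, nat_lit 6, nat_lit 7, nat_lit 5, nat_lit 0]))))))))))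
 (.node (nat_lit 0x16762d55ba2cb60) (.node (nat_lit 0x15b7d7d2b3e6560) (.node (nat_lit 0x15a1e0c606108e8) (.node (nat_lit 0x159e9bdb4d0a4f0) (.node (nat_lit 0x159d8633ec28214) (.node (nat_lit 0x1599e45e3a9e2d4) (.node (nat_lit 0x15929f45f19a6c4) (.leaf ((nat_lit 1), [nat_lit 6, nat_lit 9, nat_lit 5, nat_lit 9, nat_lit 4, nat_lit 7, nat_lit 8, nat_lit 7, nat_lit 5, nat_lit 6, nat_lit 7, nat_lit 2, nat_lit 2, nat_lit 6, nat_lit 4])) (.leaf ((nat_lit 1), [nat_lit 4, nat_lit 1, nat_lit 9, nat_lit 5, nat_lit 9, nat_lit 6, nat_lit 5, nat_lit 8, nat_lit 0, nat_lit 8, nat_lit 6, nat_lit 7, nat_lit 5, nat_lit 0]))) (.node (nat_lit 0x159a414e96eea54) (.leaf ((nat_lit 4), [nat_lit 6, nat_lit 3, nat_lit 4, nat_lit 7, nat_lit 5, nat_lit 2, nat_lit 4, nat_lit 3])) (.node (nat_lit 0x159c1240e477514) (.leaf ((nat_lit 5), [nat_lit 9, nat_lit 2, nat_lit 1, nat_lit 9, nat_lit 5,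 nat_lit 0, nat_lit 8, nat_lit 7, nat_lit 5, nat_lit 7, nat_lit 5, nat_lit 6, nat_lit 5, nat_lit 1])) (.leaf ((nat_lit 6), [nat_lit 9, nat_lit 5, nat_lit 8, nat_lit 3, nat_lit 9, nat_lit 7, nat_lit 5, nat_lit 1, nat_lit 8, nat_lit 3, nat_lit 4, nat_lit 7, nat_lit 4, nat_lit 6, nat_lit 3, nat_lit 3])))))
 (.node (nat_lit 0x159e3ef4a463ba8) (.node (nat_lit 0x159e3eeeb6973c8) (.leaf ((nat_lit 5), [nat_lit 1, nat_lit 8, nat_lit 0, nat_lit 7, nat_lit 6, nat_lit 5, nat_lit 3, nat_lit 6, nat_lit 3, nat_lit 4])) (.leaf ((nat_lit 0), [nat_lit 8, nat_lit 6, nat_lit 5, nat_lit 1, nat_lit 7, nat_lit 5, nat_lit 6, nat_lit 5, nat_lit 2, nat_lit 2, nat_lit 0]))) (.node (nat_lit 0x159e3efc8c2b85c) (.leaf ((nat_lit 4), [nat_lit 7, nat_lit 8, nat_lit 7, nat_lit 0, nat_lit 8, nat_lit 1, nat_lit 7, nat_lit 6, nat_lit 5, nat_lit 4])) (.node (nat_lit 0x159e9bd2db4ab20) (.leaf ((nat_lit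 0), [nat_lit 7, nat_lit 5, nat_lit 0, nat_lit 8, nat_lit 6, nat_lit 2, nat_lit 2, nat_lit 6, nat_lit 5, nat_lit 3])) (.leaf ((nat_lit 1), [nat_lit 6, nat_lit 9, nat_lit 5, nat_lit 9, nat_lit 4, nat_lit 7, nat_lit 2, nat_lit 4, nat_lit 3, nat_lit 6, nat_lit 2, nat_lit 2]))))))
 (.node (nat_lit 0x15a00fc610fa0e0) (.node (nat_lit 0x159fb2e1064ddc8) (.node (nat_lit 0x159e9be0ded59e8) (.leaf ((nat_lit 1), [nat_lit 4, nat_lit 1, nat_lit 9, nat_lit 5, nat_lit 9, nat_lit 7, nat_lit 6, nat_lit 8, nat_lit 7, nat_lit 1, nat_lit 7, nat_lit 3, nat_lit 4, nat_lit 6, nat_lit 5, nat_lit 3, nat_lit 1])) (.leaf ((nat_lit 4), [nat_lit 3, nat_lit 8, nat_lit 6, nat_lit 1, nat_lit 8, nat_lit 3, nat_lit 6, nat_lit 1, nat_lit 7, nat_lit 5, nat_lit 3, nat_lit 0]))) (.node (nat_lit 0x159fb2e91c08ea8) (.leaf ((nat_lit 1), [nat_lit 1, nat_lit 9, nat_lit 5, nat_lit 9, nat_lit 4, nat_lit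 7, nat_lit 5, nat_lit 3, nat_lit 6, nat_lit 3])) (.node (nat_lit 0x159fb2f131cf41c) (.leaf ((nat_lit 6), [nat_lit 4, nat_lit 7, nat_lit 9, nat_lit 5, nat_lit 9, nat_lit 2, nat_lit 1, nat_lit 8, nat_lit 3, nat_lit 4, nat_lit 7, nat_lit 6, nat_lit 3])) (.leaf ((nat_lit 1), [nat_lit 1, nat_lit 9, nat_lit 5, nat_lit 9, nat_lit 8, nat_lit 0, nat_lit 8, nat_lit 5, nat_lit 7, nat_lit 6, nat_lit 5, nat_lit 4, nat_lit 2, nat_lit 2, nat_lit 1])))))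
 (.node (nat_lit 0x15a00fd63c738a8) (.node (nat_lit 0x15a00fce26bc930) (.leaf ((nat_lit 2), [nat_lit 5, nat_lit 8, nat_lit 0, nat_lit 8, nat_lit 7, nat_lit 1, nat_lit 7, nat_lit 4, nat_lit 2, nat_lit 6, nat_lit 5, nat_lit 3])) (.leaf ((nat_lit 3), [nat_lit 1, nat_lit 9, nat_lit 5, nat_lit 9, nat_lit 4, nat_lit 7, nat_lit 8, nat_lit 6, nat_lit 3, nat_lit 4, nat_lit 7, nat_lit 6, nat_lit 5, nat_lit 3, nat_lit 6, nat_lit 5, nat_lit 3, nat_lit 4]))) (.node (nat_lit 0x15a1e0b830842e0) (.leaf ((nat_lit 6), [nat_lit 2, nat_lit 2, nat_lit 9, nat_lit 0, nat_lit 9, nat_lit 6, nat_lit 1, nat_lit 8, nat_lit 6, nat_lit 5, nat_lit 7, nat_lit 6, nat_lit 5, nat_lit 4, nat_lit 3, nat_lit 1])) (.node (nat_lit 0x15a1e0bdf059970) (.leaf ((nat_lit 0), [nat_lit 8, nat_lit 6, nat_lit 5, nat_lit 7, nat_lit 6, nat_lit 3, nat_lit 3, nat_lit 6, nat_lit 3, nat_lit 4, nat_lit 3, nat_lit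 1])) (.leaf ((nat_lit 0), [nat_lit 5, nat_lit 2, nat_lit 8, nat_lit 6, nat_lit 5, nat_lit 1, nat_lit 7, nat_lit 6, nat_lit 2, nat_lit 2, nat_lit 6, nat_lit 5])))))))
 (.node (nat_lit 0x15ae3a75c87ce14) (.node (nat_lit 0x15acc65c4e0aadc) (.node (nat_lit 0x15aa3cc213760e8) (.node (nat_lit 0x15a8c8cce3d6ae8) (.leaf ((nat_lit 5), [nat_lit 7, nat_lit 9, nat_lit 6, nat_lit 0, nat_lit 9, nat_lit 2, nat_lit 8, nat_lit 5, nat_lit 7, nat_lit 5, nat_lit 0, nat_lit 7, nat_lit 3, nat_lit 3, nat_lit 6, nat_lit 5, nat_lit 4, nat_lit 1])) (.leaf ((nat_lit 6), [nat_lit 3, nat_lit 3, nat_lit 9, nat_lit 0, nat_lit 9, nat_lit 7, nat_lit 2, nat_lit 8, nat_lit 6, nat_lit 7, nat_lit 3, nat_lit 6, nat_lit 2, nat_lit 4, nat_lit 0]))) (.node (nat_lit 0x15abb0d0f445a28) (.leaf ((nat_lit 5), [nat_lit 7, nat_lit 1, nat_lit 8, nat_lit 1, nat_lit 8, nat_lit 1, nat_lit 7, nat_lit 6, nat_lit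 4, nat_lit 2])) (.node (nat_lit 0x15ac0db239102a8) (.leaf ((nat_lit 4), [nat_lit 0, nat_lit 7, nat_lit 8, nat_lit 4, nat_lit 7, nat_lit 3, nat_lit 6, nat_lit 5, nat_lit 4, nat_lit 2, nat_lit 2, nat_lit 1])) (.leaf ((nat_lit 5), [nat_lit 8, nat_lit 5, nat_lit 2, nat_lit 8, nat_lit 3, nat_lit 4, nat_lit 7, nat_lit 4, nat_lit 3, nat_lit 3, nat_lit 6, nat_lit 2, nat_lit 4, nat_lit 1])))))
 (.node (nat_lit 0x15acc66a2396b34) (.node (nat_lit 0x15acc6620dd4894) (.leaf ((nat_lit 0), [nat_lit 8, nat_lit 2, nat_lit 1, nat_lit 8, nat_lit 4, nat_lit 7, nat_lit 4, nat_lit 1])) (.leaf ((nat_lit 5), [nat_lit 4, nat_lit 9, nat_lit 1, nat_lit 9, nat_lit 4, nat_lit 8, nat_lit 1, nat_lit 8, nat_lit 5, nat_lit 0, nat_lit 7, nat_lit 0]))) (.node (nat_lit 0x15ae3a67f2f43c4) (.leaf ((nat_lit 0), [nat_lit 8, nat_lit 7, nat_lit 1, nat_lit 8, nat_lit 4, nat_lit 0, nat_lit 7, nat_lit 6,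 nat_lit 5, nat_lit 6, nat_lit 4, nat_lit 3])) (.node (nat_lit 0x15ae3a6de0c0760) (.leaf ((nat_lit 0), [nat_lit 5, nat_lit 2, nat_lit 8, nat_lit 6, nat_lit 2, nat_lit 2, nat_lit 6, nat_lit 2, nat_lit 0])) (.leaf ((nat_lit 0), [nat_lit 8, nat_lit 4, nat_lit 0, nat_lit 7, nat_lit 5, nat_lit 3, nat_lit 6, nat_lit 4, nat_lit 2, nat_lit 2]))))))
 (.node (nat_lit 0x15b00b5f4850660) (.node (nat_lit 0x15ae9754895bc14) (.node (nat_lit 0x15ae974c17a7b1c) (.leaf ((nat_lit 4), [nat_lit 8, nat_lit 3, nat_lit 6, nat_lit 7, nat_lit 4, nat_lit 3, nat_lit 3, nat_lit 6, nat_lit 4, nat_lit 1])) (.leaf ((nat_lit 1), [nat_lit 4, nat_lit 1, nat_lit 9, nat_lit 5, nat_lit 9, nat_lit 6, nat_lit 7, nat_lit 1, nat_lit 8, nat_lit 7, nat_lit 4, nat_lit 3, nat_lit 3, nat_lit 6, nat_lit 3]))) (.node (nat_lit 0x15ae975a1b32434) (.leaf ((nat_lit 4), [nat_lit 2, nat_lit 6, nat_lit 0, nat_lit 8,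 nat_lit 1, nat_lit 7, nat_lit 2, nat_lit 6, nat_lit 1])) (.node (nat_lit 0x15b00b5732959c4) (.leaf ((nat_lit 1), [nat_lit 6, nat_lit 9, nat_lit 5, nat_lit 9, nat_lit 5, nat_lit 7, nat_lit 0, nat_lit 8, nat_lit 7, nat_lit 5, nat_lit 1, nat_lit 7, nat_lit 5, nat_lit 6, nat_lit 4, nat_lit 2])) (.leaf ((nat_lit 1), [nat_lit 1, nat_lit 9, nat_lit 5, nat_lit 9, nat_lit 3, nat_lit 5, nat_lit 6, nat_lit 8, nat_lit 0, nat_lit 7, nat_lit 2, nat_lit 6, nat_lit 5, nat_lit 3, nat_lit 4])))))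
 (.node (nat_lit 0x15b0683c3d41cdc) (.node (nat_lit 0x15b00b675e0b5d4) (.leaf ((nat_lit 1), [nat_lit 1, nat_lit 9, nat_lit 5, nat_lit 9, nat_lit 7, nat_lit 6, nat_lit 8, nat_lit 5, nat_lit 4, nat_lit 7, nat_lit 6, nat_lit 3, nat_lit 3, nat_lit 6, nat_lit 2, nat_lit 1])) (.leaf ((nat_lit 6), [nat_lit 3, nat_lit 9, nat_lit 0, nat_lit 9, nat_lit 5, nat_lit 0, nat_lit 7, nat_lit 8, nat_lit 7, nat_lit 0, nat_lit 7, nat_lit 3, nat_lit 6, nat_lit 5, nat_lit 4]))) (.node (nat_lit 0x15b0684452f8c54) (.leaf ((nat_lit 3), [nat_lit 1, nat_lit 9, nat_lit 5, nat_lit 9, nat_lit 7, nat_lit 1, nat_lit 8, nat_lit 1, nat_lit 8, nat_lit 5, nat_lit 7, nat_lit 5, nat_lit 6, nat_lit 5, nat_lit 3, nat_lit 6, nat_lit 5])) (.node (nat_lit 0x15b0684c68baef4) (.leaf ((nat_lit 6), [nat_lit 9, nat_lit 1, nat_lit 9, nat_lit 8, nat_lit 6, nat_lit 2, nat_lit 8, nat_lit 3, nat_lit 4, nat_lit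 3, nat_lit 3, nat_lit 6, nat_lit 3, nat_lit 4, nat_lit 3])) (.leaf ((nat_lit 2), [nat_lit 2, nat_lit 2, nat_lit 9, nat_lit 0, nat_lit 9, nat_lit 5, nat_lit 7, nat_lit 6, nat_lit 4, nat_lit 2, nat_lit 6, nat_lit 4, nat_lit 3, nat_lit 3]))))))))
 (.node (nat_lit 0x16141a97b24f3b4) (.node (nat_lit 0x15e84f0ffed08a4) (.node (nat_lit 0x15cda2d2fd6bf48) (.node (nat_lit 0x15bbd6546824674) (.node (nat_lit 0x15ba8a7d3fed0f8) (.leaf ((nat_lit 2), [nat_lit 9, nat_lit 1, nat_lit 8, nat_lit 7, nat_lit 9, nat_lit 8, nat_lit 5, nat_lit 7, nat_lit 8, nat_lit 4, nat_lit 1, nat_lit 7, nat_lit 3, nat_lit 4, nat_lit 6, nat_lit 3])) (.leaf ((nat_lit 3), [nat_lit 6, nat_lit 9, nat_lit 2, nat_lit 1, nat_lit 9, nat_lit 3, nat_lit 7, nat_lit 0, nat_lit 8, nat_lit 6, nat_lit 1, nat_lit 7, nat_lit 6, nat_lit 2, nat_lit 4, nat_lit 3, nat_lit 0]))) (.node (nat_lit 0x15c946dccb53520) (.leaf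 ((nat_lit 6), [nat_lit 8, nat_lit 1, nat_lit 9, nat_lit 5, nat_lit 9, nat_lit 8, nat_lit 6, nat_lit 2, nat_lit 8, nat_lit 5, nat_lit 0, nat_lit 7, nat_lit 6, nat_lit 5, nat_lit 6, nat_lit 5])) (.node (nat_lit 0x15cb3ff6a5f7190) (.leaf ((nat_lit 1), [nat_lit 6, nat_lit 9, nat_lit 2, nat_lit 1, nat_lit 9, nat_lit 7, nat_lit 5, nat_lit 1, nat_lit 8, nat_lit 7, nat_lit 2, nat_lit 2, nat_lit 6, nat_lit 2, nat_lit 0])) (.leaf ((nat_lit 2), [nat_lit 3, nat_lit 5, nat_lit 6, nat_lit 8, nat_lit 0, nat_lit 7, nat_lit 6, nat_lit 2])))))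
 (.node (nat_lit 0x15d888af98dc688) (.node (nat_lit 0x15d714b81350034) (.leaf ((nat_lit 1), [nat_lit 6, nat_lit 9, nat_lit 2, nat_lit 1, nat_lit 9, nat_lit 8, nat_lit 7, nat_lit 0, nat_lit 8, nat_lit 7, nat_lit 1, nat_lit 7, nat_lit 4, nat_lit 6, nat_lit 2, nat_lit 1])) (.leaf ((nat_lit 0), [nat_lit 5, nat_lit 7, nat_lit 8, nat_lit 4, nat_lit 7, nat_lit 2, nat_lit 6, nat_lit 5, nat_lit 2, nat_lit 0]))) (.node (nat_lit 0x15dcaf6933bfbe4) (.leaf ((nat_lit 3), [nat_lit 0, nat_lit 7, nat_lit 0, nat_lit 9, nat_lit 1, nat_lit 9, nat_lit 6, nat_lit 2, nat_lit 8, nat_lit 4, nat_lit 7, nat_lit 4, nat_lit 3, nat_lit 3, nat_lit 6, nat_lit 2, nat_lit 2])) (.node (nat_lit 0x15e5f8dc752a6c8) (.leaf ((nat_lit 0), [nat_lit 8, nat_lit 0, nat_lit 8, nat_lit 5, nat_lit 1, nat_lit 7, nat_lit 3, nat_lit 6, nat_lit 5, nat_lit 4, nat_lit 3, nat_lit 1])) (.leaf ((nat_lit 0), [nat_lit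 6, nat_lit 2, nat_lit 8, nat_lit 5, nat_lit 4, nat_lit 7, nat_lit 4, nat_lit 3, nat_lit 3, nat_lit 6]))))))
 (.node (nat_lit 0x160308266440108) (.node (nat_lit 0x15f5f48f9f74260) (.node (nat_lit 0x15f3c65e3052ef4) (.leaf ((nat_lit 3), [nat_lit 2, nat_lit 7, nat_lit 9, nat_lit 5, nat_lit 9, nat_lit 7, nat_lit 8, nat_lit 0, nat_lit 8, nat_lit 6, nat_lit 7, nat_lit 3, nat_lit 6, nat_lit 5, nat_lit 3, nat_lit 4, nat_lit 3, nat_lit 3, nat_lit 0])) (.leaf ((nat_lit 2), [nat_lit 8, nat_lit 7, nat_lit 9, nat_lit 2, nat_lit 1, nat_lit 9, nat_lit 7, nat_lit 6, nat_lit 8, nat_lit 5, nat_lit 7, nat_lit 5, nat_lit 4]))) (.node (nat_lit 0x15f768bcaf4f9a0) (.leaf ((nat_lit 3), [nat_lit 2, nat_lit 7, nat_lit 9, nat_lit 5, nat_lit 9, nat_lit 8, nat_lit 7, nat_lit 1, nat_lit 8, nat_lit 4, nat_lit 1, nat_lit 7, nat_lit 2, nat_lit 2])) (.node (nat_lit 0x15f9be65fb8e738) (.leaf ((nat_lit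 6), [nat_lit 2, nat_lit 7, nat_lit 6, nat_lit 8, nat_lit 4, nat_lit 7, nat_lit 6, nat_lit 5])) (.leaf ((nat_lit 2), [nat_lit 4, nat_lit 8, nat_lit 6, nat_lit 3, nat_lit 8, nat_lit 7, nat_lit 6, nat_lit 2, nat_lit 4, nat_lit 6, nat_lit 2, nat_lit 2])))))
 (.node (nat_lit 0x1604d8e2b7c6708) (.node (nat_lit 0x16038d0687b7f64) (.leaf ((nat_lit 0), [nat_lit 3, nat_lit 5, nat_lit 8, nat_lit 2, nat_lit 4, nat_lit 7, nat_lit 6, nat_lit 5, nat_lit 2, nat_lit 2])) (.leaf ((nat_lit 1), [nat_lit 2, nat_lit 7, nat_lit 9, nat_lit 5, nat_lit 9, nat_lit 6, nat_lit 3, nat_lit 0, nat_lit 8, nat_lit 6, nat_lit 7, nat_lit 6, nat_lit 4, nat_lit 3, nat_lit 6]))) (.node (nat_lit 0x1610789028afde0) (.leaf ((nat_lit 2), [nat_lit 9, nat_lit 6, nat_lit 4, nat_lit 9, nat_lit 8, nat_lit 1, nat_lit 8, nat_lit 4, nat_lit 7, nat_lit 5, nat_lit 6, nat_lit 3, nat_lit 3, nat_lit 1])) (.node (nat_lit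 0x1612a6d0dd38dc8) (.leaf ((nat_lit 0), [nat_lit 5, nat_lit 8, nat_lit 1, nat_lit 8, nat_lit 6, nat_lit 2, nat_lit 2, nat_lit 6, nat_lit 5, nat_lit 3, nat_lit 3, nat_lit 1])) (.leaf ((nat_lit 1), [nat_lit 0, nat_lit 7, nat_lit 0, nat_lit 9, nat_lit 1, nat_lit 9, nat_lit 8, nat_lit 6, nat_lit 7, nat_lit 3, nat_lit 3, nat_lit 3, nat_lit 1])))))))
 (.node (nat_lit 0x1649dc9fd5f6a20) (.node (nat_lit 0x162efba6f4e5d74) (.node (nat_lit 0x161fba429f3e9b4) (.node (nat_lit 0x16161367fd9d690) (.leaf ((nat_lit 2), [nat_lit 0, nat_lit 7, nat_lit 0, nat_lit 9, nat_lit 1, nat_lit 9, nat_lit 6, nat_lit 0, nat_lit 8, nat_lit 4, nat_lit 1, nat_lit 7, nat_lit 5, nat_lit 6, nat_lit 2, nat_lit 1])) (.leaf ((nat_lit 1), [nat_lit 2, nat_lit 7, nat_lit 9, nat_lit 5, nat_lit 9, nat_lit 8, nat_lit 7, nat_lit 1, nat_lit 8, nat_lit 7, nat_lit 5, nat_lit 4, nat_lit 2]))) (.node (nat_lit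 0x162210225be1dd0) (.leaf ((nat_lit 1), [nat_lit 2, nat_lit 7, nat_lit 9, nat_lit 5, nat_lit 9, nat_lit 4, nat_lit 3, nat_lit 8, nat_lit 6, nat_lit 3, nat_lit 4, nat_lit 7, nat_lit 4, nat_lit 3, nat_lit 3, nat_lit 6, nat_lit 3, nat_lit 3, nat_lit 3])) (.node (nat_lit 0x16235bdcf3002a0) (.leaf ((nat_lit 0), [nat_lit 7, nat_lit 6, nat_lit 8, nat_lit 6, nat_lit 4, nat_lit 2, nat_lit 6, nat_lit 3, nat_lit 3, nat_lit 3])) (.leaf ((nat_lit 3), [nat_lit 6, nat_lit 9, nat_lit 2, nat_lit 1, nat_lit 9, nat_lit 2, nat_lit 6, nat_lit 3, nat_lit 8, nat_lit 4, nat_lit 7, nat_lit 6, nat_lit 4, nat_lit 2, nat_lit 0])))))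
 (.node (nat_lit 0x163ac342d0a9fb8) (.node (nat_lit 0x1630f475b5e8ef8) (.leaf ((nat_lit 3), [nat_lit 0, nat_lit 7, nat_lit 0, nat_lit 9, nat_lit 1, nat_lit 9, nat_lit 8, nat_lit 2, nat_lit 6, nat_lit 3, nat_lit 8, nat_lit 7, nat_lit 5, nat_lit 7, nat_lit 4, nat_lit 6, nat_lit 4, nat_lit 3, nat_lit 1])) (.leaf ((nat_lit 6), [nat_lit 7, nat_lit 0, nat_lit 9, nat_lit 1, nat_lit 9, nat_lit 5, nat_lit 8, nat_lit 5, nat_lit 8, nat_lit 6, nat_lit 5, nat_lit 7, nat_lit 2, nat_lit 4, nat_lit 6, nat_lit 4]))) (.node (nat_lit 0x1641824b26666a0) (.leaf ((nat_lit 6), [nat_lit 5, nat_lit 7, nat_lit 3, nat_lit 9, nat_lit 2, nat_lit 4, nat_lit 7, nat_lit 4, nat_lit 2, nat_lit 2, nat_lit 6, nat_lit 2, nat_lit 2])) (.node (nat_lit 0x1643afdcb50a5f4) (.leaf ((nat_lit 3), [nat_lit 0, nat_lit 7, nat_lit 0, nat_lit 9, nat_lit 1, nat_lit 9, nat_lit 7, nat_lit 8, nat_lit 7, nat_lit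 0, nat_lit 8, nat_lit 5, nat_lit 0, nat_lit 7, nat_lit 5])) (.leaf ((nat_lit 2), [nat_lit 6, nat_lit 9, nat_lit 2, nat_lit 1, nat_lit 9, nat_lit 6, nat_lit 3, nat_lit 1, nat_lit 8, nat_lit 2, nat_lit 6, nat_lit 2, nat_lit 2]))))))
 (.node (nat_lit 0x16606237e5c2608) (.node (nat_lit 0x16591e6edd9e534) (.node (nat_lit 0x1651a59628d96d0) (.leaf ((nat_lit 3), [nat_lit 2, nat_lit 7, nat_lit 9, nat_lit 5, nat_lit 9, nat_lit 6, nat_lit 7, nat_lit 1, nat_lit 8, nat_lit 7, nat_lit 5, nat_lit 6, nat_lit 7, nat_lit 4, nat_lit 0])) (.leaf ((nat_lit 1), [nat_lit 2, nat_lit 7, nat_lit 9, nat_lit 5, nat_lit 9, nat_lit 6, nat_lit 5, nat_lit 8, nat_lit 0, nat_lit 8, nat_lit 0, nat_lit 7, nat_lit 3, nat_lit 4, nat_lit 6, nat_lit 4, nat_lit 0]))) (.node (nat_lit 0x165c0622b8df0c8) (.leaf ((nat_lit 2), [nat_lit 3, nat_lit 3, nat_lit 9, nat_lit 0, nat_lit 9, nat_lit 0, nat_lit 8,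 nat_lit 5, nat_lit 7, nat_lit 4, nat_lit 6, nat_lit 5, nat_lit 4, nat_lit 2, nat_lit 1])) (.node (nat_lit 0x165e5c247e17ae4) (.leaf ((nat_lit 0), [nat_lit 6, nat_lit 8, nat_lit 1, nat_lit 8, nat_lit 3, nat_lit 4, nat_lit 7, nat_lit 2, nat_lit 6])) (.leaf ((nat_lit 1), [nat_lit 0, nat_lit 7, nat_lit 0, nat_lit 9, nat_lit 1, nat_lit 9, nat_lit 3, nat_lit 6, nat_lit 2, nat_lit 1, nat_lit 8, nat_lit 2, nat_lit 4, nat_lit 7, nat_lit 2, nat_lit 4, nat_lit 2])))))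
 (.node (nat_lit 0x166b6f997c117d0) (.node (nat_lit 0x1666eb9bb7be4c8) (.leaf ((nat_lit 0), [nat_lit 8, nat_lit 3, nat_lit 1, nat_lit 8, nat_lit 4, nat_lit 0, nat_lit 7, nat_lit 3, nat_lit 6, nat_lit 3, nat_lit 1])) (.leaf ((nat_lit 2), [nat_lit 2, nat_lit 8, nat_lit 1, nat_lit 7, nat_lit 5, nat_lit 6, nat_lit 5, nat_lit 3, nat_lit 6, nat_lit 5, nat_lit 2, nat_lit 4, nat_lit 2]))) (.node (nat_lit 0x166dd27e734efe0) (.leaf ((nat_lit 0), [nat_lit 8, nat_lit 6, nat_lit 3, nat_lit 8, nat_lit 6, nat_lit 1, nat_lit 7, nat_lit 5])) (.node (nat_lit 0x167028865447d24) (.leaf ((nat_lit 1), [nat_lit 6, nat_lit 9, nat_lit 2, nat_lit 1, nat_lit 9, nat_lit 8, nat_lit 4, nat_lit 6, nat_lit 8, nat_lit 5, nat_lit 7, nat_lit 5, nat_lit 7, nat_lit 5, nat_lit 4, nat_lit 3, nat_lit 1])) (.leaf ((nat_lit 0), [nat_lit 2, nat_lit 7, nat_lit 6, nat_lit 8, nat_lit 6, nat_lit 7, nat_lit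 2, nat_lit 4, nat_lit 6, nat_lit 2, nat_lit 1])))))))))
 (.node (nat_lit 0x173beeac82d6338) (.node (nat_lit 0x16dbe1eacfb5948) (.node (nat_lit 0x16aa1e637a7e860) (.node (nat_lit 0x168d0f8007d4708) (.node (nat_lit 0x167d715394a5a20) (.node (nat_lit 0x167914fa7dd9474) (.leaf ((nat_lit 6), [nat_lit 9, nat_lit 5, nat_lit 4, nat_lit 9, nat_lit 5, nat_lit 8, nat_lit 6, nat_lit 5, nat_lit 7, nat_lit 6, nat_lit 5, nat_lit 4, nat_lit 3, nat_lit 3])) (.leaf ((nat_lit 3), [nat_lit 6, nat_lit 9, nat_lit 2, nat_lit 1, nat_lit 9, nat_lit 4, nat_lit 7, nat_lit 8, nat_lit 5, nat_lit 1, nat_lit 7, nat_lit 5, nat_lit 3, nat_lit 3, nat_lit 3, nat_lit 1]))) (.node (nat_lit 0x168596bd5206464) (.leaf ((nat_lit 2), [nat_lit 7, nat_lit 0, nat_lit 9, nat_lit 1, nat_lit 9, nat_lit 4, nat_lit 7, nat_lit 6, nat_lit 8, nat_lit 5, nat_lit 7, nat_lit 5, nat_lit 3, nat_lit 6, nat_lit 5, nat_lit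 3, nat_lit 1])) (.node (nat_lit 0x168a84be82d4334) (.leaf ((nat_lit 3), [nat_lit 0, nat_lit 7, nat_lit 0, nat_lit 9, nat_lit 1, nat_lit 9, nat_lit 8, nat_lit 0, nat_lit 7, nat_lit 8, nat_lit 5, nat_lit 7, nat_lit 5, nat_lit 2, nat_lit 4, nat_lit 2])) (.leaf ((nat_lit 0), [nat_lit 8, nat_lit 6, nat_lit 3, nat_lit 8, nat_lit 6, nat_lit 7, nat_lit 6, nat_lit 5, nat_lit 2, nat_lit 4, nat_lit 2, nat_lit 1])))))
 (.node (nat_lit 0x169bf4242113c74) (.node (nat_lit 0x1692df963ff73c8) (.leaf ((nat_lit 1), [nat_lit 6, nat_lit 9, nat_lit 2, nat_lit 1, nat_lit 9, nat_lit 8, nat_lit 1, nat_lit 7, nat_lit 8, nat_lit 6, nat_lit 5, nat_lit 7, nat_lit 5, nat_lit 6, nat_lit 4, nat_lit 1])) (.leaf ((nat_lit 3), [nat_lit 6, nat_lit 9, nat_lit 2, nat_lit 1, nat_lit 9, nat_lit 2, nat_lit 5, nat_lit 8, nat_lit 3, nat_lit 6, nat_lit 7, nat_lit 6, nat_lit 3, nat_lit 3, nat_lit 6, nat_lit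 2]))) (.node (nat_lit 0x16a248e8d297850) (.leaf ((nat_lit 1), [nat_lit 6, nat_lit 9, nat_lit 2, nat_lit 1, nat_lit 9, nat_lit 3, nat_lit 8, nat_lit 6, nat_lit 1, nat_lit 8, nat_lit 7, nat_lit 1, nat_lit 7, nat_lit 5, nat_lit 3, nat_lit 6, nat_lit 2, nat_lit 1])) (.node (nat_lit 0x16a907af384c748) (.leaf ((nat_lit 2), [nat_lit 9, nat_lit 2, nat_lit 6, nat_lit 3, nat_lit 9, nat_lit 6, nat_lit 3, nat_lit 0, nat_lit 8, nat_lit 6, nat_lit 5, nat_lit 7, nat_lit 4, nat_lit 2, nat_lit 2, nat_lit 6])) (.leaf ((nat_lit 1), [nat_lit 0, nat_lit 7, nat_lit 0, nat_lit 9, nat_lit 1, nat_lit 9, nat_lit 0, nat_lit 8, nat_lit 6, nat_lit 3, nat_lit 8, nat_lit 7, nat_lit 5, nat_lit 7, nat_lit 4, nat_lit 3, nat_lit 6, nat_lit 4]))))))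
 (.node (nat_lit 0x16c1e2d13dba738) (.node (nat_lit 0x16b3b8468908a38) (.node (nat_lit 0x16b1625add1d734) (.leaf ((nat_lit 0), [nat_lit 8, nat_lit 1, nat_lit 7, nat_lit 8, nat_lit 6, nat_lit 7, nat_lit 2, nat_lit 4, nat_lit 6, nat_lit 5, nat_lit 4, nat_lit 0])) (.leaf ((nat_lit 6), [nat_lit 7, nat_lit 1, nat_lit 9, nat_lit 7, nat_lit 0, nat_lit 8, nat_lit 6, nat_lit 5, nat_lit 0, nat_lit 7, nat_lit 5, nat_lit 2, nat_lit 0]))) (.node (nat_lit 0x16b92afd76a54f8) (.leaf ((nat_lit 3), [nat_lit 2, nat_lit 7, nat_lit 9, nat_lit 5, nat_lit 9, nat_lit 1, nat_lit 8, nat_lit 6, nat_lit 3, nat_lit 4, nat_lit 7, nat_lit 3, nat_lit 6, nat_lit 3, nat_lit 4])) (.node (nat_lit 0x16bf30259dbc720) (.leaf ((nat_lit 2), [nat_lit 9, nat_lit 5, nat_lit 4, nat_lit 9, nat_lit 7, nat_lit 2, nat_lit 1, nat_lit 8, nat_lit 1, nat_lit 7, nat_lit 3, nat_lit 4, nat_lit 6, nat_lit 5, nat_lit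 4])) (.leaf ((nat_lit 6), [nat_lit 9, nat_lit 6, nat_lit 8, nat_lit 1, nat_lit 8, nat_lit 7, nat_lit 5, nat_lit 7, nat_lit 6, nat_lit 4, nat_lit 3, nat_lit 6])))))
 (.node (nat_lit 0x16cef66dc2665a4) (.node (nat_lit 0x16c55c9605724b4) (.leaf ((nat_lit 2), [nat_lit 3, nat_lit 9, nat_lit 2, nat_lit 1, nat_lit 9, nat_lit 4, nat_lit 6, nat_lit 8, nat_lit 6, nat_lit 1, nat_lit 7, nat_lit 3, nat_lit 6, nat_lit 4, nat_lit 2])) (.leaf ((nat_lit 3), [nat_lit 2, nat_lit 7, nat_lit 9, nat_lit 5, nat_lit 9, nat_lit 7, nat_lit 8, nat_lit 7, nat_lit 1, nat_lit 8, nat_lit 7, nat_lit 6, nat_lit 5, nat_lit 6, nat_lit 2, nat_lit 4]))) (.node (nat_lit 0x16cf8839f960760) (.leaf ((nat_lit 3), [nat_lit 6, nat_lit 9, nat_lit 2, nat_lit 1, nat_lit 9, nat_lit 5, nat_lit 8, nat_lit 0, nat_lit 8, nat_lit 3, nat_lit 6, nat_lit 4, nat_lit 3, nat_lit 0])) (.node (nat_lit 0x16d52335612e490)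 (.leaf ((nat_lit 0), [nat_lit 7, nat_lit 6, nat_lit 8, nat_lit 5, nat_lit 4, nat_lit 7, nat_lit 3, nat_lit 3, nat_lit 6, nat_lit 4, nat_lit 2])) (.leaf ((nat_lit 0), [nat_lit 2, nat_lit 7, nat_lit 6, nat_lit 8, nat_lit 3, nat_lit 4, nat_lit 7, nat_lit 6, nat_lit 5, nat_lit 4, nat_lit 1])))))))
 (.node (nat_lit 0x170ae55b3d7f8a4) (.node (nat_lit 0x16f1d541cc9e4e4) (.node (nat_lit 0x16e3dfcf9254448) (.node (nat_lit 0x16de6d0cc917974) (.leaf ((nat_lit 2), [nat_lit 9, nat_lit 6, nat_lit 8, nat_lit 1, nat_lit 9, nat_lit 5, nat_lit 8, nat_lit 5, nat_lit 8, nat_lit 3, nat_lit 4, nat_lit 6, nat_lit 3, nat_lit 4, nat_lit 0])) (.leaf ((nat_lit 1), [nat_lit 2, nat_lit 7, nat_lit 9, nat_lit 5, nat_lit 9, nat_lit 3, nat_lit 6, nat_lit 3, nat_lit 8, nat_lit 7, nat_lit 4, nat_lit 3, nat_lit 6, nat_lit 3]))) (.node (nat_lit 0x16eba85e54d4390) (.leaf ((nat_lit 1), [nat_lit 6,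 nat_lit 9, nat_lit 2, nat_lit 1, nat_lit 9, nat_lit 3, nat_lit 6, nat_lit 3, nat_lit 8, nat_lit 6, nat_lit 5, nat_lit 6, nat_lit 7, nat_lit 5, nat_lit 4, nat_lit 3, nat_lit 3])) (.node (nat_lit 0x16ed513072f7d08) (.leaf ((nat_lit 2), [nat_lit 5, nat_lit 9, nat_lit 6, nat_lit 3, nat_lit 9, nat_lit 6, nat_lit 5, nat_lit 7, nat_lit 6, nat_lit 3, nat_lit 3, nat_lit 6, nat_lit 3, nat_lit 3])) (.leaf ((nat_lit 1), [nat_lit 2, nat_lit 7, nat_lit 9, nat_lit 5, nat_lit 9, nat_lit 8, nat_lit 2, nat_lit 6, nat_lit 0, nat_lit 8, nat_lit 6, nat_lit 3, nat_lit 4, nat_lit 7, nat_lit 4, nat_lit 6, nat_lit 0])))))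
 (.node (nat_lit 0x16fb7bf2bfad3e0) (.node (nat_lit 0x16fb1eb0ec2a7f4) (.leaf ((nat_lit 1), [nat_lit 6, nat_lit 9, nat_lit 2, nat_lit 1, nat_lit 9, nat_lit 6, nat_lit 2, nat_lit 8, nat_lit 5, nat_lit 1, nat_lit 7, nat_lit 6, nat_lit 5, nat_lit 2, nat_lit 0])) (.leaf ((nat_lit 6), [nat_lit 5, nat_lit 9, nat_lit 6, nat_lit 3, nat_lit 9, nat_lit 3, nat_lit 0, nat_lit 8, nat_lit 6, nat_lit 5, nat_lit 1, nat_lit 7, nat_lit 3, nat_lit 3, nat_lit 0]))) (.node (nat_lit 0x1700eefe4c9d7e0) (.leaf ((nat_lit 2), [nat_lit 9, nat_lit 1, nat_lit 8, nat_lit 7, nat_lit 9, nat_lit 5, nat_lit 8, nat_lit 4, nat_lit 1, nat_lit 7, nat_lit 3, nat_lit 4, nat_lit 3, nat_lit 3])) (.node (nat_lit 0x1708328af69b7c8) (.leaf ((nat_lit 3), [nat_lit 6, nat_lit 9, nat_lit 2, nat_lit 1, nat_lit 9, nat_lit 5, nat_lit 1, nat_lit 8, nat_lit 5, nat_lit 4, nat_lit 7, nat_lit 5, nat_lit 6, nat_lit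 5, nat_lit 2, nat_lit 2, nat_lit 1])) (.leaf ((nat_lit 3), [nat_lit 2, nat_lit 7, nat_lit 9, nat_lit 5, nat_lit 9, nat_lit 3, nat_lit 1, nat_lit 8, nat_lit 4, nat_lit 3, nat_lit 6, nat_lit 5, nat_lit 4, nat_lit 1]))))))
 (.node (nat_lit 0x17271295b713434) (.node (nat_lit 0x171773e6229b3a0) (.node (nat_lit 0x17103016749e748) (.leaf ((nat_lit 0), [nat_lit 3, nat_lit 5, nat_lit 8, nat_lit 5, nat_lit 7, nat_lit 6, nat_lit 5, nat_lit 6, nat_lit 5, nat_lit 2, nat_lit 4, nat_lit 2, nat_lit 1])) (.leaf ((nat_lit 0), [nat_lit 6, nat_lit 2, nat_lit 8, nat_lit 7, nat_lit 5, nat_lit 7, nat_lit 2, nat_lit 6, nat_lit 2, nat_lit 0]))) (.node (nat_lit 0x1719ff24db06408) (.leaf ((nat_lit 3), [nat_lit 0, nat_lit 7, nat_lit 0, nat_lit 9, nat_lit 1, nat_lit 9, nat_lit 7, nat_lit 8, nat_lit 7, nat_lit 6, nat_lit 5, nat_lit 3, nat_lit 4, nat_lit 3])) (.node (nat_lit 0x171d43dc5fb25f4)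 (.leaf ((nat_lit 0), [nat_lit 6, nat_lit 2, nat_lit 8, nat_lit 5, nat_lit 1, nat_lit 7, nat_lit 5, nat_lit 6, nat_lit 3, nat_lit 1])) (.leaf ((nat_lit 0), [nat_lit 5, nat_lit 7, nat_lit 8, nat_lit 4, nat_lit 0, nat_lit 7, nat_lit 6, nat_lit 5, nat_lit 3, nat_lit 6, nat_lit 1])))))
 (.node (nat_lit 0x172ce2164c90e60) (.node (nat_lit 0x17279785aa19810) (.leaf ((nat_lit 2), [nat_lit 6, nat_lit 8, nat_lit 0, nat_lit 8, nat_lit 5, nat_lit 7, nat_lit 5, nat_lit 1, nat_lit 7, nat_lit 3, nat_lit 4, nat_lit 3, nat_lit 3, nat_lit 6, nat_lit 5, nat_lit 0])) (.leaf ((nat_lit 1), [nat_lit 6, nat_lit 9, nat_lit 2, nat_lit 1, nat_lit 9, nat_lit 4, nat_lit 6, nat_lit 8, nat_lit 7, nat_lit 5, nat_lit 7, nat_lit 5, nat_lit 6, nat_lit 5, nat_lit 2, nat_lit 2]))) (.node (nat_lit 0x17344e0851b61f8) (.leaf ((nat_lit 1), [nat_lit 2, nat_lit 7, nat_lit 9, nat_lit 5, nat_lit 9, nat_lit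 4, nat_lit 8, nat_lit 1, nat_lit 8, nat_lit 5, nat_lit 7, nat_lit 5, nat_lit 0, nat_lit 7, nat_lit 2, nat_lit 4])) (.node (nat_lit 0x1736b0f8c896b74) (.leaf ((nat_lit 6), [nat_lit 8, nat_lit 3, nat_lit 9, nat_lit 4, nat_lit 3, nat_lit 8, nat_lit 2, nat_lit 4, nat_lit 7, nat_lit 3, nat_lit 3, nat_lit 6, nat_lit 3, nat_lit 3, nat_lit 1])) (.leaf ((nat_lit 2), [nat_lit 9, nat_lit 1, nat_lit 8, nat_lit 7, nat_lit 9, nat_lit 7, nat_lit 1, nat_lit 8, nat_lit 6, nat_lit 1, nat_lit 7, nat_lit 5, nat_lit 4, nat_lit 2]))))))))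
 (.node (nat_lit 0x19ef3d8fc135e30) (.node (nat_lit 0x19e79cd7fab4330) (.node (nat_lit 0x19dd712add1e89c) (.node (nat_lit 0x19dae64133ac05c) (.node (nat_lit 0x19d9154fcc1bff0) (.leaf ((nat_lit 3), [nat_lit 0, nat_lit 7, nat_lit 0, nat_lit 9, nat_lit 1, nat_lit 9, nat_lit 2, nat_lit 6, nat_lit 2, nat_lit 8, nat_lit 5, nat_lit 7, nat_lit 3, nat_lit 4, nat_lit 6, nat_lit 4, nat_lit 3, nat_lit 3, nat_lit 1])) (.leaf ((nat_lit 0), [nat_lit 6, nat_lit 9, nat_lit 5, nat_lit 3, nat_lit 1, nat_lit 9, nat_lit 5, nat_lit 1, nat_lit 8, nat_lit 7, nat_lit 4, nat_lit 2, nat_lit 2, nat_lit 6, nat_lit 5, nat_lit 2, nat_lit 4, nat_lit 1]))) (.node (nat_lit 0x19dc5a335563ec4) (.leaf ((nat_lit 0), [nat_lit 2, nat_lit 7, nat_lit 9, nat_lit 5, nat_lit 9, nat_lit 3, nat_lit 6, nat_lit 8, nat_lit 5, nat_lit 6, nat_lit 4, nat_lit 2, nat_lit 0])) (.node (nat_lit 0x19dd1437fce23c4) (.leaf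 ((nat_lit 0), [nat_lit 2, nat_lit 2, nat_lit 9, nat_lit 1, nat_lit 9, nat_lit 6, nat_lit 7, nat_lit 1, nat_lit 8, nat_lit 7, nat_lit 2, nat_lit 4, nat_lit 7, nat_lit 3, nat_lit 6, nat_lit 2, nat_lit 4])) (.leaf ((nat_lit 0), [nat_lit 7, nat_lit 9, nat_lit 2, nat_lit 1, nat_lit 9, nat_lit 7, nat_lit 5, nat_lit 8, nat_lit 1, nat_lit 8, nat_lit 5, nat_lit 4, nat_lit 7, nat_lit 2, nat_lit 4, nat_lit 3, nat_lit 6])))))
 (.node (nat_lit 0x19df421aa6bb770) (.node (nat_lit 0x19dee5270e853dc) (.leaf ((nat_lit 0), [nat_lit 6, nat_lit 9, nat_lit 2, nat_lit 1, nat_lit 9, nat_lit 7, nat_lit 6, nat_lit 8, nat_lit 0, nat_lit 7, nat_lit 6, nat_lit 2, nat_lit 4, nat_lit 6, nat_lit 5, nat_lit 3, nat_lit 4])) (.leaf ((nat_lit 0), [nat_lit 6, nat_lit 9, nat_lit 2, nat_lit 1, nat_lit 9, nat_lit 7, nat_lit 2, nat_lit 1, nat_lit 8, nat_lit 4, nat_lit 7, nat_lit 3, nat_lit 4, nat_lit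 3]))) (.node (nat_lit 0x19e0591bb428e30) (.leaf ((nat_lit 0), [nat_lit 2, nat_lit 9, nat_lit 3, nat_lit 5, nat_lit 9, nat_lit 6, nat_lit 3, nat_lit 8, nat_lit 7, nat_lit 3, nat_lit 3, nat_lit 6, nat_lit 4, nat_lit 1])) (.node (nat_lit 0x19e0b61004594c4) (.leaf ((nat_lit 0), [nat_lit 2, nat_lit 9, nat_lit 3, nat_lit 5, nat_lit 9, nat_lit 5, nat_lit 2, nat_lit 8, nat_lit 5, nat_lit 6, nat_lit 7, nat_lit 2, nat_lit 2, nat_lit 6, nat_lit 5, nat_lit 2, nat_lit 4, nat_lit 3])) (.leaf ((nat_lit 0), [nat_lit 7, nat_lit 9, nat_lit 2, nat_lit 1, nat_lit 9, nat_lit 2, nat_lit 7, nat_lit 8, nat_lit 6, nat_lit 5, nat_lit 7, nat_lit 6, nat_lit 3, nat_lit 4, nat_lit 6, nat_lit 2, nat_lit 2]))))))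
 (.node (nat_lit 0x19eb3eb7e9eb69c) (.node (nat_lit 0x19e96dc7f24fd9c) (.node (nat_lit 0x19e7f9d5189d684) (.leaf ((nat_lit 0), [nat_lit 2, nat_lit 2, nat_lit 9, nat_lit 0, nat_lit 9, nat_lit 1, nat_lit 7, nat_lit 8, nat_lit 5, nat_lit 4, nat_lit 7, nat_lit 5, nat_lit 6, nat_lit 5, nat_lit 2, nat_lit 4, nat_lit 1])) (.leaf ((nat_lit 0), [nat_lit 2, nat_lit 7, nat_lit 9, nat_lit 5, nat_lit 9, nat_lit 6, nat_lit 2, nat_lit 8, nat_lit 6, nat_lit 1, nat_lit 7, nat_lit 2, nat_lit 4, nat_lit 6, nat_lit 4]))) (.node (nat_lit 0x19e9cac510390f0) (.leaf ((nat_lit 0), [nat_lit 9, nat_lit 7, nat_lit 5, nat_lit 0, nat_lit 9, nat_lit 2, nat_lit 1, nat_lit 8, nat_lit 6, nat_lit 7, nat_lit 2, nat_lit 4, nat_lit 3, nat_lit 6, nat_lit 2])) (.node (nat_lit 0x19eae1bacc01f04) (.leaf ((nat_lit 0), [nat_lit 2, nat_lit 2, nat_lit 9, nat_lit 1, nat_lit 9, nat_lit 5, nat_lit 0, nat_lit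 7, nat_lit 8, nat_lit 2, nat_lit 4, nat_lit 7, nat_lit 5, nat_lit 3, nat_lit 6, nat_lit 2, nat_lit 0])) (.leaf ((nat_lit 0), [nat_lit 0, nat_lit 7, nat_lit 0, nat_lit 9, nat_lit 1, nat_lit 9, nat_lit 3, nat_lit 7, nat_lit 5, nat_lit 8, nat_lit 7, nat_lit 3, nat_lit 3, nat_lit 6, nat_lit 5, nat_lit 3, nat_lit 0])))))
 (.node (nat_lit 0x19ec55a619f169c) (.node (nat_lit 0x19ebf8ac09ef3c4) (.leaf ((nat_lit 0), [nat_lit 6, nat_lit 9, nat_lit 5, nat_lit 3, nat_lit 1, nat_lit 9, nat_lit 7, nat_lit 8, nat_lit 5, nat_lit 8, nat_lit 5, nat_lit 7, nat_lit 6, nat_lit 5, nat_lit 6, nat_lit 5, nat_lit 2, nat_lit 4, nat_lit 2])) (.leaf ((nat_lit 0), [nat_lit 9, nat_lit 7, nat_lit 5, nat_lit 0, nat_lit 9, nat_lit 1, nat_lit 7, nat_lit 5, nat_lit 8, nat_lit 7, nat_lit 0, nat_lit 7, nat_lit 5, nat_lit 4, nat_lit 3, nat_lit 0]))) (.node (nat_lit 0x19edc99b1b923dc) (.leaf ((nat_lit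 0), [nat_lit 2, nat_lit 2, nat_lit 9, nat_lit 0, nat_lit 9, nat_lit 2, nat_lit 7, nat_lit 6, nat_lit 8, nat_lit 1, nat_lit 7, nat_lit 6, nat_lit 3, nat_lit 3, nat_lit 3, nat_lit 0])) (.node (nat_lit 0x19ee2695e38e570) (.leaf ((nat_lit 0), [nat_lit 2, nat_lit 2, nat_lit 9, nat_lit 0, nat_lit 9, nat_lit 5, nat_lit 7, nat_lit 5, nat_lit 8, nat_lit 4, nat_lit 1, nat_lit 7, nat_lit 3, nat_lit 3, nat_lit 6, nat_lit 4, nat_lit 3, nat_lit 1])) (.leaf ((nat_lit 0), [nat_lit 0, nat_lit 7, nat_lit 0, nat_lit 9, nat_lit 1, nat_lit 9, nat_lit 8, nat_lit 4, nat_lit 6, nat_lit 8, nat_lit 5, nat_lit 7, nat_lit 6, nat_lit 5, nat_lit 2])))))))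
 (.node (nat_lit 0x1a05cd667e5cba0) (.node (nat_lit 0x19fa803d343ef5c) (.node (nat_lit 0x19f681530988870) (.node (nat_lit 0x19ef9a8b412c2c4) (.leaf ((nat_lit 0), [nat_lit 0, nat_lit 7, nat_lit 0, nat_lit 9, nat_lit 1, nat_lit 9, nat_lit 8, nat_lit 6, nat_lit 2, nat_lit 8, nat_lit 7, nat_lit 6, nat_lit 3, nat_lit 3, nat_lit 6, nat_lit 2, nat_lit 2, nat_lit 1])) (.leaf ((nat_lit 0), [nat_lit 9, nat_lit 7, nat_lit 5, nat_lit 0, nat_lit 9, nat_lit 8, nat_lit 5, nat_lit 2, nat_lit 8, nat_lit 3, nat_lit 4, nat_lit 7, nat_lit 4, nat_lit 2, nat_lit 6, nat_lit 1]))) (.node (nat_lit 0x19f8524301242dc) (.leaf ((nat_lit 0), [nat_lit 6, nat_lit 9, nat_lit 2, nat_lit 1, nat_lit 9, nat_lit 7, nat_lit 2, nat_lit 1, nat_lit 8, nat_lit 5, nat_lit 7, nat_lit 2, nat_lit 6, nat_lit 5, nat_lit 2, nat_lit 2])) (.node (nat_lit 0x19f9c635dad6444) (.leaf ((nat_lit 0), [nat_lit 7, nat_lit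 9, nat_lit 2, nat_lit 1, nat_lit 9, nat_lit 0, nat_lit 7, nat_lit 8, nat_lit 5, nat_lit 0, nat_lit 7, nat_lit 2, nat_lit 6, nat_lit 5, nat_lit 1])) (.leaf ((nat_lit 0), [nat_lit 2, nat_lit 9, nat_lit 3, nat_lit 5, nat_lit 9, nat_lit 2, nat_lit 1, nat_lit 8, nat_lit 7, nat_lit 1, nat_lit 7, nat_lit 3, nat_lit 6, nat_lit 2, nat_lit 2, nat_lit 1])))))
 (.node (nat_lit 0x19fdc5225b79b84) (.node (nat_lit 0x19fc512cfddbe30) (.leaf ((nat_lit 0), [nat_lit 6, nat_lit 9, nat_lit 5, nat_lit 3, nat_lit 1, nat_lit 9, nat_lit 3, nat_lit 0, nat_lit 8, nat_lit 7, nat_lit 2, nat_lit 6, nat_lit 5, nat_lit 4, nat_lit 3, nat_lit 3, nat_lit 1])) (.leaf ((nat_lit 0), [nat_lit 2, nat_lit 2, nat_lit 9, nat_lit 1, nat_lit 9, nat_lit 2, nat_lit 7, nat_lit 6, nat_lit 8, nat_lit 7, nat_lit 1, nat_lit 7, nat_lit 3, nat_lit 6, nat_lit 2]))) (.node (nat_lit 0x1a03fc9511ca38c) (.leaf ((nat_lit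 0), [nat_lit 2, nat_lit 7, nat_lit 9, nat_lit 5, nat_lit 9, nat_lit 3, nat_lit 1, nat_lit 8, nat_lit 7, nat_lit 4, nat_lit 3, nat_lit 3, nat_lit 6, nat_lit 4, nat_lit 0])) (.node (nat_lit 0x1a045991d3b63f4) (.leaf ((nat_lit 0), [nat_lit 7, nat_lit 9, nat_lit 2, nat_lit 1, nat_lit 9, nat_lit 7, nat_lit 5, nat_lit 6, nat_lit 8, nat_lit 5, nat_lit 1, nat_lit 7, nat_lit 4, nat_lit 3, nat_lit 3, nat_lit 0])) (.leaf ((nat_lit 0), [nat_lit 0, nat_lit 7, nat_lit 0, nat_lit 9, nat_lit 1, nat_lit 9, nat_lit 7, nat_lit 2, nat_lit 8, nat_lit 7, nat_lit 4, nat_lit 6, nat_lit 5, nat_lit 2, nat_lit 4, nat_lit 2, nat_lit 1]))))))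
 (.node (nat_lit 0x1a0a1f26f0430d8) (.node (nat_lit 0x1a074177e317f60) (.node (nat_lit 0x1a06e45b822b98c) (.leaf ((nat_lit 0), [nat_lit 2, nat_lit 9, nat_lit 3, nat_lit 5, nat_lit 9, nat_lit 8, nat_lit 0, nat_lit 7, nat_lit 8, nat_lit 3, nat_lit 4, nat_lit 3, nat_lit 3, nat_lit 6, nat_lit 3, nat_lit 4, nat_lit 0])) (.leaf ((nat_lit 0), [nat_lit 2, nat_lit 2, nat_lit 9, nat_lit 1, nat_lit 9, nat_lit 2, nat_lit 7, nat_lit 8, nat_lit 3, nat_lit 4, nat_lit 7, nat_lit 5]))) (.node (nat_lit 0x1a0a1f16f2c3674) (.leaf ((nat_lit 0), [nat_lit 9, nat_lit 7, nat_lit 5, nat_lit 0, nat_lit 9, nat_lit 6, nat_lit 3, nat_lit 1, nat_lit 8, nat_lit 6, nat_lit 7, nat_lit 2, nat_lit 6, nat_lit 2, nat_lit 2])) (.node (nat_lit 0x1a0a1f1f3684784) (.leaf ((nat_lit 2), [nat_lit 6, nat_lit 1, nat_lit 8, nat_lit 7, nat_lit 2, nat_lit 2, nat_lit 6, nat_lit 3, nat_lit 4, nat_lit 3, nat_lit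 3, nat_lit 1])) (.leaf ((nat_lit 0), [nat_lit 6, nat_lit 9, nat_lit 5, nat_lit 9, nat_lit 5, nat_lit 1, nat_lit 8, nat_lit 2, nat_lit 4, nat_lit 7, nat_lit 6, nat_lit 5, nat_lit 3, nat_lit 6, nat_lit 3, nat_lit 1])))))
 (.node (nat_lit 0x1a0beffd64acdec) (.node (nat_lit 0x1a0beff57cf31e0) (.leaf ((nat_lit 3), [nat_lit 4, nat_lit 1, nat_lit 9, nat_lit 5, nat_lit 9, nat_lit 2, nat_lit 6, nat_lit 1, nat_lit 8, nat_lit 0, nat_lit 7, nat_lit 5, nat_lit 6, nat_lit 3])) (.leaf ((nat_lit 1), [nat_lit 6, nat_lit 9, nat_lit 5, nat_lit 9, nat_lit 8, nat_lit 5, nat_lit 6, nat_lit 7, nat_lit 4, nat_lit 3, nat_lit 3, nat_lit 6, nat_lit 4, nat_lit 3, nat_lit 1]))) (.node (nat_lit 0x1a0bf002f682d84) (.leaf ((nat_lit 0), [nat_lit 8, nat_lit 5, nat_lit 0, nat_lit 8, nat_lit 5, nat_lit 6, nat_lit 7, nat_lit 4, nat_lit 6, nat_lit 3, nat_lit 3])) (.node (nat_lit 0x1a0c4d06303e060)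 (.leaf ((nat_lit 0), [nat_lit 1, nat_lit 9, nat_lit 5, nat_lit 9, nat_lit 6, nat_lit 2, nat_lit 8, nat_lit 2, nat_lit 6, nat_lit 4, nat_lit 3, nat_lit 1])) (.leaf ((nat_lit 1), [nat_lit 6, nat_lit 9, nat_lit 5, nat_lit 9, nat_lit 5, nat_lit 7, nat_lit 5, nat_lit 1, nat_lit 7, nat_lit 6, nat_lit 3, nat_lit 3, nat_lit 6, nat_lit 3, nat_lit 0])))))))))))
 (.node (nat_lit 0x1b910b7a54cb1dc) (.node (nat_lit 0x1a4e0be8c0c7f34) (.node (nat_lit 0x1a309fbf1092634) (.node (nat_lit 0x1a1c487f6c93d30) (.node (nat_lit 0x1a1682f00fd5960) (.node (nat_lit 0x1a0d6409c190cac) (.node (nat_lit 0x1a0d63fc1a05734) (.node (nat_lit 0x1a0c4d13d7c9300) (.leaf ((nat_lit 0), [nat_lit 4, nat_lit 1, nat_lit 9, nat_lit 5, nat_lit 9, nat_lit 7, nat_lit 2, nat_lit 5, nat_lit 8, nat_lit 6, nat_lit 5, nat_lit 1, nat_lit 7, nat_lit 4, nat_lit 6, nat_lit 5, nat_lit 0])) (.leaf ((nat_lit 1), [nat_lit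 6, nat_lit 9, nat_lit 5, nat_lit 9, nat_lit 3, nat_lit 5, nat_lit 6, nat_lit 8, nat_lit 2, nat_lit 4, nat_lit 7, nat_lit 2, nat_lit 4, nat_lit 3, nat_lit 6, nat_lit 3, nat_lit 3, nat_lit 3]))) (.node (nat_lit 0x1a0d64042fc0f30) (.leaf ((nat_lit 2), [nat_lit 0, nat_lit 8, nat_lit 7, nat_lit 1, nat_lit 8, nat_lit 0, nat_lit 7, nat_lit 1])) (.leaf ((nat_lit 5), [nat_lit 2, nat_lit 2, nat_lit 9, nat_lit 0, nat_lit 9, nat_lit 5, nat_lit 8, nat_lit 0, nat_lit 8, nat_lit 3, nat_lit 6, nat_lit 7, nat_lit 5, nat_lit 6, nat_lit 5, nat_lit 3, nat_lit 6, nat_lit 4, nat_lit 3, nat_lit 0]))))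
 (.node (nat_lit 0x1a133e0d3e87ab4) (.node (nat_lit 0x1a12e1107c9ba4c) (.leaf ((nat_lit 3), [nat_lit 6, nat_lit 9, nat_lit 5, nat_lit 9, nat_lit 7, nat_lit 5, nat_lit 0, nat_lit 8, nat_lit 6, nat_lit 7, nat_lit 6, nat_lit 4, nat_lit 2, nat_lit 6])) (.leaf ((nat_lit 0), [nat_lit 2, nat_lit 9, nat_lit 3, nat_lit 5, nat_lit 9, nat_lit 0, nat_lit 8, nat_lit 7, nat_lit 4, nat_lit 6, nat_lit 5, nat_lit 4, nat_lit 2, nat_lit 1]))) (.node (nat_lit 0x1a14b1f048b9e60) (.leaf ((nat_lit 0), [nat_lit 2, nat_lit 2, nat_lit 9, nat_lit 0, nat_lit 9, nat_lit 1, nat_lit 7, nat_lit 8, nat_lit 6, nat_lit 2, nat_lit 4, nat_lit 7, nat_lit 2, nat_lit 4, nat_lit 3, nat_lit 6, nat_lit 4, nat_lit 0])) (.node (nat_lit 0x1a1625e20e74f8c) (.leaf ((nat_lit 0), [nat_lit 6, nat_lit 9, nat_lit 2, nat_lit 1, nat_lit 9, nat_lit 1, nat_lit 7, nat_lit 8, nat_lit 1, nat_lit 7, nat_lit 6, nat_lit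 3, nat_lit 3, nat_lit 1])) (.leaf ((nat_lit 0), [nat_lit 6, nat_lit 9, nat_lit 5, nat_lit 3, nat_lit 1, nat_lit 9, nat_lit 6, nat_lit 3, nat_lit 8, nat_lit 4, nat_lit 7, nat_lit 4, nat_lit 6, nat_lit 5, nat_lit 4, nat_lit 1]))))))
 (.node (nat_lit 0x1a1a779562c51c0) (.node (nat_lit 0x1a1903a22d15ed8) (.node (nat_lit 0x1a19039a175a404) (.leaf ((nat_lit 0), [nat_lit 0, nat_lit 7, nat_lit 0, nat_lit 9, nat_lit 1, nat_lit 9, nat_lit 3, nat_lit 8, nat_lit 6, nat_lit 1, nat_lit 8, nat_lit 2, nat_lit 4, nat_lit 7, nat_lit 4, nat_lit 2])) (.leaf ((nat_lit 5), [nat_lit 1, nat_lit 9, nat_lit 5, nat_lit 9, nat_lit 5, nat_lit 8, nat_lit 1, nat_lit 7, nat_lit 4, nat_lit 2, nat_lit 2, nat_lit 6, nat_lit 4, nat_lit 2, nat_lit 2]))) (.node (nat_lit 0x1a1903a7bee7e74) (.leaf ((nat_lit 3), [nat_lit 6, nat_lit 9, nat_lit 5, nat_lit 9, nat_lit 8, nat_lit 4, nat_lit 6, nat_lit 8,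 nat_lit 5, nat_lit 6, nat_lit 7, nat_lit 2, nat_lit 4])) (.node (nat_lit 0x1a1a778d1f0b3dc) (.leaf ((nat_lit 2), [nat_lit 0, nat_lit 8, nat_lit 6, nat_lit 1, nat_lit 8, nat_lit 7, nat_lit 3, nat_lit 4, nat_lit 7, nat_lit 2, nat_lit 2, nat_lit 6, nat_lit 3, nat_lit 4, nat_lit 3, nat_lit 3, nat_lit 0])) (.leaf ((nat_lit 0), [nat_lit 6, nat_lit 9, nat_lit 5, nat_lit 9, nat_lit 3, nat_lit 7, nat_lit 5, nat_lit 8, nat_lit 7, nat_lit 6, nat_lit 4, nat_lit 3, nat_lit 6, nat_lit 2, nat_lit 1])))))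
 (.node (nat_lit 0x1a1beb6eb94901c) (.node (nat_lit 0x1a1a779d1c8d060) (.leaf ((nat_lit 3), [nat_lit 4, nat_lit 1, nat_lit 9, nat_lit 5, nat_lit 9, nat_lit 7, nat_lit 5, nat_lit 8, nat_lit 0, nat_lit 8, nat_lit 3, nat_lit 4, nat_lit 7, nat_lit 6, nat_lit 2, nat_lit 0])) (.leaf ((nat_lit 2), [nat_lit 3, nat_lit 8, nat_lit 7, nat_lit 1, nat_lit 8, nat_lit 6, nat_lit 5, nat_lit 0, nat_lit 7, nat_lit 4, nat_lit 3, nat_lit 3, nat_lit 6, nat_lit 5, nat_lit 2, nat_lit 0]))) (.node (nat_lit 0x1a1beb76a10c174) (.leaf ((nat_lit 0), [nat_lit 1, nat_lit 9, nat_lit 5, nat_lit 9, nat_lit 8, nat_lit 1, nat_lit 7, nat_lit 8, nat_lit 4, nat_lit 0, nat_lit 7, nat_lit 6, nat_lit 5, nat_lit 2])) (.node (nat_lit 0x1a1beb7c32d8e98) (.leaf ((nat_lit 1), [nat_lit 6, nat_lit 9, nat_lit 5, nat_lit 9, nat_lit 6, nat_lit 3, nat_lit 0, nat_lit 8, nat_lit 7, nat_lit 6, nat_lit 2, nat_lit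 2, nat_lit 6, nat_lit 5, nat_lit 2, nat_lit 4])) (.leaf ((nat_lit 0), [nat_lit 2, nat_lit 6, nat_lit 2, nat_lit 8, nat_lit 7, nat_lit 5, nat_lit 6, nat_lit 2, nat_lit 1])))))))
 (.node (nat_lit 0x1a272e1d40452f4) (.node (nat_lit 0x1a233966dbe0820) (.node (nat_lit 0x1a1c488d14287f4) (.node (nat_lit 0x1a1c4884fe63aac) (.leaf ((nat_lit 0), [nat_lit 4, nat_lit 1, nat_lit 9, nat_lit 5, nat_lit 9, nat_lit 8, nat_lit 7, nat_lit 0, nat_lit 8, nat_lit 6, nat_lit 5, nat_lit 7, nat_lit 6, nat_lit 5, nat_lit 6, nat_lit 5, nat_lit 3, nat_lit 3])) (.leaf ((nat_lit 1), [nat_lit 6, nat_lit 9, nat_lit 5, nat_lit 9, nat_lit 4, nat_lit 0, nat_lit 7, nat_lit 8, nat_lit 3, nat_lit 4, nat_lit 7, nat_lit 2, nat_lit 4, nat_lit 3, nat_lit 6, nat_lit 0]))) (.node (nat_lit 0x1a21688e3f8820c) (.leaf ((nat_lit 1), [nat_lit 6, nat_lit 9, nat_lit 5, nat_lit 9, nat_lit 8, nat_lit 2, nat_lit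 5, nat_lit 8, nat_lit 3, nat_lit 6, nat_lit 7, nat_lit 6, nat_lit 5, nat_lit 3, nat_lit 4, nat_lit 3, nat_lit 0])) (.node (nat_lit 0x1a21c58b0174274) (.leaf ((nat_lit 0), [nat_lit 6, nat_lit 9, nat_lit 2, nat_lit 1, nat_lit 9, nat_lit 8, nat_lit 5, nat_lit 0, nat_lit 8, nat_lit 4, nat_lit 7, nat_lit 6, nat_lit 5, nat_lit 6, nat_lit 4, nat_lit 0])) (.leaf ((nat_lit 0), [nat_lit 9, nat_lit 7, nat_lit 5, nat_lit 0, nat_lit 9, nat_lit 4, nat_lit 3, nat_lit 8, nat_lit 3, nat_lit 4, nat_lit 7, nat_lit 6, nat_lit 4, nat_lit 2, nat_lit 6, nat_lit 4])))))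
 (.node (nat_lit 0x1a25676b1ea9ea0) (.node (nat_lit 0x1a250a55ed836cc) (.leaf ((nat_lit 0), [nat_lit 7, nat_lit 9, nat_lit 2, nat_lit 1, nat_lit 9, nat_lit 6, nat_lit 7, nat_lit 3, nat_lit 4, nat_lit 6, nat_lit 5, nat_lit 2, nat_lit 0])) (.leaf ((nat_lit 0), [nat_lit 2, nat_lit 7, nat_lit 9, nat_lit 5, nat_lit 9, nat_lit 7, nat_lit 5, nat_lit 1, nat_lit 8, nat_lit 1, nat_lit 7, nat_lit 4, nat_lit 6, nat_lit 5, nat_lit 4, nat_lit 2, nat_lit 2, nat_lit 1]))) (.node (nat_lit 0x1a272e0fc6b2f80) (.leaf ((nat_lit 0), [nat_lit 2, nat_lit 2, nat_lit 9, nat_lit 0, nat_lit 9, nat_lit 4, nat_lit 7, nat_lit 8, nat_lit 5, nat_lit 7, nat_lit 5, nat_lit 1, nat_lit 7, nat_lit 3, nat_lit 4, nat_lit 6])) (.node (nat_lit 0x1a272e17ae763b0) (.leaf ((nat_lit 0), [nat_lit 7, nat_lit 5, nat_lit 6, nat_lit 8, nat_lit 7, nat_lit 5, nat_lit 1, nat_lit 7, nat_lit 5, nat_lit 2, nat_lit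 0])) (.leaf ((nat_lit 0), [nat_lit 1, nat_lit 9, nat_lit 5, nat_lit 9, nat_lit 2, nat_lit 1, nat_lit 8, nat_lit 2, nat_lit 4, nat_lit 6, nat_lit 5, nat_lit 2, nat_lit 4, nat_lit 3, nat_lit 1]))))))
 (.node (nat_lit 0x1a295c18595fe60) (.node (nat_lit 0x1a278b260bd0074) (.node (nat_lit 0x1a278b2079fe0d8) (.leaf ((nat_lit 1), [nat_lit 4, nat_lit 1, nat_lit 9, nat_lit 5, nat_lit 9, nat_lit 8, nat_lit 7, nat_lit 5, nat_lit 1, nat_lit 7, nat_lit 6, nat_lit 3, nat_lit 4, nat_lit 6, nat_lit 4, nat_lit 3, nat_lit 0])) (.leaf ((nat_lit 1), [nat_lit 4, nat_lit 1, nat_lit 9, nat_lit 5, nat_lit 9, nat_lit 2, nat_lit 6, nat_lit 2, nat_lit 8, nat_lit 7, nat_lit 3, nat_lit 3, nat_lit 6, nat_lit 5, nat_lit 4, nat_lit 3, nat_lit 3]))) (.node (nat_lit 0x1a278b2e21928c4) (.leaf ((nat_lit 1), [nat_lit 4, nat_lit 1, nat_lit 9, nat_lit 5, nat_lit 9, nat_lit 3, nat_lit 3, nat_lit 8,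 nat_lit 7, nat_lit 5, nat_lit 1, nat_lit 7, nat_lit 6, nat_lit 5, nat_lit 3, nat_lit 0])) (.node (nat_lit 0x1a295c10439ae40) (.leaf ((nat_lit 0), [nat_lit 4, nat_lit 1, nat_lit 9, nat_lit 5, nat_lit 9, nat_lit 8, nat_lit 7, nat_lit 0, nat_lit 8, nat_lit 6, nat_lit 1, nat_lit 7, nat_lit 3, nat_lit 6, nat_lit 5, nat_lit 3, nat_lit 4])) (.leaf ((nat_lit 3), [nat_lit 6, nat_lit 9, nat_lit 5, nat_lit 9, nat_lit 6, nat_lit 3, nat_lit 1, nat_lit 8, nat_lit 6, nat_lit 5, nat_lit 1])))))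
 (.node (nat_lit 0x1a2ad0034b4bcac) (.node (nat_lit 0x1a295c1deb2fbdc) (.leaf ((nat_lit 2), [nat_lit 6, nat_lit 9, nat_lit 5, nat_lit 3, nat_lit 1, nat_lit 9, nat_lit 3, nat_lit 4, nat_lit 7, nat_lit 3, nat_lit 6, nat_lit 2, nat_lit 0])) (.leaf ((nat_lit 5), [nat_lit 0, nat_lit 7, nat_lit 0, nat_lit 9, nat_lit 1, nat_lit 9, nat_lit 6, nat_lit 3, nat_lit 8, nat_lit 5, nat_lit 7, nat_lit 6, nat_lit 3, nat_lit 4, nat_lit 6, nat_lit 3, nat_lit 4]))) (.node (nat_lit 0x1a2ad00b8f0f2b4) (.leaf ((nat_lit 3), [nat_lit 4, nat_lit 1, nat_lit 9, nat_lit 5, nat_lit 9, nat_lit 2, nat_lit 6, nat_lit 8, nat_lit 7, nat_lit 5, nat_lit 0, nat_lit 7, nat_lit 6, nat_lit 5, nat_lit 3, nat_lit 6, nat_lit 1])) (.node (nat_lit 0x1a2ad01348cd930) (.leaf ((nat_lit 2), [nat_lit 4, nat_lit 9, nat_lit 0, nat_lit 9, nat_lit 6, nat_lit 0, nat_lit 8, nat_lit 3, nat_lit 4, nat_lit 7, nat_lit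 3, nat_lit 3, nat_lit 3, nat_lit 6, nat_lit 3, nat_lit 3])) (.leaf ((nat_lit 0), [nat_lit 6, nat_lit 9, nat_lit 5, nat_lit 9, nat_lit 3, nat_lit 7, nat_lit 5, nat_lit 8, nat_lit 1, nat_lit 7, nat_lit 6, nat_lit 0]))))))))
 (.node (nat_lit 0x1a3f844a4ae805c) (.node (nat_lit 0x1a32cdb40dd8498) (.node (nat_lit 0x1a30fcdf0962aac) (.node (nat_lit 0x1a309fcf3c139b0) (.node (nat_lit 0x1a309fc72651cc0) (.leaf ((nat_lit 3), [nat_lit 4, nat_lit 1, nat_lit 9, nat_lit 5, nat_lit 9, nat_lit 3, nat_lit 3, nat_lit 8, nat_lit 7, nat_lit 2, nat_lit 4, nat_lit 7, nat_lit 6, nat_lit 5, nat_lit 6, nat_lit 1])) (.leaf ((nat_lit 6), [nat_lit 6, nat_lit 2, nat_lit 0, nat_lit 9, nat_lit 7, nat_lit 5, nat_lit 8, nat_lit 0, nat_lit 8, nat_lit 7, nat_lit 0, nat_lit 7, nat_lit 5, nat_lit 6, nat_lit 4, nat_lit 2, nat_lit 0]))) (.node (nat_lit 0x1a30fccf0be31b4) (.leaf ((nat_lit 2), [nat_lit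 1, nat_lit 9, nat_lit 5, nat_lit 9, nat_lit 7, nat_lit 5, nat_lit 8, nat_lit 6, nat_lit 7, nat_lit 6, nat_lit 4, nat_lit 3, nat_lit 6, nat_lit 4])) (.node (nat_lit 0x1a30fcd74fa459c) (.leaf ((nat_lit 0), [nat_lit 8, nat_lit 7, nat_lit 1, nat_lit 8, nat_lit 7, nat_lit 5, nat_lit 6, nat_lit 7, nat_lit 6, nat_lit 5, nat_lit 2, nat_lit 4, nat_lit 1])) (.leaf ((nat_lit 0), [nat_lit 1, nat_lit 9, nat_lit 5, nat_lit 9, nat_lit 4, nat_lit 8, nat_lit 0, nat_lit 8, nat_lit 7, nat_lit 4, nat_lit 6, nat_lit 5, nat_lit 3, nat_lit 0])))))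
 (.node (nat_lit 0x1a3270cbf547e84) (.node (nat_lit 0x1a3270c3df8c7f4) (.leaf ((nat_lit 2), [nat_lit 4, nat_lit 1, nat_lit 9, nat_lit 5, nat_lit 9, nat_lit 2, nat_lit 8, nat_lit 6, nat_lit 3, nat_lit 4, nat_lit 7, nat_lit 3, nat_lit 4, nat_lit 3, nat_lit 3])) (.leaf ((nat_lit 0), [nat_lit 3, nat_lit 7, nat_lit 8, nat_lit 3, nat_lit 6, nat_lit 1, nat_lit 7, nat_lit 5, nat_lit 6, nat_lit 3, nat_lit 3]))) (.node (nat_lit 0x1a3270d18717c00) (.leaf ((nat_lit 0), [nat_lit 1, nat_lit 9, nat_lit 5, nat_lit 9, nat_lit 2, nat_lit 5, nat_lit 8, nat_lit 5, nat_lit 7, nat_lit 5, nat_lit 1, nat_lit 7, nat_lit 2, nat_lit 4, nat_lit 6, nat_lit 1])) (.node (nat_lit 0x1a32cdae4e0ceb4) (.leaf ((nat_lit 1), [nat_lit 4, nat_lit 1, nat_lit 9, nat_lit 5, nat_lit 9, nat_lit 5, nat_lit 8, nat_lit 2, nat_lit 2, nat_lit 6, nat_lit 4, nat_lit 3, nat_lit 3, nat_lit 1])) (.leaf ((nat_lit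 3), [nat_lit 6, nat_lit 9, nat_lit 5, nat_lit 9, nat_lit 1, nat_lit 7, nat_lit 8, nat_lit 7, nat_lit 6, nat_lit 5, nat_lit 6, nat_lit 5, nat_lit 4, nat_lit 2, nat_lit 0]))))))
 (.node (nat_lit 0x1a3505d76d997e0) (.node (nat_lit 0x1a3441a155bdd20) (.node (nat_lit 0x1a32cdbc239a01c) (.leaf ((nat_lit 0), [nat_lit 6, nat_lit 7, nat_lit 2, nat_lit 1, nat_lit 8, nat_lit 6, nat_lit 5, nat_lit 7, nat_lit 4, nat_lit 6, nat_lit 2])) (.leaf ((nat_lit 0), [nat_lit 1, nat_lit 9, nat_lit 5, nat_lit 9, nat_lit 8, nat_lit 7, nat_lit 0, nat_lit 8, nat_lit 1, nat_lit 7, nat_lit 4, nat_lit 3, nat_lit 6, nat_lit 2]))) (.node (nat_lit 0x1a3441a93d77a98) (.leaf ((nat_lit 6), [nat_lit 4, nat_lit 9, nat_lit 7, nat_lit 9, nat_lit 0, nat_lit 8, nat_lit 7, nat_lit 1, nat_lit 8, nat_lit 2, nat_lit 4, nat_lit 7, nat_lit 2, nat_lit 4, nat_lit 3, nat_lit 6, nat_lit 5])) (.node (nat_lit 0x1a3441aecf4da30)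 (.leaf ((nat_lit 2), [nat_lit 3, nat_lit 6, nat_lit 3, nat_lit 8, nat_lit 6, nat_lit 5, nat_lit 0, nat_lit 7, nat_lit 4, nat_lit 3, nat_lit 3, nat_lit 6, nat_lit 5, nat_lit 0])) (.leaf ((nat_lit 3), [nat_lit 1, nat_lit 7, nat_lit 5, nat_lit 8, nat_lit 4, nat_lit 7, nat_lit 5, nat_lit 6, nat_lit 5, nat_lit 3, nat_lit 6, nat_lit 3, nat_lit 4, nat_lit 0])))))
 (.node (nat_lit 0x1a3790e14007cf4) (.node (nat_lit 0x1a3679ca754a374) (.leaf ((nat_lit 0), [nat_lit 2, nat_lit 9, nat_lit 3, nat_lit 5, nat_lit 9, nat_lit 8, nat_lit 0, nat_lit 8, nat_lit 6, nat_lit 4, nat_lit 2, nat_lit 6, nat_lit 2, nat_lit 2, nat_lit 1])) (.leaf ((nat_lit 0), [nat_lit 0, nat_lit 7, nat_lit 0, nat_lit 9, nat_lit 1, nat_lit 9, nat_lit 3, nat_lit 5, nat_lit 8, nat_lit 6, nat_lit 7, nat_lit 6, nat_lit 3, nat_lit 0]))) (.node (nat_lit 0x1a37edbfa4e9c4c) (.leaf ((nat_lit 0), [nat_lit 2, nat_lit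 7, nat_lit 9, nat_lit 5, nat_lit 9, nat_lit 6, nat_lit 8, nat_lit 6, nat_lit 5, nat_lit 0, nat_lit 7, nat_lit 4, nat_lit 6, nat_lit 2, nat_lit 4, nat_lit 1])) (.node (nat_lit 0x1a3f84426324c2c) (.leaf ((nat_lit 0), [nat_lit 2, nat_lit 2, nat_lit 9, nat_lit 1, nat_lit 9, nat_lit 5, nat_lit 0, nat_lit 8, nat_lit 0, nat_lit 7, nat_lit 4, nat_lit 2, nat_lit 6, nat_lit 3, nat_lit 1])) (.leaf ((nat_lit 2), [nat_lit 2, nat_lit 2, nat_lit 9, nat_lit 0, nat_lit 9, nat_lit 2, nat_lit 8, nat_lit 1, nat_lit 7, nat_lit 2, nat_lit 4, nat_lit 6, nat_lit 3, nat_lit 3, nat_lit 0])))))))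
 (.node (nat_lit 0x1a42c947b35eb30) (.node (nat_lit 0x1a41b2422812680) (.node (nat_lit 0x1a4155322cc1dd8) (.node (nat_lit 0x1a3f844fdcb6e34) (.leaf ((nat_lit 3), [nat_lit 4, nat_lit 8, nat_lit 0, nat_lit 8, nat_lit 5, nat_lit 7, nat_lit 5, nat_lit 7, nat_lit 2, nat_lit 6, nat_lit 4, nat_lit 3])) (.leaf ((nat_lit 6), [nat_lit 3, nat_lit 9, nat_lit 1, nat_lit 7, nat_lit 8, nat_lit 1, nat_lit 7, nat_lit 3, nat_lit 4, nat_lit 3, nat_lit 3, nat_lit 6, nat_lit 5, nat_lit 3]))) (.node (nat_lit 0x1a41553a428395c) (.leaf ((nat_lit 6), [nat_lit 7, nat_lit 9, nat_lit 2, nat_lit 1, nat_lit 9, nat_lit 2, nat_lit 6, nat_lit 0, nat_lit 8, nat_lit 7, nat_lit 6, nat_lit 5, nat_lit 0])) (.node (nat_lit 0x1a4155425845374) (.leaf ((nat_lit 2), [nat_lit 2, nat_lit 2, nat_lit 9, nat_lit 1, nat_lit 9, nat_lit 2, nat_lit 7, nat_lit 5, nat_lit 8, nat_lit 4, nat_lit 7, nat_lit 3, nat_lit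 3, nat_lit 6, nat_lit 5, nat_lit 3])) (.leaf ((nat_lit 3), [nat_lit 4, nat_lit 1, nat_lit 9, nat_lit 5, nat_lit 9, nat_lit 0, nat_lit 7, nat_lit 8, nat_lit 6, nat_lit 1, nat_lit 7, nat_lit 6, nat_lit 3, nat_lit 4, nat_lit 6, nat_lit 2, nat_lit 2])))))
 (.node (nat_lit 0x1a41b2522594304) (.node (nat_lit 0x1a41b24a6bd5df4) (.leaf ((nat_lit 2), [nat_lit 3, nat_lit 6, nat_lit 2, nat_lit 1, nat_lit 8, nat_lit 3, nat_lit 4, nat_lit 7, nat_lit 3, nat_lit 4, nat_lit 6, nat_lit 5, nat_lit 2, nat_lit 2, nat_lit 1])) (.leaf ((nat_lit 0), [nat_lit 5, nat_lit 8, nat_lit 5, nat_lit 8, nat_lit 7, nat_lit 5, nat_lit 7, nat_lit 5, nat_lit 6, nat_lit 3, nat_lit 3]))) (.node (nat_lit 0x1a42c93a0bca1d8) (.leaf ((nat_lit 0), [nat_lit 1, nat_lit 9, nat_lit 5, nat_lit 9, nat_lit 3, nat_lit 1, nat_lit 8, nat_lit 4, nat_lit 0, nat_lit 7, nat_lit 6, nat_lit 5, nat_lit 3, nat_lit 6, nat_lit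 4, nat_lit 3, nat_lit 1])) (.node (nat_lit 0x1a42c942218ef20) (.leaf ((nat_lit 1), [nat_lit 4, nat_lit 1, nat_lit 9, nat_lit 5, nat_lit 9, nat_lit 1, nat_lit 8, nat_lit 7, nat_lit 0, nat_lit 7, nat_lit 3, nat_lit 6, nat_lit 5, nat_lit 2, nat_lit 2, nat_lit 0])) (.leaf ((nat_lit 0), [nat_lit 8, nat_lit 2, nat_lit 1, nat_lit 8, nat_lit 2, nat_lit 4, nat_lit 7, nat_lit 5, nat_lit 2, nat_lit 2, nat_lit 1]))))))
 (.node (nat_lit 0x1a455e45841e8b4) (.node (nat_lit 0x1a43262a3a1ef84) (.node (nat_lit 0x1a4326247a4a72c) (.leaf ((nat_lit 0), [nat_lit 1, nat_lit 9, nat_lit 5, nat_lit 9, nat_lit 3, nat_lit 1, nat_lit 8, nat_lit 7, nat_lit 2, nat_lit 4, nat_lit 7, nat_lit 3, nat_lit 6, nat_lit 4, nat_lit 2, nat_lit 0])) (.leaf ((nat_lit 0), [nat_lit 7, nat_lit 5, nat_lit 6, nat_lit 8, nat_lit 6, nat_lit 5, nat_lit 7, nat_lit 2, nat_lit 6, nat_lit 3]))) (.node (nat_lit 0x1a4326324fe0de0)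 (.leaf ((nat_lit 0), [nat_lit 1, nat_lit 9, nat_lit 5, nat_lit 9, nat_lit 3, nat_lit 7, nat_lit 5, nat_lit 8, nat_lit 6, nat_lit 7, nat_lit 5, nat_lit 2, nat_lit 4, nat_lit 2])) (.node (nat_lit 0x1a43ea527c6dd20) (.leaf ((nat_lit 3), [nat_lit 6, nat_lit 9, nat_lit 5, nat_lit 9, nat_lit 8, nat_lit 6, nat_lit 3, nat_lit 8, nat_lit 6, nat_lit 2, nat_lit 4, nat_lit 7, nat_lit 6, nat_lit 2, nat_lit 2, nat_lit 6, nat_lit 5, nat_lit 0])) (.leaf ((nat_lit 0), [nat_lit 7, nat_lit 9, nat_lit 2, nat_lit 1, nat_lit 9, nat_lit 2, nat_lit 7, nat_lit 8, nat_lit 3, nat_lit 4, nat_lit 7, nat_lit 3, nat_lit 6, nat_lit 4, nat_lit 2, nat_lit 2, nat_lit 0])))))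
 (.node (nat_lit 0x1a478c3465950cc) (.node (nat_lit 0x1a472f4efeebc34) (.leaf ((nat_lit 0), [nat_lit 9, nat_lit 7, nat_lit 5, nat_lit 0, nat_lit 9, nat_lit 7, nat_lit 5, nat_lit 0, nat_lit 8, nat_lit 4, nat_lit 1, nat_lit 7, nat_lit 5, nat_lit 3, nat_lit 6, nat_lit 4, nat_lit 0])) (.leaf ((nat_lit 0), [nat_lit 6, nat_lit 9, nat_lit 5, nat_lit 3, nat_lit 1, nat_lit 9, nat_lit 7, nat_lit 8, nat_lit 4, nat_lit 2, nat_lit 0]))) (.node (nat_lit 0x1a4e0bdb193a79c) (.leaf ((nat_lit 0), [nat_lit 2, nat_lit 7, nat_lit 9, nat_lit 5, nat_lit 9, nat_lit 8, nat_lit 1, nat_lit 8, nat_lit 5, nat_lit 7, nat_lit 2, nat_lit 4, nat_lit 2])) (.node (nat_lit 0x1a4e0be32ef5e2c) (.leaf ((nat_lit 0), [nat_lit 1, nat_lit 9, nat_lit 5, nat_lit 9, nat_lit 2, nat_lit 7, nat_lit 6, nat_lit 8, nat_lit 6, nat_lit 5, nat_lit 0, nat_lit 7, nat_lit 4, nat_lit 6, nat_lit 4, nat_lit 2, nat_lit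 0])) (.leaf ((nat_lit 1), [nat_lit 6, nat_lit 9, nat_lit 5, nat_lit 9, nat_lit 5, nat_lit 2, nat_lit 8, nat_lit 0, nat_lit 7, nat_lit 6, nat_lit 2, nat_lit 4, nat_lit 0])))))))))
 (.node (nat_lit 0x1aca5ab06a6fdcc) (.node (nat_lit 0x1a6f2ee1fe2fc74) (.node (nat_lit 0x1a5150be7483db0) (.node (nat_lit 0x1a4fdcc0772ecb4) (.node (nat_lit 0x1a4e68cb47884f4) (.node (nat_lit 0x1a4e68c587bacf0) (.leaf ((nat_lit 0), [nat_lit 5, nat_lit 2, nat_lit 8, nat_lit 5, nat_lit 1, nat_lit 7, nat_lit 4, nat_lit 2, nat_lit 6, nat_lit 2, nat_lit 4])) (.leaf ((nat_lit 0), [nat_lit 1, nat_lit 9, nat_lit 5, nat_lit 9, nat_lit 7, nat_lit 1, nat_lit 7, nat_lit 8, nat_lit 5, nat_lit 7, nat_lit 5, nat_lit 7, nat_lit 2, nat_lit 2, nat_lit 6, nat_lit 1]))) (.node (nat_lit 0x1a4e68d35d47b80) (.leaf ((nat_lit 3), [nat_lit 6, nat_lit 9, nat_lit 5, nat_lit 9, nat_lit 3, nat_lit 5, nat_lit 6, nat_lit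 8, nat_lit 1, nat_lit 7, nat_lit 6, nat_lit 3, nat_lit 4, nat_lit 6, nat_lit 5])) (.node (nat_lit 0x1a4fdcb88f6b884) (.leaf ((nat_lit 0), [nat_lit 8, nat_lit 6, nat_lit 5, nat_lit 1, nat_lit 7, nat_lit 4, nat_lit 2])) (.leaf ((nat_lit 3), [nat_lit 3, nat_lit 1, nat_lit 8, nat_lit 6, nat_lit 0, nat_lit 7, nat_lit 4, nat_lit 2, nat_lit 6, nat_lit 2, nat_lit 4])))))
 (.node (nat_lit 0x1a50f3ae79330c4) (.node (nat_lit 0x1a4fdcc608fb700) (.leaf ((nat_lit 6), [nat_lit 2, nat_lit 7, nat_lit 1, nat_lit 9, nat_lit 6, nat_lit 8, nat_lit 3, nat_lit 6, nat_lit 1, nat_lit 7, nat_lit 6, nat_lit 3, nat_lit 3, nat_lit 6, nat_lit 3, nat_lit 4, nat_lit 1])) (.leaf ((nat_lit 2), [nat_lit 6, nat_lit 9, nat_lit 5, nat_lit 3, nat_lit 1, nat_lit 9, nat_lit 2, nat_lit 7, nat_lit 5, nat_lit 8, nat_lit 5, nat_lit 0, nat_lit 7, nat_lit 2, nat_lit 6, nat_lit 2]))) (.node (nat_lit 0x1a50f3b68ef4f20)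 (.leaf ((nat_lit 2), [nat_lit 1, nat_lit 9, nat_lit 5, nat_lit 9, nat_lit 8, nat_lit 2, nat_lit 5, nat_lit 8, nat_lit 2, nat_lit 4, nat_lit 6, nat_lit 5, nat_lit 3, nat_lit 1])) (.node (nat_lit 0x1a50f3bea4ad3ec) (.leaf ((nat_lit 3), [nat_lit 4, nat_lit 1, nat_lit 9, nat_lit 5, nat_lit 9, nat_lit 3, nat_lit 3, nat_lit 8, nat_lit 2, nat_lit 4, nat_lit 3, nat_lit 6, nat_lit 3, nat_lit 3, nat_lit 3])) (.leaf ((nat_lit 6), [nat_lit 2, nat_lit 7, nat_lit 9, nat_lit 5, nat_lit 9, nat_lit 8, nat_lit 6, nat_lit 3, nat_lit 8, nat_lit 5, nat_lit 6, nat_lit 7, nat_lit 6, nat_lit 5, nat_lit 4, nat_lit 1]))))))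
 (.node (nat_lit 0x1a5559dee9736f4) (.node (nat_lit 0x1a5150ce7205ba0) (.node (nat_lit 0x1a5150c6b83dfd8) (.leaf ((nat_lit 0), [nat_lit 1, nat_lit 9, nat_lit 5, nat_lit 9, nat_lit 4, nat_lit 8, nat_lit 0, nat_lit 8, nat_lit 3, nat_lit 6, nat_lit 7, nat_lit 4, nat_lit 2, nat_lit 2, nat_lit 6, nat_lit 5, nat_lit 3, nat_lit 1])) (.leaf ((nat_lit 2), [nat_lit 5, nat_lit 9, nat_lit 1, nat_lit 9, nat_lit 6, nat_lit 7, nat_lit 1, nat_lit 8, nat_lit 3, nat_lit 4, nat_lit 7, nat_lit 5, nat_lit 2, nat_lit 4, nat_lit 3, nat_lit 0]))) (.node (nat_lit 0x1a5271e686a61e0) (.leaf ((nat_lit 0), [nat_lit 7, nat_lit 5, nat_lit 6, nat_lit 8, nat_lit 5, nat_lit 7, nat_lit 2, nat_lit 6, nat_lit 3, nat_lit 4, nat_lit 3, nat_lit 3, nat_lit 1])) (.node (nat_lit 0x1a53e5d98e56d74) (.leaf ((nat_lit 0), [nat_lit 6, nat_lit 9, nat_lit 2, nat_lit 1, nat_lit 9, nat_lit 8, nat_lit 5, nat_lit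 1, nat_lit 8, nat_lit 6, nat_lit 5, nat_lit 7, nat_lit 5, nat_lit 3, nat_lit 4])) (.leaf ((nat_lit 0), [nat_lit 2, nat_lit 2, nat_lit 9, nat_lit 0, nat_lit 9, nat_lit 7, nat_lit 1, nat_lit 7, nat_lit 8, nat_lit 7, nat_lit 0, nat_lit 7, nat_lit 5, nat_lit 0])))))
 (.node (nat_lit 0x1a5dbf437b479a4) (.node (nat_lit 0x1a55b6cbdbdfb0c) (.leaf ((nat_lit 0), [nat_lit 2, nat_lit 2, nat_lit 9, nat_lit 1, nat_lit 9, nat_lit 3, nat_lit 5, nat_lit 8, nat_lit 6, nat_lit 5, nat_lit 3, nat_lit 3, nat_lit 1])) (.leaf ((nat_lit 0), [nat_lit 6, nat_lit 9, nat_lit 5, nat_lit 3, nat_lit 1, nat_lit 9, nat_lit 0, nat_lit 8, nat_lit 6, nat_lit 5, nat_lit 1, nat_lit 7, nat_lit 6, nat_lit 5, nat_lit 6, nat_lit 5, nat_lit 2, nat_lit 4, nat_lit 3]))) (.node (nat_lit 0x1a606998573206c) (.leaf ((nat_lit 1), [nat_lit 4, nat_lit 7, nat_lit 6, nat_lit 8, nat_lit 0, nat_lit 7, nat_lit 4, nat_lit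 3, nat_lit 3, nat_lit 6, nat_lit 5, nat_lit 3, nat_lit 3])) (.node (nat_lit 0x1a61be743238048) (.leaf ((nat_lit 0), [nat_lit 2, nat_lit 7, nat_lit 9, nat_lit 5, nat_lit 9, nat_lit 3, nat_lit 5, nat_lit 8, nat_lit 5, nat_lit 7, nat_lit 6, nat_lit 5, nat_lit 3, nat_lit 6, nat_lit 5, nat_lit 2, nat_lit 2, nat_lit 0])) (.leaf ((nat_lit 0), [nat_lit 6, nat_lit 9, nat_lit 2, nat_lit 1, nat_lit 9, nat_lit 2, nat_lit 7, nat_lit 8, nat_lit 6, nat_lit 5, nat_lit 7, nat_lit 4, nat_lit 2, nat_lit 2, nat_lit 6, nat_lit 2, nat_lit 0])))))))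
 (.node (nat_lit 0x1a98975a4f9c6e4) (.node (nat_lit 0x1a828e6b7fcd3d8) (.node (nat_lit 0x1a738ae439f545c) (.node (nat_lit 0x1a711f25808e004) (.leaf ((nat_lit 1), [nat_lit 7, nat_lit 1, nat_lit 8, nat_lit 5, nat_lit 7, nat_lit 3, nat_lit 6, nat_lit 0])) (.leaf ((nat_lit 0), [nat_lit 2, nat_lit 7, nat_lit 9, nat_lit 5, nat_lit 9, nat_lit 3, nat_lit 7, nat_lit 5, nat_lit 8, nat_lit 6, nat_lit 5, nat_lit 0, nat_lit 7, nat_lit 6, nat_lit 5, nat_lit 2, nat_lit 2]))) (.node (nat_lit 0x1a7cfc33186cab8) (.leaf ((nat_lit 1), [nat_lit 8, nat_lit 4, nat_lit 6, nat_lit 8, nat_lit 4, nat_lit 7, nat_lit 6, nat_lit 2, nat_lit 4, nat_lit 6, nat_lit 4])) (.node (nat_lit 0x1a7e7038fd84d0c) (.leaf ((nat_lit 0), [nat_lit 0, nat_lit 7, nat_lit 0, nat_lit 9, nat_lit 1, nat_lit 9, nat_lit 7, nat_lit 5, nat_lit 0, nat_lit 8, nat_lit 5, nat_lit 1, nat_lit 7, nat_lit 2, nat_lit 6, nat_lit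 3, nat_lit 4, nat_lit 3, nat_lit 3, nat_lit 1])) (.leaf ((nat_lit 1), [nat_lit 7, nat_lit 1, nat_lit 8, nat_lit 6, nat_lit 5, nat_lit 0, nat_lit 7, nat_lit 3, nat_lit 3, nat_lit 3, nat_lit 6, nat_lit 3, nat_lit 3, nat_lit 3])))))
 (.node (nat_lit 0x1a8ac9dd9c4b3b8) (.node (nat_lit 0x1a88f913abf0c1c) (.leaf ((nat_lit 4), [nat_lit 2, nat_lit 7, nat_lit 9, nat_lit 5, nat_lit 9, nat_lit 4, nat_lit 7, nat_lit 8, nat_lit 7, nat_lit 6, nat_lit 5, nat_lit 3, nat_lit 6, nat_lit 2, nat_lit 2])) (.leaf ((nat_lit 1), [nat_lit 7, nat_lit 1, nat_lit 8, nat_lit 5, nat_lit 7, nat_lit 6, nat_lit 3, nat_lit 4, nat_lit 6, nat_lit 5, nat_lit 3, nat_lit 1]))) (.node (nat_lit 0x1a8fa1ef6740218) (.leaf ((nat_lit 0), [nat_lit 6, nat_lit 9, nat_lit 2, nat_lit 1, nat_lit 9, nat_lit 4, nat_lit 7, nat_lit 8, nat_lit 6, nat_lit 2, nat_lit 4, nat_lit 7, nat_lit 3, nat_lit 6, nat_lit 5, nat_lit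 2, nat_lit 2])) (.node (nat_lit 0x1a91b0725e4418c) (.leaf ((nat_lit 1), [nat_lit 3, nat_lit 7, nat_lit 8, nat_lit 7, nat_lit 0, nat_lit 7, nat_lit 6, nat_lit 5, nat_lit 3, nat_lit 6, nat_lit 3, nat_lit 4, nat_lit 3, nat_lit 3, nat_lit 1])) (.leaf ((nat_lit 0), [nat_lit 2, nat_lit 7, nat_lit 9, nat_lit 5, nat_lit 9, nat_lit 0, nat_lit 8, nat_lit 3, nat_lit 4, nat_lit 7, nat_lit 3, nat_lit 6, nat_lit 4, nat_lit 1]))))))
 (.node (nat_lit 0x1aac34c8ccf4b1c) (.node (nat_lit 0x1a9f21490760788) (.node (nat_lit 0x1a9913c357f7d2c) (.leaf ((nat_lit 4), [nat_lit 6, nat_lit 9, nat_lit 2, nat_lit 1, nat_lit 9, nat_lit 2, nat_lit 6, nat_lit 8, nat_lit 6, nat_lit 2, nat_lit 4, nat_lit 7, nat_lit 3, nat_lit 4, nat_lit 6, nat_lit 4, nat_lit 2])) (.leaf ((nat_lit 1), [nat_lit 7, nat_lit 1, nat_lit 8, nat_lit 3, nat_lit 6, nat_lit 7, nat_lit 2, nat_lit 4, nat_lit 6, nat_lit 4,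 nat_lit 3, nat_lit 3, nat_lit 1]))) (.node (nat_lit 0x1aa5ca5e9cdbd98) (.leaf ((nat_lit 0), [nat_lit 0, nat_lit 7, nat_lit 0, nat_lit 9, nat_lit 1, nat_lit 9, nat_lit 1, nat_lit 7, nat_lit 8, nat_lit 5, nat_lit 7, nat_lit 3, nat_lit 3, nat_lit 6, nat_lit 5, nat_lit 3, nat_lit 0])) (.node (nat_lit 0x1aa8361f7e31f34) (.leaf ((nat_lit 1), [nat_lit 4, nat_lit 6, nat_lit 8, nat_lit 3, nat_lit 6, nat_lit 1, nat_lit 7, nat_lit 3, nat_lit 4, nat_lit 6, nat_lit 5, nat_lit 3])) (.leaf ((nat_lit 0), [nat_lit 2, nat_lit 7, nat_lit 9, nat_lit 5, nat_lit 9, nat_lit 6, nat_lit 3, nat_lit 8, nat_lit 7, nat_lit 5, nat_lit 0, nat_lit 7, nat_lit 6, nat_lit 3, nat_lit 4, nat_lit 6, nat_lit 2])))))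
 (.node (nat_lit 0x1ab48f91fc8db34) (.node (nat_lit 0x1aaedee1b64f944) (.leaf ((nat_lit 4), [nat_lit 0, nat_lit 7, nat_lit 0, nat_lit 9, nat_lit 1, nat_lit 9, nat_lit 2, nat_lit 1, nat_lit 8, nat_lit 6, nat_lit 7, nat_lit 6, nat_lit 5, nat_lit 6, nat_lit 2, nat_lit 4, nat_lit 2, nat_lit 1])) (.leaf ((nat_lit 1), [nat_lit 7, nat_lit 8, nat_lit 5, nat_lit 4, nat_lit 7, nat_lit 2, nat_lit 4, nat_lit 6, nat_lit 4, nat_lit 2, nat_lit 2]))) (.node (nat_lit 0x1abadb98aaafa44) (.leaf ((nat_lit 0), [nat_lit 0, nat_lit 7, nat_lit 0, nat_lit 9, nat_lit 1, nat_lit 9, nat_lit 8, nat_lit 6, nat_lit 2, nat_lit 8, nat_lit 6, nat_lit 7, nat_lit 2, nat_lit 4, nat_lit 3, nat_lit 6, nat_lit 0])) (.node (nat_lit 0x1ac3d0c1d11f9b8) (.leaf ((nat_lit 0), [nat_lit 0, nat_lit 7, nat_lit 0, nat_lit 9, nat_lit 1, nat_lit 9, nat_lit 2, nat_lit 8, nat_lit 6, nat_lit 5, nat_lit 1, nat_lit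 7, nat_lit 4, nat_lit 3, nat_lit 6, nat_lit 2, nat_lit 1])) (.leaf ((nat_lit 1), [nat_lit 8, nat_lit 5, nat_lit 0, nat_lit 8, nat_lit 5, nat_lit 6, nat_lit 3, nat_lit 3, nat_lit 3, nat_lit 1]))))))))
 (.node (nat_lit 0x1b31e064bc4ffdc) (.node (nat_lit 0x1b01edf1b90b6b8) (.node (nat_lit 0x1ae78935dbc86ec) (.node (nat_lit 0x1ad5403ecaa25e4) (.node (nat_lit 0x1ad331b475d9b6c) (.leaf ((nat_lit 0), [nat_lit 6, nat_lit 9, nat_lit 2, nat_lit 1, nat_lit 9, nat_lit 4, nat_lit 7, nat_lit 4, nat_lit 2, nat_lit 2, nat_lit 6, nat_lit 3, nat_lit 4, nat_lit 3, nat_lit 3, nat_lit 0])) (.leaf ((nat_lit 0), [nat_lit 6, nat_lit 9, nat_lit 2, nat_lit 1, nat_lit 9, nat_lit 5, nat_lit 7, nat_lit 8, nat_lit 6, nat_lit 5, nat_lit 7, nat_lit 6, nat_lit 5, nat_lit 6, nat_lit 5, nat_lit 4, nat_lit 2]))) (.node (nat_lit 0x1ad93f65fbdfcc8) (.leaf ((nat_lit 1), [nat_lit 7, nat_lit 5, nat_lit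 8, nat_lit 0, nat_lit 7, nat_lit 4, nat_lit 2, nat_lit 6, nat_lit 5, nat_lit 2, nat_lit 4, nat_lit 0])) (.node (nat_lit 0x1ae083351fd2888) (.leaf ((nat_lit 1), [nat_lit 6, nat_lit 2, nat_lit 4, nat_lit 7, nat_lit 6, nat_lit 4, nat_lit 3, nat_lit 6, nat_lit 0])) (.leaf ((nat_lit 4), [nat_lit 6, nat_lit 9, nat_lit 2, nat_lit 1, nat_lit 9, nat_lit 2, nat_lit 6, nat_lit 8, nat_lit 5, nat_lit 0, nat_lit 7, nat_lit 4, nat_lit 2, nat_lit 6, nat_lit 3, nat_lit 3, nat_lit 1])))))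
 (.node (nat_lit 0x1aefc464c665e4c) (.node (nat_lit 0x1ae997b8d2ccaa4) (.leaf ((nat_lit 1), [nat_lit 7, nat_lit 2, nat_lit 1, nat_lit 8, nat_lit 0, nat_lit 7, nat_lit 3, nat_lit 4, nat_lit 6, nat_lit 5, nat_lit 4, nat_lit 2, nat_lit 1])) (.leaf ((nat_lit 1), [nat_lit 8, nat_lit 6, nat_lit 3, nat_lit 1, nat_lit 8, nat_lit 7, nat_lit 2, nat_lit 4, nat_lit 7, nat_lit 4, nat_lit 3, nat_lit 6]))) (.node (nat_lit 0x1af7658c3dd4f9c) (.leaf ((nat_lit 1), [nat_lit 3, nat_lit 7, nat_lit 8, nat_lit 6, nat_lit 5, nat_lit 1, nat_lit 7, nat_lit 3, nat_lit 6, nat_lit 2, nat_lit 4])) (.node (nat_lit 0x1aff2557c71d5c4) (.leaf ((nat_lit 0), [nat_lit 6, nat_lit 9, nat_lit 2, nat_lit 1, nat_lit 9, nat_lit 8, nat_lit 6, nat_lit 3, nat_lit 1, nat_lit 8, nat_lit 4, nat_lit 7, nat_lit 6, nat_lit 5, nat_lit 6, nat_lit 3, nat_lit 4])) (.leaf ((nat_lit 1), [nat_lit 1, nat_lit 8, nat_lit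 6, nat_lit 7, nat_lit 3, nat_lit 3, nat_lit 3, nat_lit 6, nat_lit 5, nat_lit 2, nat_lit 2]))))))
 (.node (nat_lit 0x1b1e054e96362ac) (.node (nat_lit 0x1b06692adef0098) (.node (nat_lit 0x1b041bf9842d174) (.leaf ((nat_lit 0), [nat_lit 0, nat_lit 7, nat_lit 0, nat_lit 9, nat_lit 1, nat_lit 9, nat_lit 7, nat_lit 5, nat_lit 0, nat_lit 8, nat_lit 2, nat_lit 4, nat_lit 7, nat_lit 4, nat_lit 6, nat_lit 2, nat_lit 2])) (.leaf ((nat_lit 0), [nat_lit 6, nat_lit 9, nat_lit 2, nat_lit 1, nat_lit 9, nat_lit 7, nat_lit 8, nat_lit 1, nat_lit 8, nat_lit 3, nat_lit 6, nat_lit 1, nat_lit 7, nat_lit 2, nat_lit 4, nat_lit 3, nat_lit 6, nat_lit 2]))) (.node (nat_lit 0x1b1037e3ac55604) (.leaf ((nat_lit 0), [nat_lit 2, nat_lit 7, nat_lit 9, nat_lit 5, nat_lit 9, nat_lit 3, nat_lit 1, nat_lit 8, nat_lit 7, nat_lit 5, nat_lit 7, nat_lit 5, nat_lit 3, nat_lit 6, nat_lit 5, nat_lit 2, nat_lit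 0])) (.node (nat_lit 0x1b137c976b1fd58) (.leaf ((nat_lit 4), [nat_lit 0, nat_lit 7, nat_lit 0, nat_lit 9, nat_lit 1, nat_lit 9, nat_lit 7, nat_lit 8, nat_lit 1, nat_lit 8, nat_lit 5, nat_lit 6, nat_lit 2, nat_lit 2])) (.leaf ((nat_lit 1), [nat_lit 5, nat_lit 2, nat_lit 8, nat_lit 4, nat_lit 1, nat_lit 7, nat_lit 5, nat_lit 6, nat_lit 2, nat_lit 2, nat_lit 1])))))
 (.node (nat_lit 0x1b229eb23af5924) (.node (nat_lit 0x1b20142423131c8) (.leaf ((nat_lit 0), [nat_lit 0, nat_lit 7, nat_lit 0, nat_lit 9, nat_lit 1, nat_lit 9, nat_lit 1, nat_lit 7, nat_lit 8, nat_lit 7, nat_lit 3, nat_lit 6, nat_lit 4, nat_lit 2, nat_lit 0])) (.leaf ((nat_lit 1), [nat_lit 7, nat_lit 5, nat_lit 1, nat_lit 8, nat_lit 5, nat_lit 1, nat_lit 7, nat_lit 2, nat_lit 2, nat_lit 6, nat_lit 3, nat_lit 4, nat_lit 0]))) (.node (nat_lit 0x1b2d27b19039134) (.leaf ((nat_lit 0), [nat_lit 2, nat_lit 7,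 nat_lit 9, nat_lit 5, nat_lit 9, nat_lit 6, nat_lit 7, nat_lit 2, nat_lit 1, nat_lit 8, nat_lit 6, nat_lit 5, nat_lit 0, nat_lit 7, nat_lit 4, nat_lit 6, nat_lit 3])) (.node (nat_lit 0x1b2d84784d6540c) (.leaf ((nat_lit 0), [nat_lit 2, nat_lit 7, nat_lit 9, nat_lit 5, nat_lit 9, nat_lit 2, nat_lit 5, nat_lit 8, nat_lit 4, nat_lit 1, nat_lit 7, nat_lit 2])) (.leaf ((nat_lit 1), [nat_lit 3, nat_lit 6, nat_lit 8, nat_lit 7, nat_lit 4, nat_lit 2, nat_lit 2, nat_lit 6, nat_lit 2, nat_lit 0])))))))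
 (.node (nat_lit 0x1b5aebe079cf2a4) (.node (nat_lit 0x1b48c263b2a6db8) (.node (nat_lit 0x1b3baede893e0cc) (.node (nat_lit 0x1b3924346a3e8b4) (.leaf ((nat_lit 0), [nat_lit 0, nat_lit 7, nat_lit 0, nat_lit 9, nat_lit 1, nat_lit 9, nat_lit 2, nat_lit 2, nat_lit 8, nat_lit 2, nat_lit 2, nat_lit 6, nat_lit 2, nat_lit 2])) (.leaf ((nat_lit 1), [nat_lit 3, nat_lit 8, nat_lit 7, nat_lit 1, nat_lit 8, nat_lit 5, nat_lit 7, nat_lit 5, nat_lit 1, nat_lit 7, nat_lit 4, nat_lit 3, nat_lit 3, nat_lit 6, nat_lit 0]))) (.node (nat_lit 0x1b3e3a1b248675c) (.leaf ((nat_lit 4), [nat_lit 2, nat_lit 7, nat_lit 9, nat_lit 5, nat_lit 9, nat_lit 5, nat_lit 1, nat_lit 8, nat_lit 7, nat_lit 1, nat_lit 7, nat_lit 6, nat_lit 0])) (.node (nat_lit 0x1b400ac969c0b78) (.leaf ((nat_lit 1), [nat_lit 3, nat_lit 3, nat_lit 8, nat_lit 6, nat_lit 2, nat_lit 4, nat_lit 7, nat_lit 6, nat_lit 2, nat_lit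 4, nat_lit 6, nat_lit 4, nat_lit 3])) (.leaf ((nat_lit 1), [nat_lit 2, nat_lit 8, nat_lit 6, nat_lit 5, nat_lit 6, nat_lit 7, nat_lit 4, nat_lit 3, nat_lit 3, nat_lit 6, nat_lit 5, nat_lit 2, nat_lit 4, nat_lit 3, nat_lit 1])))))
 (.node (nat_lit 0x1b4d9acca0dafd8) (.node (nat_lit 0x1b493eca0918504) (.leaf ((nat_lit 0), [nat_lit 2, nat_lit 7, nat_lit 9, nat_lit 5, nat_lit 9, nat_lit 6, nat_lit 5, nat_lit 2, nat_lit 8, nat_lit 7, nat_lit 2, nat_lit 4, nat_lit 6, nat_lit 5, nat_lit 2, nat_lit 2])) (.leaf ((nat_lit 1), [nat_lit 5, nat_lit 0, nat_lit 8, nat_lit 7, nat_lit 5, nat_lit 6, nat_lit 7, nat_lit 5, nat_lit 3, nat_lit 6, nat_lit 3, nat_lit 4, nat_lit 1]))) (.node (nat_lit 0x1b55f5654dfc12c) (.leaf ((nat_lit 0), [nat_lit 0, nat_lit 7, nat_lit 0, nat_lit 9, nat_lit 1, nat_lit 9, nat_lit 7, nat_lit 2, nat_lit 8, nat_lit 3, nat_lit 4])) (.node (nat_lit 0x1b5861265d50b88)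 (.leaf ((nat_lit 0), [nat_lit 6, nat_lit 9, nat_lit 2, nat_lit 1, nat_lit 9, nat_lit 4, nat_lit 7, nat_lit 6, nat_lit 8, nat_lit 5, nat_lit 7, nat_lit 3, nat_lit 6, nat_lit 3])) (.leaf ((nat_lit 1), [nat_lit 5, nat_lit 6, nat_lit 7, nat_lit 5, nat_lit 6, nat_lit 5, nat_lit 4, nat_lit 3, nat_lit 3, nat_lit 3]))))))
 (.node (nat_lit 0x1b758f69ee49598) (.node (nat_lit 0x1b67a281da81b24) (.node (nat_lit 0x1b6517d75f84d48) (.leaf ((nat_lit 0), [nat_lit 6, nat_lit 9, nat_lit 2, nat_lit 1, nat_lit 9, nat_lit 7, nat_lit 5, nat_lit 6, nat_lit 8, nat_lit 7, nat_lit 3, nat_lit 4, nat_lit 6, nat_lit 4])) (.leaf ((nat_lit 0), [nat_lit 6, nat_lit 9, nat_lit 2, nat_lit 1, nat_lit 9, nat_lit 7, nat_lit 1, nat_lit 7, nat_lit 8, nat_lit 3, nat_lit 6, nat_lit 5, nat_lit 4, nat_lit 1]))) (.node (nat_lit 0x1b6b63dddfa822c) (.leaf ((nat_lit 0), [nat_lit 0, nat_lit 7, nat_lit 0, nat_lit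 9, nat_lit 1, nat_lit 9, nat_lit 7, nat_lit 2, nat_lit 8, nat_lit 5, nat_lit 7, nat_lit 2, nat_lit 6, nat_lit 3, nat_lit 4, nat_lit 1])) (.node (nat_lit 0x1b74b61c933bdcc) (.leaf ((nat_lit 1), [nat_lit 0, nat_lit 8, nat_lit 6, nat_lit 1, nat_lit 8, nat_lit 6, nat_lit 5, nat_lit 3, nat_lit 4, nat_lit 3, nat_lit 0])) (.leaf ((nat_lit 0), [nat_lit 0, nat_lit 7, nat_lit 0, nat_lit 9, nat_lit 1, nat_lit 9, nat_lit 5, nat_lit 0, nat_lit 7, nat_lit 8, nat_lit 7, nat_lit 5, nat_lit 7, nat_lit 6, nat_lit 4, nat_lit 3, nat_lit 6, nat_lit 2, nat_lit 4])))))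
 (.node (nat_lit 0x1b81e9289a3d104) (.node (nat_lit 0x1b7ae2f59f689f8) (.leaf ((nat_lit 0), [nat_lit 2, nat_lit 7, nat_lit 9, nat_lit 5, nat_lit 9, nat_lit 6, nat_lit 3, nat_lit 8, nat_lit 6, nat_lit 3, nat_lit 3, nat_lit 6, nat_lit 4, nat_lit 0])) (.leaf ((nat_lit 4), [nat_lit 0, nat_lit 7, nat_lit 0, nat_lit 9, nat_lit 1, nat_lit 9, nat_lit 3, nat_lit 8, nat_lit 2, nat_lit 4, nat_lit 7, nat_lit 3, nat_lit 6, nat_lit 5, nat_lit 4, nat_lit 2]))) (.node (nat_lit 0x1b8454c9dc92a5c) (.leaf ((nat_lit 1), [nat_lit 2, nat_lit 6, nat_lit 8, nat_lit 1, nat_lit 7, nat_lit 3, nat_lit 3, nat_lit 6, nat_lit 3, nat_lit 4, nat_lit 3])) (.node (nat_lit 0x1b89c7ab30d88f4) (.leaf ((nat_lit 1), [nat_lit 6, nat_lit 9, nat_lit 2, nat_lit 1, nat_lit 9, nat_lit 5, nat_lit 0, nat_lit 8, nat_lit 0, nat_lit 7, nat_lit 2, nat_lit 2, nat_lit 6, nat_lit 2, nat_lit 4, nat_lit 3, nat_lit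 0])) (.leaf ((nat_lit 1), [nat_lit 2, nat_lit 5, nat_lit 8, nat_lit 7, nat_lit 6, nat_lit 4, nat_lit 2, nat_lit 6, nat_lit 5, nat_lit 4, nat_lit 3, nat_lit 1]))))))))))
 (.node (nat_lit 0x2a2528def182868) (.node (nat_lit 0x29fdee3cc53dd84) (.node (nat_lit 0x29dce0506ee41ec) (.node (nat_lit 0x1bc11ce46b49a58) (.node (nat_lit 0x1ba5dece71606ec) (.node (nat_lit 0x1b967e1d230ab74) (.node (nat_lit 0x1b95866506b5b04) (.leaf ((nat_lit 0), [nat_lit 2, nat_lit 7, nat_lit 9, nat_lit 5, nat_lit 9, nat_lit 8, nat_lit 5, nat_lit 1, nat_lit 8, nat_lit 5, nat_lit 6, nat_lit 7, nat_lit 4, nat_lit 2, nat_lit 6, nat_lit 2, nat_lit 2, nat_lit 1])) (.leaf ((nat_lit 0), [nat_lit 0, nat_lit 7, nat_lit 0, nat_lit 9, nat_lit 1, nat_lit 9, nat_lit 6, nat_lit 7, nat_lit 1, nat_lit 8, nat_lit 4, nat_lit 7, nat_lit 4, nat_lit 2, nat_lit 6, nat_lit 4, nat_lit 2]))) (.node (nat_lit 0x1ba04caa295d4a4)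 (.leaf ((nat_lit 1), [nat_lit 7, nat_lit 2, nat_lit 8, nat_lit 4, nat_lit 1, nat_lit 7, nat_lit 4, nat_lit 3, nat_lit 6, nat_lit 5, nat_lit 2, nat_lit 2, nat_lit 1])) (.node (nat_lit 0x1ba334d1bd21ac8) (.leaf ((nat_lit 0), [nat_lit 6, nat_lit 9, nat_lit 2, nat_lit 1, nat_lit 9, nat_lit 4, nat_lit 7, nat_lit 6, nat_lit 8, nat_lit 6, nat_lit 7, nat_lit 5, nat_lit 6, nat_lit 3, nat_lit 4, nat_lit 3])) (.leaf ((nat_lit 0), [nat_lit 2, nat_lit 7, nat_lit 9, nat_lit 5, nat_lit 9, nat_lit 6, nat_lit 2, nat_lit 8, nat_lit 0, nat_lit 7, nat_lit 2, nat_lit 2, nat_lit 6, nat_lit 2, nat_lit 4, nat_lit 2, nat_lit 1])))))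
 (.node (nat_lit 0x1bafad9d2a147d8) (.node (nat_lit 0x1ba7ed87f720108) (.leaf ((nat_lit 4), [nat_lit 6, nat_lit 9, nat_lit 2, nat_lit 1, nat_lit 9, nat_lit 6, nat_lit 8, nat_lit 1, nat_lit 8, nat_lit 6, nat_lit 3, nat_lit 4, nat_lit 7, nat_lit 4, nat_lit 6, nat_lit 1])) (.leaf ((nat_lit 1), [nat_lit 5, nat_lit 1, nat_lit 8, nat_lit 7, nat_lit 2, nat_lit 4, nat_lit 7, nat_lit 4, nat_lit 2, nat_lit 6, nat_lit 2, nat_lit 4, nat_lit 2]))) (.node (nat_lit 0x1bb32fe21c560f8) (.leaf ((nat_lit 1), [nat_lit 0, nat_lit 7, nat_lit 8, nat_lit 7, nat_lit 3, nat_lit 4, nat_lit 7, nat_lit 3, nat_lit 3, nat_lit 6, nat_lit 2])) (.node (nat_lit 0x1bbecf869179a8c) (.leaf ((nat_lit 1), [nat_lit 7, nat_lit 5, nat_lit 7, nat_lit 4, nat_lit 2, nat_lit 2, nat_lit 6, nat_lit 5, nat_lit 3, nat_lit 4])) (.leaf ((nat_lit 0), [nat_lit 2, nat_lit 7, nat_lit 9, nat_lit 5, nat_lit 9, nat_lit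 6, nat_lit 8, nat_lit 6, nat_lit 7, nat_lit 4, nat_lit 3, nat_lit 6, nat_lit 5, nat_lit 2, nat_lit 4, nat_lit 3, nat_lit 1]))))))
 (.node (nat_lit 0x1bd43e307c0b874) (.node (nat_lit 0x1bce306938b55c4) (.node (nat_lit 0x1bc6135fc51b1b8) (.leaf ((nat_lit 0), [nat_lit 6, nat_lit 9, nat_lit 2, nat_lit 1, nat_lit 9, nat_lit 1, nat_lit 7, nat_lit 5, nat_lit 8, nat_lit 5, nat_lit 6, nat_lit 7, nat_lit 3, nat_lit 6, nat_lit 4])) (.leaf ((nat_lit 1), [nat_lit 3, nat_lit 7, nat_lit 8, nat_lit 7, nat_lit 6, nat_lit 0]))) (.node (nat_lit 0x1bd03f2b0231e1c) (.leaf ((nat_lit 0), [nat_lit 6, nat_lit 9, nat_lit 2, nat_lit 1, nat_lit 9, nat_lit 7, nat_lit 8, nat_lit 1, nat_lit 8, nat_lit 7, nat_lit 1, nat_lit 7, nat_lit 5, nat_lit 3, nat_lit 6, nat_lit 4, nat_lit 0])) (.node (nat_lit 0x1bd326f7cbeb28c) (.leaf ((nat_lit 0), [nat_lit 0, nat_lit 7, nat_lit 0, nat_lit 9, nat_lit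 1, nat_lit 9, nat_lit 2, nat_lit 8, nat_lit 3, nat_lit 4, nat_lit 7, nat_lit 2, nat_lit 2, nat_lit 6, nat_lit 5, nat_lit 3, nat_lit 4])) (.leaf ((nat_lit 1), [nat_lit 8, nat_lit 2, nat_lit 6, nat_lit 8, nat_lit 7, nat_lit 2, nat_lit 4, nat_lit 7, nat_lit 4, nat_lit 3, nat_lit 3, nat_lit 6, nat_lit 2, nat_lit 4])))))
 (.node (nat_lit 0x1be341cf4b24dec) (.node (nat_lit 0x1bdd52823c998a4) (.leaf ((nat_lit 4), [nat_lit 2, nat_lit 7, nat_lit 9, nat_lit 5, nat_lit 9, nat_lit 5, nat_lit 7, nat_lit 8, nat_lit 5, nat_lit 6, nat_lit 5, nat_lit 3, nat_lit 6, nat_lit 5, nat_lit 2, nat_lit 4, nat_lit 1])) (.leaf ((nat_lit 1), [nat_lit 6, nat_lit 8, nat_lit 0, nat_lit 8, nat_lit 3, nat_lit 6, nat_lit 1, nat_lit 7, nat_lit 5, nat_lit 4, nat_lit 1]))) (.node (nat_lit 0x29db0f5e215b72c) (.leaf ((nat_lit 1), [nat_lit 7, nat_lit 5, nat_lit 0, nat_lit 8, nat_lit 5, nat_lit 4, nat_lit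 7, nat_lit 5, nat_lit 3, nat_lit 6, nat_lit 5, nat_lit 4, nat_lit 3, nat_lit 0])) (.node (nat_lit 0x29db6c585f5bfec) (.leaf ((nat_lit 6), [nat_lit 9, nat_lit 6, nat_lit 8, nat_lit 1, nat_lit 9, nat_lit 3, nat_lit 3, nat_lit 8, nat_lit 5, nat_lit 1, nat_lit 7, nat_lit 6, nat_lit 4, nat_lit 3, nat_lit 0])) (.leaf ((nat_lit 5), [nat_lit 8, nat_lit 2, nat_lit 1, nat_lit 8, nat_lit 3, nat_lit 6, nat_lit 7, nat_lit 5, nat_lit 6, nat_lit 5, nat_lit 2, nat_lit 0])))))))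
 (.node (nat_lit 0x29ef66be7855a18) (.node (nat_lit 0x29e2531ff9b9b6c) (.node (nat_lit 0x29de54437694eec) (.node (nat_lit 0x29dd3d49f4ea7ac) (.leaf ((nat_lit 6), [nat_lit 2, nat_lit 9, nat_lit 0, nat_lit 9, nat_lit 8, nat_lit 2, nat_lit 6, nat_lit 8, nat_lit 4, nat_lit 3, nat_lit 3, nat_lit 1])) (.leaf ((nat_lit 5), [nat_lit 6, nat_lit 1, nat_lit 8, nat_lit 6, nat_lit 5, nat_lit 7, nat_lit 3, nat_lit 6, nat_lit 5, nat_lit 2, nat_lit 0]))) (.node (nat_lit 0x29deb13e6c8faac) (.leaf ((nat_lit 6), [nat_lit 9, nat_lit 5, nat_lit 3, nat_lit 1, nat_lit 9, nat_lit 2, nat_lit 7, nat_lit 8, nat_lit 6, nat_lit 0, nat_lit 7, nat_lit 4, nat_lit 6, nat_lit 4, nat_lit 3, nat_lit 3, nat_lit 1])) (.node (nat_lit 0x29e0822dac310ac) (.leaf ((nat_lit 5), [nat_lit 2, nat_lit 7, nat_lit 5, nat_lit 8, nat_lit 3, nat_lit 4, nat_lit 7, nat_lit 3, nat_lit 4, nat_lit 6, nat_lit 4, nat_lit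 2, nat_lit 0])) (.leaf ((nat_lit 6), [nat_lit 0, nat_lit 9, nat_lit 3, nat_lit 5, nat_lit 9, nat_lit 3, nat_lit 8, nat_lit 6, nat_lit 1, nat_lit 8, nat_lit 6, nat_lit 7, nat_lit 2, nat_lit 4, nat_lit 6, nat_lit 5, nat_lit 3])))))
 (.node (nat_lit 0x29e9f3eeed80204) (.node (nat_lit 0x29e3c713016a86c) (.leaf ((nat_lit 6), [nat_lit 5, nat_lit 9, nat_lit 6, nat_lit 0, nat_lit 9, nat_lit 8, nat_lit 0, nat_lit 7, nat_lit 8, nat_lit 7, nat_lit 6, nat_lit 3, nat_lit 3, nat_lit 0])) (.leaf ((nat_lit 6), [nat_lit 8, nat_lit 7, nat_lit 9, nat_lit 2, nat_lit 1, nat_lit 9, nat_lit 6, nat_lit 5, nat_lit 6, nat_lit 7, nat_lit 2, nat_lit 6, nat_lit 5, nat_lit 0]))) (.node (nat_lit 0x29ebc4e13b08cc4) (.leaf ((nat_lit 6), [nat_lit 7, nat_lit 2, nat_lit 9, nat_lit 1, nat_lit 9, nat_lit 2, nat_lit 7, nat_lit 8, nat_lit 3, nat_lit 6, nat_lit 1, nat_lit 7, nat_lit 6, nat_lit 5, nat_lit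 3, nat_lit 3, nat_lit 3])) (.node (nat_lit 0x29ed38d442b99c4) (.leaf ((nat_lit 6), [nat_lit 5, nat_lit 9, nat_lit 6, nat_lit 4, nat_lit 9, nat_lit 6, nat_lit 3, nat_lit 8, nat_lit 6, nat_lit 5, nat_lit 7, nat_lit 5, nat_lit 0])) (.leaf ((nat_lit 6), [nat_lit 2, nat_lit 2, nat_lit 9, nat_lit 0, nat_lit 9, nat_lit 8, nat_lit 6, nat_lit 2, nat_lit 8, nat_lit 0, nat_lit 7, nat_lit 2, nat_lit 4, nat_lit 6, nat_lit 5, nat_lit 2, nat_lit 2]))))))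
 (.node (nat_lit 0x29fa4c63a9cf698) (.node (nat_lit 0x29f2aba3cd8f1d8) (.node (nat_lit 0x29f137b0c5de4d8) (.leaf ((nat_lit 5), [nat_lit 9, nat_lit 4, nat_lit 6, nat_lit 9, nat_lit 8, nat_lit 5, nat_lit 0, nat_lit 8, nat_lit 7, nat_lit 2, nat_lit 4, nat_lit 7, nat_lit 2, nat_lit 2, nat_lit 6])) (.leaf ((nat_lit 5), [nat_lit 3, nat_lit 7, nat_lit 0, nat_lit 8, nat_lit 4, nat_lit 1, nat_lit 7, nat_lit 6, nat_lit 2, nat_lit 4, nat_lit 6, nat_lit 4, nat_lit 3]))) (.node (nat_lit 0x29f87b721440ed8) (.leaf ((nat_lit 5), [nat_lit 3, nat_lit 6, nat_lit 2, nat_lit 1, nat_lit 8, nat_lit 5, nat_lit 7, nat_lit 5, nat_lit 1, nat_lit 7, nat_lit 2, nat_lit 6, nat_lit 5, nat_lit 4, nat_lit 2, nat_lit 1])) (.node (nat_lit 0x29f8d86a5851758) (.leaf ((nat_lit 4), [nat_lit 7, nat_lit 5, nat_lit 6, nat_lit 8, nat_lit 6, nat_lit 5, nat_lit 0, nat_lit 7, nat_lit 6, nat_lit 5, nat_lit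 6, nat_lit 0])) (.leaf ((nat_lit 5), [nat_lit 8, nat_lit 5, nat_lit 1, nat_lit 8, nat_lit 6, nat_lit 0, nat_lit 7, nat_lit 4, nat_lit 2, nat_lit 6, nat_lit 3, nat_lit 4, nat_lit 0])))))
 (.node (nat_lit 0x29fbc0582174998) (.node (nat_lit 0x29faa95ca5da218) (.leaf ((nat_lit 4), [nat_lit 2, nat_lit 5, nat_lit 8, nat_lit 4, nat_lit 3, nat_lit 3, nat_lit 6, nat_lit 2, nat_lit 4, nat_lit 2, nat_lit 1])) (.leaf ((nat_lit 5), [nat_lit 3, nat_lit 4, nat_lit 9, nat_lit 5, nat_lit 9, nat_lit 3, nat_lit 6, nat_lit 3, nat_lit 8, nat_lit 7, nat_lit 3, nat_lit 6, nat_lit 2, nat_lit 2, nat_lit 0]))) (.node (nat_lit 0x29fc1d4fad8af18) (.leaf ((nat_lit 4), [nat_lit 3, nat_lit 7, nat_lit 0, nat_lit 8, nat_lit 6, nat_lit 5, nat_lit 6, nat_lit 7, nat_lit 4, nat_lit 6, nat_lit 5, nat_lit 0])) (.node (nat_lit 0x29fd9149b7032c4) (.leaf ((nat_lit 5), [nat_lit 0, nat_lit 9, nat_lit 5,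 nat_lit 3, nat_lit 9, nat_lit 1, nat_lit 8, nat_lit 5, nat_lit 7, nat_lit 2, nat_lit 6, nat_lit 4])) (.leaf ((nat_lit 4), [nat_lit 3, nat_lit 7, nat_lit 8, nat_lit 4, nat_lit 1, nat_lit 7, nat_lit 2, nat_lit 4, nat_lit 6, nat_lit 4, nat_lit 3, nat_lit 3]))))))))
 (.node (nat_lit 0x2a1018d67f894f4) (.node (nat_lit 0x2a0cd3e9428c07c) (.node (nat_lit 0x2a075fd2ba8c83c) (.node (nat_lit 0x29ffbf2f12c6844) (.node (nat_lit 0x29ff623b4c91a84) (.leaf ((nat_lit 4), [nat_lit 4, nat_lit 0, nat_lit 7, nat_lit 8, nat_lit 6, nat_lit 5, nat_lit 7, nat_lit 6, nat_lit 3, nat_lit 3, nat_lit 6, nat_lit 2, nat_lit 2])) (.leaf ((nat_lit 4), [nat_lit 2, nat_lit 7, nat_lit 5, nat_lit 8, nat_lit 0, nat_lit 7, nat_lit 4, nat_lit 2, nat_lit 2, nat_lit 6, nat_lit 2]))) (.node (nat_lit 0x2a00d62fc436d84) (.leaf ((nat_lit 4), [nat_lit 3, nat_lit 6, nat_lit 1, nat_lit 7, nat_lit 6, nat_lit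 5, nat_lit 6, nat_lit 5, nat_lit 2, nat_lit 2, nat_lit 1])) (.node (nat_lit 0x2a0133221a77544) (.leaf ((nat_lit 4), [nat_lit 0, nat_lit 8, nat_lit 7, nat_lit 5, nat_lit 1, nat_lit 7, nat_lit 4, nat_lit 6, nat_lit 3, nat_lit 4, nat_lit 1])) (.leaf ((nat_lit 4), [nat_lit 5, nat_lit 0, nat_lit 8, nat_lit 6, nat_lit 5, nat_lit 1, nat_lit 7, nat_lit 6, nat_lit 5, nat_lit 1])))))
 (.node (nat_lit 0x2a08d3c7ea2be3c) (.node (nat_lit 0x2a07bcb73b3ce3c) (.leaf ((nat_lit 6), [nat_lit 9, nat_lit 0, nat_lit 7, nat_lit 2, nat_lit 9, nat_lit 3, nat_lit 8, nat_lit 5, nat_lit 6, nat_lit 7, nat_lit 3, nat_lit 4, nat_lit 6, nat_lit 3, nat_lit 4, nat_lit 3])) (.leaf ((nat_lit 5), [nat_lit 5, nat_lit 6, nat_lit 8, nat_lit 6, nat_lit 3, nat_lit 4, nat_lit 7, nat_lit 2, nat_lit 6, nat_lit 4, nat_lit 3, nat_lit 3]))) (.node (nat_lit 0x2a0a47a3689b0fc) (.leaf ((nat_lit 6), [nat_lit 5,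 nat_lit 9, nat_lit 6, nat_lit 3, nat_lit 9, nat_lit 8, nat_lit 2, nat_lit 5, nat_lit 8, nat_lit 5, nat_lit 0, nat_lit 7, nat_lit 4, nat_lit 2, nat_lit 6, nat_lit 5])) (.node (nat_lit 0x2a0aa4b7b3c8e7c) (.leaf ((nat_lit 4), [nat_lit 8, nat_lit 5, nat_lit 2, nat_lit 8, nat_lit 6, nat_lit 0, nat_lit 7, nat_lit 6, nat_lit 5, nat_lit 2, nat_lit 4, nat_lit 3, nat_lit 1])) (.leaf ((nat_lit 5), [nat_lit 6, nat_lit 7, nat_lit 2, nat_lit 1, nat_lit 8, nat_lit 6, nat_lit 5, nat_lit 6, nat_lit 7, nat_lit 4, nat_lit 3, nat_lit 3, nat_lit 6]))))))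
 (.node (nat_lit 0x2a0ea4d5464b620) (.node (nat_lit 0x2a0cd3f940126f0) (.node (nat_lit 0x2a0cd3f1864ceb4) (.leaf ((nat_lit 6), [nat_lit 9, nat_lit 3, nat_lit 5, nat_lit 9, nat_lit 4, nat_lit 0, nat_lit 7, nat_lit 8, nat_lit 7, nat_lit 0, nat_lit 7, nat_lit 4, nat_lit 6, nat_lit 4])) (.leaf ((nat_lit 1), [nat_lit 1, nat_lit 9, nat_lit 5, nat_lit 9, nat_lit 6, nat_lit 1, nat_lit 7, nat_lit 4, nat_lit 3, nat_lit 6, nat_lit 5, nat_lit 3, nat_lit 0]))) (.node (nat_lit 0x2a0ea4c7ccb48bc) (.leaf ((nat_lit 1), [nat_lit 1, nat_lit 9, nat_lit 5, nat_lit 9, nat_lit 7, nat_lit 8, nat_lit 0, nat_lit 8, nat_lit 5, nat_lit 7, nat_lit 5, nat_lit 0, nat_lit 7, nat_lit 4, nat_lit 3, nat_lit 6, nat_lit 4])) (.node (nat_lit 0x2a0ea4cfb47c6dc) (.leaf ((nat_lit 4), [nat_lit 3, nat_lit 1, nat_lit 8, nat_lit 7, nat_lit 3, nat_lit 4, nat_lit 7, nat_lit 6, nat_lit 2, nat_lit 4, nat_lit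 6, nat_lit 5, nat_lit 3, nat_lit 1])) (.leaf ((nat_lit 1), [nat_lit 1, nat_lit 9, nat_lit 5, nat_lit 9, nat_lit 7, nat_lit 0, nat_lit 7, nat_lit 6, nat_lit 5, nat_lit 6, nat_lit 2, nat_lit 4, nat_lit 3, nat_lit 0])))))
 (.node (nat_lit 0x2a0f01de11d6234) (.node (nat_lit 0x2a0f01d87fff73c) (.leaf ((nat_lit 1), [nat_lit 4, nat_lit 1, nat_lit 9, nat_lit 5, nat_lit 9, nat_lit 7, nat_lit 0, nat_lit 8, nat_lit 1, nat_lit 7, nat_lit 4, nat_lit 6, nat_lit 3, nat_lit 4, nat_lit 3, nat_lit 0])) (.leaf ((nat_lit 4), [nat_lit 3, nat_lit 6, nat_lit 3, nat_lit 8, nat_lit 6, nat_lit 1, nat_lit 7, nat_lit 3, nat_lit 3, nat_lit 3, nat_lit 1]))) (.node (nat_lit 0x2a0f01e62798bf0) (.leaf ((nat_lit 0), [nat_lit 2, nat_lit 8, nat_lit 6, nat_lit 3, nat_lit 4, nat_lit 7, nat_lit 4, nat_lit 3, nat_lit 3, nat_lit 6, nat_lit 1])) (.node (nat_lit 0x2a1018ce69c6f7c) (.leaf ((nat_lit 0),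 [nat_lit 2, nat_lit 8, nat_lit 6, nat_lit 3, nat_lit 4, nat_lit 7, nat_lit 5, nat_lit 6, nat_lit 3, nat_lit 3, nat_lit 3])) (.leaf ((nat_lit 5), [nat_lit 4, nat_lit 8, nat_lit 1, nat_lit 8, nat_lit 7, nat_lit 2, nat_lit 4, nat_lit 3, nat_lit 6, nat_lit 5, nat_lit 2, nat_lit 4, nat_lit 2, nat_lit 0])))))))
 (.node (nat_lit 0x2a1d2c5f6ed36c8) (.node (nat_lit 0x2a198948dbeaad4) (.node (nat_lit 0x2a16446386b1314) (.node (nat_lit 0x2a1018dc1160430) (.leaf ((nat_lit 3), [nat_lit 6, nat_lit 9, nat_lit 5, nat_lit 9, nat_lit 2, nat_lit 8, nat_lit 7, nat_lit 4, nat_lit 3, nat_lit 6, nat_lit 5, nat_lit 4, nat_lit 2, nat_lit 2, nat_lit 0])) (.leaf ((nat_lit 2), [nat_lit 9, nat_lit 7, nat_lit 5, nat_lit 0, nat_lit 9, nat_lit 7, nat_lit 5, nat_lit 8, nat_lit 0, nat_lit 8, nat_lit 6, nat_lit 3, nat_lit 4, nat_lit 6, nat_lit 5, nat_lit 2, nat_lit 2, nat_lit 0]))) (.node (nat_lit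 0x2a17b838bb53394) (.leaf ((nat_lit 6), [nat_lit 9, nat_lit 6, nat_lit 8, nat_lit 1, nat_lit 9, nat_lit 4, nat_lit 6, nat_lit 8, nat_lit 4, nat_lit 1, nat_lit 7, nat_lit 2, nat_lit 6, nat_lit 5, nat_lit 2, nat_lit 2, nat_lit 0])) (.node (nat_lit 0x2a1815560238694) (.leaf ((nat_lit 4), [nat_lit 2, nat_lit 6, nat_lit 8, nat_lit 1, nat_lit 7, nat_lit 2, nat_lit 2, nat_lit 6, nat_lit 2])) (.leaf ((nat_lit 5), [nat_lit 4, nat_lit 6, nat_lit 8, nat_lit 5, nat_lit 7, nat_lit 5, nat_lit 1, nat_lit 7, nat_lit 5, nat_lit 3, nat_lit 6, nat_lit 5, nat_lit 2, nat_lit 4, nat_lit 3])))))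
 (.node (nat_lit 0x2a1bb86c67229c8) (.node (nat_lit 0x2a19e62712cde94) (.leaf ((nat_lit 6), [nat_lit 3, nat_lit 9, nat_lit 1, nat_lit 9, nat_lit 7, nat_lit 5, nat_lit 0, nat_lit 8, nat_lit 5, nat_lit 0, nat_lit 7, nat_lit 6, nat_lit 2, nat_lit 2, nat_lit 6, nat_lit 4])) (.leaf ((nat_lit 5), [nat_lit 6, nat_lit 1, nat_lit 8, nat_lit 4, nat_lit 7, nat_lit 2, nat_lit 6, nat_lit 3, nat_lit 4, nat_lit 3, nat_lit 0]))) (.node (nat_lit 0x2a1bb8747ce565c) (.leaf ((nat_lit 3), [nat_lit 6, nat_lit 9, nat_lit 5, nat_lit 9, nat_lit 3, nat_lit 1, nat_lit 8, nat_lit 5, nat_lit 4, nat_lit 7, nat_lit 3, nat_lit 4, nat_lit 6, nat_lit 5, nat_lit 2])) (.node (nat_lit 0x2a1bb87a0eb09e8) (.leaf ((nat_lit 2), [nat_lit 6, nat_lit 7, nat_lit 1, nat_lit 8, nat_lit 4, nat_lit 0, nat_lit 7, nat_lit 2, nat_lit 2, nat_lit 6, nat_lit 2, nat_lit 4, nat_lit 2])) (.leaf ((nat_lit 5), [nat_lit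 5, nat_lit 6, nat_lit 8, nat_lit 2, nat_lit 4, nat_lit 7, nat_lit 5, nat_lit 3, nat_lit 6, nat_lit 5, nat_lit 2, nat_lit 2, nat_lit 1]))))))
 (.node (nat_lit 0x2a1ea04e82a8344) (.node (nat_lit 0x2a1d2c6f6c4e8a8) (.node (nat_lit 0x2a1d2c67b294c1c) (.leaf ((nat_lit 1), [nat_lit 1, nat_lit 9, nat_lit 5, nat_lit 9, nat_lit 7, nat_lit 8, nat_lit 7, nat_lit 3, nat_lit 4, nat_lit 7, nat_lit 4, nat_lit 3, nat_lit 6, nat_lit 4, nat_lit 3, nat_lit 3, nat_lit 0])) (.leaf ((nat_lit 1), [nat_lit 4, nat_lit 1, nat_lit 9, nat_lit 5, nat_lit 9, nat_lit 5, nat_lit 7, nat_lit 5, nat_lit 1, nat_lit 7, nat_lit 6, nat_lit 5, nat_lit 2, nat_lit 4, nat_lit 2]))) (.node (nat_lit 0x2a1ea0410911474) (.leaf ((nat_lit 6), [nat_lit 4, nat_lit 9, nat_lit 1, nat_lit 9, nat_lit 8, nat_lit 1, nat_lit 8, nat_lit 6, nat_lit 0, nat_lit 7, nat_lit 3, nat_lit 6, nat_lit 3, nat_lit 3, nat_lit 3, nat_lit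 0])) (.node (nat_lit 0x2a1ea048f0cdb28) (.leaf ((nat_lit 1), [nat_lit 6, nat_lit 9, nat_lit 5, nat_lit 9, nat_lit 8, nat_lit 5, nat_lit 7, nat_lit 8, nat_lit 5, nat_lit 1, nat_lit 7, nat_lit 6, nat_lit 2, nat_lit 2, nat_lit 6, nat_lit 3])) (.leaf ((nat_lit 4), [nat_lit 4, nat_lit 8, nat_lit 1, nat_lit 8, nat_lit 6, nat_lit 5, nat_lit 7, nat_lit 4, nat_lit 6, nat_lit 5, nat_lit 4, nat_lit 2])))))
 (.node (nat_lit 0x2a1efd574e3339c) (.node (nat_lit 0x2a1efd51bc5c188) (.leaf ((nat_lit 1), [nat_lit 1, nat_lit 9, nat_lit 5, nat_lit 9, nat_lit 7, nat_lit 5, nat_lit 8, nat_lit 3, nat_lit 6, nat_lit 7, nat_lit 4, nat_lit 6])) (.leaf ((nat_lit 0), [nat_lit 1, nat_lit 8, nat_lit 1, nat_lit 8, nat_lit 5, nat_lit 0, nat_lit 7, nat_lit 6, nat_lit 5, nat_lit 1]))) (.node (nat_lit 0x2a1efd5f63ea1a8) (.leaf ((nat_lit 0), [nat_lit 2, nat_lit 8, nat_lit 3, nat_lit 4, nat_lit 3,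 nat_lit 3, nat_lit 6, nat_lit 5, nat_lit 4, nat_lit 2, nat_lit 0])) (.node (nat_lit 0x2a24cbd0f021d28) (.leaf ((nat_lit 4), [nat_lit 5, nat_lit 0, nat_lit 8, nat_lit 2, nat_lit 6, nat_lit 4, nat_lit 3, nat_lit 3, nat_lit 1])) (.leaf ((nat_lit 4), [nat_lit 8, nat_lit 7, nat_lit 1, nat_lit 8, nat_lit 1, nat_lit 7, nat_lit 4, nat_lit 6, nat_lit 4, nat_lit 2, nat_lit 0])))))))))
 (.node (nat_lit 0x2a440a14a806e94) (.node (nat_lit 0x2a33b1a99f6c888) (.node (nat_lit 0x2a2c10e2936a5c4) (.node (nat_lit 0x2a29e2e9fe3e808) (.node (nat_lit 0x2a269cc229b3368) (.node (nat_lit 0x2a263fd75f35b28) (.leaf ((nat_lit 5), [nat_lit 3, nat_lit 7, nat_lit 0, nat_lit 8, nat_lit 6, nat_lit 5, nat_lit 6, nat_lit 7, nat_lit 6, nat_lit 3, nat_lit 4, nat_lit 6, nat_lit 5, nat_lit 1])) (.leaf ((nat_lit 6), [nat_lit 9, nat_lit 5, nat_lit 9, nat_lit 3, nat_lit 1, nat_lit 8, nat_lit 3, nat_lit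 6, nat_lit 1, nat_lit 7, nat_lit 2, nat_lit 6, nat_lit 5, nat_lit 3, nat_lit 4, nat_lit 0]))) (.node (nat_lit 0x2a286dc418bd768) (.leaf ((nat_lit 5), [nat_lit 0, nat_lit 9, nat_lit 0, nat_lit 9, nat_lit 5, nat_lit 1, nat_lit 8, nat_lit 1, nat_lit 7, nat_lit 3, nat_lit 4, nat_lit 0])) (.node (nat_lit 0x2a29e2e21682870) (.leaf ((nat_lit 6), [nat_lit 3, nat_lit 9, nat_lit 0, nat_lit 9, nat_lit 1, nat_lit 7, nat_lit 8, nat_lit 4, nat_lit 7, nat_lit 4, nat_lit 2, nat_lit 2, nat_lit 6])) (.leaf ((nat_lit 1), [nat_lit 6, nat_lit 9, nat_lit 5, nat_lit 9, nat_lit 8, nat_lit 4, nat_lit 7, nat_lit 6, nat_lit 5, nat_lit 6, nat_lit 3, nat_lit 4, nat_lit 3, nat_lit 0])))))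
 (.node (nat_lit 0x2a2a3ff2c9cd584) (.node (nat_lit 0x2a29e2ef900dfd4) (.leaf ((nat_lit 1), [nat_lit 6, nat_lit 9, nat_lit 5, nat_lit 9, nat_lit 5, nat_lit 8, nat_lit 7, nat_lit 0, nat_lit 7, nat_lit 6, nat_lit 5, nat_lit 3, nat_lit 6, nat_lit 5, nat_lit 3, nat_lit 3, nat_lit 1])) (.leaf ((nat_lit 4), [nat_lit 6, nat_lit 0, nat_lit 8, nat_lit 3, nat_lit 6, nat_lit 7, nat_lit 3, nat_lit 3, nat_lit 3, nat_lit 6, nat_lit 5, nat_lit 3, nat_lit 3]))) (.node (nat_lit 0x2a2a3ff85b98d54) (.leaf ((nat_lit 0), [nat_lit 7, nat_lit 5, nat_lit 0, nat_lit 8, nat_lit 1, nat_lit 7, nat_lit 2, nat_lit 6, nat_lit 2, nat_lit 4, nat_lit 0])) (.node (nat_lit 0x2a2a4000715b160) (.leaf ((nat_lit 4), [nat_lit 8, nat_lit 0, nat_lit 7, nat_lit 8, nat_lit 7, nat_lit 1, nat_lit 7, nat_lit 3, nat_lit 4, nat_lit 6, nat_lit 3, nat_lit 0])) (.leaf ((nat_lit 0), [nat_lit 2, nat_lit 8, nat_lit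 0, nat_lit 7, nat_lit 6, nat_lit 4, nat_lit 3, nat_lit 3, nat_lit 3, nat_lit 0]))))))
 (.node (nat_lit 0x2a2d84e59896060) (.node (nat_lit 0x2a2c10f03af81a0) (.node (nat_lit 0x2a2c10eaa921814) (.leaf ((nat_lit 2), [nat_lit 7, nat_lit 8, nat_lit 7, nat_lit 1, nat_lit 8, nat_lit 3, nat_lit 6, nat_lit 1, nat_lit 7, nat_lit 6, nat_lit 4, nat_lit 2])) (.leaf ((nat_lit 5), [nat_lit 2, nat_lit 7, nat_lit 8, nat_lit 0, nat_lit 7, nat_lit 6, nat_lit 3, nat_lit 4, nat_lit 6, nat_lit 3, nat_lit 3]))) (.node (nat_lit 0x2a2d84d59b1b2c4) (.leaf ((nat_lit 3), [nat_lit 6, nat_lit 9, nat_lit 5, nat_lit 9, nat_lit 2, nat_lit 6, nat_lit 1, nat_lit 8, nat_lit 7, nat_lit 5, nat_lit 2, nat_lit 4, nat_lit 3])) (.node (nat_lit 0x2a2d84ddded0dd4) (.leaf ((nat_lit 1), [nat_lit 4, nat_lit 1, nat_lit 9, nat_lit 5, nat_lit 9, nat_lit 7, nat_lit 6, nat_lit 8, nat_lit 6, nat_lit 3, nat_lit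 4, nat_lit 7, nat_lit 5, nat_lit 3, nat_lit 6, nat_lit 4, nat_lit 3, nat_lit 3])) (.leaf ((nat_lit 6), [nat_lit 1, nat_lit 9, nat_lit 1, nat_lit 9, nat_lit 4, nat_lit 7, nat_lit 8, nat_lit 4, nat_lit 0, nat_lit 7, nat_lit 6, nat_lit 4, nat_lit 2, nat_lit 6])))))
 (.node (nat_lit 0x2a335499762171c) (.node (nat_lit 0x2a335491605b03c) (.leaf ((nat_lit 1), [nat_lit 1, nat_lit 9, nat_lit 5, nat_lit 9, nat_lit 7, nat_lit 0, nat_lit 8, nat_lit 5, nat_lit 0, nat_lit 7, nat_lit 3, nat_lit 3, nat_lit 6, nat_lit 2])) (.leaf ((nat_lit 6), [nat_lit 9, nat_lit 6, nat_lit 4, nat_lit 9, nat_lit 5, nat_lit 7, nat_lit 6, nat_lit 8, nat_lit 6, nat_lit 7, nat_lit 3, nat_lit 3, nat_lit 3, nat_lit 6, nat_lit 5, nat_lit 2]))) (.node (nat_lit 0x2a3354a18bdc0e0) (.leaf ((nat_lit 2), [nat_lit 6, nat_lit 8, nat_lit 5, nat_lit 7, nat_lit 5, nat_lit 7, nat_lit 4, nat_lit 2, nat_lit 6, nat_lit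 3, nat_lit 4, nat_lit 3, nat_lit 0])) (.node (nat_lit 0x2a33b1a15babbbc) (.leaf ((nat_lit 3), [nat_lit 1, nat_lit 9, nat_lit 5, nat_lit 9, nat_lit 6, nat_lit 5, nat_lit 2, nat_lit 8, nat_lit 7, nat_lit 1, nat_lit 7, nat_lit 2, nat_lit 6, nat_lit 5, nat_lit 0])) (.leaf ((nat_lit 5), [nat_lit 0, nat_lit 7, nat_lit 8, nat_lit 6, nat_lit 7, nat_lit 3, nat_lit 3, nat_lit 3, nat_lit 6, nat_lit 4, nat_lit 2, nat_lit 1])))))))
 (.node (nat_lit 0x2a36f6811f15e88) (.node (nat_lit 0x2a3582809dce6fc) (.node (nat_lit 0x2a3525962f4e03c) (.node (nat_lit 0x2a33b1b159320c4) (.leaf ((nat_lit 0), [nat_lit 0, nat_lit 8, nat_lit 6, nat_lit 3, nat_lit 8, nat_lit 4, nat_lit 6, nat_lit 5, nat_lit 4, nat_lit 2])) (.leaf ((nat_lit 0), [nat_lit 8, nat_lit 7, nat_lit 1, nat_lit 8, nat_lit 7, nat_lit 5, nat_lit 4, nat_lit 2]))) (.node (nat_lit 0x2a35259e4510448) (.leaf ((nat_lit 4), [nat_lit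 3, nat_lit 8, nat_lit 7, nat_lit 1, nat_lit 7, nat_lit 6, nat_lit 4, nat_lit 3, nat_lit 6, nat_lit 0])) (.node (nat_lit 0x2a3525a3d6e7384) (.leaf ((nat_lit 1), [nat_lit 6, nat_lit 9, nat_lit 5, nat_lit 9, nat_lit 8, nat_lit 7, nat_lit 8, nat_lit 5, nat_lit 8, nat_lit 5, nat_lit 4, nat_lit 7, nat_lit 3, nat_lit 6, nat_lit 2])) (.leaf ((nat_lit 1), [nat_lit 6, nat_lit 9, nat_lit 5, nat_lit 9, nat_lit 5, nat_lit 8, nat_lit 3, nat_lit 6, nat_lit 1, nat_lit 7, nat_lit 4, nat_lit 6, nat_lit 2, nat_lit 4, nat_lit 1])))))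
 (.node (nat_lit 0x2a35828e73625e0) (.node (nat_lit 0x2a3582865da7c1c) (.leaf ((nat_lit 5), [nat_lit 9, nat_lit 2, nat_lit 7, nat_lit 9, nat_lit 5, nat_lit 8, nat_lit 1, nat_lit 8, nat_lit 6, nat_lit 5, nat_lit 7, nat_lit 6, nat_lit 5, nat_lit 3, nat_lit 6, nat_lit 3])) (.leaf ((nat_lit 0), [nat_lit 8, nat_lit 5, nat_lit 1, nat_lit 7, nat_lit 4, nat_lit 2, nat_lit 2, nat_lit 6, nat_lit 3]))) (.node (nat_lit 0x2a36f673a57f3fc) (.leaf ((nat_lit 0), [nat_lit 1, nat_lit 8, nat_lit 1, nat_lit 8, nat_lit 1, nat_lit 7, nat_lit 2, nat_lit 2, nat_lit 6, nat_lit 0])) (.node (nat_lit 0x2a36f67b8d46f44) (.leaf ((nat_lit 6), [nat_lit 9, nat_lit 2, nat_lit 7, nat_lit 9, nat_lit 0, nat_lit 8, nat_lit 3, nat_lit 6, nat_lit 7, nat_lit 4, nat_lit 3, nat_lit 6, nat_lit 5, nat_lit 3, nat_lit 4, nat_lit 3])) (.leaf ((nat_lit 2), [nat_lit 2, nat_lit 9, nat_lit 3, nat_lit 5, nat_lit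 9, nat_lit 5, nat_lit 7, nat_lit 5, nat_lit 8, nat_lit 5, nat_lit 7, nat_lit 5, nat_lit 3, nat_lit 4, nat_lit 3]))))))
 (.node (nat_lit 0x2a423914b2f451c) (.node (nat_lit 0x2a39dd11ffbcc3c) (.node (nat_lit 0x2a38c619ee06afc) (.leaf ((nat_lit 3), [nat_lit 4, nat_lit 1, nat_lit 9, nat_lit 5, nat_lit 9, nat_lit 2, nat_lit 6, nat_lit 0, nat_lit 8, nat_lit 5, nat_lit 7, nat_lit 6, nat_lit 3, nat_lit 3, nat_lit 6, nat_lit 5, nat_lit 4, nat_lit 3])) (.leaf ((nat_lit 6), [nat_lit 9, nat_lit 6, nat_lit 8, nat_lit 1, nat_lit 9, nat_lit 6, nat_lit 1, nat_lit 8, nat_lit 3, nat_lit 4, nat_lit 7, nat_lit 3, nat_lit 4, nat_lit 6, nat_lit 2, nat_lit 4]))) (.node (nat_lit 0x2a3bae1b4c8b6fc) (.leaf ((nat_lit 5), [nat_lit 8, nat_lit 7, nat_lit 5, nat_lit 7, nat_lit 3, nat_lit 3, nat_lit 3, nat_lit 6, nat_lit 5, nat_lit 2, nat_lit 1])) (.node (nat_lit 0x2a3c0afee74313c) (.leaf ((nat_lit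 4), [nat_lit 6, nat_lit 8, nat_lit 5, nat_lit 1, nat_lit 7, nat_lit 4, nat_lit 2, nat_lit 6, nat_lit 2, nat_lit 0])) (.leaf ((nat_lit 4), [nat_lit 6, nat_lit 3, nat_lit 8, nat_lit 0, nat_lit 7, nat_lit 3, nat_lit 6, nat_lit 5])))))
 (.node (nat_lit 0x2a4239222c7fb14) (.node (nat_lit 0x2a42391c9ab04b4) (.leaf ((nat_lit 2), [nat_lit 6, nat_lit 9, nat_lit 5, nat_lit 3, nat_lit 1, nat_lit 9, nat_lit 6, nat_lit 8, nat_lit 0, nat_lit 7, nat_lit 3, nat_lit 3, nat_lit 6, nat_lit 5, nat_lit 2, nat_lit 2, nat_lit 1])) (.leaf ((nat_lit 3), [nat_lit 4, nat_lit 1, nat_lit 9, nat_lit 5, nat_lit 9, nat_lit 7, nat_lit 6, nat_lit 8, nat_lit 7, nat_lit 5, nat_lit 7, nat_lit 3, nat_lit 3, nat_lit 6, nat_lit 5]))) (.node (nat_lit 0x2a440a047c913f0) (.leaf ((nat_lit 6), [nat_lit 4, nat_lit 9, nat_lit 3, nat_lit 5, nat_lit 9, nat_lit 7, nat_lit 8, nat_lit 0, nat_lit 8, nat_lit 2,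 nat_lit 4, nat_lit 7, nat_lit 4, nat_lit 2])) (.node (nat_lit 0x2a440a0c924bc48) (.leaf ((nat_lit 2), [nat_lit 6, nat_lit 9, nat_lit 2, nat_lit 1, nat_lit 9, nat_lit 3, nat_lit 6, nat_lit 2, nat_lit 1, nat_lit 8, nat_lit 7, nat_lit 4, nat_lit 3, nat_lit 6, nat_lit 5, nat_lit 4, nat_lit 2, nat_lit 1])) (.leaf ((nat_lit 3), [nat_lit 1, nat_lit 9, nat_lit 5, nat_lit 9, nat_lit 4, nat_lit 7, nat_lit 6, nat_lit 3, nat_lit 3, nat_lit 6, nat_lit 5, nat_lit 4, nat_lit 3]))))))))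
 (.node (nat_lit 0x2a52918adf34120) (.node (nat_lit 0x2a47aaaaba2b468) (.node (nat_lit 0x2a457e1471508d4) (.node (nat_lit 0x2a44671cbb97914) (.node (nat_lit 0x2a44671477e20dc) (.leaf ((nat_lit 6), [nat_lit 8, nat_lit 6, nat_lit 9, nat_lit 1, nat_lit 9, nat_lit 5, nat_lit 8, nat_lit 2, nat_lit 1, nat_lit 8, nat_lit 5, nat_lit 4, nat_lit 3, nat_lit 3, nat_lit 3])) (.leaf ((nat_lit 0), [nat_lit 5, nat_lit 2, nat_lit 8, nat_lit 5, nat_lit 6, nat_lit 7, nat_lit 5, nat_lit 6, nat_lit 5, nat_lit 4, nat_lit 3, nat_lit 0]))) (.node (nat_lit 0x2a446724755ca34) (.leaf ((nat_lit 5), [nat_lit 9, nat_lit 1, nat_lit 9, nat_lit 7, nat_lit 6, nat_lit 8, nat_lit 4, nat_lit 0, nat_lit 7, nat_lit 6, nat_lit 5, nat_lit 2, nat_lit 4, nat_lit 0])) (.node (nat_lit 0x2a457e0c5b9995c) (.leaf ((nat_lit 0), [nat_lit 8, nat_lit 7, nat_lit 1, nat_lit 8, nat_lit 4, nat_lit 7, nat_lit 2, nat_lit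 4, nat_lit 6, nat_lit 2, nat_lit 4])) (.leaf ((nat_lit 1), [nat_lit 6, nat_lit 9, nat_lit 5, nat_lit 9, nat_lit 8, nat_lit 4, nat_lit 6, nat_lit 8, nat_lit 3, nat_lit 4, nat_lit 7, nat_lit 6, nat_lit 5, nat_lit 6, nat_lit 5, nat_lit 3])))))
 (.node (nat_lit 0x2a45daf6ca19eb0) (.node (nat_lit 0x2a457e1a03270f4) (.leaf ((nat_lit 4), [nat_lit 2, nat_lit 1, nat_lit 8, nat_lit 0, nat_lit 7, nat_lit 6, nat_lit 5, nat_lit 2, nat_lit 4, nat_lit 2, nat_lit 1])) (.leaf ((nat_lit 1), [nat_lit 1, nat_lit 9, nat_lit 5, nat_lit 9, nat_lit 7, nat_lit 5, nat_lit 8, nat_lit 7, nat_lit 4, nat_lit 3, nat_lit 6, nat_lit 4, nat_lit 2, nat_lit 0]))) (.node (nat_lit 0x2a45dafc89e7548) (.leaf ((nat_lit 0), [nat_lit 2, nat_lit 8, nat_lit 6, nat_lit 7, nat_lit 2, nat_lit 2, nat_lit 6, nat_lit 5, nat_lit 3, nat_lit 4, nat_lit 3, nat_lit 1])) (.node (nat_lit 0x2a45db049fa2794) (.leaf ((nat_lit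 0), [nat_lit 2, nat_lit 6, nat_lit 2, nat_lit 8, nat_lit 2, nat_lit 4, nat_lit 3, nat_lit 6, nat_lit 5, nat_lit 4, nat_lit 0])) (.leaf ((nat_lit 5), [nat_lit 6, nat_lit 7, nat_lit 2, nat_lit 1, nat_lit 8, nat_lit 5, nat_lit 0, nat_lit 7, nat_lit 6, nat_lit 4, nat_lit 3, nat_lit 6, nat_lit 5]))))))
 (.node (nat_lit 0x2a50c0b57ec55b0) (.node (nat_lit 0x2a497b9d35b27e8) (.node (nat_lit 0x2a491eb09f43828) (.leaf ((nat_lit 5), [nat_lit 9, nat_lit 2, nat_lit 1, nat_lit 9, nat_lit 4, nat_lit 6, nat_lit 8, nat_lit 2, nat_lit 4, nat_lit 7, nat_lit 6, nat_lit 5, nat_lit 3, nat_lit 6])) (.leaf ((nat_lit 4), [nat_lit 0, nat_lit 8, nat_lit 4, nat_lit 1, nat_lit 7, nat_lit 4, nat_lit 2, nat_lit 6, nat_lit 2, nat_lit 0]))) (.node (nat_lit 0x2a4aef900f64c28) (.leaf ((nat_lit 4), [nat_lit 0, nat_lit 8, nat_lit 6, nat_lit 1, nat_lit 8, nat_lit 7, nat_lit 3, nat_lit 4, nat_lit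 6, nat_lit 4, nat_lit 3, nat_lit 1])) (.node (nat_lit 0x2a50c0ad6902d60) (.leaf ((nat_lit 6), [nat_lit 8, nat_lit 1, nat_lit 9, nat_lit 0, nat_lit 9, nat_lit 5, nat_lit 8, nat_lit 2, nat_lit 1, nat_lit 8, nat_lit 6, nat_lit 5, nat_lit 6, nat_lit 5, nat_lit 4, nat_lit 3])) (.leaf ((nat_lit 1), [nat_lit 6, nat_lit 9, nat_lit 5, nat_lit 9, nat_lit 5, nat_lit 8, nat_lit 7, nat_lit 5, nat_lit 1, nat_lit 7, nat_lit 4, nat_lit 6, nat_lit 3, nat_lit 3, nat_lit 1])))))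
 (.node (nat_lit 0x2a511d97d7832b4) (.node (nat_lit 0x2a50c0bb1090aa8) (.leaf ((nat_lit 1), [nat_lit 6, nat_lit 9, nat_lit 5, nat_lit 9, nat_lit 8, nat_lit 3, nat_lit 1, nat_lit 8, nat_lit 5, nat_lit 6, nat_lit 7, nat_lit 2, nat_lit 6, nat_lit 4, nat_lit 3])) (.leaf ((nat_lit 4), [nat_lit 6, nat_lit 8, nat_lit 0, nat_lit 8, nat_lit 5, nat_lit 7, nat_lit 2, nat_lit 4, nat_lit 6, nat_lit 4, nat_lit 1]))) (.node (nat_lit 0x2a511d9d9751068) (.leaf ((nat_lit 0), [nat_lit 6, nat_lit 3, nat_lit 1, nat_lit 8, nat_lit 7, nat_lit 0, nat_lit 7, nat_lit 4, nat_lit 1])) (.node (nat_lit 0x2a511da5ad17304) (.leaf ((nat_lit 5), [nat_lit 5, nat_lit 8, nat_lit 1, nat_lit 8, nat_lit 7, nat_lit 3, nat_lit 4, nat_lit 7, nat_lit 4, nat_lit 2, nat_lit 2, nat_lit 0])) (.leaf ((nat_lit 0), [nat_lit 8, nat_lit 2, nat_lit 1, nat_lit 8, nat_lit 3, nat_lit 4, nat_lit 7, nat_lit 3, nat_lit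 4, nat_lit 6, nat_lit 5])))))))
 (.node (nat_lit 0x2a56322907137d4) (.node (nat_lit 0x2a53a890f47ca04) (.node (nat_lit 0x2a52919858caff0) (.node (nat_lit 0x2a529192c6f0668) (.leaf ((nat_lit 3), [nat_lit 4, nat_lit 1, nat_lit 9, nat_lit 5, nat_lit 9, nat_lit 7, nat_lit 5, nat_lit 0, nat_lit 8, nat_lit 2, nat_lit 4, nat_lit 7, nat_lit 2, nat_lit 4, nat_lit 6, nat_lit 3, nat_lit 4])) (.leaf ((nat_lit 6), [nat_lit 7, nat_lit 0, nat_lit 9, nat_lit 1, nat_lit 9, nat_lit 2, nat_lit 8, nat_lit 7, nat_lit 3, nat_lit 4, nat_lit 3, nat_lit 3, nat_lit 6, nat_lit 5, nat_lit 4, nat_lit 3, nat_lit 3]))) (.node (nat_lit 0x2a53a880c8fb7f4) (.leaf ((nat_lit 2), [nat_lit 7, nat_lit 6, nat_lit 8, nat_lit 7, nat_lit 3, nat_lit 4, nat_lit 7, nat_lit 4, nat_lit 6, nat_lit 3, nat_lit 3, nat_lit 3, nat_lit 1])) (.node (nat_lit 0x2a53a888deb6768) (.leaf ((nat_lit 3), [nat_lit 1, nat_lit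 9, nat_lit 5, nat_lit 9, nat_lit 4, nat_lit 0, nat_lit 7, nat_lit 3, nat_lit 4, nat_lit 6, nat_lit 5, nat_lit 2, nat_lit 0])) (.leaf ((nat_lit 6), [nat_lit 3, nat_lit 6, nat_lit 9, nat_lit 1, nat_lit 9, nat_lit 5, nat_lit 0, nat_lit 8, nat_lit 0, nat_lit 7, nat_lit 4, nat_lit 6, nat_lit 4, nat_lit 2, nat_lit 1])))))
 (.node (nat_lit 0x2a540599080d5f0) (.node (nat_lit 0x2a540590c44c4e0) (.leaf ((nat_lit 2), [nat_lit 9, nat_lit 7, nat_lit 5, nat_lit 0, nat_lit 9, nat_lit 5, nat_lit 6, nat_lit 8, nat_lit 7, nat_lit 5, nat_lit 1, nat_lit 7, nat_lit 4, nat_lit 6, nat_lit 5])) (.leaf ((nat_lit 0), [nat_lit 5, nat_lit 8, nat_lit 2, nat_lit 1, nat_lit 8, nat_lit 6, nat_lit 3, nat_lit 3, nat_lit 6, nat_lit 4, nat_lit 2, nat_lit 1]))) (.node (nat_lit 0x2a5405a0c1c73e8) (.leaf ((nat_lit 0), [nat_lit 7, nat_lit 5, nat_lit 0, nat_lit 8, nat_lit 6, nat_lit 5, nat_lit 1, nat_lit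 7, nat_lit 3, nat_lit 6, nat_lit 5, nat_lit 2, nat_lit 0])) (.node (nat_lit 0x2a55d54bb628fd4) (.leaf ((nat_lit 5), [nat_lit 5, nat_lit 9, nat_lit 1, nat_lit 9, nat_lit 7, nat_lit 8, nat_lit 6, nat_lit 3, nat_lit 8, nat_lit 7, nat_lit 4, nat_lit 2, nat_lit 6, nat_lit 4, nat_lit 1])) (.leaf ((nat_lit 4), [nat_lit 7, nat_lit 2, nat_lit 1, nat_lit 8, nat_lit 3, nat_lit 4, nat_lit 7, nat_lit 2, nat_lit 6, nat_lit 5, nat_lit 4, nat_lit 0]))))))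
 (.node (nat_lit 0x2beb4772b1c6a74) (.node (nat_lit 0x2a59770e2e4e6d4) (.node (nat_lit 0x2a57a61e92aff54) (.leaf ((nat_lit 4), [nat_lit 6, nat_lit 0, nat_lit 8, nat_lit 5, nat_lit 7, nat_lit 6, nat_lit 3, nat_lit 4, nat_lit 3, nat_lit 3, nat_lit 0])) (.leaf ((nat_lit 6), [nat_lit 9, nat_lit 8, nat_lit 1, nat_lit 9, nat_lit 3, nat_lit 0, nat_lit 8, nat_lit 5, nat_lit 4, nat_lit 7, nat_lit 6, nat_lit 5, nat_lit 4, nat_lit 3, nat_lit 3]))) (.node (nat_lit 0x2beb4762864ca24) (.leaf ((nat_lit 5), [nat_lit 2, nat_lit 1, nat_lit 8, nat_lit 6, nat_lit 0, nat_lit 7, nat_lit 2, nat_lit 4, nat_lit 6, nat_lit 5, nat_lit 3, nat_lit 3])) (.node (nat_lit 0x2beb476aca037b0) (.leaf ((nat_lit 1), [nat_lit 1, nat_lit 9, nat_lit 5, nat_lit 9, nat_lit 1, nat_lit 8, nat_lit 1, nat_lit 8, nat_lit 5, nat_lit 0, nat_lit 7, nat_lit 3, nat_lit 4, nat_lit 3, nat_lit 1])) (.leaf ((nat_lit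 3), [nat_lit 1, nat_lit 9, nat_lit 5, nat_lit 9, nat_lit 3, nat_lit 1, nat_lit 8, nat_lit 0, nat_lit 7, nat_lit 2, nat_lit 6, nat_lit 2, nat_lit 2, nat_lit 0])))))
 (.node (nat_lit 0x2beba4653605c60) (.node (nat_lit 0x2beba45cf24bba4) (.leaf ((nat_lit 0), [nat_lit 6, nat_lit 9, nat_lit 5, nat_lit 9, nat_lit 3, nat_lit 6, nat_lit 8, nat_lit 0, nat_lit 7, nat_lit 4, nat_lit 2, nat_lit 6, nat_lit 5, nat_lit 0])) (.leaf ((nat_lit 6), [nat_lit 8, nat_lit 6, nat_lit 1, nat_lit 9, nat_lit 7, nat_lit 5, nat_lit 8, nat_lit 1, nat_lit 8, nat_lit 3, nat_lit 3, nat_lit 6, nat_lit 3, nat_lit 4]))) (.node (nat_lit 0x2beba4678befc5c) (.leaf ((nat_lit 5), [nat_lit 7, nat_lit 9, nat_lit 2, nat_lit 1, nat_lit 9, nat_lit 4, nat_lit 8, nat_lit 0, nat_lit 8, nat_lit 3, nat_lit 6, nat_lit 2, nat_lit 4, nat_lit 1])) (.node (nat_lit 0x2bed1854d3d5650) (.leaf ((nat_lit 6), [nat_lit 9,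 nat_lit 7, nat_lit 2, nat_lit 9, nat_lit 3, nat_lit 5, nat_lit 8, nat_lit 2, nat_lit 4, nat_lit 7, nat_lit 4, nat_lit 3, nat_lit 6, nat_lit 3])) (.leaf ((nat_lit 3), [nat_lit 1, nat_lit 9, nat_lit 5, nat_lit 9, nat_lit 6, nat_lit 2, nat_lit 8, nat_lit 5, nat_lit 7, nat_lit 6, nat_lit 5, nat_lit 2, nat_lit 2, nat_lit 1])))))))))))))
 (.node (nat_lit 0x441bc86d33303d0) (.node (nat_lit 0x2e037ff26c51dcc) (.node (nat_lit 0x2c9e50366e92b80) (.node (nat_lit 0x2c1d006c0a8a170) (.node (nat_lit 0x2c00b5b6151cee4) (.node (nat_lit 0x2bf3a2284bfad9c) (.node (nat_lit 0x2bf05d3d92f028c) (.node (nat_lit 0x2bed755f6b4e98c) (.node (nat_lit 0x2bed754e87da4d0) (.node (nat_lit 0x2bed1862a9624e0) (.leaf ((nat_lit 3), [nat_lit 4, nat_lit 1, nat_lit 9, nat_lit 5, nat_lit 9, nat_lit 8, nat_lit 5, nat_lit 2, nat_lit 8, nat_lit 7, nat_lit 6, nat_lit 3, nat_lit 4, nat_lit 6, nat_lit 5,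 nat_lit 2, nat_lit 1])) (.leaf ((nat_lit 3), [nat_lit 8, nat_lit 2, nat_lit 1, nat_lit 8, nat_lit 6, nat_lit 7, nat_lit 5, nat_lit 3, nat_lit 6, nat_lit 3, nat_lit 3, nat_lit 1]))) (.node (nat_lit 0x2bed755c2f65770) (.leaf ((nat_lit 0), [nat_lit 3, nat_lit 7, nat_lit 8, nat_lit 2, nat_lit 4, nat_lit 7, nat_lit 3, nat_lit 6, nat_lit 1])) (.leaf ((nat_lit 0), [nat_lit 1, nat_lit 8, nat_lit 1, nat_lit 8, nat_lit 5, nat_lit 7, nat_lit 6, nat_lit 0]))))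
 (.node (nat_lit 0x2beee948bf4db34) (.node (nat_lit 0x2beee9449d6b364) (.leaf ((nat_lit 0), [nat_lit 1, nat_lit 9, nat_lit 5, nat_lit 9, nat_lit 8, nat_lit 7, nat_lit 0, nat_lit 8, nat_lit 6, nat_lit 1, nat_lit 7, nat_lit 3, nat_lit 6, nat_lit 3])) (.leaf ((nat_lit 0), [nat_lit 5, nat_lit 2, nat_lit 8, nat_lit 5, nat_lit 7, nat_lit 4, nat_lit 6, nat_lit 2, nat_lit 4, nat_lit 3, nat_lit 1]))) (.node (nat_lit 0x2beee950d509608) (.leaf ((nat_lit 0), [nat_lit 4, nat_lit 1, nat_lit 9, nat_lit 5, nat_lit 9, nat_lit 0, nat_lit 8, nat_lit 5, nat_lit 1, nat_lit 7, nat_lit 4, nat_lit 3, nat_lit 3, nat_lit 6, nat_lit 2])) (.node (nat_lit 0x2bf05d354f36064) (.leaf ((nat_lit 0), [nat_lit 8, nat_lit 7, nat_lit 3, nat_lit 4, nat_lit 7, nat_lit 3, nat_lit 4, nat_lit 6, nat_lit 4, nat_lit 1])) (.leaf ((nat_lit 1), [nat_lit 4, nat_lit 1, nat_lit 9, nat_lit 5, nat_lit 9, nat_lit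 5, nat_lit 0, nat_lit 8, nat_lit 3, nat_lit 6, nat_lit 7, nat_lit 3, nat_lit 6, nat_lit 2, nat_lit 2, nat_lit 1]))))))
 (.node (nat_lit 0x2bf22e279cb7964) (.node (nat_lit 0x2bf1d12c4abfc24) (.node (nat_lit 0x2bf05d457aad1c8) (.leaf ((nat_lit 0), [nat_lit 6, nat_lit 9, nat_lit 5, nat_lit 9, nat_lit 6, nat_lit 8, nat_lit 5, nat_lit 4, nat_lit 7, nat_lit 3, nat_lit 3, nat_lit 6, nat_lit 4, nat_lit 3, nat_lit 3])) (.leaf ((nat_lit 2), [nat_lit 9, nat_lit 5, nat_lit 8, nat_lit 3, nat_lit 9, nat_lit 3, nat_lit 0, nat_lit 8, nat_lit 6, nat_lit 5, nat_lit 7, nat_lit 4, nat_lit 2]))) (.node (nat_lit 0x2bf1d134607f41c) (.leaf ((nat_lit 3), [nat_lit 4, nat_lit 1, nat_lit 9, nat_lit 5, nat_lit 9, nat_lit 8, nat_lit 5, nat_lit 1, nat_lit 8, nat_lit 5, nat_lit 6, nat_lit 7, nat_lit 3, nat_lit 4, nat_lit 6, nat_lit 5, nat_lit 3])) (.node (nat_lit 0x2bf1d139f25568c) (.leaf ((nat_lit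 1), [nat_lit 4, nat_lit 1, nat_lit 9, nat_lit 5, nat_lit 9, nat_lit 1, nat_lit 7, nat_lit 5, nat_lit 8, nat_lit 0, nat_lit 7, nat_lit 5, nat_lit 2, nat_lit 4, nat_lit 3])) (.leaf ((nat_lit 0), [nat_lit 6, nat_lit 9, nat_lit 5, nat_lit 9, nat_lit 3, nat_lit 5, nat_lit 8, nat_lit 7, nat_lit 5, nat_lit 6, nat_lit 3, nat_lit 4, nat_lit 3, nat_lit 0])))))
 (.node (nat_lit 0x2bf22e3572487f0) (.node (nat_lit 0x2bf22e2d5c8d160) (.leaf ((nat_lit 2), [nat_lit 1, nat_lit 9, nat_lit 5, nat_lit 9, nat_lit 1, nat_lit 8, nat_lit 1, nat_lit 8, nat_lit 6, nat_lit 1, nat_lit 7, nat_lit 4, nat_lit 0])) (.leaf ((nat_lit 2), [nat_lit 2, nat_lit 9, nat_lit 3, nat_lit 5, nat_lit 9, nat_lit 7, nat_lit 8, nat_lit 1, nat_lit 8, nat_lit 5, nat_lit 7, nat_lit 5, nat_lit 3, nat_lit 3, nat_lit 3, nat_lit 0]))) (.node (nat_lit 0x2bf3a21aa46f990) (.leaf ((nat_lit 2), [nat_lit 0, nat_lit 7,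 nat_lit 0, nat_lit 9, nat_lit 1, nat_lit 9, nat_lit 2, nat_lit 7, nat_lit 8, nat_lit 2, nat_lit 2, nat_lit 6, nat_lit 2, nat_lit 2, nat_lit 0])) (.node (nat_lit 0x2bf3a222ba2aeb4) (.leaf ((nat_lit 2), [nat_lit 9, nat_lit 2, nat_lit 7, nat_lit 9, nat_lit 8, nat_lit 5, nat_lit 8, nat_lit 0, nat_lit 7, nat_lit 2, nat_lit 6, nat_lit 4, nat_lit 2])) (.leaf ((nat_lit 0), [nat_lit 6, nat_lit 9, nat_lit 5, nat_lit 9, nat_lit 4, nat_lit 8, nat_lit 0, nat_lit 8, nat_lit 7, nat_lit 5, nat_lit 4, nat_lit 2, nat_lit 0])))))))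
 (.node (nat_lit 0x2bfc59d00e73eb0) (.node (nat_lit 0x2bfa88e6bca8e64) (.node (nat_lit 0x2bfa2bedee99874) (.node (nat_lit 0x2bfa2be5d8d7cf0) (.leaf ((nat_lit 1), [nat_lit 1, nat_lit 9, nat_lit 5, nat_lit 9, nat_lit 3, nat_lit 8, nat_lit 5, nat_lit 7, nat_lit 5, nat_lit 0, nat_lit 7, nat_lit 3, nat_lit 4])) (.leaf ((nat_lit 1), [nat_lit 4, nat_lit 1, nat_lit 9, nat_lit 5, nat_lit 9, nat_lit 5, nat_lit 8, nat_lit 5, nat_lit 0, nat_lit 7, nat_lit 6, nat_lit 5, nat_lit 6, nat_lit 4, nat_lit 3, nat_lit 0]))) (.node (nat_lit 0x2bfa2bf3806fae4) (.leaf ((nat_lit 0), [nat_lit 6, nat_lit 9, nat_lit 5, nat_lit 9, nat_lit 8, nat_lit 5, nat_lit 8, nat_lit 6, nat_lit 0, nat_lit 7, nat_lit 5, nat_lit 3])) (.node (nat_lit 0x2bfa88e29ac419c) (.leaf ((nat_lit 3), [nat_lit 4, nat_lit 1, nat_lit 9, nat_lit 5, nat_lit 9, nat_lit 3, nat_lit 8, nat_lit 4, nat_lit 0, nat_lit 7, nat_lit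 3, nat_lit 6, nat_lit 3, nat_lit 4, nat_lit 1])) (.leaf ((nat_lit 0), [nat_lit 1, nat_lit 8, nat_lit 1, nat_lit 8, nat_lit 7, nat_lit 2, nat_lit 4, nat_lit 7, nat_lit 3, nat_lit 4, nat_lit 6, nat_lit 4])))))
 (.node (nat_lit 0x2bfbfcd5a275008) (.node (nat_lit 0x2bfa88eed264660) (.leaf ((nat_lit 0), [nat_lit 7, nat_lit 5, nat_lit 6, nat_lit 8, nat_lit 0, nat_lit 7, nat_lit 2, nat_lit 2, nat_lit 6, nat_lit 4, nat_lit 2, nat_lit 1])) (.leaf ((nat_lit 0), [nat_lit 4, nat_lit 1, nat_lit 9, nat_lit 5, nat_lit 9, nat_lit 7, nat_lit 2, nat_lit 5, nat_lit 8, nat_lit 7, nat_lit 5, nat_lit 1, nat_lit 7, nat_lit 5, nat_lit 6, nat_lit 5, nat_lit 0]))) (.node (nat_lit 0x2bfbfcdde6352e0) (.leaf ((nat_lit 3), [nat_lit 1, nat_lit 9, nat_lit 5, nat_lit 9, nat_lit 8, nat_lit 3, nat_lit 1, nat_lit 8, nat_lit 2, nat_lit 4, nat_lit 3, nat_lit 6, nat_lit 2, nat_lit 4, nat_lit 0]))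 (.node (nat_lit 0x2bfbfce5cdf8710) (.leaf ((nat_lit 0), [nat_lit 6, nat_lit 9, nat_lit 5, nat_lit 9, nat_lit 3, nat_lit 1, nat_lit 8, nat_lit 6, nat_lit 5, nat_lit 3, nat_lit 6, nat_lit 5, nat_lit 2, nat_lit 2, nat_lit 0])) (.leaf ((nat_lit 1), [nat_lit 1, nat_lit 9, nat_lit 5, nat_lit 9, nat_lit 7, nat_lit 0, nat_lit 8, nat_lit 5, nat_lit 1, nat_lit 7, nat_lit 3, nat_lit 3, nat_lit 3, nat_lit 6, nat_lit 3, nat_lit 4, nat_lit 3, nat_lit 1]))))))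
 (.node (nat_lit 0x2bfdcdd5978e424) (.node (nat_lit 0x2bfc59daa82178c) (.node (nat_lit 0x2bfc59d85237790) (.leaf ((nat_lit 6), [nat_lit 9, nat_lit 3, nat_lit 4, nat_lit 9, nat_lit 8, nat_lit 6, nat_lit 3, nat_lit 8, nat_lit 5, nat_lit 3, nat_lit 6, nat_lit 4, nat_lit 3, nat_lit 3, nat_lit 1])) (.leaf ((nat_lit 6), [nat_lit 1, nat_lit 9, nat_lit 5, nat_lit 9, nat_lit 8, nat_lit 1, nat_lit 7, nat_lit 8, nat_lit 7, nat_lit 1, nat_lit 7, nat_lit 2, nat_lit 2, nat_lit 0]))) (.node (nat_lit 0x2bfdcdc4b417d48) (.leaf ((nat_lit 5), [nat_lit 6, nat_lit 9, nat_lit 5, nat_lit 9, nat_lit 8, nat_lit 2, nat_lit 1, nat_lit 8, nat_lit 3, nat_lit 4, nat_lit 7, nat_lit 3, nat_lit 3, nat_lit 6])) (.node (nat_lit 0x2bfdcdd25bac534) (.leaf ((nat_lit 0), [nat_lit 5, nat_lit 8, nat_lit 6, nat_lit 5, nat_lit 1, nat_lit 7, nat_lit 3, nat_lit 6, nat_lit 4, nat_lit 2, nat_lit 2])) (.leaf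 ((nat_lit 0), [nat_lit 1, nat_lit 9, nat_lit 5, nat_lit 9, nat_lit 5, nat_lit 1, nat_lit 8, nat_lit 6, nat_lit 7, nat_lit 2, nat_lit 6, nat_lit 5, nat_lit 2, nat_lit 2, nat_lit 0])))))
 (.node (nat_lit 0x2bff41c0b77ffc8) (.node (nat_lit 0x2bff41b8a1c47cc) (.leaf ((nat_lit 0), [nat_lit 3, nat_lit 7, nat_lit 8, nat_lit 0, nat_lit 7, nat_lit 2, nat_lit 6, nat_lit 1])) (.leaf ((nat_lit 0), [nat_lit 6, nat_lit 9, nat_lit 5, nat_lit 9, nat_lit 3, nat_lit 7, nat_lit 5, nat_lit 8, nat_lit 3, nat_lit 6, nat_lit 7, nat_lit 3, nat_lit 3, nat_lit 6, nat_lit 2, nat_lit 2, nat_lit 1]))) (.node (nat_lit 0x2bff41c64959124) (.leaf ((nat_lit 1), [nat_lit 1, nat_lit 9, nat_lit 5, nat_lit 9, nat_lit 7, nat_lit 5, nat_lit 8, nat_lit 3, nat_lit 6, nat_lit 7, nat_lit 6, nat_lit 2, nat_lit 2, nat_lit 6, nat_lit 0])) (.node (nat_lit 0x2c00b5add163dcc) (.leaf ((nat_lit 2), [nat_lit 3,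 nat_lit 3, nat_lit 8, nat_lit 5, nat_lit 1, nat_lit 7, nat_lit 6, nat_lit 3, nat_lit 3, nat_lit 6, nat_lit 4, nat_lit 2, nat_lit 0])) (.leaf ((nat_lit 0), [nat_lit 6, nat_lit 9, nat_lit 5, nat_lit 9, nat_lit 8, nat_lit 5, nat_lit 8, nat_lit 5, nat_lit 7, nat_lit 5, nat_lit 7, nat_lit 3, nat_lit 6, nat_lit 3, nat_lit 3]))))))))
 (.node (nat_lit 0x2c0c55494ad0074) (.node (nat_lit 0x2c08b379e3101b0) (.node (nat_lit 0x2c02869dc8ff3f4) (.node (nat_lit 0x2c0112a86b616a0) (.node (nat_lit 0x2c00b5bdfcdde1c) (.leaf ((nat_lit 1), [nat_lit 4, nat_lit 1, nat_lit 9, nat_lit 5, nat_lit 9, nat_lit 8, nat_lit 0, nat_lit 7, nat_lit 6, nat_lit 4, nat_lit 3, nat_lit 3, nat_lit 3, nat_lit 1])) (.leaf ((nat_lit 3), [nat_lit 1, nat_lit 9, nat_lit 5, nat_lit 9, nat_lit 7, nat_lit 5, nat_lit 1, nat_lit 8, nat_lit 0, nat_lit 7, nat_lit 5, nat_lit 4, nat_lit 1]))) (.node (nat_lit 0x2c0112b0af1b5f0)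 (.leaf ((nat_lit 0), [nat_lit 6, nat_lit 9, nat_lit 5, nat_lit 9, nat_lit 3, nat_lit 8, nat_lit 7, nat_lit 1, nat_lit 8, nat_lit 5, nat_lit 7, nat_lit 5, nat_lit 7, nat_lit 6, nat_lit 4, nat_lit 0])) (.node (nat_lit 0x2c0112b896daa24) (.leaf ((nat_lit 2), [nat_lit 8, nat_lit 3, nat_lit 9, nat_lit 0, nat_lit 9, nat_lit 3, nat_lit 6, nat_lit 2, nat_lit 1, nat_lit 8, nat_lit 6, nat_lit 7, nat_lit 6, nat_lit 4, nat_lit 3, nat_lit 6, nat_lit 5, nat_lit 2, nat_lit 4])) (.leaf ((nat_lit 1), [nat_lit 1, nat_lit 9, nat_lit 5, nat_lit 9, nat_lit 3, nat_lit 0, nat_lit 8, nat_lit 5, nat_lit 7, nat_lit 3, nat_lit 3, nat_lit 3, nat_lit 6, nat_lit 4, nat_lit 1])))))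
 (.node (nat_lit 0x2c0286ab9e92a50) (.node (nat_lit 0x2c0286a388cdb9c) (.leaf ((nat_lit 2), [nat_lit 1, nat_lit 9, nat_lit 5, nat_lit 9, nat_lit 5, nat_lit 0, nat_lit 7, nat_lit 8, nat_lit 7, nat_lit 5, nat_lit 7, nat_lit 5, nat_lit 6, nat_lit 2, nat_lit 4, nat_lit 1])) (.leaf ((nat_lit 2), [nat_lit 2, nat_lit 2, nat_lit 9, nat_lit 1, nat_lit 9, nat_lit 3, nat_lit 1, nat_lit 8, nat_lit 7, nat_lit 5, nat_lit 7, nat_lit 5, nat_lit 6, nat_lit 3, nat_lit 4, nat_lit 3]))) (.node (nat_lit 0x2c08b36c0d831b4) (.leaf ((nat_lit 2), [nat_lit 7, nat_lit 9, nat_lit 2, nat_lit 1, nat_lit 9, nat_lit 8, nat_lit 2, nat_lit 6, nat_lit 0, nat_lit 8, nat_lit 2, nat_lit 6, nat_lit 3, nat_lit 4, nat_lit 3, nat_lit 1])) (.node (nat_lit 0x2c08b371cd57ce4) (.leaf ((nat_lit 3), [nat_lit 7, nat_lit 8, nat_lit 7, nat_lit 1, nat_lit 8, nat_lit 6, nat_lit 3, nat_lit 4, nat_lit 7, nat_lit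 6, nat_lit 4, nat_lit 2, nat_lit 6])) (.leaf ((nat_lit 3), [nat_lit 1, nat_lit 9, nat_lit 5, nat_lit 9, nat_lit 2, nat_lit 2, nat_lit 8, nat_lit 1, nat_lit 7, nat_lit 2]))))))
 (.node (nat_lit 0x2c0a84641ae0910) (.node (nat_lit 0x2c091073691cc64) (.node (nat_lit 0x2c091065c1881a0) (.leaf ((nat_lit 3), [nat_lit 4, nat_lit 1, nat_lit 9, nat_lit 5, nat_lit 9, nat_lit 8, nat_lit 2, nat_lit 1, nat_lit 8, nat_lit 2, nat_lit 6, nat_lit 3, nat_lit 3, nat_lit 3, nat_lit 1])) (.leaf ((nat_lit 0), [nat_lit 1, nat_lit 9, nat_lit 5, nat_lit 9, nat_lit 5, nat_lit 1, nat_lit 8, nat_lit 5, nat_lit 7, nat_lit 2, nat_lit 4, nat_lit 6, nat_lit 2, nat_lit 4, nat_lit 0]))) (.node (nat_lit 0x2c091076a4fc65c) (.leaf ((nat_lit 0), [nat_lit 8, nat_lit 2, nat_lit 1, nat_lit 8, nat_lit 6, nat_lit 7, nat_lit 4, nat_lit 2, nat_lit 2, nat_lit 6, nat_lit 0])) (.node (nat_lit 0x2c0a845c051ec20)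 (.leaf ((nat_lit 0), [nat_lit 2, nat_lit 6, nat_lit 2, nat_lit 8, nat_lit 4, nat_lit 3, nat_lit 3, nat_lit 6, nat_lit 2, nat_lit 4, nat_lit 2, nat_lit 1])) (.leaf ((nat_lit 0), [nat_lit 6, nat_lit 9, nat_lit 5, nat_lit 9, nat_lit 8, nat_lit 5, nat_lit 2, nat_lit 8, nat_lit 2, nat_lit 2, nat_lit 6, nat_lit 5, nat_lit 3, nat_lit 4, nat_lit 3, nat_lit 1])))))
 (.node (nat_lit 0x2c0ae158c70b0cc) (.node (nat_lit 0x2c0a8469acad4c8) (.leaf ((nat_lit 3), [nat_lit 4, nat_lit 1, nat_lit 9, nat_lit 5, nat_lit 9, nat_lit 3, nat_lit 7, nat_lit 5, nat_lit 8, nat_lit 7, nat_lit 4, nat_lit 6, nat_lit 4, nat_lit 3, nat_lit 3, nat_lit 3, nat_lit 0])) (.leaf ((nat_lit 1), [nat_lit 1, nat_lit 9, nat_lit 5, nat_lit 9, nat_lit 8, nat_lit 0, nat_lit 8, nat_lit 5, nat_lit 7, nat_lit 4, nat_lit 2, nat_lit 2, nat_lit 6, nat_lit 3, nat_lit 4, nat_lit 3]))) (.node (nat_lit 0x2c0ae15ce8e6570)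 (.leaf ((nat_lit 0), [nat_lit 4, nat_lit 1, nat_lit 9, nat_lit 5, nat_lit 9, nat_lit 5, nat_lit 1, nat_lit 8, nat_lit 6, nat_lit 5, nat_lit 6, nat_lit 7, nat_lit 2, nat_lit 4, nat_lit 6, nat_lit 2, nat_lit 1])) (.node (nat_lit 0x2c0ae164feab590) (.leaf ((nat_lit 0), [nat_lit 5, nat_lit 8, nat_lit 5, nat_lit 0, nat_lit 7, nat_lit 6, nat_lit 3, nat_lit 4, nat_lit 6, nat_lit 5, nat_lit 4, nat_lit 1])) (.leaf ((nat_lit 0), [nat_lit 7, nat_lit 2, nat_lit 1, nat_lit 8, nat_lit 7, nat_lit 2, nat_lit 4, nat_lit 6, nat_lit 2])))))))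
 (.node (nat_lit 0x2c0f9a36e3c2c24) (.node (nat_lit 0x2c0dc94cabfcc8c) (.node (nat_lit 0x2c0c5553e476624) (.node (nat_lit 0x2c0c55518e8a408) (.leaf ((nat_lit 5), [nat_lit 9, nat_lit 7, nat_lit 5, nat_lit 0, nat_lit 9, nat_lit 7, nat_lit 2, nat_lit 8, nat_lit 7, nat_lit 1, nat_lit 7, nat_lit 5, nat_lit 3, nat_lit 6, nat_lit 2, nat_lit 4, nat_lit 2])) (.leaf ((nat_lit 6), [nat_lit 2, nat_lit 7, nat_lit 9, nat_lit 5, nat_lit 9, nat_lit 2, nat_lit 6, nat_lit 8, nat_lit 5, nat_lit 6, nat_lit 7, nat_lit 3, nat_lit 4, nat_lit 3, nat_lit 1]))) (.node (nat_lit 0x2c0dc93ed669908) (.leaf ((nat_lit 6), [nat_lit 2, nat_lit 2, nat_lit 9, nat_lit 1, nat_lit 9, nat_lit 0, nat_lit 8, nat_lit 7, nat_lit 6, nat_lit 2, nat_lit 2, nat_lit 6, nat_lit 5, nat_lit 3, nat_lit 4, nat_lit 0])) (.node (nat_lit 0x2c0dc9449641324) (.leaf ((nat_lit 2), [nat_lit 2, nat_lit 2, nat_lit 9, nat_lit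 0, nat_lit 9, nat_lit 3, nat_lit 8, nat_lit 5, nat_lit 0, nat_lit 7, nat_lit 2, nat_lit 2, nat_lit 6, nat_lit 4, nat_lit 3, nat_lit 1])) (.leaf ((nat_lit 2), [nat_lit 6, nat_lit 9, nat_lit 5, nat_lit 3, nat_lit 1, nat_lit 9, nat_lit 5, nat_lit 8, nat_lit 2, nat_lit 1, nat_lit 8, nat_lit 2, nat_lit 4, nat_lit 7, nat_lit 3])))))
 (.node (nat_lit 0x2c0f3d3aabd648c) (.node (nat_lit 0x2c0f3d34ec0195c) (.leaf ((nat_lit 2), [nat_lit 6, nat_lit 9, nat_lit 5, nat_lit 9, nat_lit 4, nat_lit 0, nat_lit 7, nat_lit 8, nat_lit 3, nat_lit 4, nat_lit 7, nat_lit 3, nat_lit 6])) (.leaf ((nat_lit 3), [nat_lit 4, nat_lit 1, nat_lit 9, nat_lit 5, nat_lit 9, nat_lit 6, nat_lit 3, nat_lit 0, nat_lit 8, nat_lit 7, nat_lit 4, nat_lit 6]))) (.node (nat_lit 0x2c0f3d42c190ce4) (.leaf ((nat_lit 3), [nat_lit 2, nat_lit 1, nat_lit 8, nat_lit 5, nat_lit 0, nat_lit 7, nat_lit 4, nat_lit 0]))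 (.node (nat_lit 0x2c0f9a2ece04f30) (.leaf ((nat_lit 3), [nat_lit 1, nat_lit 9, nat_lit 5, nat_lit 9, nat_lit 6, nat_lit 8, nat_lit 1, nat_lit 8, nat_lit 6, nat_lit 5, nat_lit 7, nat_lit 3, nat_lit 6, nat_lit 2, nat_lit 2])) (.leaf ((nat_lit 1), [nat_lit 1, nat_lit 9, nat_lit 5, nat_lit 9, nat_lit 3, nat_lit 8, nat_lit 6, nat_lit 1, nat_lit 8, nat_lit 6, nat_lit 5, nat_lit 7, nat_lit 6, nat_lit 3, nat_lit 4, nat_lit 3, nat_lit 3]))))))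
 (.node (nat_lit 0x2c1847eb31ea1dc) (.node (nat_lit 0x2c110e21a7b74dc) (.node (nat_lit 0x2c0f9a3c7599b60) (.leaf ((nat_lit 2), [nat_lit 2, nat_lit 7, nat_lit 8, nat_lit 4, nat_lit 0, nat_lit 7, nat_lit 6, nat_lit 5, nat_lit 6, nat_lit 3, nat_lit 4, nat_lit 3, nat_lit 3])) (.leaf ((nat_lit 0), [nat_lit 6, nat_lit 9, nat_lit 5, nat_lit 9, nat_lit 6, nat_lit 7, nat_lit 2, nat_lit 1, nat_lit 8, nat_lit 3, nat_lit 6, nat_lit 1, nat_lit 7, nat_lit 4, nat_lit 6, nat_lit 3]))) (.node (nat_lit 0x2c110e29eb7ac50) (.leaf ((nat_lit 2), [nat_lit 0, nat_lit 8, nat_lit 7, nat_lit 1, nat_lit 8, nat_lit 5, nat_lit 4, nat_lit 7, nat_lit 4, nat_lit 6, nat_lit 5, nat_lit 4])) (.node (nat_lit 0x2c110e31d3378b4) (.leaf ((nat_lit 1), [nat_lit 1, nat_lit 9, nat_lit 5, nat_lit 9, nat_lit 7, nat_lit 2, nat_lit 8, nat_lit 3, nat_lit 6, nat_lit 7, nat_lit 4, nat_lit 2, nat_lit 6, nat_lit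 5, nat_lit 4, nat_lit 2, nat_lit 0])) (.leaf ((nat_lit 0), [nat_lit 6, nat_lit 9, nat_lit 5, nat_lit 9, nat_lit 8, nat_lit 5, nat_lit 1, nat_lit 8, nat_lit 3, nat_lit 6, nat_lit 4, nat_lit 3, nat_lit 3, nat_lit 1])))))
 (.node (nat_lit 0x2c19bbbf5294c70) (.node (nat_lit 0x2c18a4c7cada404) (.leaf ((nat_lit 0), [nat_lit 6, nat_lit 9, nat_lit 2, nat_lit 1, nat_lit 9, nat_lit 7, nat_lit 8, nat_lit 1, nat_lit 8, nat_lit 5, nat_lit 7, nat_lit 5, nat_lit 0, nat_lit 7, nat_lit 4, nat_lit 3])) (.leaf ((nat_lit 0), [nat_lit 2, nat_lit 2, nat_lit 9, nat_lit 1, nat_lit 9, nat_lit 1, nat_lit 7, nat_lit 8, nat_lit 7, nat_lit 5, nat_lit 0, nat_lit 7, nat_lit 2, nat_lit 2, nat_lit 6, nat_lit 4, nat_lit 3, nat_lit 1]))) (.node (nat_lit 0x2c1b2fd0e54ea5c) (.leaf ((nat_lit 0), [nat_lit 2, nat_lit 9, nat_lit 3, nat_lit 5, nat_lit 9, nat_lit 7, nat_lit 5, nat_lit 8, nat_lit 7, nat_lit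 0, nat_lit 7, nat_lit 6, nat_lit 4, nat_lit 3, nat_lit 6, nat_lit 5, nat_lit 3, nat_lit 0])) (.node (nat_lit 0x2c1b8cce0337db0) (.leaf ((nat_lit 0), [nat_lit 0, nat_lit 7, nat_lit 0, nat_lit 9, nat_lit 1, nat_lit 9, nat_lit 8, nat_lit 4, nat_lit 6, nat_lit 8, nat_lit 7, nat_lit 5, nat_lit 1, nat_lit 7, nat_lit 5, nat_lit 3, nat_lit 3, nat_lit 1])) (.leaf ((nat_lit 0), [nat_lit 6, nat_lit 9, nat_lit 5, nat_lit 3, nat_lit 1, nat_lit 9, nat_lit 4, nat_lit 3, nat_lit 8, nat_lit 5, nat_lit 3, nat_lit 6, nat_lit 4, nat_lit 3, nat_lit 3, nat_lit 3, nat_lit 1])))))))))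
 (.node (nat_lit 0x2c5bd78a57b665c) (.node (nat_lit 0x2c3a6c86a339a04) (.node (nat_lit 0x2c2be4dfe9988b0) (.node (nat_lit 0x2c272c54494f944) (.node (nat_lit 0x2c1ed15aee2e484) (.node (nat_lit 0x2c1d5d74a8164c4) (.leaf ((nat_lit 0), [nat_lit 2, nat_lit 9, nat_lit 3, nat_lit 5, nat_lit 9, nat_lit 8, nat_lit 2, nat_lit 5, nat_lit 8, nat_lit 5, nat_lit 0, nat_lit 7, nat_lit 5, nat_lit 6, nat_lit 3, nat_lit 3])) (.leaf ((nat_lit 0), [nat_lit 6, nat_lit 9, nat_lit 2, nat_lit 1, nat_lit 9, nat_lit 8, nat_lit 5, nat_lit 1, nat_lit 8, nat_lit 5, nat_lit 7, nat_lit 5, nat_lit 0, nat_lit 7, nat_lit 4, nat_lit 6, nat_lit 2, nat_lit 0]))) (.node (nat_lit 0x2c1f2e6443b4f1c) (.leaf ((nat_lit 0), [nat_lit 2, nat_lit 7, nat_lit 9, nat_lit 5, nat_lit 9, nat_lit 6, nat_lit 8, nat_lit 4, nat_lit 0, nat_lit 7, nat_lit 2, nat_lit 6, nat_lit 5, nat_lit 2, nat_lit 2, nat_lit 0])) (.node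 (nat_lit 0x2c20a259cf51530) (.leaf ((nat_lit 0), [nat_lit 2, nat_lit 2, nat_lit 9, nat_lit 1, nat_lit 9, nat_lit 1, nat_lit 7, nat_lit 8, nat_lit 4, nat_lit 7, nat_lit 6, nat_lit 5, nat_lit 6, nat_lit 5, nat_lit 3, nat_lit 4])) (.leaf ((nat_lit 0), [nat_lit 9, nat_lit 7, nat_lit 5, nat_lit 0, nat_lit 9, nat_lit 2, nat_lit 8, nat_lit 7, nat_lit 5, nat_lit 6, nat_lit 7, nat_lit 3, nat_lit 4, nat_lit 6, nat_lit 5, nat_lit 3, nat_lit 3, nat_lit 3])))))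
 (.node (nat_lit 0x2c28fd566658604) (.node (nat_lit 0x2c28a059486f2b0) (.leaf ((nat_lit 0), [nat_lit 6, nat_lit 9, nat_lit 2, nat_lit 1, nat_lit 9, nat_lit 2, nat_lit 7, nat_lit 5, nat_lit 8, nat_lit 3, nat_lit 6, nat_lit 1, nat_lit 7, nat_lit 4, nat_lit 3, nat_lit 0])) (.leaf ((nat_lit 0), [nat_lit 2, nat_lit 2, nat_lit 9, nat_lit 0, nat_lit 9, nat_lit 7, nat_lit 1, nat_lit 7, nat_lit 8, nat_lit 0, nat_lit 7, nat_lit 6, nat_lit 3, nat_lit 3, nat_lit 3, nat_lit 1]))) (.node (nat_lit 0x2c2a7149400abb0) (.leaf ((nat_lit 0), [nat_lit 2, nat_lit 7, nat_lit 9, nat_lit 5, nat_lit 9, nat_lit 6, nat_lit 8, nat_lit 6, nat_lit 7, nat_lit 6, nat_lit 4, nat_lit 3, nat_lit 6, nat_lit 3, nat_lit 4, nat_lit 3, nat_lit 3, nat_lit 1])) (.node (nat_lit 0x2c2ace351e7f9dc) (.leaf ((nat_lit 0), [nat_lit 7, nat_lit 9, nat_lit 2, nat_lit 1, nat_lit 9, nat_lit 0, nat_lit 7, nat_lit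 8, nat_lit 6, nat_lit 7, nat_lit 2, nat_lit 4, nat_lit 2, nat_lit 0])) (.leaf ((nat_lit 0), [nat_lit 6, nat_lit 9, nat_lit 5, nat_lit 3, nat_lit 1, nat_lit 9, nat_lit 3, nat_lit 0, nat_lit 8, nat_lit 0, nat_lit 7, nat_lit 2, nat_lit 6, nat_lit 5, nat_lit 4, nat_lit 3, nat_lit 3, nat_lit 1]))))))
 (.node (nat_lit 0x2c35b3e45fa7d84) (.node (nat_lit 0x2c2db5e2909d11c) (.node (nat_lit 0x2c2c41efb6eaa04) (.leaf ((nat_lit 0), [nat_lit 2, nat_lit 2, nat_lit 9, nat_lit 1, nat_lit 9, nat_lit 3, nat_lit 0, nat_lit 8, nat_lit 7, nat_lit 2, nat_lit 4, nat_lit 7, nat_lit 6, nat_lit 5, nat_lit 6, nat_lit 5, nat_lit 4])) (.leaf ((nat_lit 0), [nat_lit 6, nat_lit 9, nat_lit 5, nat_lit 3, nat_lit 1, nat_lit 9, nat_lit 0, nat_lit 8, nat_lit 6, nat_lit 3, nat_lit 4, nat_lit 7, nat_lit 5, nat_lit 6, nat_lit 3, nat_lit 3, nat_lit 1]))) (.node (nat_lit 0x2c2eccc6b0f471c) (.leaf ((nat_lit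 0), [nat_lit 0, nat_lit 7, nat_lit 0, nat_lit 9, nat_lit 1, nat_lit 9, nat_lit 2, nat_lit 7, nat_lit 8, nat_lit 6, nat_lit 7, nat_lit 6, nat_lit 2, nat_lit 4, nat_lit 0])) (.node (nat_lit 0x2c2f29d7ee3ae70) (.leaf ((nat_lit 0), [nat_lit 6, nat_lit 9, nat_lit 2, nat_lit 1, nat_lit 9, nat_lit 7, nat_lit 8, nat_lit 6, nat_lit 1, nat_lit 7, nat_lit 2, nat_lit 6, nat_lit 3, nat_lit 3])) (.leaf ((nat_lit 0), [nat_lit 7, nat_lit 9, nat_lit 2, nat_lit 1, nat_lit 9, nat_lit 7, nat_lit 8, nat_lit 5, nat_lit 4, nat_lit 7, nat_lit 3, nat_lit 3, nat_lit 3, nat_lit 6, nat_lit 4])))))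
 (.node (nat_lit 0x2c3727d7395a1c4) (.node (nat_lit 0x2c3610e17d9151c) (.leaf ((nat_lit 0), [nat_lit 9, nat_lit 7, nat_lit 5, nat_lit 0, nat_lit 9, nat_lit 8, nat_lit 4, nat_lit 6, nat_lit 8, nat_lit 5, nat_lit 3, nat_lit 6, nat_lit 5, nat_lit 4, nat_lit 3, nat_lit 3, nat_lit 3, nat_lit 1])) (.leaf ((nat_lit 0), [nat_lit 2, nat_lit 2, nat_lit 9, nat_lit 1, nat_lit 9, nat_lit 7, nat_lit 2, nat_lit 8, nat_lit 1, nat_lit 7, nat_lit 4, nat_lit 0]))) (.node (nat_lit 0x2c3784bcce01db0) (.leaf ((nat_lit 0), [nat_lit 2, nat_lit 9, nat_lit 3, nat_lit 5, nat_lit 9, nat_lit 8, nat_lit 2, nat_lit 5, nat_lit 8, nat_lit 6, nat_lit 7, nat_lit 6, nat_lit 2, nat_lit 4, nat_lit 6, nat_lit 5])) (.node (nat_lit 0x2c3955abdfa4c5c) (.leaf ((nat_lit 0), [nat_lit 2, nat_lit 7, nat_lit 9, nat_lit 5, nat_lit 9, nat_lit 0, nat_lit 8, nat_lit 1, nat_lit 7, nat_lit 4, nat_lit 6, nat_lit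 2, nat_lit 0])) (.leaf ((nat_lit 0), [nat_lit 7, nat_lit 9, nat_lit 2, nat_lit 1, nat_lit 9, nat_lit 4, nat_lit 7, nat_lit 8, nat_lit 7, nat_lit 4, nat_lit 3, nat_lit 3, nat_lit 6, nat_lit 2])))))))
 (.node (nat_lit 0x2c4ac520396d044) (.node (nat_lit 0x2c44f51af36a21c) (.node (nat_lit 0x2c3c9a738ac01dc) (.node (nat_lit 0x2c3c3d5bd5adb44) (.leaf ((nat_lit 0), [nat_lit 2, nat_lit 2, nat_lit 9, nat_lit 0, nat_lit 9, nat_lit 2, nat_lit 2, nat_lit 8, nat_lit 6, nat_lit 7, nat_lit 2, nat_lit 4, nat_lit 3, nat_lit 6, nat_lit 5, nat_lit 2, nat_lit 0])) (.leaf ((nat_lit 0), [nat_lit 7, nat_lit 9, nat_lit 2, nat_lit 1, nat_lit 9, nat_lit 4, nat_lit 0, nat_lit 7, nat_lit 8, nat_lit 5, nat_lit 6, nat_lit 7, nat_lit 2, nat_lit 6, nat_lit 3, nat_lit 3, nat_lit 1]))) (.node (nat_lit 0x2c3db1504d5311c) (.leaf ((nat_lit 0), [nat_lit 2, nat_lit 9, nat_lit 3, nat_lit 5, nat_lit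 9, nat_lit 2, nat_lit 6, nat_lit 1, nat_lit 8, nat_lit 3, nat_lit 6, nat_lit 7, nat_lit 2, nat_lit 6, nat_lit 5, nat_lit 2, nat_lit 4])) (.node (nat_lit 0x2c3e0e68ba5f670) (.leaf ((nat_lit 0), [nat_lit 6, nat_lit 9, nat_lit 5, nat_lit 3, nat_lit 1, nat_lit 9, nat_lit 0, nat_lit 8, nat_lit 6, nat_lit 7, nat_lit 5, nat_lit 3, nat_lit 6, nat_lit 4, nat_lit 3, nat_lit 3, nat_lit 1])) (.leaf ((nat_lit 0), [nat_lit 2, nat_lit 7, nat_lit 9, nat_lit 5, nat_lit 9, nat_lit 2, nat_lit 7, nat_lit 6, nat_lit 8, nat_lit 3, nat_lit 4, nat_lit 7, nat_lit 5, nat_lit 6, nat_lit 5, nat_lit 3])))))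
 (.node (nat_lit 0x2c47230808eefdc) (.node (nat_lit 0x2c46c60aeb05844) (.leaf ((nat_lit 0), [nat_lit 2, nat_lit 2, nat_lit 9, nat_lit 0, nat_lit 9, nat_lit 1, nat_lit 7, nat_lit 8, nat_lit 3, nat_lit 6, nat_lit 7, nat_lit 2, nat_lit 2, nat_lit 1])) (.leaf ((nat_lit 0), [nat_lit 2, nat_lit 7, nat_lit 9, nat_lit 5, nat_lit 9, nat_lit 5, nat_lit 1, nat_lit 8, nat_lit 7, nat_lit 2, nat_lit 4, nat_lit 7, nat_lit 5, nat_lit 1]))) (.node (nat_lit 0x2c483a0a5852270) (.leaf ((nat_lit 0), [nat_lit 2, nat_lit 2, nat_lit 9, nat_lit 0, nat_lit 9, nat_lit 7, nat_lit 2, nat_lit 8, nat_lit 5, nat_lit 1, nat_lit 7, nat_lit 2, nat_lit 6, nat_lit 2, nat_lit 4, nat_lit 1])) (.node (nat_lit 0x2c49ae2a21a70b0) (.leaf ((nat_lit 0), [nat_lit 2, nat_lit 9, nat_lit 3, nat_lit 5, nat_lit 9, nat_lit 2, nat_lit 5, nat_lit 8, nat_lit 5, nat_lit 0, nat_lit 7, nat_lit 4, nat_lit 6, nat_lit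 3, nat_lit 1])) (.leaf ((nat_lit 0), [nat_lit 2, nat_lit 9, nat_lit 3, nat_lit 5, nat_lit 9, nat_lit 5, nat_lit 2, nat_lit 8, nat_lit 5, nat_lit 7, nat_lit 2, nat_lit 2, nat_lit 6, nat_lit 5, nat_lit 4, nat_lit 3, nat_lit 0]))))))
 (.node (nat_lit 0x2c55aaa1d2f89c4) (.node (nat_lit 0x2c4cf30fa4df29c) (.node (nat_lit 0x2c4c96313ffd344) (.leaf ((nat_lit 0), [nat_lit 2, nat_lit 2, nat_lit 9, nat_lit 1, nat_lit 9, nat_lit 3, nat_lit 0, nat_lit 8, nat_lit 5, nat_lit 6, nat_lit 7, nat_lit 6, nat_lit 4, nat_lit 2, nat_lit 2])) (.leaf ((nat_lit 0), [nat_lit 2, nat_lit 2, nat_lit 9, nat_lit 0, nat_lit 9, nat_lit 6, nat_lit 7, nat_lit 1, nat_lit 8, nat_lit 4, nat_lit 1, nat_lit 7, nat_lit 6, nat_lit 2, nat_lit 2, nat_lit 6, nat_lit 4, nat_lit 3]))) (.node (nat_lit 0x2c537c991253b5c) (.leaf ((nat_lit 0), [nat_lit 0, nat_lit 7, nat_lit 0, nat_lit 9, nat_lit 1, nat_lit 9,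 nat_lit 7, nat_lit 1, nat_lit 7, nat_lit 8, nat_lit 4, nat_lit 7, nat_lit 5, nat_lit 6, nat_lit 5, nat_lit 2, nat_lit 0])) (.node (nat_lit 0x2c53d996303ceb0) (.leaf ((nat_lit 0), [nat_lit 6, nat_lit 9, nat_lit 5, nat_lit 3, nat_lit 1, nat_lit 9, nat_lit 0, nat_lit 8, nat_lit 5, nat_lit 7, nat_lit 4, nat_lit 3, nat_lit 6, nat_lit 2, nat_lit 4, nat_lit 2, nat_lit 0])) (.leaf ((nat_lit 0), [nat_lit 0, nat_lit 7, nat_lit 0, nat_lit 9, nat_lit 1, nat_lit 9, nat_lit 7, nat_lit 1, nat_lit 7, nat_lit 8, nat_lit 5, nat_lit 4, nat_lit 7, nat_lit 2, nat_lit 6, nat_lit 4, nat_lit 2])))))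
 (.node (nat_lit 0x2c5892a5307b5f0) (.node (nat_lit 0x2c571e79018abf0) (.leaf ((nat_lit 0), [nat_lit 7, nat_lit 9, nat_lit 2, nat_lit 1, nat_lit 9, nat_lit 7, nat_lit 6, nat_lit 8, nat_lit 2, nat_lit 6, nat_lit 2, nat_lit 4, nat_lit 3, nat_lit 0])) (.leaf ((nat_lit 0), [nat_lit 0, nat_lit 7, nat_lit 0, nat_lit 9, nat_lit 1, nat_lit 9, nat_lit 8, nat_lit 2, nat_lit 6, nat_lit 3, nat_lit 8, nat_lit 3, nat_lit 4, nat_lit 6, nat_lit 5, nat_lit 3, nat_lit 0]))) (.node (nat_lit 0x2c5a06b0a7668f0) (.leaf ((nat_lit 0), [nat_lit 2, nat_lit 7, nat_lit 9, nat_lit 5, nat_lit 9, nat_lit 6, nat_lit 8, nat_lit 1, nat_lit 7, nat_lit 2, nat_lit 6, nat_lit 4, nat_lit 3, nat_lit 3, nat_lit 0])) (.node (nat_lit 0x2c5a63955615644) (.leaf ((nat_lit 0), [nat_lit 0, nat_lit 7, nat_lit 0, nat_lit 9, nat_lit 1, nat_lit 9, nat_lit 2, nat_lit 8, nat_lit 5, nat_lit 7, nat_lit 2, nat_lit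 4, nat_lit 3, nat_lit 6, nat_lit 4, nat_lit 2, nat_lit 2, nat_lit 0])) (.leaf ((nat_lit 0), [nat_lit 9, nat_lit 7, nat_lit 5, nat_lit 0, nat_lit 9, nat_lit 6, nat_lit 5, nat_lit 2, nat_lit 8, nat_lit 5, nat_lit 6, nat_lit 7, nat_lit 2, nat_lit 4]))))))))
 (.node (nat_lit 0x2c82583d0f2f784) (.node (nat_lit 0x2c708bd71720d70) (.node (nat_lit 0x2c66bd4e70363dc) (.node (nat_lit 0x2c63d50756d7384) (.node (nat_lit 0x2c626127888b19c) (.leaf ((nat_lit 0), [nat_lit 7, nat_lit 9, nat_lit 2, nat_lit 1, nat_lit 9, nat_lit 1, nat_lit 7, nat_lit 8, nat_lit 5, nat_lit 1, nat_lit 7, nat_lit 2, nat_lit 2, nat_lit 6, nat_lit 5, nat_lit 4, nat_lit 1])) (.leaf ((nat_lit 0), [nat_lit 6, nat_lit 9, nat_lit 2, nat_lit 1, nat_lit 9, nat_lit 7, nat_lit 5, nat_lit 6, nat_lit 8, nat_lit 3, nat_lit 4, nat_lit 7, nat_lit 6, nat_lit 4, nat_lit 3, nat_lit 6, nat_lit 0]))) (.node (nat_lit 0x2c6548fa3089930)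 (.leaf ((nat_lit 0), [nat_lit 9, nat_lit 7, nat_lit 5, nat_lit 0, nat_lit 9, nat_lit 4, nat_lit 8, nat_lit 1, nat_lit 8, nat_lit 5, nat_lit 6, nat_lit 7, nat_lit 4, nat_lit 6, nat_lit 5, nat_lit 3, nat_lit 1])) (.node (nat_lit 0x2c65a5f74e72c84) (.leaf ((nat_lit 0), [nat_lit 2, nat_lit 2, nat_lit 9, nat_lit 1, nat_lit 9, nat_lit 8, nat_lit 7, nat_lit 1, nat_lit 8, nat_lit 5, nat_lit 0, nat_lit 7, nat_lit 2, nat_lit 2, nat_lit 6])) (.leaf ((nat_lit 0), [nat_lit 9, nat_lit 7, nat_lit 5, nat_lit 0, nat_lit 9, nat_lit 7, nat_lit 0, nat_lit 8, nat_lit 6, nat_lit 7, nat_lit 4, nat_lit 6, nat_lit 2, nat_lit 2])))))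
 (.node (nat_lit 0x2c688e2c4264644) (.node (nat_lit 0x2c671a3968b2370) (.leaf ((nat_lit 0), [nat_lit 9, nat_lit 7, nat_lit 5, nat_lit 0, nat_lit 9, nat_lit 8, nat_lit 7, nat_lit 1, nat_lit 7, nat_lit 4, nat_lit 6, nat_lit 5, nat_lit 4, nat_lit 3, nat_lit 3, nat_lit 0])) (.leaf ((nat_lit 0), [nat_lit 2, nat_lit 2, nat_lit 9, nat_lit 0, nat_lit 9, nat_lit 8, nat_lit 2, nat_lit 6, nat_lit 8, nat_lit 0, nat_lit 7, nat_lit 4, nat_lit 3, nat_lit 6, nat_lit 5, nat_lit 2, nat_lit 2]))) (.node (nat_lit 0x2c6a5f1ebdebc9c) (.leaf ((nat_lit 0), [nat_lit 6, nat_lit 9, nat_lit 2, nat_lit 1, nat_lit 9, nat_lit 2, nat_lit 7, nat_lit 6, nat_lit 8, nat_lit 4, nat_lit 2, nat_lit 2, nat_lit 6, nat_lit 4, nat_lit 0])) (.node (nat_lit 0x2c702eda55348c4) (.leaf ((nat_lit 0), [nat_lit 6, nat_lit 9, nat_lit 5, nat_lit 3, nat_lit 1, nat_lit 9, nat_lit 0, nat_lit 8, nat_lit 5, nat_lit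 6, nat_lit 7, nat_lit 4, nat_lit 3, nat_lit 6, nat_lit 5, nat_lit 4, nat_lit 2, nat_lit 0])) (.leaf ((nat_lit 0), [nat_lit 6, nat_lit 9, nat_lit 2, nat_lit 1, nat_lit 9, nat_lit 8, nat_lit 5, nat_lit 0, nat_lit 8, nat_lit 6, nat_lit 5, nat_lit 7, nat_lit 5, nat_lit 6, nat_lit 5, nat_lit 3, nat_lit 4]))))))
 (.node (nat_lit 0x2c75a1a1ca4bb5c) (.node (nat_lit 0x2c725cc70ebc7dc) (.node (nat_lit 0x2c71ffca4cd0330) (.leaf ((nat_lit 0), [nat_lit 9, nat_lit 7, nat_lit 5, nat_lit 0, nat_lit 9, nat_lit 2, nat_lit 8, nat_lit 7, nat_lit 5, nat_lit 1, nat_lit 7, nat_lit 4, nat_lit 2, nat_lit 2, nat_lit 6, nat_lit 5, nat_lit 2, nat_lit 0])) (.leaf ((nat_lit 0), [nat_lit 2, nat_lit 9, nat_lit 3, nat_lit 5, nat_lit 9, nat_lit 4, nat_lit 7, nat_lit 6, nat_lit 8, nat_lit 7, nat_lit 1, nat_lit 7, nat_lit 3, nat_lit 3, nat_lit 6, nat_lit 4, nat_lit 3, nat_lit 1]))) (.node (nat_lit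 0x2c7373bd26828dc) (.leaf ((nat_lit 0), [nat_lit 2, nat_lit 2, nat_lit 9, nat_lit 0, nat_lit 9, nat_lit 7, nat_lit 8, nat_lit 7, nat_lit 1, nat_lit 8, nat_lit 4, nat_lit 7, nat_lit 2, nat_lit 4, nat_lit 3, nat_lit 0])) (.node (nat_lit 0x2c73d0b9e86e944) (.leaf ((nat_lit 0), [nat_lit 7, nat_lit 9, nat_lit 2, nat_lit 1, nat_lit 9, nat_lit 1, nat_lit 7, nat_lit 8, nat_lit 6, nat_lit 0, nat_lit 7, nat_lit 4, nat_lit 6, nat_lit 5, nat_lit 2, nat_lit 0])) (.leaf ((nat_lit 0), [nat_lit 0, nat_lit 7, nat_lit 0, nat_lit 9, nat_lit 1, nat_lit 9, nat_lit 8, nat_lit 7, nat_lit 1, nat_lit 8, nat_lit 5, nat_lit 7, nat_lit 4, nat_lit 2, nat_lit 2, nat_lit 6, nat_lit 3])))))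
 (.node (nat_lit 0x2c78e686f186784) (.node (nat_lit 0x2c77729193e8a30) (.leaf ((nat_lit 0), [nat_lit 7, nat_lit 9, nat_lit 2, nat_lit 1, nat_lit 9, nat_lit 7, nat_lit 8, nat_lit 7, nat_lit 3, nat_lit 4, nat_lit 6, nat_lit 5, nat_lit 3, nat_lit 3, nat_lit 3, nat_lit 0])) (.leaf ((nat_lit 0), [nat_lit 2, nat_lit 9, nat_lit 3, nat_lit 5, nat_lit 9, nat_lit 5, nat_lit 2, nat_lit 8, nat_lit 5, nat_lit 7, nat_lit 2, nat_lit 4, nat_lit 6]))) (.node (nat_lit 0x2c7f135985e78b0) (.leaf ((nat_lit 0), [nat_lit 6, nat_lit 9, nat_lit 2, nat_lit 1, nat_lit 9, nat_lit 1, nat_lit 7, nat_lit 8, nat_lit 4, nat_lit 7, nat_lit 6, nat_lit 4, nat_lit 3, nat_lit 6, nat_lit 2, nat_lit 4])) (.node (nat_lit 0x2c80e44aed7791c) (.leaf ((nat_lit 0), [nat_lit 6, nat_lit 9, nat_lit 2, nat_lit 1, nat_lit 9, nat_lit 3, nat_lit 7, nat_lit 5, nat_lit 8, nat_lit 7, nat_lit 5, nat_lit 6, nat_lit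 7, nat_lit 4, nat_lit 6, nat_lit 5, nat_lit 4, nat_lit 1])) (.leaf ((nat_lit 0), [nat_lit 2, nat_lit 9, nat_lit 3, nat_lit 5, nat_lit 9, nat_lit 8, nat_lit 2, nat_lit 5, nat_lit 8, nat_lit 5, nat_lit 4, nat_lit 7, nat_lit 5, nat_lit 6, nat_lit 4, nat_lit 1])))))))
 (.node (nat_lit 0x2c92b0b02d8bec4) (.node (nat_lit 0x2c8df7d0a0dbc04) (.node (nat_lit 0x2c86570cd0bb830) (.node (nat_lit 0x2c84861d071e95c) (.leaf ((nat_lit 0), [nat_lit 7, nat_lit 9, nat_lit 2, nat_lit 1, nat_lit 9, nat_lit 8, nat_lit 6, nat_lit 2, nat_lit 8, nat_lit 5, nat_lit 4, nat_lit 7, nat_lit 5, nat_lit 4, nat_lit 2, nat_lit 0])) (.leaf ((nat_lit 0), [nat_lit 0, nat_lit 7, nat_lit 0, nat_lit 9, nat_lit 1, nat_lit 9, nat_lit 8, nat_lit 6, nat_lit 2, nat_lit 8, nat_lit 7, nat_lit 3, nat_lit 4, nat_lit 6, nat_lit 5, nat_lit 4, nat_lit 0]))) (.node (nat_lit 0x2c87cb022e59584) (.leaf ((nat_lit 0),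 [nat_lit 2, nat_lit 2, nat_lit 9, nat_lit 0, nat_lit 9, nat_lit 3, nat_lit 5, nat_lit 6, nat_lit 8, nat_lit 4, nat_lit 0, nat_lit 7, nat_lit 3, nat_lit 6, nat_lit 4, nat_lit 2])) (.node (nat_lit 0x2c8d9ad0470cb30) (.leaf ((nat_lit 0), [nat_lit 9, nat_lit 7, nat_lit 5, nat_lit 0, nat_lit 9, nat_lit 7, nat_lit 8, nat_lit 5, nat_lit 6, nat_lit 7, nat_lit 5, nat_lit 6, nat_lit 5, nat_lit 3, nat_lit 4, nat_lit 0])) (.leaf ((nat_lit 0), [nat_lit 2, nat_lit 2, nat_lit 9, nat_lit 1, nat_lit 9, nat_lit 4, nat_lit 7, nat_lit 8, nat_lit 7, nat_lit 5, nat_lit 7, nat_lit 3, nat_lit 6, nat_lit 5, nat_lit 2, nat_lit 4, nat_lit 1])))))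
 (.node (nat_lit 0x2c8fc8c09877670) (.node (nat_lit 0x2c8f6bc1ae9cb9c) (.leaf ((nat_lit 0), [nat_lit 9, nat_lit 7, nat_lit 5, nat_lit 0, nat_lit 9, nat_lit 8, nat_lit 5, nat_lit 2, nat_lit 8, nat_lit 6, nat_lit 5, nat_lit 7, nat_lit 6, nat_lit 3, nat_lit 4, nat_lit 3, nat_lit 1])) (.leaf ((nat_lit 0), [nat_lit 2, nat_lit 7, nat_lit 9, nat_lit 5, nat_lit 9, nat_lit 2, nat_lit 5, nat_lit 8, nat_lit 6, nat_lit 3, nat_lit 4, nat_lit 7, nat_lit 3, nat_lit 6, nat_lit 5, nat_lit 2, nat_lit 1]))) (.node (nat_lit 0x2c90dfb3d054a04) (.leaf ((nat_lit 0), [nat_lit 2, nat_lit 2, nat_lit 9, nat_lit 0, nat_lit 9, nat_lit 5, nat_lit 0, nat_lit 8, nat_lit 6, nat_lit 1, nat_lit 7, nat_lit 6, nat_lit 3, nat_lit 4, nat_lit 6, nat_lit 2, nat_lit 4, nat_lit 0])) (.node (nat_lit 0x2c913cb37229c1c) (.leaf ((nat_lit 0), [nat_lit 6, nat_lit 9, nat_lit 5, nat_lit 3, nat_lit 1, nat_lit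 9, nat_lit 7, nat_lit 8, nat_lit 6, nat_lit 0, nat_lit 7, nat_lit 3, nat_lit 3, nat_lit 6, nat_lit 2, nat_lit 4])) (.leaf ((nat_lit 0), [nat_lit 0, nat_lit 7, nat_lit 0, nat_lit 9, nat_lit 1, nat_lit 9, nat_lit 3, nat_lit 7, nat_lit 5, nat_lit 8, nat_lit 4, nat_lit 1, nat_lit 7, nat_lit 3, nat_lit 3, nat_lit 3, nat_lit 1]))))))
 (.node (nat_lit 0x2c9652960a93184) (.node (nat_lit 0x2c94819f3f2eedc) (.node (nat_lit 0x2c930db0e35855c) (.leaf ((nat_lit 0), [nat_lit 2, nat_lit 2, nat_lit 9, nat_lit 1, nat_lit 9, nat_lit 7, nat_lit 1, nat_lit 7, nat_lit 8, nat_lit 7, nat_lit 1, nat_lit 7, nat_lit 2, nat_lit 4, nat_lit 6, nat_lit 5])) (.leaf ((nat_lit 0), [nat_lit 6, nat_lit 9, nat_lit 5, nat_lit 3, nat_lit 1, nat_lit 9, nat_lit 7, nat_lit 8, nat_lit 5, nat_lit 8, nat_lit 3, nat_lit 4, nat_lit 7, nat_lit 3, nat_lit 3, nat_lit 6]))) (.node (nat_lit 0x2c94dea0acf5430)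 (.leaf ((nat_lit 0), [nat_lit 6, nat_lit 9, nat_lit 5, nat_lit 3, nat_lit 1, nat_lit 9, nat_lit 3, nat_lit 0, nat_lit 8, nat_lit 3, nat_lit 6, nat_lit 7, nat_lit 6, nat_lit 3, nat_lit 3, nat_lit 6, nat_lit 3, nat_lit 4, nat_lit 3])) (.node (nat_lit 0x2c95f593e4d2930) (.leaf ((nat_lit 0), [nat_lit 2, nat_lit 7, nat_lit 9, nat_lit 5, nat_lit 9, nat_lit 2, nat_lit 1, nat_lit 8, nat_lit 6, nat_lit 1, nat_lit 7, nat_lit 4, nat_lit 2, nat_lit 6, nat_lit 3])) (.leaf ((nat_lit 0), [nat_lit 2, nat_lit 7, nat_lit 9, nat_lit 5, nat_lit 9, nat_lit 6, nat_lit 8, nat_lit 3, nat_lit 6, nat_lit 7, nat_lit 6, nat_lit 5, nat_lit 3, nat_lit 6, nat_lit 2, nat_lit 4])))))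
 (.node (nat_lit 0x2c9d394056ccbec) (.node (nat_lit 0x2c9d39384114720) (.leaf ((nat_lit 0), [nat_lit 2, nat_lit 2, nat_lit 9, nat_lit 1, nat_lit 9, nat_lit 1, nat_lit 7, nat_lit 8, nat_lit 4, nat_lit 0, nat_lit 7, nat_lit 6, nat_lit 3])) (.leaf ((nat_lit 0), [nat_lit 6, nat_lit 2, nat_lit 1, nat_lit 8, nat_lit 7, nat_lit 0, nat_lit 7, nat_lit 2, nat_lit 2, nat_lit 6, nat_lit 2]))) (.node (nat_lit 0x2c9d39486c8e604) (.leaf ((nat_lit 3), [nat_lit 6, nat_lit 9, nat_lit 5, nat_lit 9, nat_lit 8, nat_lit 6, nat_lit 2, nat_lit 8, nat_lit 4, nat_lit 6, nat_lit 5, nat_lit 4, nat_lit 2, nat_lit 0])) (.node (nat_lit 0x2c9e503080c1df4) (.leaf ((nat_lit 0), [nat_lit 4, nat_lit 1, nat_lit 9, nat_lit 5, nat_lit 9, nat_lit 2, nat_lit 5, nat_lit 8, nat_lit 0, nat_lit 7, nat_lit 4, nat_lit 2, nat_lit 2, nat_lit 6, nat_lit 5, nat_lit 3, nat_lit 3, nat_lit 0])) (.leaf ((nat_lit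 6), [nat_lit 2, nat_lit 8, nat_lit 5, nat_lit 7, nat_lit 5, nat_lit 0, nat_lit 7, nat_lit 2, nat_lit 4, nat_lit 3, nat_lit 6, nat_lit 3, nat_lit 1]))))))))))
 (.node (nat_lit 0x2cdde10f868ae34) (.node (nat_lit 0x2cbe51a79e45734) (.node (nat_lit 0x2cad91be98ce374) (.node (nat_lit 0x2ca2b6887cd490c) (.node (nat_lit 0x2ca07e1d684f4b4) (.node (nat_lit 0x2ca02109a71d174) (.node (nat_lit 0x2c9e503e5655fb0) (.leaf ((nat_lit 3), [nat_lit 1, nat_lit 9, nat_lit 5, nat_lit 9, nat_lit 2, nat_lit 2, nat_lit 8, nat_lit 4, nat_lit 1, nat_lit 7, nat_lit 6, nat_lit 5, nat_lit 6, nat_lit 3, nat_lit 3])) (.leaf ((nat_lit 2), [nat_lit 2, nat_lit 7, nat_lit 9, nat_lit 5, nat_lit 9, nat_lit 5, nat_lit 6, nat_lit 8, nat_lit 4, nat_lit 0, nat_lit 7, nat_lit 4, nat_lit 3, nat_lit 6, nat_lit 2]))) (.node (nat_lit 0x2ca0210f66eb91c) (.leaf ((nat_lit 0), [nat_lit 8, nat_lit 5, nat_lit 0,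 nat_lit 8, nat_lit 5, nat_lit 6, nat_lit 7, nat_lit 5, nat_lit 2, nat_lit 0])) (.node (nat_lit 0x2ca021177ca7118) (.leaf ((nat_lit 0), [nat_lit 4, nat_lit 1, nat_lit 9, nat_lit 5, nat_lit 9, nat_lit 0, nat_lit 8, nat_lit 7, nat_lit 1, nat_lit 8, nat_lit 7, nat_lit 2, nat_lit 6, nat_lit 5])) (.leaf ((nat_lit 1), [nat_lit 6, nat_lit 9, nat_lit 5, nat_lit 9, nat_lit 3, nat_lit 5, nat_lit 6, nat_lit 8, nat_lit 0, nat_lit 7, nat_lit 5, nat_lit 3, nat_lit 3])))))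
 (.node (nat_lit 0x2ca07e2b3ddc4b0) (.node (nat_lit 0x2ca07e25da04c6c) (.leaf ((nat_lit 3), [nat_lit 6, nat_lit 9, nat_lit 5, nat_lit 9, nat_lit 4, nat_lit 7, nat_lit 8, nat_lit 1, nat_lit 7, nat_lit 3, nat_lit 6, nat_lit 2, nat_lit 4, nat_lit 0])) (.leaf ((nat_lit 2), [nat_lit 7, nat_lit 9, nat_lit 2, nat_lit 1, nat_lit 9, nat_lit 3, nat_lit 4, nat_lit 7, nat_lit 5, nat_lit 3, nat_lit 6, nat_lit 2, nat_lit 2]))) (.node (nat_lit 0x2ca0e5988538d34) (.leaf ((nat_lit 5), [nat_lit 2, nat_lit 2, nat_lit 9, nat_lit 1, nat_lit 9, nat_lit 0, nat_lit 8, nat_lit 7, nat_lit 1, nat_lit 8, nat_lit 6, nat_lit 4, nat_lit 3, nat_lit 6, nat_lit 2, nat_lit 4, nat_lit 2, nat_lit 0])) (.node (nat_lit 0x2ca2597f554c734) (.leaf ((nat_lit 0), [nat_lit 7, nat_lit 9, nat_lit 2, nat_lit 1, nat_lit 9, nat_lit 4, nat_lit 7, nat_lit 8, nat_lit 1, nat_lit 7, nat_lit 4, nat_lit 6, nat_lit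 2, nat_lit 1])) (.leaf ((nat_lit 0), [nat_lit 2, nat_lit 2, nat_lit 9, nat_lit 0, nat_lit 9, nat_lit 5, nat_lit 0, nat_lit 8, nat_lit 5, nat_lit 6, nat_lit 7, nat_lit 4, nat_lit 2, nat_lit 2, nat_lit 6, nat_lit 4, nat_lit 2]))))))
 (.node (nat_lit 0x2cac1dbb65a0fc0) (.node (nat_lit 0x2cabc0a7a46edec) (.node (nat_lit 0x2ca4877aca5d260) (.leaf ((nat_lit 0), [nat_lit 0, nat_lit 7, nat_lit 0, nat_lit 9, nat_lit 1, nat_lit 9, nat_lit 2, nat_lit 7, nat_lit 6, nat_lit 8, nat_lit 4, nat_lit 7, nat_lit 3, nat_lit 4, nat_lit 3, nat_lit 3, nat_lit 0])) (.leaf ((nat_lit 0), [nat_lit 6, nat_lit 9, nat_lit 5, nat_lit 3, nat_lit 1, nat_lit 9, nat_lit 1, nat_lit 7, nat_lit 5, nat_lit 8, nat_lit 6, nat_lit 0, nat_lit 7, nat_lit 6, nat_lit 2, nat_lit 4, nat_lit 0]))) (.node (nat_lit 0x2cabc0ad6446ae0) (.leaf ((nat_lit 1), [nat_lit 1, nat_lit 9, nat_lit 5, nat_lit 9, nat_lit 4,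 nat_lit 6, nat_lit 8, nat_lit 6, nat_lit 5, nat_lit 3, nat_lit 6, nat_lit 2, nat_lit 4, nat_lit 1])) (.node (nat_lit 0x2cabc0b57a02004) (.leaf ((nat_lit 0), [nat_lit 3, nat_lit 7, nat_lit 8, nat_lit 6, nat_lit 1, nat_lit 7, nat_lit 4, nat_lit 2, nat_lit 2, nat_lit 6, nat_lit 3, nat_lit 0])) (.leaf ((nat_lit 0), [nat_lit 4, nat_lit 1, nat_lit 9, nat_lit 5, nat_lit 9, nat_lit 3, nat_lit 8, nat_lit 7, nat_lit 1, nat_lit 8, nat_lit 7, nat_lit 5, nat_lit 1, nat_lit 7, nat_lit 6, nat_lit 2, nat_lit 4, nat_lit 6, nat_lit 0])))))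
 (.node (nat_lit 0x2cac1dc93b377e0) (.node (nat_lit 0x2cac1dc3d75ff9c) (.leaf ((nat_lit 2), [nat_lit 5, nat_lit 0, nat_lit 7, nat_lit 8, nat_lit 7, nat_lit 6, nat_lit 4, nat_lit 2, nat_lit 6, nat_lit 4, nat_lit 2, nat_lit 2])) (.leaf ((nat_lit 5), [nat_lit 6, nat_lit 9, nat_lit 2, nat_lit 1, nat_lit 9, nat_lit 7, nat_lit 6, nat_lit 8, nat_lit 2, nat_lit 4, nat_lit 7, nat_lit 5]))) (.node (nat_lit 0x2cad91ae6d51cc0) (.leaf ((nat_lit 3), [nat_lit 6, nat_lit 9, nat_lit 5, nat_lit 9, nat_lit 6, nat_lit 2, nat_lit 8, nat_lit 5, nat_lit 6, nat_lit 7, nat_lit 6, nat_lit 4, nat_lit 3, nat_lit 6, nat_lit 5, nat_lit 3, nat_lit 3])) (.node (nat_lit 0x2cad91b683139b0) (.leaf ((nat_lit 3), [nat_lit 6, nat_lit 9, nat_lit 5, nat_lit 9, nat_lit 2, nat_lit 5, nat_lit 8, nat_lit 6, nat_lit 5, nat_lit 6, nat_lit 7, nat_lit 2, nat_lit 4, nat_lit 6, nat_lit 2])) (.leaf ((nat_lit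 0), [nat_lit 4, nat_lit 1, nat_lit 9, nat_lit 5, nat_lit 9, nat_lit 7, nat_lit 1, nat_lit 7, nat_lit 8, nat_lit 7, nat_lit 2, nat_lit 4, nat_lit 7, nat_lit 3, nat_lit 4, nat_lit 6, nat_lit 2])))))))
 (.node (nat_lit 0x2cbaa54f6fd95ec) (.node (nat_lit 0x2cb13df3345ae74) (.node (nat_lit 0x2caf62a67aaf41c) (.node (nat_lit 0x2caf62a08cdc198) (.leaf ((nat_lit 0), [nat_lit 3, nat_lit 7, nat_lit 8, nat_lit 5, nat_lit 4, nat_lit 7, nat_lit 2, nat_lit 2, nat_lit 6, nat_lit 4, nat_lit 1])) (.leaf ((nat_lit 3), [nat_lit 1, nat_lit 9, nat_lit 5, nat_lit 9, nat_lit 7, nat_lit 1, nat_lit 8, nat_lit 3, nat_lit 6, nat_lit 7, nat_lit 5, nat_lit 2, nat_lit 4, nat_lit 3, nat_lit 1]))) (.node (nat_lit 0x2caf62ae6272574) (.leaf ((nat_lit 2), [nat_lit 9, nat_lit 7, nat_lit 5, nat_lit 0, nat_lit 9, nat_lit 3, nat_lit 0, nat_lit 8, nat_lit 6, nat_lit 7, nat_lit 5, nat_lit 6, nat_lit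 3, nat_lit 4, nat_lit 3, nat_lit 3])) (.node (nat_lit 0x2cafca13940d274) (.leaf ((nat_lit 6), [nat_lit 7, nat_lit 9, nat_lit 4, nat_lit 9, nat_lit 0, nat_lit 7, nat_lit 8, nat_lit 6, nat_lit 7, nat_lit 6, nat_lit 5, nat_lit 6, nat_lit 4, nat_lit 3, nat_lit 1])) (.leaf ((nat_lit 0), [nat_lit 2, nat_lit 9, nat_lit 3, nat_lit 5, nat_lit 9, nat_lit 8, nat_lit 5, nat_lit 2, nat_lit 8, nat_lit 6, nat_lit 7, nat_lit 6, nat_lit 2, nat_lit 4, nat_lit 3])))))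
 (.node (nat_lit 0x2cb2b1fc275a860) (.node (nat_lit 0x2cb19b038ba8e4c) (.leaf ((nat_lit 0), [nat_lit 9, nat_lit 7, nat_lit 5, nat_lit 0, nat_lit 9, nat_lit 2, nat_lit 2, nat_lit 8, nat_lit 5, nat_lit 0, nat_lit 7, nat_lit 2, nat_lit 4, nat_lit 3, nat_lit 6, nat_lit 3])) (.leaf ((nat_lit 0), [nat_lit 2, nat_lit 2, nat_lit 9, nat_lit 0, nat_lit 9, nat_lit 1, nat_lit 7, nat_lit 8, nat_lit 5, nat_lit 1, nat_lit 7, nat_lit 2, nat_lit 2, nat_lit 6, nat_lit 3, nat_lit 3, nat_lit 3]))) (.node (nat_lit 0x2cbaa5419a4c484) (.leaf ((nat_lit 0), [nat_lit 2, nat_lit 7, nat_lit 9, nat_lit 5, nat_lit 9, nat_lit 5, nat_lit 8, nat_lit 5, nat_lit 8, nat_lit 6, nat_lit 5, nat_lit 1, nat_lit 7, nat_lit 5, nat_lit 3, nat_lit 4])) (.node (nat_lit 0x2cbaa547881f9e0) (.leaf ((nat_lit 2), [nat_lit 6, nat_lit 9, nat_lit 5, nat_lit 9, nat_lit 7, nat_lit 6, nat_lit 8, nat_lit 2, nat_lit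 4, nat_lit 7, nat_lit 2, nat_lit 2, nat_lit 6, nat_lit 2, nat_lit 4, nat_lit 1])) (.leaf ((nat_lit 6), [nat_lit 5, nat_lit 4, nat_lit 9, nat_lit 1, nat_lit 9, nat_lit 1, nat_lit 7, nat_lit 5, nat_lit 8, nat_lit 0, nat_lit 7, nat_lit 6, nat_lit 4, nat_lit 2, nat_lit 0]))))))
 (.node (nat_lit 0x2cbc763a039fa34) (.node (nat_lit 0x2cbc19239084080) (.node (nat_lit 0x2cbc191dd0b5bb0) (.leaf ((nat_lit 3), [nat_lit 1, nat_lit 9, nat_lit 5, nat_lit 9, nat_lit 2, nat_lit 2, nat_lit 8, nat_lit 6, nat_lit 7, nat_lit 6, nat_lit 3, nat_lit 3, nat_lit 6, nat_lit 5, nat_lit 2, nat_lit 2])) (.leaf ((nat_lit 0), [nat_lit 4, nat_lit 1, nat_lit 9, nat_lit 5, nat_lit 9, nat_lit 2, nat_lit 5, nat_lit 8, nat_lit 7, nat_lit 4, nat_lit 3, nat_lit 6, nat_lit 4, nat_lit 1]))) (.node (nat_lit 0x2cbc192ba641d74) (.leaf ((nat_lit 1), [nat_lit 6, nat_lit 9, nat_lit 5, nat_lit 9, nat_lit 5,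 nat_lit 8, nat_lit 5, nat_lit 7, nat_lit 4, nat_lit 6, nat_lit 5, nat_lit 3, nat_lit 1])) (.node (nat_lit 0x2cbc763191e7d84) (.leaf ((nat_lit 0), [nat_lit 6, nat_lit 2, nat_lit 1, nat_lit 8, nat_lit 7, nat_lit 5, nat_lit 4, nat_lit 3, nat_lit 3, nat_lit 1])) (.leaf ((nat_lit 5), [nat_lit 4, nat_lit 1, nat_lit 9, nat_lit 5, nat_lit 9, nat_lit 7, nat_lit 6, nat_lit 8, nat_lit 6, nat_lit 5, nat_lit 0, nat_lit 7, nat_lit 6, nat_lit 2, nat_lit 1])))))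
 (.node (nat_lit 0x2cbdea249998d5c) (.node (nat_lit 0x2cbc763f6775058) (.leaf ((nat_lit 3), [nat_lit 6, nat_lit 9, nat_lit 5, nat_lit 9, nat_lit 2, nat_lit 5, nat_lit 8, nat_lit 1, nat_lit 7, nat_lit 6, nat_lit 2, nat_lit 4, nat_lit 6, nat_lit 3])) (.leaf ((nat_lit 2), [nat_lit 7, nat_lit 9, nat_lit 2, nat_lit 1, nat_lit 9, nat_lit 8, nat_lit 0, nat_lit 8, nat_lit 6, nat_lit 3, nat_lit 4, nat_lit 3, nat_lit 3, nat_lit 1]))) (.node (nat_lit 0x2cbdea2caf5a774) (.leaf ((nat_lit 0), [nat_lit 4, nat_lit 1, nat_lit 9, nat_lit 5, nat_lit 9, nat_lit 3, nat_lit 6, nat_lit 8, nat_lit 3, nat_lit 6, nat_lit 7, nat_lit 4])) (.node (nat_lit 0x2cbdea34c512f18) (.leaf ((nat_lit 0), [nat_lit 8, nat_lit 5, nat_lit 1, nat_lit 8, nat_lit 7, nat_lit 5, nat_lit 7, nat_lit 6, nat_lit 4, nat_lit 2, nat_lit 6, nat_lit 3])) (.leaf ((nat_lit 3), [nat_lit 6, nat_lit 9, nat_lit 5, nat_lit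 9, nat_lit 3, nat_lit 3, nat_lit 8, nat_lit 7, nat_lit 6, nat_lit 4, nat_lit 2, nat_lit 6, nat_lit 4, nat_lit 2, nat_lit 2, nat_lit 0]))))))))
 (.node (nat_lit 0x2cd0139ae8f5304) (.node (nat_lit 0x2ccd2bac39d6340) (.node (nat_lit 0x2cc8204dea408cc) (.node (nat_lit 0x2cc0229795e130c) (.node (nat_lit 0x2cbfc5800ecd534) (.leaf ((nat_lit 0), [nat_lit 6, nat_lit 9, nat_lit 2, nat_lit 1, nat_lit 9, nat_lit 7, nat_lit 5, nat_lit 8, nat_lit 1, nat_lit 8, nat_lit 7, nat_lit 5, nat_lit 7, nat_lit 4, nat_lit 3])) (.leaf ((nat_lit 0), [nat_lit 0, nat_lit 7, nat_lit 0, nat_lit 9, nat_lit 1, nat_lit 9, nat_lit 6, nat_lit 2, nat_lit 8, nat_lit 7, nat_lit 5, nat_lit 6, nat_lit 7, nat_lit 5, nat_lit 6, nat_lit 1]))) (.node (nat_lit 0x2cc1968cc5807a0) (.leaf ((nat_lit 0), [nat_lit 9, nat_lit 7, nat_lit 5, nat_lit 0, nat_lit 9, nat_lit 8, nat_lit 5, nat_lit 2, nat_lit 8, nat_lit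 6, nat_lit 3, nat_lit 4, nat_lit 3, nat_lit 3, nat_lit 1])) (.node (nat_lit 0x2cc7c3457ab2b60) (.leaf ((nat_lit 0), [nat_lit 2, nat_lit 2, nat_lit 9, nat_lit 1, nat_lit 9, nat_lit 7, nat_lit 8, nat_lit 1, nat_lit 8, nat_lit 6, nat_lit 7, nat_lit 3, nat_lit 6, nat_lit 5, nat_lit 2])) (.leaf ((nat_lit 0), [nat_lit 2, nat_lit 9, nat_lit 3, nat_lit 5, nat_lit 9, nat_lit 8, nat_lit 0, nat_lit 8, nat_lit 6, nat_lit 5, nat_lit 7, nat_lit 5, nat_lit 3, nat_lit 6, nat_lit 5, nat_lit 3])))))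
 (.node (nat_lit 0x2cc9f13262391cc) (.node (nat_lit 0x2cc99435444fa34) (.leaf ((nat_lit 0), [nat_lit 2, nat_lit 7, nat_lit 9, nat_lit 5, nat_lit 9, nat_lit 3, nat_lit 5, nat_lit 8, nat_lit 7, nat_lit 6, nat_lit 4, nat_lit 3, nat_lit 6, nat_lit 5, nat_lit 4, nat_lit 3])) (.leaf ((nat_lit 0), [nat_lit 2, nat_lit 2, nat_lit 9, nat_lit 0, nat_lit 9, nat_lit 5, nat_lit 0, nat_lit 8, nat_lit 5, nat_lit 0, nat_lit 7, nat_lit 2, nat_lit 2, nat_lit 6, nat_lit 4, nat_lit 2, nat_lit 0]))) (.node (nat_lit 0x2ccbc22e3574ae0) (.leaf ((nat_lit 0), [nat_lit 2, nat_lit 7, nat_lit 9, nat_lit 5, nat_lit 9, nat_lit 6, nat_lit 8, nat_lit 6, nat_lit 7, nat_lit 2, nat_lit 6, nat_lit 2, nat_lit 2, nat_lit 0])) (.node (nat_lit 0x2ccd2ba4241dfe0) (.leaf ((nat_lit 0), [nat_lit 2, nat_lit 9, nat_lit 3, nat_lit 5, nat_lit 9, nat_lit 3, nat_lit 7, nat_lit 5, nat_lit 8, nat_lit 7, nat_lit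 4, nat_lit 2, nat_lit 6, nat_lit 5, nat_lit 4, nat_lit 0])) (.leaf ((nat_lit 3), [nat_lit 1, nat_lit 9, nat_lit 5, nat_lit 9, nat_lit 6, nat_lit 1, nat_lit 8, nat_lit 5, nat_lit 6, nat_lit 7, nat_lit 6, nat_lit 3, nat_lit 3, nat_lit 6, nat_lit 3]))))))
 (.node (nat_lit 0x2cce9f816e7e8b4) (.node (nat_lit 0x2ccd88892eca020) (.node (nat_lit 0x2ccd2bb44f9819c) (.leaf ((nat_lit 2), [nat_lit 5, nat_lit 9, nat_lit 1, nat_lit 9, nat_lit 7, nat_lit 2, nat_lit 8, nat_lit 5, nat_lit 6, nat_lit 7, nat_lit 4, nat_lit 6, nat_lit 5, nat_lit 2, nat_lit 4, nat_lit 2])) (.leaf ((nat_lit 0), [nat_lit 6, nat_lit 9, nat_lit 5, nat_lit 9, nat_lit 8, nat_lit 2, nat_lit 6, nat_lit 8, nat_lit 1, nat_lit 7, nat_lit 5, nat_lit 6, nat_lit 5, nat_lit 4, nat_lit 3]))) (.node (nat_lit 0x2ccd889144856b0) (.leaf ((nat_lit 2), [nat_lit 9, nat_lit 7, nat_lit 5, nat_lit 0, nat_lit 9, nat_lit 6,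 nat_lit 8, nat_lit 3, nat_lit 3, nat_lit 6, nat_lit 5, nat_lit 1])) (.node (nat_lit 0x2ccd88995a41018) (.leaf ((nat_lit 3), [nat_lit 2, nat_lit 6, nat_lit 0, nat_lit 8, nat_lit 6, nat_lit 7, nat_lit 2, nat_lit 2, nat_lit 6, nat_lit 2])) (.leaf ((nat_lit 6), [nat_lit 5, nat_lit 1, nat_lit 9, nat_lit 8, nat_lit 7, nat_lit 0, nat_lit 8, nat_lit 4, nat_lit 7, nat_lit 5, nat_lit 3, nat_lit 6, nat_lit 5, nat_lit 4])))))
 (.node (nat_lit 0x2cce9f8f4408580) (.node (nat_lit 0x2cce9f872e4cd84) (.leaf ((nat_lit 2), [nat_lit 2, nat_lit 5, nat_lit 8, nat_lit 6, nat_lit 3, nat_lit 4, nat_lit 7, nat_lit 4, nat_lit 2, nat_lit 2, nat_lit 6, nat_lit 5, nat_lit 4, nat_lit 3, nat_lit 3])) (.leaf ((nat_lit 0), [nat_lit 4, nat_lit 1, nat_lit 9, nat_lit 5, nat_lit 9, nat_lit 3, nat_lit 5, nat_lit 8, nat_lit 4, nat_lit 3, nat_lit 6, nat_lit 4]))) (.node (nat_lit 0x2cd0138d13612b4) (.leaf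 ((nat_lit 0), [nat_lit 8, nat_lit 5, nat_lit 0, nat_lit 8, nat_lit 5, nat_lit 2, nat_lit 4, nat_lit 2])) (.node (nat_lit 0x2cd013930132318) (.leaf ((nat_lit 1), [nat_lit 6, nat_lit 9, nat_lit 5, nat_lit 9, nat_lit 4, nat_lit 7, nat_lit 8, nat_lit 7, nat_lit 5, nat_lit 6, nat_lit 7, nat_lit 5, nat_lit 6, nat_lit 5, nat_lit 2])) (.leaf ((nat_lit 1), [nat_lit 6, nat_lit 9, nat_lit 5, nat_lit 9, nat_lit 2, nat_lit 2, nat_lit 8, nat_lit 6, nat_lit 0, nat_lit 7, nat_lit 4, nat_lit 3, nat_lit 3, nat_lit 6, nat_lit 3])))))))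
 (.node (nat_lit 0x2cdc102dee7b2a0) (.node (nat_lit 0x2cd704d7869f2cc) (.node (nat_lit 0x2cd07079a9d43dc) (.node (nat_lit 0x2cd070713814734) (.leaf ((nat_lit 0), [nat_lit 1, nat_lit 9, nat_lit 5, nat_lit 9, nat_lit 3, nat_lit 1, nat_lit 8, nat_lit 6, nat_lit 3, nat_lit 4, nat_lit 7, nat_lit 4, nat_lit 2, nat_lit 6, nat_lit 3, nat_lit 4])) (.leaf ((nat_lit 1), [nat_lit 1, nat_lit 9, nat_lit 5, nat_lit 9, nat_lit 5, nat_lit 6, nat_lit 8, nat_lit 7, nat_lit 3, nat_lit 6, nat_lit 2]))) (.node (nat_lit 0x2cd0707f3ba3fec) (.leaf ((nat_lit 0), [nat_lit 4, nat_lit 1, nat_lit 9, nat_lit 5, nat_lit 9, nat_lit 8, nat_lit 7, nat_lit 0, nat_lit 8, nat_lit 0, nat_lit 7, nat_lit 2, nat_lit 6, nat_lit 5, nat_lit 3, nat_lit 3, nat_lit 3])) (.node (nat_lit 0x2cd6a7c089870a0) (.leaf ((nat_lit 0), [nat_lit 0, nat_lit 8, nat_lit 6, nat_lit 3, nat_lit 8, nat_lit 4, nat_lit 0, nat_lit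 7, nat_lit 6, nat_lit 3, nat_lit 4])) (.leaf ((nat_lit 0), [nat_lit 7, nat_lit 9, nat_lit 2, nat_lit 1, nat_lit 9, nat_lit 7, nat_lit 5, nat_lit 8, nat_lit 4, nat_lit 1, nat_lit 7, nat_lit 5, nat_lit 6, nat_lit 3, nat_lit 3, nat_lit 1])))))
 (.node (nat_lit 0x2cd8d5ad9f0bfcc) (.node (nat_lit 0x2cd878b08122834) (.leaf ((nat_lit 0), [nat_lit 6, nat_lit 9, nat_lit 5, nat_lit 3, nat_lit 1, nat_lit 9, nat_lit 5, nat_lit 1, nat_lit 8, nat_lit 6, nat_lit 5, nat_lit 6, nat_lit 7, nat_lit 6, nat_lit 4, nat_lit 0])) (.leaf ((nat_lit 0), [nat_lit 0, nat_lit 7, nat_lit 0, nat_lit 9, nat_lit 1, nat_lit 9, nat_lit 3, nat_lit 8, nat_lit 6, nat_lit 1, nat_lit 8, nat_lit 7, nat_lit 5, nat_lit 4, nat_lit 3, nat_lit 0]))) (.node (nat_lit 0x2cda49bae1e88e0) (.leaf ((nat_lit 0), [nat_lit 6, nat_lit 9, nat_lit 5, nat_lit 3, nat_lit 1, nat_lit 9, nat_lit 5, nat_lit 7, nat_lit 5, nat_lit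 8, nat_lit 2, nat_lit 4, nat_lit 6, nat_lit 5, nat_lit 3])) (.node (nat_lit 0x2cdc102800a801c) (.leaf ((nat_lit 0), [nat_lit 7, nat_lit 9, nat_lit 2, nat_lit 1, nat_lit 9, nat_lit 1, nat_lit 7, nat_lit 8, nat_lit 6, nat_lit 3, nat_lit 4, nat_lit 7, nat_lit 2, nat_lit 4, nat_lit 6, nat_lit 2, nat_lit 4])) (.leaf ((nat_lit 0), [nat_lit 1, nat_lit 9, nat_lit 5, nat_lit 9, nat_lit 7, nat_lit 5, nat_lit 1, nat_lit 8, nat_lit 4, nat_lit 1, nat_lit 7, nat_lit 6, nat_lit 4, nat_lit 2, nat_lit 6, nat_lit 4, nat_lit 1]))))))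
 (.node (nat_lit 0x2cdd841a505e8b0) (.node (nat_lit 0x2cdc6d0c255b330) (.node (nat_lit 0x2cdc1035d634d40) (.leaf ((nat_lit 1), [nat_lit 1, nat_lit 9, nat_lit 5, nat_lit 9, nat_lit 5, nat_lit 2, nat_lit 8, nat_lit 2, nat_lit 4, nat_lit 6, nat_lit 2, nat_lit 2, nat_lit 0])) (.leaf ((nat_lit 1), [nat_lit 6, nat_lit 9, nat_lit 5, nat_lit 9, nat_lit 6, nat_lit 1, nat_lit 8, nat_lit 6, nat_lit 5, nat_lit 0, nat_lit 7, nat_lit 5, nat_lit 3, nat_lit 6, nat_lit 2, nat_lit 0]))) (.node (nat_lit 0x2cdc6d149713e18) (.leaf ((nat_lit 0), [nat_lit 4, nat_lit 1, nat_lit 9, nat_lit 5, nat_lit 9, nat_lit 0, nat_lit 8, nat_lit 6, nat_lit 1, nat_lit 8, nat_lit 6, nat_lit 3, nat_lit 4, nat_lit 6, nat_lit 4, nat_lit 2, nat_lit 2])) (.node (nat_lit 0x2cdc6d1a28ed0e0) (.leaf ((nat_lit 0), [nat_lit 3, nat_lit 7, nat_lit 8, nat_lit 6, nat_lit 0, nat_lit 7, nat_lit 2, nat_lit 4, nat_lit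 3, nat_lit 1])) (.leaf ((nat_lit 1), [nat_lit 1, nat_lit 9, nat_lit 5, nat_lit 9, nat_lit 5, nat_lit 6, nat_lit 8, nat_lit 4, nat_lit 6, nat_lit 5, nat_lit 2, nat_lit 4, nat_lit 2, nat_lit 0])))))
 (.node (nat_lit 0x2cdd842a7bd8a6c) (.node (nat_lit 0x2cdd84226620434) (.leaf ((nat_lit 0), [nat_lit 6, nat_lit 9, nat_lit 5, nat_lit 9, nat_lit 5, nat_lit 1, nat_lit 8, nat_lit 1, nat_lit 7, nat_lit 4, nat_lit 3, nat_lit 3, nat_lit 3, nat_lit 0])) (.leaf ((nat_lit 3), [nat_lit 1, nat_lit 9, nat_lit 5, nat_lit 9, nat_lit 5, nat_lit 7, nat_lit 8, nat_lit 4, nat_lit 0, nat_lit 7, nat_lit 6, nat_lit 5, nat_lit 6, nat_lit 5, nat_lit 2, nat_lit 2, nat_lit 0]))) (.node (nat_lit 0x2cdde0ff5b0a784) (.leaf ((nat_lit 2), [nat_lit 9, nat_lit 5, nat_lit 8, nat_lit 3, nat_lit 9, nat_lit 5, nat_lit 1, nat_lit 8, nat_lit 5, nat_lit 4, nat_lit 7, nat_lit 4])) (.node (nat_lit 0x2cdde10770c5f80)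 (.leaf ((nat_lit 3), [nat_lit 5, nat_lit 7, nat_lit 6, nat_lit 8, nat_lit 6, nat_lit 7, nat_lit 5, nat_lit 6, nat_lit 4, nat_lit 3, nat_lit 1])) (.leaf ((nat_lit 6), [nat_lit 6, nat_lit 8, nat_lit 2, nat_lit 1, nat_lit 9, nat_lit 1, nat_lit 7, nat_lit 6, nat_lit 4, nat_lit 3, nat_lit 6, nat_lit 2])))))))))
 (.node (nat_lit 0x2d3d89de6e0f240) (.node (nat_lit 0x2ceddca0a81b834) (.node (nat_lit 0x2cea979b57ebe20) (.node (nat_lit 0x2ce58c4e75c2e0c) (.node (nat_lit 0x2cdfb1f73a6312c) (.node (nat_lit 0x2cdfb1f17a94c5c) (.leaf ((nat_lit 2), [nat_lit 6, nat_lit 9, nat_lit 2, nat_lit 1, nat_lit 9, nat_lit 5, nat_lit 2, nat_lit 8, nat_lit 6, nat_lit 5, nat_lit 6, nat_lit 7, nat_lit 6, nat_lit 5, nat_lit 3, nat_lit 6, nat_lit 5, nat_lit 3, nat_lit 3])) (.leaf ((nat_lit 0), [nat_lit 4, nat_lit 1, nat_lit 9, nat_lit 5, nat_lit 9, nat_lit 3, nat_lit 5, nat_lit 8, nat_lit 7,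 nat_lit 5, nat_lit 0, nat_lit 7, nat_lit 4, nat_lit 2, nat_lit 2, nat_lit 6, nat_lit 5, nat_lit 0]))) (.node (nat_lit 0x2cdfb1ff5020cb4) (.leaf ((nat_lit 0), [nat_lit 8, nat_lit 6, nat_lit 5, nat_lit 6, nat_lit 7, nat_lit 2, nat_lit 4, nat_lit 6, nat_lit 5, nat_lit 3, nat_lit 1])) (.node (nat_lit 0x2ce52f3f046db60) (.leaf ((nat_lit 2), [nat_lit 4, nat_lit 9, nat_lit 1, nat_lit 9, nat_lit 1, nat_lit 7, nat_lit 8, nat_lit 7, nat_lit 5, nat_lit 6, nat_lit 7, nat_lit 4, nat_lit 6, nat_lit 4, nat_lit 3, nat_lit 1])) (.leaf ((nat_lit 0), [nat_lit 6, nat_lit 9, nat_lit 2, nat_lit 1, nat_lit 9, nat_lit 8, nat_lit 5, nat_lit 0, nat_lit 8, nat_lit 5, nat_lit 4, nat_lit 7, nat_lit 5, nat_lit 3, nat_lit 6, nat_lit 2])))))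
 (.node (nat_lit 0x2ce75d2bbdf590c) (.node (nat_lit 0x2ce7002ea00c174) (.leaf ((nat_lit 0), [nat_lit 2, nat_lit 2, nat_lit 9, nat_lit 1, nat_lit 9, nat_lit 3, nat_lit 6, nat_lit 3, nat_lit 8, nat_lit 3, nat_lit 6, nat_lit 7, nat_lit 6, nat_lit 5, nat_lit 4, nat_lit 3])) (.leaf ((nat_lit 0), [nat_lit 9, nat_lit 7, nat_lit 5, nat_lit 0, nat_lit 9, nat_lit 2, nat_lit 1, nat_lit 8, nat_lit 3, nat_lit 4, nat_lit 6, nat_lit 3, nat_lit 3, nat_lit 3]))) (.node (nat_lit 0x2ce87434e121820) (.leaf ((nat_lit 0), [nat_lit 2, nat_lit 2, nat_lit 9, nat_lit 1, nat_lit 9, nat_lit 2, nat_lit 8, nat_lit 1, nat_lit 7, nat_lit 4, nat_lit 6, nat_lit 5, nat_lit 2, nat_lit 4, nat_lit 3, nat_lit 1])) (.node (nat_lit 0x2cea97959814298) (.leaf ((nat_lit 0), [nat_lit 6, nat_lit 9, nat_lit 2, nat_lit 1, nat_lit 9, nat_lit 3, nat_lit 7, nat_lit 8, nat_lit 6, nat_lit 5, nat_lit 6, nat_lit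 7, nat_lit 6, nat_lit 5, nat_lit 4, nat_lit 1])) (.leaf ((nat_lit 0), [nat_lit 5, nat_lit 8, nat_lit 5, nat_lit 8, nat_lit 6, nat_lit 5, nat_lit 1, nat_lit 7, nat_lit 6, nat_lit 2, nat_lit 4, nat_lit 6, nat_lit 2, nat_lit 4, nat_lit 2]))))))
 (.node (nat_lit 0x2cec688561b1000) (.node (nat_lit 0x2cec0ba13cfdcec) (.node (nat_lit 0x2cea97a36da74b0) (.leaf ((nat_lit 2), [nat_lit 1, nat_lit 9, nat_lit 2, nat_lit 1, nat_lit 9, nat_lit 7, nat_lit 3, nat_lit 4, nat_lit 7, nat_lit 3, nat_lit 3, nat_lit 3, nat_lit 6, nat_lit 5, nat_lit 2, nat_lit 1])) (.leaf ((nat_lit 0), [nat_lit 4, nat_lit 1, nat_lit 9, nat_lit 5, nat_lit 9, nat_lit 2, nat_lit 1, nat_lit 8, nat_lit 1, nat_lit 7, nat_lit 4, nat_lit 3, nat_lit 6, nat_lit 2, nat_lit 4, nat_lit 0]))) (.node (nat_lit 0x2cec0ba72ad0f70) (.leaf ((nat_lit 1), [nat_lit 6, nat_lit 9, nat_lit 5, nat_lit 9, nat_lit 2, nat_lit 8,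 nat_lit 1, nat_lit 7, nat_lit 6, nat_lit 3, nat_lit 3, nat_lit 6, nat_lit 5, nat_lit 3, nat_lit 3, nat_lit 3, nat_lit 0])) (.node (nat_lit 0x2cec0baf1294234) (.leaf ((nat_lit 0), [nat_lit 1, nat_lit 9, nat_lit 5, nat_lit 9, nat_lit 3, nat_lit 7, nat_lit 0, nat_lit 8, nat_lit 3, nat_lit 4, nat_lit 7, nat_lit 5])) (.leaf ((nat_lit 1), [nat_lit 1, nat_lit 9, nat_lit 5, nat_lit 9, nat_lit 3, nat_lit 6, nat_lit 3, nat_lit 8, nat_lit 3, nat_lit 0])))))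
 (.node (nat_lit 0x2cec68936542c44) (.node (nat_lit 0x2cec688dd373034) (.leaf ((nat_lit 0), [nat_lit 5, nat_lit 8, nat_lit 5, nat_lit 8, nat_lit 2, nat_lit 4, nat_lit 2])) (.leaf ((nat_lit 1), [nat_lit 1, nat_lit 9, nat_lit 5, nat_lit 9, nat_lit 7, nat_lit 8, nat_lit 7, nat_lit 1, nat_lit 7, nat_lit 6, nat_lit 5, nat_lit 3, nat_lit 6, nat_lit 3, nat_lit 4, nat_lit 1]))) (.node (nat_lit 0x2ceddc907c9f458) (.leaf ((nat_lit 0), [nat_lit 4, nat_lit 1, nat_lit 9, nat_lit 5, nat_lit 9, nat_lit 2, nat_lit 5, nat_lit 8, nat_lit 4, nat_lit 1, nat_lit 7, nat_lit 6, nat_lit 4, nat_lit 3, nat_lit 6, nat_lit 4, nat_lit 3, nat_lit 3])) (.node (nat_lit 0x2ceddc989260d04) (.leaf ((nat_lit 2), [nat_lit 9, nat_lit 5, nat_lit 8, nat_lit 3, nat_lit 9, nat_lit 6, nat_lit 3, nat_lit 8, nat_lit 6, nat_lit 1, nat_lit 7, nat_lit 4, nat_lit 6, nat_lit 2, nat_lit 4, nat_lit 2])) (.leaf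 ((nat_lit 0), [nat_lit 6, nat_lit 9, nat_lit 5, nat_lit 9, nat_lit 0, nat_lit 8, nat_lit 5, nat_lit 6, nat_lit 7, nat_lit 6, nat_lit 5, nat_lit 4, nat_lit 1])))))))
 (.node (nat_lit 0x2d13c421ba84eec) (.node (nat_lit 0x2cf7118a118d090) (.node (nat_lit 0x2cee397d9d08eb4) (.node (nat_lit 0x2cee3975874b32c) (.leaf ((nat_lit 3), [nat_lit 1, nat_lit 9, nat_lit 5, nat_lit 9, nat_lit 1, nat_lit 8, nat_lit 6, nat_lit 1, nat_lit 8, nat_lit 6, nat_lit 5, nat_lit 0, nat_lit 7, nat_lit 5, nat_lit 4, nat_lit 2])) (.leaf ((nat_lit 6), [nat_lit 6, nat_lit 7, nat_lit 2, nat_lit 9, nat_lit 4, nat_lit 3, nat_lit 8, nat_lit 3, nat_lit 4, nat_lit 7, nat_lit 5, nat_lit 3, nat_lit 6, nat_lit 3, nat_lit 1]))) (.node (nat_lit 0x2cee3985b2cb9dc) (.leaf ((nat_lit 2), [nat_lit 8, nat_lit 2, nat_lit 6, nat_lit 0, nat_lit 8, nat_lit 5, nat_lit 1, nat_lit 7, nat_lit 6, nat_lit 3, nat_lit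 3])) (.node (nat_lit 0x2cf59dd562046cc) (.leaf ((nat_lit 3), [nat_lit 2, nat_lit 2, nat_lit 8, nat_lit 5, nat_lit 0, nat_lit 7, nat_lit 3, nat_lit 6, nat_lit 5, nat_lit 4])) (.leaf ((nat_lit 2), [nat_lit 0, nat_lit 7, nat_lit 0, nat_lit 9, nat_lit 1, nat_lit 9, nat_lit 8, nat_lit 6, nat_lit 3, nat_lit 8, nat_lit 6, nat_lit 5, nat_lit 1, nat_lit 7, nat_lit 5, nat_lit 3, nat_lit 3, nat_lit 3])))))
 (.node (nat_lit 0x2d04df6546020f4) (.node (nat_lit 0x2cfd3ed5bdfa2d4) (.leaf ((nat_lit 3), [nat_lit 6, nat_lit 9, nat_lit 2, nat_lit 1, nat_lit 9, nat_lit 0, nat_lit 8, nat_lit 7, nat_lit 0, nat_lit 7, nat_lit 3, nat_lit 6, nat_lit 2, nat_lit 4, nat_lit 2, nat_lit 0])) (.leaf ((nat_lit 6), [nat_lit 7, nat_lit 2, nat_lit 9, nat_lit 5, nat_lit 6, nat_lit 8, nat_lit 5, nat_lit 6, nat_lit 7, nat_lit 3, nat_lit 3, nat_lit 3, nat_lit 6, nat_lit 4, nat_lit 2, nat_lit 2])))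 (.node (nat_lit 0x2d0b0c2a04d3060) (.leaf ((nat_lit 0), [nat_lit 8, nat_lit 6, nat_lit 2, nat_lit 8, nat_lit 4, nat_lit 3, nat_lit 6, nat_lit 3, nat_lit 3, nat_lit 3, nat_lit 1])) (.node (nat_lit 0x2d0b68ea68870a4) (.leaf ((nat_lit 3), [nat_lit 2, nat_lit 7, nat_lit 9, nat_lit 5, nat_lit 9, nat_lit 7, nat_lit 8, nat_lit 0, nat_lit 8, nat_lit 7, nat_lit 4, nat_lit 3, nat_lit 6, nat_lit 5, nat_lit 4, nat_lit 0])) (.leaf ((nat_lit 0), [nat_lit 8, nat_lit 6, nat_lit 2, nat_lit 8, nat_lit 4, nat_lit 7, nat_lit 4, nat_lit 3, nat_lit 6, nat_lit 5, nat_lit 4]))))))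
 (.node (nat_lit 0x2d2704202d412fc) (.node (nat_lit 0x2d1a4de843193c0) (.node (nat_lit 0x2d19f0726920dfc) (.leaf ((nat_lit 1), [nat_lit 6, nat_lit 9, nat_lit 2, nat_lit 1, nat_lit 9, nat_lit 1, nat_lit 8, nat_lit 1, nat_lit 8, nat_lit 0, nat_lit 7, nat_lit 4, nat_lit 2, nat_lit 6, nat_lit 3, nat_lit 3, nat_lit 0])) (.leaf ((nat_lit 2), [nat_lit 5, nat_lit 9, nat_lit 6, nat_lit 0, nat_lit 9, nat_lit 5, nat_lit 0, nat_lit 8, nat_lit 7, nat_lit 2, nat_lit 4, nat_lit 7, nat_lit 4, nat_lit 3, nat_lit 3, nat_lit 6, nat_lit 0]))) (.node (nat_lit 0x2d207adbb87062c) (.leaf ((nat_lit 1), [nat_lit 2, nat_lit 7, nat_lit 9, nat_lit 5, nat_lit 9, nat_lit 2, nat_lit 6, nat_lit 2, nat_lit 8, nat_lit 4, nat_lit 0, nat_lit 7, nat_lit 3, nat_lit 4, nat_lit 6, nat_lit 2, nat_lit 4, nat_lit 3])) (.node (nat_lit 0x2d20d73e255cfe4) (.leaf ((nat_lit 0), [nat_lit 3, nat_lit 7, nat_lit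 5, nat_lit 8, nat_lit 2, nat_lit 4, nat_lit 3, nat_lit 6, nat_lit 3, nat_lit 1])) (.leaf ((nat_lit 3), [nat_lit 0, nat_lit 7, nat_lit 0, nat_lit 9, nat_lit 1, nat_lit 9, nat_lit 2, nat_lit 6, nat_lit 2, nat_lit 8, nat_lit 1, nat_lit 7, nat_lit 2, nat_lit 4, nat_lit 3, nat_lit 6, nat_lit 5, nat_lit 2, nat_lit 4])))))
 (.node (nat_lit 0x2d2fbbe6a8c1c50) (.node (nat_lit 0x2d27619f5eedfc0) (.leaf ((nat_lit 1), [nat_lit 6, nat_lit 9, nat_lit 2, nat_lit 1, nat_lit 9, nat_lit 5, nat_lit 8, nat_lit 5, nat_lit 4, nat_lit 7, nat_lit 3, nat_lit 6, nat_lit 5, nat_lit 2, nat_lit 1])) (.leaf ((nat_lit 0), [nat_lit 2, nat_lit 6, nat_lit 1, nat_lit 8, nat_lit 7, nat_lit 4, nat_lit 3, nat_lit 6, nat_lit 2, nat_lit 4, nat_lit 2, nat_lit 1]))) (.node (nat_lit 0x2d307603ed9970c) (.leaf ((nat_lit 2), [nat_lit 3, nat_lit 9, nat_lit 2, nat_lit 1, nat_lit 9, nat_lit 3, nat_lit 7, nat_lit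 8, nat_lit 3, nat_lit 4, nat_lit 7, nat_lit 6, nat_lit 3, nat_lit 3, nat_lit 1])) (.node (nat_lit 0x2d364616a7e0bd4) (.leaf ((nat_lit 6), [nat_lit 9, nat_lit 7, nat_lit 8, nat_lit 1, nat_lit 9, nat_lit 7, nat_lit 5, nat_lit 8, nat_lit 1, nat_lit 7, nat_lit 2, nat_lit 4, nat_lit 3, nat_lit 6, nat_lit 5, nat_lit 0])) (.leaf ((nat_lit 2), [nat_lit 8, nat_lit 6, nat_lit 9, nat_lit 5, nat_lit 9, nat_lit 3, nat_lit 0, nat_lit 8, nat_lit 1, nat_lit 7, nat_lit 6, nat_lit 3, nat_lit 3, nat_lit 6, nat_lit 2, nat_lit 4]))))))))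
 (.node (nat_lit 0x2da7f765d375c6c) (.node (nat_lit 0x2d6e9357c421c14) (.node (nat_lit 0x2d51e0e29a33620) (.node (nat_lit 0x2d4413325662e24) (.node (nat_lit 0x2d3efda0f388e74) (.leaf ((nat_lit 2), [nat_lit 0, nat_lit 8, nat_lit 7, nat_lit 1, nat_lit 8, nat_lit 1, nat_lit 7, nat_lit 3, nat_lit 3, nat_lit 6, nat_lit 5, nat_lit 3, nat_lit 3])) (.leaf ((nat_lit 1), [nat_lit 2, nat_lit 7, nat_lit 9, nat_lit 5, nat_lit 9, nat_lit 8, nat_lit 4, nat_lit 6, nat_lit 8, nat_lit 7, nat_lit 6, nat_lit 3, nat_lit 4, nat_lit 3, nat_lit 1]))) (.node (nat_lit 0x2d458766f221be0) (.leaf ((nat_lit 1), [nat_lit 6, nat_lit 9, nat_lit 2, nat_lit 1, nat_lit 9, nat_lit 5, nat_lit 1, nat_lit 8, nat_lit 6, nat_lit 7, nat_lit 4, nat_lit 6, nat_lit 4, nat_lit 2, nat_lit 1])) (.node (nat_lit 0x2d506cf13075674) (.leaf ((nat_lit 0), [nat_lit 6, nat_lit 8, nat_lit 1, nat_lit 8, nat_lit 5, nat_lit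 0, nat_lit 7, nat_lit 3, nat_lit 6, nat_lit 5, nat_lit 2, nat_lit 2])) (.leaf ((nat_lit 2), [nat_lit 0, nat_lit 9, nat_lit 1, nat_lit 9, nat_lit 3, nat_lit 3, nat_lit 8, nat_lit 5, nat_lit 7, nat_lit 3, nat_lit 6, nat_lit 5, nat_lit 3, nat_lit 0])))))
 (.node (nat_lit 0x2d61222f1e31dbc) (.node (nat_lit 0x2d5faec0dc2ed6c) (.leaf ((nat_lit 1), [nat_lit 0, nat_lit 7, nat_lit 0, nat_lit 9, nat_lit 1, nat_lit 9, nat_lit 0, nat_lit 8, nat_lit 0, nat_lit 7, nat_lit 6, nat_lit 3, nat_lit 4, nat_lit 6, nat_lit 4, nat_lit 3, nat_lit 3, nat_lit 3, nat_lit 1])) (.leaf ((nat_lit 3), [nat_lit 6, nat_lit 9, nat_lit 2, nat_lit 1, nat_lit 9, nat_lit 8, nat_lit 3, nat_lit 1, nat_lit 8, nat_lit 3, nat_lit 6, nat_lit 4, nat_lit 0]))) (.node (nat_lit 0x2d6cc1c841b1010) (.leaf ((nat_lit 0), [nat_lit 4, nat_lit 8, nat_lit 1, nat_lit 8, nat_lit 5, nat_lit 7, nat_lit 3, nat_lit 3, nat_lit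 6, nat_lit 5, nat_lit 3, nat_lit 4, nat_lit 1])) (.node (nat_lit 0x2d6d1f201adce8c) (.leaf ((nat_lit 6), [nat_lit 0, nat_lit 7, nat_lit 2, nat_lit 9, nat_lit 7, nat_lit 8, nat_lit 5, nat_lit 8, nat_lit 6, nat_lit 5, nat_lit 6, nat_lit 2, nat_lit 4, nat_lit 0])) (.leaf ((nat_lit 3), [nat_lit 0, nat_lit 7, nat_lit 0, nat_lit 9, nat_lit 1, nat_lit 9, nat_lit 8, nat_lit 5, nat_lit 1, nat_lit 8, nat_lit 7, nat_lit 6, nat_lit 4, nat_lit 2, nat_lit 6, nat_lit 1]))))))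
 (.node (nat_lit 0x2d885d4a05e3f40) (.node (nat_lit 0x2d78be84c80474c) (.node (nat_lit 0x2d7861486bfa390) (.leaf ((nat_lit 3), [nat_lit 2, nat_lit 7, nat_lit 9, nat_lit 5, nat_lit 9, nat_lit 6, nat_lit 2, nat_lit 1, nat_lit 8, nat_lit 1, nat_lit 7, nat_lit 6, nat_lit 2])) (.leaf ((nat_lit 6), [nat_lit 1, nat_lit 7, nat_lit 8, nat_lit 6, nat_lit 2, nat_lit 4, nat_lit 7, nat_lit 5, nat_lit 2, nat_lit 4, nat_lit 1]))) (.node (nat_lit 0x2d7dd49b7a87b14) (.leaf ((nat_lit 3), [nat_lit 2, nat_lit 7, nat_lit 9, nat_lit 5, nat_lit 9, nat_lit 3, nat_lit 8, nat_lit 6, nat_lit 1, nat_lit 8, nat_lit 0, nat_lit 7, nat_lit 2, nat_lit 6, nat_lit 5, nat_lit 2, nat_lit 4, nat_lit 3])) (.node (nat_lit 0x2d87a317601a3f4) (.leaf ((nat_lit 2), [nat_lit 9, nat_lit 1, nat_lit 8, nat_lit 7, nat_lit 9, nat_lit 8, nat_lit 2, nat_lit 6, nat_lit 8, nat_lit 5, nat_lit 7, nat_lit 4, nat_lit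 2, nat_lit 2, nat_lit 6, nat_lit 5, nat_lit 1])) (.leaf ((nat_lit 2), [nat_lit 8, nat_lit 2, nat_lit 1, nat_lit 8, nat_lit 6, nat_lit 1, nat_lit 7, nat_lit 5, nat_lit 3, nat_lit 6, nat_lit 5, nat_lit 4, nat_lit 0])))))
 (.node (nat_lit 0x2d95706082ec0e4) (.node (nat_lit 0x2d8d15e211172a0) (.leaf ((nat_lit 0), [nat_lit 8, nat_lit 5, nat_lit 7, nat_lit 8, nat_lit 7, nat_lit 5, nat_lit 7, nat_lit 5, nat_lit 6, nat_lit 1])) (.leaf ((nat_lit 0), [nat_lit 0, nat_lit 8, nat_lit 7, nat_lit 4, nat_lit 2, nat_lit 2, nat_lit 6, nat_lit 5, nat_lit 4, nat_lit 2, nat_lit 2, nat_lit 0]))) (.node (nat_lit 0x2d96e4d17c820ec) (.leaf ((nat_lit 1), [nat_lit 0, nat_lit 7, nat_lit 0, nat_lit 9, nat_lit 1, nat_lit 9, nat_lit 6, nat_lit 3, nat_lit 4, nat_lit 7, nat_lit 2, nat_lit 6, nat_lit 4, nat_lit 3])) (.node (nat_lit 0x2d9a862e71fcdbc) (.leaf ((nat_lit 3), [nat_lit 0, nat_lit 7,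 nat_lit 0, nat_lit 9, nat_lit 1, nat_lit 9, nat_lit 2, nat_lit 1, nat_lit 8, nat_lit 7, nat_lit 0, nat_lit 7, nat_lit 3, nat_lit 3, nat_lit 3, nat_lit 6, nat_lit 5, nat_lit 2, nat_lit 2])) (.leaf ((nat_lit 1), [nat_lit 2, nat_lit 7, nat_lit 9, nat_lit 5, nat_lit 9, nat_lit 7, nat_lit 2, nat_lit 8, nat_lit 6, nat_lit 5, nat_lit 0, nat_lit 7, nat_lit 5, nat_lit 3, nat_lit 6, nat_lit 5, nat_lit 0])))))))
 (.node (nat_lit 0x2dd38d9e4088534) (.node (nat_lit 0x2dbb37b3dd8dc54) (.node (nat_lit 0x2dadc6ae1283f7c) (.node (nat_lit 0x2da90dc13a3f264) (.leaf ((nat_lit 1), [nat_lit 6, nat_lit 9, nat_lit 2, nat_lit 1, nat_lit 9, nat_lit 7, nat_lit 5, nat_lit 1, nat_lit 8, nat_lit 4, nat_lit 0, nat_lit 7, nat_lit 5, nat_lit 4, nat_lit 2, nat_lit 2, nat_lit 1])) (.leaf ((nat_lit 0), [nat_lit 7, nat_lit 0, nat_lit 8, nat_lit 5, nat_lit 4, nat_lit 7, nat_lit 4, nat_lit 3, nat_lit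 3, nat_lit 6, nat_lit 5]))) (.node (nat_lit 0x2db6db95f6e8c0c) (.leaf ((nat_lit 0), [nat_lit 7, nat_lit 1, nat_lit 7, nat_lit 8, nat_lit 5, nat_lit 7, nat_lit 5, nat_lit 7, nat_lit 6, nat_lit 2, nat_lit 4])) (.node (nat_lit 0x2db7f26b8995650) (.leaf ((nat_lit 2), [nat_lit 1, nat_lit 9, nat_lit 5, nat_lit 4, nat_lit 9, nat_lit 4, nat_lit 7, nat_lit 8, nat_lit 6, nat_lit 5, nat_lit 6, nat_lit 7, nat_lit 3, nat_lit 6, nat_lit 2, nat_lit 2])) (.leaf ((nat_lit 3), [nat_lit 0, nat_lit 7, nat_lit 0, nat_lit 9, nat_lit 1, nat_lit 9, nat_lit 2, nat_lit 6, nat_lit 1, nat_lit 8, nat_lit 5, nat_lit 0, nat_lit 7, nat_lit 5, nat_lit 6, nat_lit 5, nat_lit 2])))))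
 (.node (nat_lit 0x2dc563343ece0b4) (.node (nat_lit 0x2dbb9489fef344c) (.leaf ((nat_lit 3), [nat_lit 6, nat_lit 9, nat_lit 2, nat_lit 1, nat_lit 9, nat_lit 3, nat_lit 3, nat_lit 8, nat_lit 6, nat_lit 1, nat_lit 7, nat_lit 5, nat_lit 3, nat_lit 6, nat_lit 5, nat_lit 0])) (.leaf ((nat_lit 6), [nat_lit 8, nat_lit 7, nat_lit 9, nat_lit 2, nat_lit 1, nat_lit 9, nat_lit 3, nat_lit 6, nat_lit 8, nat_lit 6, nat_lit 5, nat_lit 7, nat_lit 4, nat_lit 2, nat_lit 6, nat_lit 5, nat_lit 2, nat_lit 4]))) (.node (nat_lit 0x2dcad5f622122a0) (.leaf ((nat_lit 0), [nat_lit 1, nat_lit 7, nat_lit 8, nat_lit 6, nat_lit 7, nat_lit 2, nat_lit 4, nat_lit 3, nat_lit 6, nat_lit 5, nat_lit 0])) (.node (nat_lit 0x2dd276fc3dd9980) (.leaf ((nat_lit 1), [nat_lit 2, nat_lit 7, nat_lit 9, nat_lit 5, nat_lit 9, nat_lit 2, nat_lit 6, nat_lit 0, nat_lit 8, nat_lit 7, nat_lit 3, nat_lit 4, nat_lit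 7, nat_lit 6, nat_lit 4, nat_lit 2, nat_lit 6])) (.leaf ((nat_lit 2), [nat_lit 9, nat_lit 2, nat_lit 9, nat_lit 3, nat_lit 9, nat_lit 4, nat_lit 8, nat_lit 1, nat_lit 8, nat_lit 2, nat_lit 4, nat_lit 7, nat_lit 4, nat_lit 6, nat_lit 2, nat_lit 1]))))))
 (.node (nat_lit 0x2de6ce49b76c440) (.node (nat_lit 0x2de0fe7c84b1d2c) (.node (nat_lit 0x2dd6d29981109e0) (.leaf ((nat_lit 1), [nat_lit 6, nat_lit 9, nat_lit 2, nat_lit 1, nat_lit 9, nat_lit 3, nat_lit 6, nat_lit 3, nat_lit 8, nat_lit 4, nat_lit 7, nat_lit 2, nat_lit 4, nat_lit 6])) (.leaf ((nat_lit 3), [nat_lit 6, nat_lit 9, nat_lit 2, nat_lit 1, nat_lit 9, nat_lit 4, nat_lit 6, nat_lit 8, nat_lit 7, nat_lit 0, nat_lit 7, nat_lit 4, nat_lit 6, nat_lit 3, nat_lit 4, nat_lit 1]))) (.node (nat_lit 0x2de1b7ffa268024) (.leaf ((nat_lit 0), [nat_lit 8, nat_lit 3, nat_lit 1, nat_lit 8, nat_lit 4, nat_lit 7, nat_lit 5,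 nat_lit 2, nat_lit 2, nat_lit 1])) (.node (nat_lit 0x2de670ca29c25fc) (.leaf ((nat_lit 3), [nat_lit 2, nat_lit 7, nat_lit 9, nat_lit 5, nat_lit 9, nat_lit 8, nat_lit 7, nat_lit 8, nat_lit 5, nat_lit 8, nat_lit 0, nat_lit 7, nat_lit 3, nat_lit 6, nat_lit 3, nat_lit 4, nat_lit 0])) (.leaf ((nat_lit 2), [nat_lit 0, nat_lit 9, nat_lit 0, nat_lit 9, nat_lit 5, nat_lit 7, nat_lit 8, nat_lit 3, nat_lit 4, nat_lit 7, nat_lit 6, nat_lit 5, nat_lit 1])))))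
 (.node (nat_lit 0x2df555e7ff51a54) (.node (nat_lit 0x2df03f71b7b3090) (.leaf ((nat_lit 1), [nat_lit 0, nat_lit 7, nat_lit 0, nat_lit 9, nat_lit 1, nat_lit 9, nat_lit 3, nat_lit 8, nat_lit 2, nat_lit 4, nat_lit 7, nat_lit 3, nat_lit 6, nat_lit 2, nat_lit 4])) (.leaf ((nat_lit 2), [nat_lit 8, nat_lit 6, nat_lit 9, nat_lit 5, nat_lit 9, nat_lit 3, nat_lit 3, nat_lit 8, nat_lit 6, nat_lit 2, nat_lit 4, nat_lit 6, nat_lit 4, nat_lit 2, nat_lit 0]))) (.node (nat_lit 0x2e0097cc38d6910) (.leaf ((nat_lit 6), [nat_lit 5, nat_lit 9, nat_lit 6, nat_lit 9, nat_lit 4, nat_lit 6, nat_lit 8, nat_lit 6, nat_lit 3, nat_lit 4, nat_lit 7, nat_lit 4, nat_lit 6, nat_lit 2])) (.node (nat_lit 0x2e032339c1fe0d4) (.leaf ((nat_lit 2), [nat_lit 2, nat_lit 5, nat_lit 8, nat_lit 7, nat_lit 5, nat_lit 7, nat_lit 6, nat_lit 2, nat_lit 2, nat_lit 6, nat_lit 5, nat_lit 4, nat_lit 1])) (.leaf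 ((nat_lit 3), [nat_lit 0, nat_lit 7, nat_lit 0, nat_lit 9, nat_lit 1, nat_lit 9, nat_lit 6, nat_lit 5, nat_lit 0, nat_lit 7, nat_lit 3, nat_lit 4, nat_lit 6, nat_lit 5, nat_lit 3])))))))))))
 (.node (nat_lit 0x408e9e1a177daa0) (.node (nat_lit 0x30116cb045b6360) (.node (nat_lit 0x2f46037457a99e0) (.node (nat_lit 0x2e641f2b8eb4c2c) (.node (nat_lit 0x2e3942273218610) (.node (nat_lit 0x2e1e03dfa1c03a4) (.node (nat_lit 0x2e12c180565f920) (.node (nat_lit 0x2e0f7c9f2304934) (.leaf ((nat_lit 6), [nat_lit 6, nat_lit 3, nat_lit 9, nat_lit 7, nat_lit 5, nat_lit 0, nat_lit 7, nat_lit 3, nat_lit 4, nat_lit 6, nat_lit 5, nat_lit 4, nat_lit 2])) (.leaf ((nat_lit 1), [nat_lit 6, nat_lit 9, nat_lit 2, nat_lit 1, nat_lit 9, nat_lit 7, nat_lit 0, nat_lit 8, nat_lit 7, nat_lit 6, nat_lit 3, nat_lit 4, nat_lit 6, nat_lit 4, nat_lit 2, nat_lit 2, nat_lit 1]))) (.node (nat_lit 0x2e1d4a64c7c732c)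 (.leaf ((nat_lit 1), [nat_lit 0, nat_lit 7, nat_lit 0, nat_lit 9, nat_lit 1, nat_lit 9, nat_lit 8, nat_lit 3, nat_lit 1, nat_lit 8, nat_lit 2, nat_lit 6, nat_lit 4, nat_lit 0])) (.leaf ((nat_lit 0), [nat_lit 4, nat_lit 3, nat_lit 8, nat_lit 7, nat_lit 1, nat_lit 7, nat_lit 2, nat_lit 6, nat_lit 3, nat_lit 0]))))
 (.node (nat_lit 0x2e21a5b9a3277bc) (.node (nat_lit 0x2e2032493935d00) (.leaf ((nat_lit 3), [nat_lit 6, nat_lit 9, nat_lit 2, nat_lit 1, nat_lit 9, nat_lit 5, nat_lit 8, nat_lit 1, nat_lit 8, nat_lit 0, nat_lit 7, nat_lit 6, nat_lit 2, nat_lit 4, nat_lit 6, nat_lit 3, nat_lit 1])) (.leaf ((nat_lit 2), [nat_lit 0, nat_lit 7, nat_lit 8, nat_lit 4, nat_lit 1, nat_lit 7, nat_lit 3, nat_lit 3, nat_lit 3, nat_lit 6, nat_lit 2, nat_lit 4]))) (.node (nat_lit 0x2e2b18133f85cac) (.leaf ((nat_lit 0), [nat_lit 4, nat_lit 7, nat_lit 8, nat_lit 4, nat_lit 0, nat_lit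 7, nat_lit 2, nat_lit 4, nat_lit 6, nat_lit 5])) (.node (nat_lit 0x2e2e5c600bb153c) (.leaf ((nat_lit 3), [nat_lit 2, nat_lit 7, nat_lit 9, nat_lit 5, nat_lit 9, nat_lit 8, nat_lit 2, nat_lit 6, nat_lit 0, nat_lit 8, nat_lit 4, nat_lit 1, nat_lit 7, nat_lit 2, nat_lit 2, nat_lit 6, nat_lit 5, nat_lit 1])) (.leaf ((nat_lit 2), [nat_lit 9, nat_lit 2, nat_lit 9, nat_lit 3, nat_lit 9, nat_lit 3, nat_lit 7, nat_lit 0, nat_lit 8, nat_lit 6, nat_lit 2, nat_lit 4, nat_lit 7, nat_lit 5, nat_lit 1]))))))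
 (.node (nat_lit 0x2e4b0ebdacbf1a0) (.node (nat_lit 0x2e3d9e68d9bca94) (.node (nat_lit 0x2e39fc4306fbacc) (.leaf ((nat_lit 6), [nat_lit 0, nat_lit 9, nat_lit 1, nat_lit 9, nat_lit 6, nat_lit 5, nat_lit 8, nat_lit 0, nat_lit 8, nat_lit 2, nat_lit 4, nat_lit 7, nat_lit 5, nat_lit 6, nat_lit 3])) (.leaf ((nat_lit 3), [nat_lit 6, nat_lit 9, nat_lit 2, nat_lit 1, nat_lit 9, nat_lit 7, nat_lit 8, nat_lit 5, nat_lit 1, nat_lit 7, nat_lit 2, nat_lit 4, nat_lit 6, nat_lit 4, nat_lit 3, nat_lit 3]))) (.node (nat_lit 0x2e4883e096e6c74) (.leaf ((nat_lit 6), [nat_lit 3, nat_lit 7, nat_lit 9, nat_lit 5, nat_lit 8, nat_lit 6, nat_lit 5, nat_lit 1, nat_lit 7, nat_lit 4, nat_lit 3, nat_lit 3, nat_lit 6, nat_lit 4, nat_lit 3, nat_lit 1])) (.node (nat_lit 0x2e493e0b26f1e00) (.leaf ((nat_lit 2), [nat_lit 0, nat_lit 9, nat_lit 5, nat_lit 3, nat_lit 9, nat_lit 4, nat_lit 6, nat_lit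 8, nat_lit 2, nat_lit 4, nat_lit 7, nat_lit 4, nat_lit 6, nat_lit 3, nat_lit 4, nat_lit 3, nat_lit 3])) (.leaf ((nat_lit 0), [nat_lit 8, nat_lit 5, nat_lit 7, nat_lit 8, nat_lit 6, nat_lit 7, nat_lit 3, nat_lit 3, nat_lit 6, nat_lit 2, nat_lit 1])))))
 (.node (nat_lit 0x2e553aaee1ed6c0) (.node (nat_lit 0x2e54dd5c9af5834) (.leaf ((nat_lit 3), [nat_lit 0, nat_lit 7, nat_lit 0, nat_lit 9, nat_lit 1, nat_lit 9, nat_lit 7, nat_lit 8, nat_lit 7, nat_lit 0, nat_lit 8, nat_lit 5, nat_lit 4, nat_lit 7, nat_lit 2, nat_lit 4, nat_lit 6, nat_lit 5, nat_lit 3, nat_lit 3, nat_lit 1])) (.leaf ((nat_lit 0), [nat_lit 4, nat_lit 8, nat_lit 1, nat_lit 8, nat_lit 3, nat_lit 6, nat_lit 7, nat_lit 3, nat_lit 6, nat_lit 3, nat_lit 1]))) (.node (nat_lit 0x2e5c20dae555ce4) (.leaf ((nat_lit 1), [nat_lit 0, nat_lit 7, nat_lit 0, nat_lit 9, nat_lit 1, nat_lit 9, nat_lit 2, nat_lit 6, nat_lit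 1, nat_lit 8, nat_lit 3, nat_lit 4, nat_lit 7, nat_lit 2, nat_lit 6, nat_lit 5, nat_lit 3])) (.node (nat_lit 0x2e5df20c4300de0) (.leaf ((nat_lit 1), [nat_lit 2, nat_lit 7, nat_lit 9, nat_lit 5, nat_lit 9, nat_lit 6, nat_lit 3, nat_lit 0, nat_lit 8, nat_lit 5, nat_lit 7, nat_lit 2, nat_lit 4, nat_lit 6, nat_lit 5, nat_lit 3, nat_lit 4])) (.leaf ((nat_lit 0), [nat_lit 4, nat_lit 3, nat_lit 8, nat_lit 7, nat_lit 3, nat_lit 4, nat_lit 7, nat_lit 4, nat_lit 6, nat_lit 4, nat_lit 0])))))))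
 (.node (nat_lit 0x2f1be0c0fdfade4) (.node (nat_lit 0x2e7b017fccce5d4) (.node (nat_lit 0x2e6c1c7336b397c) (.node (nat_lit 0x2e64d8afc0623a4) (.leaf ((nat_lit 1), [nat_lit 0, nat_lit 7, nat_lit 0, nat_lit 9, nat_lit 1, nat_lit 9, nat_lit 6, nat_lit 8, nat_lit 4, nat_lit 0, nat_lit 7, nat_lit 3, nat_lit 4, nat_lit 3, nat_lit 3, nat_lit 6, nat_lit 2, nat_lit 0])) (.leaf ((nat_lit 0), [nat_lit 2, nat_lit 6, nat_lit 1, nat_lit 8, nat_lit 5, nat_lit 0, nat_lit 7, nat_lit 3, nat_lit 6, nat_lit 4, nat_lit 0]))) (.node (nat_lit 0x2e71ec8a41393cc) (.leaf ((nat_lit 1), [nat_lit 2, nat_lit 7, nat_lit 9, nat_lit 5, nat_lit 9, nat_lit 7, nat_lit 8, nat_lit 7, nat_lit 0, nat_lit 8, nat_lit 5, nat_lit 1, nat_lit 7, nat_lit 6, nat_lit 5, nat_lit 6, nat_lit 5, nat_lit 0])) (.node (nat_lit 0x2e7360214bb19d0) (.leaf ((nat_lit 2), [nat_lit 8, nat_lit 6, nat_lit 9, nat_lit 5, nat_lit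 9, nat_lit 2, nat_lit 7, nat_lit 8, nat_lit 2, nat_lit 4, nat_lit 7, nat_lit 2, nat_lit 4, nat_lit 3, nat_lit 6, nat_lit 2, nat_lit 4, nat_lit 2])) (.leaf ((nat_lit 3), [nat_lit 2, nat_lit 7, nat_lit 9, nat_lit 5, nat_lit 9, nat_lit 5, nat_lit 7, nat_lit 6, nat_lit 8, nat_lit 6, nat_lit 0, nat_lit 7, nat_lit 3, nat_lit 3, nat_lit 6, nat_lit 2, nat_lit 2])))))
 (.node (nat_lit 0x2f07e6af5615a84) (.node (nat_lit 0x2f0672841273360) (.leaf ((nat_lit 2), [nat_lit 7, nat_lit 5, nat_lit 8, nat_lit 6, nat_lit 5, nat_lit 6, nat_lit 7, nat_lit 2, nat_lit 2, nat_lit 6, nat_lit 5, nat_lit 4, nat_lit 2, nat_lit 0])) (.leaf ((nat_lit 1), [nat_lit 2, nat_lit 8, nat_lit 1, nat_lit 7, nat_lit 5, nat_lit 3, nat_lit 6, nat_lit 5, nat_lit 2, nat_lit 4, nat_lit 2, nat_lit 0]))) (.node (nat_lit 0x2f0e13c65e741a4) (.leaf ((nat_lit 0), [nat_lit 0, nat_lit 7, nat_lit 0, nat_lit 9, nat_lit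 1, nat_lit 9, nat_lit 3, nat_lit 5, nat_lit 8, nat_lit 6, nat_lit 1, nat_lit 7, nat_lit 4, nat_lit 2, nat_lit 6, nat_lit 1])) (.node (nat_lit 0x2f15b400eb0af74) (.leaf ((nat_lit 0), [nat_lit 6, nat_lit 9, nat_lit 2, nat_lit 1, nat_lit 9, nat_lit 7, nat_lit 5, nat_lit 6, nat_lit 8, nat_lit 7, nat_lit 5, nat_lit 1, nat_lit 7, nat_lit 6, nat_lit 5, nat_lit 2, nat_lit 0])) (.leaf ((nat_lit 0), [nat_lit 2, nat_lit 7, nat_lit 9, nat_lit 5, nat_lit 9, nat_lit 3, nat_lit 6, nat_lit 8, nat_lit 5, nat_lit 0, nat_lit 7, nat_lit 3, nat_lit 6, nat_lit 2, nat_lit 4, nat_lit 2]))))))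
 (.node (nat_lit 0x2f34944dc92b354) (.node (nat_lit 0x2f2498f7f1d4610) (.node (nat_lit 0x2f1c3dfc45b3714) (.leaf ((nat_lit 1), [nat_lit 2, nat_lit 7, nat_lit 5, nat_lit 8, nat_lit 4, nat_lit 0, nat_lit 7, nat_lit 6, nat_lit 3, nat_lit 4, nat_lit 6, nat_lit 1])) (.leaf ((nat_lit 4), [nat_lit 0, nat_lit 7, nat_lit 0, nat_lit 9, nat_lit 1, nat_lit 9, nat_lit 8, nat_lit 1, nat_lit 7, nat_lit 8, nat_lit 3, nat_lit 4, nat_lit 7, nat_lit 4, nat_lit 2, nat_lit 2]))) (.node (nat_lit 0x2f2ac58ba4119c0) (.leaf ((nat_lit 1), [nat_lit 8, nat_lit 2, nat_lit 6, nat_lit 3, nat_lit 8, nat_lit 4, nat_lit 3, nat_lit 3, nat_lit 6, nat_lit 5, nat_lit 3, nat_lit 3, nat_lit 1])) (.node (nat_lit 0x2f2b22ca2803794) (.leaf ((nat_lit 0), [nat_lit 0, nat_lit 7, nat_lit 0, nat_lit 9, nat_lit 1, nat_lit 9, nat_lit 6, nat_lit 2, nat_lit 8, nat_lit 3, nat_lit 6, nat_lit 7, nat_lit 6, nat_lit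 3, nat_lit 3, nat_lit 6, nat_lit 2])) (.leaf ((nat_lit 1), [nat_lit 7, nat_lit 5, nat_lit 1, nat_lit 8, nat_lit 7, nat_lit 2, nat_lit 4, nat_lit 7, nat_lit 2, nat_lit 4, nat_lit 3, nat_lit 6, nat_lit 3, nat_lit 4, nat_lit 0])))))
 (.node (nat_lit 0x2f36c285f86a414) (.node (nat_lit 0x2f35ab22a4380a4) (.leaf ((nat_lit 1), [nat_lit 5, nat_lit 6, nat_lit 8, nat_lit 7, nat_lit 0, nat_lit 7, nat_lit 5, nat_lit 3, nat_lit 6, nat_lit 5, nat_lit 4, nat_lit 2, nat_lit 0])) (.leaf ((nat_lit 0), [nat_lit 0, nat_lit 7, nat_lit 0, nat_lit 9, nat_lit 1, nat_lit 9, nat_lit 5, nat_lit 8, nat_lit 2, nat_lit 1, nat_lit 8, nat_lit 4, nat_lit 1, nat_lit 7, nat_lit 4, nat_lit 3, nat_lit 3, nat_lit 1]))) (.node (nat_lit 0x2f4379186f9c264) (.leaf ((nat_lit 1), [nat_lit 5, nat_lit 7, nat_lit 5, nat_lit 8, nat_lit 5, nat_lit 0, nat_lit 7, nat_lit 4, nat_lit 6, nat_lit 5, nat_lit 4, nat_lit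 3, nat_lit 3, nat_lit 3, nat_lit 1])) (.node (nat_lit 0x2f448f8c45a02a0) (.leaf ((nat_lit 0), [nat_lit 2, nat_lit 7, nat_lit 9, nat_lit 5, nat_lit 9, nat_lit 0, nat_lit 8, nat_lit 6, nat_lit 2, nat_lit 4, nat_lit 7, nat_lit 3, nat_lit 3, nat_lit 6])) (.leaf ((nat_lit 1), [nat_lit 4, nat_lit 8, nat_lit 0, nat_lit 8, nat_lit 7, nat_lit 0, nat_lit 7, nat_lit 4, nat_lit 3, nat_lit 3]))))))))
 (.node (nat_lit 0x2fa7b9248c0fca4) (.node (nat_lit 0x2f7a51fcdf5bb04) (.node (nat_lit 0x2f6370243d81590) (.node (nat_lit 0x2f53744bc80a114) (.node (nat_lit 0x2f52008f5eb9194) (.leaf ((nat_lit 4), [nat_lit 6, nat_lit 9, nat_lit 2, nat_lit 1, nat_lit 9, nat_lit 5, nat_lit 8, nat_lit 6, nat_lit 5, nat_lit 7, nat_lit 5, nat_lit 6, nat_lit 3, nat_lit 4, nat_lit 3])) (.leaf ((nat_lit 4), [nat_lit 2, nat_lit 7, nat_lit 9, nat_lit 5, nat_lit 9, nat_lit 8, nat_lit 5, nat_lit 8, nat_lit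 6, nat_lit 1, nat_lit 7, nat_lit 4, nat_lit 6, nat_lit 5, nat_lit 2, nat_lit 4, nat_lit 3]))) (.node (nat_lit 0x2f5d430d072b1c0) (.leaf ((nat_lit 1), [nat_lit 2, nat_lit 6, nat_lit 8, nat_lit 7, nat_lit 6, nat_lit 5, nat_lit 6, nat_lit 4, nat_lit 3, nat_lit 1])) (.node (nat_lit 0x2f5d9fbba1d0074) (.leaf ((nat_lit 0), [nat_lit 2, nat_lit 7, nat_lit 9, nat_lit 5, nat_lit 9, nat_lit 7, nat_lit 8, nat_lit 7, nat_lit 1, nat_lit 8, nat_lit 7, nat_lit 5, nat_lit 7, nat_lit 2, nat_lit 2, nat_lit 6, nat_lit 3])) (.leaf ((nat_lit 0), [nat_lit 6, nat_lit 9, nat_lit 2, nat_lit 1, nat_lit 9, nat_lit 5, nat_lit 7, nat_lit 5, nat_lit 8, nat_lit 7, nat_lit 4, nat_lit 3, nat_lit 3, nat_lit 3])))))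
 (.node (nat_lit 0x2f6d3eb32e392d0) (.node (nat_lit 0x2f6c84525bbdd24) (.leaf ((nat_lit 0), [nat_lit 2, nat_lit 7, nat_lit 9, nat_lit 5, nat_lit 9, nat_lit 8, nat_lit 5, nat_lit 8, nat_lit 3, nat_lit 6, nat_lit 7, nat_lit 2, nat_lit 4, nat_lit 6, nat_lit 4, nat_lit 2])) (.leaf ((nat_lit 0), [nat_lit 6, nat_lit 9, nat_lit 2, nat_lit 1, nat_lit 9, nat_lit 8, nat_lit 2, nat_lit 5, nat_lit 8, nat_lit 6, nat_lit 5, nat_lit 7, nat_lit 3, nat_lit 6, nat_lit 2, nat_lit 0]))) (.node (nat_lit 0x2f730e0e78ad3f4) (.leaf ((nat_lit 0), [nat_lit 0, nat_lit 7, nat_lit 0, nat_lit 9, nat_lit 1, nat_lit 9, nat_lit 8, nat_lit 6, nat_lit 2, nat_lit 8, nat_lit 7, nat_lit 6, nat_lit 5, nat_lit 6, nat_lit 5, nat_lit 1])) (.node (nat_lit 0x2f736b4cfc45000) (.leaf ((nat_lit 1), [nat_lit 6, nat_lit 7, nat_lit 1, nat_lit 8, nat_lit 5, nat_lit 7, nat_lit 5, nat_lit 1, nat_lit 7, nat_lit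 4, nat_lit 2, nat_lit 6, nat_lit 5, nat_lit 4, nat_lit 2, nat_lit 2])) (.leaf ((nat_lit 1), [nat_lit 2, nat_lit 6, nat_lit 8, nat_lit 7, nat_lit 5, nat_lit 1, nat_lit 7, nat_lit 4, nat_lit 3, nat_lit 3]))))))
 (.node (nat_lit 0x2f8ea9080d4e1a0) (.node (nat_lit 0x2f81f2da32adac4) (.node (nat_lit 0x2f7bc645c87d024) (.leaf ((nat_lit 1), [nat_lit 5, nat_lit 7, nat_lit 3, nat_lit 4, nat_lit 3, nat_lit 3, nat_lit 6, nat_lit 5, nat_lit 4, nat_lit 3, nat_lit 3, nat_lit 1])) (.leaf ((nat_lit 1), [nat_lit 7, nat_lit 5, nat_lit 7, nat_lit 3, nat_lit 6, nat_lit 5, nat_lit 3, nat_lit 4, nat_lit 3, nat_lit 3]))) (.node (nat_lit 0x2f8936b02a904a4) (.leaf ((nat_lit 0), [nat_lit 6, nat_lit 9, nat_lit 2, nat_lit 1, nat_lit 9, nat_lit 7, nat_lit 8, nat_lit 5, nat_lit 6, nat_lit 7, nat_lit 4, nat_lit 2, nat_lit 2, nat_lit 6, nat_lit 3, nat_lit 4])) (.node (nat_lit 0x2f89936c1061f84)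 (.leaf ((nat_lit 4), [nat_lit 6, nat_lit 9, nat_lit 2, nat_lit 1, nat_lit 9, nat_lit 3, nat_lit 5, nat_lit 8, nat_lit 2, nat_lit 4, nat_lit 7, nat_lit 4, nat_lit 2, nat_lit 2, nat_lit 6, nat_lit 5])) (.leaf ((nat_lit 1), [nat_lit 7, nat_lit 8, nat_lit 7, nat_lit 5, nat_lit 1, nat_lit 7, nat_lit 6, nat_lit 3, nat_lit 3, nat_lit 6])))))
 (.node (nat_lit 0x2f9931a7dd21574) (.node (nat_lit 0x2f9877f5acc7700) (.leaf ((nat_lit 1), [nat_lit 2, nat_lit 1, nat_lit 8, nat_lit 4, nat_lit 0, nat_lit 7, nat_lit 4, nat_lit 3, nat_lit 6, nat_lit 5, nat_lit 4, nat_lit 3])) (.leaf ((nat_lit 1), [nat_lit 8, nat_lit 0, nat_lit 7, nat_lit 8, nat_lit 4, nat_lit 1, nat_lit 7, nat_lit 2, nat_lit 4, nat_lit 6, nat_lit 5, nat_lit 2, nat_lit 4, nat_lit 1]))) (.node (nat_lit 0x2f9deaba9df2ad4) (.leaf ((nat_lit 0), [nat_lit 2, nat_lit 7, nat_lit 9, nat_lit 5, nat_lit 9, nat_lit 7, nat_lit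 5, nat_lit 1, nat_lit 8, nat_lit 3, nat_lit 4, nat_lit 6, nat_lit 5, nat_lit 0])) (.node (nat_lit 0x2fa645b3c627f50) (.leaf ((nat_lit 0), [nat_lit 0, nat_lit 7, nat_lit 0, nat_lit 9, nat_lit 1, nat_lit 9, nat_lit 5, nat_lit 0, nat_lit 8, nat_lit 5, nat_lit 1, nat_lit 7, nat_lit 2, nat_lit 6, nat_lit 3, nat_lit 4])) (.leaf ((nat_lit 0), [nat_lit 6, nat_lit 9, nat_lit 2, nat_lit 1, nat_lit 9, nat_lit 2, nat_lit 7, nat_lit 8, nat_lit 7, nat_lit 2, nat_lit 4, nat_lit 7, nat_lit 3, nat_lit 6, nat_lit 5, nat_lit 3])))))))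
 (.node (nat_lit 0x2fd91fa3fbc3224) (.node (nat_lit 0x2fc5df8ac3bf0c4) (.node (nat_lit 0x2fb7b53c3f4da10) (.node (nat_lit 0x2fab5b923cac0d4) (.leaf ((nat_lit 1), [nat_lit 8, nat_lit 2, nat_lit 6, nat_lit 8, nat_lit 4, nat_lit 7, nat_lit 6, nat_lit 5, nat_lit 3, nat_lit 4, nat_lit 3, nat_lit 3, nat_lit 1])) (.leaf ((nat_lit 0), [nat_lit 6, nat_lit 9, nat_lit 2, nat_lit 1, nat_lit 9, nat_lit 7, nat_lit 6, nat_lit 8, nat_lit 0, nat_lit 7, nat_lit 4, nat_lit 6, nat_lit 3, nat_lit 4, nat_lit 3]))) (.node (nat_lit 0x2fbc10a060324f4) (.leaf ((nat_lit 1), [nat_lit 7, nat_lit 5, nat_lit 0, nat_lit 8, nat_lit 6, nat_lit 3, nat_lit 4, nat_lit 3, nat_lit 3, nat_lit 0])) (.node (nat_lit 0x2fbc6de9ab72e00) (.leaf ((nat_lit 1), [nat_lit 7, nat_lit 2, nat_lit 5, nat_lit 8, nat_lit 5, nat_lit 7, nat_lit 5, nat_lit 6, nat_lit 5, nat_lit 2, nat_lit 0])) (.leaf ((nat_lit 4), [nat_lit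 2, nat_lit 7, nat_lit 9, nat_lit 5, nat_lit 9, nat_lit 3, nat_lit 1, nat_lit 8, nat_lit 5, nat_lit 1, nat_lit 7, nat_lit 6, nat_lit 5, nat_lit 4, nat_lit 3, nat_lit 3, nat_lit 0])))))
 (.node (nat_lit 0x2fcb525238d6084) (.node (nat_lit 0x2fc6995421646e0) (.leaf ((nat_lit 0), [nat_lit 6, nat_lit 9, nat_lit 2, nat_lit 1, nat_lit 9, nat_lit 0, nat_lit 7, nat_lit 8, nat_lit 6, nat_lit 7, nat_lit 6, nat_lit 5, nat_lit 6, nat_lit 5, nat_lit 4, nat_lit 3])) (.leaf ((nat_lit 0), [nat_lit 0, nat_lit 7, nat_lit 0, nat_lit 9, nat_lit 1, nat_lit 9, nat_lit 7, nat_lit 8, nat_lit 1, nat_lit 8, nat_lit 6, nat_lit 5, nat_lit 2, nat_lit 4, nat_lit 0]))) (.node (nat_lit 0x2fd520ba890dbb4) (.leaf ((nat_lit 0), [nat_lit 2, nat_lit 7, nat_lit 9, nat_lit 5, nat_lit 9, nat_lit 0, nat_lit 8, nat_lit 7, nat_lit 2, nat_lit 4, nat_lit 7, nat_lit 0])) (.node (nat_lit 0x2fd5db367ca0114)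 (.leaf ((nat_lit 0), [nat_lit 0, nat_lit 7, nat_lit 0, nat_lit 9, nat_lit 1, nat_lit 9, nat_lit 6, nat_lit 1, nat_lit 8, nat_lit 4, nat_lit 2, nat_lit 2, nat_lit 6, nat_lit 5, nat_lit 3, nat_lit 3, nat_lit 0])) (.leaf ((nat_lit 0), [nat_lit 2, nat_lit 7, nat_lit 9, nat_lit 5, nat_lit 9, nat_lit 3, nat_lit 6, nat_lit 8, nat_lit 6, nat_lit 3, nat_lit 4, nat_lit 6, nat_lit 5, nat_lit 3, nat_lit 0]))))))
 (.node (nat_lit 0x2ff4bb15f05c5d4) (.node (nat_lit 0x2fe579d18215d54) (.node (nat_lit 0x2fda941a5934350) (.leaf ((nat_lit 1), [nat_lit 7, nat_lit 8, nat_lit 5, nat_lit 8, nat_lit 2, nat_lit 4, nat_lit 7, nat_lit 5, nat_lit 3, nat_lit 6, nat_lit 3, nat_lit 4, nat_lit 3, nat_lit 3])) (.leaf ((nat_lit 0), [nat_lit 0, nat_lit 7, nat_lit 0, nat_lit 9, nat_lit 1, nat_lit 9, nat_lit 1, nat_lit 7, nat_lit 8, nat_lit 7, nat_lit 3, nat_lit 4, nat_lit 7, nat_lit 2, nat_lit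 4, nat_lit 3, nat_lit 6, nat_lit 3]))) (.node (nat_lit 0x2fe8be7cfd09a14) (.leaf ((nat_lit 1), [nat_lit 1, nat_lit 7, nat_lit 5, nat_lit 8, nat_lit 6, nat_lit 5, nat_lit 7, nat_lit 6, nat_lit 4, nat_lit 2, nat_lit 6, nat_lit 2, nat_lit 0])) (.node (nat_lit 0x2fea8f2c18ebb64) (.leaf ((nat_lit 1), [nat_lit 5, nat_lit 6, nat_lit 7, nat_lit 2, nat_lit 4, nat_lit 6, nat_lit 3, nat_lit 4, nat_lit 3, nat_lit 3])) (.leaf ((nat_lit 4), [nat_lit 0, nat_lit 7, nat_lit 0, nat_lit 9, nat_lit 1, nat_lit 9, nat_lit 3, nat_lit 0, nat_lit 8, nat_lit 5, nat_lit 4, nat_lit 7, nat_lit 3, nat_lit 3, nat_lit 6, nat_lit 2, nat_lit 1])))))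
 (.node (nat_lit 0x3001ce581623e20) (.node (nat_lit 0x2ff8b9e7d9d6f80) (.leaf ((nat_lit 0), [nat_lit 2, nat_lit 7, nat_lit 9, nat_lit 5, nat_lit 9, nat_lit 6, nat_lit 7, nat_lit 2, nat_lit 1, nat_lit 8, nat_lit 1, nat_lit 7, nat_lit 6, nat_lit 2, nat_lit 4, nat_lit 6, nat_lit 1])) (.leaf ((nat_lit 1), [nat_lit 4, nat_lit 8, nat_lit 0, nat_lit 8, nat_lit 5, nat_lit 7, nat_lit 6, nat_lit 4, nat_lit 3, nat_lit 1]))) (.node (nat_lit 0x30022bd85bc7f64) (.leaf ((nat_lit 0), [nat_lit 6, nat_lit 9, nat_lit 2, nat_lit 1, nat_lit 9, nat_lit 7, nat_lit 8, nat_lit 6, nat_lit 5, nat_lit 7, nat_lit 4, nat_lit 6, nat_lit 2, nat_lit 4, nat_lit 0])) (.node (nat_lit 0x30079eb28047d24) (.leaf ((nat_lit 1), [nat_lit 3, nat_lit 7, nat_lit 0, nat_lit 8, nat_lit 5, nat_lit 7, nat_lit 4, nat_lit 6, nat_lit 3, nat_lit 3, nat_lit 3, nat_lit 1])) (.leaf ((nat_lit 1), [nat_lit 2, nat_lit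 6, nat_lit 8, nat_lit 6, nat_lit 5, nat_lit 1, nat_lit 7, nat_lit 6, nat_lit 4, nat_lit 3, nat_lit 6, nat_lit 3, nat_lit 4, nat_lit 3])))))))))
 (.node (nat_lit 0x3fcb8f03505909c) (.node (nat_lit 0x306899fb98732f4) (.node (nat_lit 0x303a1c10da7cc50) (.node (nat_lit 0x302e1ef85711514) (.node (nat_lit 0x3014551a06ce424) (.node (nat_lit 0x3013f7e6a674b44) (.leaf ((nat_lit 0), [nat_lit 2, nat_lit 7, nat_lit 9, nat_lit 5, nat_lit 9, nat_lit 3, nat_lit 7, nat_lit 5, nat_lit 8, nat_lit 6, nat_lit 5, nat_lit 6, nat_lit 7, nat_lit 5, nat_lit 6, nat_lit 5, nat_lit 4, nat_lit 0])) (.leaf ((nat_lit 1), [nat_lit 1, nat_lit 8, nat_lit 5, nat_lit 7, nat_lit 6, nat_lit 2, nat_lit 2, nat_lit 6, nat_lit 3, nat_lit 4]))) (.node (nat_lit 0x302051bc51cead4) (.leaf ((nat_lit 0), [nat_lit 6, nat_lit 9, nat_lit 2, nat_lit 1, nat_lit 9, nat_lit 8, nat_lit 5, nat_lit 1, nat_lit 8, nat_lit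 6, nat_lit 7, nat_lit 6, nat_lit 5, nat_lit 6, nat_lit 2, nat_lit 4])) (.node (nat_lit 0x302396954173450) (.leaf ((nat_lit 1), [nat_lit 4, nat_lit 8, nat_lit 6, nat_lit 3, nat_lit 8, nat_lit 6, nat_lit 3, nat_lit 4, nat_lit 7, nat_lit 3, nat_lit 6, nat_lit 3, nat_lit 1])) (.leaf ((nat_lit 1), [nat_lit 6, nat_lit 5, nat_lit 2, nat_lit 8, nat_lit 7, nat_lit 1, nat_lit 7, nat_lit 3, nat_lit 4, nat_lit 6, nat_lit 3, nat_lit 4, nat_lit 3, nat_lit 1])))))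
 (.node (nat_lit 0x303106ee63f1b40) (.node (nat_lit 0x302ed8b3b11a724) (.leaf ((nat_lit 0), [nat_lit 0, nat_lit 7, nat_lit 0, nat_lit 9, nat_lit 1, nat_lit 9, nat_lit 3, nat_lit 7, nat_lit 5, nat_lit 8, nat_lit 3, nat_lit 4, nat_lit 6, nat_lit 4, nat_lit 3, nat_lit 3])) (.leaf ((nat_lit 0), [nat_lit 2, nat_lit 7, nat_lit 9, nat_lit 5, nat_lit 9, nat_lit 8, nat_lit 1, nat_lit 8, nat_lit 5, nat_lit 4, nat_lit 7, nat_lit 2, nat_lit 2, nat_lit 6, nat_lit 3, nat_lit 3]))) (.node (nat_lit 0x30327a9c9c0fab4) (.leaf ((nat_lit 1), [nat_lit 5, nat_lit 8, nat_lit 7, nat_lit 5, nat_lit 7, nat_lit 6, nat_lit 0])) (.node (nat_lit 0x3039be72efc1864) (.leaf ((nat_lit 4), [nat_lit 2, nat_lit 7, nat_lit 9, nat_lit 5, nat_lit 9, nat_lit 3, nat_lit 0, nat_lit 8, nat_lit 7, nat_lit 4, nat_lit 3, nat_lit 6, nat_lit 4, nat_lit 2, nat_lit 2, nat_lit 0])) (.leaf ((nat_lit 0), [nat_lit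 0, nat_lit 7, nat_lit 0, nat_lit 9, nat_lit 1, nat_lit 9, nat_lit 5, nat_lit 8, nat_lit 2, nat_lit 1, nat_lit 8, nat_lit 4, nat_lit 7, nat_lit 6, nat_lit 5, nat_lit 4, nat_lit 3, nat_lit 0]))))))
 (.node (nat_lit 0x3050a0be322ace0) (.node (nat_lit 0x3049007c75cdfa4) (.node (nat_lit 0x3042d36f7d25000) (.leaf ((nat_lit 1), [nat_lit 7, nat_lit 2, nat_lit 1, nat_lit 8, nat_lit 5, nat_lit 0, nat_lit 7, nat_lit 6, nat_lit 5, nat_lit 3, nat_lit 6, nat_lit 2, nat_lit 4, nat_lit 1])) (.leaf ((nat_lit 0), [nat_lit 2, nat_lit 7, nat_lit 9, nat_lit 5, nat_lit 9, nat_lit 3, nat_lit 1, nat_lit 8, nat_lit 0, nat_lit 7, nat_lit 2, nat_lit 0]))) (.node (nat_lit 0x3049ba349390384) (.leaf ((nat_lit 1), [nat_lit 2, nat_lit 8, nat_lit 7, nat_lit 5, nat_lit 7, nat_lit 2, nat_lit 4, nat_lit 3, nat_lit 6, nat_lit 3, nat_lit 3])) (.node (nat_lit 0x305044315e94de4) (.leaf ((nat_lit 4),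 [nat_lit 6, nat_lit 9, nat_lit 2, nat_lit 1, nat_lit 9, nat_lit 7, nat_lit 2, nat_lit 8, nat_lit 1, nat_lit 7, nat_lit 6, nat_lit 5, nat_lit 6, nat_lit 3, nat_lit 4])) (.leaf ((nat_lit 0), [nat_lit 0, nat_lit 7, nat_lit 0, nat_lit 9, nat_lit 1, nat_lit 9, nat_lit 8, nat_lit 2, nat_lit 6, nat_lit 8, nat_lit 4, nat_lit 1, nat_lit 7, nat_lit 3, nat_lit 3, nat_lit 6, nat_lit 2, nat_lit 0])))))
 (.node (nat_lit 0x305841aaf8bf200) (.node (nat_lit 0x3056cd765d614f4) (.leaf ((nat_lit 0), [nat_lit 6, nat_lit 9, nat_lit 2, nat_lit 1, nat_lit 9, nat_lit 7, nat_lit 5, nat_lit 8, nat_lit 5, nat_lit 4, nat_lit 7, nat_lit 2, nat_lit 2, nat_lit 6, nat_lit 4])) (.leaf ((nat_lit 1), [nat_lit 5, nat_lit 8, nat_lit 0, nat_lit 8, nat_lit 6, nat_lit 7, nat_lit 3, nat_lit 6, nat_lit 2, nat_lit 4, nat_lit 3]))) (.node (nat_lit 0x305fe231b3075e4) (.leaf ((nat_lit 0), [nat_lit 6, nat_lit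 9, nat_lit 2, nat_lit 1, nat_lit 9, nat_lit 7, nat_lit 8, nat_lit 7, nat_lit 0, nat_lit 8, nat_lit 3, nat_lit 4, nat_lit 7, nat_lit 5, nat_lit 6, nat_lit 1])) (.node (nat_lit 0x3067837bb8c9dd4) (.leaf ((nat_lit 1), [nat_lit 5, nat_lit 8, nat_lit 2, nat_lit 1, nat_lit 8, nat_lit 1, nat_lit 7, nat_lit 4, nat_lit 3, nat_lit 3, nat_lit 6, nat_lit 2])) (.leaf ((nat_lit 0), [nat_lit 0, nat_lit 7, nat_lit 0, nat_lit 9, nat_lit 1, nat_lit 9, nat_lit 8, nat_lit 4, nat_lit 6, nat_lit 8, nat_lit 0, nat_lit 7, nat_lit 5, nat_lit 6, nat_lit 5, nat_lit 2, nat_lit 4])))))))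
 (.node (nat_lit 0x3f9ee1d35bac38c) (.node (nat_lit 0x30854c4433c3444) (.node (nat_lit 0x30760b146ee3390) (.node (nat_lit 0x306b2531cb39f94) (.leaf ((nat_lit 1), [nat_lit 8, nat_lit 0, nat_lit 7, nat_lit 8, nat_lit 5, nat_lit 7, nat_lit 5, nat_lit 0, nat_lit 7, nat_lit 6, nat_lit 2, nat_lit 4, nat_lit 6, nat_lit 4, nat_lit 2, nat_lit 0])) (.leaf ((nat_lit 0), [nat_lit 6, nat_lit 9, nat_lit 2, nat_lit 1, nat_lit 9, nat_lit 7, nat_lit 8, nat_lit 0, nat_lit 8, nat_lit 6, nat_lit 5, nat_lit 0, nat_lit 7, nat_lit 3, nat_lit 4]))) (.node (nat_lit 0x3076c4b25180494) (.leaf ((nat_lit 4), [nat_lit 0, nat_lit 7, nat_lit 0, nat_lit 9, nat_lit 1, nat_lit 9, nat_lit 8, nat_lit 5, nat_lit 7, nat_lit 8, nat_lit 5, nat_lit 7, nat_lit 4, nat_lit 2, nat_lit 6, nat_lit 5])) (.node (nat_lit 0x307a66e42e3a614) (.leaf ((nat_lit 1), [nat_lit 3, nat_lit 3, nat_lit 8, nat_lit 7, nat_lit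 0, nat_lit 7, nat_lit 2, nat_lit 4, nat_lit 3, nat_lit 6, nat_lit 5])) (.leaf ((nat_lit 0), [nat_lit 2, nat_lit 7, nat_lit 9, nat_lit 5, nat_lit 9, nat_lit 3, nat_lit 6, nat_lit 8, nat_lit 7, nat_lit 1, nat_lit 7, nat_lit 5, nat_lit 3, nat_lit 6, nat_lit 5, nat_lit 3])))))
 (.node (nat_lit 0x3f8bfde0eab80dc) (.node (nat_lit 0x3087d6f7f731420) (.leaf ((nat_lit 1), [nat_lit 3, nat_lit 5, nat_lit 6, nat_lit 8, nat_lit 1, nat_lit 7, nat_lit 6, nat_lit 3, nat_lit 4, nat_lit 6, nat_lit 5, nat_lit 4, nat_lit 3, nat_lit 0])) (.leaf ((nat_lit 1), [nat_lit 0, nat_lit 7, nat_lit 8, nat_lit 5, nat_lit 4, nat_lit 7, nat_lit 2, nat_lit 4, nat_lit 3, nat_lit 6, nat_lit 2, nat_lit 4, nat_lit 0]))) (.node (nat_lit 0x3f8c5b1ceac5318) (.leaf ((nat_lit 6), [nat_lit 3, nat_lit 6, nat_lit 1, nat_lit 9, nat_lit 8, nat_lit 0, nat_lit 7, nat_lit 8, nat_lit 7, nat_lit 3, nat_lit 6, nat_lit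 4, nat_lit 2, nat_lit 1])) (.node (nat_lit 0x3f917132b74fb20) (.leaf ((nat_lit 6), [nat_lit 5, nat_lit 6, nat_lit 0, nat_lit 9, nat_lit 0, nat_lit 8, nat_lit 7, nat_lit 1, nat_lit 8, nat_lit 1, nat_lit 7, nat_lit 3, nat_lit 3, nat_lit 3, nat_lit 6, nat_lit 5, nat_lit 1])) (.leaf ((nat_lit 6), [nat_lit 7, nat_lit 5, nat_lit 3, nat_lit 9, nat_lit 3, nat_lit 3, nat_lit 8, nat_lit 1, nat_lit 7, nat_lit 4, nat_lit 6, nat_lit 2, nat_lit 4, nat_lit 3, nat_lit 1]))))))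
 (.node (nat_lit 0x3fb10af08e1a1c0) (.node (nat_lit 0x3fa33dac44c0338) (.node (nat_lit 0x3fa2e02ce514970) (.leaf ((nat_lit 1), [nat_lit 6, nat_lit 9, nat_lit 2, nat_lit 1, nat_lit 9, nat_lit 5, nat_lit 0, nat_lit 8, nat_lit 6, nat_lit 5, nat_lit 1, nat_lit 7, nat_lit 4, nat_lit 2, nat_lit 6, nat_lit 4])) (.leaf ((nat_lit 1), [nat_lit 2, nat_lit 7, nat_lit 9, nat_lit 5, nat_lit 9, nat_lit 2, nat_lit 6, nat_lit 3, nat_lit 8, nat_lit 6, nat_lit 3, nat_lit 4, nat_lit 7, nat_lit 4, nat_lit 6, nat_lit 2, nat_lit 4, nat_lit 2]))) (.node (nat_lit 0x3fab9820a74782c) (.leaf ((nat_lit 1), [nat_lit 6, nat_lit 9, nat_lit 2, nat_lit 1, nat_lit 9, nat_lit 2, nat_lit 6, nat_lit 1, nat_lit 8, nat_lit 1, nat_lit 7, nat_lit 4, nat_lit 1])) (.node (nat_lit 0x3faf96bb0c62c88) (.leaf ((nat_lit 1), [nat_lit 0, nat_lit 7, nat_lit 0, nat_lit 9, nat_lit 1, nat_lit 9, nat_lit 2, nat_lit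 6, nat_lit 8, nat_lit 6, nat_lit 5, nat_lit 7, nat_lit 5, nat_lit 3, nat_lit 6, nat_lit 0])) (.leaf ((nat_lit 1), [nat_lit 0, nat_lit 7, nat_lit 0, nat_lit 9, nat_lit 1, nat_lit 9, nat_lit 7, nat_lit 8, nat_lit 6, nat_lit 3, nat_lit 8, nat_lit 6, nat_lit 7, nat_lit 2, nat_lit 6, nat_lit 2, nat_lit 4])))))
 (.node (nat_lit 0x3fb8abfe91a1c78) (.node (nat_lit 0x3fb84ed84f45dac) (.leaf ((nat_lit 1), [nat_lit 6, nat_lit 9, nat_lit 2, nat_lit 1, nat_lit 9, nat_lit 4, nat_lit 3, nat_lit 8, nat_lit 3, nat_lit 4, nat_lit 6, nat_lit 5, nat_lit 4, nat_lit 3, nat_lit 3, nat_lit 3])) (.leaf ((nat_lit 3), [nat_lit 6, nat_lit 9, nat_lit 2, nat_lit 1, nat_lit 9, nat_lit 5, nat_lit 2, nat_lit 8, nat_lit 7, nat_lit 1, nat_lit 7, nat_lit 2, nat_lit 2, nat_lit 6, nat_lit 3]))) (.node (nat_lit 0x3fbdc1a7501fb80) (.leaf ((nat_lit 3), [nat_lit 2, nat_lit 7, nat_lit 9, nat_lit 5, nat_lit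 9, nat_lit 6, nat_lit 3, nat_lit 8, nat_lit 3, nat_lit 6, nat_lit 4, nat_lit 2, nat_lit 2, nat_lit 1])) (.node (nat_lit 0x3fca782fe59af58) (.leaf ((nat_lit 2), [nat_lit 4, nat_lit 8, nat_lit 6, nat_lit 3, nat_lit 8, nat_lit 7, nat_lit 5, nat_lit 1, nat_lit 7, nat_lit 4, nat_lit 6, nat_lit 5, nat_lit 3, nat_lit 1])) (.leaf ((nat_lit 2), [nat_lit 5, nat_lit 0, nat_lit 7, nat_lit 8, nat_lit 3, nat_lit 6, nat_lit 7, nat_lit 6, nat_lit 3, nat_lit 3, nat_lit 6, nat_lit 3, nat_lit 4, nat_lit 1]))))))))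
 (.node (nat_lit 0x402eb8ccff603ec) (.node (nat_lit 0x3ff782bc8d0b92c) (.node (nat_lit 0x3fdbe7f3d69ef38) (.node (nat_lit 0x3fcf3123bfa6ed8) (.node (nat_lit 0x3fced44ee037420) (.leaf ((nat_lit 2), [nat_lit 3, nat_lit 3, nat_lit 8, nat_lit 5, nat_lit 7, nat_lit 5, nat_lit 0, nat_lit 7, nat_lit 6, nat_lit 2, nat_lit 4])) (.leaf ((nat_lit 3), [nat_lit 6, nat_lit 9, nat_lit 2, nat_lit 1, nat_lit 9, nat_lit 7, nat_lit 0, nat_lit 8, nat_lit 5, nat_lit 7, nat_lit 4, nat_lit 2, nat_lit 6, nat_lit 5, nat_lit 3, nat_lit 3]))) (.node (nat_lit 0x3fd7e9180b7444c) (.leaf ((nat_lit 3), [nat_lit 0, nat_lit 7, nat_lit 0, nat_lit 9, nat_lit 1, nat_lit 9, nat_lit 1, nat_lit 7, nat_lit 8, nat_lit 1, nat_lit 7, nat_lit 3, nat_lit 6, nat_lit 5, nat_lit 3, nat_lit 3])) (.node (nat_lit 0x3fd8a27cfa1ed88) (.leaf ((nat_lit 0), [nat_lit 4, nat_lit 3, nat_lit 8, nat_lit 4, nat_lit 7, nat_lit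 3, nat_lit 4, nat_lit 6, nat_lit 4, nat_lit 3, nat_lit 1])) (.leaf ((nat_lit 0), [nat_lit 7, nat_lit 1, nat_lit 7, nat_lit 8, nat_lit 0, nat_lit 7, nat_lit 5, nat_lit 3, nat_lit 6, nat_lit 3, nat_lit 1])))))
 (.node (nat_lit 0x3fe442915d98ccc) (.node (nat_lit 0x3fdd5b57daf49f0) (.leaf ((nat_lit 0), [nat_lit 6, nat_lit 8, nat_lit 1, nat_lit 8, nat_lit 6, nat_lit 7, nat_lit 3, nat_lit 6, nat_lit 5, nat_lit 4, nat_lit 3, nat_lit 3])) (.leaf ((nat_lit 0), [nat_lit 2, nat_lit 7, nat_lit 6, nat_lit 8, nat_lit 4, nat_lit 0, nat_lit 7, nat_lit 3, nat_lit 4, nat_lit 3, nat_lit 0]))) (.node (nat_lit 0x3fe49f1ee928ec8) (.leaf ((nat_lit 2), [nat_lit 9, nat_lit 6, nat_lit 8, nat_lit 1, nat_lit 9, nat_lit 7, nat_lit 8, nat_lit 0, nat_lit 8, nat_lit 6, nat_lit 2, nat_lit 4, nat_lit 7, nat_lit 4, nat_lit 6, nat_lit 5, nat_lit 3])) (.node (nat_lit 0x3fe9b4dd92b4e30) (.leaf ((nat_lit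 2), [nat_lit 9, nat_lit 2, nat_lit 1, nat_lit 9, nat_lit 8, nat_lit 0, nat_lit 8, nat_lit 4, nat_lit 3, nat_lit 6, nat_lit 5, nat_lit 2, nat_lit 2])) (.leaf ((nat_lit 3), [nat_lit 0, nat_lit 7, nat_lit 0, nat_lit 9, nat_lit 1, nat_lit 9, nat_lit 6, nat_lit 1, nat_lit 8, nat_lit 6, nat_lit 7, nat_lit 4, nat_lit 3, nat_lit 6, nat_lit 4]))))))
 (.node (nat_lit 0x4016bfd0a2c8f60) (.node (nat_lit 0x4003dc0cba5c85c) (.node (nat_lit 0x3ffb81988634a00) (.leaf ((nat_lit 0), [nat_lit 8, nat_lit 3, nat_lit 1, nat_lit 8, nat_lit 7, nat_lit 1, nat_lit 7, nat_lit 6, nat_lit 4, nat_lit 3, nat_lit 6, nat_lit 2])) (.leaf ((nat_lit 0), [nat_lit 7, nat_lit 1, nat_lit 7, nat_lit 8, nat_lit 2, nat_lit 4, nat_lit 7, nat_lit 5, nat_lit 3, nat_lit 3, nat_lit 3, nat_lit 1]))) (.node (nat_lit 0x4008f280ac0e060) (.leaf ((nat_lit 3), [nat_lit 2, nat_lit 7, nat_lit 9, nat_lit 5, nat_lit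 9, nat_lit 6, nat_lit 1, nat_lit 8, nat_lit 5, nat_lit 0, nat_lit 7, nat_lit 4, nat_lit 6, nat_lit 4, nat_lit 3, nat_lit 1])) (.node (nat_lit 0x4014346513917dc) (.leaf ((nat_lit 2), [nat_lit 4, nat_lit 7, nat_lit 9, nat_lit 5, nat_lit 9, nat_lit 6, nat_lit 8, nat_lit 0, nat_lit 8, nat_lit 4, nat_lit 0, nat_lit 7, nat_lit 3, nat_lit 4, nat_lit 3, nat_lit 1])) (.leaf ((nat_lit 2), [nat_lit 3, nat_lit 9, nat_lit 2, nat_lit 1, nat_lit 9, nat_lit 4, nat_lit 6, nat_lit 8, nat_lit 6, nat_lit 7, nat_lit 6, nat_lit 4, nat_lit 3, nat_lit 6, nat_lit 5, nat_lit 1])))))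
 (.node (nat_lit 0x4020eb8c1fea8cc) (.node (nat_lit 0x40171c8bff06f98) (.leaf ((nat_lit 2), [nat_lit 9, nat_lit 1, nat_lit 8, nat_lit 7, nat_lit 9, nat_lit 7, nat_lit 8, nat_lit 5, nat_lit 1, nat_lit 7, nat_lit 2, nat_lit 6, nat_lit 3, nat_lit 4, nat_lit 3, nat_lit 3, nat_lit 1])) (.leaf ((nat_lit 2), [nat_lit 1, nat_lit 9, nat_lit 5, nat_lit 4, nat_lit 9, nat_lit 2, nat_lit 6, nat_lit 8, nat_lit 4, nat_lit 7, nat_lit 4, nat_lit 2, nat_lit 6, nat_lit 5, nat_lit 2, nat_lit 4]))) (.node (nat_lit 0x4024e9de798d0b0) (.leaf ((nat_lit 0), [nat_lit 3, nat_lit 5, nat_lit 8, nat_lit 0, nat_lit 7, nat_lit 3, nat_lit 4, nat_lit 3, nat_lit 1])) (.node (nat_lit 0x402d451fad3b038) (.leaf ((nat_lit 3), [nat_lit 6, nat_lit 9, nat_lit 2, nat_lit 1, nat_lit 9, nat_lit 2, nat_lit 6, nat_lit 0, nat_lit 8, nat_lit 6, nat_lit 1, nat_lit 7, nat_lit 2, nat_lit 6, nat_lit 2, nat_lit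 4, nat_lit 3])) (.leaf ((nat_lit 3), [nat_lit 0, nat_lit 7, nat_lit 0, nat_lit 9, nat_lit 1, nat_lit 9, nat_lit 4, nat_lit 3, nat_lit 8, nat_lit 6, nat_lit 5, nat_lit 6, nat_lit 7, nat_lit 2])))))))
 (.node (nat_lit 0x4059953d22ab748) (.node (nat_lit 0x404310317838d40) (.node (nat_lit 0x4036594a339b648) (.node (nat_lit 0x4035fc8e1fc43c0) (.leaf ((nat_lit 3), [nat_lit 2, nat_lit 7, nat_lit 9, nat_lit 5, nat_lit 9, nat_lit 5, nat_lit 8, nat_lit 2, nat_lit 1, nat_lit 8, nat_lit 0, nat_lit 7, nat_lit 4, nat_lit 2, nat_lit 6, nat_lit 0])) (.leaf ((nat_lit 0), [nat_lit 8, nat_lit 1, nat_lit 7, nat_lit 8, nat_lit 6, nat_lit 1, nat_lit 7, nat_lit 6, nat_lit 3, nat_lit 3, nat_lit 6, nat_lit 0]))) (.node (nat_lit 0x403fcb623c4cb2c) (.leaf ((nat_lit 0), [nat_lit 6, nat_lit 2, nat_lit 8, nat_lit 7, nat_lit 5, nat_lit 7, nat_lit 6, nat_lit 4, nat_lit 2, nat_lit 6, nat_lit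 4, nat_lit 2, nat_lit 1])) (.node (nat_lit 0x4040e282ba7b378) (.leaf ((nat_lit 0), [nat_lit 8, nat_lit 0, nat_lit 8, nat_lit 7, nat_lit 5, nat_lit 1, nat_lit 7, nat_lit 6, nat_lit 5, nat_lit 4, nat_lit 2])) (.leaf ((nat_lit 0), [nat_lit 6, nat_lit 5, nat_lit 8, nat_lit 0, nat_lit 8, nat_lit 0, nat_lit 7, nat_lit 4, nat_lit 6, nat_lit 3, nat_lit 4])))))
 (.node (nat_lit 0x404cdec262c069c) (.node (nat_lit 0x40436d00c574808) (.leaf ((nat_lit 1), [nat_lit 2, nat_lit 7, nat_lit 9, nat_lit 5, nat_lit 9, nat_lit 1, nat_lit 8, nat_lit 1, nat_lit 8, nat_lit 7, nat_lit 2, nat_lit 4, nat_lit 3, nat_lit 6, nat_lit 3, nat_lit 0])) (.leaf ((nat_lit 1), [nat_lit 6, nat_lit 9, nat_lit 2, nat_lit 1, nat_lit 9, nat_lit 8, nat_lit 7, nat_lit 5, nat_lit 1, nat_lit 7, nat_lit 6, nat_lit 4, nat_lit 2, nat_lit 6, nat_lit 5, nat_lit 3]))) (.node (nat_lit 0x404d98dd7fa9858) (.leaf ((nat_lit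 3), [nat_lit 0, nat_lit 7, nat_lit 0, nat_lit 9, nat_lit 1, nat_lit 9, nat_lit 6, nat_lit 8, nat_lit 7, nat_lit 1, nat_lit 7, nat_lit 1])) (.node (nat_lit 0x40513b0186790a0) (.leaf ((nat_lit 3), [nat_lit 6, nat_lit 9, nat_lit 2, nat_lit 1, nat_lit 9, nat_lit 8, nat_lit 1, nat_lit 8, nat_lit 4, nat_lit 1, nat_lit 7, nat_lit 2, nat_lit 2, nat_lit 6, nat_lit 2])) (.leaf ((nat_lit 6), [nat_lit 5, nat_lit 9, nat_lit 2, nat_lit 9, nat_lit 5, nat_lit 7, nat_lit 8, nat_lit 5, nat_lit 1, nat_lit 7, nat_lit 6, nat_lit 2, nat_lit 0]))))))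
 (.node (nat_lit 0x4078d27b717466c) (.node (nat_lit 0x4062a9ffd61c830) (.node (nat_lit 0x405b09c4638d00c) (.leaf ((nat_lit 2), [nat_lit 6, nat_lit 7, nat_lit 1, nat_lit 8, nat_lit 6, nat_lit 5, nat_lit 1, nat_lit 7, nat_lit 2, nat_lit 2, nat_lit 6, nat_lit 5, nat_lit 4, nat_lit 2])) (.leaf ((nat_lit 2), [nat_lit 3, nat_lit 3, nat_lit 9, nat_lit 0, nat_lit 9, nat_lit 7, nat_lit 2, nat_lit 1, nat_lit 8, nat_lit 6, nat_lit 7, nat_lit 4, nat_lit 6, nat_lit 3, nat_lit 0]))) (.node (nat_lit 0x406c791586723cc) (.leaf ((nat_lit 1), [nat_lit 0, nat_lit 7, nat_lit 0, nat_lit 9, nat_lit 1, nat_lit 9, nat_lit 7, nat_lit 8, nat_lit 3, nat_lit 4, nat_lit 6, nat_lit 5, nat_lit 0])) (.node (nat_lit 0x406ea67e8e43670) (.leaf ((nat_lit 1), [nat_lit 0, nat_lit 7, nat_lit 0, nat_lit 9, nat_lit 1, nat_lit 9, nat_lit 2, nat_lit 6, nat_lit 2, nat_lit 8, nat_lit 3, nat_lit 6, nat_lit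 7, nat_lit 6, nat_lit 2, nat_lit 4])) (.leaf ((nat_lit 0), [nat_lit 7, nat_lit 8, nat_lit 7, nat_lit 0, nat_lit 8, nat_lit 7, nat_lit 4, nat_lit 3, nat_lit 3, nat_lit 6, nat_lit 4, nat_lit 2, nat_lit 2, nat_lit 0])))))
 (.node (nat_lit 0x407d2e63440f980) (.node (nat_lit 0x40798cc2369b5b8) (.leaf ((nat_lit 1), [nat_lit 2, nat_lit 7, nat_lit 9, nat_lit 5, nat_lit 9, nat_lit 1, nat_lit 7, nat_lit 8, nat_lit 7, nat_lit 1, nat_lit 7, nat_lit 2, nat_lit 2, nat_lit 6, nat_lit 3, nat_lit 1])) (.leaf ((nat_lit 1), [nat_lit 2, nat_lit 7, nat_lit 9, nat_lit 5, nat_lit 9, nat_lit 7, nat_lit 5, nat_lit 0, nat_lit 8, nat_lit 7, nat_lit 5, nat_lit 7, nat_lit 6, nat_lit 5, nat_lit 3, nat_lit 4, nat_lit 3, nat_lit 0]))) (.node (nat_lit 0x40858921abffc98) (.leaf ((nat_lit 2), [nat_lit 9, nat_lit 6, nat_lit 4, nat_lit 9, nat_lit 7, nat_lit 0, nat_lit 8, nat_lit 5, nat_lit 4, nat_lit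 7, nat_lit 2, nat_lit 4, nat_lit 6, nat_lit 2, nat_lit 4, nat_lit 2])) (.node (nat_lit 0x4086fcb94073cdc) (.leaf ((nat_lit 6), [nat_lit 7, nat_lit 1, nat_lit 7, nat_lit 3, nat_lit 9, nat_lit 3, nat_lit 7, nat_lit 8, nat_lit 5, nat_lit 7, nat_lit 4, nat_lit 2, nat_lit 6])) (.leaf ((nat_lit 6), [nat_lit 5, nat_lit 2, nat_lit 9, nat_lit 8, nat_lit 5, nat_lit 1, nat_lit 8, nat_lit 3, nat_lit 6, nat_lit 7, nat_lit 4, nat_lit 6, nat_lit 4, nat_lit 2]))))))))))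
 (.node (nat_lit 0x410faf05673bdec) (.node (nat_lit 0x40cfad7e80c49a4) (.node (nat_lit 0x40b46f862bebb64) (.node (nat_lit 0x40a3ba0c3bdf1a4) (.node (nat_lit 0x409b15ba93596d8) (.node (nat_lit 0x4098775db4debf8) (.node (nat_lit 0x40981a7aa438410) (.leaf ((nat_lit 3), [nat_lit 2, nat_lit 7, nat_lit 9, nat_lit 5, nat_lit 9, nat_lit 6, nat_lit 8, nat_lit 0, nat_lit 7, nat_lit 2, nat_lit 4, nat_lit 3, nat_lit 6, nat_lit 5])) (.leaf ((nat_lit 3), [nat_lit 2, nat_lit 2, nat_lit 9, nat_lit 0, nat_lit 9, nat_lit 8, nat_lit 6, nat_lit 3, nat_lit 8, nat_lit 6, nat_lit 7, nat_lit 5, nat_lit 3, nat_lit 4]))) (.node (nat_lit 0x4098e813993ad94) (.leaf ((nat_lit 0), [nat_lit 5, nat_lit 7, nat_lit 8, nat_lit 7, nat_lit 1, nat_lit 7, nat_lit 2, nat_lit 6, nat_lit 5, nat_lit 1])) (.node (nat_lit 0x409b15b2ab86b40) (.leaf ((nat_lit 2), [nat_lit 2, nat_lit 1, nat_lit 8, nat_lit 6,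 nat_lit 5, nat_lit 0, nat_lit 7, nat_lit 2, nat_lit 2, nat_lit 6, nat_lit 4, nat_lit 2, nat_lit 2])) (.leaf ((nat_lit 2), [nat_lit 7, nat_lit 9, nat_lit 2, nat_lit 1, nat_lit 9, nat_lit 4, nat_lit 7, nat_lit 6, nat_lit 8, nat_lit 3, nat_lit 4, nat_lit 7, nat_lit 5, nat_lit 2, nat_lit 0])))))
 (.node (nat_lit 0x409b7304ce5b014) (.node (nat_lit 0x409b15c02527d94) (.leaf ((nat_lit 3), [nat_lit 6, nat_lit 9, nat_lit 5, nat_lit 3, nat_lit 1, nat_lit 9, nat_lit 5, nat_lit 8, nat_lit 4, nat_lit 1, nat_lit 7, nat_lit 2, nat_lit 4, nat_lit 6, nat_lit 3, nat_lit 4, nat_lit 3, nat_lit 0])) (.leaf ((nat_lit 6), [nat_lit 7, nat_lit 2, nat_lit 9, nat_lit 0, nat_lit 9, nat_lit 6, nat_lit 5, nat_lit 0, nat_lit 7, nat_lit 2, nat_lit 2, nat_lit 6, nat_lit 3, nat_lit 1]))) (.node (nat_lit 0x409bd00f65ea118) (.leaf ((nat_lit 1), [nat_lit 2, nat_lit 7, nat_lit 9, nat_lit 5, nat_lit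 9, nat_lit 6, nat_lit 3, nat_lit 0, nat_lit 8, nat_lit 7, nat_lit 2, nat_lit 4, nat_lit 3, nat_lit 1])) (.node (nat_lit 0x409c1946cdde9a8) (.leaf ((nat_lit 1), [nat_lit 9, nat_lit 7, nat_lit 5, nat_lit 0, nat_lit 9, nat_lit 1, nat_lit 8, nat_lit 1, nat_lit 8, nat_lit 6, nat_lit 5, nat_lit 6, nat_lit 7, nat_lit 5, nat_lit 6, nat_lit 5, nat_lit 3, nat_lit 6, nat_lit 0])) (.leaf ((nat_lit 3), [nat_lit 9, nat_lit 7, nat_lit 5, nat_lit 0, nat_lit 9, nat_lit 7, nat_lit 8, nat_lit 6, nat_lit 7, nat_lit 6, nat_lit 4, nat_lit 3, nat_lit 6, nat_lit 5, nat_lit 3, nat_lit 4, nat_lit 3, nat_lit 3]))))))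
 (.node (nat_lit 0x40ab6e365170384) (.node (nat_lit 0x40a487bdce1acc0) (.node (nat_lit 0x40a42aaee6d6b00) (.leaf ((nat_lit 3), [nat_lit 0, nat_lit 7, nat_lit 0, nat_lit 9, nat_lit 1, nat_lit 9, nat_lit 3, nat_lit 7, nat_lit 5, nat_lit 8, nat_lit 5, nat_lit 7, nat_lit 6, nat_lit 4, nat_lit 2, nat_lit 1])) (.leaf ((nat_lit 0), [nat_lit 5, nat_lit 0, nat_lit 8, nat_lit 5, nat_lit 6, nat_lit 5, nat_lit 3, nat_lit 4, nat_lit 3]))) (.node (nat_lit 0x40ab6e28d7dfc80) (.leaf ((nat_lit 2), [nat_lit 3, nat_lit 3, nat_lit 9, nat_lit 0, nat_lit 9, nat_lit 7, nat_lit 5, nat_lit 8, nat_lit 2, nat_lit 4, nat_lit 7, nat_lit 2, nat_lit 4, nat_lit 6])) (.node (nat_lit 0x40ab6e30bf8a6d4) (.leaf ((nat_lit 2), [nat_lit 1, nat_lit 9, nat_lit 5, nat_lit 9, nat_lit 5, nat_lit 8, nat_lit 2, nat_lit 1, nat_lit 8, nat_lit 7, nat_lit 6, nat_lit 3, nat_lit 4, nat_lit 3, nat_lit 3])) (.leaf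 ((nat_lit 3), [nat_lit 2, nat_lit 7, nat_lit 9, nat_lit 5, nat_lit 9, nat_lit 4, nat_lit 6, nat_lit 8, nat_lit 4, nat_lit 7, nat_lit 5, nat_lit 6, nat_lit 5])))))
 (.node (nat_lit 0x40ac287d4e70c04) (.node (nat_lit 0x40abcb887431ae8) (.leaf ((nat_lit 6), [nat_lit 4, nat_lit 8, nat_lit 1, nat_lit 9, nat_lit 7, nat_lit 6, nat_lit 8, nat_lit 7, nat_lit 1, nat_lit 7, nat_lit 4, nat_lit 3, nat_lit 6, nat_lit 5, nat_lit 4, nat_lit 3, nat_lit 3])) (.leaf ((nat_lit 0), [nat_lit 6, nat_lit 8, nat_lit 6, nat_lit 5, nat_lit 1, nat_lit 7, nat_lit 2, nat_lit 6, nat_lit 5, nat_lit 3, nat_lit 4, nat_lit 3]))) (.node (nat_lit 0x40ac71cf4d8e394) (.leaf ((nat_lit 0), [nat_lit 4, nat_lit 0, nat_lit 7, nat_lit 8, nat_lit 7, nat_lit 1, nat_lit 7, nat_lit 4, nat_lit 3, nat_lit 6, nat_lit 2])) (.node (nat_lit 0x40b4127cd64ffd0) (.leaf ((nat_lit 0), [nat_lit 1, nat_lit 8, nat_lit 6,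 nat_lit 1, nat_lit 8, nat_lit 5, nat_lit 7, nat_lit 2, nat_lit 4])) (.leaf ((nat_lit 1), [nat_lit 2, nat_lit 7, nat_lit 9, nat_lit 5, nat_lit 9, nat_lit 3, nat_lit 3, nat_lit 8, nat_lit 7, nat_lit 1, nat_lit 7, nat_lit 5, nat_lit 6, nat_lit 5, nat_lit 4, nat_lit 2, nat_lit 1])))))))
 (.node (nat_lit 0x40c42183e8617e8) (.node (nat_lit 0x40b70e078cc452c) (.node (nat_lit 0x40b6b0c9e54a46c) (.node (nat_lit 0x40b4e01a1b3ded4) (.leaf ((nat_lit 0), [nat_lit 4, nat_lit 8, nat_lit 6, nat_lit 3, nat_lit 8, nat_lit 5, nat_lit 7, nat_lit 2, nat_lit 6, nat_lit 5, nat_lit 2, nat_lit 4])) (.leaf ((nat_lit 1), [nat_lit 2, nat_lit 2, nat_lit 9, nat_lit 1, nat_lit 9, nat_lit 0, nat_lit 8, nat_lit 6, nat_lit 2, nat_lit 2, nat_lit 6, nat_lit 2, nat_lit 4, nat_lit 2, nat_lit 0]))) (.node (nat_lit 0x40b6b0d1cd0d014) (.leaf ((nat_lit 2), [nat_lit 5, nat_lit 2, nat_lit 8, nat_lit 5,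 nat_lit 7, nat_lit 5, nat_lit 0, nat_lit 7, nat_lit 6, nat_lit 3, nat_lit 4, nat_lit 6, nat_lit 5, nat_lit 4, nat_lit 2, nat_lit 1])) (.node (nat_lit 0x40b6b0d75eca8a8) (.leaf ((nat_lit 3), [nat_lit 2, nat_lit 2, nat_lit 9, nat_lit 1, nat_lit 9, nat_lit 7, nat_lit 8, nat_lit 7, nat_lit 0, nat_lit 8, nat_lit 6, nat_lit 5, nat_lit 1, nat_lit 7, nat_lit 6, nat_lit 2, nat_lit 4, nat_lit 6])) (.leaf ((nat_lit 6), [nat_lit 6, nat_lit 9, nat_lit 5, nat_lit 9, nat_lit 1, nat_lit 7, nat_lit 5, nat_lit 8, nat_lit 0, nat_lit 7, nat_lit 3, nat_lit 4, nat_lit 3, nat_lit 3, nat_lit 6, nat_lit 2])))))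
 (.node (nat_lit 0x40b7b4561fcf73c) (.node (nat_lit 0x40b7577b52cc2a4) (.leaf ((nat_lit 2), [nat_lit 6, nat_lit 9, nat_lit 5, nat_lit 3, nat_lit 1, nat_lit 9, nat_lit 2, nat_lit 6, nat_lit 8, nat_lit 4, nat_lit 0, nat_lit 7, nat_lit 6, nat_lit 2, nat_lit 2, nat_lit 6, nat_lit 3])) (.leaf ((nat_lit 1), [nat_lit 7, nat_lit 9, nat_lit 2, nat_lit 1, nat_lit 9, nat_lit 2, nat_lit 6, nat_lit 3, nat_lit 8, nat_lit 3, nat_lit 4, nat_lit 7, nat_lit 2, nat_lit 4, nat_lit 6, nat_lit 1]))) (.node (nat_lit 0x40c353ec3562f24) (.leaf ((nat_lit 1), [nat_lit 2, nat_lit 9, nat_lit 3, nat_lit 5, nat_lit 9, nat_lit 1, nat_lit 8, nat_lit 1, nat_lit 8, nat_lit 4, nat_lit 7, nat_lit 5, nat_lit 6, nat_lit 5, nat_lit 3, nat_lit 6, nat_lit 4, nat_lit 3, nat_lit 1])) (.node (nat_lit 0x40c3b0e75960c28) (.leaf ((nat_lit 1), [nat_lit 2, nat_lit 2, nat_lit 9, nat_lit 0, nat_lit 9, nat_lit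 6, nat_lit 0, nat_lit 8, nat_lit 3, nat_lit 6, nat_lit 7, nat_lit 3, nat_lit 3, nat_lit 3, nat_lit 6, nat_lit 5, nat_lit 1])) (.leaf ((nat_lit 0), [nat_lit 8, nat_lit 0, nat_lit 7, nat_lit 8, nat_lit 6, nat_lit 2, nat_lit 4, nat_lit 6, nat_lit 4, nat_lit 2, nat_lit 0]))))))
 (.node (nat_lit 0x40c7098546f48d4) (.node (nat_lit 0x40c538374ea8554) (.node (nat_lit 0x40c47e8d3dfad18) (.leaf ((nat_lit 1), [nat_lit 6, nat_lit 9, nat_lit 2, nat_lit 1, nat_lit 9, nat_lit 8, nat_lit 1, nat_lit 7, nat_lit 8, nat_lit 1, nat_lit 7, nat_lit 3, nat_lit 3, nat_lit 3])) (.leaf ((nat_lit 0), [nat_lit 6, nat_lit 3, nat_lit 4, nat_lit 7, nat_lit 6, nat_lit 2, nat_lit 4, nat_lit 6, nat_lit 3, nat_lit 0]))) (.node (nat_lit 0x40c5383d0e8f294) (.leaf ((nat_lit 2), [nat_lit 6, nat_lit 9, nat_lit 5, nat_lit 9, nat_lit 5, nat_lit 7, nat_lit 8, nat_lit 7, nat_lit 3, nat_lit 4, nat_lit 3,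 nat_lit 3, nat_lit 6, nat_lit 3, nat_lit 1])) (.node (nat_lit 0x40c53845244b318) (.leaf ((nat_lit 3), [nat_lit 7, nat_lit 9, nat_lit 2, nat_lit 1, nat_lit 9, nat_lit 6, nat_lit 8, nat_lit 1, nat_lit 8, nat_lit 7, nat_lit 6, nat_lit 3, nat_lit 3, nat_lit 6, nat_lit 4, nat_lit 0])) (.leaf ((nat_lit 6), [nat_lit 8, nat_lit 7, nat_lit 8, nat_lit 1, nat_lit 9, nat_lit 8, nat_lit 5, nat_lit 8, nat_lit 7, nat_lit 1, nat_lit 7, nat_lit 4, nat_lit 3, nat_lit 3, nat_lit 6, nat_lit 3, nat_lit 3])))))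
 (.node (nat_lit 0x40c7afcd34273a4) (.node (nat_lit 0x40c7667c76ffac0) (.leaf ((nat_lit 1), [nat_lit 7, nat_lit 9, nat_lit 2, nat_lit 1, nat_lit 9, nat_lit 3, nat_lit 1, nat_lit 8, nat_lit 1, nat_lit 7, nat_lit 4, nat_lit 6, nat_lit 2, nat_lit 4, nat_lit 3])) (.leaf ((nat_lit 1), [nat_lit 6, nat_lit 9, nat_lit 2, nat_lit 1, nat_lit 9, nat_lit 7, nat_lit 2, nat_lit 8, nat_lit 2, nat_lit 4, nat_lit 6, nat_lit 4, nat_lit 3, nat_lit 3, nat_lit 3, nat_lit 1]))) (.node (nat_lit 0x40c80cd011f75a4) (.leaf ((nat_lit 0), [nat_lit 8, nat_lit 6, nat_lit 3, nat_lit 8, nat_lit 6, nat_lit 2, nat_lit 4, nat_lit 7, nat_lit 6, nat_lit 4, nat_lit 3, nat_lit 6, nat_lit 5])) (.node (nat_lit 0x40cf5077af271bc) (.leaf ((nat_lit 0), [nat_lit 0, nat_lit 8, nat_lit 7, nat_lit 1, nat_lit 8, nat_lit 4, nat_lit 3, nat_lit 6, nat_lit 5, nat_lit 4])) (.leaf ((nat_lit 3), [nat_lit 6, nat_lit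 9, nat_lit 5, nat_lit 3, nat_lit 1, nat_lit 9, nat_lit 3, nat_lit 5, nat_lit 8, nat_lit 3, nat_lit 4, nat_lit 7, nat_lit 4, nat_lit 6, nat_lit 5, nat_lit 3, nat_lit 3]))))))))
 (.node (nat_lit 0x40f1189005c0d28) (.node (nat_lit 0x40e0769d17a6c80) (.node (nat_lit 0x40d762035aea254) (.node (nat_lit 0x40d0d7d54c12fec) (.node (nat_lit 0x40d01e2c4f37594) (.leaf ((nat_lit 0), [nat_lit 7, nat_lit 2, nat_lit 8, nat_lit 3, nat_lit 6, nat_lit 7, nat_lit 6, nat_lit 3, nat_lit 4, nat_lit 3, nat_lit 1])) (.leaf ((nat_lit 2), [nat_lit 8, nat_lit 6, nat_lit 3, nat_lit 1, nat_lit 8, nat_lit 7, nat_lit 5, nat_lit 6, nat_lit 7, nat_lit 2, nat_lit 2, nat_lit 6, nat_lit 3]))) (.node (nat_lit 0x40d0d7db0bd1ec0) (.leaf ((nat_lit 3), [nat_lit 2, nat_lit 9, nat_lit 3, nat_lit 5, nat_lit 9, nat_lit 7, nat_lit 2, nat_lit 5, nat_lit 8, nat_lit 5, nat_lit 4, nat_lit 7, nat_lit 6, nat_lit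 3, nat_lit 3, nat_lit 6, nat_lit 2, nat_lit 4])) (.node (nat_lit 0x40d0d7e321a5dc0) (.leaf ((nat_lit 6), [nat_lit 9, nat_lit 4, nat_lit 9, nat_lit 6, nat_lit 2, nat_lit 8, nat_lit 6, nat_lit 7, nat_lit 2, nat_lit 4, nat_lit 6, nat_lit 5, nat_lit 0])) (.leaf ((nat_lit 2), [nat_lit 6, nat_lit 9, nat_lit 5, nat_lit 9, nat_lit 7, nat_lit 5, nat_lit 8, nat_lit 6, nat_lit 1, nat_lit 7, nat_lit 4, nat_lit 3, nat_lit 3, nat_lit 6, nat_lit 3, nat_lit 3, nat_lit 3])))))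
 (.node (nat_lit 0x40d808438e77be4) (.node (nat_lit 0x40d7ab54740ecb8) (.leaf ((nat_lit 0), [nat_lit 3, nat_lit 0, nat_lit 8, nat_lit 7, nat_lit 3, nat_lit 4, nat_lit 7, nat_lit 3, nat_lit 6, nat_lit 5, nat_lit 4, nat_lit 3, nat_lit 3, nat_lit 1])) (.leaf ((nat_lit 1), [nat_lit 0, nat_lit 7, nat_lit 0, nat_lit 9, nat_lit 1, nat_lit 9, nat_lit 6, nat_lit 5, nat_lit 0, nat_lit 7, nat_lit 3, nat_lit 3, nat_lit 3, nat_lit 6, nat_lit 2, nat_lit 2, nat_lit 0]))) (.node (nat_lit 0x40dfa8efa75f150) (.leaf ((nat_lit 1), [nat_lit 2, nat_lit 2, nat_lit 9, nat_lit 1, nat_lit 9, nat_lit 1, nat_lit 7, nat_lit 5, nat_lit 8, nat_lit 6, nat_lit 0, nat_lit 7, nat_lit 3, nat_lit 4, nat_lit 6, nat_lit 2, nat_lit 2])) (.node (nat_lit 0x40e0199c33eec04) (.leaf ((nat_lit 3), [nat_lit 2, nat_lit 2, nat_lit 9, nat_lit 1, nat_lit 9, nat_lit 3, nat_lit 6, nat_lit 8, nat_lit 4, nat_lit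 3, nat_lit 6, nat_lit 3, nat_lit 3, nat_lit 1])) (.leaf ((nat_lit 2), [nat_lit 3, nat_lit 6, nat_lit 9, nat_lit 1, nat_lit 9, nat_lit 4, nat_lit 3, nat_lit 8, nat_lit 5, nat_lit 0, nat_lit 7, nat_lit 2, nat_lit 4, nat_lit 3, nat_lit 6, nat_lit 3, nat_lit 1]))))))
 (.node (nat_lit 0x40e34b043aec710) (.node (nat_lit 0x40e1305138286c4) (.node (nat_lit 0x40e1304b78524d4) (.leaf ((nat_lit 0), [nat_lit 8, nat_lit 0, nat_lit 8, nat_lit 7, nat_lit 1, nat_lit 7, nat_lit 2, nat_lit 2, nat_lit 1])) (.leaf ((nat_lit 6), [nat_lit 6, nat_lit 3, nat_lit 9, nat_lit 6, nat_lit 5, nat_lit 2, nat_lit 8, nat_lit 0, nat_lit 7, nat_lit 2, nat_lit 4, nat_lit 3, nat_lit 6, nat_lit 5, nat_lit 4, nat_lit 2, nat_lit 1]))) (.node (nat_lit 0x40e130594dd41a8) (.leaf ((nat_lit 2), [nat_lit 7, nat_lit 9, nat_lit 2, nat_lit 1, nat_lit 9, nat_lit 8, nat_lit 4, nat_lit 6, nat_lit 8, nat_lit 0,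 nat_lit 7, nat_lit 3, nat_lit 6, nat_lit 4])) (.node (nat_lit 0x40e301b8e183b28) (.leaf ((nat_lit 3), [nat_lit 6, nat_lit 9, nat_lit 2, nat_lit 1, nat_lit 9, nat_lit 3, nat_lit 0, nat_lit 8, nat_lit 7, nat_lit 5, nat_lit 0, nat_lit 7, nat_lit 5, nat_lit 3, nat_lit 4, nat_lit 0])) (.leaf ((nat_lit 2), [nat_lit 9, nat_lit 6, nat_lit 8, nat_lit 1, nat_lit 9, nat_lit 8, nat_lit 0, nat_lit 8, nat_lit 4, nat_lit 0, nat_lit 7, nat_lit 4, nat_lit 3])))))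
 (.node (nat_lit 0x40f0cef50b440e8) (.node (nat_lit 0x40f072422aafe18) (.leaf ((nat_lit 3), [nat_lit 7, nat_lit 9, nat_lit 2, nat_lit 1, nat_lit 9, nat_lit 2, nat_lit 6, nat_lit 0, nat_lit 8, nat_lit 6, nat_lit 3, nat_lit 4, nat_lit 7, nat_lit 3, nat_lit 3, nat_lit 6, nat_lit 4, nat_lit 1])) (.leaf ((nat_lit 2), [nat_lit 8, nat_lit 7, nat_lit 8, nat_lit 5, nat_lit 8, nat_lit 6, nat_lit 5, nat_lit 1, nat_lit 7, nat_lit 5, nat_lit 3, nat_lit 6, nat_lit 0]))) (.node (nat_lit 0x40f0cefd7d12998) (.leaf ((nat_lit 2), [nat_lit 2, nat_lit 7, nat_lit 9, nat_lit 5, nat_lit 9, nat_lit 5, nat_lit 7, nat_lit 0, nat_lit 8, nat_lit 2, nat_lit 4, nat_lit 7, nat_lit 3, nat_lit 4, nat_lit 6, nat_lit 2])) (.node (nat_lit 0x40f0cf02e0e9ac0) (.leaf ((nat_lit 2), [nat_lit 2, nat_lit 2, nat_lit 9, nat_lit 0, nat_lit 9, nat_lit 7, nat_lit 0, nat_lit 8, nat_lit 5, nat_lit 7, nat_lit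 4, nat_lit 3, nat_lit 6, nat_lit 5, nat_lit 3, nat_lit 4, nat_lit 3, nat_lit 3])) (.leaf ((nat_lit 2), [nat_lit 2, nat_lit 2, nat_lit 9, nat_lit 1, nat_lit 9, nat_lit 4, nat_lit 3, nat_lit 8, nat_lit 2, nat_lit 4, nat_lit 7, nat_lit 5, nat_lit 6, nat_lit 0])))))))
 (.node (nat_lit 0x41039ec435063d4) (.node (nat_lit 0x40fc119618c40ec) (.node (nat_lit 0x40f3b6f6fd74600) (.node (nat_lit 0x40f2e94b58f37d0) (.leaf ((nat_lit 1), [nat_lit 6, nat_lit 9, nat_lit 5, nat_lit 3, nat_lit 1, nat_lit 9, nat_lit 3, nat_lit 8, nat_lit 3, nat_lit 6, nat_lit 7, nat_lit 5, nat_lit 2, nat_lit 2])) (.leaf ((nat_lit 0), [nat_lit 6, nat_lit 8, nat_lit 7, nat_lit 5, nat_lit 7, nat_lit 6, nat_lit 4, nat_lit 3, nat_lit 6, nat_lit 2, nat_lit 0]))) (.node (nat_lit 0x40fb57d450c6454) (.leaf ((nat_lit 0), [nat_lit 7, nat_lit 1, nat_lit 8, nat_lit 7, nat_lit 1, nat_lit 7, nat_lit 6, nat_lit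 2, nat_lit 2, nat_lit 6, nat_lit 4, nat_lit 3])) (.node (nat_lit 0x40fbb4dac66156c) (.leaf ((nat_lit 2), [nat_lit 8, nat_lit 6, nat_lit 3, nat_lit 8, nat_lit 4, nat_lit 0, nat_lit 7, nat_lit 5, nat_lit 2, nat_lit 4, nat_lit 2, nat_lit 0])) (.leaf ((nat_lit 0), [nat_lit 4, nat_lit 0, nat_lit 7, nat_lit 8, nat_lit 1, nat_lit 7, nat_lit 3, nat_lit 6, nat_lit 4, nat_lit 3, nat_lit 1])))))
 (.node (nat_lit 0x40fc11a3ee41814) (.node (nat_lit 0x40fc119e8a7b514) (.leaf ((nat_lit 6), [nat_lit 3, nat_lit 6, nat_lit 9, nat_lit 1, nat_lit 9, nat_lit 2, nat_lit 6, nat_lit 8, nat_lit 6, nat_lit 0, nat_lit 7, nat_lit 6, nat_lit 5, nat_lit 4, nat_lit 1])) (.leaf ((nat_lit 6), [nat_lit 0, nat_lit 8, nat_lit 7, nat_lit 1, nat_lit 8, nat_lit 5, nat_lit 7, nat_lit 5, nat_lit 7, nat_lit 3]))) (.node (nat_lit 0x40fc5b28a17247c) (.leaf ((nat_lit 6), [nat_lit 7, nat_lit 8, nat_lit 1,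 nat_lit 9, nat_lit 7, nat_lit 8, nat_lit 7, nat_lit 3, nat_lit 4, nat_lit 7, nat_lit 2, nat_lit 2, nat_lit 6, nat_lit 5, nat_lit 2, nat_lit 2])) (.node (nat_lit 0x40fcb81423d7690) (.leaf ((nat_lit 0), [nat_lit 8, nat_lit 2, nat_lit 6, nat_lit 0, nat_lit 8, nat_lit 4, nat_lit 7, nat_lit 2, nat_lit 4, nat_lit 6, nat_lit 5, nat_lit 2, nat_lit 0])) (.leaf ((nat_lit 3), [nat_lit 6, nat_lit 9, nat_lit 2, nat_lit 1, nat_lit 9, nat_lit 3, nat_lit 6, nat_lit 8, nat_lit 6, nat_lit 0, nat_lit 7, nat_lit 6, nat_lit 5, nat_lit 6, nat_lit 3, nat_lit 4]))))))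
 (.node (nat_lit 0x410c6a0c450a794) (.node (nat_lit 0x4104c9628bb1dd4) (.node (nat_lit 0x4103fbc9689b4e4) (.leaf ((nat_lit 1), [nat_lit 9, nat_lit 7, nat_lit 5, nat_lit 0, nat_lit 9, nat_lit 1, nat_lit 7, nat_lit 8, nat_lit 4, nat_lit 0, nat_lit 7, nat_lit 2, nat_lit 6, nat_lit 5, nat_lit 0])) (.leaf ((nat_lit 1), [nat_lit 6, nat_lit 9, nat_lit 2, nat_lit 1, nat_lit 9, nat_lit 1, nat_lit 8, nat_lit 6, nat_lit 0, nat_lit 7, nat_lit 3, nat_lit 3, nat_lit 3, nat_lit 6, nat_lit 3, nat_lit 1]))) (.node (nat_lit 0x410bb06206492c4) (.leaf ((nat_lit 2), [nat_lit 7, nat_lit 2, nat_lit 9, nat_lit 0, nat_lit 9, nat_lit 5, nat_lit 7, nat_lit 0, nat_lit 8, nat_lit 5, nat_lit 6, nat_lit 7, nat_lit 2, nat_lit 6, nat_lit 1])) (.node (nat_lit 0x410c0d396966340) (.leaf ((nat_lit 1), [nat_lit 9, nat_lit 7, nat_lit 5, nat_lit 0, nat_lit 9, nat_lit 4, nat_lit 6, nat_lit 8, nat_lit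 4, nat_lit 7, nat_lit 6, nat_lit 2, nat_lit 2, nat_lit 6, nat_lit 5, nat_lit 4, nat_lit 3])) (.leaf ((nat_lit 0), [nat_lit 7, nat_lit 8, nat_lit 7, nat_lit 0, nat_lit 7, nat_lit 5, nat_lit 3, nat_lit 4, nat_lit 3, nat_lit 0])))))
 (.node (nat_lit 0x410c6a1a1a98184) (.node (nat_lit 0x410c6a14b6b0f00) (.leaf ((nat_lit 3), [nat_lit 2, nat_lit 2, nat_lit 9, nat_lit 0, nat_lit 9, nat_lit 2, nat_lit 1, nat_lit 8, nat_lit 6, nat_lit 5, nat_lit 1, nat_lit 7, nat_lit 5, nat_lit 2, nat_lit 1])) (.leaf ((nat_lit 3), [nat_lit 0, nat_lit 7, nat_lit 0, nat_lit 9, nat_lit 1, nat_lit 9, nat_lit 8, nat_lit 1, nat_lit 8, nat_lit 5, nat_lit 6, nat_lit 7, nat_lit 5, nat_lit 2, nat_lit 4, nat_lit 1]))) (.node (nat_lit 0x410cb3aca346514) (.leaf ((nat_lit 3), [nat_lit 9, nat_lit 7, nat_lit 5, nat_lit 0, nat_lit 9, nat_lit 5, nat_lit 8, nat_lit 6, nat_lit 7, nat_lit 3, nat_lit 3, nat_lit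 6, nat_lit 5, nat_lit 4, nat_lit 2, nat_lit 2, nat_lit 0])) (.node (nat_lit 0x410ee16ef612178) (.leaf ((nat_lit 3), [nat_lit 2, nat_lit 9, nat_lit 3, nat_lit 5, nat_lit 9, nat_lit 5, nat_lit 8, nat_lit 7, nat_lit 5, nat_lit 7, nat_lit 3, nat_lit 6, nat_lit 4, nat_lit 2, nat_lit 2, nat_lit 1])) (.leaf ((nat_lit 3), [nat_lit 2, nat_lit 7, nat_lit 9, nat_lit 5, nat_lit 9, nat_lit 3, nat_lit 1, nat_lit 8, nat_lit 1, nat_lit 7, nat_lit 2, nat_lit 4, nat_lit 6, nat_lit 2])))))))))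
 (.node (nat_lit 0x435b449724450ac) (.node (nat_lit 0x43030069d91f140) (.node (nat_lit 0x42cb39ade8b1098) (.node (nat_lit 0x42b48b4b2301490) (.node (nat_lit 0x42a5a6e9975eb3c) (.node (nat_lit 0x41100c0baed69d4) (.leaf ((nat_lit 1), [nat_lit 2, nat_lit 9, nat_lit 3, nat_lit 5, nat_lit 9, nat_lit 5, nat_lit 8, nat_lit 0, nat_lit 7, nat_lit 4, nat_lit 2, nat_lit 2, nat_lit 6, nat_lit 1])) (.leaf ((nat_lit 1), [nat_lit 2, nat_lit 2, nat_lit 9, nat_lit 1, nat_lit 9, nat_lit 4, nat_lit 7, nat_lit 6, nat_lit 8, nat_lit 4, nat_lit 1, nat_lit 7, nat_lit 5, nat_lit 6, nat_lit 3, nat_lit 4, nat_lit 3]))) (.node (nat_lit 0x42a85adb207d4f0) (.leaf ((nat_lit 2), [nat_lit 8, nat_lit 6, nat_lit 9, nat_lit 5, nat_lit 9, nat_lit 2, nat_lit 6, nat_lit 0, nat_lit 8, nat_lit 7, nat_lit 1, nat_lit 7, nat_lit 3, nat_lit 3, nat_lit 3, nat_lit 1])) (.node (nat_lit 0x42abd358ea7b5a8)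 (.leaf ((nat_lit 2), [nat_lit 8, nat_lit 2, nat_lit 6, nat_lit 3, nat_lit 8, nat_lit 7, nat_lit 5, nat_lit 0, nat_lit 7, nat_lit 2, nat_lit 6, nat_lit 5, nat_lit 3, nat_lit 4, nat_lit 0])) (.leaf ((nat_lit 2), [nat_lit 8, nat_lit 6, nat_lit 9, nat_lit 5, nat_lit 9, nat_lit 2, nat_lit 8, nat_lit 7, nat_lit 0, nat_lit 7, nat_lit 6, nat_lit 3, nat_lit 4, nat_lit 6, nat_lit 2, nat_lit 4, nat_lit 2, nat_lit 1])))))
 (.node (nat_lit 0x42bcb2438d3619c) (.node (nat_lit 0x42b9fe3710e2e38) (.leaf ((nat_lit 3), [nat_lit 0, nat_lit 7, nat_lit 0, nat_lit 9, nat_lit 1, nat_lit 9, nat_lit 1, nat_lit 7, nat_lit 5, nat_lit 8, nat_lit 5, nat_lit 1, nat_lit 7, nat_lit 5, nat_lit 6, nat_lit 4, nat_lit 1])) (.leaf ((nat_lit 0), [nat_lit 3, nat_lit 7, nat_lit 5, nat_lit 8, nat_lit 5, nat_lit 7, nat_lit 5, nat_lit 6, nat_lit 5, nat_lit 4, nat_lit 3]))) (.node (nat_lit 0x42c5fa839455a00)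 (.leaf ((nat_lit 0), [nat_lit 4, nat_lit 3, nat_lit 8, nat_lit 7, nat_lit 5, nat_lit 7, nat_lit 3, nat_lit 6, nat_lit 3, nat_lit 3, nat_lit 3])) (.node (nat_lit 0x42c8e270498192c) (.leaf ((nat_lit 0), [nat_lit 8, nat_lit 3, nat_lit 1, nat_lit 8, nat_lit 5, nat_lit 7, nat_lit 5, nat_lit 7, nat_lit 6, nat_lit 3, nat_lit 3, nat_lit 0])) (.leaf ((nat_lit 3), [nat_lit 2, nat_lit 7, nat_lit 9, nat_lit 5, nat_lit 9, nat_lit 6, nat_lit 1, nat_lit 8, nat_lit 5, nat_lit 6, nat_lit 7, nat_lit 5, nat_lit 3, nat_lit 6, nat_lit 5, nat_lit 4, nat_lit 0]))))))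
 (.node (nat_lit 0x42e1f2b5d356c3c) (.node (nat_lit 0x42d881268473cd0) (.node (nat_lit 0x42d5084b390319c) (.leaf ((nat_lit 3), [nat_lit 6, nat_lit 9, nat_lit 2, nat_lit 1, nat_lit 9, nat_lit 2, nat_lit 6, nat_lit 8, nat_lit 5, nat_lit 3, nat_lit 6, nat_lit 5, nat_lit 4, nat_lit 3, nat_lit 3, nat_lit 1])) (.leaf ((nat_lit 1), [nat_lit 6, nat_lit 9, nat_lit 2, nat_lit 1, nat_lit 9, nat_lit 6, nat_lit 8, nat_lit 6, nat_lit 0, nat_lit 7, nat_lit 2, nat_lit 6, nat_lit 2, nat_lit 0]))) (.node (nat_lit 0x42daaed447a046c) (.leaf ((nat_lit 0), [nat_lit 8, nat_lit 6, nat_lit 2, nat_lit 8, nat_lit 7, nat_lit 5, nat_lit 3, nat_lit 6, nat_lit 4, nat_lit 3, nat_lit 1])) (.node (nat_lit 0x42e195751329628) (.leaf ((nat_lit 0), [nat_lit 8, nat_lit 3, nat_lit 1, nat_lit 8, nat_lit 7, nat_lit 5, nat_lit 6, nat_lit 7, nat_lit 2, nat_lit 2, nat_lit 6, nat_lit 1])) (.leaf ((nat_lit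 6), [nat_lit 0, nat_lit 9, nat_lit 1, nat_lit 9, nat_lit 5, nat_lit 8, nat_lit 1, nat_lit 8, nat_lit 4, nat_lit 7, nat_lit 6, nat_lit 4, nat_lit 3, nat_lit 6, nat_lit 2, nat_lit 4, nat_lit 2])))))
 (.node (nat_lit 0x42f01d0c595602c) (.node (nat_lit 0x42e765c1324877c) (.leaf ((nat_lit 6), [nat_lit 5, nat_lit 9, nat_lit 6, nat_lit 9, nat_lit 3, nat_lit 3, nat_lit 8, nat_lit 6, nat_lit 7, nat_lit 6, nat_lit 5, nat_lit 6, nat_lit 4])) (.leaf ((nat_lit 3), [nat_lit 6, nat_lit 9, nat_lit 2, nat_lit 1, nat_lit 9, nat_lit 4, nat_lit 8, nat_lit 0, nat_lit 8, nat_lit 6, nat_lit 2, nat_lit 4, nat_lit 6, nat_lit 2, nat_lit 4, nat_lit 3, nat_lit 1]))) (.node (nat_lit 0x42f3e86ccac23dc) (.leaf ((nat_lit 1), [nat_lit 2, nat_lit 7, nat_lit 9, nat_lit 5, nat_lit 9, nat_lit 5, nat_lit 7, nat_lit 0, nat_lit 8, nat_lit 4, nat_lit 0, nat_lit 7, nat_lit 6, nat_lit 5, nat_lit 2, nat_lit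 2, nat_lit 0])) (.node (nat_lit 0x42fdb721d237858) (.leaf ((nat_lit 2), [nat_lit 3, nat_lit 6, nat_lit 2, nat_lit 1, nat_lit 8, nat_lit 5, nat_lit 1, nat_lit 7, nat_lit 6, nat_lit 4, nat_lit 3, nat_lit 6, nat_lit 2, nat_lit 4, nat_lit 3, nat_lit 1])) (.leaf ((nat_lit 0), [nat_lit 2, nat_lit 6, nat_lit 1, nat_lit 8, nat_lit 6, nat_lit 5, nat_lit 7, nat_lit 2, nat_lit 6, nat_lit 4, nat_lit 3, nat_lit 3])))))))
 (.node (nat_lit 0x433068570dad8fc) (.node (nat_lit 0x4314cd0ef587b90) (.node (nat_lit 0x430ea00f343b800) (.node (nat_lit 0x4304d19ce8e6338) (.leaf ((nat_lit 1), [nat_lit 2, nat_lit 7, nat_lit 9, nat_lit 5, nat_lit 9, nat_lit 7, nat_lit 6, nat_lit 8, nat_lit 5, nat_lit 7, nat_lit 6, nat_lit 2, nat_lit 4, nat_lit 6, nat_lit 5, nat_lit 4])) (.leaf ((nat_lit 1), [nat_lit 0, nat_lit 7, nat_lit 0, nat_lit 9, nat_lit 1, nat_lit 9, nat_lit 5, nat_lit 7, nat_lit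 8, nat_lit 5, nat_lit 4, nat_lit 7, nat_lit 4, nat_lit 6, nat_lit 2]))) (.node (nat_lit 0x4310ce55a937bb8) (.leaf ((nat_lit 2), [nat_lit 0, nat_lit 9, nat_lit 0, nat_lit 9, nat_lit 7, nat_lit 5, nat_lit 8, nat_lit 5, nat_lit 6, nat_lit 7, nat_lit 4, nat_lit 2, nat_lit 6, nat_lit 5, nat_lit 2])) (.node (nat_lit 0x4313df3704ab418) (.leaf ((nat_lit 2), [nat_lit 7, nat_lit 5, nat_lit 8, nat_lit 0, nat_lit 8, nat_lit 5, nat_lit 1, nat_lit 7, nat_lit 6, nat_lit 3, nat_lit 3, nat_lit 6, nat_lit 5, nat_lit 4])) (.leaf ((nat_lit 1), [nat_lit 2, nat_lit 7, nat_lit 9, nat_lit 5, nat_lit 9, nat_lit 1, nat_lit 7, nat_lit 5, nat_lit 6, nat_lit 5, nat_lit 3, nat_lit 6, nat_lit 5, nat_lit 1])))))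
 (.node (nat_lit 0x431d27bac7a70a8) (.node (nat_lit 0x431ac614006a730) (.leaf ((nat_lit 1), [nat_lit 6, nat_lit 9, nat_lit 2, nat_lit 1, nat_lit 9, nat_lit 5, nat_lit 6, nat_lit 8, nat_lit 0, nat_lit 7, nat_lit 3, nat_lit 3, nat_lit 6, nat_lit 5, nat_lit 0])) (.leaf ((nat_lit 3), [nat_lit 2, nat_lit 7, nat_lit 9, nat_lit 5, nat_lit 9, nat_lit 2, nat_lit 2, nat_lit 8, nat_lit 6, nat_lit 2, nat_lit 4, nat_lit 7, nat_lit 5, nat_lit 6]))) (.node (nat_lit 0x432266b4f5a4af0) (.leaf ((nat_lit 3), [nat_lit 0, nat_lit 7, nat_lit 0, nat_lit 9, nat_lit 1, nat_lit 9, nat_lit 7, nat_lit 2, nat_lit 8, nat_lit 6, nat_lit 1, nat_lit 7, nat_lit 3, nat_lit 3, nat_lit 6, nat_lit 3, nat_lit 0])) (.node (nat_lit 0x4329aa994cebf30) (.leaf ((nat_lit 6), [nat_lit 7, nat_lit 5, nat_lit 0, nat_lit 9, nat_lit 8, nat_lit 4, nat_lit 6, nat_lit 8, nat_lit 4, nat_lit 2, nat_lit 2, nat_lit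 6, nat_lit 3, nat_lit 3])) (.leaf ((nat_lit 6), [nat_lit 7, nat_lit 9, nat_lit 4, nat_lit 9, nat_lit 5, nat_lit 0, nat_lit 7, nat_lit 8, nat_lit 7, nat_lit 4, nat_lit 6]))))))
 (.node (nat_lit 0x43491b329e58900) (.node (nat_lit 0x433c64d061fff50) (.node (nat_lit 0x433295e925ab3e8) (.leaf ((nat_lit 6), [nat_lit 5, nat_lit 4, nat_lit 9, nat_lit 1, nat_lit 8, nat_lit 6, nat_lit 5, nat_lit 7, nat_lit 4, nat_lit 6, nat_lit 2, nat_lit 4, nat_lit 2])) (.leaf ((nat_lit 6), [nat_lit 2, nat_lit 5, nat_lit 6, nat_lit 9, nat_lit 8, nat_lit 3, nat_lit 6, nat_lit 7, nat_lit 6, nat_lit 3, nat_lit 3, nat_lit 6, nat_lit 1]))) (.node (nat_lit 0x433fa9c330be0f8) (.leaf ((nat_lit 1), [nat_lit 2, nat_lit 7, nat_lit 9, nat_lit 5, nat_lit 9, nat_lit 7, nat_lit 8, nat_lit 1, nat_lit 8, nat_lit 5, nat_lit 0, nat_lit 7, nat_lit 2, nat_lit 2, nat_lit 6, nat_lit 5])) (.node (nat_lit 0x4346b9b751ae01c)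 (.leaf ((nat_lit 1), [nat_lit 6, nat_lit 9, nat_lit 2, nat_lit 1, nat_lit 9, nat_lit 4, nat_lit 8, nat_lit 1, nat_lit 8, nat_lit 2, nat_lit 4, nat_lit 7, nat_lit 4, nat_lit 3, nat_lit 3, nat_lit 6, nat_lit 0])) (.leaf ((nat_lit 1), [nat_lit 2, nat_lit 7, nat_lit 9, nat_lit 5, nat_lit 9, nat_lit 8, nat_lit 5, nat_lit 7, nat_lit 8, nat_lit 5, nat_lit 7, nat_lit 5, nat_lit 7, nat_lit 5, nat_lit 3, nat_lit 3, nat_lit 3])))))
 (.node (nat_lit 0x434fa5013caba6c) (.node (nat_lit 0x434bcf8540b0258) (.leaf ((nat_lit 1), [nat_lit 6, nat_lit 9, nat_lit 2, nat_lit 1, nat_lit 9, nat_lit 2, nat_lit 6, nat_lit 8, nat_lit 5, nat_lit 6, nat_lit 0])) (.leaf ((nat_lit 1), [nat_lit 2, nat_lit 7, nat_lit 9, nat_lit 5, nat_lit 9, nat_lit 6, nat_lit 3, nat_lit 1, nat_lit 8, nat_lit 7, nat_lit 5, nat_lit 3, nat_lit 6, nat_lit 4, nat_lit 2, nat_lit 2]))) (.node (nat_lit 0x43562eed94585f8)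 (.leaf ((nat_lit 1), [nat_lit 0, nat_lit 7, nat_lit 0, nat_lit 9, nat_lit 1, nat_lit 9, nat_lit 0, nat_lit 8, nat_lit 1, nat_lit 7, nat_lit 6, nat_lit 2, nat_lit 4, nat_lit 6, nat_lit 2])) (.node (nat_lit 0x435828fafb0039c) (.leaf ((nat_lit 2), [nat_lit 0, nat_lit 7, nat_lit 0, nat_lit 9, nat_lit 1, nat_lit 9, nat_lit 6, nat_lit 5, nat_lit 8, nat_lit 0, nat_lit 8, nat_lit 7, nat_lit 0, nat_lit 7, nat_lit 0])) (.leaf ((nat_lit 2), [nat_lit 0, nat_lit 9, nat_lit 1, nat_lit 9, nat_lit 7, nat_lit 8, nat_lit 6, nat_lit 3, nat_lit 8, nat_lit 0, nat_lit 7, nat_lit 3, nat_lit 6, nat_lit 5, nat_lit 3, nat_lit 1]))))))))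
 (.node (nat_lit 0x43be6e889c42a50) (.node (nat_lit 0x4391c0bd2a47280) (.node (nat_lit 0x4376829d20af7ec) (.node (nat_lit 0x4367fb071c78b28) (.node (nat_lit 0x43651364815c9bc) (.leaf ((nat_lit 3), [nat_lit 0, nat_lit 7, nat_lit 0, nat_lit 9, nat_lit 1, nat_lit 9, nat_lit 4, nat_lit 3, nat_lit 8, nat_lit 7, nat_lit 0, nat_lit 7, nat_lit 4, nat_lit 3, nat_lit 6, nat_lit 5, nat_lit 2, nat_lit 0])) (.leaf ((nat_lit 3), [nat_lit 2, nat_lit 7, nat_lit 9, nat_lit 5, nat_lit 9, nat_lit 5, nat_lit 8, nat_lit 1, nat_lit 8, nat_lit 7, nat_lit 2, nat_lit 2, nat_lit 0]))) (.node (nat_lit 0x436c5760bde29bc) (.leaf ((nat_lit 3), [nat_lit 6, nat_lit 9, nat_lit 2, nat_lit 1, nat_lit 9, nat_lit 2, nat_lit 7, nat_lit 8, nat_lit 0, nat_lit 7, nat_lit 3, nat_lit 6, nat_lit 2, nat_lit 4, nat_lit 3])) (.node (nat_lit 0x43764efaca1df98) (.leaf ((nat_lit 2), [nat_lit 4, nat_lit 8, nat_lit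 6, nat_lit 3, nat_lit 8, nat_lit 2, nat_lit 4, nat_lit 7, nat_lit 3, nat_lit 3, nat_lit 3, nat_lit 6, nat_lit 0])) (.leaf ((nat_lit 0), [nat_lit 8, nat_lit 5, nat_lit 7, nat_lit 8, nat_lit 6, nat_lit 5, nat_lit 7, nat_lit 4, nat_lit 2, nat_lit 6, nat_lit 4, nat_lit 0])))))
 (.node (nat_lit 0x43839685e74b110) (.node (nat_lit 0x437b07df8cb27dc) (.leaf ((nat_lit 0), [nat_lit 3, nat_lit 7, nat_lit 5, nat_lit 8, nat_lit 6, nat_lit 0, nat_lit 7, nat_lit 2, nat_lit 6, nat_lit 2, nat_lit 0])) (.leaf ((nat_lit 0), [nat_lit 2, nat_lit 7, nat_lit 6, nat_lit 8, nat_lit 5, nat_lit 0, nat_lit 7, nat_lit 3, nat_lit 3, nat_lit 3, nat_lit 6, nat_lit 5]))) (.node (nat_lit 0x4385eda34926c18) (.leaf ((nat_lit 3), [nat_lit 6, nat_lit 9, nat_lit 2, nat_lit 1, nat_lit 9, nat_lit 8, nat_lit 5, nat_lit 7, nat_lit 8, nat_lit 5, nat_lit 1, nat_lit 7, nat_lit 3, nat_lit 3, nat_lit 6, nat_lit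 3, nat_lit 4, nat_lit 0])) (.node (nat_lit 0x4387f202eced880) (.leaf ((nat_lit 3), [nat_lit 2, nat_lit 7, nat_lit 9, nat_lit 5, nat_lit 9, nat_lit 7, nat_lit 0, nat_lit 8, nat_lit 5, nat_lit 4, nat_lit 7, nat_lit 3, nat_lit 4, nat_lit 6, nat_lit 3, nat_lit 4, nat_lit 3])) (.leaf ((nat_lit 2), [nat_lit 5, nat_lit 2, nat_lit 8, nat_lit 5, nat_lit 7, nat_lit 5, nat_lit 0, nat_lit 7, nat_lit 2, nat_lit 6, nat_lit 5, nat_lit 4, nat_lit 2, nat_lit 2, nat_lit 1]))))))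
 (.node (nat_lit 0x43a8124fd108b30) (.node (nat_lit 0x439679c817f1190) (.node (nat_lit 0x43921e13a7a7d38) (.leaf ((nat_lit 0), [nat_lit 0, nat_lit 8, nat_lit 5, nat_lit 7, nat_lit 6, nat_lit 4, nat_lit 2, nat_lit 6, nat_lit 5, nat_lit 4])) (.leaf ((nat_lit 0), [nat_lit 6, nat_lit 3, nat_lit 8, nat_lit 6, nat_lit 7, nat_lit 1]))) (.node (nat_lit 0x43a0486a89a42a8) (.leaf ((nat_lit 0), [nat_lit 3, nat_lit 7, nat_lit 5, nat_lit 8, nat_lit 7, nat_lit 6, nat_lit 3, nat_lit 4, nat_lit 6, nat_lit 3, nat_lit 4, nat_lit 1])) (.node (nat_lit 0x43a29f993f691f0) (.leaf ((nat_lit 2), [nat_lit 4, nat_lit 7, nat_lit 9, nat_lit 5, nat_lit 9, nat_lit 8, nat_lit 7, nat_lit 1, nat_lit 8, nat_lit 1, nat_lit 7, nat_lit 2, nat_lit 2, nat_lit 6, nat_lit 5, nat_lit 4])) (.leaf ((nat_lit 2), [nat_lit 5, nat_lit 2, nat_lit 8, nat_lit 6, nat_lit 2, nat_lit 4, nat_lit 7, nat_lit 2, nat_lit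 6, nat_lit 3, nat_lit 3, nat_lit 0])))))
 (.node (nat_lit 0x43b1e11af1d9bb0) (.node (nat_lit 0x43af2d2beca6c7c) (.leaf ((nat_lit 3), [nat_lit 0, nat_lit 7, nat_lit 0, nat_lit 9, nat_lit 1, nat_lit 9, nat_lit 7, nat_lit 8, nat_lit 5, nat_lit 6, nat_lit 7, nat_lit 6, nat_lit 3, nat_lit 3, nat_lit 6, nat_lit 4, nat_lit 2, nat_lit 1])) (.leaf ((nat_lit 3), [nat_lit 0, nat_lit 7, nat_lit 0, nat_lit 9, nat_lit 1, nat_lit 9, nat_lit 7, nat_lit 6, nat_lit 8, nat_lit 5, nat_lit 6, nat_lit 7, nat_lit 2, nat_lit 6, nat_lit 5, nat_lit 4, nat_lit 3]))) (.node (nat_lit 0x43b32bae2a3e928) (.leaf ((nat_lit 3), [nat_lit 6, nat_lit 9, nat_lit 2, nat_lit 1, nat_lit 9, nat_lit 7, nat_lit 2, nat_lit 5, nat_lit 8, nat_lit 7, nat_lit 3, nat_lit 4, nat_lit 7, nat_lit 3, nat_lit 4])) (.node (nat_lit 0x43bdb4607b8ab6c) (.leaf ((nat_lit 3), [nat_lit 2, nat_lit 7, nat_lit 9, nat_lit 5,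 nat_lit 9, nat_lit 3, nat_lit 8, nat_lit 5, nat_lit 7, nat_lit 6, nat_lit 4, nat_lit 2, nat_lit 6, nat_lit 5, nat_lit 2, nat_lit 4])) (.leaf ((nat_lit 0), [nat_lit 0, nat_lit 8, nat_lit 5, nat_lit 1, nat_lit 7, nat_lit 4, nat_lit 2, nat_lit 6, nat_lit 4, nat_lit 2, nat_lit 2, nat_lit 1])))))))
 (.node (nat_lit 0x43eebe15ba117fc) (.node (nat_lit 0x43da32b307445dc) (.node (nat_lit 0x43cc3be23257240) (.node (nat_lit 0x43c49b62ea56bf8) (.leaf ((nat_lit 0), [nat_lit 7, nat_lit 0, nat_lit 8, nat_lit 5, nat_lit 0, nat_lit 7, nat_lit 4, nat_lit 6, nat_lit 5, nat_lit 0])) (.leaf ((nat_lit 2), [nat_lit 6, nat_lit 8, nat_lit 0, nat_lit 8, nat_lit 7, nat_lit 5, nat_lit 0, nat_lit 7, nat_lit 3, nat_lit 3, nat_lit 3, nat_lit 1]))) (.node (nat_lit 0x43cf4d364283a1c) (.leaf ((nat_lit 2), [nat_lit 5, nat_lit 9, nat_lit 6, nat_lit 0, nat_lit 9, nat_lit 2, nat_lit 5, nat_lit 8,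 nat_lit 6, nat_lit 7, nat_lit 6, nat_lit 4, nat_lit 2, nat_lit 6])) (.node (nat_lit 0x43d2ef1015ddad8) (.leaf ((nat_lit 2), [nat_lit 2, nat_lit 9, nat_lit 8, nat_lit 1, nat_lit 9, nat_lit 6, nat_lit 3, nat_lit 8, nat_lit 6, nat_lit 5, nat_lit 7, nat_lit 5, nat_lit 2, nat_lit 1])) (.leaf ((nat_lit 0), [nat_lit 6, nat_lit 5, nat_lit 8, nat_lit 0, nat_lit 8, nat_lit 3, nat_lit 6, nat_lit 7, nat_lit 6, nat_lit 5, nat_lit 0])))))
 (.node (nat_lit 0x43e09343414b82c) (.node (nat_lit 0x43de65704d3d6f8) (.leaf ((nat_lit 0), [nat_lit 4, nat_lit 8, nat_lit 1, nat_lit 8, nat_lit 6, nat_lit 5, nat_lit 6, nat_lit 7, nat_lit 4, nat_lit 3, nat_lit 3, nat_lit 6, nat_lit 5, nat_lit 0])) (.leaf ((nat_lit 0), [nat_lit 8, nat_lit 5, nat_lit 7, nat_lit 8, nat_lit 6, nat_lit 1, nat_lit 7, nat_lit 3, nat_lit 3, nat_lit 3]))) (.node (nat_lit 0x43eb1bb68278ba8) (.leaf ((nat_lit 1), [nat_lit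 6, nat_lit 9, nat_lit 2, nat_lit 1, nat_lit 9, nat_lit 5, nat_lit 8, nat_lit 5, nat_lit 0, nat_lit 7, nat_lit 3, nat_lit 3, nat_lit 3, nat_lit 6, nat_lit 3, nat_lit 4])) (.node (nat_lit 0x43ed49e6de4493c) (.leaf ((nat_lit 2), [nat_lit 8, nat_lit 7, nat_lit 1, nat_lit 8, nat_lit 3, nat_lit 6, nat_lit 7, nat_lit 4, nat_lit 3, nat_lit 6, nat_lit 4, nat_lit 3, nat_lit 3, nat_lit 1])) (.leaf ((nat_lit 2), [nat_lit 7, nat_lit 0, nat_lit 9, nat_lit 1, nat_lit 9, nat_lit 3, nat_lit 7, nat_lit 0, nat_lit 8, nat_lit 4, nat_lit 7, nat_lit 4, nat_lit 2, nat_lit 6, nat_lit 3, nat_lit 4]))))))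
 (.node (nat_lit 0x4400567d782bc1c) (.node (nat_lit 0x43f741baf2aa958) (.node (nat_lit 0x43f11505a76b230) (.leaf ((nat_lit 6), [nat_lit 5, nat_lit 6, nat_lit 7, nat_lit 9, nat_lit 1, nat_lit 8, nat_lit 1, nat_lit 8, nat_lit 3, nat_lit 4, nat_lit 3, nat_lit 3, nat_lit 6, nat_lit 5, nat_lit 3, nat_lit 4, nat_lit 0])) (.leaf ((nat_lit 6), [nat_lit 2, nat_lit 0, nat_lit 9, nat_lit 6, nat_lit 2, nat_lit 8, nat_lit 7, nat_lit 2, nat_lit 4, nat_lit 7, nat_lit 6, nat_lit 5, nat_lit 3, nat_lit 4]))) (.node (nat_lit 0x43f9a34c2ab26ec) (.leaf ((nat_lit 3), [nat_lit 0, nat_lit 7, nat_lit 0, nat_lit 9, nat_lit 1, nat_lit 9, nat_lit 3, nat_lit 7, nat_lit 0, nat_lit 8, nat_lit 0, nat_lit 7, nat_lit 6, nat_lit 4, nat_lit 2, nat_lit 6])) (.node (nat_lit 0x43fda22f25a2d00) (.leaf ((nat_lit 3), [nat_lit 6, nat_lit 9, nat_lit 2, nat_lit 1, nat_lit 9, nat_lit 2, nat_lit 8, nat_lit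 6, nat_lit 5, nat_lit 6, nat_lit 7, nat_lit 4, nat_lit 3, nat_lit 3, nat_lit 1])) (.leaf ((nat_lit 1), [nat_lit 2, nat_lit 7, nat_lit 9, nat_lit 5, nat_lit 9, nat_lit 8, nat_lit 3, nat_lit 1, nat_lit 8, nat_lit 6, nat_lit 1, nat_lit 7, nat_lit 5, nat_lit 2, nat_lit 4, nat_lit 0])))))
 (.node (nat_lit 0x44090e530b23e18) (.node (nat_lit 0x44065a35d974b10) (.leaf ((nat_lit 1), [nat_lit 0, nat_lit 7, nat_lit 0, nat_lit 9, nat_lit 1, nat_lit 9, nat_lit 6, nat_lit 0, nat_lit 7, nat_lit 6, nat_lit 3, nat_lit 3, nat_lit 6, nat_lit 4, nat_lit 3])) (.leaf ((nat_lit 1), [nat_lit 0, nat_lit 7, nat_lit 0, nat_lit 9, nat_lit 1, nat_lit 9, nat_lit 5, nat_lit 7, nat_lit 6, nat_lit 8, nat_lit 6, nat_lit 1, nat_lit 7, nat_lit 3, nat_lit 3]))) (.node (nat_lit 0x440f119018082c0) (.leaf ((nat_lit 1), [nat_lit 6, nat_lit 9, nat_lit 2, nat_lit 1, nat_lit 9, nat_lit 8, nat_lit 6, nat_lit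 1, nat_lit 8, nat_lit 5, nat_lit 4, nat_lit 7, nat_lit 4, nat_lit 6, nat_lit 5, nat_lit 3, nat_lit 1])) (.node (nat_lit 0x44153ec283ac378) (.leaf ((nat_lit 0), [nat_lit 3, nat_lit 7, nat_lit 5, nat_lit 8, nat_lit 5, nat_lit 7, nat_lit 6, nat_lit 4, nat_lit 3, nat_lit 1])) (.leaf ((nat_lit 1), [nat_lit 2, nat_lit 7, nat_lit 9, nat_lit 5, nat_lit 9, nat_lit 1, nat_lit 8, nat_lit 6, nat_lit 1, nat_lit 8, nat_lit 6, nat_lit 0, nat_lit 7, nat_lit 3, nat_lit 6, nat_lit 5, nat_lit 4, nat_lit 3]))))))))))))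
 (.node (nat_lit 0x542613c4504b59c) (.node (nat_lit 0x452e1234a888a50) (.node (nat_lit 0x44afaa6ce4fb09c) (.node (nat_lit 0x446d31ac4dafb68) (.node (nat_lit 0x444998e47f94d84) (.node (nat_lit 0x443886b7771ccb8) (.node (nat_lit 0x4434874fb67ae3c) (.node (nat_lit 0x44284b18f9a88f0) (.node (nat_lit 0x442650fe6112e68) (.leaf ((nat_lit 3), [nat_lit 2, nat_lit 7, nat_lit 9, nat_lit 5, nat_lit 9, nat_lit 7, nat_lit 2, nat_lit 4, nat_lit 7, nat_lit 4, nat_lit 2, nat_lit 2, nat_lit 6, nat_lit 4, nat_lit 2])) (.leaf ((nat_lit 6), [nat_lit 0, nat_lit 9, nat_lit 1, nat_lit 9, nat_lit 5, nat_lit 8, nat_lit 7, nat_lit 5, nat_lit 0, nat_lit 7, nat_lit 2, nat_lit 4, nat_lit 6, nat_lit 4, nat_lit 3, nat_lit 3]))) (.node (nat_lit 0x443259677ac3b00) (.leaf ((nat_lit 2), [nat_lit 7, nat_lit 0, nat_lit 9, nat_lit 1, nat_lit 9, nat_lit 7, nat_lit 8, nat_lit 0, nat_lit 8, nat_lit 1,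 nat_lit 7, nat_lit 2, nat_lit 4, nat_lit 6, nat_lit 4, nat_lit 3])) (.leaf ((nat_lit 1), [nat_lit 2, nat_lit 7, nat_lit 9, nat_lit 5, nat_lit 9, nat_lit 1, nat_lit 8, nat_lit 7, nat_lit 5, nat_lit 7, nat_lit 6, nat_lit 2, nat_lit 2]))))
 (.node (nat_lit 0x443712795608878) (.node (nat_lit 0x4434e49b57fe524) (.leaf ((nat_lit 2), [nat_lit 8, nat_lit 1, nat_lit 9, nat_lit 1, nat_lit 9, nat_lit 3, nat_lit 8, nat_lit 7, nat_lit 2, nat_lit 4, nat_lit 7, nat_lit 3, nat_lit 4, nat_lit 6, nat_lit 2])) (.leaf ((nat_lit 0), [nat_lit 3, nat_lit 0, nat_lit 8, nat_lit 7, nat_lit 3, nat_lit 4, nat_lit 7, nat_lit 6, nat_lit 4, nat_lit 3, nat_lit 6, nat_lit 5, nat_lit 3]))) (.node (nat_lit 0x443886acdd6ecc0) (.leaf ((nat_lit 3), [nat_lit 2, nat_lit 2, nat_lit 9, nat_lit 1, nat_lit 9, nat_lit 8, nat_lit 6, nat_lit 2, nat_lit 8, nat_lit 7, nat_lit 3, nat_lit 3, nat_lit 3, nat_lit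 6, nat_lit 4, nat_lit 2])) (.node (nat_lit 0x443886b5212105c) (.leaf ((nat_lit 6), [nat_lit 5, nat_lit 2, nat_lit 9, nat_lit 5, nat_lit 6, nat_lit 8, nat_lit 7, nat_lit 3, nat_lit 4, nat_lit 7, nat_lit 4, nat_lit 2, nat_lit 2, nat_lit 6, nat_lit 5, nat_lit 4, nat_lit 2])) (.leaf ((nat_lit 2), [nat_lit 5, nat_lit 8, nat_lit 7, nat_lit 5, nat_lit 6, nat_lit 7, nat_lit 4, nat_lit 6, nat_lit 2, nat_lit 2, nat_lit 0]))))))
 (.node (nat_lit 0x4444e00f308317c) (.node (nat_lit 0x44399d3196eddc8) (.node (nat_lit 0x443940704d41058) (.leaf ((nat_lit 3), [nat_lit 9, nat_lit 7, nat_lit 5, nat_lit 0, nat_lit 9, nat_lit 0, nat_lit 8, nat_lit 7, nat_lit 5, nat_lit 7, nat_lit 2, nat_lit 4, nat_lit 3, nat_lit 6, nat_lit 4, nat_lit 0])) (.leaf ((nat_lit 3), [nat_lit 6, nat_lit 9, nat_lit 5, nat_lit 3, nat_lit 1, nat_lit 9, nat_lit 5, nat_lit 8, nat_lit 2, nat_lit 1, nat_lit 8,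 nat_lit 7, nat_lit 1, nat_lit 7, nat_lit 5, nat_lit 6, nat_lit 2, nat_lit 2]))) (.node (nat_lit 0x4443c9160ae0c0c) (.leaf ((nat_lit 1), [nat_lit 9, nat_lit 7, nat_lit 5, nat_lit 0, nat_lit 9, nat_lit 3, nat_lit 5, nat_lit 8, nat_lit 5, nat_lit 7, nat_lit 4, nat_lit 3, nat_lit 3, nat_lit 0])) (.node (nat_lit 0x444482d69a655d0) (.leaf ((nat_lit 0), [nat_lit 5, nat_lit 7, nat_lit 6, nat_lit 8, nat_lit 4, nat_lit 7, nat_lit 5, nat_lit 6, nat_lit 4, nat_lit 3])) (.leaf ((nat_lit 1), [nat_lit 2, nat_lit 2, nat_lit 9, nat_lit 1, nat_lit 9, nat_lit 5, nat_lit 1, nat_lit 8, nat_lit 6, nat_lit 1, nat_lit 7, nat_lit 5, nat_lit 6, nat_lit 3, nat_lit 1])))))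
 (.node (nat_lit 0x4448df2309a7704) (.node (nat_lit 0x4447c7fa19c86a0) (.leaf ((nat_lit 1), [nat_lit 0, nat_lit 7, nat_lit 0, nat_lit 9, nat_lit 1, nat_lit 9, nat_lit 2, nat_lit 6, nat_lit 0, nat_lit 8, nat_lit 1, nat_lit 7, nat_lit 6, nat_lit 2, nat_lit 4, nat_lit 1])) (.leaf ((nat_lit 1), [nat_lit 2, nat_lit 2, nat_lit 9, nat_lit 0, nat_lit 9, nat_lit 6, nat_lit 8, nat_lit 6, nat_lit 5, nat_lit 6, nat_lit 5, nat_lit 2, nat_lit 4, nat_lit 2, nat_lit 0]))) (.node (nat_lit 0x4448df2b4d73864) (.leaf ((nat_lit 6), [nat_lit 0, nat_lit 9, nat_lit 0, nat_lit 9, nat_lit 8, nat_lit 5, nat_lit 0, nat_lit 8, nat_lit 6, nat_lit 5, nat_lit 7, nat_lit 3, nat_lit 3, nat_lit 6, nat_lit 2, nat_lit 2, nat_lit 1])) (.node (nat_lit 0x4448df2da35ce6c) (.leaf ((nat_lit 2), [nat_lit 6, nat_lit 9, nat_lit 5, nat_lit 3, nat_lit 1, nat_lit 9, nat_lit 3, nat_lit 3, nat_lit 8, nat_lit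 6, nat_lit 3, nat_lit 4, nat_lit 7, nat_lit 3, nat_lit 4, nat_lit 6, nat_lit 1])) (.leaf ((nat_lit 3), [nat_lit 2, nat_lit 2, nat_lit 9, nat_lit 0, nat_lit 9, nat_lit 7, nat_lit 8, nat_lit 6, nat_lit 0, nat_lit 7, nat_lit 6, nat_lit 3, nat_lit 4, nat_lit 3, nat_lit 3])))))))
 (.node (nat_lit 0x4458202e83f48d4) (.node (nat_lit 0x445421c4172370c) (.node (nat_lit 0x444fc57215ffd68) (.node (nat_lit 0x4449f5aa191ecf4) (.leaf ((nat_lit 1), [nat_lit 9, nat_lit 7, nat_lit 5, nat_lit 0, nat_lit 9, nat_lit 7, nat_lit 1, nat_lit 7, nat_lit 8, nat_lit 3, nat_lit 6, nat_lit 7, nat_lit 5, nat_lit 3, nat_lit 6, nat_lit 2, nat_lit 2])) (.leaf ((nat_lit 2), [nat_lit 1, nat_lit 9, nat_lit 1, nat_lit 9, nat_lit 3, nat_lit 3, nat_lit 8, nat_lit 2, nat_lit 4, nat_lit 7, nat_lit 6, nat_lit 3, nat_lit 4, nat_lit 6]))) (.node (nat_lit 0x44507fa5181c650) (.leaf ((nat_lit 0), [nat_lit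 2, nat_lit 6, nat_lit 3, nat_lit 8, nat_lit 4, nat_lit 7, nat_lit 3, nat_lit 0])) (.node (nat_lit 0x44536748db75f6c) (.leaf ((nat_lit 3), [nat_lit 2, nat_lit 7, nat_lit 9, nat_lit 5, nat_lit 9, nat_lit 2, nat_lit 2, nat_lit 8, nat_lit 7, nat_lit 4, nat_lit 6])) (.leaf ((nat_lit 2), [nat_lit 0, nat_lit 7, nat_lit 0, nat_lit 9, nat_lit 1, nat_lit 9, nat_lit 6, nat_lit 8, nat_lit 5, nat_lit 7, nat_lit 4, nat_lit 3, nat_lit 6, nat_lit 3, nat_lit 0])))))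
 (.node (nat_lit 0x445421ceb0bf0b0) (.node (nat_lit 0x445421cc5add218) (.leaf ((nat_lit 6), [nat_lit 9, nat_lit 8, nat_lit 4, nat_lit 9, nat_lit 7, nat_lit 2, nat_lit 1, nat_lit 8, nat_lit 3, nat_lit 6, nat_lit 1, nat_lit 7, nat_lit 3, nat_lit 4, nat_lit 6, nat_lit 5, nat_lit 3, nat_lit 4])) (.leaf ((nat_lit 2), [nat_lit 7, nat_lit 5, nat_lit 6, nat_lit 8, nat_lit 6, nat_lit 5, nat_lit 7, nat_lit 3, nat_lit 4, nat_lit 3, nat_lit 3, nat_lit 6, nat_lit 5]))) (.node (nat_lit 0x44547e82534a06c) (.leaf ((nat_lit 3), [nat_lit 0, nat_lit 7, nat_lit 0, nat_lit 9, nat_lit 1, nat_lit 9, nat_lit 6, nat_lit 3, nat_lit 1, nat_lit 8, nat_lit 4, nat_lit 7, nat_lit 2, nat_lit 6, nat_lit 3])) (.node (nat_lit 0x44553838772301c) (.leaf ((nat_lit 0), [nat_lit 8, nat_lit 5, nat_lit 2, nat_lit 8, nat_lit 5, nat_lit 1, nat_lit 7, nat_lit 6, nat_lit 5, nat_lit 1])) (.leaf ((nat_lit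 0), [nat_lit 8, nat_lit 6, nat_lit 3, nat_lit 1, nat_lit 8, nat_lit 6, nat_lit 5, nat_lit 7, nat_lit 2, nat_lit 6, nat_lit 2, nat_lit 4]))))))
 (.node (nat_lit 0x4466a821c759e18) (.node (nat_lit 0x446192504057910) (.node (nat_lit 0x4460d8044504d10) (.leaf ((nat_lit 0), [nat_lit 6, nat_lit 1, nat_lit 8, nat_lit 5, nat_lit 4, nat_lit 7, nat_lit 3, nat_lit 6, nat_lit 5, nat_lit 3, nat_lit 1])) (.leaf ((nat_lit 1), [nat_lit 7, nat_lit 9, nat_lit 2, nat_lit 1, nat_lit 9, nat_lit 8, nat_lit 2, nat_lit 1, nat_lit 8, nat_lit 7, nat_lit 5, nat_lit 7, nat_lit 4, nat_lit 2, nat_lit 0]))) (.node (nat_lit 0x44647a24b4529e0) (.leaf ((nat_lit 0), [nat_lit 6, nat_lit 1, nat_lit 8, nat_lit 6, nat_lit 5, nat_lit 1, nat_lit 7, nat_lit 4, nat_lit 3, nat_lit 6, nat_lit 4, nat_lit 3, nat_lit 3])) (.node (nat_lit 0x446533e5fbc6654) (.leaf ((nat_lit 1), [nat_lit 7, nat_lit 9, nat_lit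 2, nat_lit 1, nat_lit 9, nat_lit 5, nat_lit 6, nat_lit 8, nat_lit 3, nat_lit 3, nat_lit 0])) (.leaf ((nat_lit 1), [nat_lit 6, nat_lit 9, nat_lit 2, nat_lit 1, nat_lit 9, nat_lit 3, nat_lit 5, nat_lit 8, nat_lit 0, nat_lit 7, nat_lit 3, nat_lit 3, nat_lit 6, nat_lit 3, nat_lit 4, nat_lit 3, nat_lit 1])))))
 (.node (nat_lit 0x4467623ba1e862c) (.node (nat_lit 0x446704c37206788) (.leaf ((nat_lit 0), [nat_lit 2, nat_lit 6, nat_lit 8, nat_lit 3, nat_lit 6, nat_lit 3, nat_lit 1])) (.leaf ((nat_lit 0), [nat_lit 8, nat_lit 0, nat_lit 7, nat_lit 8, nat_lit 7, nat_lit 2, nat_lit 4, nat_lit 3, nat_lit 6, nat_lit 1]))) (.node (nat_lit 0x4467624389ac178) (.leaf ((nat_lit 3), [nat_lit 7, nat_lit 9, nat_lit 2, nat_lit 1, nat_lit 9, nat_lit 2, nat_lit 6, nat_lit 3, nat_lit 8, nat_lit 5, nat_lit 7, nat_lit 3, nat_lit 4, nat_lit 6, nat_lit 1])) (.node (nat_lit 0x446762491b704b0)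 (.leaf ((nat_lit 6), [nat_lit 7, nat_lit 8, nat_lit 3, nat_lit 9, nat_lit 6, nat_lit 8, nat_lit 1, nat_lit 8, nat_lit 1, nat_lit 7, nat_lit 6, nat_lit 4, nat_lit 3, nat_lit 6, nat_lit 4, nat_lit 2])) (.leaf ((nat_lit 2), [nat_lit 6, nat_lit 2, nat_lit 1, nat_lit 8, nat_lit 7, nat_lit 3, nat_lit 6, nat_lit 5, nat_lit 3]))))))))
 (.node (nat_lit 0x448b578a27ee968) (.node (nat_lit 0x447b5c0ddda3014) (.node (nat_lit 0x4472a473c2ca574) (.node (nat_lit 0x44707677c3af400) (.node (nat_lit 0x446d8ee345da2a4) (.leaf ((nat_lit 0), [nat_lit 3, nat_lit 5, nat_lit 6, nat_lit 8, nat_lit 6, nat_lit 7, nat_lit 2, nat_lit 4, nat_lit 6, nat_lit 2, nat_lit 0])) (.leaf ((nat_lit 1), [nat_lit 2, nat_lit 7, nat_lit 9, nat_lit 5, nat_lit 9, nat_lit 4, nat_lit 3, nat_lit 8, nat_lit 4, nat_lit 0, nat_lit 7, nat_lit 4, nat_lit 6, nat_lit 5, nat_lit 3, nat_lit 4]))) (.node (nat_lit 0x4470d3ae5ff2ea0)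 (.leaf ((nat_lit 0), [nat_lit 8, nat_lit 5, nat_lit 7, nat_lit 8, nat_lit 3, nat_lit 3, nat_lit 3, nat_lit 6, nat_lit 5, nat_lit 1])) (.node (nat_lit 0x4471eaba910a104) (.leaf ((nat_lit 1), [nat_lit 2, nat_lit 2, nat_lit 9, nat_lit 0, nat_lit 9, nat_lit 5, nat_lit 6, nat_lit 7, nat_lit 2, nat_lit 2, nat_lit 6, nat_lit 5, nat_lit 4, nat_lit 3, nat_lit 1])) (.leaf ((nat_lit 3), [nat_lit 9, nat_lit 7, nat_lit 5, nat_lit 0, nat_lit 9, nat_lit 0, nat_lit 8, nat_lit 6, nat_lit 7, nat_lit 6, nat_lit 5, nat_lit 6, nat_lit 2])))))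
 (.node (nat_lit 0x447301e18700898) (.node (nat_lit 0x447301d99f355dc) (.leaf ((nat_lit 1), [nat_lit 2, nat_lit 9, nat_lit 3, nat_lit 5, nat_lit 9, nat_lit 7, nat_lit 8, nat_lit 7, nat_lit 5, nat_lit 0, nat_lit 7, nat_lit 6, nat_lit 5, nat_lit 6, nat_lit 4, nat_lit 0])) (.leaf ((nat_lit 6), [nat_lit 7, nat_lit 2, nat_lit 1, nat_lit 9, nat_lit 8, nat_lit 7, nat_lit 1, nat_lit 8, nat_lit 6, nat_lit 7, nat_lit 3, nat_lit 3, nat_lit 3, nat_lit 6, nat_lit 4, nat_lit 2]))) (.node (nat_lit 0x447301e718d7224) (.leaf ((nat_lit 2), [nat_lit 2, nat_lit 2, nat_lit 9, nat_lit 0, nat_lit 9, nat_lit 7, nat_lit 8, nat_lit 6, nat_lit 3, nat_lit 8, nat_lit 3, nat_lit 4, nat_lit 7, nat_lit 5, nat_lit 6, nat_lit 4, nat_lit 1])) (.node (nat_lit 0x44752f56f462540) (.leaf ((nat_lit 3), [nat_lit 2, nat_lit 9, nat_lit 3, nat_lit 5, nat_lit 9, nat_lit 6, nat_lit 5, nat_lit 8, nat_lit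 0, nat_lit 8, nat_lit 4, nat_lit 7, nat_lit 5, nat_lit 6, nat_lit 5, nat_lit 3, nat_lit 3, nat_lit 3])) (.leaf ((nat_lit 2), [nat_lit 8, nat_lit 4, nat_lit 6, nat_lit 8, nat_lit 7, nat_lit 0, nat_lit 7, nat_lit 6, nat_lit 3, nat_lit 4, nat_lit 3, nat_lit 1]))))))
 (.node (nat_lit 0x4482fccfb3e211c) (.node (nat_lit 0x447d2d1d744a03c) (.node (nat_lit 0x447c73547309b38) (.leaf ((nat_lit 2), [nat_lit 2, nat_lit 1, nat_lit 8, nat_lit 5, nat_lit 6, nat_lit 7, nat_lit 3, nat_lit 3, nat_lit 6, nat_lit 3, nat_lit 4, nat_lit 3, nat_lit 1])) (.leaf ((nat_lit 3), [nat_lit 7, nat_lit 9, nat_lit 2, nat_lit 1, nat_lit 9, nat_lit 7, nat_lit 2, nat_lit 8, nat_lit 4, nat_lit 1, nat_lit 7, nat_lit 6, nat_lit 4, nat_lit 3, nat_lit 6, nat_lit 1]))) (.node (nat_lit 0x447de7512e60efc) (.leaf ((nat_lit 2), [nat_lit 2, nat_lit 8, nat_lit 4, nat_lit 1, nat_lit 7, nat_lit 4, nat_lit 2,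 nat_lit 6, nat_lit 5, nat_lit 4, nat_lit 3, nat_lit 3, nat_lit 3, nat_lit 1])) (.node (nat_lit 0x44824316de1ee2c) (.leaf ((nat_lit 3), [nat_lit 6, nat_lit 9, nat_lit 2, nat_lit 1, nat_lit 9, nat_lit 2, nat_lit 2, nat_lit 8, nat_lit 4, nat_lit 7, nat_lit 4, nat_lit 6, nat_lit 4, nat_lit 3, nat_lit 3, nat_lit 3, nat_lit 1])) (.leaf ((nat_lit 1), [nat_lit 6, nat_lit 9, nat_lit 5, nat_lit 3, nat_lit 1, nat_lit 9, nat_lit 5, nat_lit 0, nat_lit 8, nat_lit 5, nat_lit 7, nat_lit 4, nat_lit 2, nat_lit 2, nat_lit 6, nat_lit 5])))))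
 (.node (nat_lit 0x44835a57b339004) (.node (nat_lit 0x44835a4fcb87b0c) (.leaf ((nat_lit 2), [nat_lit 9, nat_lit 1, nat_lit 9, nat_lit 0, nat_lit 9, nat_lit 6, nat_lit 8, nat_lit 5, nat_lit 4, nat_lit 7, nat_lit 4, nat_lit 6, nat_lit 4, nat_lit 3, nat_lit 1])) (.leaf ((nat_lit 2), [nat_lit 6, nat_lit 9, nat_lit 5, nat_lit 9, nat_lit 6, nat_lit 1, nat_lit 8, nat_lit 5, nat_lit 7, nat_lit 2, nat_lit 6]))) (.node (nat_lit 0x44835a5d4517100) (.leaf ((nat_lit 3), [nat_lit 6, nat_lit 9, nat_lit 2, nat_lit 1, nat_lit 9, nat_lit 5, nat_lit 7, nat_lit 6, nat_lit 8, nat_lit 7, nat_lit 0, nat_lit 7, nat_lit 5, nat_lit 6, nat_lit 5, nat_lit 3, nat_lit 6, nat_lit 2])) (.node (nat_lit 0x448a40e237c5a7c) (.leaf ((nat_lit 6), [nat_lit 7, nat_lit 1, nat_lit 7, nat_lit 3, nat_lit 9, nat_lit 3, nat_lit 0, nat_lit 8, nat_lit 7, nat_lit 0, nat_lit 7, nat_lit 5, nat_lit 2, nat_lit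 4, nat_lit 2])) (.leaf ((nat_lit 0), [nat_lit 6, nat_lit 8, nat_lit 7, nat_lit 5, nat_lit 7, nat_lit 5, nat_lit 6, nat_lit 4, nat_lit 2, nat_lit 2, nat_lit 1])))))))
 (.node (nat_lit 0x449a99504e4ab50) (.node (nat_lit 0x449010ae5697918) (.node (nat_lit 0x448fb3fd9400718) (.node (nat_lit 0x448ef97596cc448) (.leaf ((nat_lit 0), [nat_lit 7, nat_lit 1, nat_lit 8, nat_lit 7, nat_lit 2, nat_lit 4, nat_lit 7, nat_lit 3, nat_lit 3, nat_lit 3, nat_lit 6, nat_lit 4])) (.leaf ((nat_lit 2), [nat_lit 6, nat_lit 9, nat_lit 6, nat_lit 0, nat_lit 9, nat_lit 0, nat_lit 8, nat_lit 6, nat_lit 7, nat_lit 6, nat_lit 1]))) (.node (nat_lit 0x448fb40381d40b8) (.leaf ((nat_lit 2), [nat_lit 7, nat_lit 5, nat_lit 7, nat_lit 3, nat_lit 4, nat_lit 6, nat_lit 5])) (.node (nat_lit 0x448fb40b6985444) (.leaf ((nat_lit 2), [nat_lit 7, nat_lit 9, nat_lit 2, nat_lit 1, nat_lit 9, nat_lit 6, nat_lit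 8, nat_lit 7, nat_lit 0, nat_lit 7, nat_lit 5, nat_lit 6, nat_lit 5, nat_lit 3, nat_lit 6, nat_lit 4])) (.leaf ((nat_lit 2), [nat_lit 7, nat_lit 5, nat_lit 8, nat_lit 0, nat_lit 8, nat_lit 4, nat_lit 1, nat_lit 7, nat_lit 6, nat_lit 5])))))
 (.node (nat_lit 0x4492f8888a5574c) (.node (nat_lit 0x44918459246186c) (.leaf ((nat_lit 1), [nat_lit 9, nat_lit 7, nat_lit 5, nat_lit 0, nat_lit 9, nat_lit 8, nat_lit 6, nat_lit 2, nat_lit 8, nat_lit 5, nat_lit 0, nat_lit 7, nat_lit 4, nat_lit 6, nat_lit 2, nat_lit 4, nat_lit 2])) (.leaf ((nat_lit 1), [nat_lit 2, nat_lit 7, nat_lit 9, nat_lit 5, nat_lit 9, nat_lit 7, nat_lit 1, nat_lit 8, nat_lit 7, nat_lit 5, nat_lit 7, nat_lit 5, nat_lit 6, nat_lit 5, nat_lit 1]))) (.node (nat_lit 0x4498c873be1d678) (.leaf ((nat_lit 0), [nat_lit 4, nat_lit 7, nat_lit 6, nat_lit 8, nat_lit 5, nat_lit 4, nat_lit 7, nat_lit 4, nat_lit 2, nat_lit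 6, nat_lit 3, nat_lit 3, nat_lit 3, nat_lit 0])) (.node (nat_lit 0x449a3c2e896996c) (.leaf ((nat_lit 3), [nat_lit 2, nat_lit 2, nat_lit 9, nat_lit 0, nat_lit 9, nat_lit 6, nat_lit 8, nat_lit 0, nat_lit 8, nat_lit 0, nat_lit 7, nat_lit 3, nat_lit 4, nat_lit 6, nat_lit 2, nat_lit 4, nat_lit 3, nat_lit 0])) (.leaf ((nat_lit 0), [nat_lit 1, nat_lit 8, nat_lit 7, nat_lit 1, nat_lit 8, nat_lit 4, nat_lit 7, nat_lit 2, nat_lit 4, nat_lit 6, nat_lit 5, nat_lit 4, nat_lit 0]))))))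
 (.node (nat_lit 0x44a00c8195d7f24) (.node (nat_lit 0x449f51e65f3bb34) (.node (nat_lit 0x449c0d0b19ad1bc) (.leaf ((nat_lit 1), [nat_lit 2, nat_lit 7, nat_lit 9, nat_lit 5, nat_lit 9, nat_lit 6, nat_lit 5, nat_lit 8, nat_lit 0, nat_lit 8, nat_lit 5, nat_lit 0, nat_lit 7, nat_lit 2, nat_lit 6, nat_lit 2, nat_lit 4])) (.leaf ((nat_lit 2), [nat_lit 7, nat_lit 9, nat_lit 5, nat_lit 9, nat_lit 3, nat_lit 5, nat_lit 6, nat_lit 8, nat_lit 1, nat_lit 7, nat_lit 5, nat_lit 1]))) (.node (nat_lit 0x44a00c73c038ff0) (.leaf ((nat_lit 0), [nat_lit 2, nat_lit 7, nat_lit 8, nat_lit 6, nat_lit 7, nat_lit 6, nat_lit 3, nat_lit 4, nat_lit 6, nat_lit 5, nat_lit 3, nat_lit 4])) (.node (nat_lit 0x44a00c79ae14100) (.leaf ((nat_lit 6), [nat_lit 8, nat_lit 5, nat_lit 7, nat_lit 8, nat_lit 7, nat_lit 5, nat_lit 7, nat_lit 5, nat_lit 3, nat_lit 6, nat_lit 5, nat_lit 3, nat_lit 3, nat_lit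 0])) (.leaf ((nat_lit 6), [nat_lit 2, nat_lit 9, nat_lit 3, nat_lit 5, nat_lit 9, nat_lit 1, nat_lit 7, nat_lit 8, nat_lit 5, nat_lit 7, nat_lit 6, nat_lit 5, nat_lit 3, nat_lit 6, nat_lit 2, nat_lit 2])))))
 (.node (nat_lit 0x44a97deec20be0c) (.node (nat_lit 0x44a0c61bb2f4a84) (.leaf ((nat_lit 6), [nat_lit 4, nat_lit 1, nat_lit 9, nat_lit 5, nat_lit 9, nat_lit 8, nat_lit 0, nat_lit 8, nat_lit 5, nat_lit 3, nat_lit 6, nat_lit 5, nat_lit 2, nat_lit 4, nat_lit 3, nat_lit 0])) (.leaf ((nat_lit 0), [nat_lit 8, nat_lit 6, nat_lit 3, nat_lit 1, nat_lit 8, nat_lit 3, nat_lit 4, nat_lit 7, nat_lit 4, nat_lit 6]))) (.node (nat_lit 0x44aa94c3f8d0aa4) (.leaf ((nat_lit 0), [nat_lit 4, nat_lit 7, nat_lit 6, nat_lit 8, nat_lit 6, nat_lit 5, nat_lit 3, nat_lit 6, nat_lit 3, nat_lit 4, nat_lit 3, nat_lit 3])) (.node (nat_lit 0x44abab7f505ca90) (.leaf ((nat_lit 3), [nat_lit 0,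 nat_lit 7, nat_lit 0, nat_lit 9, nat_lit 1, nat_lit 9, nat_lit 7, nat_lit 5, nat_lit 1, nat_lit 8, nat_lit 7, nat_lit 5, nat_lit 6, nat_lit 7, nat_lit 4, nat_lit 3, nat_lit 0])) (.leaf ((nat_lit 1), [nat_lit 7, nat_lit 9, nat_lit 2, nat_lit 1, nat_lit 9, nat_lit 5, nat_lit 2, nat_lit 8, nat_lit 1, nat_lit 7, nat_lit 5, nat_lit 3, nat_lit 6, nat_lit 4, nat_lit 3, nat_lit 1])))))))))
 (.node (nat_lit 0x44e7f7cc3059b3c) (.node (nat_lit 0x44ca8be949b1eec) (.node (nat_lit 0x44b9d629a42f3f8) (.node (nat_lit 0x44b6340a76d72fc) (.node (nat_lit 0x44b064efda4ce1c) (.node (nat_lit 0x44b064e9ec8b68c) (.leaf ((nat_lit 1), [nat_lit 2, nat_lit 9, nat_lit 3, nat_lit 5, nat_lit 9, nat_lit 7, nat_lit 0, nat_lit 7, nat_lit 2, nat_lit 4, nat_lit 6, nat_lit 2, nat_lit 2, nat_lit 0])) (.leaf ((nat_lit 3), [nat_lit 6, nat_lit 9, nat_lit 5, nat_lit 3, nat_lit 1, nat_lit 9, nat_lit 8,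 nat_lit 0, nat_lit 8, nat_lit 6, nat_lit 5, nat_lit 7, nat_lit 5, nat_lit 6, nat_lit 5, nat_lit 3, nat_lit 6, nat_lit 5, nat_lit 2]))) (.node (nat_lit 0x44b064f7c217f6c) (.leaf ((nat_lit 3), [nat_lit 2, nat_lit 7, nat_lit 9, nat_lit 5, nat_lit 9, nat_lit 8, nat_lit 2, nat_lit 5, nat_lit 8, nat_lit 6, nat_lit 7, nat_lit 3, nat_lit 4, nat_lit 3, nat_lit 3, nat_lit 6, nat_lit 2])) (.node (nat_lit 0x44b0c1a5d2c4e2c) (.leaf ((nat_lit 3), [nat_lit 2, nat_lit 2, nat_lit 9, nat_lit 1, nat_lit 9, nat_lit 2, nat_lit 6, nat_lit 8, nat_lit 5, nat_lit 3, nat_lit 6, nat_lit 1])) (.leaf ((nat_lit 3), [nat_lit 2, nat_lit 9, nat_lit 3, nat_lit 5, nat_lit 9, nat_lit 2, nat_lit 6, nat_lit 0, nat_lit 8, nat_lit 6, nat_lit 1, nat_lit 7, nat_lit 5, nat_lit 3, nat_lit 4, nat_lit 1])))))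
 (.node (nat_lit 0x44b634184c5c300) (.node (nat_lit 0x44b6341036ac548) (.leaf ((nat_lit 6), [nat_lit 7, nat_lit 2, nat_lit 9, nat_lit 1, nat_lit 9, nat_lit 4, nat_lit 6, nat_lit 8, nat_lit 5, nat_lit 0, nat_lit 7, nat_lit 3, nat_lit 6, nat_lit 2, nat_lit 2])) (.leaf ((nat_lit 6), [nat_lit 7, nat_lit 3, nat_lit 1, nat_lit 9, nat_lit 6, nat_lit 5, nat_lit 8, nat_lit 0, nat_lit 8, nat_lit 4, nat_lit 1, nat_lit 7, nat_lit 2, nat_lit 6, nat_lit 2]))) (.node (nat_lit 0x44b6ee4c068ce18) (.leaf ((nat_lit 6), [nat_lit 5, nat_lit 6, nat_lit 7, nat_lit 9, nat_lit 5, nat_lit 8, nat_lit 0, nat_lit 8, nat_lit 4, nat_lit 1, nat_lit 7, nat_lit 2, nat_lit 4, nat_lit 6, nat_lit 3, nat_lit 3])) (.node (nat_lit 0x44b74b8a2e27738) (.leaf ((nat_lit 0), [nat_lit 8, nat_lit 5, nat_lit 2, nat_lit 8, nat_lit 0, nat_lit 7, nat_lit 5, nat_lit 3, nat_lit 6, nat_lit 1])) (.leaf ((nat_lit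 0), [nat_lit 0, nat_lit 8, nat_lit 6, nat_lit 1, nat_lit 8, nat_lit 5, nat_lit 7, nat_lit 5, nat_lit 7, nat_lit 5, nat_lit 1]))))))
 (.node (nat_lit 0x44c6e97d93093dc) (.node (nat_lit 0x44beec43369b3c0) (.node (nat_lit 0x44bd1b57bcd069c) (.leaf ((nat_lit 2), [nat_lit 9, nat_lit 8, nat_lit 2, nat_lit 7, nat_lit 9, nat_lit 4, nat_lit 7, nat_lit 8, nat_lit 4, nat_lit 2, nat_lit 2, nat_lit 0])) (.leaf ((nat_lit 3), [nat_lit 0, nat_lit 7, nat_lit 0, nat_lit 9, nat_lit 1, nat_lit 9, nat_lit 4, nat_lit 8, nat_lit 2, nat_lit 1, nat_lit 8, nat_lit 7, nat_lit 6, nat_lit 2, nat_lit 2, nat_lit 1]))) (.node (nat_lit 0x44bf490c965c9e4) (.leaf ((nat_lit 3), [nat_lit 2, nat_lit 2, nat_lit 9, nat_lit 0, nat_lit 9, nat_lit 3, nat_lit 6, nat_lit 8, nat_lit 7, nat_lit 5, nat_lit 7, nat_lit 3, nat_lit 4, nat_lit 6, nat_lit 4, nat_lit 2, nat_lit 2, nat_lit 0])) (.node (nat_lit 0x44c63013407baf0)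 (.leaf ((nat_lit 2), [nat_lit 6, nat_lit 3, nat_lit 0, nat_lit 8, nat_lit 6, nat_lit 5, nat_lit 6, nat_lit 2, nat_lit 2, nat_lit 1])) (.leaf ((nat_lit 0), [nat_lit 6, nat_lit 3, nat_lit 8, nat_lit 5, nat_lit 7, nat_lit 5, nat_lit 7, nat_lit 4, nat_lit 2, nat_lit 6, nat_lit 4, nat_lit 1])))))
 (.node (nat_lit 0x44c6e98b6895b50) (.node (nat_lit 0x44c6e98352cbfd4) (.leaf ((nat_lit 2), [nat_lit 8, nat_lit 2, nat_lit 6, nat_lit 8, nat_lit 4, nat_lit 1, nat_lit 7, nat_lit 6, nat_lit 4, nat_lit 2, nat_lit 6, nat_lit 5, nat_lit 3, nat_lit 3, nat_lit 3, nat_lit 1])) (.leaf ((nat_lit 2), [nat_lit 4, nat_lit 8, nat_lit 0, nat_lit 8, nat_lit 7, nat_lit 0, nat_lit 7, nat_lit 3, nat_lit 6, nat_lit 3, nat_lit 0]))) (.node (nat_lit 0x44c746bc72ff0ac) (.leaf ((nat_lit 2), [nat_lit 4, nat_lit 1, nat_lit 9, nat_lit 5, nat_lit 9, nat_lit 8, nat_lit 7, nat_lit 1, nat_lit 7, nat_lit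 2, nat_lit 4, nat_lit 6, nat_lit 2, nat_lit 4, nat_lit 2])) (.node (nat_lit 0x44c7a3fa9a999cc) (.leaf ((nat_lit 2), [nat_lit 3, nat_lit 8, nat_lit 6, nat_lit 1, nat_lit 8, nat_lit 7, nat_lit 1, nat_lit 7, nat_lit 3, nat_lit 3, nat_lit 6, nat_lit 4, nat_lit 2, nat_lit 2, nat_lit 1])) (.leaf ((nat_lit 1), [nat_lit 2, nat_lit 9, nat_lit 3, nat_lit 5, nat_lit 9, nat_lit 2, nat_lit 6, nat_lit 8, nat_lit 5, nat_lit 7, nat_lit 5, nat_lit 6, nat_lit 4, nat_lit 3, nat_lit 3, nat_lit 3])))))))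
 (.node (nat_lit 0x44da875eee28158) (.node (nat_lit 0x44d6e4fc8f30468) (.node (nat_lit 0x44cd73c5d355604) (.node (nat_lit 0x44cae89b2031ad0) (.leaf ((nat_lit 1), [nat_lit 2, nat_lit 2, nat_lit 9, nat_lit 1, nat_lit 9, nat_lit 8, nat_lit 2, nat_lit 5, nat_lit 8, nat_lit 3, nat_lit 4, nat_lit 7, nat_lit 2, nat_lit 4, nat_lit 6, nat_lit 5, nat_lit 2, nat_lit 0])) (.leaf ((nat_lit 0), [nat_lit 4, nat_lit 8, nat_lit 1, nat_lit 8, nat_lit 3, nat_lit 6, nat_lit 7, nat_lit 6, nat_lit 2, nat_lit 2, nat_lit 6, nat_lit 5, nat_lit 1]))) (.node (nat_lit 0x44d62b4abb343e0) (.leaf ((nat_lit 1), [nat_lit 2, nat_lit 7, nat_lit 9, nat_lit 5, nat_lit 9, nat_lit 2, nat_lit 6, nat_lit 8, nat_lit 7, nat_lit 5, nat_lit 0, nat_lit 7, nat_lit 6, nat_lit 5, nat_lit 4, nat_lit 3])) (.node (nat_lit 0x44d6e4f6cf53aac) (.leaf ((nat_lit 0), [nat_lit 7, nat_lit 8, nat_lit 7, nat_lit 3, nat_lit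 4, nat_lit 7, nat_lit 2, nat_lit 4, nat_lit 6, nat_lit 5, nat_lit 2, nat_lit 1])) (.leaf ((nat_lit 3), [nat_lit 6, nat_lit 9, nat_lit 2, nat_lit 1, nat_lit 9, nat_lit 3, nat_lit 4, nat_lit 7, nat_lit 2, nat_lit 2, nat_lit 6, nat_lit 5, nat_lit 3, nat_lit 4, nat_lit 3, nat_lit 3, nat_lit 1])))))
 (.node (nat_lit 0x44d7424384e8544) (.node (nat_lit 0x44d6e504a4f2874) (.leaf ((nat_lit 3), [nat_lit 7, nat_lit 9, nat_lit 2, nat_lit 1, nat_lit 9, nat_lit 4, nat_lit 7, nat_lit 6, nat_lit 8, nat_lit 5, nat_lit 1, nat_lit 7, nat_lit 3, nat_lit 4, nat_lit 6, nat_lit 3, nat_lit 4, nat_lit 3])) (.leaf ((nat_lit 3), [nat_lit 2, nat_lit 9, nat_lit 3, nat_lit 5, nat_lit 9, nat_lit 2, nat_lit 6, nat_lit 8, nat_lit 4, nat_lit 0, nat_lit 7, nat_lit 2, nat_lit 6, nat_lit 4, nat_lit 2]))) (.node (nat_lit 0x44d7fc7e6e6f1a4) (.leaf ((nat_lit 1), [nat_lit 9, nat_lit 7, nat_lit 5, nat_lit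 0, nat_lit 9, nat_lit 2, nat_lit 7, nat_lit 6, nat_lit 8, nat_lit 7, nat_lit 5, nat_lit 6, nat_lit 7, nat_lit 2, nat_lit 2, nat_lit 6, nat_lit 5, nat_lit 2])) (.node (nat_lit 0x44d9132a52ca44c) (.leaf ((nat_lit 3), [nat_lit 9, nat_lit 7, nat_lit 5, nat_lit 0, nat_lit 9, nat_lit 0, nat_lit 8, nat_lit 6, nat_lit 1, nat_lit 8, nat_lit 7, nat_lit 6, nat_lit 3])) (.leaf ((nat_lit 1), [nat_lit 2, nat_lit 2, nat_lit 9, nat_lit 0, nat_lit 9, nat_lit 2, nat_lit 1, nat_lit 8, nat_lit 5, nat_lit 1, nat_lit 7, nat_lit 4, nat_lit 6, nat_lit 5, nat_lit 2]))))))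
 (.node (nat_lit 0x44e4563bd86ccf8) (.node (nat_lit 0x44e227ebf24438c) (.node (nat_lit 0x44db411f50042bc) (.leaf ((nat_lit 0), [nat_lit 7, nat_lit 8, nat_lit 5, nat_lit 3, nat_lit 6, nat_lit 5, nat_lit 4, nat_lit 2, nat_lit 2, nat_lit 0])) (.leaf ((nat_lit 1), [nat_lit 6, nat_lit 9, nat_lit 2, nat_lit 1, nat_lit 9, nat_lit 6, nat_lit 3, nat_lit 1, nat_lit 8, nat_lit 5, nat_lit 1, nat_lit 7, nat_lit 2, nat_lit 4, nat_lit 3, nat_lit 6, nat_lit 3]))) (.node (nat_lit 0x44e2e22fd777244) (.leaf ((nat_lit 1), [nat_lit 2, nat_lit 2, nat_lit 9, nat_lit 1, nat_lit 9, nat_lit 0, nat_lit 7, nat_lit 8, nat_lit 5, nat_lit 7, nat_lit 6, nat_lit 5, nat_lit 3, nat_lit 6, nat_lit 5, nat_lit 3, nat_lit 1])) (.node (nat_lit 0x44e3f8fd26d6998) (.leaf ((nat_lit 3), [nat_lit 2, nat_lit 7, nat_lit 9, nat_lit 5, nat_lit 9, nat_lit 8, nat_lit 7, nat_lit 0, nat_lit 8, nat_lit 1, nat_lit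 7, nat_lit 6, nat_lit 4, nat_lit 3, nat_lit 6, nat_lit 2, nat_lit 2])) (.leaf ((nat_lit 1), [nat_lit 9, nat_lit 7, nat_lit 5, nat_lit 0, nat_lit 9, nat_lit 0, nat_lit 8, nat_lit 7, nat_lit 1, nat_lit 8, nat_lit 5, nat_lit 0, nat_lit 7, nat_lit 4, nat_lit 2, nat_lit 6, nat_lit 3])))))
 (.node (nat_lit 0x44e4b2b5ce9b3c8) (.node (nat_lit 0x44e4b2ad5cdbcd0) (.leaf ((nat_lit 3), [nat_lit 6, nat_lit 9, nat_lit 5, nat_lit 3, nat_lit 1, nat_lit 9, nat_lit 6, nat_lit 2, nat_lit 1, nat_lit 8, nat_lit 7, nat_lit 5, nat_lit 3, nat_lit 6, nat_lit 2, nat_lit 1])) (.leaf ((nat_lit 2), [nat_lit 2, nat_lit 7, nat_lit 9, nat_lit 5, nat_lit 9, nat_lit 8, nat_lit 5, nat_lit 8, nat_lit 6, nat_lit 7, nat_lit 4, nat_lit 6, nat_lit 2, nat_lit 2]))) (.node (nat_lit 0x44e4b2bb3260fac) (.leaf ((nat_lit 3), [nat_lit 9, nat_lit 7, nat_lit 5, nat_lit 0, nat_lit 9, nat_lit 0, nat_lit 8, nat_lit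 7, nat_lit 0, nat_lit 7, nat_lit 5, nat_lit 6, nat_lit 5, nat_lit 4, nat_lit 0])) (.node (nat_lit 0x44e73e186217cec) (.leaf ((nat_lit 6), [nat_lit 7, nat_lit 3, nat_lit 1, nat_lit 9, nat_lit 5, nat_lit 7, nat_lit 5, nat_lit 8, nat_lit 7, nat_lit 2, nat_lit 4, nat_lit 7, nat_lit 5, nat_lit 3, nat_lit 6, nat_lit 3, nat_lit 0])) (.leaf ((nat_lit 1), [nat_lit 2, nat_lit 2, nat_lit 9, nat_lit 0, nat_lit 9, nat_lit 7, nat_lit 5, nat_lit 6, nat_lit 8, nat_lit 6, nat_lit 1, nat_lit 7, nat_lit 4, nat_lit 2, nat_lit 2]))))))))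
 (.node (nat_lit 0x451049c4c077230) (.node (nat_lit 0x44fff116b446d84) (.node (nat_lit 0x44f5c525daa5bc0) (.node (nat_lit 0x44f4516ae15e8ec) (.node (nat_lit 0x44f397a8577a39c) (.leaf ((nat_lit 2), [nat_lit 6, nat_lit 9, nat_lit 2, nat_lit 1, nat_lit 9, nat_lit 5, nat_lit 8, nat_lit 1, nat_lit 8, nat_lit 4, nat_lit 7, nat_lit 6, nat_lit 3, nat_lit 3, nat_lit 6, nat_lit 2, nat_lit 1])) (.leaf ((nat_lit 0), [nat_lit 3, nat_lit 0, nat_lit 8, nat_lit 6, nat_lit 0, nat_lit 7, nat_lit 4, nat_lit 2, nat_lit 6, nat_lit 5, nat_lit 4, nat_lit 3, nat_lit 3]))) (.node (nat_lit 0x44f568a372ca44c) (.leaf ((nat_lit 0), [nat_lit 8, nat_lit 0, nat_lit 7, nat_lit 8, nat_lit 7, nat_lit 0, nat_lit 7, nat_lit 4, nat_lit 6, nat_lit 1])) (.node (nat_lit 0x44f5c51d68f8b1c) (.leaf ((nat_lit 0), [nat_lit 5, nat_lit 7, nat_lit 5, nat_lit 8, nat_lit 3, nat_lit 6, nat_lit 7, nat_lit 5, nat_lit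 6, nat_lit 5, nat_lit 3, nat_lit 6, nat_lit 1])) (.leaf ((nat_lit 6), [nat_lit 1, nat_lit 9, nat_lit 1, nat_lit 9, nat_lit 0, nat_lit 8, nat_lit 7, nat_lit 1, nat_lit 8, nat_lit 6, nat_lit 7, nat_lit 4, nat_lit 6, nat_lit 4, nat_lit 3])))))
 (.node (nat_lit 0x44f67f65427454c) (.node (nat_lit 0x44f5c52b3e85568) (.leaf ((nat_lit 2), [nat_lit 7, nat_lit 8, nat_lit 7, nat_lit 1, nat_lit 8, nat_lit 5, nat_lit 0, nat_lit 7, nat_lit 4, nat_lit 2, nat_lit 6, nat_lit 5, nat_lit 4, nat_lit 3, nat_lit 3])) (.leaf ((nat_lit 3), [nat_lit 2, nat_lit 2, nat_lit 9, nat_lit 0, nat_lit 9, nat_lit 3, nat_lit 1, nat_lit 8, nat_lit 7, nat_lit 6, nat_lit 2, nat_lit 4, nat_lit 6, nat_lit 3, nat_lit 1]))) (.node (nat_lit 0x44f7f398f7d9698) (.leaf ((nat_lit 1), [nat_lit 7, nat_lit 9, nat_lit 2, nat_lit 1, nat_lit 9, nat_lit 3, nat_lit 6, nat_lit 8, nat_lit 7, nat_lit 0, nat_lit 7, nat_lit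 6, nat_lit 2, nat_lit 2, nat_lit 6, nat_lit 5, nat_lit 2, nat_lit 4])) (.node (nat_lit 0x44f85047c071ae4) (.leaf ((nat_lit 0), [nat_lit 2, nat_lit 7, nat_lit 5, nat_lit 8, nat_lit 5, nat_lit 3, nat_lit 6, nat_lit 5, nat_lit 2, nat_lit 4, nat_lit 1])) (.leaf ((nat_lit 0), [nat_lit 7, nat_lit 8, nat_lit 6, nat_lit 3, nat_lit 8, nat_lit 7, nat_lit 2, nat_lit 4, nat_lit 3, nat_lit 6, nat_lit 4]))))))
 (.node (nat_lit 0x450392e000316b8) (.node (nat_lit 0x450107be7657314) (.node (nat_lit 0x45004e5593db9a4) (.leaf ((nat_lit 2), [nat_lit 9, nat_lit 1, nat_lit 9, nat_lit 0, nat_lit 9, nat_lit 1, nat_lit 7, nat_lit 5, nat_lit 8, nat_lit 5, nat_lit 7, nat_lit 6, nat_lit 5, nat_lit 2])) (.leaf ((nat_lit 1), [nat_lit 9, nat_lit 7, nat_lit 5, nat_lit 0, nat_lit 9, nat_lit 8, nat_lit 5, nat_lit 8, nat_lit 4, nat_lit 7, nat_lit 6, nat_lit 4, nat_lit 3, nat_lit 6, nat_lit 5,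 nat_lit 0]))) (.node (nat_lit 0x450107c6e81e17c) (.leaf ((nat_lit 3), [nat_lit 0, nat_lit 7, nat_lit 0, nat_lit 9, nat_lit 1, nat_lit 9, nat_lit 6, nat_lit 8, nat_lit 5, nat_lit 1, nat_lit 7, nat_lit 6, nat_lit 2, nat_lit 4, nat_lit 6, nat_lit 0])) (.node (nat_lit 0x450107cc4bf63b4) (.leaf ((nat_lit 6), [nat_lit 2, nat_lit 9, nat_lit 3, nat_lit 5, nat_lit 9, nat_lit 4, nat_lit 7, nat_lit 4, nat_lit 6, nat_lit 5, nat_lit 2, nat_lit 2])) (.leaf ((nat_lit 2), [nat_lit 2, nat_lit 2, nat_lit 9, nat_lit 1, nat_lit 9, nat_lit 6, nat_lit 8, nat_lit 0, nat_lit 8, nat_lit 7, nat_lit 0, nat_lit 7, nat_lit 2, nat_lit 6, nat_lit 1])))))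
 (.node (nat_lit 0x4506d7d358f98f8) (.node (nat_lit 0x45061e226a8a1c4) (.leaf ((nat_lit 2), [nat_lit 2, nat_lit 8, nat_lit 4, nat_lit 1, nat_lit 7, nat_lit 4, nat_lit 6, nat_lit 5, nat_lit 3, nat_lit 0])) (.leaf ((nat_lit 0), [nat_lit 0, nat_lit 8, nat_lit 7, nat_lit 6, nat_lit 3, nat_lit 3, nat_lit 6, nat_lit 3, nat_lit 4, nat_lit 0]))) (.node (nat_lit 0x4507eeffb2c7e80) (.leaf ((nat_lit 2), [nat_lit 2, nat_lit 2, nat_lit 8, nat_lit 3, nat_lit 6, nat_lit 7, nat_lit 4, nat_lit 3, nat_lit 3, nat_lit 6, nat_lit 3, nat_lit 3, nat_lit 0])) (.node (nat_lit 0x4508a8b07322810) (.leaf ((nat_lit 3), [nat_lit 7, nat_lit 9, nat_lit 2, nat_lit 1, nat_lit 9, nat_lit 1, nat_lit 8, nat_lit 6, nat_lit 1, nat_lit 8, nat_lit 5, nat_lit 7, nat_lit 5, nat_lit 0, nat_lit 7, nat_lit 5, nat_lit 0])) (.leaf ((nat_lit 1), [nat_lit 2, nat_lit 7, nat_lit 9, nat_lit 5, nat_lit 9, nat_lit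 3, nat_lit 6, nat_lit 2, nat_lit 1, nat_lit 8, nat_lit 4, nat_lit 2, nat_lit 2, nat_lit 6, nat_lit 1])))))))
 (.node (nat_lit 0x451db9b66689edc) (.node (nat_lit 0x45127725848b254) (.node (nat_lit 0x45121aa2eeb14f8) (.node (nat_lit 0x4511bd71e4a8ee0) (.leaf ((nat_lit 3), [nat_lit 6, nat_lit 9, nat_lit 2, nat_lit 1, nat_lit 9, nat_lit 3, nat_lit 6, nat_lit 8, nat_lit 6, nat_lit 7, nat_lit 2, nat_lit 2, nat_lit 6, nat_lit 2, nat_lit 4, nat_lit 2])) (.leaf ((nat_lit 0), [nat_lit 3, nat_lit 5, nat_lit 6, nat_lit 8, nat_lit 6, nat_lit 3, nat_lit 4, nat_lit 7, nat_lit 4, nat_lit 2, nat_lit 0]))) (.node (nat_lit 0x451277155919368) (.leaf ((nat_lit 1), [nat_lit 9, nat_lit 7, nat_lit 5, nat_lit 0, nat_lit 9, nat_lit 5, nat_lit 8, nat_lit 4, nat_lit 7, nat_lit 4, nat_lit 3, nat_lit 3, nat_lit 6, nat_lit 4, nat_lit 0])) (.node (nat_lit 0x4512771d6edb608) (.leaf ((nat_lit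 3), [nat_lit 2, nat_lit 2, nat_lit 9, nat_lit 1, nat_lit 9, nat_lit 6, nat_lit 2, nat_lit 8, nat_lit 6, nat_lit 5, nat_lit 7, nat_lit 3, nat_lit 4, nat_lit 6])) (.leaf ((nat_lit 2), [nat_lit 4, nat_lit 1, nat_lit 9, nat_lit 5, nat_lit 9, nat_lit 3, nat_lit 8, nat_lit 7, nat_lit 3, nat_lit 4, nat_lit 7, nat_lit 6, nat_lit 5, nat_lit 4, nat_lit 2, nat_lit 2, nat_lit 0])))))
 (.node (nat_lit 0x4514a5698f71210) (.node (nat_lit 0x4512d45b96d6fd8) (.leaf ((nat_lit 6), [nat_lit 2, nat_lit 8, nat_lit 3, nat_lit 9, nat_lit 0, nat_lit 8, nat_lit 5, nat_lit 4, nat_lit 7, nat_lit 2, nat_lit 6, nat_lit 5, nat_lit 2, nat_lit 4])) (.leaf ((nat_lit 2), [nat_lit 6, nat_lit 3, nat_lit 9, nat_lit 1, nat_lit 9, nat_lit 8, nat_lit 6, nat_lit 1, nat_lit 8, nat_lit 5, nat_lit 0, nat_lit 7, nat_lit 5, nat_lit 1]))) (.node (nat_lit 0x45155f7cf242c98) (.leaf ((nat_lit 2), [nat_lit 9,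 nat_lit 8, nat_lit 2, nat_lit 1, nat_lit 9, nat_lit 2, nat_lit 6, nat_lit 0, nat_lit 8, nat_lit 3, nat_lit 4, nat_lit 7, nat_lit 2, nat_lit 6, nat_lit 3, nat_lit 3])) (.node (nat_lit 0x451d5d3bb86150c) (.leaf ((nat_lit 0), [nat_lit 7, nat_lit 8, nat_lit 2, nat_lit 6, nat_lit 4, nat_lit 2, nat_lit 2])) (.leaf ((nat_lit 3), [nat_lit 2, nat_lit 9, nat_lit 3, nat_lit 5, nat_lit 9, nat_lit 8, nat_lit 5, nat_lit 2, nat_lit 8, nat_lit 1, nat_lit 7, nat_lit 6, nat_lit 5, nat_lit 3, nat_lit 6, nat_lit 3, nat_lit 4]))))))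
 (.node (nat_lit 0x4525b7b15ccff7c) (.node (nat_lit 0x451db9c6920397c) (.node (nat_lit 0x451db9be7c39f6c) (.leaf ((nat_lit 3), [nat_lit 6, nat_lit 9, nat_lit 5, nat_lit 3, nat_lit 1, nat_lit 9, nat_lit 8, nat_lit 5, nat_lit 8, nat_lit 4, nat_lit 2, nat_lit 2, nat_lit 6, nat_lit 5, nat_lit 4, nat_lit 1])) (.leaf ((nat_lit 2), [nat_lit 6, nat_lit 9, nat_lit 5, nat_lit 9, nat_lit 3, nat_lit 5, nat_lit 8, nat_lit 6, nat_lit 5, nat_lit 6, nat_lit 7, nat_lit 6, nat_lit 5, nat_lit 4, nat_lit 2, nat_lit 0]))) (.node (nat_lit 0x451e16f48e858ac) (.leaf ((nat_lit 6), [nat_lit 7, nat_lit 8, nat_lit 4, nat_lit 9, nat_lit 5, nat_lit 7, nat_lit 8, nat_lit 5, nat_lit 0, nat_lit 7, nat_lit 4, nat_lit 6, nat_lit 4])) (.node (nat_lit 0x4524a0fd06b5470) (.leaf ((nat_lit 1), [nat_lit 6, nat_lit 9, nat_lit 5, nat_lit 3, nat_lit 1, nat_lit 9, nat_lit 7, nat_lit 5, nat_lit 8, nat_lit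 4, nat_lit 1, nat_lit 7, nat_lit 2, nat_lit 6, nat_lit 5, nat_lit 4, nat_lit 3])) (.leaf ((nat_lit 1), [nat_lit 0, nat_lit 7, nat_lit 0, nat_lit 9, nat_lit 1, nat_lit 9, nat_lit 5, nat_lit 7, nat_lit 0, nat_lit 8, nat_lit 5, nat_lit 7, nat_lit 5, nat_lit 0])))))
 (.node (nat_lit 0x452b87d9786a85c) (.node (nat_lit 0x4526720d8354d80) (.leaf ((nat_lit 0), [nat_lit 4, nat_lit 8, nat_lit 1, nat_lit 8, nat_lit 3, nat_lit 6, nat_lit 7, nat_lit 5, nat_lit 6, nat_lit 3, nat_lit 4, nat_lit 3])) (.leaf ((nat_lit 3), [nat_lit 2, nat_lit 2, nat_lit 9, nat_lit 1, nat_lit 9, nat_lit 1, nat_lit 7, nat_lit 5, nat_lit 8, nat_lit 7, nat_lit 5, nat_lit 7, nat_lit 4, nat_lit 3, nat_lit 3, nat_lit 6, nat_lit 5, nat_lit 3, nat_lit 1]))) (.node (nat_lit 0x452d58c52037b64) (.leaf ((nat_lit 1), [nat_lit 0, nat_lit 7, nat_lit 0, nat_lit 9, nat_lit 1, nat_lit 9, nat_lit 7, nat_lit 0, nat_lit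 8, nat_lit 3, nat_lit 4, nat_lit 3, nat_lit 3, nat_lit 6, nat_lit 5, nat_lit 3, nat_lit 1])) (.node (nat_lit 0x452e122c92bf040) (.leaf ((nat_lit 0), [nat_lit 2, nat_lit 1, nat_lit 8, nat_lit 5, nat_lit 1, nat_lit 7, nat_lit 5, nat_lit 3, nat_lit 4, nat_lit 3, nat_lit 3])) (.leaf ((nat_lit 3), [nat_lit 2, nat_lit 7, nat_lit 9, nat_lit 5, nat_lit 9, nat_lit 8, nat_lit 6, nat_lit 2, nat_lit 8, nat_lit 1, nat_lit 7, nat_lit 6, nat_lit 5, nat_lit 3, nat_lit 0]))))))))))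
 (.node (nat_lit 0x45b3611ddbb64a4) (.node (nat_lit 0x456bd2c8a55c678) (.node (nat_lit 0x4550f17f74dfd2c) (.node (nat_lit 0x453e6b1fcaef21c) (.node (nat_lit 0x45338545f56abe0) (.node (nat_lit 0x452e6f7ae646b04) (.node (nat_lit 0x452e123cbe4b134) (.leaf ((nat_lit 2), [nat_lit 2, nat_lit 7, nat_lit 9, nat_lit 5, nat_lit 9, nat_lit 3, nat_lit 7, nat_lit 0, nat_lit 8, nat_lit 5, nat_lit 4, nat_lit 2])) (.leaf ((nat_lit 6), [nat_lit 6, nat_lit 1, nat_lit 7, nat_lit 0, nat_lit 9, nat_lit 5, nat_lit 0, nat_lit 7, nat_lit 8, nat_lit 4, nat_lit 7, nat_lit 5, nat_lit 6, nat_lit 5, nat_lit 3, nat_lit 6, nat_lit 0]))) (.node (nat_lit 0x45309d6601cc9a4) (.leaf ((nat_lit 0), [nat_lit 5, nat_lit 7, nat_lit 6, nat_lit 5, nat_lit 6, nat_lit 5, nat_lit 2, nat_lit 0])) (.node (nat_lit 0x4531b4964f865ac) (.leaf ((nat_lit 1), [nat_lit 0, nat_lit 7, nat_lit 0, nat_lit 9, nat_lit 1,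 nat_lit 9, nat_lit 6, nat_lit 8, nat_lit 7, nat_lit 6, nat_lit 2, nat_lit 2, nat_lit 6, nat_lit 5, nat_lit 3, nat_lit 4, nat_lit 1])) (.leaf ((nat_lit 1), [nat_lit 7, nat_lit 9, nat_lit 2, nat_lit 1, nat_lit 9, nat_lit 6, nat_lit 7, nat_lit 1, nat_lit 8, nat_lit 7, nat_lit 5, nat_lit 3, nat_lit 6, nat_lit 3, nat_lit 4, nat_lit 3])))))
 (.node (nat_lit 0x453bdfe82833ca4) (.node (nat_lit 0x453bdfe2686d938) (.leaf ((nat_lit 0), [nat_lit 4, nat_lit 7, nat_lit 6, nat_lit 8, nat_lit 4, nat_lit 0, nat_lit 7, nat_lit 3, nat_lit 3, nat_lit 6, nat_lit 4, nat_lit 3, nat_lit 0])) (.leaf ((nat_lit 6), [nat_lit 8, nat_lit 2, nat_lit 2, nat_lit 9, nat_lit 5, nat_lit 7, nat_lit 0, nat_lit 8, nat_lit 7, nat_lit 5, nat_lit 7, nat_lit 3, nat_lit 3, nat_lit 6, nat_lit 5]))) (.node (nat_lit 0x453bdff03e013d8) (.leaf ((nat_lit 3), [nat_lit 2, nat_lit 7, nat_lit 9, nat_lit 5, nat_lit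 9, nat_lit 2, nat_lit 1, nat_lit 8, nat_lit 6, nat_lit 5, nat_lit 7, nat_lit 4, nat_lit 3, nat_lit 3, nat_lit 6, nat_lit 1])) (.node (nat_lit 0x453c9a2bb183a78) (.leaf ((nat_lit 2), [nat_lit 6, nat_lit 9, nat_lit 2, nat_lit 1, nat_lit 9, nat_lit 8, nat_lit 7, nat_lit 1, nat_lit 8, nat_lit 3, nat_lit 6, nat_lit 7, nat_lit 6, nat_lit 5, nat_lit 4])) (.leaf ((nat_lit 2), [nat_lit 6, nat_lit 9, nat_lit 6, nat_lit 0, nat_lit 9, nat_lit 6, nat_lit 5, nat_lit 2, nat_lit 8, nat_lit 6, nat_lit 5, nat_lit 7, nat_lit 6, nat_lit 3, nat_lit 3, nat_lit 3]))))))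
 (.node (nat_lit 0x4549adb8f09c3b0) (.node (nat_lit 0x453fde873929480) (.node (nat_lit 0x453ec78995ab5bc) (.leaf ((nat_lit 0), [nat_lit 0, nat_lit 8, nat_lit 7, nat_lit 5, nat_lit 7, nat_lit 6, nat_lit 4, nat_lit 2])) (.leaf ((nat_lit 3), [nat_lit 7, nat_lit 9, nat_lit 2, nat_lit 1, nat_lit 9, nat_lit 3, nat_lit 5, nat_lit 8, nat_lit 7, nat_lit 5, nat_lit 0, nat_lit 7, nat_lit 2, nat_lit 6, nat_lit 3, nat_lit 1]))) (.node (nat_lit 0x45403bfe8321200) (.leaf ((nat_lit 1), [nat_lit 2, nat_lit 7, nat_lit 9, nat_lit 5, nat_lit 9, nat_lit 4, nat_lit 7, nat_lit 8, nat_lit 5, nat_lit 7, nat_lit 5, nat_lit 6, nat_lit 5, nat_lit 3, nat_lit 4, nat_lit 3, nat_lit 0])) (.node (nat_lit 0x4542c6753059b88) (.leaf ((nat_lit 2), [nat_lit 7, nat_lit 2, nat_lit 9, nat_lit 1, nat_lit 9, nat_lit 3, nat_lit 5, nat_lit 8, nat_lit 7, nat_lit 5, nat_lit 7, nat_lit 4, nat_lit 6, nat_lit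 3, nat_lit 4])) (.leaf ((nat_lit 1), [nat_lit 6, nat_lit 9, nat_lit 5, nat_lit 3, nat_lit 1, nat_lit 9, nat_lit 4, nat_lit 8, nat_lit 0, nat_lit 8, nat_lit 5, nat_lit 7, nat_lit 4, nat_lit 3, nat_lit 6, nat_lit 4])))))
 (.node (nat_lit 0x454dac0b784c05c) (.node (nat_lit 0x454a0a3aa097310) (.leaf ((nat_lit 2), [nat_lit 8, nat_lit 7, nat_lit 8, nat_lit 5, nat_lit 8, nat_lit 6, nat_lit 1, nat_lit 7, nat_lit 2, nat_lit 6, nat_lit 3, nat_lit 4, nat_lit 3, nat_lit 0])) (.leaf ((nat_lit 0), [nat_lit 7, nat_lit 2, nat_lit 8, nat_lit 6, nat_lit 4, nat_lit 3, nat_lit 6, nat_lit 2, nat_lit 4, nat_lit 3, nat_lit 1]))) (.node (nat_lit 0x454e660ae9f4a74) (.leaf ((nat_lit 3), [nat_lit 2, nat_lit 9, nat_lit 3, nat_lit 5, nat_lit 9, nat_lit 7, nat_lit 5, nat_lit 1, nat_lit 8, nat_lit 6, nat_lit 0, nat_lit 7, nat_lit 3, nat_lit 4, nat_lit 6, nat_lit 2])) (.node (nat_lit 0x455093f4f18376c)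 (.leaf ((nat_lit 0), [nat_lit 5, nat_lit 0, nat_lit 7, nat_lit 8, nat_lit 4, nat_lit 2, nat_lit 6, nat_lit 5, nat_lit 2, nat_lit 4, nat_lit 1])) (.leaf ((nat_lit 0), [nat_lit 6, nat_lit 3, nat_lit 8, nat_lit 5, nat_lit 1, nat_lit 7, nat_lit 5, nat_lit 6, nat_lit 2, nat_lit 4, nat_lit 2])))))))
 (.node (nat_lit 0x455f1bfb120f40c) (.node (nat_lit 0x455a0626d922bc4) (.node (nat_lit 0x45577aff61f3b84) (.node (nat_lit 0x45577af9a213610) (.leaf ((nat_lit 0), [nat_lit 1, nat_lit 7, nat_lit 5, nat_lit 8, nat_lit 6, nat_lit 3, nat_lit 4, nat_lit 6, nat_lit 2, nat_lit 2])) (.leaf ((nat_lit 2), [nat_lit 6, nat_lit 9, nat_lit 2, nat_lit 1, nat_lit 9, nat_lit 2, nat_lit 1, nat_lit 8, nat_lit 5, nat_lit 7, nat_lit 5, nat_lit 7, nat_lit 5, nat_lit 3]))) (.node (nat_lit 0x45577b0777ae820) (.leaf ((nat_lit 6), [nat_lit 9, nat_lit 6, nat_lit 1, nat_lit 9, nat_lit 7, nat_lit 0,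 nat_lit 8, nat_lit 7, nat_lit 3, nat_lit 3, nat_lit 3, nat_lit 6, nat_lit 1])) (.node (nat_lit 0x45589237c560e24) (.leaf ((nat_lit 3), [nat_lit 2, nat_lit 2, nat_lit 9, nat_lit 1, nat_lit 9, nat_lit 5, nat_lit 7, nat_lit 0, nat_lit 8, nat_lit 6, nat_lit 1, nat_lit 7, nat_lit 4, nat_lit 6, nat_lit 5, nat_lit 1])) (.leaf ((nat_lit 0), [nat_lit 8, nat_lit 0, nat_lit 7, nat_lit 8, nat_lit 7, nat_lit 1, nat_lit 7, nat_lit 3, nat_lit 4])))))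
 (.node (nat_lit 0x455e04c280a38ac) (.node (nat_lit 0x455abfa603045a8) (.leaf ((nat_lit 1), [nat_lit 2, nat_lit 7, nat_lit 9, nat_lit 5, nat_lit 9, nat_lit 4, nat_lit 7, nat_lit 6, nat_lit 8, nat_lit 0, nat_lit 7, nat_lit 5, nat_lit 2, nat_lit 1])) (.leaf ((nat_lit 1), [nat_lit 2, nat_lit 2, nat_lit 9, nat_lit 0, nat_lit 9, nat_lit 1, nat_lit 8, nat_lit 1, nat_lit 8, nat_lit 2, nat_lit 4, nat_lit 7, nat_lit 5, nat_lit 2, nat_lit 4, nat_lit 2]))) (.node (nat_lit 0x455e04c840717cc) (.leaf ((nat_lit 3), [nat_lit 6, nat_lit 9, nat_lit 5, nat_lit 3, nat_lit 1, nat_lit 9, nat_lit 6, nat_lit 3, nat_lit 0, nat_lit 8, nat_lit 5, nat_lit 4, nat_lit 7, nat_lit 5, nat_lit 6, nat_lit 5, nat_lit 0])) (.node (nat_lit 0x455e04d0562513c) (.leaf ((nat_lit 2), [nat_lit 0, nat_lit 7, nat_lit 0, nat_lit 9, nat_lit 1, nat_lit 9, nat_lit 3, nat_lit 7, nat_lit 8, nat_lit 0, nat_lit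 7, nat_lit 6, nat_lit 4, nat_lit 2, nat_lit 6, nat_lit 2, nat_lit 0])) (.leaf ((nat_lit 6), [nat_lit 5, nat_lit 8, nat_lit 1, nat_lit 9, nat_lit 6, nat_lit 0, nat_lit 8, nat_lit 7, nat_lit 3, nat_lit 4, nat_lit 7, nat_lit 6, nat_lit 2, nat_lit 4, nat_lit 6, nat_lit 2, nat_lit 2]))))))
 (.node (nat_lit 0x4569a4c65c83038) (.node (nat_lit 0x4560ecfbed1ec18) (.node (nat_lit 0x45603276fdc3094) (.leaf ((nat_lit 1), [nat_lit 2, nat_lit 9, nat_lit 3, nat_lit 5, nat_lit 9, nat_lit 5, nat_lit 6, nat_lit 8, nat_lit 1, nat_lit 7, nat_lit 4, nat_lit 2, nat_lit 6, nat_lit 5, nat_lit 1])) (.leaf ((nat_lit 3), [nat_lit 6, nat_lit 9, nat_lit 2, nat_lit 1, nat_lit 9, nat_lit 7, nat_lit 8, nat_lit 5, nat_lit 8, nat_lit 5, nat_lit 1, nat_lit 7, nat_lit 2, nat_lit 2, nat_lit 6, nat_lit 5, nat_lit 4, nat_lit 3, nat_lit 3]))) (.node (nat_lit 0x4566bcf60a62b84) (.leaf ((nat_lit 1),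 [nat_lit 2, nat_lit 2, nat_lit 9, nat_lit 1, nat_lit 9, nat_lit 7, nat_lit 5, nat_lit 8, nat_lit 0, nat_lit 7, nat_lit 6, nat_lit 5, nat_lit 6, nat_lit 5, nat_lit 2])) (.node (nat_lit 0x4567766000efa10) (.leaf ((nat_lit 0), [nat_lit 4, nat_lit 7, nat_lit 8, nat_lit 4, nat_lit 1, nat_lit 7, nat_lit 2, nat_lit 6, nat_lit 3, nat_lit 4, nat_lit 3, nat_lit 3])) (.leaf ((nat_lit 0), [nat_lit 2, nat_lit 7, nat_lit 5, nat_lit 8, nat_lit 3, nat_lit 6, nat_lit 7, nat_lit 3, nat_lit 3])))))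
 (.node (nat_lit 0x456b186914fa6cc) (.node (nat_lit 0x456a5e3dcc97d48) (.leaf ((nat_lit 0), [nat_lit 7, nat_lit 8, nat_lit 7, nat_lit 1, nat_lit 8, nat_lit 7, nat_lit 2, nat_lit 4, nat_lit 7, nat_lit 3, nat_lit 4])) (.leaf ((nat_lit 0), [nat_lit 6, nat_lit 3, nat_lit 0, nat_lit 8, nat_lit 5, nat_lit 4, nat_lit 7, nat_lit 4, nat_lit 3, nat_lit 6, nat_lit 5, nat_lit 2, nat_lit 4, nat_lit 2]))) (.node (nat_lit 0x456b18712aaded0) (.leaf ((nat_lit 2), [nat_lit 2, nat_lit 2, nat_lit 9, nat_lit 0, nat_lit 9, nat_lit 0, nat_lit 7, nat_lit 8, nat_lit 7, nat_lit 6, nat_lit 3, nat_lit 4, nat_lit 6, nat_lit 4, nat_lit 1])) (.node (nat_lit 0x456b1879407b498) (.leaf ((nat_lit 3), [nat_lit 6, nat_lit 9, nat_lit 2, nat_lit 1, nat_lit 9, nat_lit 3, nat_lit 1, nat_lit 8, nat_lit 2, nat_lit 2, nat_lit 6, nat_lit 1])) (.leaf ((nat_lit 6), [nat_lit 2, nat_lit 1, nat_lit 8, nat_lit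 4, nat_lit 1, nat_lit 7, nat_lit 4, nat_lit 6, nat_lit 5, nat_lit 2, nat_lit 2, nat_lit 0]))))))))
 (.node (nat_lit 0x458c83a7565240c) (.node (nat_lit 0x457d41a3900f640) (.node (nat_lit 0x4576b80f2810f20) (.node (nat_lit 0x456e0093f3eecec) (.node (nat_lit 0x456d4632c572014) (.leaf ((nat_lit 1), [nat_lit 6, nat_lit 9, nat_lit 5, nat_lit 3, nat_lit 1, nat_lit 9, nat_lit 3, nat_lit 1, nat_lit 8, nat_lit 4, nat_lit 7, nat_lit 6, nat_lit 5, nat_lit 6, nat_lit 5, nat_lit 2])) (.leaf ((nat_lit 1), [nat_lit 6, nat_lit 9, nat_lit 2, nat_lit 1, nat_lit 9, nat_lit 8, nat_lit 2, nat_lit 6, nat_lit 8, nat_lit 4, nat_lit 1, nat_lit 7, nat_lit 5, nat_lit 3, nat_lit 6, nat_lit 5, nat_lit 4, nat_lit 0]))) (.node (nat_lit 0x457544542e5db4c) (.leaf ((nat_lit 0), [nat_lit 3, nat_lit 5, nat_lit 6, nat_lit 8, nat_lit 3, nat_lit 6, nat_lit 1, nat_lit 7, nat_lit 3, nat_lit 3, nat_lit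 6, nat_lit 0])) (.node (nat_lit 0x4576b8071255fac) (.leaf ((nat_lit 2), [nat_lit 1, nat_lit 9, nat_lit 1, nat_lit 9, nat_lit 7, nat_lit 5, nat_lit 0, nat_lit 8, nat_lit 3, nat_lit 6, nat_lit 5, nat_lit 2, nat_lit 4, nat_lit 3])) (.leaf ((nat_lit 2), [nat_lit 7, nat_lit 8, nat_lit 6, nat_lit 3, nat_lit 8, nat_lit 5, nat_lit 7, nat_lit 5, nat_lit 7, nat_lit 2, nat_lit 4])))))
 (.node (nat_lit 0x457715644ee695c) (.node (nat_lit 0x4576b8173dc4724) (.leaf ((nat_lit 3), [nat_lit 7, nat_lit 9, nat_lit 2, nat_lit 1, nat_lit 9, nat_lit 6, nat_lit 3, nat_lit 8, nat_lit 5, nat_lit 1, nat_lit 7, nat_lit 6, nat_lit 4, nat_lit 2, nat_lit 6])) (.leaf ((nat_lit 6), [nat_lit 2, nat_lit 1, nat_lit 9, nat_lit 8, nat_lit 5, nat_lit 2, nat_lit 8, nat_lit 3, nat_lit 6, nat_lit 7, nat_lit 6, nat_lit 4]))) (.node (nat_lit 0x457771e6e4da5e8) (.leaf ((nat_lit 2), [nat_lit 2, nat_lit 9,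 nat_lit 8, nat_lit 1, nat_lit 9, nat_lit 2, nat_lit 7, nat_lit 6, nat_lit 8, nat_lit 7, nat_lit 0, nat_lit 7, nat_lit 6, nat_lit 2, nat_lit 4, nat_lit 6, nat_lit 2])) (.node (nat_lit 0x457bcdb8fa291f4) (.leaf ((nat_lit 1), [nat_lit 2, nat_lit 2, nat_lit 9, nat_lit 1, nat_lit 9, nat_lit 5, nat_lit 6, nat_lit 8, nat_lit 0, nat_lit 7, nat_lit 3, nat_lit 4, nat_lit 6, nat_lit 2, nat_lit 0])) (.leaf ((nat_lit 1), [nat_lit 9, nat_lit 7, nat_lit 5, nat_lit 0, nat_lit 9, nat_lit 7, nat_lit 8, nat_lit 1, nat_lit 8, nat_lit 3, nat_lit 4, nat_lit 6]))))))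
 (.node (nat_lit 0x4587108d6a137b8) (.node (nat_lit 0x4585f94cc28bc34) (.node (nat_lit 0x457dfc311f25458) (.leaf ((nat_lit 0), [nat_lit 6, nat_lit 8, nat_lit 3, nat_lit 6, nat_lit 1, nat_lit 7, nat_lit 4, nat_lit 3, nat_lit 6, nat_lit 4, nat_lit 1])) (.leaf ((nat_lit 1), [nat_lit 2, nat_lit 2, nat_lit 9, nat_lit 1, nat_lit 9, nat_lit 6, nat_lit 0, nat_lit 8, nat_lit 3, nat_lit 3, nat_lit 6, nat_lit 5, nat_lit 4, nat_lit 3]))) (.node (nat_lit 0x4587107d3e8b27c) (.leaf ((nat_lit 3), [nat_lit 9, nat_lit 7, nat_lit 5, nat_lit 0, nat_lit 9, nat_lit 5, nat_lit 7, nat_lit 8, nat_lit 5, nat_lit 0, nat_lit 7, nat_lit 6, nat_lit 3, nat_lit 3, nat_lit 6, nat_lit 4, nat_lit 0])) (.node (nat_lit 0x458710855458844) (.leaf ((nat_lit 2), [nat_lit 1, nat_lit 7, nat_lit 5, nat_lit 8, nat_lit 6, nat_lit 0, nat_lit 7, nat_lit 6, nat_lit 2, nat_lit 4, nat_lit 1])) (.leaf ((nat_lit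 3), [nat_lit 2, nat_lit 9, nat_lit 3, nat_lit 5, nat_lit 9, nat_lit 1, nat_lit 7, nat_lit 5, nat_lit 8, nat_lit 5, nat_lit 0, nat_lit 7, nat_lit 6, nat_lit 5, nat_lit 4, nat_lit 1])))))
 (.node (nat_lit 0x458827521948b7c) (.node (nat_lit 0x45876dd48d5a330) (.leaf ((nat_lit 6), [nat_lit 2, nat_lit 2, nat_lit 9, nat_lit 0, nat_lit 9, nat_lit 6, nat_lit 1, nat_lit 8, nat_lit 6, nat_lit 3, nat_lit 4, nat_lit 7, nat_lit 3, nat_lit 4, nat_lit 6, nat_lit 4, nat_lit 3, nat_lit 0])) (.leaf ((nat_lit 1), [nat_lit 6, nat_lit 9, nat_lit 2, nat_lit 1, nat_lit 9, nat_lit 8, nat_lit 3, nat_lit 1, nat_lit 8, nat_lit 6, nat_lit 4, nat_lit 2, nat_lit 6, nat_lit 2, nat_lit 0]))) (.node (nat_lit 0x4588e13669c192c) (.leaf ((nat_lit 3), [nat_lit 2, nat_lit 2, nat_lit 9, nat_lit 0, nat_lit 9, nat_lit 0, nat_lit 8, nat_lit 6, nat_lit 3, nat_lit 8, nat_lit 4, nat_lit 3, nat_lit 3, nat_lit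 6, nat_lit 2, nat_lit 4, nat_lit 3])) (.node (nat_lit 0x45893ebe6932300) (.leaf ((nat_lit 3), [nat_lit 2, nat_lit 7, nat_lit 9, nat_lit 5, nat_lit 9, nat_lit 5, nat_lit 7, nat_lit 6, nat_lit 8, nat_lit 7, nat_lit 3, nat_lit 4, nat_lit 7, nat_lit 5, nat_lit 2])) (.leaf ((nat_lit 2), [nat_lit 2, nat_lit 2, nat_lit 9, nat_lit 1, nat_lit 9, nat_lit 2, nat_lit 1, nat_lit 8, nat_lit 7, nat_lit 6, nat_lit 5, nat_lit 3, nat_lit 6, nat_lit 1])))))))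
 (.node (nat_lit 0x45a3c2a18f56cac) (.node (nat_lit 0x459423d047740e8) (.node (nat_lit 0x45930d2e7324a60) (.node (nat_lit 0x45925300a6d67c8) (.leaf ((nat_lit 0), [nat_lit 1, nat_lit 7, nat_lit 6, nat_lit 4, nat_lit 3, nat_lit 6, nat_lit 5, nat_lit 4, nat_lit 0])) (.leaf ((nat_lit 3), [nat_lit 6, nat_lit 9, nat_lit 5, nat_lit 3, nat_lit 1, nat_lit 9, nat_lit 5, nat_lit 6, nat_lit 8, nat_lit 2, nat_lit 4, nat_lit 7, nat_lit 6, nat_lit 5, nat_lit 6, nat_lit 4, nat_lit 0]))) (.node (nat_lit 0x45930d3688d853c) (.leaf ((nat_lit 3), [nat_lit 2, nat_lit 2, nat_lit 9, nat_lit 0, nat_lit 9, nat_lit 3, nat_lit 7, nat_lit 5, nat_lit 8, nat_lit 7, nat_lit 5, nat_lit 6, nat_lit 7, nat_lit 3, nat_lit 3, nat_lit 6, nat_lit 5])) (.node (nat_lit 0x45930d3c1ab9f18) (.leaf ((nat_lit 3), [nat_lit 0, nat_lit 7, nat_lit 0, nat_lit 9, nat_lit 1, nat_lit 9, nat_lit 6, nat_lit 2, nat_lit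 8, nat_lit 6, nat_lit 5, nat_lit 0, nat_lit 7, nat_lit 3, nat_lit 6])) (.leaf ((nat_lit 3), [nat_lit 9, nat_lit 7, nat_lit 5, nat_lit 0, nat_lit 9, nat_lit 8, nat_lit 7, nat_lit 0, nat_lit 8, nat_lit 5, nat_lit 0, nat_lit 7, nat_lit 3, nat_lit 4, nat_lit 6])))))
 (.node (nat_lit 0x459a511d35d71d8) (.node (nat_lit 0x45959854a861bf0) (.leaf ((nat_lit 1), [nat_lit 2, nat_lit 2, nat_lit 9, nat_lit 0, nat_lit 9, nat_lit 8, nat_lit 4, nat_lit 0, nat_lit 7, nat_lit 5, nat_lit 3, nat_lit 6, nat_lit 5, nat_lit 3, nat_lit 4, nat_lit 3, nat_lit 1])) (.leaf ((nat_lit 0), [nat_lit 4, nat_lit 7, nat_lit 8, nat_lit 3, nat_lit 6, nat_lit 1, nat_lit 7, nat_lit 6, nat_lit 3, nat_lit 3, nat_lit 6, nat_lit 3]))) (.node (nat_lit 0x459bc4b3b68986c) (.leaf ((nat_lit 1), [nat_lit 7, nat_lit 9, nat_lit 2, nat_lit 1, nat_lit 9, nat_lit 8, nat_lit 0, nat_lit 8, nat_lit 5, nat_lit 7, nat_lit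 6, nat_lit 4, nat_lit 2, nat_lit 6, nat_lit 4, nat_lit 2])) (.node (nat_lit 0x45a36562dd5f89c) (.leaf ((nat_lit 1), [nat_lit 2, nat_lit 7, nat_lit 9, nat_lit 5, nat_lit 9, nat_lit 5, nat_lit 0, nat_lit 7, nat_lit 3, nat_lit 3, nat_lit 3, nat_lit 6, nat_lit 4, nat_lit 3, nat_lit 3])) (.leaf ((nat_lit 0), [nat_lit 8, nat_lit 0, nat_lit 7, nat_lit 8, nat_lit 6, nat_lit 1, nat_lit 7, nat_lit 5, nat_lit 2, nat_lit 2]))))))
 (.node (nat_lit 0x45a64dd7c219f00) (.node (nat_lit 0x45a3c2af36d9b10) (.node (nat_lit 0x45a3c2a9a511ef8) (.leaf ((nat_lit 6), [nat_lit 4, nat_lit 7, nat_lit 1, nat_lit 9, nat_lit 7, nat_lit 8, nat_lit 0, nat_lit 8, nat_lit 4, nat_lit 0, nat_lit 7, nat_lit 6, nat_lit 4, nat_lit 0])) (.leaf ((nat_lit 6), [nat_lit 4, nat_lit 8, nat_lit 1, nat_lit 9, nat_lit 0, nat_lit 8, nat_lit 6, nat_lit 1, nat_lit 7, nat_lit 6, nat_lit 3, nat_lit 4, nat_lit 6])))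 (.node (nat_lit 0x45a4d9510b3407c) (.leaf ((nat_lit 6), [nat_lit 0, nat_lit 7, nat_lit 9, nat_lit 4, nat_lit 8, nat_lit 1, nat_lit 8, nat_lit 7, nat_lit 5, nat_lit 1, nat_lit 7, nat_lit 3, nat_lit 4, nat_lit 3, nat_lit 3, nat_lit 0])) (.node (nat_lit 0x45a5f0c542d2744) (.leaf ((nat_lit 3), [nat_lit 2, nat_lit 2, nat_lit 9, nat_lit 1, nat_lit 9, nat_lit 8, nat_lit 5, nat_lit 0, nat_lit 8, nat_lit 6, nat_lit 7, nat_lit 3, nat_lit 6, nat_lit 5, nat_lit 4, nat_lit 0])) (.leaf ((nat_lit 2), [nat_lit 0, nat_lit 9, nat_lit 1, nat_lit 9, nat_lit 5, nat_lit 8, nat_lit 5, nat_lit 7, nat_lit 3, nat_lit 3, nat_lit 6, nat_lit 3])))))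
 (.node (nat_lit 0x45a992a338287e4) (.node (nat_lit 0x45a7642c830e254) (.leaf ((nat_lit 2), [nat_lit 7, nat_lit 2, nat_lit 9, nat_lit 1, nat_lit 9, nat_lit 7, nat_lit 5, nat_lit 0, nat_lit 8, nat_lit 3, nat_lit 4, nat_lit 7, nat_lit 6, nat_lit 5, nat_lit 2])) (.leaf ((nat_lit 0), [nat_lit 0, nat_lit 8, nat_lit 7, nat_lit 5, nat_lit 6, nat_lit 7, nat_lit 6, nat_lit 5, nat_lit 3, nat_lit 6, nat_lit 1]))) (.node (nat_lit 0x45b01bec58cfb10) (.leaf ((nat_lit 1), [nat_lit 2, nat_lit 9, nat_lit 3, nat_lit 5, nat_lit 9, nat_lit 3, nat_lit 5, nat_lit 6, nat_lit 8, nat_lit 1, nat_lit 7, nat_lit 6, nat_lit 2, nat_lit 4])) (.node (nat_lit 0x45b1335e687fd1c) (.leaf ((nat_lit 0), [nat_lit 8, nat_lit 1, nat_lit 8, nat_lit 3, nat_lit 6, nat_lit 7, nat_lit 3, nat_lit 6, nat_lit 5, nat_lit 2, nat_lit 4, nat_lit 0])) (.leaf ((nat_lit 1), [nat_lit 2, nat_lit 7, nat_lit 9, nat_lit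 5, nat_lit 9, nat_lit 1, nat_lit 8, nat_lit 7, nat_lit 1, nat_lit 8, nat_lit 5, nat_lit 6, nat_lit 7, nat_lit 6, nat_lit 4, nat_lit 2, nat_lit 0])))))))))
 (.node (nat_lit 0x53e45566e15a72c) (.node (nat_lit 0x53c2ea192c6d75c) (.node (nat_lit 0x53b405a6bd48b7c) (.node (nat_lit 0x45b649371f4446c) (.node (nat_lit 0x45b3612b83530cc) (.node (nat_lit 0x45b36125f183d44) (.leaf ((nat_lit 2), [nat_lit 6, nat_lit 9, nat_lit 5, nat_lit 9, nat_lit 4, nat_lit 7, nat_lit 6, nat_lit 8, nat_lit 5, nat_lit 6, nat_lit 7, nat_lit 3, nat_lit 4, nat_lit 6, nat_lit 4, nat_lit 0])) (.leaf ((nat_lit 2), [nat_lit 0, nat_lit 8, nat_lit 7, nat_lit 1, nat_lit 8, nat_lit 6, nat_lit 3, nat_lit 4, nat_lit 7, nat_lit 6, nat_lit 2, nat_lit 4, nat_lit 6, nat_lit 2, nat_lit 4, nat_lit 3]))) (.node (nat_lit 0x45b4785e82ef8a4) (.leaf ((nat_lit 2), [nat_lit 3, nat_lit 7, nat_lit 0, nat_lit 8, nat_lit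 3, nat_lit 4, nat_lit 7, nat_lit 6, nat_lit 5, nat_lit 3, nat_lit 4, nat_lit 3, nat_lit 3, nat_lit 0])) (.node (nat_lit 0x45b58eb39febc5c) (.leaf ((nat_lit 2), [nat_lit 1, nat_lit 9, nat_lit 0, nat_lit 9, nat_lit 1, nat_lit 8, nat_lit 1, nat_lit 8, nat_lit 7, nat_lit 3, nat_lit 4, nat_lit 7, nat_lit 4, nat_lit 3, nat_lit 6, nat_lit 2, nat_lit 2])) (.leaf ((nat_lit 1), [nat_lit 2, nat_lit 9, nat_lit 3, nat_lit 5, nat_lit 9, nat_lit 5, nat_lit 8, nat_lit 5, nat_lit 8, nat_lit 3, nat_lit 6, nat_lit 7, nat_lit 3, nat_lit 6, nat_lit 5, nat_lit 3, nat_lit 4])))))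
 (.node (nat_lit 0x53b0074a26038a0) (.node (nat_lit 0x45b75fb366f8cc0) (.leaf ((nat_lit 0), [nat_lit 5, nat_lit 7, nat_lit 6, nat_lit 8, nat_lit 6, nat_lit 7, nat_lit 6, nat_lit 3])) (.leaf ((nat_lit 3), [nat_lit 0, nat_lit 7, nat_lit 0, nat_lit 9, nat_lit 1, nat_lit 9, nat_lit 1, nat_lit 8, nat_lit 6, nat_lit 3, nat_lit 4, nat_lit 6, nat_lit 2, nat_lit 4, nat_lit 3, nat_lit 1]))) (.node (nat_lit 0x53b063ac08f4af0) (.leaf ((nat_lit 0), [nat_lit 3, nat_lit 9, nat_lit 6, nat_lit 3, nat_lit 1, nat_lit 9, nat_lit 8, nat_lit 2, nat_lit 6, nat_lit 0, nat_lit 8, nat_lit 6, nat_lit 5, nat_lit 1, nat_lit 7, nat_lit 2, nat_lit 2, nat_lit 6, nat_lit 4])) (.node (nat_lit 0x53b34c3033374cc) (.leaf ((nat_lit 5), [nat_lit 9, nat_lit 2, nat_lit 1, nat_lit 9, nat_lit 4, nat_lit 6, nat_lit 8, nat_lit 4, nat_lit 7, nat_lit 4, nat_lit 2, nat_lit 2, nat_lit 6, nat_lit 4, nat_lit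 2])) (.leaf ((nat_lit 0), [nat_lit 0, nat_lit 7, nat_lit 0, nat_lit 9, nat_lit 1, nat_lit 9, nat_lit 0, nat_lit 8, nat_lit 6, nat_lit 1, nat_lit 8, nat_lit 5, nat_lit 4, nat_lit 7, nat_lit 2, nat_lit 4, nat_lit 6, nat_lit 3]))))))
 (.node (nat_lit 0x53b91b63c8ec99c) (.node (nat_lit 0x53b51cc5cbee640) (.node (nat_lit 0x53b462cdb7ffc8c) (.leaf ((nat_lit 0), [nat_lit 9, nat_lit 4, nat_lit 6, nat_lit 9, nat_lit 8, nat_lit 2, nat_lit 1, nat_lit 8, nat_lit 3, nat_lit 4, nat_lit 7, nat_lit 5, nat_lit 6, nat_lit 3])) (.leaf ((nat_lit 0), [nat_lit 2, nat_lit 7, nat_lit 9, nat_lit 5, nat_lit 9, nat_lit 2, nat_lit 1, nat_lit 8, nat_lit 7, nat_lit 6, nat_lit 3, nat_lit 4, nat_lit 6, nat_lit 2, nat_lit 4, nat_lit 0]))) (.node (nat_lit 0x53b804f04edb1ac) (.leaf ((nat_lit 0), [nat_lit 3, nat_lit 9, nat_lit 6, nat_lit 3, nat_lit 1, nat_lit 9, nat_lit 8, nat_lit 6, nat_lit 3,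 nat_lit 1, nat_lit 8, nat_lit 5, nat_lit 1, nat_lit 7, nat_lit 2, nat_lit 4, nat_lit 6, nat_lit 5])) (.node (nat_lit 0x53b8bec10a48bac) (.leaf ((nat_lit 0), [nat_lit 9, nat_lit 2, nat_lit 1, nat_lit 9, nat_lit 1, nat_lit 7, nat_lit 8, nat_lit 6, nat_lit 2, nat_lit 4, nat_lit 7, nat_lit 3, nat_lit 4, nat_lit 6, nat_lit 5, nat_lit 2, nat_lit 1])) (.leaf ((nat_lit 0), [nat_lit 9, nat_lit 2, nat_lit 1, nat_lit 9, nat_lit 7, nat_lit 8, nat_lit 3, nat_lit 6, nat_lit 7, nat_lit 3, nat_lit 4, nat_lit 3, nat_lit 3, nat_lit 6, nat_lit 3, nat_lit 4, nat_lit 0])))))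
 (.node (nat_lit 0x53bf48b89f050ec) (.node (nat_lit 0x53beeb99ba6da4c) (.leaf ((nat_lit 0), [nat_lit 9, nat_lit 4, nat_lit 6, nat_lit 9, nat_lit 0, nat_lit 8, nat_lit 5, nat_lit 7, nat_lit 4, nat_lit 2, nat_lit 2, nat_lit 6, nat_lit 5, nat_lit 2, nat_lit 2])) (.leaf ((nat_lit 0), [nat_lit 3, nat_lit 9, nat_lit 6, nat_lit 3, nat_lit 1, nat_lit 9, nat_lit 6, nat_lit 8, nat_lit 1, nat_lit 8, nat_lit 6, nat_lit 0, nat_lit 7, nat_lit 2, nat_lit 4, nat_lit 6, nat_lit 4, nat_lit 3]))) (.node (nat_lit 0x53c1d38305bfb00) (.leaf ((nat_lit 0), [nat_lit 9, nat_lit 2, nat_lit 6, nat_lit 3, nat_lit 9, nat_lit 0, nat_lit 8, nat_lit 6, nat_lit 2, nat_lit 4, nat_lit 7, nat_lit 5, nat_lit 3, nat_lit 6, nat_lit 2, nat_lit 4])) (.node (nat_lit 0x53c2303ebd99930) (.leaf ((nat_lit 0), [nat_lit 5, nat_lit 9, nat_lit 6, nat_lit 3, nat_lit 9, nat_lit 4, nat_lit 7, nat_lit 8, nat_lit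 7, nat_lit 5, nat_lit 6, nat_lit 7, nat_lit 4, nat_lit 2, nat_lit 2])) (.leaf ((nat_lit 0), [nat_lit 8, nat_lit 0, nat_lit 9, nat_lit 1, nat_lit 9, nat_lit 3, nat_lit 8, nat_lit 7, nat_lit 1, nat_lit 8, nat_lit 6, nat_lit 4, nat_lit 2, nat_lit 6, nat_lit 3, nat_lit 3])))))))
 (.node (nat_lit 0x53d28893acdf93c) (.node (nat_lit 0x53cd72d6a15105c) (.node (nat_lit 0x53c6e8fed9480b0) (.node (nat_lit 0x53c401982bbfe4c) (.leaf ((nat_lit 0), [nat_lit 9, nat_lit 4, nat_lit 6, nat_lit 9, nat_lit 4, nat_lit 6, nat_lit 8, nat_lit 3, nat_lit 6, nat_lit 7, nat_lit 4, nat_lit 3, nat_lit 3, nat_lit 6, nat_lit 4, nat_lit 2])) (.leaf ((nat_lit 0), [nat_lit 3, nat_lit 9, nat_lit 6, nat_lit 3, nat_lit 1, nat_lit 9, nat_lit 7, nat_lit 2, nat_lit 6, nat_lit 5, nat_lit 3, nat_lit 4, nat_lit 3, nat_lit 1]))) (.node (nat_lit 0x53c7a38c684826c) (.leaf ((nat_lit 0), [nat_lit 9, nat_lit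 6, nat_lit 4, nat_lit 9, nat_lit 2, nat_lit 6, nat_lit 1, nat_lit 8, nat_lit 7, nat_lit 3, nat_lit 4, nat_lit 7, nat_lit 6, nat_lit 5, nat_lit 4, nat_lit 3])) (.node (nat_lit 0x53c800365712f0c) (.leaf ((nat_lit 0), [nat_lit 2, nat_lit 7, nat_lit 9, nat_lit 5, nat_lit 9, nat_lit 3, nat_lit 6, nat_lit 8, nat_lit 5, nat_lit 7, nat_lit 5, nat_lit 7, nat_lit 6, nat_lit 5, nat_lit 6, nat_lit 3, nat_lit 3])) (.leaf ((nat_lit 0), [nat_lit 5, nat_lit 9, nat_lit 6, nat_lit 3, nat_lit 9, nat_lit 4, nat_lit 7, nat_lit 6, nat_lit 8, nat_lit 5, nat_lit 4, nat_lit 7, nat_lit 4, nat_lit 2, nat_lit 6, nat_lit 5, nat_lit 3, nat_lit 1])))))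
 (.node (nat_lit 0x53d0b7ab9d0413c) (.node (nat_lit 0x53cdd003e5d53ac) (.leaf ((nat_lit 3), [nat_lit 3, nat_lit 7, nat_lit 5, nat_lit 8, nat_lit 6, nat_lit 0, nat_lit 7, nat_lit 4, nat_lit 6, nat_lit 2])) (.leaf ((nat_lit 0), [nat_lit 9, nat_lit 6, nat_lit 8, nat_lit 1, nat_lit 9, nat_lit 2, nat_lit 6, nat_lit 3, nat_lit 8, nat_lit 5, nat_lit 7, nat_lit 2, nat_lit 6, nat_lit 3, nat_lit 3, nat_lit 1]))) (.node (nat_lit 0x53d17238fe1aca0) (.leaf ((nat_lit 0), [nat_lit 9, nat_lit 4, nat_lit 6, nat_lit 9, nat_lit 5, nat_lit 6, nat_lit 8, nat_lit 1, nat_lit 7, nat_lit 2, nat_lit 2, nat_lit 6, nat_lit 4, nat_lit 2])) (.node (nat_lit 0x53d1cef4b655b80) (.leaf ((nat_lit 0), [nat_lit 3, nat_lit 3, nat_lit 9, nat_lit 0, nat_lit 9, nat_lit 7, nat_lit 1, nat_lit 7, nat_lit 8, nat_lit 7, nat_lit 5, nat_lit 7, nat_lit 5, nat_lit 3, nat_lit 6, nat_lit 3, nat_lit 1])) (.leaf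 ((nat_lit 0), [nat_lit 2, nat_lit 7, nat_lit 9, nat_lit 5, nat_lit 9, nat_lit 0, nat_lit 8, nat_lit 7, nat_lit 1, nat_lit 8, nat_lit 7, nat_lit 5, nat_lit 6, nat_lit 5, nat_lit 0]))))))
 (.node (nat_lit 0x53dcb48d8233c40) (.node (nat_lit 0x53d570be8c3faac) (.node (nat_lit 0x53d514218d0c40c) (.leaf ((nat_lit 2), [nat_lit 9, nat_lit 6, nat_lit 8, nat_lit 1, nat_lit 9, nat_lit 7, nat_lit 8, nat_lit 0, nat_lit 8, nat_lit 0, nat_lit 7, nat_lit 4, nat_lit 3, nat_lit 3, nat_lit 3])) (.leaf ((nat_lit 0), [nat_lit 3, nat_lit 3, nat_lit 9, nat_lit 0, nat_lit 9, nat_lit 7, nat_lit 5, nat_lit 0, nat_lit 8, nat_lit 2, nat_lit 2, nat_lit 6, nat_lit 2, nat_lit 1]))) (.node (nat_lit 0x53d62af919c9420) (.leaf ((nat_lit 0), [nat_lit 0, nat_lit 7, nat_lit 0, nat_lit 9, nat_lit 1, nat_lit 9, nat_lit 2, nat_lit 7, nat_lit 6, nat_lit 8, nat_lit 6, nat_lit 5, nat_lit 6, nat_lit 1]))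 (.node (nat_lit 0x53dc573bf2d5170) (.leaf ((nat_lit 0), [nat_lit 0, nat_lit 7, nat_lit 0, nat_lit 9, nat_lit 1, nat_lit 9, nat_lit 3, nat_lit 5, nat_lit 6, nat_lit 8, nat_lit 5, nat_lit 7, nat_lit 5, nat_lit 7, nat_lit 3, nat_lit 6, nat_lit 5, nat_lit 3, nat_lit 1])) (.leaf ((nat_lit 0), [nat_lit 3, nat_lit 9, nat_lit 6, nat_lit 3, nat_lit 1, nat_lit 9, nat_lit 8, nat_lit 2, nat_lit 6, nat_lit 0, nat_lit 8, nat_lit 5, nat_lit 7, nat_lit 6, nat_lit 1])))))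
 (.node (nat_lit 0x53dff9a18da82ac) (.node (nat_lit 0x53dee23b879669c) (.leaf ((nat_lit 5), [nat_lit 9, nat_lit 6, nat_lit 4, nat_lit 9, nat_lit 3, nat_lit 7, nat_lit 8, nat_lit 6, nat_lit 5, nat_lit 6, nat_lit 7, nat_lit 6, nat_lit 2, nat_lit 2, nat_lit 6, nat_lit 3, nat_lit 1])) (.leaf ((nat_lit 0), [nat_lit 6, nat_lit 9, nat_lit 2, nat_lit 1, nat_lit 9, nat_lit 5, nat_lit 7, nat_lit 6, nat_lit 8, nat_lit 5, nat_lit 7, nat_lit 3, nat_lit 3, nat_lit 3, nat_lit 6, nat_lit 5, nat_lit 2]))) (.node (nat_lit 0x53e0565d45e318c) (.leaf ((nat_lit 0), [nat_lit 0, nat_lit 7, nat_lit 0, nat_lit 9, nat_lit 1, nat_lit 9, nat_lit 5, nat_lit 8, nat_lit 0, nat_lit 8, nat_lit 5, nat_lit 2, nat_lit 0])) (.node (nat_lit 0x53e16cf8d06fc30) (.leaf ((nat_lit 0), [nat_lit 9, nat_lit 6, nat_lit 4, nat_lit 9, nat_lit 6, nat_lit 2, nat_lit 1, nat_lit 8, nat_lit 5, nat_lit 0, nat_lit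 7, nat_lit 5, nat_lit 2, nat_lit 4, nat_lit 2, nat_lit 0])) (.leaf ((nat_lit 0), [nat_lit 3, nat_lit 9, nat_lit 6, nat_lit 3, nat_lit 1, nat_lit 9, nat_lit 7, nat_lit 5, nat_lit 7, nat_lit 3, nat_lit 3, nat_lit 3, nat_lit 6, nat_lit 5, nat_lit 3]))))))))
 (.node (nat_lit 0x5402d8290e966c0) (.node (nat_lit 0x53f396acbfefa4c) (.node (nat_lit 0x53ee243903fd620) (.node (nat_lit 0x53e56c5b5b3840c) (.node (nat_lit 0x53e4b2209fa55cc) (.leaf ((nat_lit 0), [nat_lit 8, nat_lit 0, nat_lit 9, nat_lit 1, nat_lit 9, nat_lit 8, nat_lit 2, nat_lit 6, nat_lit 3, nat_lit 8, nat_lit 2, nat_lit 4, nat_lit 7, nat_lit 4, nat_lit 1])) (.leaf ((nat_lit 0), [nat_lit 3, nat_lit 3, nat_lit 9, nat_lit 0, nat_lit 9, nat_lit 7, nat_lit 1, nat_lit 7, nat_lit 8, nat_lit 4, nat_lit 1, nat_lit 7, nat_lit 2, nat_lit 6, nat_lit 4, nat_lit 3]))) (.node (nat_lit 0x53eb3c4fb8ab56c) (.leaf ((nat_lit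 0), [nat_lit 8, nat_lit 0, nat_lit 9, nat_lit 1, nat_lit 9, nat_lit 3, nat_lit 0, nat_lit 8, nat_lit 3, nat_lit 6, nat_lit 7, nat_lit 2, nat_lit 6, nat_lit 5, nat_lit 3, nat_lit 3])) (.node (nat_lit 0x53eb98d5e676f3c) (.leaf ((nat_lit 0), [nat_lit 3, nat_lit 9, nat_lit 6, nat_lit 3, nat_lit 1, nat_lit 9, nat_lit 3, nat_lit 7, nat_lit 8, nat_lit 7, nat_lit 3, nat_lit 4, nat_lit 6, nat_lit 3, nat_lit 3, nat_lit 1])) (.leaf ((nat_lit 0), [nat_lit 9, nat_lit 2, nat_lit 6, nat_lit 3, nat_lit 9, nat_lit 2, nat_lit 5, nat_lit 8, nat_lit 4, nat_lit 6, nat_lit 5, nat_lit 0])))))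
 (.node (nat_lit 0x53ef97f7c395d6c) (.node (nat_lit 0x53ef3aacac02d9c) (.leaf ((nat_lit 0), [nat_lit 3, nat_lit 3, nat_lit 9, nat_lit 0, nat_lit 9, nat_lit 5, nat_lit 0, nat_lit 8, nat_lit 7, nat_lit 5, nat_lit 7, nat_lit 4, nat_lit 2, nat_lit 6, nat_lit 5, nat_lit 4, nat_lit 0])) (.leaf ((nat_lit 0), [nat_lit 9, nat_lit 2, nat_lit 1, nat_lit 9, nat_lit 4, nat_lit 7, nat_lit 8, nat_lit 5, nat_lit 7, nat_lit 2, nat_lit 2, nat_lit 6, nat_lit 4, nat_lit 3, nat_lit 3]))) (.node (nat_lit 0x53f051cb30a24ec) (.leaf ((nat_lit 0), [nat_lit 9, nat_lit 6, nat_lit 4, nat_lit 9, nat_lit 8, nat_lit 5, nat_lit 7, nat_lit 8, nat_lit 7, nat_lit 2, nat_lit 4, nat_lit 7, nat_lit 5, nat_lit 6, nat_lit 5, nat_lit 3, nat_lit 3])) (.node (nat_lit 0x53f2dcf8f1ad4e0) (.leaf ((nat_lit 0), [nat_lit 3, nat_lit 9, nat_lit 6, nat_lit 3, nat_lit 1, nat_lit 9, nat_lit 8, nat_lit 5, nat_lit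 0, nat_lit 8, nat_lit 0, nat_lit 7, nat_lit 4, nat_lit 3, nat_lit 6, nat_lit 5])) (.leaf ((nat_lit 0), [nat_lit 9, nat_lit 4, nat_lit 6, nat_lit 9, nat_lit 6, nat_lit 3, nat_lit 8, nat_lit 6, nat_lit 0, nat_lit 7, nat_lit 5, nat_lit 4, nat_lit 1]))))))
 (.node (nat_lit 0x53fd08317507e7c) (.node (nat_lit 0x53f9c38c9fefc2c) (.node (nat_lit 0x53f3f36c99a81bc) (.leaf ((nat_lit 0), [nat_lit 6, nat_lit 9, nat_lit 2, nat_lit 1, nat_lit 9, nat_lit 8, nat_lit 5, nat_lit 0, nat_lit 8, nat_lit 3, nat_lit 6, nat_lit 1, nat_lit 7, nat_lit 6, nat_lit 2, nat_lit 4])) (.leaf ((nat_lit 0), [nat_lit 9, nat_lit 2, nat_lit 1, nat_lit 9, nat_lit 1, nat_lit 7, nat_lit 8, nat_lit 3, nat_lit 6, nat_lit 7, nat_lit 4, nat_lit 6, nat_lit 2, nat_lit 1]))) (.node (nat_lit 0x53fa20e55eb344c) (.leaf ((nat_lit 3), [nat_lit 8, nat_lit 6, nat_lit 3, nat_lit 8, nat_lit 6, nat_lit 3, nat_lit 3,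 nat_lit 6, nat_lit 4, nat_lit 3, nat_lit 1])) (.node (nat_lit 0x53fcab75bd2e04c) (.leaf ((nat_lit 0), [nat_lit 9, nat_lit 6, nat_lit 8, nat_lit 1, nat_lit 9, nat_lit 8, nat_lit 5, nat_lit 7, nat_lit 8, nat_lit 3, nat_lit 3, nat_lit 3, nat_lit 6, nat_lit 5, nat_lit 4, nat_lit 3, nat_lit 3, nat_lit 3])) (.leaf ((nat_lit 0), [nat_lit 9, nat_lit 6, nat_lit 4, nat_lit 9, nat_lit 5, nat_lit 6, nat_lit 8, nat_lit 7, nat_lit 0, nat_lit 7, nat_lit 4, nat_lit 2, nat_lit 6, nat_lit 4, nat_lit 1])))))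
 (.node (nat_lit 0x53fed98ae32e22c) (.node (nat_lit 0x53fe1f42adfd1f0) (.leaf ((nat_lit 0), [nat_lit 0, nat_lit 7, nat_lit 0, nat_lit 9, nat_lit 1, nat_lit 9, nat_lit 8, nat_lit 6, nat_lit 2, nat_lit 8, nat_lit 0, nat_lit 7, nat_lit 6, nat_lit 4, nat_lit 2, nat_lit 1])) (.leaf ((nat_lit 0), [nat_lit 9, nat_lit 2, nat_lit 1, nat_lit 9, nat_lit 1, nat_lit 7, nat_lit 5, nat_lit 8, nat_lit 1, nat_lit 7, nat_lit 5, nat_lit 6, nat_lit 5, nat_lit 3, nat_lit 3]))) (.node (nat_lit 0x5401c0f162c27dc) (.leaf ((nat_lit 2), [nat_lit 3, nat_lit 3, nat_lit 9, nat_lit 0, nat_lit 9, nat_lit 8, nat_lit 5, nat_lit 6, nat_lit 7, nat_lit 3, nat_lit 4, nat_lit 6, nat_lit 2, nat_lit 4])) (.node (nat_lit 0x54027b779408aa0) (.leaf ((nat_lit 0), [nat_lit 2, nat_lit 7, nat_lit 9, nat_lit 5, nat_lit 9, nat_lit 3, nat_lit 1, nat_lit 8, nat_lit 1, nat_lit 7, nat_lit 6, nat_lit 5, nat_lit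 2])) (.leaf ((nat_lit 0), [nat_lit 9, nat_lit 6, nat_lit 4, nat_lit 9, nat_lit 3, nat_lit 8, nat_lit 0, nat_lit 7, nat_lit 6, nat_lit 5, nat_lit 4, nat_lit 3, nat_lit 3, nat_lit 3])))))))
 (.node (nat_lit 0x54172f44679397c) (.node (nat_lit 0x540ca68e2275e7c) (.node (nat_lit 0x5408a830a537fe0) (.node (nat_lit 0x54084af4d38a880) (.leaf ((nat_lit 0), [nat_lit 2, nat_lit 7, nat_lit 9, nat_lit 5, nat_lit 9, nat_lit 3, nat_lit 5, nat_lit 8, nat_lit 7, nat_lit 5, nat_lit 7, nat_lit 3, nat_lit 6, nat_lit 3, nat_lit 4, nat_lit 3, nat_lit 1])) (.leaf ((nat_lit 0), [nat_lit 3, nat_lit 9, nat_lit 6, nat_lit 3, nat_lit 1, nat_lit 9, nat_lit 1, nat_lit 8, nat_lit 6, nat_lit 1, nat_lit 8, nat_lit 4, nat_lit 1, nat_lit 7, nat_lit 6, nat_lit 4, nat_lit 3, nat_lit 6, nat_lit 1]))) (.node (nat_lit 0x540b8fdb0ebcd6c) (.leaf ((nat_lit 5), [nat_lit 3, nat_lit 3, nat_lit 9, nat_lit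 0, nat_lit 9, nat_lit 0, nat_lit 7, nat_lit 8, nat_lit 6, nat_lit 3, nat_lit 4, nat_lit 7, nat_lit 5, nat_lit 2])) (.node (nat_lit 0x540bec96c696b9c) (.leaf ((nat_lit 0), [nat_lit 2, nat_lit 7, nat_lit 9, nat_lit 5, nat_lit 9, nat_lit 2, nat_lit 7, nat_lit 6, nat_lit 8, nat_lit 3, nat_lit 4, nat_lit 7, nat_lit 6, nat_lit 3, nat_lit 3, nat_lit 6, nat_lit 3, nat_lit 1])) (.leaf ((nat_lit 0), [nat_lit 3, nat_lit 3, nat_lit 9, nat_lit 0, nat_lit 9, nat_lit 8, nat_lit 2, nat_lit 6, nat_lit 3, nat_lit 8, nat_lit 6, nat_lit 5, nat_lit 6, nat_lit 4, nat_lit 2, nat_lit 0])))))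
 (.node (nat_lit 0x540f8ea1786957c) (.node (nat_lit 0x540d6134aac12e0) (.leaf ((nat_lit 0), [nat_lit 6, nat_lit 9, nat_lit 2, nat_lit 1, nat_lit 9, nat_lit 7, nat_lit 8, nat_lit 1, nat_lit 7, nat_lit 4, nat_lit 3, nat_lit 3, nat_lit 6, nat_lit 3, nat_lit 4, nat_lit 0])) (.leaf ((nat_lit 0), [nat_lit 3, nat_lit 9, nat_lit 6, nat_lit 3, nat_lit 1, nat_lit 9, nat_lit 8, nat_lit 7, nat_lit 1, nat_lit 7, nat_lit 4, nat_lit 2, nat_lit 2, nat_lit 6, nat_lit 2, nat_lit 2, nat_lit 0]))) (.node (nat_lit 0x5410a607ac8ef8c) (.leaf ((nat_lit 0), [nat_lit 5, nat_lit 9, nat_lit 6, nat_lit 3, nat_lit 9, nat_lit 5, nat_lit 8, nat_lit 1, nat_lit 8, nat_lit 5, nat_lit 0, nat_lit 7, nat_lit 3, nat_lit 6, nat_lit 5, nat_lit 2, nat_lit 2])) (.node (nat_lit 0x541102d61432c6c) (.leaf ((nat_lit 0), [nat_lit 5, nat_lit 9, nat_lit 6, nat_lit 3, nat_lit 9, nat_lit 4, nat_lit 3, nat_lit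 8, nat_lit 4, nat_lit 7, nat_lit 3, nat_lit 3, nat_lit 6, nat_lit 5, nat_lit 1])) (.leaf ((nat_lit 0), [nat_lit 9, nat_lit 6, nat_lit 4, nat_lit 9, nat_lit 5, nat_lit 7, nat_lit 0, nat_lit 8, nat_lit 5, nat_lit 1, nat_lit 7, nat_lit 4, nat_lit 2, nat_lit 6, nat_lit 5, nat_lit 2, nat_lit 1]))))))
 (.node (nat_lit 0x541c4542d92689c) (.node (nat_lit 0x541a7420c1204f0) (.node (nat_lit 0x54178c7909dc38c) (.leaf ((nat_lit 0), [nat_lit 3, nat_lit 9, nat_lit 6, nat_lit 3, nat_lit 1, nat_lit 9, nat_lit 3, nat_lit 7, nat_lit 8, nat_lit 6, nat_lit 7, nat_lit 2, nat_lit 4, nat_lit 6, nat_lit 4])) (.leaf ((nat_lit 0), [nat_lit 9, nat_lit 2, nat_lit 6, nat_lit 3, nat_lit 9, nat_lit 6, nat_lit 0, nat_lit 8, nat_lit 7, nat_lit 1, nat_lit 7, nat_lit 5, nat_lit 0]))) (.node (nat_lit 0x541b2ea6c4681cc) (.leaf ((nat_lit 0), [nat_lit 9, nat_lit 2, nat_lit 1, nat_lit 9, nat_lit 4,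 nat_lit 7, nat_lit 6, nat_lit 8, nat_lit 6, nat_lit 7, nat_lit 6, nat_lit 5, nat_lit 2, nat_lit 4, nat_lit 2])) (.node (nat_lit 0x541b8b627ca30ac) (.leaf ((nat_lit 0), [nat_lit 8, nat_lit 0, nat_lit 9, nat_lit 1, nat_lit 9, nat_lit 3, nat_lit 6, nat_lit 3, nat_lit 8, nat_lit 5, nat_lit 7, nat_lit 5, nat_lit 6, nat_lit 2, nat_lit 0])) (.leaf ((nat_lit 0), [nat_lit 5, nat_lit 9, nat_lit 6, nat_lit 3, nat_lit 9, nat_lit 4, nat_lit 7, nat_lit 6, nat_lit 8, nat_lit 7, nat_lit 5, nat_lit 7, nat_lit 6, nat_lit 3, nat_lit 4, nat_lit 6, nat_lit 4])))))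
 (.node (nat_lit 0x541f2d6d8a7d540) (.node (nat_lit 0x541ed096df1c5e0) (.leaf ((nat_lit 0), [nat_lit 3, nat_lit 9, nat_lit 6, nat_lit 3, nat_lit 1, nat_lit 9, nat_lit 6, nat_lit 8, nat_lit 0, nat_lit 8, nat_lit 6, nat_lit 3, nat_lit 4, nat_lit 6, nat_lit 5, nat_lit 3, nat_lit 3, nat_lit 0])) (.leaf ((nat_lit 0), [nat_lit 0, nat_lit 7, nat_lit 0, nat_lit 9, nat_lit 1, nat_lit 9, nat_lit 8, nat_lit 6, nat_lit 2, nat_lit 8, nat_lit 6, nat_lit 2, nat_lit 4, nat_lit 7, nat_lit 4, nat_lit 6, nat_lit 5]))) (.node (nat_lit 0x542044a535e5bac) (.leaf ((nat_lit 0), [nat_lit 8, nat_lit 0, nat_lit 9, nat_lit 1, nat_lit 9, nat_lit 8, nat_lit 6, nat_lit 2, nat_lit 8, nat_lit 7, nat_lit 5, nat_lit 1, nat_lit 7, nat_lit 2, nat_lit 1])) (.node (nat_lit 0x5425b745804428c) (.leaf ((nat_lit 0), [nat_lit 3, nat_lit 3, nat_lit 9, nat_lit 0, nat_lit 9, nat_lit 8, nat_lit 7, nat_lit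 8, nat_lit 5, nat_lit 8, nat_lit 3, nat_lit 6, nat_lit 1, nat_lit 7, nat_lit 6, nat_lit 3, nat_lit 1])) (.leaf ((nat_lit 3), [nat_lit 7, nat_lit 5, nat_lit 0, nat_lit 8, nat_lit 4, nat_lit 0, nat_lit 7, nat_lit 2, nat_lit 6, nat_lit 5, nat_lit 2, nat_lit 0])))))))))))
 (.node (nat_lit 0x5526ed7a1c57da4) (.node (nat_lit 0x54a0d9caafae71c) (.node (nat_lit 0x5466019d940db70) (.node (nat_lit 0x5445adc9d6912f0) (.node (nat_lit 0x5436c9593368a9c) (.node (nat_lit 0x542acd028c1368c) (.node (nat_lit 0x542958a583a62b0) (.node (nat_lit 0x54289f2ecb80f6c) (.leaf ((nat_lit 0), [nat_lit 9, nat_lit 6, nat_lit 8, nat_lit 1, nat_lit 9, nat_lit 4, nat_lit 6, nat_lit 8, nat_lit 5, nat_lit 6, nat_lit 7, nat_lit 4, nat_lit 3, nat_lit 6, nat_lit 4, nat_lit 2])) (.leaf ((nat_lit 0), [nat_lit 8, nat_lit 0, nat_lit 9, nat_lit 1, nat_lit 9, nat_lit 6, nat_lit 2, nat_lit 8, nat_lit 6,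 nat_lit 1, nat_lit 7, nat_lit 2, nat_lit 4, nat_lit 6, nat_lit 3, nat_lit 4, nat_lit 3]))) (.node (nat_lit 0x5429b5e93d74bc0) (.leaf ((nat_lit 0), [nat_lit 6, nat_lit 9, nat_lit 2, nat_lit 1, nat_lit 9, nat_lit 7, nat_lit 8, nat_lit 5, nat_lit 7, nat_lit 2, nat_lit 2, nat_lit 6, nat_lit 5, nat_lit 4, nat_lit 2, nat_lit 2])) (.leaf ((nat_lit 0), [nat_lit 5, nat_lit 9, nat_lit 6, nat_lit 3, nat_lit 9, nat_lit 0, nat_lit 8, nat_lit 6, nat_lit 1, nat_lit 8, nat_lit 3, nat_lit 6, nat_lit 7, nat_lit 5, nat_lit 3, nat_lit 6, nat_lit 4]))))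
 (.node (nat_lit 0x542e6ed9ad9c500) (.node (nat_lit 0x542d58304d2928c) (.leaf ((nat_lit 2), [nat_lit 5, nat_lit 9, nat_lit 6, nat_lit 3, nat_lit 9, nat_lit 7, nat_lit 5, nat_lit 8, nat_lit 0, nat_lit 7, nat_lit 5, nat_lit 3, nat_lit 6, nat_lit 3, nat_lit 3, nat_lit 3])) (.leaf ((nat_lit 0), [nat_lit 6, nat_lit 9, nat_lit 2, nat_lit 1, nat_lit 9, nat_lit 7, nat_lit 2, nat_lit 1, nat_lit 8, nat_lit 6, nat_lit 1, nat_lit 7, nat_lit 6, nat_lit 3, nat_lit 4, nat_lit 6, nat_lit 5]))) (.node (nat_lit 0x542ecba0e519330) (.leaf ((nat_lit 0), [nat_lit 9, nat_lit 4, nat_lit 6, nat_lit 9, nat_lit 4, nat_lit 0, nat_lit 7, nat_lit 8, nat_lit 7, nat_lit 5, nat_lit 6, nat_lit 5, nat_lit 4])) (.node (nat_lit 0x5435b2e33576160) (.leaf ((nat_lit 0), [nat_lit 6, nat_lit 9, nat_lit 2, nat_lit 1, nat_lit 9, nat_lit 0, nat_lit 7, nat_lit 8, nat_lit 5, nat_lit 1, nat_lit 7, nat_lit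 2, nat_lit 6, nat_lit 0])) (.leaf ((nat_lit 0), [nat_lit 9, nat_lit 2, nat_lit 6, nat_lit 3, nat_lit 9, nat_lit 2, nat_lit 6, nat_lit 1, nat_lit 8, nat_lit 7, nat_lit 5, nat_lit 6, nat_lit 3, nat_lit 3, nat_lit 0]))))))
 (.node (nat_lit 0x543ac8b8de3da6c) (.node (nat_lit 0x5437e03737e6c7c) (.node (nat_lit 0x543726975b6446c) (.leaf ((nat_lit 0), [nat_lit 9, nat_lit 4, nat_lit 6, nat_lit 9, nat_lit 1, nat_lit 8, nat_lit 1, nat_lit 8, nat_lit 0, nat_lit 7, nat_lit 6, nat_lit 5, nat_lit 2, nat_lit 1])) (.leaf ((nat_lit 0), [nat_lit 3, nat_lit 3, nat_lit 9, nat_lit 0, nat_lit 9, nat_lit 2, nat_lit 2, nat_lit 8, nat_lit 2, nat_lit 4, nat_lit 3, nat_lit 6, nat_lit 3, nat_lit 4, nat_lit 3, nat_lit 0]))) (.node (nat_lit 0x5439b1804cdc840) (.leaf ((nat_lit 0), [nat_lit 9, nat_lit 6, nat_lit 4, nat_lit 9, nat_lit 0, nat_lit 7, nat_lit 8, nat_lit 4, nat_lit 7, nat_lit 4,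 nat_lit 2, nat_lit 6, nat_lit 5, nat_lit 4, nat_lit 3, nat_lit 3, nat_lit 3, nat_lit 1])) (.node (nat_lit 0x543a0e23f1791f0) (.leaf ((nat_lit 0), [nat_lit 3, nat_lit 9, nat_lit 6, nat_lit 3, nat_lit 1, nat_lit 9, nat_lit 7, nat_lit 3, nat_lit 4, nat_lit 7, nat_lit 5, nat_lit 6, nat_lit 5, nat_lit 2, nat_lit 4, nat_lit 1])) (.leaf ((nat_lit 3), [nat_lit 8, nat_lit 7, nat_lit 0, nat_lit 8, nat_lit 1, nat_lit 7, nat_lit 3, nat_lit 3, nat_lit 3, nat_lit 6])))))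
 (.node (nat_lit 0x543db088785f94c) (.node (nat_lit 0x543b255cdf3864c) (.leaf ((nat_lit 0), [nat_lit 9, nat_lit 2, nat_lit 1, nat_lit 9, nat_lit 2, nat_lit 7, nat_lit 8, nat_lit 6, nat_lit 5, nat_lit 6, nat_lit 7, nat_lit 5, nat_lit 4, nat_lit 3, nat_lit 0])) (.leaf ((nat_lit 0), [nat_lit 6, nat_lit 9, nat_lit 2, nat_lit 1, nat_lit 9, nat_lit 5, nat_lit 7, nat_lit 5, nat_lit 8, nat_lit 3, nat_lit 6, nat_lit 7, nat_lit 5, nat_lit 4, nat_lit 3, nat_lit 1]))) (.node (nat_lit 0x54443a16f2ef60c) (.leaf ((nat_lit 0), [nat_lit 6, nat_lit 9, nat_lit 2, nat_lit 1, nat_lit 9, nat_lit 3, nat_lit 7, nat_lit 8, nat_lit 5, nat_lit 6, nat_lit 7, nat_lit 4, nat_lit 6, nat_lit 5, nat_lit 2, nat_lit 4])) (.node (nat_lit 0x544496f163d0c7c) (.leaf ((nat_lit 0), [nat_lit 9, nat_lit 2, nat_lit 6, nat_lit 3, nat_lit 9, nat_lit 2, nat_lit 2, nat_lit 8, nat_lit 3, nat_lit 6, nat_lit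 1, nat_lit 7, nat_lit 6, nat_lit 5, nat_lit 3, nat_lit 6, nat_lit 0])) (.leaf ((nat_lit 5), [nat_lit 9, nat_lit 2, nat_lit 6, nat_lit 3, nat_lit 9, nat_lit 7, nat_lit 5, nat_lit 1, nat_lit 8, nat_lit 5, nat_lit 7, nat_lit 5, nat_lit 7, nat_lit 3, nat_lit 3, nat_lit 6])))))))
 (.node (nat_lit 0x54554c8f70cee80) (.node (nat_lit 0x544a0a2f9b117a0) (.node (nat_lit 0x5448964b7ce824c) (.node (nat_lit 0x5446c543fc0af0c) (.leaf ((nat_lit 0), [nat_lit 9, nat_lit 4, nat_lit 6, nat_lit 9, nat_lit 8, nat_lit 5, nat_lit 7, nat_lit 8, nat_lit 6, nat_lit 7, nat_lit 4, nat_lit 2, nat_lit 6, nat_lit 5])) (.leaf ((nat_lit 0), [nat_lit 5, nat_lit 9, nat_lit 6, nat_lit 3, nat_lit 9, nat_lit 7, nat_lit 2, nat_lit 1, nat_lit 8, nat_lit 4, nat_lit 0, nat_lit 7, nat_lit 2, nat_lit 6, nat_lit 2, nat_lit 1]))) (.node (nat_lit 0x5448f2f651abaac) (.leaf ((nat_lit 0), [nat_lit 9, nat_lit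 6, nat_lit 8, nat_lit 1, nat_lit 9, nat_lit 8, nat_lit 4, nat_lit 6, nat_lit 8, nat_lit 4, nat_lit 2, nat_lit 2, nat_lit 6, nat_lit 4, nat_lit 3, nat_lit 3, nat_lit 0])) (.node (nat_lit 0x5449acbfdce79f0) (.leaf ((nat_lit 0), [nat_lit 9, nat_lit 2, nat_lit 6, nat_lit 3, nat_lit 9, nat_lit 6, nat_lit 5, nat_lit 7, nat_lit 5, nat_lit 3, nat_lit 6, nat_lit 2])) (.leaf ((nat_lit 0), [nat_lit 9, nat_lit 4, nat_lit 6, nat_lit 9, nat_lit 5, nat_lit 6, nat_lit 8, nat_lit 7, nat_lit 5, nat_lit 3, nat_lit 6, nat_lit 2, nat_lit 0])))))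
 (.node (nat_lit 0x54531e6fb0c391c) (.node (nat_lit 0x544c9496d4b8bbc) (.leaf ((nat_lit 0), [nat_lit 9, nat_lit 2, nat_lit 1, nat_lit 9, nat_lit 7, nat_lit 8, nat_lit 3, nat_lit 6, nat_lit 7, nat_lit 2, nat_lit 4, nat_lit 6, nat_lit 5, nat_lit 2, nat_lit 4])) (.leaf ((nat_lit 0), [nat_lit 8, nat_lit 0, nat_lit 9, nat_lit 1, nat_lit 9, nat_lit 6, nat_lit 1, nat_lit 8, nat_lit 5, nat_lit 1, nat_lit 7, nat_lit 6, nat_lit 3, nat_lit 4, nat_lit 3]))) (.node (nat_lit 0x545435d920b9b6c) (.leaf ((nat_lit 2), [nat_lit 9, nat_lit 2, nat_lit 1, nat_lit 9, nat_lit 5, nat_lit 8, nat_lit 3, nat_lit 4, nat_lit 7, nat_lit 4, nat_lit 6, nat_lit 5, nat_lit 0])) (.node (nat_lit 0x545492a6d06354c) (.leaf ((nat_lit 0), [nat_lit 2, nat_lit 7, nat_lit 9, nat_lit 5, nat_lit 9, nat_lit 5, nat_lit 1, nat_lit 8, nat_lit 3, nat_lit 4, nat_lit 7, nat_lit 6, nat_lit 4, nat_lit 2, nat_lit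 6, nat_lit 5, nat_lit 3, nat_lit 1])) (.leaf ((nat_lit 0), [nat_lit 3, nat_lit 3, nat_lit 9, nat_lit 0, nat_lit 9, nat_lit 8, nat_lit 7, nat_lit 1, nat_lit 8, nat_lit 7, nat_lit 4, nat_lit 3, nat_lit 3, nat_lit 6, nat_lit 5, nat_lit 2]))))))
 (.node (nat_lit 0x545b1c5659bc4c0) (.node (nat_lit 0x5458348def6afec) (.node (nat_lit 0x54571db8e64e32c) (.leaf ((nat_lit 0), [nat_lit 2, nat_lit 7, nat_lit 9, nat_lit 5, nat_lit 9, nat_lit 6, nat_lit 8, nat_lit 4, nat_lit 7, nat_lit 4, nat_lit 6, nat_lit 5, nat_lit 2])) (.leaf ((nat_lit 0), [nat_lit 9, nat_lit 2, nat_lit 6, nat_lit 3, nat_lit 9, nat_lit 3, nat_lit 8, nat_lit 0, nat_lit 7, nat_lit 3, nat_lit 3, nat_lit 6, nat_lit 5, nat_lit 2, nat_lit 4, nat_lit 2, nat_lit 0]))) (.node (nat_lit 0x5458912aee3d5dc) (.leaf ((nat_lit 0), [nat_lit 6, nat_lit 9, nat_lit 2, nat_lit 1, nat_lit 9, nat_lit 8, nat_lit 2, nat_lit 6,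 nat_lit 0, nat_lit 8, nat_lit 6, nat_lit 4, nat_lit 2, nat_lit 6, nat_lit 4, nat_lit 1])) (.node (nat_lit 0x545abfbb5478e60) (.leaf ((nat_lit 0), [nat_lit 9, nat_lit 4, nat_lit 6, nat_lit 9, nat_lit 5, nat_lit 0, nat_lit 8, nat_lit 6, nat_lit 7, nat_lit 3, nat_lit 6, nat_lit 3, nat_lit 4])) (.leaf ((nat_lit 0), [nat_lit 2, nat_lit 7, nat_lit 9, nat_lit 5, nat_lit 9, nat_lit 8, nat_lit 5, nat_lit 1, nat_lit 8, nat_lit 2, nat_lit 4, nat_lit 7, nat_lit 2, nat_lit 4, nat_lit 3, nat_lit 6, nat_lit 2, nat_lit 2])))))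
 (.node (nat_lit 0x5462bd66293558c) (.node (nat_lit 0x546202d50247a30) (.leaf ((nat_lit 0), [nat_lit 5, nat_lit 9, nat_lit 6, nat_lit 3, nat_lit 9, nat_lit 8, nat_lit 0, nat_lit 8, nat_lit 3, nat_lit 6, nat_lit 7, nat_lit 5, nat_lit 6, nat_lit 5, nat_lit 3, nat_lit 6, nat_lit 3])) (.leaf ((nat_lit 0), [nat_lit 9, nat_lit 2, nat_lit 6, nat_lit 3, nat_lit 9, nat_lit 8, nat_lit 6, nat_lit 3, nat_lit 1, nat_lit 8, nat_lit 5, nat_lit 4, nat_lit 7, nat_lit 6, nat_lit 1]))) (.node (nat_lit 0x5463770ab1f31cc) (.leaf ((nat_lit 0), [nat_lit 9, nat_lit 2, nat_lit 1, nat_lit 9, nat_lit 7, nat_lit 8, nat_lit 2, nat_lit 4, nat_lit 7, nat_lit 2, nat_lit 4, nat_lit 2, nat_lit 1])) (.node (nat_lit 0x5463d3c669ccffc) (.leaf ((nat_lit 0), [nat_lit 8, nat_lit 0, nat_lit 9, nat_lit 1, nat_lit 9, nat_lit 2, nat_lit 7, nat_lit 8, nat_lit 4, nat_lit 2, nat_lit 6, nat_lit 5, nat_lit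 4, nat_lit 2, nat_lit 1])) (.leaf ((nat_lit 0), [nat_lit 5, nat_lit 9, nat_lit 6, nat_lit 3, nat_lit 9, nat_lit 5, nat_lit 2, nat_lit 8, nat_lit 6, nat_lit 4, nat_lit 3, nat_lit 3, nat_lit 3]))))))))
 (.node (nat_lit 0x54819d553e8cba0) (.node (nat_lit 0x547315d71fa33cc) (.node (nat_lit 0x54708af86bcd6ac) (.node (nat_lit 0x546718d653ce70c) (.node (nat_lit 0x54665f1b27c7ae0) (.leaf ((nat_lit 0), [nat_lit 3, nat_lit 9, nat_lit 6, nat_lit 3, nat_lit 1, nat_lit 9, nat_lit 6, nat_lit 5, nat_lit 8, nat_lit 0, nat_lit 8, nat_lit 6, nat_lit 1, nat_lit 7, nat_lit 4, nat_lit 6, nat_lit 5, nat_lit 4, nat_lit 1])) (.leaf ((nat_lit 3), [nat_lit 3, nat_lit 5, nat_lit 6, nat_lit 8, nat_lit 1, nat_lit 7, nat_lit 4, nat_lit 3, nat_lit 6, nat_lit 3, nat_lit 4]))) (.node (nat_lit 0x546775903fb6dbc) (.leaf ((nat_lit 0), [nat_lit 3, nat_lit 3, nat_lit 9, nat_lit 0, nat_lit 9, nat_lit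 8, nat_lit 2, nat_lit 6, nat_lit 3, nat_lit 8, nat_lit 6, nat_lit 1, nat_lit 7, nat_lit 3, nat_lit 4, nat_lit 6, nat_lit 4, nat_lit 2])) (.node (nat_lit 0x546a00bbd93f16c) (.leaf ((nat_lit 0), [nat_lit 0, nat_lit 7, nat_lit 0, nat_lit 9, nat_lit 1, nat_lit 9, nat_lit 8, nat_lit 1, nat_lit 7, nat_lit 8, nat_lit 2, nat_lit 4, nat_lit 7, nat_lit 4, nat_lit 6, nat_lit 5, nat_lit 4, nat_lit 3, nat_lit 1])) (.leaf ((nat_lit 0), [nat_lit 0, nat_lit 7, nat_lit 0, nat_lit 9, nat_lit 1, nat_lit 9, nat_lit 8, nat_lit 6, nat_lit 2, nat_lit 8, nat_lit 7, nat_lit 6, nat_lit 2, nat_lit 4, nat_lit 6, nat_lit 3])))))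
 (.node (nat_lit 0x5471a1ae5fe5840) (.node (nat_lit 0x5470e7a7626f84c) (.leaf ((nat_lit 0), [nat_lit 9, nat_lit 2, nat_lit 6, nat_lit 3, nat_lit 9, nat_lit 6, nat_lit 3, nat_lit 8, nat_lit 5, nat_lit 7, nat_lit 6, nat_lit 2, nat_lit 4, nat_lit 6, nat_lit 5, nat_lit 2])) (.leaf ((nat_lit 5), [nat_lit 9, nat_lit 2, nat_lit 6, nat_lit 3, nat_lit 9, nat_lit 3, nat_lit 7, nat_lit 0, nat_lit 8, nat_lit 5, nat_lit 4, nat_lit 7, nat_lit 3, nat_lit 6, nat_lit 3, nat_lit 4, nat_lit 3]))) (.node (nat_lit 0x5471fe5ec61af30) (.leaf ((nat_lit 0), [nat_lit 9, nat_lit 6, nat_lit 4, nat_lit 9, nat_lit 2, nat_lit 6, nat_lit 1, nat_lit 8, nat_lit 5, nat_lit 1, nat_lit 7, nat_lit 6, nat_lit 5])) (.node (nat_lit 0x5472b85735fc29c) (.leaf ((nat_lit 0), [nat_lit 0, nat_lit 7, nat_lit 0, nat_lit 9, nat_lit 1, nat_lit 9, nat_lit 8, nat_lit 2, nat_lit 6, nat_lit 8, nat_lit 7, nat_lit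 6, nat_lit 5, nat_lit 3, nat_lit 4, nat_lit 0])) (.leaf ((nat_lit 0), [nat_lit 3, nat_lit 3, nat_lit 9, nat_lit 0, nat_lit 9, nat_lit 6, nat_lit 1, nat_lit 8, nat_lit 7, nat_lit 5, nat_lit 7, nat_lit 5, nat_lit 3, nat_lit 0]))))))
 (.node (nat_lit 0x5478880a897d47c) (.node (nat_lit 0x54754329562d09c) (.node (nat_lit 0x5474e668c47a62c) (.leaf ((nat_lit 0), [nat_lit 2, nat_lit 7, nat_lit 9, nat_lit 5, nat_lit 9, nat_lit 3, nat_lit 5, nat_lit 8, nat_lit 0, nat_lit 7, nat_lit 4, nat_lit 6, nat_lit 3, nat_lit 4, nat_lit 3, nat_lit 1])) (.leaf ((nat_lit 0), [nat_lit 9, nat_lit 6, nat_lit 8, nat_lit 1, nat_lit 9, nat_lit 7, nat_lit 1, nat_lit 8, nat_lit 7, nat_lit 1, nat_lit 7, nat_lit 4, nat_lit 2, nat_lit 2, nat_lit 6, nat_lit 4, nat_lit 0]))) (.node (nat_lit 0x5475fda183e48e0) (.leaf ((nat_lit 0), [nat_lit 9, nat_lit 2, nat_lit 6, nat_lit 3, nat_lit 9, nat_lit 4,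 nat_lit 7, nat_lit 8, nat_lit 2, nat_lit 4, nat_lit 7, nat_lit 6, nat_lit 3, nat_lit 4, nat_lit 3])) (.node (nat_lit 0x54765a629ff3e40) (.leaf ((nat_lit 0), [nat_lit 8, nat_lit 0, nat_lit 9, nat_lit 1, nat_lit 9, nat_lit 5, nat_lit 8, nat_lit 0, nat_lit 8, nat_lit 4, nat_lit 2, nat_lit 6, nat_lit 5, nat_lit 3, nat_lit 3])) (.leaf ((nat_lit 0), [nat_lit 3, nat_lit 3, nat_lit 9, nat_lit 0, nat_lit 9, nat_lit 8, nat_lit 7, nat_lit 1, nat_lit 8, nat_lit 7, nat_lit 5, nat_lit 6, nat_lit 7, nat_lit 5, nat_lit 3, nat_lit 4, nat_lit 0])))))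
 (.node (nat_lit 0x547f6f25af624ec) (.node (nat_lit 0x5478e58e0b074ac) (.leaf ((nat_lit 0), [nat_lit 5, nat_lit 9, nat_lit 6, nat_lit 3, nat_lit 9, nat_lit 7, nat_lit 0, nat_lit 8, nat_lit 5, nat_lit 6, nat_lit 7, nat_lit 6, nat_lit 4, nat_lit 3, nat_lit 3, nat_lit 3, nat_lit 0])) (.leaf ((nat_lit 0), [nat_lit 9, nat_lit 6, nat_lit 4, nat_lit 9, nat_lit 3, nat_lit 8, nat_lit 6, nat_lit 7, nat_lit 6, nat_lit 5, nat_lit 3, nat_lit 4, nat_lit 3]))) (.node (nat_lit 0x54802962eecb86c) (.leaf ((nat_lit 2), [nat_lit 6, nat_lit 9, nat_lit 2, nat_lit 1, nat_lit 9, nat_lit 6, nat_lit 3, nat_lit 8, nat_lit 3, nat_lit 4, nat_lit 7, nat_lit 4, nat_lit 6, nat_lit 4, nat_lit 0])) (.node (nat_lit 0x548085dce4f9f3c) (.leaf ((nat_lit 0), [nat_lit 9, nat_lit 2, nat_lit 1, nat_lit 9, nat_lit 1, nat_lit 7, nat_lit 8, nat_lit 6, nat_lit 7, nat_lit 4, nat_lit 3, nat_lit 3, nat_lit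 3, nat_lit 0])) (.leaf ((nat_lit 0), [nat_lit 0, nat_lit 7, nat_lit 0, nat_lit 9, nat_lit 1, nat_lit 9, nat_lit 1, nat_lit 7, nat_lit 8, nat_lit 6, nat_lit 2, nat_lit 4, nat_lit 6, nat_lit 5, nat_lit 2, nat_lit 4])))))))
 (.node (nat_lit 0x5491f5c3b10ef60) (.node (nat_lit 0x54876c898c3c370) (.node (nat_lit 0x54836debeb309cc) (.node (nat_lit 0x5481fa10f6c7a80) (.leaf ((nat_lit 0), [nat_lit 0, nat_lit 7, nat_lit 0, nat_lit 9, nat_lit 1, nat_lit 9, nat_lit 7, nat_lit 5, nat_lit 0, nat_lit 8, nat_lit 7, nat_lit 0, nat_lit 7, nat_lit 6, nat_lit 5, nat_lit 2, nat_lit 4])) (.leaf ((nat_lit 0), [nat_lit 9, nat_lit 6, nat_lit 4, nat_lit 9, nat_lit 6, nat_lit 3, nat_lit 8, nat_lit 2, nat_lit 4, nat_lit 7, nat_lit 4, nat_lit 6, nat_lit 5, nat_lit 4, nat_lit 3, nat_lit 3]))) (.node (nat_lit 0x548484ab649abdc) (.leaf ((nat_lit 0), [nat_lit 9, nat_lit 2, nat_lit 6, nat_lit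 3, nat_lit 9, nat_lit 3, nat_lit 6, nat_lit 2, nat_lit 1, nat_lit 8, nat_lit 3, nat_lit 4, nat_lit 7, nat_lit 4, nat_lit 2, nat_lit 1])) (.node (nat_lit 0x5484e222528a78c) (.leaf ((nat_lit 0), [nat_lit 0, nat_lit 7, nat_lit 0, nat_lit 9, nat_lit 1, nat_lit 9, nat_lit 7, nat_lit 2, nat_lit 8, nat_lit 5, nat_lit 7, nat_lit 5, nat_lit 6, nat_lit 5, nat_lit 2, nat_lit 4, nat_lit 3, nat_lit 0])) (.leaf ((nat_lit 0), [nat_lit 8, nat_lit 0, nat_lit 9, nat_lit 1, nat_lit 9, nat_lit 2, nat_lit 8, nat_lit 5, nat_lit 7, nat_lit 4, nat_lit 6, nat_lit 4, nat_lit 3, nat_lit 1])))))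
 (.node (nat_lit 0x548f0d41dcb9a1c) (.node (nat_lit 0x548df68de2fd140) (.leaf ((nat_lit 0), [nat_lit 9, nat_lit 2, nat_lit 1, nat_lit 9, nat_lit 7, nat_lit 1, nat_lit 7, nat_lit 8, nat_lit 4, nat_lit 1, nat_lit 7, nat_lit 6, nat_lit 5, nat_lit 6])) (.leaf ((nat_lit 0), [nat_lit 9, nat_lit 2, nat_lit 6, nat_lit 3, nat_lit 9, nat_lit 0, nat_lit 8, nat_lit 7, nat_lit 1, nat_lit 8, nat_lit 0, nat_lit 7, nat_lit 5, nat_lit 3, nat_lit 4, nat_lit 0]))) (.node (nat_lit 0x548f6ac502468cc) (.leaf ((nat_lit 0), [nat_lit 5, nat_lit 9, nat_lit 6, nat_lit 3, nat_lit 9, nat_lit 2, nat_lit 7, nat_lit 5, nat_lit 8, nat_lit 5, nat_lit 7, nat_lit 5, nat_lit 0, nat_lit 7, nat_lit 5])) (.node (nat_lit 0x549081ba6207c2c) (.leaf ((nat_lit 0), [nat_lit 8, nat_lit 0, nat_lit 9, nat_lit 1, nat_lit 9, nat_lit 3, nat_lit 6, nat_lit 3, nat_lit 8, nat_lit 3, nat_lit 6, nat_lit 7, nat_lit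 5, nat_lit 1])) (.leaf ((nat_lit 0), [nat_lit 9, nat_lit 4, nat_lit 6, nat_lit 9, nat_lit 6, nat_lit 3, nat_lit 8, nat_lit 5, nat_lit 7, nat_lit 5, nat_lit 0, nat_lit 7, nat_lit 5, nat_lit 6, nat_lit 3]))))))
 (.node (nat_lit 0x549c7dd75d657fc) (.node (nat_lit 0x54930ccf581c12c) (.node (nat_lit 0x54925292d0acf40) (.leaf ((nat_lit 0), [nat_lit 3, nat_lit 9, nat_lit 6, nat_lit 3, nat_lit 1, nat_lit 9, nat_lit 1, nat_lit 7, nat_lit 8, nat_lit 5, nat_lit 7, nat_lit 5, nat_lit 0, nat_lit 7, nat_lit 2, nat_lit 4, nat_lit 6, nat_lit 4, nat_lit 0])) (.leaf ((nat_lit 3), [nat_lit 3, nat_lit 0, nat_lit 8, nat_lit 6, nat_lit 5, nat_lit 7, nat_lit 5, nat_lit 3, nat_lit 6]))) (.node (nat_lit 0x54959765767da6c) (.leaf ((nat_lit 0), [nat_lit 2, nat_lit 7, nat_lit 9, nat_lit 5, nat_lit 9, nat_lit 8, nat_lit 5, nat_lit 2, nat_lit 8, nat_lit 6, nat_lit 3, nat_lit 3, nat_lit 6,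 nat_lit 4])) (.node (nat_lit 0x5495f43353c4c5c) (.leaf ((nat_lit 0), [nat_lit 9, nat_lit 6, nat_lit 4, nat_lit 9, nat_lit 5, nat_lit 6, nat_lit 8, nat_lit 5, nat_lit 3, nat_lit 6, nat_lit 5, nat_lit 4, nat_lit 2, nat_lit 1])) (.leaf ((nat_lit 0), [nat_lit 2, nat_lit 7, nat_lit 9, nat_lit 5, nat_lit 9, nat_lit 3, nat_lit 6, nat_lit 8, nat_lit 7, nat_lit 5, nat_lit 3, nat_lit 6, nat_lit 4, nat_lit 2, nat_lit 0])))))
 (.node (nat_lit 0x549df217a6d0640) (.node (nat_lit 0x549cdb6042c3eac) (.leaf ((nat_lit 0), [nat_lit 9, nat_lit 2, nat_lit 6, nat_lit 3, nat_lit 9, nat_lit 1, nat_lit 7, nat_lit 8, nat_lit 6, nat_lit 7, nat_lit 2, nat_lit 6, nat_lit 3, nat_lit 4, nat_lit 1])) (.leaf ((nat_lit 5), [nat_lit 9, nat_lit 2, nat_lit 1, nat_lit 9, nat_lit 4, nat_lit 8, nat_lit 0, nat_lit 8, nat_lit 6, nat_lit 5, nat_lit 7, nat_lit 4, nat_lit 6, nat_lit 3, nat_lit 3, nat_lit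 3]))) (.node (nat_lit 0x549e4f55ce6af60) (.leaf ((nat_lit 0), [nat_lit 6, nat_lit 9, nat_lit 2, nat_lit 1, nat_lit 9, nat_lit 7, nat_lit 3, nat_lit 4, nat_lit 3, nat_lit 3, nat_lit 6, nat_lit 5, nat_lit 3, nat_lit 4, nat_lit 0])) (.node (nat_lit 0x549f090d069c5ac) (.leaf ((nat_lit 0), [nat_lit 8, nat_lit 0, nat_lit 9, nat_lit 1, nat_lit 9, nat_lit 6, nat_lit 1, nat_lit 8, nat_lit 1, nat_lit 7, nat_lit 6, nat_lit 5, nat_lit 2, nat_lit 4, nat_lit 3, nat_lit 0])) (.leaf ((nat_lit 0), [nat_lit 9, nat_lit 2, nat_lit 1, nat_lit 9, nat_lit 3, nat_lit 7, nat_lit 8, nat_lit 7, nat_lit 2, nat_lit 6, nat_lit 3, nat_lit 3, nat_lit 1])))))))))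
 (.node (nat_lit 0x54e8d01d49fef4c) (.node (nat_lit 0x54c9efdc471df14) (.node (nat_lit 0x54b997584549e7c) (.node (nat_lit 0x54ac7999e78df8c) (.node (nat_lit 0x54a1f0dd2a8ed30) (.node (nat_lit 0x54a13765307e74c) (.leaf ((nat_lit 0), [nat_lit 9, nat_lit 6, nat_lit 8, nat_lit 1, nat_lit 9, nat_lit 6, nat_lit 1, nat_lit 8, nat_lit 6, nat_lit 5, nat_lit 7, nat_lit 3, nat_lit 6, nat_lit 4, nat_lit 1])) (.leaf ((nat_lit 0), [nat_lit 9, nat_lit 2, nat_lit 6, nat_lit 3, nat_lit 9, nat_lit 6, nat_lit 5, nat_lit 6, nat_lit 7, nat_lit 4, nat_lit 2, nat_lit 6, nat_lit 5, nat_lit 3, nat_lit 3, nat_lit 3, nat_lit 1]))) (.node (nat_lit 0x54a4d905b3ec90c) (.leaf ((nat_lit 0), [nat_lit 5, nat_lit 9, nat_lit 6, nat_lit 3, nat_lit 9, nat_lit 7, nat_lit 0, nat_lit 8, nat_lit 7, nat_lit 6, nat_lit 3, nat_lit 4, nat_lit 6, nat_lit 3, nat_lit 4])) (.node (nat_lit 0x54ab62de8fb6b4c)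 (.leaf ((nat_lit 0), [nat_lit 9, nat_lit 4, nat_lit 6, nat_lit 9, nat_lit 5, nat_lit 7, nat_lit 6, nat_lit 8, nat_lit 0, nat_lit 7, nat_lit 6, nat_lit 4, nat_lit 3, nat_lit 3, nat_lit 3, nat_lit 0])) (.leaf ((nat_lit 2), [nat_lit 9, nat_lit 4, nat_lit 6, nat_lit 9, nat_lit 8, nat_lit 2, nat_lit 5, nat_lit 8, nat_lit 2, nat_lit 4, nat_lit 7, nat_lit 5, nat_lit 3, nat_lit 4, nat_lit 3])))))
 (.node (nat_lit 0x54af616393b4d7c) (.node (nat_lit 0x54ad334cfd8a3b0) (.leaf ((nat_lit 0), [nat_lit 6, nat_lit 9, nat_lit 2, nat_lit 1, nat_lit 9, nat_lit 5, nat_lit 0, nat_lit 7, nat_lit 8, nat_lit 5, nat_lit 4, nat_lit 7, nat_lit 3, nat_lit 6, nat_lit 4])) (.leaf ((nat_lit 0), [nat_lit 6, nat_lit 9, nat_lit 2, nat_lit 1, nat_lit 9, nat_lit 8, nat_lit 5, nat_lit 1, nat_lit 8, nat_lit 6, nat_lit 0, nat_lit 7, nat_lit 3]))) (.node (nat_lit 0x54b0789d0b84fec) (.leaf ((nat_lit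 0), [nat_lit 9, nat_lit 2, nat_lit 6, nat_lit 3, nat_lit 9, nat_lit 6, nat_lit 3, nat_lit 8, nat_lit 6, nat_lit 3, nat_lit 4, nat_lit 7, nat_lit 4, nat_lit 6, nat_lit 5])) (.node (nat_lit 0x54b360c5948c2e0) (.leaf ((nat_lit 0), [nat_lit 9, nat_lit 6, nat_lit 4, nat_lit 9, nat_lit 7, nat_lit 2, nat_lit 8, nat_lit 7, nat_lit 5, nat_lit 7, nat_lit 3, nat_lit 4, nat_lit 6, nat_lit 4, nat_lit 3, nat_lit 1])) (.leaf ((nat_lit 0), [nat_lit 3, nat_lit 3, nat_lit 9, nat_lit 0, nat_lit 9, nat_lit 5, nat_lit 8, nat_lit 2, nat_lit 1, nat_lit 8, nat_lit 3, nat_lit 4, nat_lit 7, nat_lit 6, nat_lit 2, nat_lit 4, nat_lit 3, nat_lit 1]))))))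
 (.node (nat_lit 0x54bf67ada7a6154) (.node (nat_lit 0x54bd39893c2f584) (.node (nat_lit 0x54bc7f43b88f4f8) (.leaf ((nat_lit 2), [nat_lit 6, nat_lit 9, nat_lit 5, nat_lit 3, nat_lit 1, nat_lit 9, nat_lit 7, nat_lit 5, nat_lit 1, nat_lit 8, nat_lit 7, nat_lit 2, nat_lit 4, nat_lit 7, nat_lit 4, nat_lit 0])) (.leaf ((nat_lit 1), [nat_lit 2, nat_lit 2, nat_lit 9, nat_lit 0, nat_lit 9, nat_lit 7, nat_lit 8, nat_lit 6, nat_lit 7, nat_lit 6, nat_lit 4, nat_lit 2, nat_lit 6, nat_lit 2]))) (.node (nat_lit 0x54be50773e329f0) (.leaf ((nat_lit 0), [nat_lit 8, nat_lit 2, nat_lit 6, nat_lit 8, nat_lit 3, nat_lit 6, nat_lit 7, nat_lit 6, nat_lit 2, nat_lit 4, nat_lit 6])) (.node (nat_lit 0x54bf67a563d976c) (.leaf ((nat_lit 3), [nat_lit 2, nat_lit 7, nat_lit 9, nat_lit 5, nat_lit 9, nat_lit 7, nat_lit 1, nat_lit 8, nat_lit 6, nat_lit 2, nat_lit 4, nat_lit 7, nat_lit 6, nat_lit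 2, nat_lit 2, nat_lit 6, nat_lit 3])) (.leaf ((nat_lit 6), [nat_lit 2, nat_lit 6, nat_lit 3, nat_lit 9, nat_lit 5, nat_lit 8, nat_lit 6, nat_lit 3, nat_lit 4, nat_lit 7, nat_lit 4, nat_lit 2, nat_lit 6])))))
 (.node (nat_lit 0x54c1385703adf4c) (.node (nat_lit 0x54bf67affd95ae4) (.leaf ((nat_lit 2), [nat_lit 6, nat_lit 9, nat_lit 2, nat_lit 1, nat_lit 9, nat_lit 2, nat_lit 6, nat_lit 3, nat_lit 8, nat_lit 5, nat_lit 4, nat_lit 7, nat_lit 6, nat_lit 1])) (.leaf ((nat_lit 3), [nat_lit 0, nat_lit 7, nat_lit 0, nat_lit 9, nat_lit 1, nat_lit 9, nat_lit 7, nat_lit 0, nat_lit 8, nat_lit 0, nat_lit 7, nat_lit 3, nat_lit 4, nat_lit 6, nat_lit 5, nat_lit 3, nat_lit 3]))) (.node (nat_lit 0x54c1f21d251eab4) (.leaf ((nat_lit 3), [nat_lit 6, nat_lit 9, nat_lit 5, nat_lit 3, nat_lit 1, nat_lit 9, nat_lit 3, nat_lit 1, nat_lit 8, nat_lit 6, nat_lit 1, nat_lit 7, nat_lit 3, nat_lit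 6, nat_lit 4, nat_lit 2, nat_lit 0])) (.node (nat_lit 0x54c87c228fcd208) (.leaf ((nat_lit 1), [nat_lit 2, nat_lit 7, nat_lit 9, nat_lit 5, nat_lit 9, nat_lit 5, nat_lit 8, nat_lit 1, nat_lit 8, nat_lit 5, nat_lit 7, nat_lit 5, nat_lit 0, nat_lit 7, nat_lit 5, nat_lit 6, nat_lit 5, nat_lit 2])) (.leaf ((nat_lit 1), [nat_lit 2, nat_lit 2, nat_lit 9, nat_lit 0, nat_lit 9, nat_lit 4, nat_lit 6, nat_lit 8, nat_lit 4, nat_lit 7, nat_lit 6, nat_lit 5, nat_lit 3, nat_lit 3, nat_lit 0])))))))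
 (.node (nat_lit 0x54d9eb4d6db83e8) (.node (nat_lit 0x54cfc01b902c968) (.node (nat_lit 0x54ccd802d696278) (.node (nat_lit 0x54cc1e00b303964) (.leaf ((nat_lit 1), [nat_lit 9, nat_lit 7, nat_lit 5, nat_lit 0, nat_lit 9, nat_lit 3, nat_lit 7, nat_lit 5, nat_lit 8, nat_lit 7, nat_lit 0, nat_lit 7, nat_lit 5, nat_lit 3, nat_lit 6, nat_lit 5, nat_lit 4])) (.leaf ((nat_lit 0), [nat_lit 0, nat_lit 7, nat_lit 8, nat_lit 4, nat_lit 7, nat_lit 2, nat_lit 6, nat_lit 4, nat_lit 2, nat_lit 1]))) (.node (nat_lit 0x54cd91bc9263ef4) (.leaf ((nat_lit 1), [nat_lit 2, nat_lit 9, nat_lit 3, nat_lit 5, nat_lit 9, nat_lit 2, nat_lit 7, nat_lit 8, nat_lit 7, nat_lit 0, nat_lit 7, nat_lit 4, nat_lit 6, nat_lit 4, nat_lit 3, nat_lit 1])) (.node (nat_lit 0x54cf05e9fe63f04) (.leaf ((nat_lit 2), [nat_lit 3, nat_lit 3, nat_lit 9, nat_lit 0, nat_lit 9, nat_lit 6, nat_lit 5, nat_lit 0, nat_lit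 7, nat_lit 4, nat_lit 0])) (.leaf ((nat_lit 1), [nat_lit 6, nat_lit 9, nat_lit 2, nat_lit 1, nat_lit 9, nat_lit 7, nat_lit 5, nat_lit 1, nat_lit 8, nat_lit 7, nat_lit 3, nat_lit 6, nat_lit 3, nat_lit 4, nat_lit 3, nat_lit 3])))))
 (.node (nat_lit 0x54cfc02629c7918) (.node (nat_lit 0x54cfc023d3f3850) (.leaf ((nat_lit 6), [nat_lit 9, nat_lit 7, nat_lit 5, nat_lit 0, nat_lit 9, nat_lit 7, nat_lit 5, nat_lit 8, nat_lit 2, nat_lit 4, nat_lit 7, nat_lit 5, nat_lit 6, nat_lit 3, nat_lit 4, nat_lit 3])) (.leaf ((nat_lit 2), [nat_lit 2, nat_lit 9, nat_lit 3, nat_lit 5, nat_lit 9, nat_lit 5, nat_lit 7, nat_lit 8, nat_lit 2, nat_lit 4, nat_lit 7, nat_lit 2, nat_lit 6, nat_lit 5, nat_lit 4, nat_lit 3, nat_lit 3]))) (.node (nat_lit 0x54d8d44cbc65274) (.leaf ((nat_lit 3), [nat_lit 9, nat_lit 7, nat_lit 5, nat_lit 0, nat_lit 9, nat_lit 7, nat_lit 1, nat_lit 7, nat_lit 8, nat_lit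 7, nat_lit 1, nat_lit 7, nat_lit 2, nat_lit 2, nat_lit 6, nat_lit 5, nat_lit 0])) (.node (nat_lit 0x54d9318d683e8f4) (.leaf ((nat_lit 2), [nat_lit 6, nat_lit 8, nat_lit 5, nat_lit 7, nat_lit 4, nat_lit 3, nat_lit 6, nat_lit 2, nat_lit 4])) (.leaf ((nat_lit 3), [nat_lit 2, nat_lit 2, nat_lit 9, nat_lit 1, nat_lit 9, nat_lit 8, nat_lit 6, nat_lit 1, nat_lit 8, nat_lit 6, nat_lit 5, nat_lit 7, nat_lit 6, nat_lit 3, nat_lit 4, nat_lit 6, nat_lit 2, nat_lit 1]))))))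
 (.node (nat_lit 0x54ddea234b2bda0) (.node (nat_lit 0x54db02c4e147cc4) (.node (nat_lit 0x54db02bc9da3864) (.leaf ((nat_lit 0), [nat_lit 3, nat_lit 7, nat_lit 0, nat_lit 8, nat_lit 5, nat_lit 7, nat_lit 5, nat_lit 7, nat_lit 5, nat_lit 2])) (.leaf ((nat_lit 6), [nat_lit 7, nat_lit 6, nat_lit 8, nat_lit 7, nat_lit 0, nat_lit 7, nat_lit 2, nat_lit 6, nat_lit 5, nat_lit 4, nat_lit 2, nat_lit 2, nat_lit 1]))) (.node (nat_lit 0x54db02c737520e4) (.leaf ((nat_lit 2), [nat_lit 1, nat_lit 9, nat_lit 5, nat_lit 9, nat_lit 7, nat_lit 0, nat_lit 8, nat_lit 7, nat_lit 2, nat_lit 4, nat_lit 6, nat_lit 2, nat_lit 4, nat_lit 1])) (.node (nat_lit 0x54dbbc44392bf64) (.leaf ((nat_lit 3), [nat_lit 2, nat_lit 2, nat_lit 9, nat_lit 0, nat_lit 9, nat_lit 8, nat_lit 5, nat_lit 7, nat_lit 5, nat_lit 7, nat_lit 2, nat_lit 6, nat_lit 2, nat_lit 2])) (.leaf ((nat_lit 0), [nat_lit 8, nat_lit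 7, nat_lit 8, nat_lit 5, nat_lit 8, nat_lit 4, nat_lit 1, nat_lit 7, nat_lit 5, nat_lit 6, nat_lit 3])))))
 (.node (nat_lit 0x54e4d10606a4764) (.node (nat_lit 0x54dea460e6f6ac4) (.leaf ((nat_lit 0), [nat_lit 3, nat_lit 1, nat_lit 8, nat_lit 5, nat_lit 7, nat_lit 5, nat_lit 7, nat_lit 4, nat_lit 6, nat_lit 2, nat_lit 0])) (.leaf ((nat_lit 0), [nat_lit 7, nat_lit 8, nat_lit 6, nat_lit 3, nat_lit 8, nat_lit 7, nat_lit 4, nat_lit 6, nat_lit 4, nat_lit 2]))) (.node (nat_lit 0x54e5e85d5178a48) (.leaf ((nat_lit 2), [nat_lit 6, nat_lit 3, nat_lit 8, nat_lit 3, nat_lit 6, nat_lit 1, nat_lit 7, nat_lit 6, nat_lit 5, nat_lit 3, nat_lit 6, nat_lit 5, nat_lit 2, nat_lit 1])) (.node (nat_lit 0x54e6a206b3a96bc) (.leaf ((nat_lit 3), [nat_lit 7, nat_lit 9, nat_lit 2, nat_lit 1, nat_lit 9, nat_lit 0, nat_lit 7, nat_lit 8, nat_lit 5, nat_lit 1, nat_lit 7, nat_lit 6, nat_lit 3,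 nat_lit 3, nat_lit 6, nat_lit 5, nat_lit 0])) (.leaf ((nat_lit 2), [nat_lit 9, nat_lit 4, nat_lit 6, nat_lit 1, nat_lit 9, nat_lit 5, nat_lit 8, nat_lit 7, nat_lit 6, nat_lit 3, nat_lit 4, nat_lit 1]))))))))
 (.node (nat_lit 0x550980ed6d599f8) (.node (nat_lit 0x54f9e2da0d6b1d8) (.node (nat_lit 0x54ee4341a1f55a8) (.node (nat_lit 0x54ebb80ed915884) (.node (nat_lit 0x54eaa0d619516e0) (.leaf ((nat_lit 3), [nat_lit 2, nat_lit 9, nat_lit 3, nat_lit 5, nat_lit 9, nat_lit 5, nat_lit 7, nat_lit 5, nat_lit 8, nat_lit 0, nat_lit 7, nat_lit 2, nat_lit 6, nat_lit 5, nat_lit 2])) (.leaf ((nat_lit 2), [nat_lit 6, nat_lit 9, nat_lit 2, nat_lit 1, nat_lit 9, nat_lit 3, nat_lit 7, nat_lit 0, nat_lit 8, nat_lit 6, nat_lit 7, nat_lit 2, nat_lit 4, nat_lit 3, nat_lit 6, nat_lit 1]))) (.node (nat_lit 0x54ee43342852f6c) (.leaf ((nat_lit 1), [nat_lit 2, nat_lit 7, nat_lit 9, nat_lit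 5, nat_lit 9, nat_lit 8, nat_lit 5, nat_lit 7, nat_lit 8, nat_lit 6, nat_lit 0, nat_lit 7, nat_lit 2, nat_lit 2, nat_lit 6, nat_lit 2, nat_lit 0])) (.node (nat_lit 0x54ee433c102c164) (.leaf ((nat_lit 6), [nat_lit 2, nat_lit 4, nat_lit 2, nat_lit 9, nat_lit 7, nat_lit 8, nat_lit 1, nat_lit 8, nat_lit 6, nat_lit 7, nat_lit 3, nat_lit 6, nat_lit 4, nat_lit 3, nat_lit 3, nat_lit 1])) (.leaf ((nat_lit 2), [nat_lit 7, nat_lit 5, nat_lit 6, nat_lit 8, nat_lit 0, nat_lit 7, nat_lit 4, nat_lit 2, nat_lit 2, nat_lit 6, nat_lit 3, nat_lit 4, nat_lit 3])))))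
 (.node (nat_lit 0x54f6fa8ab57d754) (.node (nat_lit 0x54f5e3cea611ab4) (.leaf ((nat_lit 3), [nat_lit 7, nat_lit 9, nat_lit 2, nat_lit 1, nat_lit 9, nat_lit 8, nat_lit 6, nat_lit 3, nat_lit 8, nat_lit 3, nat_lit 6, nat_lit 7, nat_lit 4, nat_lit 2, nat_lit 6, nat_lit 3, nat_lit 3])) (.leaf ((nat_lit 0), [nat_lit 2, nat_lit 5, nat_lit 8, nat_lit 3, nat_lit 4, nat_lit 7, nat_lit 2, nat_lit 4, nat_lit 6, nat_lit 3, nat_lit 3]))) (.node (nat_lit 0x54f928699984664) (.leaf ((nat_lit 1), [nat_lit 2, nat_lit 9, nat_lit 3, nat_lit 5, nat_lit 9, nat_lit 5, nat_lit 1, nat_lit 7, nat_lit 6, nat_lit 2, nat_lit 2, nat_lit 6, nat_lit 5, nat_lit 2])) (.node (nat_lit 0x54f9e2d225c84a4) (.leaf ((nat_lit 1), [nat_lit 7, nat_lit 9, nat_lit 2, nat_lit 1, nat_lit 9, nat_lit 3, nat_lit 0, nat_lit 8, nat_lit 2, nat_lit 4, nat_lit 7, nat_lit 5, nat_lit 3, nat_lit 3, nat_lit 3, nat_lit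 1])) (.leaf ((nat_lit 2), [nat_lit 5, nat_lit 2, nat_lit 8, nat_lit 3, nat_lit 4, nat_lit 7, nat_lit 6, nat_lit 2, nat_lit 0]))))))
 (.node (nat_lit 0x55029a234f00f68) (.node (nat_lit 0x54fa3fae34e06b8) (.node (nat_lit 0x54f9e2df9f4fee4) (.leaf ((nat_lit 3), [nat_lit 2, nat_lit 9, nat_lit 3, nat_lit 5, nat_lit 9, nat_lit 7, nat_lit 2, nat_lit 5, nat_lit 8, nat_lit 2, nat_lit 4, nat_lit 6, nat_lit 4, nat_lit 3, nat_lit 1])) (.leaf ((nat_lit 6), [nat_lit 0, nat_lit 8, nat_lit 0, nat_lit 9, nat_lit 4, nat_lit 6, nat_lit 8, nat_lit 7, nat_lit 5, nat_lit 6, nat_lit 7, nat_lit 6, nat_lit 3, nat_lit 4, nat_lit 6, nat_lit 2, nat_lit 4, nat_lit 3, nat_lit 0]))) (.node (nat_lit 0x54faf9545b53b34) (.leaf ((nat_lit 1), [nat_lit 6, nat_lit 9, nat_lit 5, nat_lit 3, nat_lit 1, nat_lit 9, nat_lit 8, nat_lit 7, nat_lit 5, nat_lit 6, nat_lit 7, nat_lit 3, nat_lit 3, nat_lit 6,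 nat_lit 2, nat_lit 1])) (.node (nat_lit 0x54fbb39baad7570) (.leaf ((nat_lit 0), [nat_lit 3, nat_lit 1, nat_lit 8, nat_lit 5, nat_lit 6, nat_lit 7, nat_lit 5, nat_lit 2, nat_lit 4])) (.leaf ((nat_lit 0), [nat_lit 7, nat_lit 6, nat_lit 8, nat_lit 7, nat_lit 0, nat_lit 7, nat_lit 5, nat_lit 6, nat_lit 5, nat_lit 4])))))
 (.node (nat_lit 0x55063be42942c38) (.node (nat_lit 0x55046b44af2d438) (.leaf ((nat_lit 0), [nat_lit 0, nat_lit 7, nat_lit 8, nat_lit 6, nat_lit 5, nat_lit 6, nat_lit 2, nat_lit 2, nat_lit 1])) (.leaf ((nat_lit 1), [nat_lit 9, nat_lit 7, nat_lit 5, nat_lit 0, nat_lit 9, nat_lit 3, nat_lit 7, nat_lit 8, nat_lit 6, nat_lit 1, nat_lit 7, nat_lit 3, nat_lit 6]))) (.node (nat_lit 0x5506993c027c884) (.leaf ((nat_lit 0), [nat_lit 8, nat_lit 1, nat_lit 8, nat_lit 4, nat_lit 7, nat_lit 6, nat_lit 4, nat_lit 2, nat_lit 6, nat_lit 5])) (.node (nat_lit 0x5507533136738c4)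 (.leaf ((nat_lit 1), [nat_lit 2, nat_lit 2, nat_lit 9, nat_lit 1, nat_lit 9, nat_lit 2, nat_lit 6, nat_lit 2, nat_lit 8, nat_lit 3, nat_lit 4, nat_lit 7, nat_lit 5, nat_lit 4, nat_lit 3, nat_lit 0])) (.leaf ((nat_lit 3), [nat_lit 0, nat_lit 7, nat_lit 0, nat_lit 9, nat_lit 1, nat_lit 9, nat_lit 3, nat_lit 5, nat_lit 8, nat_lit 5, nat_lit 4, nat_lit 7, nat_lit 6, nat_lit 5, nat_lit 6, nat_lit 3, nat_lit 4])))))))
 (.node (nat_lit 0x551694fc0854210) (.node (nat_lit 0x5510c4e27a2ab8c) (.node (nat_lit 0x550a3b5039be3d4) (.node (nat_lit 0x550a3b485207dd0) (.leaf ((nat_lit 2), [nat_lit 2, nat_lit 6, nat_lit 0, nat_lit 8, nat_lit 3, nat_lit 6, nat_lit 1, nat_lit 7, nat_lit 6, nat_lit 4, nat_lit 3, nat_lit 6, nat_lit 2, nat_lit 0])) (.leaf ((nat_lit 3), [nat_lit 6, nat_lit 9, nat_lit 2, nat_lit 1, nat_lit 9, nat_lit 5, nat_lit 7, nat_lit 5, nat_lit 8, nat_lit 4, nat_lit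 1, nat_lit 7, nat_lit 3, nat_lit 3, nat_lit 6, nat_lit 3, nat_lit 4, nat_lit 1]))) (.node (nat_lit 0x550a3b55cb81e84) (.leaf ((nat_lit 6), [nat_lit 1, nat_lit 9, nat_lit 5, nat_lit 9, nat_lit 0, nat_lit 7, nat_lit 8, nat_lit 5, nat_lit 7, nat_lit 5, nat_lit 0, nat_lit 7, nat_lit 2, nat_lit 2, nat_lit 6, nat_lit 2, nat_lit 2])) (.node (nat_lit 0x550b51cfeb64bf4) (.leaf ((nat_lit 2), [nat_lit 6, nat_lit 9, nat_lit 5, nat_lit 9, nat_lit 8, nat_lit 1, nat_lit 8, nat_lit 5, nat_lit 6, nat_lit 7, nat_lit 4, nat_lit 6, nat_lit 2])) (.leaf ((nat_lit 1), [nat_lit 0, nat_lit 7, nat_lit 0, nat_lit 9, nat_lit 1, nat_lit 9, nat_lit 4, nat_lit 8, nat_lit 1, nat_lit 8, nat_lit 4, nat_lit 2, nat_lit 2, nat_lit 6, nat_lit 4, nat_lit 3, nat_lit 1])))))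
 (.node (nat_lit 0x55146689752b774) (.node (nat_lit 0x551295cd97fcfb4) (.leaf ((nat_lit 3), [nat_lit 9, nat_lit 7, nat_lit 5, nat_lit 0, nat_lit 9, nat_lit 8, nat_lit 5, nat_lit 2, nat_lit 8, nat_lit 6, nat_lit 0, nat_lit 7, nat_lit 3, nat_lit 6, nat_lit 4, nat_lit 3])) (.leaf ((nat_lit 1), [nat_lit 2, nat_lit 2, nat_lit 9, nat_lit 1, nat_lit 9, nat_lit 6, nat_lit 8, nat_lit 0, nat_lit 8, nat_lit 3, nat_lit 4, nat_lit 7, nat_lit 6, nat_lit 4, nat_lit 2, nat_lit 6, nat_lit 4]))) (.node (nat_lit 0x55157d657fa6e7c) (.leaf ((nat_lit 0), [nat_lit 7, nat_lit 1, nat_lit 8, nat_lit 5, nat_lit 6, nat_lit 7, nat_lit 6, nat_lit 3])) (.node (nat_lit 0x551694f61a6aeec) (.leaf ((nat_lit 2), [nat_lit 7, nat_lit 5, nat_lit 0, nat_lit 8, nat_lit 4, nat_lit 1, nat_lit 7, nat_lit 6, nat_lit 4, nat_lit 3, nat_lit 6, nat_lit 3, nat_lit 3, nat_lit 1])) (.leaf ((nat_lit 6), [nat_lit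 4, nat_lit 8, nat_lit 3, nat_lit 9, nat_lit 5, nat_lit 0, nat_lit 7, nat_lit 8, nat_lit 3, nat_lit 6, nat_lit 7, nat_lit 2, nat_lit 4, nat_lit 2]))))))
 (.node (nat_lit 0x5521d75aca014e4) (.node (nat_lit 0x55174e63d6e02b4) (.node (nat_lit 0x55169503f0185e4) (.leaf ((nat_lit 6), [nat_lit 5, nat_lit 6, nat_lit 1, nat_lit 9, nat_lit 5, nat_lit 8, nat_lit 5, nat_lit 8, nat_lit 5, nat_lit 0, nat_lit 7, nat_lit 5, nat_lit 3, nat_lit 6, nat_lit 3, nat_lit 3])) (.leaf ((nat_lit 6), [nat_lit 5, nat_lit 6, nat_lit 7, nat_lit 9, nat_lit 1, nat_lit 7, nat_lit 5, nat_lit 8, nat_lit 7, nat_lit 0, nat_lit 7, nat_lit 4, nat_lit 6, nat_lit 4, nat_lit 2, nat_lit 2, nat_lit 1]))) (.node (nat_lit 0x551a368bd653f44) (.leaf ((nat_lit 0), [nat_lit 3, nat_lit 0, nat_lit 8, nat_lit 7, nat_lit 1, nat_lit 7, nat_lit 3, nat_lit 4, nat_lit 6, nat_lit 5, nat_lit 2])) (.node (nat_lit 0x5520c016b8918d4)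 (.leaf ((nat_lit 0), [nat_lit 8, nat_lit 7, nat_lit 0, nat_lit 8, nat_lit 4, nat_lit 1, nat_lit 7, nat_lit 5, nat_lit 6, nat_lit 5, nat_lit 3, nat_lit 4, nat_lit 1])) (.leaf ((nat_lit 1), [nat_lit 2, nat_lit 9, nat_lit 3, nat_lit 5, nat_lit 9, nat_lit 4, nat_lit 8, nat_lit 0, nat_lit 8, nat_lit 4, nat_lit 7, nat_lit 6, nat_lit 4, nat_lit 3, nat_lit 6, nat_lit 2, nat_lit 4])))))
 (.node (nat_lit 0x5525d6415ce67c4) (.node (nat_lit 0x55234b3af467d84) (.leaf ((nat_lit 0), [nat_lit 5, nat_lit 1, nat_lit 8, nat_lit 7, nat_lit 2, nat_lit 4, nat_lit 6, nat_lit 5, nat_lit 0])) (.leaf ((nat_lit 3), [nat_lit 2, nat_lit 2, nat_lit 9, nat_lit 0, nat_lit 9, nat_lit 7, nat_lit 2, nat_lit 8, nat_lit 1, nat_lit 7, nat_lit 6, nat_lit 3, nat_lit 3, nat_lit 3, nat_lit 0]))) (.node (nat_lit 0x5526ed6c46be254) (.leaf ((nat_lit 3), [nat_lit 6, nat_lit 9, nat_lit 2, nat_lit 1, nat_lit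 9, nat_lit 7, nat_lit 5, nat_lit 6, nat_lit 8, nat_lit 6, nat_lit 0, nat_lit 7, nat_lit 5, nat_lit 6, nat_lit 1])) (.node (nat_lit 0x5526ed72347ed18) (.leaf ((nat_lit 3), [nat_lit 2, nat_lit 2, nat_lit 9, nat_lit 1, nat_lit 9, nat_lit 7, nat_lit 1, nat_lit 8, nat_lit 7, nat_lit 5, nat_lit 6, nat_lit 7, nat_lit 2, nat_lit 6, nat_lit 5, nat_lit 4, nat_lit 3])) (.leaf ((nat_lit 3), [nat_lit 6, nat_lit 9, nat_lit 5, nat_lit 3, nat_lit 1, nat_lit 9, nat_lit 2, nat_lit 6, nat_lit 2, nat_lit 8, nat_lit 3, nat_lit 6, nat_lit 1, nat_lit 7, nat_lit 2, nat_lit 4, nat_lit 6, nat_lit 2, nat_lit 0]))))))))))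
 (.node (nat_lit 0x55a8f6ca222a504) (.node (nat_lit 0x556b93ae55141f4) (.node (nat_lit 0x554c56c2abef584) (.node (nat_lit 0x553745f04882b84) (.node (nat_lit 0x553400ab3090724) (.node (nat_lit 0x552e8dd41a07148) (.node (nat_lit 0x552860eb9a40ce0) (.leaf ((nat_lit 3), [nat_lit 2, nat_lit 7, nat_lit 9, nat_lit 5, nat_lit 9, nat_lit 3, nat_lit 8, nat_lit 6, nat_lit 1, nat_lit 8, nat_lit 1, nat_lit 7, nat_lit 2, nat_lit 4, nat_lit 3])) (.leaf ((nat_lit 1), [nat_lit 6, nat_lit 9, nat_lit 2, nat_lit 1, nat_lit 9, nat_lit 4, nat_lit 6, nat_lit 8, nat_lit 0, nat_lit 7, nat_lit 3, nat_lit 6, nat_lit 2, nat_lit 2, nat_lit 1]))) (.node (nat_lit 0x55311884cf169a8) (.leaf ((nat_lit 0), [nat_lit 8, nat_lit 1, nat_lit 8, nat_lit 0, nat_lit 7, nat_lit 3, nat_lit 4, nat_lit 6, nat_lit 2, nat_lit 4, nat_lit 2])) (.node (nat_lit 0x553346677908b74) (.leaf ((nat_lit 0), [nat_lit 2,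 nat_lit 6, nat_lit 8, nat_lit 7, nat_lit 2, nat_lit 4, nat_lit 7, nat_lit 4, nat_lit 6, nat_lit 3, nat_lit 3, nat_lit 0])) (.leaf ((nat_lit 2), [nat_lit 9, nat_lit 4, nat_lit 6, nat_lit 9, nat_lit 3, nat_lit 6, nat_lit 8, nat_lit 1, nat_lit 7, nat_lit 5, nat_lit 2, nat_lit 4, nat_lit 3])))))
 (.node (nat_lit 0x55362e5db3ebd34) (.node (nat_lit 0x5535d19568737b0) (.leaf ((nat_lit 0), [nat_lit 2, nat_lit 6, nat_lit 8, nat_lit 7, nat_lit 5, nat_lit 7, nat_lit 3, nat_lit 4, nat_lit 6, nat_lit 3, nat_lit 3])) (.leaf ((nat_lit 1), [nat_lit 0, nat_lit 7, nat_lit 0, nat_lit 9, nat_lit 1, nat_lit 9, nat_lit 8, nat_lit 5, nat_lit 1, nat_lit 8, nat_lit 5, nat_lit 0, nat_lit 7, nat_lit 5, nat_lit 4, nat_lit 1]))) (.node (nat_lit 0x553745e27304624) (.leaf ((nat_lit 1), [nat_lit 2, nat_lit 2, nat_lit 9, nat_lit 1, nat_lit 9, nat_lit 7, nat_lit 5, nat_lit 8, nat_lit 4, nat_lit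 0, nat_lit 7, nat_lit 6, nat_lit 2, nat_lit 4, nat_lit 2])) (.node (nat_lit 0x553745e860d1da8) (.leaf ((nat_lit 2), [nat_lit 9, nat_lit 7, nat_lit 5, nat_lit 0, nat_lit 9, nat_lit 8, nat_lit 0, nat_lit 8, nat_lit 5, nat_lit 3, nat_lit 6, nat_lit 2, nat_lit 4, nat_lit 2, nat_lit 1])) (.leaf ((nat_lit 2), [nat_lit 9, nat_lit 7, nat_lit 5, nat_lit 0, nat_lit 9, nat_lit 8, nat_lit 2, nat_lit 1, nat_lit 8, nat_lit 4, nat_lit 3, nat_lit 6, nat_lit 2, nat_lit 4, nat_lit 2, nat_lit 0]))))))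
 (.node (nat_lit 0x553ffd750229024) (.node (nat_lit 0x553d1508bd2c534) (.node (nat_lit 0x553d1502fd41c3c) (.leaf ((nat_lit 2), [nat_lit 7, nat_lit 5, nat_lit 6, nat_lit 8, nat_lit 6, nat_lit 5, nat_lit 1, nat_lit 7, nat_lit 6, nat_lit 4, nat_lit 2, nat_lit 6, nat_lit 5, nat_lit 4, nat_lit 3, nat_lit 0])) (.leaf ((nat_lit 6), [nat_lit 7, nat_lit 3, nat_lit 5, nat_lit 9, nat_lit 2, nat_lit 7, nat_lit 5, nat_lit 8, nat_lit 1, nat_lit 7, nat_lit 5, nat_lit 6, nat_lit 5, nat_lit 4, nat_lit 2]))) (.node (nat_lit 0x553d1510d2e13f8) (.leaf ((nat_lit 6), [nat_lit 9, nat_lit 4, nat_lit 6, nat_lit 9, nat_lit 8, nat_lit 5, nat_lit 1, nat_lit 8, nat_lit 1, nat_lit 7, nat_lit 3, nat_lit 6, nat_lit 4, nat_lit 3])) (.node (nat_lit 0x553f433008e1a8c) (.leaf ((nat_lit 6), [nat_lit 2, nat_lit 9, nat_lit 7, nat_lit 8, nat_lit 5, nat_lit 8, nat_lit 4, nat_lit 0, nat_lit 7, nat_lit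 2, nat_lit 6, nat_lit 4, nat_lit 3, nat_lit 1])) (.leaf ((nat_lit 2), [nat_lit 1, nat_lit 7, nat_lit 5, nat_lit 8, nat_lit 1, nat_lit 7, nat_lit 6, nat_lit 3])))))
 (.node (nat_lit 0x55422b604bb9e94) (.node (nat_lit 0x55411429e246730) (.leaf ((nat_lit 0), [nat_lit 3, nat_lit 6, nat_lit 3, nat_lit 8, nat_lit 6, nat_lit 5, nat_lit 7, nat_lit 6, nat_lit 5, nat_lit 3, nat_lit 1])) (.leaf ((nat_lit 0), [nat_lit 3, nat_lit 6, nat_lit 3, nat_lit 8, nat_lit 6, nat_lit 5, nat_lit 7, nat_lit 6, nat_lit 3, nat_lit 4, nat_lit 1]))) (.node (nat_lit 0x5542e52193a7b44) (.leaf ((nat_lit 3), [nat_lit 2, nat_lit 2, nat_lit 9, nat_lit 0, nat_lit 9, nat_lit 7, nat_lit 5, nat_lit 0, nat_lit 7, nat_lit 6, nat_lit 3, nat_lit 3, nat_lit 6, nat_lit 4, nat_lit 2, nat_lit 1])) (.node (nat_lit 0x5544594717622ac) (.leaf ((nat_lit 2), [nat_lit 7, nat_lit 8, nat_lit 6, nat_lit 3, nat_lit 8,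 nat_lit 3, nat_lit 6, nat_lit 1, nat_lit 7, nat_lit 5, nat_lit 6, nat_lit 5, nat_lit 4, nat_lit 3, nat_lit 3])) (.leaf ((nat_lit 3), [nat_lit 9, nat_lit 7, nat_lit 5, nat_lit 0, nat_lit 9, nat_lit 8, nat_lit 2, nat_lit 5, nat_lit 8, nat_lit 6, nat_lit 1, nat_lit 7, nat_lit 6, nat_lit 5, nat_lit 1])))))))
 (.node (nat_lit 0x555b98919fb59d0) (.node (nat_lit 0x554ff8e628ca824) (.node (nat_lit 0x554dca7bd9513a4) (.node (nat_lit 0x554dca7619896a0) (.leaf ((nat_lit 2), [nat_lit 8, nat_lit 2, nat_lit 6, nat_lit 0, nat_lit 8, nat_lit 7, nat_lit 0, nat_lit 7, nat_lit 4, nat_lit 3, nat_lit 6, nat_lit 3, nat_lit 0])) (.leaf ((nat_lit 2), [nat_lit 2, nat_lit 2, nat_lit 9, nat_lit 0, nat_lit 9, nat_lit 3, nat_lit 3, nat_lit 8, nat_lit 5, nat_lit 4, nat_lit 7, nat_lit 2, nat_lit 2, nat_lit 6, nat_lit 4, nat_lit 0]))) (.node (nat_lit 0x554dca83ef008d4) (.leaf ((nat_lit 2),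 [nat_lit 6, nat_lit 9, nat_lit 5, nat_lit 9, nat_lit 3, nat_lit 6, nat_lit 3, nat_lit 8, nat_lit 6, nat_lit 7, nat_lit 4, nat_lit 3, nat_lit 6, nat_lit 5, nat_lit 2, nat_lit 0])) (.node (nat_lit 0x554ee1fad8b1864) (.leaf ((nat_lit 2), [nat_lit 1, nat_lit 9, nat_lit 5, nat_lit 9, nat_lit 6, nat_lit 3, nat_lit 8, nat_lit 4, nat_lit 7, nat_lit 2, nat_lit 4, nat_lit 6, nat_lit 4, nat_lit 3, nat_lit 3, nat_lit 3, nat_lit 0])) (.leaf ((nat_lit 0), [nat_lit 4, nat_lit 6, nat_lit 8, nat_lit 4, nat_lit 7, nat_lit 2, nat_lit 4, nat_lit 3, nat_lit 6, nat_lit 3, nat_lit 3])))))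
 (.node (nat_lit 0x55539a839e52634) (.node (nat_lit 0x5552e0cb8028428) (.leaf ((nat_lit 1), [nat_lit 6, nat_lit 9, nat_lit 2, nat_lit 1, nat_lit 9, nat_lit 5, nat_lit 6, nat_lit 8, nat_lit 5, nat_lit 7, nat_lit 5, nat_lit 7, nat_lit 4, nat_lit 2, nat_lit 6, nat_lit 3])) (.leaf ((nat_lit 1), [nat_lit 2, nat_lit 2, nat_lit 9, nat_lit 1, nat_lit 9, nat_lit 1, nat_lit 8, nat_lit 7, nat_lit 1, nat_lit 8, nat_lit 6, nat_lit 2, nat_lit 4, nat_lit 7, nat_lit 4, nat_lit 2, nat_lit 6, nat_lit 5, nat_lit 1]))) (.node (nat_lit 0x5554b1c58763298) (.leaf ((nat_lit 0), [nat_lit 3, nat_lit 6, nat_lit 8, nat_lit 7, nat_lit 0, nat_lit 7, nat_lit 2, nat_lit 6, nat_lit 4])) (.node (nat_lit 0x555b3b51da0f0f8) (.leaf ((nat_lit 1), [nat_lit 2, nat_lit 9, nat_lit 3, nat_lit 5, nat_lit 9, nat_lit 3, nat_lit 8, nat_lit 5, nat_lit 0, nat_lit 7, nat_lit 3, nat_lit 4, nat_lit 3, nat_lit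 3, nat_lit 6, nat_lit 3])) (.leaf ((nat_lit 0), [nat_lit 7, nat_lit 2, nat_lit 5, nat_lit 8, nat_lit 6, nat_lit 7, nat_lit 2, nat_lit 4, nat_lit 6, nat_lit 4, nat_lit 2, nat_lit 2, nat_lit 0]))))))
 (.node (nat_lit 0x555f9767aaf5bc4) (.node (nat_lit 0x555dc5ef55e6974) (.node (nat_lit 0x555caf4903b76c4) (.leaf ((nat_lit 3), [nat_lit 0, nat_lit 7, nat_lit 0, nat_lit 9, nat_lit 1, nat_lit 9, nat_lit 6, nat_lit 5, nat_lit 8, nat_lit 0, nat_lit 8, nat_lit 4, nat_lit 7, nat_lit 2, nat_lit 6, nat_lit 5, nat_lit 4, nat_lit 2, nat_lit 2])) (.leaf ((nat_lit 1), [nat_lit 6, nat_lit 9, nat_lit 2, nat_lit 1, nat_lit 9, nat_lit 5, nat_lit 6, nat_lit 8, nat_lit 2, nat_lit 4, nat_lit 7, nat_lit 6, nat_lit 3, nat_lit 4, nat_lit 6, nat_lit 2, nat_lit 2, nat_lit 0]))) (.node (nat_lit 0x555dc5f5159ada8) (.leaf ((nat_lit 3), [nat_lit 7, nat_lit 9, nat_lit 2, nat_lit 1, nat_lit 9,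 nat_lit 6, nat_lit 1, nat_lit 8, nat_lit 0, nat_lit 7, nat_lit 3, nat_lit 6, nat_lit 2, nat_lit 2, nat_lit 1])) (.node (nat_lit 0x555dc5fd2b6b534) (.leaf ((nat_lit 3), [nat_lit 2, nat_lit 9, nat_lit 3, nat_lit 5, nat_lit 9, nat_lit 3, nat_lit 8, nat_lit 6, nat_lit 0, nat_lit 7, nat_lit 6, nat_lit 4, nat_lit 3, nat_lit 6, nat_lit 5])) (.leaf ((nat_lit 3), [nat_lit 6, nat_lit 9, nat_lit 2, nat_lit 1, nat_lit 9, nat_lit 5, nat_lit 8, nat_lit 6, nat_lit 1, nat_lit 7, nat_lit 6, nat_lit 5, nat_lit 6, nat_lit 2, nat_lit 1])))))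
 (.node (nat_lit 0x5563960ab03b688) (.node (nat_lit 0x5561c512a2d20a4) (.leaf ((nat_lit 0), [nat_lit 1, nat_lit 8, nat_lit 5, nat_lit 6, nat_lit 7, nat_lit 4, nat_lit 3, nat_lit 6, nat_lit 3])) (.leaf ((nat_lit 1), [nat_lit 9, nat_lit 7, nat_lit 5, nat_lit 0, nat_lit 9, nat_lit 2, nat_lit 5, nat_lit 8, nat_lit 6, nat_lit 3, nat_lit 4, nat_lit 7, nat_lit 3, nat_lit 3, nat_lit 0]))) (.node (nat_lit 0x5569660021ba204) (.leaf ((nat_lit 1), [nat_lit 7, nat_lit 9, nat_lit 2, nat_lit 1, nat_lit 9, nat_lit 3, nat_lit 7, nat_lit 0, nat_lit 8, nat_lit 7, nat_lit 5, nat_lit 7, nat_lit 3, nat_lit 6, nat_lit 5, nat_lit 3])) (.node (nat_lit 0x556b93a5e34677c) (.leaf ((nat_lit 2), [nat_lit 9, nat_lit 4, nat_lit 6, nat_lit 9, nat_lit 6, nat_lit 3, nat_lit 1, nat_lit 8, nat_lit 3, nat_lit 4, nat_lit 7, nat_lit 3, nat_lit 4, nat_lit 6, nat_lit 5, nat_lit 2, nat_lit 2])) (.leaf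 ((nat_lit 6), [nat_lit 4, nat_lit 8, nat_lit 2, nat_lit 9, nat_lit 8, nat_lit 3, nat_lit 6, nat_lit 7, nat_lit 3, nat_lit 4, nat_lit 1]))))))))
 (.node (nat_lit 0x5587e8c4d2763a0) (.node (nat_lit 0x5579be70602deb0) (.node (nat_lit 0x556f930bd802a28) (.node (nat_lit 0x556c4dc82ff55cc) (.node (nat_lit 0x556b93b3b8e60a4) (.leaf ((nat_lit 2), [nat_lit 0, nat_lit 7, nat_lit 8, nat_lit 7, nat_lit 5, nat_lit 0, nat_lit 7, nat_lit 5, nat_lit 3, nat_lit 6, nat_lit 3])) (.leaf ((nat_lit 3), [nat_lit 2, nat_lit 2, nat_lit 9, nat_lit 0, nat_lit 9, nat_lit 5, nat_lit 7, nat_lit 5, nat_lit 8, nat_lit 4, nat_lit 7, nat_lit 4, nat_lit 6, nat_lit 5, nat_lit 2, nat_lit 2, nat_lit 0]))) (.node (nat_lit 0x556cab27669db50) (.leaf ((nat_lit 2), [nat_lit 3, nat_lit 6, nat_lit 2, nat_lit 1, nat_lit 8, nat_lit 6, nat_lit 7, nat_lit 2, nat_lit 4, nat_lit 3, nat_lit 6, nat_lit 4, nat_lit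 2, nat_lit 2, nat_lit 0])) (.node (nat_lit 0x556e7bccfcba68c) (.leaf ((nat_lit 1), [nat_lit 0, nat_lit 7, nat_lit 0, nat_lit 9, nat_lit 1, nat_lit 9, nat_lit 5, nat_lit 8, nat_lit 5, nat_lit 8, nat_lit 0, nat_lit 7, nat_lit 5, nat_lit 6])) (.leaf ((nat_lit 2), [nat_lit 2, nat_lit 6, nat_lit 0, nat_lit 8, nat_lit 7, nat_lit 5, nat_lit 6, nat_lit 7, nat_lit 4, nat_lit 2, nat_lit 6, nat_lit 5, nat_lit 3, nat_lit 1])))))
 (.node (nat_lit 0x5571c0deb24c46c) (.node (nat_lit 0x5570a9b61e6eb34) (.leaf ((nat_lit 0), [nat_lit 7, nat_lit 8, nat_lit 1, nat_lit 8, nat_lit 5, nat_lit 1, nat_lit 7, nat_lit 3, nat_lit 4, nat_lit 6, nat_lit 2])) (.leaf ((nat_lit 1), [nat_lit 7, nat_lit 9, nat_lit 2, nat_lit 1, nat_lit 9, nat_lit 5, nat_lit 8, nat_lit 0, nat_lit 8, nat_lit 1, nat_lit 7, nat_lit 3, nat_lit 6, nat_lit 4, nat_lit 2]))) (.node (nat_lit 0x5577ed6e430c264) (.leaf ((nat_lit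 3), [nat_lit 2, nat_lit 9, nat_lit 3, nat_lit 5, nat_lit 9, nat_lit 3, nat_lit 3, nat_lit 8, nat_lit 7, nat_lit 2, nat_lit 2, nat_lit 0])) (.node (nat_lit 0x5578a7ba101c1a4) (.leaf ((nat_lit 1), [nat_lit 9, nat_lit 7, nat_lit 5, nat_lit 0, nat_lit 9, nat_lit 1, nat_lit 8, nat_lit 6, nat_lit 5, nat_lit 1, nat_lit 7, nat_lit 5, nat_lit 4, nat_lit 2, nat_lit 2, nat_lit 1])) (.leaf ((nat_lit 3), [nat_lit 2, nat_lit 7, nat_lit 9, nat_lit 5, nat_lit 9, nat_lit 5, nat_lit 7, nat_lit 0, nat_lit 8, nat_lit 6, nat_lit 7, nat_lit 6, nat_lit 4, nat_lit 2, nat_lit 2, nat_lit 0]))))))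
 (.node (nat_lit 0x557d03a1e2a5858) (.node (nat_lit 0x557ca615ef78c74) (.node (nat_lit 0x557bec9583a2ee8) (.leaf ((nat_lit 1), [nat_lit 2, nat_lit 7, nat_lit 9, nat_lit 5, nat_lit 9, nat_lit 8, nat_lit 0, nat_lit 7, nat_lit 8, nat_lit 6, nat_lit 7, nat_lit 4, nat_lit 3, nat_lit 6, nat_lit 2, nat_lit 1])) (.leaf ((nat_lit 3), [nat_lit 2, nat_lit 2, nat_lit 9, nat_lit 1, nat_lit 9, nat_lit 7, nat_lit 5, nat_lit 6, nat_lit 8, nat_lit 5, nat_lit 7, nat_lit 6, nat_lit 5, nat_lit 3, nat_lit 1]))) (.node (nat_lit 0x557ca61e6138bf4) (.leaf ((nat_lit 3), [nat_lit 0, nat_lit 7, nat_lit 0, nat_lit 9, nat_lit 1, nat_lit 9, nat_lit 6, nat_lit 7, nat_lit 2, nat_lit 1, nat_lit 8, nat_lit 6, nat_lit 5, nat_lit 7, nat_lit 6, nat_lit 3, nat_lit 3, nat_lit 6, nat_lit 1])) (.node (nat_lit 0x557ca623c4f0014) (.leaf ((nat_lit 6), [nat_lit 1, nat_lit 9, nat_lit 5, nat_lit 3, nat_lit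 9, nat_lit 8, nat_lit 0, nat_lit 8, nat_lit 5, nat_lit 7, nat_lit 5, nat_lit 6, nat_lit 2, nat_lit 0])) (.leaf ((nat_lit 2), [nat_lit 6, nat_lit 9, nat_lit 5, nat_lit 9, nat_lit 1, nat_lit 8, nat_lit 1, nat_lit 8, nat_lit 4, nat_lit 1, nat_lit 7, nat_lit 3, nat_lit 3, nat_lit 6, nat_lit 0])))))
 (.node (nat_lit 0x55878c257d6c5d4) (.node (nat_lit 0x5580a51f2f4a648) (.leaf ((nat_lit 1), [nat_lit 6, nat_lit 9, nat_lit 5, nat_lit 3, nat_lit 1, nat_lit 9, nat_lit 3, nat_lit 5, nat_lit 8, nat_lit 6, nat_lit 5, nat_lit 1, nat_lit 7, nat_lit 5, nat_lit 2, nat_lit 0])) (.leaf ((nat_lit 2), [nat_lit 8, nat_lit 5, nat_lit 0, nat_lit 8, nat_lit 1, nat_lit 7, nat_lit 3, nat_lit 6, nat_lit 3]))) (.node (nat_lit 0x5587e8b6fcdc578) (.leaf ((nat_lit 0), [nat_lit 8, nat_lit 1, nat_lit 8, nat_lit 3, nat_lit 6, nat_lit 7, nat_lit 3, nat_lit 4, nat_lit 6, nat_lit 4, nat_lit 3, nat_lit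 3, nat_lit 0])) (.node (nat_lit 0x5587e8bf6e88c28) (.leaf ((nat_lit 2), [nat_lit 6, nat_lit 1, nat_lit 8, nat_lit 6, nat_lit 0, nat_lit 7, nat_lit 3, nat_lit 6, nat_lit 5, nat_lit 2, nat_lit 4, nat_lit 2, nat_lit 1])) (.leaf ((nat_lit 3), [nat_lit 9, nat_lit 7, nat_lit 5, nat_lit 0, nat_lit 9, nat_lit 1, nat_lit 8, nat_lit 5, nat_lit 7, nat_lit 5, nat_lit 7, nat_lit 6, nat_lit 5, nat_lit 4, nat_lit 3])))))))
 (.node (nat_lit 0x5599581e0b1e3f4) (.node (nat_lit 0x558f2cc16b00b24) (.node (nat_lit 0x558a16f461fa944) (.node (nat_lit 0x5589004067e42e4) (.leaf ((nat_lit 6), [nat_lit 6, nat_lit 9, nat_lit 2, nat_lit 1, nat_lit 9, nat_lit 7, nat_lit 8, nat_lit 7, nat_lit 0, nat_lit 8, nat_lit 5, nat_lit 7, nat_lit 3, nat_lit 4, nat_lit 6, nat_lit 5, nat_lit 2, nat_lit 1])) (.leaf ((nat_lit 0), [nat_lit 3, nat_lit 5, nat_lit 8, nat_lit 6, nat_lit 7, nat_lit 5, nat_lit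 6, nat_lit 5, nat_lit 3, nat_lit 6, nat_lit 2, nat_lit 1]))) (.node (nat_lit 0x558be7e42ba2f84) (.leaf ((nat_lit 0), [nat_lit 3, nat_lit 1, nat_lit 8, nat_lit 6, nat_lit 5, nat_lit 1, nat_lit 7, nat_lit 6, nat_lit 5, nat_lit 3])) (.node (nat_lit 0x558d5c0fcb2c344) (.leaf ((nat_lit 0), [nat_lit 2, nat_lit 5, nat_lit 8, nat_lit 5, nat_lit 7, nat_lit 5, nat_lit 7, nat_lit 6, nat_lit 5, nat_lit 4])) (.leaf ((nat_lit 0), [nat_lit 6, nat_lit 3, nat_lit 0, nat_lit 8, nat_lit 5, nat_lit 7, nat_lit 6, nat_lit 2, nat_lit 4, nat_lit 6, nat_lit 4, nat_lit 0])))))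
 (.node (nat_lit 0x55984161159f104) (.node (nat_lit 0x559559b9300d124) (.leaf ((nat_lit 1), [nat_lit 2, nat_lit 9, nat_lit 3, nat_lit 5, nat_lit 9, nat_lit 7, nat_lit 0, nat_lit 8, nat_lit 6, nat_lit 0, nat_lit 7, nat_lit 2, nat_lit 6, nat_lit 5, nat_lit 4, nat_lit 3])) (.leaf ((nat_lit 3), [nat_lit 6, nat_lit 9, nat_lit 2, nat_lit 1, nat_lit 9, nat_lit 8, nat_lit 5, nat_lit 1, nat_lit 8, nat_lit 6, nat_lit 7, nat_lit 3, nat_lit 3, nat_lit 6, nat_lit 4, nat_lit 2, nat_lit 1]))) (.node (nat_lit 0x5599580ddf83b3c) (.leaf ((nat_lit 1), [nat_lit 2, nat_lit 7, nat_lit 9, nat_lit 5, nat_lit 9, nat_lit 1, nat_lit 8, nat_lit 1, nat_lit 8, nat_lit 7, nat_lit 5, nat_lit 1, nat_lit 7, nat_lit 6, nat_lit 5, nat_lit 3, nat_lit 6, nat_lit 5])) (.node (nat_lit 0x55995815f55b760) (.leaf ((nat_lit 6), [nat_lit 5, nat_lit 2, nat_lit 1, nat_lit 9, nat_lit 1, nat_lit 8, nat_lit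 1, nat_lit 8, nat_lit 0, nat_lit 7, nat_lit 6, nat_lit 5, nat_lit 3, nat_lit 6, nat_lit 3, nat_lit 3, nat_lit 3, nat_lit 1])) (.leaf ((nat_lit 3), [nat_lit 2, nat_lit 7, nat_lit 9, nat_lit 5, nat_lit 9, nat_lit 4, nat_lit 0, nat_lit 7, nat_lit 8, nat_lit 7, nat_lit 5, nat_lit 0, nat_lit 7, nat_lit 3, nat_lit 4, nat_lit 6, nat_lit 0]))))))
 (.node (nat_lit 0x55a49aaeed02e74) (.node (nat_lit 0x559cfa34f4ab1c8) (.node (nat_lit 0x559b2998881bc6c) (.leaf ((nat_lit 2), [nat_lit 7, nat_lit 5, nat_lit 8, nat_lit 1, nat_lit 8, nat_lit 7, nat_lit 2, nat_lit 4, nat_lit 7, nat_lit 2, nat_lit 2, nat_lit 6, nat_lit 2, nat_lit 4, nat_lit 0])) (.leaf ((nat_lit 3), [nat_lit 6, nat_lit 9, nat_lit 5, nat_lit 3, nat_lit 1, nat_lit 9, nat_lit 5, nat_lit 8, nat_lit 6, nat_lit 3, nat_lit 4, nat_lit 7, nat_lit 3, nat_lit 6, nat_lit 3, nat_lit 3]))) (.node (nat_lit 0x559e116d8624c64)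 (.leaf ((nat_lit 0), [nat_lit 4, nat_lit 6, nat_lit 8, nat_lit 5, nat_lit 6, nat_lit 5, nat_lit 3, nat_lit 6, nat_lit 5, nat_lit 3])) (.node (nat_lit 0x55a3e15ab3cec94) (.leaf ((nat_lit 1), [nat_lit 7, nat_lit 9, nat_lit 2, nat_lit 1, nat_lit 9, nat_lit 8, nat_lit 5, nat_lit 2, nat_lit 8, nat_lit 6, nat_lit 4, nat_lit 3, nat_lit 6, nat_lit 5, nat_lit 2, nat_lit 4, nat_lit 2])) (.leaf ((nat_lit 1), [nat_lit 2, nat_lit 2, nat_lit 9, nat_lit 1, nat_lit 9, nat_lit 4, nat_lit 0, nat_lit 7, nat_lit 8, nat_lit 7, nat_lit 5, nat_lit 7, nat_lit 5])))))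
 (.node (nat_lit 0x55a49abf186e594) (.node (nat_lit 0x55a49ab702beef8) (.leaf ((nat_lit 6), [nat_lit 1, nat_lit 9, nat_lit 6, nat_lit 1, nat_lit 9, nat_lit 0, nat_lit 8, nat_lit 6, nat_lit 3, nat_lit 8, nat_lit 6, nat_lit 3, nat_lit 3, nat_lit 3])) (.leaf ((nat_lit 3), [nat_lit 2, nat_lit 2, nat_lit 9, nat_lit 1, nat_lit 9, nat_lit 5, nat_lit 7, nat_lit 6, nat_lit 8, nat_lit 5, nat_lit 7, nat_lit 4, nat_lit 2, nat_lit 6, nat_lit 5, nat_lit 4, nat_lit 3, nat_lit 0]))) (.node (nat_lit 0x55a5b229ca7df50) (.leaf ((nat_lit 2), [nat_lit 0, nat_lit 8, nat_lit 6, nat_lit 3, nat_lit 8, nat_lit 1, nat_lit 7, nat_lit 2, nat_lit 6, nat_lit 4, nat_lit 3, nat_lit 3, nat_lit 3, nat_lit 1])) (.node (nat_lit 0x55a899cf5a29dc4) (.leaf ((nat_lit 0), [nat_lit 3, nat_lit 6, nat_lit 3, nat_lit 8, nat_lit 2, nat_lit 4, nat_lit 7, nat_lit 4, nat_lit 3, nat_lit 3, nat_lit 1])) (.leaf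 ((nat_lit 0), [nat_lit 5, nat_lit 8, nat_lit 1, nat_lit 8, nat_lit 0, nat_lit 7, nat_lit 4, nat_lit 6, nat_lit 5, nat_lit 4, nat_lit 1])))))))))
 (.node (nat_lit 0x55ef6e4e432343c) (.node (nat_lit 0x55ca046290fc2b8) (.node (nat_lit 0x55b8f262fd75b34) (.node (nat_lit 0x55b4f32519442a4) (.node (nat_lit 0x55ac3bbd4cd6ab8) (.node (nat_lit 0x55abdf0080a4758) (.leaf ((nat_lit 1), [nat_lit 2, nat_lit 2, nat_lit 9, nat_lit 0, nat_lit 9, nat_lit 1, nat_lit 8, nat_lit 6, nat_lit 1, nat_lit 8, nat_lit 7, nat_lit 1, nat_lit 7, nat_lit 4])) (.leaf ((nat_lit 1), [nat_lit 9, nat_lit 7, nat_lit 5, nat_lit 0, nat_lit 9, nat_lit 3, nat_lit 5, nat_lit 6, nat_lit 8, nat_lit 6, nat_lit 5, nat_lit 0, nat_lit 7, nat_lit 2, nat_lit 4, nat_lit 3, nat_lit 6]))) (.node (nat_lit 0x55b3dc7de12a370) (.leaf ((nat_lit 0), [nat_lit 8, nat_lit 4, nat_lit 6, nat_lit 8, nat_lit 7, nat_lit 3, nat_lit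 3, nat_lit 6, nat_lit 0])) (.node (nat_lit 0x55b496bdd28c7a4) (.leaf ((nat_lit 2), [nat_lit 9, nat_lit 2, nat_lit 1, nat_lit 9, nat_lit 7, nat_lit 1, nat_lit 7, nat_lit 8, nat_lit 5, nat_lit 4, nat_lit 7, nat_lit 4, nat_lit 2, nat_lit 2])) (.leaf ((nat_lit 3), [nat_lit 7, nat_lit 9, nat_lit 2, nat_lit 1, nat_lit 9, nat_lit 8, nat_lit 0, nat_lit 7, nat_lit 8, nat_lit 6, nat_lit 3, nat_lit 3, nat_lit 6, nat_lit 5, nat_lit 2])))))
 (.node (nat_lit 0x55b4f33544cafb4) (.node (nat_lit 0x55b4f32d2ef3668) (.leaf ((nat_lit 6), [nat_lit 9, nat_lit 6, nat_lit 3, nat_lit 9, nat_lit 4, nat_lit 0, nat_lit 7, nat_lit 8, nat_lit 6, nat_lit 3, nat_lit 4, nat_lit 6, nat_lit 5, nat_lit 2, nat_lit 2])) (.leaf ((nat_lit 3), [nat_lit 6, nat_lit 9, nat_lit 5, nat_lit 3, nat_lit 1, nat_lit 9, nat_lit 3, nat_lit 6, nat_lit 3, nat_lit 8, nat_lit 4, nat_lit 0, nat_lit 7, nat_lit 4, nat_lit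 0]))) (.node (nat_lit 0x55b5adb0ae61524) (.leaf ((nat_lit 2), [nat_lit 2, nat_lit 5, nat_lit 8, nat_lit 4, nat_lit 0, nat_lit 7, nat_lit 5, nat_lit 6, nat_lit 2, nat_lit 4, nat_lit 2])) (.node (nat_lit 0x55b7217613b20f8) (.leaf ((nat_lit 1), [nat_lit 0, nat_lit 7, nat_lit 0, nat_lit 9, nat_lit 1, nat_lit 9, nat_lit 7, nat_lit 6, nat_lit 8, nat_lit 5, nat_lit 6, nat_lit 7, nat_lit 3, nat_lit 3, nat_lit 6, nat_lit 3, nat_lit 3, nat_lit 3])) (.leaf ((nat_lit 0), [nat_lit 5, nat_lit 1, nat_lit 8, nat_lit 7, nat_lit 6, nat_lit 2, nat_lit 4, nat_lit 6, nat_lit 2, nat_lit 4]))))))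
 (.node (nat_lit 0x55c2c0e0aec6e44) (.node (nat_lit 0x55c1aa32a26e0e4) (.node (nat_lit 0x55bbda73fd2c0c4) (.leaf ((nat_lit 2), [nat_lit 9, nat_lit 2, nat_lit 6, nat_lit 9, nat_lit 7, nat_lit 5, nat_lit 8, nat_lit 1, nat_lit 8, nat_lit 7, nat_lit 2, nat_lit 4, nat_lit 3, nat_lit 6, nat_lit 5, nat_lit 4])) (.leaf ((nat_lit 0), [nat_lit 2, nat_lit 6, nat_lit 8, nat_lit 5, nat_lit 1, nat_lit 7, nat_lit 6, nat_lit 5, nat_lit 6, nat_lit 5, nat_lit 3]))) (.node (nat_lit 0x55c2639f4ac81bc) (.leaf ((nat_lit 2), [nat_lit 1, nat_lit 7, nat_lit 5, nat_lit 8, nat_lit 6, nat_lit 3, nat_lit 4, nat_lit 7, nat_lit 6, nat_lit 3, nat_lit 4, nat_lit 6, nat_lit 5, nat_lit 4, nat_lit 0])) (.node (nat_lit 0x55c2c0daeed810c) (.leaf ((nat_lit 3), [nat_lit 2, nat_lit 9, nat_lit 3, nat_lit 5, nat_lit 9, nat_lit 4, nat_lit 8, nat_lit 0, nat_lit 8, nat_lit 0, nat_lit 7, nat_lit 6, nat_lit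 3, nat_lit 4])) (.leaf ((nat_lit 6), [nat_lit 9, nat_lit 1, nat_lit 7, nat_lit 1, nat_lit 9, nat_lit 0, nat_lit 8, nat_lit 2, nat_lit 4, nat_lit 3, nat_lit 6, nat_lit 4, nat_lit 3])))))
 (.node (nat_lit 0x55c3d822f3d6454) (.node (nat_lit 0x55c2c0e8c481530) (.leaf ((nat_lit 3), [nat_lit 2, nat_lit 2, nat_lit 9, nat_lit 1, nat_lit 9, nat_lit 6, nat_lit 1, nat_lit 8, nat_lit 2, nat_lit 6, nat_lit 3, nat_lit 3, nat_lit 0])) (.leaf ((nat_lit 2), [nat_lit 8, nat_lit 6, nat_lit 2, nat_lit 4, nat_lit 7, nat_lit 3, nat_lit 6, nat_lit 5, nat_lit 4, nat_lit 2, nat_lit 2, nat_lit 0]))) (.node (nat_lit 0x55c8337aaf28e74) (.leaf ((nat_lit 0), [nat_lit 7, nat_lit 8, nat_lit 4, nat_lit 7, nat_lit 6, nat_lit 4, nat_lit 3, nat_lit 6, nat_lit 2, nat_lit 4, nat_lit 3])) (.node (nat_lit 0x55c8ede6d328cec) (.leaf ((nat_lit 1), [nat_lit 2, nat_lit 7, nat_lit 9, nat_lit 5, nat_lit 9,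 nat_lit 4, nat_lit 6, nat_lit 8, nat_lit 6, nat_lit 7, nat_lit 5, nat_lit 6, nat_lit 5, nat_lit 0])) (.leaf ((nat_lit 2), [nat_lit 2, nat_lit 9, nat_lit 3, nat_lit 5, nat_lit 9, nat_lit 3, nat_lit 0, nat_lit 8, nat_lit 3, nat_lit 6, nat_lit 1, nat_lit 7, nat_lit 4, nat_lit 6, nat_lit 5])))))))
 (.node (nat_lit 0x55df162f960ade8) (.node (nat_lit 0x55d88be8c5a6ef4) (.node (nat_lit 0x55d2bc231e9d994) (.node (nat_lit 0x55d1481df198860) (.leaf ((nat_lit 1), [nat_lit 2, nat_lit 2, nat_lit 9, nat_lit 0, nat_lit 9, nat_lit 6, nat_lit 3, nat_lit 0, nat_lit 8, nat_lit 6, nat_lit 7, nat_lit 4, nat_lit 3, nat_lit 3, nat_lit 6, nat_lit 5, nat_lit 3, nat_lit 4, nat_lit 1])) (.leaf ((nat_lit 3), [nat_lit 6, nat_lit 9, nat_lit 2, nat_lit 1, nat_lit 9, nat_lit 6, nat_lit 8, nat_lit 7, nat_lit 5, nat_lit 7, nat_lit 6, nat_lit 4, nat_lit 2, nat_lit 6, nat_lit 2, nat_lit 0]))) (.node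 (nat_lit 0x55d3d3969e6a2e4) (.leaf ((nat_lit 0), [nat_lit 6, nat_lit 7, nat_lit 1, nat_lit 8, nat_lit 4, nat_lit 3, nat_lit 3, nat_lit 6, nat_lit 3, nat_lit 4])) (.node (nat_lit 0x55d5a3fc1086734) (.leaf ((nat_lit 2), [nat_lit 9, nat_lit 5, nat_lit 8, nat_lit 1, nat_lit 9, nat_lit 7, nat_lit 8, nat_lit 6, nat_lit 7, nat_lit 2, nat_lit 4, nat_lit 6, nat_lit 3, nat_lit 0])) (.leaf ((nat_lit 0), [nat_lit 5, nat_lit 6, nat_lit 8, nat_lit 5, nat_lit 6, nat_lit 7, nat_lit 6, nat_lit 3, nat_lit 3, nat_lit 6, nat_lit 2])))))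
 (.node (nat_lit 0x55de5bf22898874) (.node (nat_lit 0x55d9466d58e8698) (.leaf ((nat_lit 0), [nat_lit 8, nat_lit 0, nat_lit 8, nat_lit 5, nat_lit 6, nat_lit 3, nat_lit 4, nat_lit 3, nat_lit 0])) (.leaf ((nat_lit 0), [nat_lit 1, nat_lit 8, nat_lit 7, nat_lit 0, nat_lit 7, nat_lit 5, nat_lit 6, nat_lit 5, nat_lit 2, nat_lit 1]))) (.node (nat_lit 0x55de5bf7e873a04) (.leaf ((nat_lit 2), [nat_lit 4, nat_lit 1, nat_lit 9, nat_lit 5, nat_lit 9, nat_lit 7, nat_lit 8, nat_lit 1, nat_lit 7, nat_lit 4, nat_lit 2, nat_lit 6, nat_lit 5, nat_lit 3, nat_lit 4, nat_lit 3, nat_lit 3, nat_lit 1])) (.node (nat_lit 0x55de5bfffe19438) (.leaf ((nat_lit 6), [nat_lit 2, nat_lit 5, nat_lit 6, nat_lit 9, nat_lit 4, nat_lit 8, nat_lit 1, nat_lit 8, nat_lit 6, nat_lit 0, nat_lit 7, nat_lit 4, nat_lit 6, nat_lit 4, nat_lit 0])) (.leaf ((nat_lit 3), [nat_lit 6, nat_lit 9, nat_lit 5, nat_lit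 3, nat_lit 1, nat_lit 9, nat_lit 5, nat_lit 8, nat_lit 2, nat_lit 1, nat_lit 8, nat_lit 7, nat_lit 6, nat_lit 5, nat_lit 2, nat_lit 0]))))))
 (.node (nat_lit 0x55e4e5c0c6dc3e4) (.node (nat_lit 0x55e314916321328) (.node (nat_lit 0x55e2b81659148d0) (.leaf ((nat_lit 1), [nat_lit 7, nat_lit 9, nat_lit 2, nat_lit 1, nat_lit 9, nat_lit 3, nat_lit 1, nat_lit 8, nat_lit 6, nat_lit 7, nat_lit 4, nat_lit 3, nat_lit 6, nat_lit 5, nat_lit 4, nat_lit 3])) (.leaf ((nat_lit 0), [nat_lit 3, nat_lit 5, nat_lit 8, nat_lit 4, nat_lit 7, nat_lit 5, nat_lit 6, nat_lit 3, nat_lit 3]))) (.node (nat_lit 0x55e48910bc42dc4) (.leaf ((nat_lit 1), [nat_lit 9, nat_lit 7, nat_lit 5, nat_lit 0, nat_lit 9, nat_lit 7, nat_lit 5, nat_lit 1, nat_lit 8, nat_lit 6, nat_lit 1, nat_lit 7, nat_lit 5, nat_lit 3, nat_lit 6, nat_lit 5, nat_lit 4, nat_lit 1])) (.node (nat_lit 0x55e4e5bb071c844) (.leaf ((nat_lit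 1), [nat_lit 6, nat_lit 9, nat_lit 5, nat_lit 3, nat_lit 1, nat_lit 9, nat_lit 6, nat_lit 8, nat_lit 0, nat_lit 8, nat_lit 6, nat_lit 5, nat_lit 2, nat_lit 0])) (.leaf ((nat_lit 3), [nat_lit 2, nat_lit 7, nat_lit 9, nat_lit 5, nat_lit 9, nat_lit 3, nat_lit 6, nat_lit 3, nat_lit 8, nat_lit 3, nat_lit 4, nat_lit 6, nat_lit 4])))))
 (.node (nat_lit 0x55e59f7d6290324) (.node (nat_lit 0x55e4e5c8dcaa0c8) (.leaf ((nat_lit 2), [nat_lit 1, nat_lit 9, nat_lit 5, nat_lit 9, nat_lit 6, nat_lit 0, nat_lit 8, nat_lit 4, nat_lit 7, nat_lit 6, nat_lit 4, nat_lit 2, nat_lit 6, nat_lit 4, nat_lit 2])) (.leaf ((nat_lit 6), [nat_lit 5, nat_lit 9, nat_lit 6, nat_lit 4, nat_lit 9, nat_lit 7, nat_lit 5, nat_lit 6, nat_lit 8, nat_lit 2, nat_lit 2, nat_lit 6, nat_lit 5, nat_lit 0]))) (.node (nat_lit 0x55e770e6a040264) (.leaf ((nat_lit 3), [nat_lit 7, nat_lit 9, nat_lit 2, nat_lit 1,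 nat_lit 9, nat_lit 3, nat_lit 3, nat_lit 8, nat_lit 5, nat_lit 7, nat_lit 5, nat_lit 0, nat_lit 7, nat_lit 3, nat_lit 4])) (.node (nat_lit 0x55edfa5017de7f4) (.leaf ((nat_lit 1), [nat_lit 2, nat_lit 7, nat_lit 9, nat_lit 5, nat_lit 9, nat_lit 7, nat_lit 3, nat_lit 3, nat_lit 6, nat_lit 5, nat_lit 3])) (.leaf ((nat_lit 3), [nat_lit 0, nat_lit 7, nat_lit 0, nat_lit 9, nat_lit 1, nat_lit 9, nat_lit 6, nat_lit 0, nat_lit 8, nat_lit 4, nat_lit 7, nat_lit 5, nat_lit 3, nat_lit 6, nat_lit 5, nat_lit 2, nat_lit 0]))))))))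
 (.node (nat_lit 0x560c7ddaf455394) (.node (nat_lit 0x55fd9907ae7bca4) (.node (nat_lit 0x55f2562e36d39f4) (.node (nat_lit 0x55f1f9619b6500c) (.node (nat_lit 0x55f028da0659ce4) (.leaf ((nat_lit 3), [nat_lit 9, nat_lit 7, nat_lit 5, nat_lit 0, nat_lit 9, nat_lit 1, nat_lit 8, nat_lit 7, nat_lit 1, nat_lit 8, nat_lit 4, nat_lit 0, nat_lit 7, nat_lit 2, nat_lit 2, nat_lit 0])) (.leaf ((nat_lit 1), [nat_lit 7, nat_lit 9, nat_lit 2, nat_lit 1, nat_lit 9, nat_lit 1, nat_lit 8, nat_lit 0, nat_lit 7, nat_lit 3, nat_lit 3, nat_lit 3, nat_lit 6, nat_lit 5, nat_lit 2, nat_lit 1]))) (.node (nat_lit 0x55f1f969b132fc8) (.leaf ((nat_lit 6), [nat_lit 2, nat_lit 1, nat_lit 9, nat_lit 0, nat_lit 7, nat_lit 8, nat_lit 3, nat_lit 3, nat_lit 3, nat_lit 6, nat_lit 4, nat_lit 3, nat_lit 1])) (.node (nat_lit 0x55f1f971c6fb484) (.leaf ((nat_lit 2), [nat_lit 8, nat_lit 6, nat_lit 3, nat_lit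 8, nat_lit 6, nat_lit 5, nat_lit 7, nat_lit 6, nat_lit 4, nat_lit 3, nat_lit 0])) (.leaf ((nat_lit 3), [nat_lit 6, nat_lit 9, nat_lit 2, nat_lit 1, nat_lit 9, nat_lit 7, nat_lit 1, nat_lit 8, nat_lit 0, nat_lit 7, nat_lit 5, nat_lit 6, nat_lit 5, nat_lit 2, nat_lit 0])))))
 (.node (nat_lit 0x55f655811ffd1ec) (.node (nat_lit 0x55f484b34b66864) (.leaf ((nat_lit 3), [nat_lit 2, nat_lit 2, nat_lit 9, nat_lit 1, nat_lit 9, nat_lit 1, nat_lit 8, nat_lit 7, nat_lit 5, nat_lit 7, nat_lit 2, nat_lit 2, nat_lit 6])) (.leaf ((nat_lit 0), [nat_lit 7, nat_lit 6, nat_lit 8, nat_lit 5, nat_lit 6, nat_lit 7, nat_lit 6, nat_lit 4, nat_lit 3, nat_lit 6]))) (.node (nat_lit 0x55fc8269cdbabe8) (.leaf ((nat_lit 2), [nat_lit 7, nat_lit 2, nat_lit 8, nat_lit 3, nat_lit 4, nat_lit 7, nat_lit 3, nat_lit 4, nat_lit 6, nat_lit 2, nat_lit 4, nat_lit 2, nat_lit 1])) (.node (nat_lit 0x55fd98ff98d6270)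 (.leaf ((nat_lit 0), [nat_lit 7, nat_lit 1, nat_lit 8, nat_lit 7, nat_lit 3, nat_lit 4, nat_lit 7, nat_lit 5, nat_lit 2, nat_lit 4, nat_lit 2, nat_lit 0])) (.leaf ((nat_lit 6), [nat_lit 1, nat_lit 9, nat_lit 5, nat_lit 9, nat_lit 2, nat_lit 6, nat_lit 8, nat_lit 1, nat_lit 7, nat_lit 3, nat_lit 3, nat_lit 6, nat_lit 5, nat_lit 1]))))))
 (.node (nat_lit 0x5601f5270515458) (.node (nat_lit 0x55feafb55e83ff4) (.node (nat_lit 0x55fd990fc449af4) (.leaf ((nat_lit 2), [nat_lit 6, nat_lit 9, nat_lit 5, nat_lit 9, nat_lit 8, nat_lit 6, nat_lit 2, nat_lit 8, nat_lit 0, nat_lit 7, nat_lit 5, nat_lit 2, nat_lit 4, nat_lit 2])) (.leaf ((nat_lit 3), [nat_lit 7, nat_lit 9, nat_lit 2, nat_lit 1, nat_lit 9, nat_lit 3, nat_lit 7, nat_lit 0, nat_lit 8, nat_lit 1, nat_lit 7, nat_lit 5, nat_lit 3, nat_lit 6, nat_lit 4, nat_lit 1]))) (.node (nat_lit 0x55ffc72f55f8024) (.leaf ((nat_lit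 0), [nat_lit 8, nat_lit 7, nat_lit 0, nat_lit 8, nat_lit 4, nat_lit 7, nat_lit 4, nat_lit 3, nat_lit 3, nat_lit 6, nat_lit 4])) (.node (nat_lit 0x560080cc52cb594) (.leaf ((nat_lit 0), [nat_lit 5, nat_lit 7, nat_lit 8, nat_lit 5, nat_lit 7, nat_lit 5, nat_lit 1, nat_lit 7, nat_lit 2, nat_lit 6, nat_lit 0])) (.leaf ((nat_lit 0), [nat_lit 2, nat_lit 2, nat_lit 8, nat_lit 7, nat_lit 0, nat_lit 7, nat_lit 3, nat_lit 3, nat_lit 3, nat_lit 1])))))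
 (.node (nat_lit 0x56048024cdf6e64) (.node (nat_lit 0x56030ba65acb924) (.leaf ((nat_lit 0), [nat_lit 7, nat_lit 5, nat_lit 8, nat_lit 2, nat_lit 6, nat_lit 3, nat_lit 4, nat_lit 1])) (.leaf ((nat_lit 1), [nat_lit 2, nat_lit 2, nat_lit 9, nat_lit 0, nat_lit 9, nat_lit 4, nat_lit 3, nat_lit 8, nat_lit 6, nat_lit 7, nat_lit 2, nat_lit 4, nat_lit 6, nat_lit 5, nat_lit 3, nat_lit 3, nat_lit 1]))) (.node (nat_lit 0x560aacd98f50364) (.leaf ((nat_lit 1), [nat_lit 2, nat_lit 7, nat_lit 9, nat_lit 5, nat_lit 9, nat_lit 7, nat_lit 8, nat_lit 0, nat_lit 7, nat_lit 4, nat_lit 2, nat_lit 2, nat_lit 6, nat_lit 2, nat_lit 2])) (.node (nat_lit 0x560b666ade7ace8) (.leaf ((nat_lit 2), [nat_lit 7, nat_lit 2, nat_lit 5, nat_lit 8, nat_lit 3, nat_lit 6, nat_lit 7, nat_lit 2, nat_lit 6, nat_lit 4, nat_lit 3, nat_lit 1])) (.leaf ((nat_lit 1), [nat_lit 2, nat_lit 9, nat_lit 3, nat_lit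 5, nat_lit 9, nat_lit 4, nat_lit 8, nat_lit 0, nat_lit 8, nat_lit 6, nat_lit 1, nat_lit 7, nat_lit 3, nat_lit 6, nat_lit 5, nat_lit 4, nat_lit 3, nat_lit 0])))))))
 (.node (nat_lit 0x561aa85d9348568) (.node (nat_lit 0x56124daf84c4e44) (.node (nat_lit 0x560df17ddad1504) (.node (nat_lit 0x560df175c51e144) (.leaf ((nat_lit 2), [nat_lit 9, nat_lit 6, nat_lit 3, nat_lit 9, nat_lit 7, nat_lit 8, nat_lit 1, nat_lit 8, nat_lit 3, nat_lit 6, nat_lit 7, nat_lit 5, nat_lit 2, nat_lit 4, nat_lit 3])) (.leaf ((nat_lit 6), [nat_lit 2, nat_lit 1, nat_lit 9, nat_lit 5, nat_lit 6, nat_lit 8, nat_lit 6, nat_lit 5, nat_lit 7, nat_lit 2, nat_lit 2, nat_lit 6, nat_lit 3, nat_lit 1]))) (.node (nat_lit 0x560df185f07e0f8) (.leaf ((nat_lit 2), [nat_lit 8, nat_lit 2, nat_lit 1, nat_lit 8, nat_lit 4, nat_lit 1, nat_lit 7, nat_lit 4, nat_lit 2, nat_lit 2, nat_lit 6, nat_lit 2, nat_lit 4,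 nat_lit 3])) (.node (nat_lit 0x5611362fcd8a0b4) (.leaf ((nat_lit 3), [nat_lit 2, nat_lit 9, nat_lit 3, nat_lit 5, nat_lit 9, nat_lit 7, nat_lit 8, nat_lit 7, nat_lit 0, nat_lit 8, nat_lit 2, nat_lit 4, nat_lit 7, nat_lit 2, nat_lit 6, nat_lit 5, nat_lit 3, nat_lit 4, nat_lit 0])) (.leaf ((nat_lit 1), [nat_lit 0, nat_lit 7, nat_lit 0, nat_lit 9, nat_lit 1, nat_lit 9, nat_lit 7, nat_lit 2, nat_lit 5, nat_lit 8, nat_lit 6, nat_lit 1, nat_lit 7, nat_lit 5, nat_lit 3, nat_lit 6, nat_lit 5, nat_lit 2])))))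
 (.node (nat_lit 0x5619ee26f98f50c) (.node (nat_lit 0x5613072d10b77f8) (.leaf ((nat_lit 1), [nat_lit 9, nat_lit 7, nat_lit 5, nat_lit 0, nat_lit 9, nat_lit 7, nat_lit 2, nat_lit 5, nat_lit 8, nat_lit 4, nat_lit 1, nat_lit 7, nat_lit 4, nat_lit 6, nat_lit 5, nat_lit 4, nat_lit 0])) (.leaf ((nat_lit 0), [nat_lit 5, nat_lit 6, nat_lit 8, nat_lit 2, nat_lit 4, nat_lit 7, nat_lit 5, nat_lit 6, nat_lit 3, nat_lit 4, nat_lit 3]))) (.node (nat_lit 0x5619ee2f0f5d634) (.leaf ((nat_lit 6), [nat_lit 6, nat_lit 9, nat_lit 2, nat_lit 1, nat_lit 9, nat_lit 7, nat_lit 2, nat_lit 8, nat_lit 6, nat_lit 1, nat_lit 7, nat_lit 3, nat_lit 6, nat_lit 4, nat_lit 2, nat_lit 1])) (.node (nat_lit 0x5619ee34a132d44) (.leaf ((nat_lit 6), [nat_lit 3, nat_lit 3, nat_lit 9, nat_lit 4, nat_lit 8, nat_lit 6, nat_lit 3, nat_lit 8, nat_lit 6, nat_lit 5, nat_lit 0, nat_lit 7, nat_lit 3, nat_lit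 4, nat_lit 6, nat_lit 2, nat_lit 2])) (.leaf ((nat_lit 6), [nat_lit 8, nat_lit 2, nat_lit 9, nat_lit 6, nat_lit 8, nat_lit 0, nat_lit 8, nat_lit 3, nat_lit 6, nat_lit 7, nat_lit 2, nat_lit 6, nat_lit 2, nat_lit 2]))))))
 (.node (nat_lit 0x5620d526a2001d0) (.node (nat_lit 0x561d32b587664fc) (.node (nat_lit 0x561b61e784d1420) (.leaf ((nat_lit 2), [nat_lit 2, nat_lit 6, nat_lit 8, nat_lit 6, nat_lit 5, nat_lit 1, nat_lit 7, nat_lit 4, nat_lit 3, nat_lit 6, nat_lit 5, nat_lit 3, nat_lit 1])) (.leaf ((nat_lit 0), [nat_lit 5, nat_lit 8, nat_lit 1, nat_lit 8, nat_lit 5, nat_lit 0, nat_lit 7, nat_lit 5, nat_lit 3, nat_lit 6, nat_lit 4, nat_lit 3]))) (.node (nat_lit 0x561e4a46222a56c) (.leaf ((nat_lit 3), [nat_lit 6, nat_lit 9, nat_lit 5, nat_lit 3, nat_lit 1, nat_lit 9, nat_lit 7, nat_lit 2, nat_lit 8, nat_lit 7, nat_lit 2, nat_lit 4, nat_lit 7, nat_lit 4, nat_lit 0]))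 (.node (nat_lit 0x562077a012851e4) (.leaf ((nat_lit 2), [nat_lit 9, nat_lit 6, nat_lit 7, nat_lit 2, nat_lit 9, nat_lit 3, nat_lit 3, nat_lit 6, nat_lit 5, nat_lit 2, nat_lit 4, nat_lit 3])) (.leaf ((nat_lit 0), [nat_lit 5, nat_lit 8, nat_lit 0, nat_lit 8, nat_lit 7, nat_lit 6, nat_lit 5, nat_lit 3, nat_lit 3, nat_lit 3, nat_lit 0])))))
 (.node (nat_lit 0x56298ce421c9710) (.node (nat_lit 0x56287566c050f54) (.leaf ((nat_lit 1), [nat_lit 0, nat_lit 7, nat_lit 0, nat_lit 9, nat_lit 1, nat_lit 9, nat_lit 5, nat_lit 7, nat_lit 6, nat_lit 8, nat_lit 5, nat_lit 6, nat_lit 7, nat_lit 5, nat_lit 2, nat_lit 2])) (.leaf ((nat_lit 0), [nat_lit 2, nat_lit 6, nat_lit 8, nat_lit 3, nat_lit 4, nat_lit 6, nat_lit 5, nat_lit 1]))) (.node (nat_lit 0x562aa39a15d6e04) (.leaf ((nat_lit 2), [nat_lit 2, nat_lit 7, nat_lit 9, nat_lit 5, nat_lit 9, nat_lit 4, nat_lit 7, nat_lit 8, nat_lit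 3, nat_lit 6, nat_lit 5, nat_lit 4, nat_lit 3, nat_lit 1])) (.node (nat_lit 0x562aa3a22b7c9a4) (.leaf ((nat_lit 2), [nat_lit 2, nat_lit 6, nat_lit 8, nat_lit 7, nat_lit 3, nat_lit 3, nat_lit 3, nat_lit 6, nat_lit 2, nat_lit 4, nat_lit 2, nat_lit 0])) (.leaf ((nat_lit 2), [nat_lit 0, nat_lit 7, nat_lit 0, nat_lit 9, nat_lit 1, nat_lit 9, nat_lit 7, nat_lit 5, nat_lit 1, nat_lit 7, nat_lit 2, nat_lit 4, nat_lit 6, nat_lit 5, nat_lit 4, nat_lit 2, nat_lit 0]))))))))))))))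
 (.node (nat_lit 0x7efa82ecccfbc14) (.node (nat_lit 0x6c7b427253a2c6c) (.node (nat_lit 0x593bdea432b2198) (.node (nat_lit 0x5839cd9b46ce304) (.node (nat_lit 0x57914d3beba4a8c) (.node (nat_lit 0x56c4131bb39e0cc) (.node (nat_lit 0x56665c2edb21134) (.node (nat_lit 0x563a422409bdb78) (.node (nat_lit 0x56318a07dae11f8) (.node (nat_lit 0x562ea2b158c6d18) (.node (nat_lit 0x562b5dc899b8514) (.leaf ((nat_lit 2), [nat_lit 9, nat_lit 7, nat_lit 5, nat_lit 0, nat_lit 9, nat_lit 8, nat_lit 2, nat_lit 6, nat_lit 8, nat_lit 6, nat_lit 5, nat_lit 7, nat_lit 4, nat_lit 2, nat_lit 1])) (.leaf ((nat_lit 1), [nat_lit 2, nat_lit 2, nat_lit 9, nat_lit 0, nat_lit 9, nat_lit 0, nat_lit 8, nat_lit 7, nat_lit 1, nat_lit 8, nat_lit 5, nat_lit 7, nat_lit 4, nat_lit 6]))) (.node (nat_lit 0x562fb920550b0a0) (.leaf ((nat_lit 0), [nat_lit 5, nat_lit 7, nat_lit 5, nat_lit 8, nat_lit 0, nat_lit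 7, nat_lit 4, nat_lit 6, nat_lit 3, nat_lit 3, nat_lit 1])) (.leaf ((nat_lit 1), [nat_lit 6, nat_lit 9, nat_lit 2, nat_lit 1, nat_lit 9, nat_lit 8, nat_lit 4, nat_lit 6, nat_lit 8, nat_lit 3, nat_lit 3, nat_lit 6, nat_lit 5, nat_lit 2, nat_lit 4, nat_lit 3]))))
 (.node (nat_lit 0x563870d814e9ce8) (.node (nat_lit 0x56369ff9e6d75b4) (.leaf ((nat_lit 3), [nat_lit 2, nat_lit 2, nat_lit 9, nat_lit 0, nat_lit 9, nat_lit 4, nat_lit 3, nat_lit 8, nat_lit 4, nat_lit 7, nat_lit 5, nat_lit 6, nat_lit 5, nat_lit 4, nat_lit 2, nat_lit 2, nat_lit 1])) (.leaf ((nat_lit 3), [nat_lit 2, nat_lit 7, nat_lit 9, nat_lit 5, nat_lit 9, nat_lit 5, nat_lit 2, nat_lit 8, nat_lit 4, nat_lit 1, nat_lit 7, nat_lit 3, nat_lit 3, nat_lit 6]))) (.node (nat_lit 0x563a4216623b708) (.leaf ((nat_lit 1), [nat_lit 9, nat_lit 7, nat_lit 5, nat_lit 0, nat_lit 9, nat_lit 0, nat_lit 7, nat_lit 8, nat_lit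 1, nat_lit 7, nat_lit 4, nat_lit 3, nat_lit 6, nat_lit 2, nat_lit 4, nat_lit 2, nat_lit 0])) (.node (nat_lit 0x563a421e7803d30) (.leaf ((nat_lit 3), [nat_lit 2, nat_lit 2, nat_lit 9, nat_lit 0, nat_lit 9, nat_lit 6, nat_lit 3, nat_lit 8, nat_lit 5, nat_lit 7, nat_lit 6, nat_lit 5, nat_lit 3, nat_lit 1])) (.leaf ((nat_lit 3), [nat_lit 0, nat_lit 7, nat_lit 0, nat_lit 9, nat_lit 1, nat_lit 9, nat_lit 8, nat_lit 6, nat_lit 1, nat_lit 8, nat_lit 6, nat_lit 5, nat_lit 2, nat_lit 4, nat_lit 3, nat_lit 0]))))))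
 (.node (nat_lit 0x564c351542cb54c) (.node (nat_lit 0x563cccc96d554f4) (.node (nat_lit 0x563afc3f2662ee4) (.leaf ((nat_lit 3), [nat_lit 9, nat_lit 7, nat_lit 5, nat_lit 0, nat_lit 9, nat_lit 4, nat_lit 0, nat_lit 7, nat_lit 8, nat_lit 0, nat_lit 7, nat_lit 2, nat_lit 6, nat_lit 5, nat_lit 4, nat_lit 3, nat_lit 1])) (.leaf ((nat_lit 0), [nat_lit 5, nat_lit 6, nat_lit 8, nat_lit 7, nat_lit 5, nat_lit 1, nat_lit 7, nat_lit 4, nat_lit 6, nat_lit 5, nat_lit 2]))) (.node (nat_lit 0x563efb222136404) (.leaf ((nat_lit 1), [nat_lit 7, nat_lit 9, nat_lit 2, nat_lit 1, nat_lit 9, nat_lit 7, nat_lit 5, nat_lit 0, nat_lit 8, nat_lit 6, nat_lit 7, nat_lit 5, nat_lit 3, nat_lit 4, nat_lit 3, nat_lit 0])) (.node (nat_lit 0x564b1dddfd50bc4) (.leaf ((nat_lit 1), [nat_lit 2, nat_lit 9, nat_lit 3, nat_lit 5, nat_lit 9, nat_lit 5, nat_lit 7, nat_lit 2, nat_lit 4, nat_lit 6, nat_lit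 5, nat_lit 3, nat_lit 1])) (.leaf ((nat_lit 1), [nat_lit 5, nat_lit 0, nat_lit 7, nat_lit 8, nat_lit 5, nat_lit 7, nat_lit 6, nat_lit 5, nat_lit 6, nat_lit 5, nat_lit 3, nat_lit 0])))))
 (.node (nat_lit 0x5655a693b872f5c) (.node (nat_lit 0x564eab4ef7ab560) (.leaf ((nat_lit 1), [nat_lit 8, nat_lit 5, nat_lit 8, nat_lit 6, nat_lit 5, nat_lit 6, nat_lit 7, nat_lit 5, nat_lit 3, nat_lit 6, nat_lit 5, nat_lit 4, nat_lit 2])) (.leaf ((nat_lit 0), [nat_lit 6, nat_lit 9, nat_lit 2, nat_lit 1, nat_lit 9, nat_lit 4, nat_lit 7, nat_lit 8, nat_lit 7, nat_lit 3, nat_lit 4, nat_lit 7, nat_lit 5, nat_lit 4]))) (.node (nat_lit 0x56642e0069e9670) (.leaf ((nat_lit 0), [nat_lit 0, nat_lit 7, nat_lit 0, nat_lit 9, nat_lit 1, nat_lit 9, nat_lit 2, nat_lit 8, nat_lit 6, nat_lit 5, nat_lit 1, nat_lit 7, nat_lit 2, nat_lit 6, nat_lit 3, nat_lit 3, nat_lit 3])) (.node (nat_lit 0x56653088cec8c4c)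 (.leaf ((nat_lit 1), [nat_lit 6, nat_lit 5, nat_lit 2, nat_lit 8, nat_lit 3, nat_lit 3, nat_lit 6, nat_lit 5, nat_lit 3])) (.leaf ((nat_lit 1), [nat_lit 8, nat_lit 5, nat_lit 8, nat_lit 5, nat_lit 6, nat_lit 5, nat_lit 3, nat_lit 6, nat_lit 5, nat_lit 3, nat_lit 4, nat_lit 3, nat_lit 3])))))))
 (.node (nat_lit 0x568ef6238d65874) (.node (nat_lit 0x5675407777c9fb0) (.node (nat_lit 0x566bba687e918b4) (.node (nat_lit 0x5669442e9bb2fe0) (.leaf ((nat_lit 0), [nat_lit 2, nat_lit 7, nat_lit 9, nat_lit 5, nat_lit 9, nat_lit 6, nat_lit 8, nat_lit 4, nat_lit 7, nat_lit 2, nat_lit 4, nat_lit 6, nat_lit 3, nat_lit 4, nat_lit 1])) (.leaf ((nat_lit 1), [nat_lit 4, nat_lit 7, nat_lit 6, nat_lit 8, nat_lit 6, nat_lit 5, nat_lit 7, nat_lit 2, nat_lit 6, nat_lit 5, nat_lit 3]))) (.node (nat_lit 0x5671e723b7af9cc) (.leaf ((nat_lit 1), [nat_lit 8, nat_lit 1, nat_lit 8, nat_lit 5,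 nat_lit 4, nat_lit 7, nat_lit 6, nat_lit 5, nat_lit 3, nat_lit 6, nat_lit 5, nat_lit 3, nat_lit 4])) (.node (nat_lit 0x567429c345b25f4) (.leaf ((nat_lit 0), [nat_lit 2, nat_lit 7, nat_lit 9, nat_lit 5, nat_lit 9, nat_lit 2, nat_lit 1, nat_lit 8, nat_lit 5, nat_lit 7, nat_lit 5, nat_lit 7, nat_lit 4, nat_lit 2, nat_lit 6, nat_lit 4, nat_lit 0])) (.leaf ((nat_lit 1), [nat_lit 5, nat_lit 7, nat_lit 5, nat_lit 8, nat_lit 7, nat_lit 5, nat_lit 0, nat_lit 7, nat_lit 3, nat_lit 3, nat_lit 6, nat_lit 5, nat_lit 3, nat_lit 4, nat_lit 3, nat_lit 3, nat_lit 0])))))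
 (.node (nat_lit 0x5686b0054a87fcc) (.node (nat_lit 0x5678cdbc9b86f74) (.leaf ((nat_lit 1), [nat_lit 6, nat_lit 3, nat_lit 1, nat_lit 8, nat_lit 7, nat_lit 0, nat_lit 7, nat_lit 6, nat_lit 4, nat_lit 3, nat_lit 3, nat_lit 3, nat_lit 1])) (.leaf ((nat_lit 4), [nat_lit 0, nat_lit 7, nat_lit 0, nat_lit 9, nat_lit 1, nat_lit 9, nat_lit 2, nat_lit 8, nat_lit 1, nat_lit 7, nat_lit 2, nat_lit 4, nat_lit 6, nat_lit 5]))) (.node (nat_lit 0x5687b248e9cfe20) (.leaf ((nat_lit 4), [nat_lit 6, nat_lit 9, nat_lit 2, nat_lit 1, nat_lit 9, nat_lit 6, nat_lit 1, nat_lit 8, nat_lit 4, nat_lit 7, nat_lit 5, nat_lit 4, nat_lit 1])) (.node (nat_lit 0x568880b4146f044) (.leaf ((nat_lit 0), [nat_lit 0, nat_lit 7, nat_lit 0, nat_lit 9, nat_lit 1, nat_lit 9, nat_lit 6, nat_lit 2, nat_lit 8, nat_lit 7, nat_lit 0, nat_lit 7, nat_lit 6, nat_lit 3, nat_lit 4, nat_lit 6, nat_lit 5, nat_lit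 0])) (.leaf ((nat_lit 0), [nat_lit 2, nat_lit 7, nat_lit 9, nat_lit 5, nat_lit 9, nat_lit 6, nat_lit 3, nat_lit 8, nat_lit 4, nat_lit 7, nat_lit 5, nat_lit 3, nat_lit 6, nat_lit 5, nat_lit 4, nat_lit 2]))))))
 (.node (nat_lit 0x56ae477391dd170) (.node (nat_lit 0x569e4c36a95fae0) (.node (nat_lit 0x56924fb7f138ca0) (.leaf ((nat_lit 1), [nat_lit 8, nat_lit 2, nat_lit 6, nat_lit 3, nat_lit 8, nat_lit 7, nat_lit 5, nat_lit 0, nat_lit 7, nat_lit 3, nat_lit 3, nat_lit 6, nat_lit 2, nat_lit 2, nat_lit 1])) (.leaf ((nat_lit 0), [nat_lit 0, nat_lit 7, nat_lit 0, nat_lit 9, nat_lit 1, nat_lit 9, nat_lit 4, nat_lit 7, nat_lit 8, nat_lit 4, nat_lit 0, nat_lit 7, nat_lit 4, nat_lit 3, nat_lit 3, nat_lit 6]))) (.node (nat_lit 0x569fbfe6b76ac1c) (.leaf ((nat_lit 0), [nat_lit 6, nat_lit 9, nat_lit 2, nat_lit 1, nat_lit 9, nat_lit 6, nat_lit 3, nat_lit 4, nat_lit 7, nat_lit 6,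 nat_lit 5, nat_lit 6, nat_lit 3, nat_lit 4, nat_lit 3])) (.node (nat_lit 0x56ad30bd93d4034) (.leaf ((nat_lit 0), [nat_lit 2, nat_lit 7, nat_lit 9, nat_lit 5, nat_lit 9, nat_lit 6, nat_lit 3, nat_lit 8, nat_lit 7, nat_lit 5, nat_lit 7, nat_lit 3, nat_lit 3, nat_lit 6, nat_lit 4, nat_lit 3, nat_lit 1])) (.leaf ((nat_lit 0), [nat_lit 6, nat_lit 9, nat_lit 2, nat_lit 1, nat_lit 9, nat_lit 8, nat_lit 2, nat_lit 6, nat_lit 0, nat_lit 8, nat_lit 5, nat_lit 7, nat_lit 4, nat_lit 3, nat_lit 6, nat_lit 5, nat_lit 2])))))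
 (.node (nat_lit 0x56b4175933d215c) (.node (nat_lit 0x56b11ae96a6c5cc) (.leaf ((nat_lit 4), [nat_lit 2, nat_lit 7, nat_lit 9, nat_lit 5, nat_lit 9, nat_lit 3, nat_lit 5, nat_lit 8, nat_lit 5, nat_lit 7, nat_lit 4, nat_lit 2, nat_lit 2, nat_lit 6, nat_lit 2, nat_lit 2])) (.leaf ((nat_lit 0), [nat_lit 0, nat_lit 7, nat_lit 0, nat_lit 9, nat_lit 1, nat_lit 9, nat_lit 3, nat_lit 5, nat_lit 8, nat_lit 6, nat_lit 7, nat_lit 5, nat_lit 2, nat_lit 4]))) (.node (nat_lit 0x56bfff8d6ff54a0) (.leaf ((nat_lit 1), [nat_lit 5, nat_lit 8, nat_lit 0, nat_lit 8, nat_lit 6, nat_lit 5, nat_lit 0, nat_lit 7, nat_lit 6, nat_lit 5, nat_lit 2, nat_lit 4, nat_lit 3, nat_lit 1])) (.node (nat_lit 0x56c29ee5e045c84) (.leaf ((nat_lit 1), [nat_lit 0, nat_lit 8, nat_lit 6, nat_lit 1, nat_lit 8, nat_lit 5, nat_lit 4, nat_lit 7, nat_lit 2, nat_lit 2, nat_lit 6, nat_lit 5])) (.leaf ((nat_lit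 0), [nat_lit 6, nat_lit 9, nat_lit 2, nat_lit 1, nat_lit 9, nat_lit 7, nat_lit 8, nat_lit 1, nat_lit 7, nat_lit 5, nat_lit 3, nat_lit 6, nat_lit 5, nat_lit 1]))))))))
 (.node (nat_lit 0x5732221aafc40f0) (.node (nat_lit 0x56f6907789e7134) (.node (nat_lit 0x56e6dd421f30b0c) (.node (nat_lit 0x56cccac1aa25bcc) (.node (nat_lit 0x56c9ce28984a4e0) (.leaf ((nat_lit 1), [nat_lit 8, nat_lit 7, nat_lit 1, nat_lit 8, nat_lit 5, nat_lit 4, nat_lit 7, nat_lit 2, nat_lit 4, nat_lit 3, nat_lit 0])) (.leaf ((nat_lit 4), [nat_lit 6, nat_lit 9, nat_lit 2, nat_lit 1, nat_lit 9, nat_lit 4, nat_lit 6, nat_lit 8, nat_lit 6, nat_lit 5, nat_lit 1, nat_lit 7, nat_lit 4, nat_lit 2, nat_lit 6, nat_lit 5, nat_lit 0]))) (.node (nat_lit 0x56cde1766638b84) (.leaf ((nat_lit 0), [nat_lit 2, nat_lit 7, nat_lit 9, nat_lit 5, nat_lit 9, nat_lit 5, nat_lit 1, nat_lit 8, nat_lit 6, nat_lit 2, nat_lit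 4, nat_lit 7, nat_lit 2, nat_lit 6, nat_lit 4])) (.node (nat_lit 0x56e122253d057f4) (.leaf ((nat_lit 0), [nat_lit 0, nat_lit 7, nat_lit 0, nat_lit 9, nat_lit 1, nat_lit 9, nat_lit 5, nat_lit 8, nat_lit 0, nat_lit 8, nat_lit 3, nat_lit 4, nat_lit 7, nat_lit 6, nat_lit 5, nat_lit 2])) (.leaf ((nat_lit 4), [nat_lit 2, nat_lit 7, nat_lit 9, nat_lit 5, nat_lit 9, nat_lit 2, nat_lit 6, nat_lit 3, nat_lit 8, nat_lit 0, nat_lit 7, nat_lit 4, nat_lit 2, nat_lit 6, nat_lit 4])))))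
 (.node (nat_lit 0x56ebf330933a1f4) (.node (nat_lit 0x56eb4d9d64842b0) (.leaf ((nat_lit 0), [nat_lit 6, nat_lit 9, nat_lit 2, nat_lit 1, nat_lit 9, nat_lit 7, nat_lit 6, nat_lit 8, nat_lit 6, nat_lit 5, nat_lit 0, nat_lit 7, nat_lit 6, nat_lit 5, nat_lit 4, nat_lit 2])) (.leaf ((nat_lit 0), [nat_lit 0, nat_lit 7, nat_lit 0, nat_lit 9, nat_lit 1, nat_lit 9, nat_lit 8, nat_lit 2, nat_lit 6, nat_lit 8, nat_lit 5, nat_lit 7, nat_lit 3, nat_lit 3, nat_lit 6, nat_lit 2]))) (.node (nat_lit 0x56eeef85f375a1c) (.leaf ((nat_lit 0), [nat_lit 6, nat_lit 9, nat_lit 2, nat_lit 1, nat_lit 9, nat_lit 2, nat_lit 7, nat_lit 5, nat_lit 8, nat_lit 5, nat_lit 1, nat_lit 7, nat_lit 4, nat_lit 6, nat_lit 5, nat_lit 2, nat_lit 4, nat_lit 1])) (.node (nat_lit 0x56efa9c1b8f9960) (.leaf ((nat_lit 4), [nat_lit 0, nat_lit 7, nat_lit 0, nat_lit 9, nat_lit 1, nat_lit 9, nat_lit 1, nat_lit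 7, nat_lit 5, nat_lit 8, nat_lit 7, nat_lit 1, nat_lit 7, nat_lit 3, nat_lit 6, nat_lit 2, nat_lit 2])) (.leaf ((nat_lit 0), [nat_lit 2, nat_lit 7, nat_lit 9, nat_lit 5, nat_lit 9, nat_lit 3, nat_lit 7, nat_lit 0, nat_lit 8, nat_lit 7, nat_lit 2, nat_lit 4, nat_lit 7, nat_lit 2, nat_lit 6, nat_lit 4]))))))
 (.node (nat_lit 0x570575012645e0c) (.node (nat_lit 0x56fba5e1fa5911c) (.node (nat_lit 0x56fa7aa2d683c8c) (.leaf ((nat_lit 1), [nat_lit 8, nat_lit 1, nat_lit 8, nat_lit 6, nat_lit 7, nat_lit 6, nat_lit 3, nat_lit 4, nat_lit 1])) (.leaf ((nat_lit 0), [nat_lit 2, nat_lit 7, nat_lit 9, nat_lit 5, nat_lit 9, nat_lit 3, nat_lit 5, nat_lit 8, nat_lit 7, nat_lit 4, nat_lit 3, nat_lit 6, nat_lit 5, nat_lit 3, nat_lit 4]))) (.node (nat_lit 0x56fcbd1911d4da0) (.leaf ((nat_lit 1), [nat_lit 7, nat_lit 1, nat_lit 8, nat_lit 6, nat_lit 1, nat_lit 7, nat_lit 6, nat_lit 5,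 nat_lit 3, nat_lit 4, nat_lit 3, nat_lit 3, nat_lit 0])) (.node (nat_lit 0x56ff335322b1f34) (.leaf ((nat_lit 1), [nat_lit 3, nat_lit 8, nat_lit 7, nat_lit 1, nat_lit 8, nat_lit 6, nat_lit 5, nat_lit 1, nat_lit 7, nat_lit 6, nat_lit 5, nat_lit 3, nat_lit 1])) (.leaf ((nat_lit 0), [nat_lit 0, nat_lit 7, nat_lit 0, nat_lit 9, nat_lit 1, nat_lit 9, nat_lit 2, nat_lit 8, nat_lit 6, nat_lit 1, nat_lit 7, nat_lit 3, nat_lit 3, nat_lit 6, nat_lit 4, nat_lit 3, nat_lit 1])))))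
 (.node (nat_lit 0x57095f2ccedf6a0) (.node (nat_lit 0x57068bb6f650244) (.leaf ((nat_lit 1), [nat_lit 8, nat_lit 1, nat_lit 8, nat_lit 5, nat_lit 7, nat_lit 5, nat_lit 1, nat_lit 7, nat_lit 4, nat_lit 3, nat_lit 3, nat_lit 6, nat_lit 5, nat_lit 2, nat_lit 1])) (.leaf ((nat_lit 0), [nat_lit 6, nat_lit 9, nat_lit 2, nat_lit 1, nat_lit 9, nat_lit 1, nat_lit 7, nat_lit 5, nat_lit 8, nat_lit 4, nat_lit 7, nat_lit 6, nat_lit 3, nat_lit 3, nat_lit 0]))) (.node (nat_lit 0x5719cc326abc834) (.leaf ((nat_lit 1), [nat_lit 4, nat_lit 6, nat_lit 8, nat_lit 5, nat_lit 7, nat_lit 4, nat_lit 6, nat_lit 2, nat_lit 4, nat_lit 3, nat_lit 1])) (.node (nat_lit 0x57296a75cd33a70) (.leaf ((nat_lit 1), [nat_lit 1, nat_lit 7, nat_lit 5, nat_lit 8, nat_lit 6, nat_lit 5, nat_lit 1, nat_lit 7, nat_lit 2, nat_lit 6, nat_lit 4, nat_lit 3, nat_lit 3, nat_lit 3, nat_lit 1])) (.leaf ((nat_lit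 1), [nat_lit 3, nat_lit 3, nat_lit 8, nat_lit 7, nat_lit 5, nat_lit 7, nat_lit 6, nat_lit 5, nat_lit 6, nat_lit 1])))))))
 (.node (nat_lit 0x5754ec927488460) (.node (nat_lit 0x5740a9a78a36644) (.node (nat_lit 0x5736db4d8f95d20) (.node (nat_lit 0x573324a314a36cc) (.leaf ((nat_lit 0), [nat_lit 2, nat_lit 7, nat_lit 9, nat_lit 5, nat_lit 9, nat_lit 6, nat_lit 8, nat_lit 5, nat_lit 1, nat_lit 7, nat_lit 2, nat_lit 4, nat_lit 3, nat_lit 6, nat_lit 4, nat_lit 2, nat_lit 0])) (.leaf ((nat_lit 1), [nat_lit 3, nat_lit 7, nat_lit 0, nat_lit 8, nat_lit 6, nat_lit 0, nat_lit 7, nat_lit 6, nat_lit 2, nat_lit 4]))) (.node (nat_lit 0x5737dd915cdc434) (.leaf ((nat_lit 0), [nat_lit 0, nat_lit 7, nat_lit 0, nat_lit 9, nat_lit 1, nat_lit 9, nat_lit 1, nat_lit 7, nat_lit 8, nat_lit 7, nat_lit 5, nat_lit 6, nat_lit 7, nat_lit 6, nat_lit 5, nat_lit 3, nat_lit 6, nat_lit 5, nat_lit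 0])) (.node (nat_lit 0x573965f639529dc) (.leaf ((nat_lit 1), [nat_lit 2, nat_lit 7, nat_lit 9, nat_lit 5, nat_lit 9, nat_lit 6, nat_lit 3, nat_lit 1, nat_lit 8, nat_lit 4, nat_lit 7, nat_lit 5, nat_lit 3, nat_lit 6, nat_lit 4])) (.leaf ((nat_lit 1), [nat_lit 6, nat_lit 7, nat_lit 4, nat_lit 3, nat_lit 3, nat_lit 6, nat_lit 5, nat_lit 2, nat_lit 2, nat_lit 1])))))
 (.node (nat_lit 0x57427ad8dd8508c) (.node (nat_lit 0x5741ac2fc117360) (.leaf ((nat_lit 1), [nat_lit 8, nat_lit 4, nat_lit 6, nat_lit 8, nat_lit 7, nat_lit 5, nat_lit 1, nat_lit 7, nat_lit 4, nat_lit 3, nat_lit 6, nat_lit 5, nat_lit 2, nat_lit 4, nat_lit 3, nat_lit 1])) (.leaf ((nat_lit 1), [nat_lit 1, nat_lit 8, nat_lit 6, nat_lit 5, nat_lit 6, nat_lit 7, nat_lit 2, nat_lit 4, nat_lit 6, nat_lit 5, nat_lit 3, nat_lit 4, nat_lit 3]))) (.node (nat_lit 0x574e7794abbddcc) (.leaf ((nat_lit 0), [nat_lit 6,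 nat_lit 9, nat_lit 2, nat_lit 1, nat_lit 9, nat_lit 7, nat_lit 5, nat_lit 8, nat_lit 0, nat_lit 7, nat_lit 4, nat_lit 6, nat_lit 5, nat_lit 3, nat_lit 4, nat_lit 0])) (.node (nat_lit 0x574f8e323a8c4c4) (.leaf ((nat_lit 1), [nat_lit 0, nat_lit 7, nat_lit 8, nat_lit 5, nat_lit 6, nat_lit 7, nat_lit 4, nat_lit 6, nat_lit 4, nat_lit 3, nat_lit 3, nat_lit 3, nat_lit 0])) (.leaf ((nat_lit 1), [nat_lit 4, nat_lit 8, nat_lit 0, nat_lit 8, nat_lit 6, nat_lit 2, nat_lit 2, nat_lit 6, nat_lit 5, nat_lit 4, nat_lit 2, nat_lit 2, nat_lit 0]))))))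
 (.node (nat_lit 0x57642e31700c1cc) (.node (nat_lit 0x575ecfb922d2f1c) (.node (nat_lit 0x575d5c0606e0920) (.leaf ((nat_lit 0), [nat_lit 6, nat_lit 9, nat_lit 2, nat_lit 1, nat_lit 9, nat_lit 3, nat_lit 7, nat_lit 8, nat_lit 4, nat_lit 1, nat_lit 7, nat_lit 6, nat_lit 5, nat_lit 3, nat_lit 6, nat_lit 2])) (.leaf ((nat_lit 1), [nat_lit 7, nat_lit 5, nat_lit 8, nat_lit 0, nat_lit 8, nat_lit 4, nat_lit 7, nat_lit 4, nat_lit 6, nat_lit 3, nat_lit 3, nat_lit 3]))) (.node (nat_lit 0x5760e934ed8de74) (.leaf ((nat_lit 0), [nat_lit 0, nat_lit 7, nat_lit 0, nat_lit 9, nat_lit 1, nat_lit 9, nat_lit 7, nat_lit 1, nat_lit 7, nat_lit 8, nat_lit 7, nat_lit 0, nat_lit 7, nat_lit 5, nat_lit 0])) (.node (nat_lit 0x5762cef0e0d9334) (.leaf ((nat_lit 1), [nat_lit 2, nat_lit 6, nat_lit 0, nat_lit 8, nat_lit 6, nat_lit 5, nat_lit 7, nat_lit 6, nat_lit 3, nat_lit 3, nat_lit 6, nat_lit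 2, nat_lit 1])) (.leaf ((nat_lit 0), [nat_lit 2, nat_lit 7, nat_lit 9, nat_lit 5, nat_lit 9, nat_lit 2, nat_lit 5, nat_lit 8, nat_lit 7, nat_lit 2, nat_lit 4, nat_lit 7, nat_lit 6, nat_lit 5, nat_lit 6, nat_lit 3])))))
 (.node (nat_lit 0x578a665e4235a84) (.node (nat_lit 0x5764fc9c9aab3f0) (.leaf ((nat_lit 1), [nat_lit 7, nat_lit 5, nat_lit 6, nat_lit 8, nat_lit 5, nat_lit 7, nat_lit 5, nat_lit 3, nat_lit 6, nat_lit 4, nat_lit 3, nat_lit 0])) (.leaf ((nat_lit 1), [nat_lit 2, nat_lit 1, nat_lit 8, nat_lit 4, nat_lit 1, nat_lit 7, nat_lit 2, nat_lit 4, nat_lit 3, nat_lit 0]))) (.node (nat_lit 0x578b68d92d82020) (.leaf ((nat_lit 4), [nat_lit 6, nat_lit 9, nat_lit 2, nat_lit 1, nat_lit 9, nat_lit 7, nat_lit 8, nat_lit 4, nat_lit 0, nat_lit 7, nat_lit 3, nat_lit 6, nat_lit 5, nat_lit 3, nat_lit 4, nat_lit 1])) (.node (nat_lit 0x578c94807bd068c) (.leaf ((nat_lit 0),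 [nat_lit 2, nat_lit 7, nat_lit 9, nat_lit 5, nat_lit 9, nat_lit 0, nat_lit 8, nat_lit 4, nat_lit 7, nat_lit 6, nat_lit 4, nat_lit 3, nat_lit 3, nat_lit 1])) (.leaf ((nat_lit 0), [nat_lit 0, nat_lit 7, nat_lit 0, nat_lit 9, nat_lit 1, nat_lit 9, nat_lit 8, nat_lit 1, nat_lit 8, nat_lit 6, nat_lit 5, nat_lit 0, nat_lit 7, nat_lit 2, nat_lit 4, nat_lit 6, nat_lit 5, nat_lit 3, nat_lit 3])))))))))
 (.node (nat_lit 0x57f736565b865ec) (.node (nat_lit 0x57d8d1b7d994a7c) (.node (nat_lit 0x57abd12a9b63ff0) (.node (nat_lit 0x579f7789c27f270) (.node (nat_lit 0x5799f072f78bb74) (.node (nat_lit 0x5798edeac0ab29c) (.leaf ((nat_lit 0), [nat_lit 6, nat_lit 9, nat_lit 2, nat_lit 1, nat_lit 9, nat_lit 7, nat_lit 8, nat_lit 4, nat_lit 0, nat_lit 7, nat_lit 6, nat_lit 5, nat_lit 3, nat_lit 3])) (.leaf ((nat_lit 0), [nat_lit 6, nat_lit 9, nat_lit 2, nat_lit 1, nat_lit 9, nat_lit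 5, nat_lit 1, nat_lit 7, nat_lit 6, nat_lit 5, nat_lit 6, nat_lit 5, nat_lit 4, nat_lit 3, nat_lit 0]))) (.node (nat_lit 0x579b1c1931e2d60) (.leaf ((nat_lit 0), [nat_lit 2, nat_lit 7, nat_lit 9, nat_lit 5, nat_lit 9, nat_lit 8, nat_lit 2, nat_lit 6, nat_lit 8, nat_lit 5, nat_lit 7, nat_lit 2, nat_lit 6, nat_lit 3, nat_lit 0])) (.node (nat_lit 0x579c7b346243e8c) (.leaf ((nat_lit 4), [nat_lit 0, nat_lit 7, nat_lit 0, nat_lit 9, nat_lit 1, nat_lit 9, nat_lit 4, nat_lit 3, nat_lit 8, nat_lit 6, nat_lit 7, nat_lit 6, nat_lit 5, nat_lit 6, nat_lit 4, nat_lit 3])) (.leaf ((nat_lit 1), [nat_lit 8, nat_lit 5, nat_lit 1, nat_lit 8, nat_lit 6, nat_lit 5, nat_lit 6, nat_lit 7, nat_lit 6, nat_lit 3, nat_lit 4, nat_lit 6, nat_lit 3, nat_lit 3])))))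
 (.node (nat_lit 0x57a649cfe695d74) (.node (nat_lit 0x57a08ec2a5ec674) (.leaf ((nat_lit 0), [nat_lit 2, nat_lit 7, nat_lit 9, nat_lit 5, nat_lit 9, nat_lit 2, nat_lit 1, nat_lit 8, nat_lit 5, nat_lit 7, nat_lit 3, nat_lit 4, nat_lit 6, nat_lit 4])) (.leaf ((nat_lit 1), [nat_lit 5, nat_lit 7, nat_lit 5, nat_lit 8, nat_lit 7, nat_lit 2, nat_lit 4, nat_lit 3, nat_lit 6, nat_lit 3, nat_lit 0]))) (.node (nat_lit 0x57a94668f871460) (.leaf ((nat_lit 0), [nat_lit 0, nat_lit 7, nat_lit 0, nat_lit 9, nat_lit 1, nat_lit 9, nat_lit 2, nat_lit 8, nat_lit 5, nat_lit 6, nat_lit 7, nat_lit 4, nat_lit 0])) (.node (nat_lit 0x57aa5d1d58876dc) (.leaf ((nat_lit 1), [nat_lit 5, nat_lit 2, nat_lit 8, nat_lit 7, nat_lit 3, nat_lit 4, nat_lit 7, nat_lit 2, nat_lit 6, nat_lit 0])) (.leaf ((nat_lit 1), [nat_lit 2, nat_lit 6, nat_lit 2, nat_lit 8, nat_lit 5, nat_lit 6, nat_lit 2]))))))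
 (.node (nat_lit 0x57d35f25cfd776c) (.node (nat_lit 0x57af5e9b95be98c) (.node (nat_lit 0x57ac8b6494f67b4) (.leaf ((nat_lit 0), [nat_lit 6, nat_lit 9, nat_lit 2, nat_lit 1, nat_lit 9, nat_lit 4, nat_lit 7, nat_lit 6, nat_lit 8, nat_lit 5, nat_lit 7, nat_lit 6, nat_lit 5, nat_lit 4, nat_lit 2])) (.leaf ((nat_lit 0), [nat_lit 0, nat_lit 7, nat_lit 0, nat_lit 9, nat_lit 1, nat_lit 9, nat_lit 6, nat_lit 2, nat_lit 8, nat_lit 6, nat_lit 7, nat_lit 6, nat_lit 2, nat_lit 4, nat_lit 0]))) (.node (nat_lit 0x57c358e96d7c3a0) (.leaf ((nat_lit 4), [nat_lit 2, nat_lit 7, nat_lit 9, nat_lit 5, nat_lit 9, nat_lit 8, nat_lit 7, nat_lit 0, nat_lit 8, nat_lit 4, nat_lit 7, nat_lit 4, nat_lit 3, nat_lit 3, nat_lit 3])) (.node (nat_lit 0x57c70f34b9acf04) (.leaf ((nat_lit 1), [nat_lit 3, nat_lit 3, nat_lit 8, nat_lit 2, nat_lit 2])) (.leaf ((nat_lit 1), [nat_lit 8, nat_lit 6, nat_lit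 3, nat_lit 1, nat_lit 8, nat_lit 6, nat_lit 7, nat_lit 2, nat_lit 6, nat_lit 3, nat_lit 3, nat_lit 1])))))
 (.node (nat_lit 0x57d4b4798163c1c) (.node (nat_lit 0x57d45789aeffffc) (.leaf ((nat_lit 2), [nat_lit 9, nat_lit 4, nat_lit 7, nat_lit 3, nat_lit 9, nat_lit 6, nat_lit 3, nat_lit 8, nat_lit 7, nat_lit 3, nat_lit 4, nat_lit 3, nat_lit 0])) (.leaf ((nat_lit 3), [nat_lit 9, nat_lit 7, nat_lit 5, nat_lit 0, nat_lit 9, nat_lit 8, nat_lit 6, nat_lit 1, nat_lit 8, nat_lit 5, nat_lit 1, nat_lit 7, nat_lit 6, nat_lit 5, nat_lit 3, nat_lit 6]))) (.node (nat_lit 0x57d75e2783de4a0) (.leaf ((nat_lit 0), [nat_lit 7, nat_lit 2, nat_lit 8, nat_lit 4, nat_lit 0, nat_lit 7, nat_lit 2, nat_lit 6, nat_lit 5, nat_lit 3, nat_lit 4, nat_lit 3])) (.node (nat_lit 0x57d7bb1cba0b85c) (.leaf ((nat_lit 1), [nat_lit 2, nat_lit 2, nat_lit 9, nat_lit 0, nat_lit 9, nat_lit 8, nat_lit 7,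 nat_lit 0, nat_lit 8, nat_lit 5, nat_lit 1, nat_lit 7, nat_lit 5, nat_lit 3, nat_lit 6, nat_lit 3, nat_lit 0])) (.leaf ((nat_lit 1), [nat_lit 2, nat_lit 7, nat_lit 9, nat_lit 5, nat_lit 9, nat_lit 8, nat_lit 4, nat_lit 6, nat_lit 8, nat_lit 2, nat_lit 4, nat_lit 7, nat_lit 6, nat_lit 3, nat_lit 4, nat_lit 3, nat_lit 1])))))))
 (.node (nat_lit 0x57e92a2e05eb3ec) (.node (nat_lit 0x57e414ac5377f4c) (.node (nat_lit 0x57d8d1c5533a6c0) (.node (nat_lit 0x57d8d1bfc163784) (.leaf ((nat_lit 6), [nat_lit 8, nat_lit 3, nat_lit 4, nat_lit 9, nat_lit 6, nat_lit 8, nat_lit 7, nat_lit 3, nat_lit 4, nat_lit 7, nat_lit 6, nat_lit 5, nat_lit 6, nat_lit 2, nat_lit 0])) (.leaf ((nat_lit 2), [nat_lit 6, nat_lit 2, nat_lit 8, nat_lit 3, nat_lit 6, nat_lit 3, nat_lit 4, nat_lit 3, nat_lit 3, nat_lit 1]))) (.node (nat_lit 0x57db3e4a47a9518) (.leaf ((nat_lit 3), [nat_lit 2, nat_lit 7,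 nat_lit 9, nat_lit 5, nat_lit 9, nat_lit 7, nat_lit 2, nat_lit 8, nat_lit 0, nat_lit 7, nat_lit 6, nat_lit 3, nat_lit 4, nat_lit 6, nat_lit 4, nat_lit 0])) (.node (nat_lit 0x57e3b7ac27989c4) (.leaf ((nat_lit 3), [nat_lit 0, nat_lit 7, nat_lit 0, nat_lit 9, nat_lit 1, nat_lit 9, nat_lit 5, nat_lit 1, nat_lit 7, nat_lit 6, nat_lit 5, nat_lit 3, nat_lit 4, nat_lit 3])) (.leaf ((nat_lit 0), [nat_lit 7, nat_lit 2, nat_lit 5, nat_lit 8, nat_lit 6, nat_lit 1, nat_lit 7, nat_lit 6, nat_lit 2, nat_lit 4, nat_lit 6, nat_lit 2])))))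
 (.node (nat_lit 0x57e6ddeda8d58c0) (.node (nat_lit 0x57e4afecfdeb144) (.leaf ((nat_lit 2), [nat_lit 3, nat_lit 6, nat_lit 3, nat_lit 8, nat_lit 5, nat_lit 0, nat_lit 7, nat_lit 4, nat_lit 6, nat_lit 4, nat_lit 3, nat_lit 3, nat_lit 0])) (.leaf ((nat_lit 3), [nat_lit 2, nat_lit 2, nat_lit 9, nat_lit 0, nat_lit 9, nat_lit 8, nat_lit 5, nat_lit 0, nat_lit 7, nat_lit 5, nat_lit 4, nat_lit 3, nat_lit 3, nat_lit 3, nat_lit 1]))) (.node (nat_lit 0x57e81392b84ca34) (.leaf ((nat_lit 0), [nat_lit 3, nat_lit 1, nat_lit 8, nat_lit 2, nat_lit 2, nat_lit 6, nat_lit 3, nat_lit 3, nat_lit 0])) (.node (nat_lit 0x57e87087647e688) (.leaf ((nat_lit 0), [nat_lit 5, nat_lit 0, nat_lit 8, nat_lit 5, nat_lit 4, nat_lit 7, nat_lit 4, nat_lit 2, nat_lit 6, nat_lit 2, nat_lit 2, nat_lit 0])) (.leaf ((nat_lit 0), [nat_lit 7, nat_lit 5, nat_lit 8, nat_lit 1, nat_lit 8, nat_lit 3, nat_lit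 6, nat_lit 7, nat_lit 5, nat_lit 1]))))))
 (.node (nat_lit 0x57f4101a6c1c358) (.node (nat_lit 0x57e92a3b7f7a59c) (.node (nat_lit 0x57e92a35ed988e8) (.leaf ((nat_lit 6), [nat_lit 8, nat_lit 5, nat_lit 7, nat_lit 8, nat_lit 6, nat_lit 5, nat_lit 0, nat_lit 7, nat_lit 6, nat_lit 2, nat_lit 2, nat_lit 6, nat_lit 3, nat_lit 4])) (.leaf ((nat_lit 2), [nat_lit 1, nat_lit 9, nat_lit 5, nat_lit 9, nat_lit 8, nat_lit 1, nat_lit 8, nat_lit 6, nat_lit 5, nat_lit 0, nat_lit 7, nat_lit 6, nat_lit 0]))) (.node (nat_lit 0x57eff29be0e8870) (.leaf ((nat_lit 3), [nat_lit 2, nat_lit 2, nat_lit 9, nat_lit 1, nat_lit 9, nat_lit 6, nat_lit 0, nat_lit 8, nat_lit 5, nat_lit 1, nat_lit 7, nat_lit 5, nat_lit 6, nat_lit 5, nat_lit 4, nat_lit 2, nat_lit 2])) (.node (nat_lit 0x57f04fab802d668) (.leaf ((nat_lit 1), [nat_lit 7, nat_lit 9, nat_lit 2, nat_lit 1, nat_lit 9, nat_lit 6, nat_lit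 1, nat_lit 8, nat_lit 6, nat_lit 5, nat_lit 7, nat_lit 6, nat_lit 5, nat_lit 6, nat_lit 2, nat_lit 2, nat_lit 0])) (.leaf ((nat_lit 0), [nat_lit 2, nat_lit 7, nat_lit 8, nat_lit 7, nat_lit 5, nat_lit 0, nat_lit 7, nat_lit 3, nat_lit 4, nat_lit 6, nat_lit 4, nat_lit 2])))))
 (.node (nat_lit 0x57f46cd6fb18a58) (.node (nat_lit 0x57f46ccf13547f0) (.leaf ((nat_lit 1), [nat_lit 6, nat_lit 9, nat_lit 5, nat_lit 3, nat_lit 1, nat_lit 9, nat_lit 8, nat_lit 5, nat_lit 2, nat_lit 8, nat_lit 4, nat_lit 6, nat_lit 5, nat_lit 3, nat_lit 4, nat_lit 3])) (.leaf ((nat_lit 6), [nat_lit 2, nat_lit 9, nat_lit 3, nat_lit 5, nat_lit 9, nat_lit 6, nat_lit 3, nat_lit 0, nat_lit 8, nat_lit 3, nat_lit 6, nat_lit 7, nat_lit 6, nat_lit 5, nat_lit 3, nat_lit 1]))) (.node (nat_lit 0x57f46cdc8cd8d94) (.leaf ((nat_lit 2), [nat_lit 4, nat_lit 1, nat_lit 9, nat_lit 5, nat_lit 9, nat_lit 0, nat_lit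 7, nat_lit 8, nat_lit 6, nat_lit 7, nat_lit 4, nat_lit 3, nat_lit 6, nat_lit 0])) (.node (nat_lit 0x57f6d96eccdc094) (.leaf ((nat_lit 3), [nat_lit 6, nat_lit 9, nat_lit 5, nat_lit 3, nat_lit 1, nat_lit 9, nat_lit 5, nat_lit 6, nat_lit 8, nat_lit 4, nat_lit 2, nat_lit 6, nat_lit 4, nat_lit 3, nat_lit 3])) (.leaf ((nat_lit 1), [nat_lit 6, nat_lit 9, nat_lit 5, nat_lit 3, nat_lit 1, nat_lit 9, nat_lit 7, nat_lit 5, nat_lit 8, nat_lit 1, nat_lit 8, nat_lit 2, nat_lit 4, nat_lit 6, nat_lit 5, nat_lit 2, nat_lit 4, nat_lit 0]))))))))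
 (.node (nat_lit 0x5814070abcee7cc) (.node (nat_lit 0x580e93da7a1d4dc) (.node (nat_lit 0x5802f43c7cb65fc) (.node (nat_lit 0x57fef5a6a472d08) (.node (nat_lit 0x57f80ef88d46930) (.leaf ((nat_lit 1), [nat_lit 6, nat_lit 9, nat_lit 2, nat_lit 1, nat_lit 9, nat_lit 8, nat_lit 5, nat_lit 2, nat_lit 8, nat_lit 6, nat_lit 5, nat_lit 3, nat_lit 6, nat_lit 5, nat_lit 2, nat_lit 1])) (.leaf ((nat_lit 2), [nat_lit 9, nat_lit 2, nat_lit 9, nat_lit 3, nat_lit 9, nat_lit 3, nat_lit 8, nat_lit 0, nat_lit 7, nat_lit 6, nat_lit 2, nat_lit 2, nat_lit 6, nat_lit 5, nat_lit 4, nat_lit 3, nat_lit 1]))) (.node (nat_lit 0x57ff52a5ea46acc) (.leaf ((nat_lit 2), [nat_lit 2, nat_lit 9, nat_lit 8, nat_lit 1, nat_lit 9, nat_lit 3, nat_lit 0, nat_lit 8, nat_lit 6, nat_lit 7, nat_lit 3, nat_lit 4, nat_lit 6, nat_lit 3, nat_lit 4])) (.node (nat_lit 0x57ffedf18a5267c) (.leaf ((nat_lit 0), [nat_lit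 5, nat_lit 6, nat_lit 8, nat_lit 7, nat_lit 0, nat_lit 7, nat_lit 2, nat_lit 6, nat_lit 5, nat_lit 3, nat_lit 3, nat_lit 0])) (.leaf ((nat_lit 3), [nat_lit 6, nat_lit 9, nat_lit 5, nat_lit 3, nat_lit 1, nat_lit 9, nat_lit 0, nat_lit 8, nat_lit 2, nat_lit 4, nat_lit 7, nat_lit 4, nat_lit 6, nat_lit 4, nat_lit 2, nat_lit 2, nat_lit 1])))))
 (.node (nat_lit 0x5802f44a5255530) (.node (nat_lit 0x5802f4423c9ab6c) (.leaf ((nat_lit 6), [nat_lit 4, nat_lit 0, nat_lit 7, nat_lit 8, nat_lit 6, nat_lit 3, nat_lit 4, nat_lit 7, nat_lit 6, nat_lit 5, nat_lit 4, nat_lit 2, nat_lit 1])) (.leaf ((nat_lit 2), [nat_lit 1, nat_lit 9, nat_lit 5, nat_lit 9, nat_lit 7, nat_lit 2, nat_lit 5, nat_lit 8, nat_lit 7, nat_lit 5, nat_lit 7, nat_lit 5, nat_lit 3, nat_lit 6, nat_lit 5, nat_lit 1]))) (.node (nat_lit 0x580351afe1fba34) (.leaf ((nat_lit 3), [nat_lit 7, nat_lit 9, nat_lit 2, nat_lit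 1, nat_lit 9, nat_lit 3, nat_lit 1, nat_lit 8, nat_lit 6, nat_lit 2, nat_lit 4, nat_lit 7, nat_lit 5, nat_lit 6, nat_lit 4, nat_lit 2, nat_lit 0])) (.node (nat_lit 0x580731df0b4f8fc) (.leaf ((nat_lit 2), [nat_lit 3, nat_lit 9, nat_lit 5, nat_lit 3, nat_lit 9, nat_lit 0, nat_lit 8, nat_lit 4, nat_lit 7, nat_lit 4, nat_lit 3, nat_lit 3, nat_lit 6, nat_lit 2, nat_lit 1])) (.leaf ((nat_lit 3), [nat_lit 2, nat_lit 9, nat_lit 3, nat_lit 5, nat_lit 9, nat_lit 1, nat_lit 8, nat_lit 1, nat_lit 8, nat_lit 5, nat_lit 1, nat_lit 7, nat_lit 3, nat_lit 4, nat_lit 6, nat_lit 5, nat_lit 1]))))))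
 (.node (nat_lit 0x581046758c26714) (.node (nat_lit 0x580e93e84fb13c0) (.node (nat_lit 0x580e93e039e00d4) (.leaf ((nat_lit 2), [nat_lit 1, nat_lit 8, nat_lit 6, nat_lit 1, nat_lit 8, nat_lit 5, nat_lit 3, nat_lit 6, nat_lit 2, nat_lit 4, nat_lit 0])) (.leaf ((nat_lit 3), [nat_lit 2, nat_lit 9, nat_lit 3, nat_lit 5, nat_lit 9, nat_lit 3, nat_lit 5, nat_lit 8, nat_lit 5, nat_lit 7, nat_lit 5, nat_lit 7, nat_lit 5, nat_lit 3, nat_lit 4, nat_lit 3, nat_lit 0]))) (.node (nat_lit 0x580f4e16e2e2574) (.leaf ((nat_lit 6), [nat_lit 3, nat_lit 6, nat_lit 0, nat_lit 9, nat_lit 8, nat_lit 5, nat_lit 7, nat_lit 8, nat_lit 3, nat_lit 4, nat_lit 7, nat_lit 6, nat_lit 5, nat_lit 3, nat_lit 6, nat_lit 3, nat_lit 0])) (.node (nat_lit 0x580fab21d65fd5c) (.leaf ((nat_lit 1), [nat_lit 2, nat_lit 2, nat_lit 9, nat_lit 1, nat_lit 9, nat_lit 4, nat_lit 8, nat_lit 0, nat_lit 8, nat_lit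 1, nat_lit 7, nat_lit 6, nat_lit 5, nat_lit 2])) (.leaf ((nat_lit 0), [nat_lit 4, nat_lit 7, nat_lit 8, nat_lit 6, nat_lit 5, nat_lit 6, nat_lit 5, nat_lit 4, nat_lit 3])))))
 (.node (nat_lit 0x5812746f9151404) (.node (nat_lit 0x5810a36ee441018) (.leaf ((nat_lit 1), [nat_lit 2, nat_lit 9, nat_lit 3, nat_lit 5, nat_lit 9, nat_lit 8, nat_lit 5, nat_lit 0, nat_lit 8, nat_lit 6, nat_lit 3, nat_lit 3, nat_lit 6, nat_lit 5, nat_lit 3, nat_lit 3])) (.leaf ((nat_lit 0), [nat_lit 3, nat_lit 0, nat_lit 8, nat_lit 3, nat_lit 3, nat_lit 3, nat_lit 6, nat_lit 5]))) (.node (nat_lit 0x5812d17213004a8) (.leaf ((nat_lit 0), [nat_lit 7, nat_lit 8, nat_lit 1, nat_lit 8, nat_lit 4, nat_lit 7, nat_lit 6, nat_lit 3, nat_lit 4, nat_lit 6, nat_lit 3, nat_lit 3, nat_lit 1])) (.node (nat_lit 0x5813aa15e2b3818) (.leaf ((nat_lit 0), [nat_lit 2, nat_lit 1, nat_lit 8, nat_lit 5, nat_lit 7,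 nat_lit 4, nat_lit 2, nat_lit 6, nat_lit 0])) (.leaf ((nat_lit 1), [nat_lit 9, nat_lit 7, nat_lit 5, nat_lit 0, nat_lit 9, nat_lit 1, nat_lit 8, nat_lit 2, nat_lit 4, nat_lit 7, nat_lit 3, nat_lit 6, nat_lit 5, nat_lit 2, nat_lit 1])))))))
 (.node (nat_lit 0x582a2f47d210b2c) (.node (nat_lit 0x581eec5e7be2528) (.node (nat_lit 0x581be60b73bfbe8) (.node (nat_lit 0x581b8905883066c) (.leaf ((nat_lit 1), [nat_lit 2, nat_lit 2, nat_lit 9, nat_lit 0, nat_lit 9, nat_lit 5, nat_lit 7, nat_lit 6, nat_lit 8, nat_lit 5, nat_lit 6, nat_lit 7, nat_lit 3, nat_lit 6, nat_lit 3, nat_lit 1])) (.leaf ((nat_lit 3), [nat_lit 2, nat_lit 7, nat_lit 9, nat_lit 5, nat_lit 9, nat_lit 6, nat_lit 8, nat_lit 0, nat_lit 8, nat_lit 7, nat_lit 5, nat_lit 6, nat_lit 4, nat_lit 3, nat_lit 3, nat_lit 3]))) (.node (nat_lit 0x581eec50a6650d8) (.leaf ((nat_lit 0), [nat_lit 7, nat_lit 5, nat_lit 8,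 nat_lit 7, nat_lit 3, nat_lit 6, nat_lit 5, nat_lit 4, nat_lit 2])) (.node (nat_lit 0x581eec566632604) (.leaf ((nat_lit 3), [nat_lit 6, nat_lit 9, nat_lit 2, nat_lit 1, nat_lit 9, nat_lit 8, nat_lit 5, nat_lit 2, nat_lit 8, nat_lit 5, nat_lit 1, nat_lit 7, nat_lit 6, nat_lit 3, nat_lit 4, nat_lit 6, nat_lit 3, nat_lit 3, nat_lit 0])) (.leaf ((nat_lit 6), [nat_lit 9, nat_lit 6, nat_lit 9, nat_lit 6, nat_lit 8, nat_lit 6, nat_lit 2, nat_lit 4, nat_lit 6, nat_lit 5, nat_lit 4, nat_lit 2, nat_lit 2, nat_lit 1])))))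
 (.node (nat_lit 0x5822ccdda7d691c) (.node (nat_lit 0x58200399fc8f9a0) (.leaf ((nat_lit 2), [nat_lit 8, nat_lit 5, nat_lit 0, nat_lit 8, nat_lit 6, nat_lit 0, nat_lit 7, nat_lit 3, nat_lit 4, nat_lit 6, nat_lit 3, nat_lit 4, nat_lit 3])) (.leaf ((nat_lit 2), [nat_lit 8, nat_lit 1, nat_lit 7, nat_lit 8, nat_lit 7, nat_lit 3, nat_lit 4, nat_lit 7, nat_lit 3, nat_lit 3, nat_lit 3, nat_lit 6, nat_lit 2, nat_lit 4]))) (.node (nat_lit 0x582329e2db6fb94) (.leaf ((nat_lit 1), [nat_lit 2, nat_lit 2, nat_lit 9, nat_lit 1, nat_lit 9, nat_lit 7, nat_lit 8, nat_lit 5, nat_lit 8, nat_lit 1, nat_lit 7, nat_lit 6, nat_lit 3, nat_lit 3, nat_lit 6, nat_lit 4, nat_lit 3, nat_lit 3])) (.node (nat_lit 0x5824027bb58a3e0) (.leaf ((nat_lit 1), [nat_lit 9, nat_lit 7, nat_lit 5, nat_lit 0, nat_lit 9, nat_lit 6, nat_lit 8, nat_lit 5, nat_lit 6, nat_lit 5, nat_lit 4, nat_lit 3, nat_lit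 3, nat_lit 3, nat_lit 1])) (.leaf ((nat_lit 0), [nat_lit 8, nat_lit 2, nat_lit 5, nat_lit 8, nat_lit 7, nat_lit 5, nat_lit 7, nat_lit 5, nat_lit 6, nat_lit 5, nat_lit 4, nat_lit 3]))))))
 (.node (nat_lit 0x582e8b02ab1cd1c) (.node (nat_lit 0x582d55ab7639cec) (.node (nat_lit 0x582a8c6d2ec73f0) (.leaf ((nat_lit 2), [nat_lit 0, nat_lit 8, nat_lit 6, nat_lit 3, nat_lit 8, nat_lit 5, nat_lit 6, nat_lit 7, nat_lit 3, nat_lit 3, nat_lit 3, nat_lit 6, nat_lit 5, nat_lit 4, nat_lit 3])) (.leaf ((nat_lit 0), [nat_lit 1, nat_lit 8, nat_lit 7, nat_lit 1, nat_lit 8, nat_lit 6, nat_lit 5, nat_lit 6, nat_lit 4, nat_lit 2, nat_lit 1]))) (.node (nat_lit 0x582db28f9ae9170) (.leaf ((nat_lit 0), [nat_lit 4, nat_lit 7, nat_lit 8, nat_lit 7, nat_lit 2, nat_lit 4, nat_lit 7, nat_lit 5, nat_lit 6, nat_lit 2, nat_lit 2, nat_lit 0])) (.node (nat_lit 0x582e8afa39522fc) (.leaf ((nat_lit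 3), [nat_lit 7, nat_lit 9, nat_lit 2, nat_lit 1, nat_lit 9, nat_lit 7, nat_lit 6, nat_lit 8, nat_lit 7, nat_lit 5, nat_lit 2, nat_lit 4, nat_lit 3, nat_lit 1])) (.leaf ((nat_lit 6), [nat_lit 2, nat_lit 8, nat_lit 3, nat_lit 9, nat_lit 5, nat_lit 8, nat_lit 6, nat_lit 5, nat_lit 0, nat_lit 7, nat_lit 2, nat_lit 4, nat_lit 6, nat_lit 3, nat_lit 4, nat_lit 3])))))
 (.node (nat_lit 0x58305bfffd474ac) (.node (nat_lit 0x582e8b080ef5398) (.leaf ((nat_lit 6), [nat_lit 2, nat_lit 2, nat_lit 9, nat_lit 1, nat_lit 9, nat_lit 7, nat_lit 8, nat_lit 1, nat_lit 8, nat_lit 6, nat_lit 7, nat_lit 2, nat_lit 4, nat_lit 6, nat_lit 1])) (.leaf ((nat_lit 6), [nat_lit 2, nat_lit 9, nat_lit 4, nat_lit 6, nat_lit 8, nat_lit 4, nat_lit 1, nat_lit 7, nat_lit 3, nat_lit 3, nat_lit 3, nat_lit 6]))) (.node (nat_lit 0x5831b1529ae0200) (.leaf ((nat_lit 2), [nat_lit 5, nat_lit 7, nat_lit 8,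 nat_lit 6, nat_lit 2, nat_lit 4, nat_lit 7, nat_lit 2, nat_lit 2, nat_lit 6, nat_lit 2, nat_lit 4, nat_lit 2, nat_lit 1])) (.node (nat_lit 0x58320e554a98604) (.leaf ((nat_lit 1), [nat_lit 6, nat_lit 9, nat_lit 2, nat_lit 1, nat_lit 9, nat_lit 1, nat_lit 8, nat_lit 1, nat_lit 8, nat_lit 5, nat_lit 4, nat_lit 7, nat_lit 6, nat_lit 5, nat_lit 4, nat_lit 2])) (.leaf ((nat_lit 1), [nat_lit 7, nat_lit 9, nat_lit 2, nat_lit 1, nat_lit 9, nat_lit 7, nat_lit 1, nat_lit 8, nat_lit 4, nat_lit 3, nat_lit 3, nat_lit 6, nat_lit 3, nat_lit 4, nat_lit 3]))))))))))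
 (.node (nat_lit 0x58be8e771993530) (.node (nat_lit 0x5878d0c85f592f0) (.node (nat_lit 0x5859f036554822c) (.node (nat_lit 0x5848f0b4da5ac98) (.node (nat_lit 0x583b41bfc5ea304) (.node (nat_lit 0x5839cda91c4fb94) (.node (nat_lit 0x5839cda3b88dfac) (.leaf ((nat_lit 3), [nat_lit 2, nat_lit 2, nat_lit 9, nat_lit 0, nat_lit 9, nat_lit 4, nat_lit 3, nat_lit 8, nat_lit 6, nat_lit 5, nat_lit 1, nat_lit 7, nat_lit 6, nat_lit 2, nat_lit 4, nat_lit 1])) (.leaf ((nat_lit 3), [nat_lit 0, nat_lit 7, nat_lit 0, nat_lit 9, nat_lit 1, nat_lit 9, nat_lit 7, nat_lit 0, nat_lit 8, nat_lit 2, nat_lit 6, nat_lit 5, nat_lit 4, nat_lit 3]))) (.node (nat_lit 0x583ae4db734b1c8) (.leaf ((nat_lit 3), [nat_lit 9, nat_lit 7, nat_lit 5, nat_lit 0, nat_lit 9, nat_lit 3, nat_lit 5, nat_lit 8, nat_lit 6, nat_lit 5, nat_lit 0, nat_lit 7, nat_lit 2, nat_lit 6, nat_lit 5, nat_lit 4, nat_lit 3]))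 (.leaf ((nat_lit 1), [nat_lit 0, nat_lit 7, nat_lit 0, nat_lit 9, nat_lit 1, nat_lit 9, nat_lit 5, nat_lit 1, nat_lit 8, nat_lit 7, nat_lit 5, nat_lit 7, nat_lit 4, nat_lit 6, nat_lit 2, nat_lit 2]))))
 (.node (nat_lit 0x583e0af373c125c) (.node (nat_lit 0x583dae19babd680) (.leaf ((nat_lit 0), [nat_lit 7, nat_lit 2, nat_lit 5, nat_lit 8, nat_lit 6, nat_lit 7, nat_lit 6, nat_lit 5, nat_lit 6, nat_lit 5, nat_lit 4, nat_lit 0])) (.leaf ((nat_lit 3), [nat_lit 6, nat_lit 9, nat_lit 2, nat_lit 1, nat_lit 9, nat_lit 7, nat_lit 5, nat_lit 8, nat_lit 1, nat_lit 8, nat_lit 5, nat_lit 6, nat_lit 2, nat_lit 4, nat_lit 3, nat_lit 1]))) (.node (nat_lit 0x5840b4742fadc70) (.leaf ((nat_lit 3), [nat_lit 2, nat_lit 2, nat_lit 9, nat_lit 1, nat_lit 9, nat_lit 7, nat_lit 5, nat_lit 1, nat_lit 8, nat_lit 6, nat_lit 1, nat_lit 7, nat_lit 6, nat_lit 1])) (.node (nat_lit 0x5841117b5d33098)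 (.leaf ((nat_lit 1), [nat_lit 6, nat_lit 9, nat_lit 2, nat_lit 1, nat_lit 9, nat_lit 0, nat_lit 8, nat_lit 6, nat_lit 1, nat_lit 8, nat_lit 5, nat_lit 6, nat_lit 7, nat_lit 4, nat_lit 3, nat_lit 3, nat_lit 0])) (.leaf ((nat_lit 1), [nat_lit 6, nat_lit 9, nat_lit 5, nat_lit 3, nat_lit 1, nat_lit 9, nat_lit 6, nat_lit 8, nat_lit 1, nat_lit 8, nat_lit 4, nat_lit 7, nat_lit 5, nat_lit 6, nat_lit 4, nat_lit 0]))))))
 (.node (nat_lit 0x584e065b9ea41b0) (.node (nat_lit 0x584a2619e4befa8) (.node (nat_lit 0x584a26117315f00) (.leaf ((nat_lit 1), [nat_lit 0, nat_lit 7, nat_lit 0, nat_lit 9, nat_lit 1, nat_lit 9, nat_lit 1, nat_lit 8, nat_lit 2, nat_lit 4, nat_lit 7, nat_lit 4, nat_lit 2, nat_lit 2, nat_lit 6, nat_lit 5, nat_lit 2, nat_lit 4])) (.leaf ((nat_lit 2), [nat_lit 7, nat_lit 1, nat_lit 8, nat_lit 1, nat_lit 8, nat_lit 7, nat_lit 3, nat_lit 4, nat_lit 7, nat_lit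 6, nat_lit 3, nat_lit 4, nat_lit 6, nat_lit 2, nat_lit 4, nat_lit 3, nat_lit 1]))) (.node (nat_lit 0x584a261f48a2230) (.leaf ((nat_lit 2), [nat_lit 1, nat_lit 9, nat_lit 5, nat_lit 9, nat_lit 7, nat_lit 8, nat_lit 1, nat_lit 8, nat_lit 7, nat_lit 4, nat_lit 2, nat_lit 2, nat_lit 6, nat_lit 2])) (.node (nat_lit 0x584ae04c6be6ddc) (.leaf ((nat_lit 2), [nat_lit 1, nat_lit 9, nat_lit 5, nat_lit 9, nat_lit 5, nat_lit 8, nat_lit 2, nat_lit 1, nat_lit 8, nat_lit 4, nat_lit 7, nat_lit 5, nat_lit 3, nat_lit 0])) (.leaf ((nat_lit 2), [nat_lit 6, nat_lit 9, nat_lit 2, nat_lit 1, nat_lit 9, nat_lit 2, nat_lit 2, nat_lit 8, nat_lit 5, nat_lit 0, nat_lit 7, nat_lit 5, nat_lit 2, nat_lit 4, nat_lit 2, nat_lit 0])))))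
 (.node (nat_lit 0x5855f1990fe3120) (.node (nat_lit 0x58510cf29f9c1c4) (.leaf ((nat_lit 0), [nat_lit 5, nat_lit 0, nat_lit 8, nat_lit 7, nat_lit 2, nat_lit 4, nat_lit 7, nat_lit 4, nat_lit 3, nat_lit 6, nat_lit 2, nat_lit 2])) (.leaf ((nat_lit 0), [nat_lit 3, nat_lit 7, nat_lit 0, nat_lit 8, nat_lit 7, nat_lit 4, nat_lit 2, nat_lit 2, nat_lit 6, nat_lit 5, nat_lit 4, nat_lit 3, nat_lit 0]))) (.node (nat_lit 0x5857088f55a7c4c) (.leaf ((nat_lit 0), [nat_lit 0, nat_lit 9, nat_lit 0, nat_lit 9, nat_lit 4, nat_lit 7, nat_lit 8, nat_lit 4, nat_lit 7, nat_lit 3, nat_lit 6, nat_lit 2, nat_lit 4, nat_lit 2, nat_lit 1])) (.node (nat_lit 0x58581fd39515fb0) (.leaf ((nat_lit 0), [nat_lit 9, nat_lit 0, nat_lit 7, nat_lit 2, nat_lit 9, nat_lit 8, nat_lit 6, nat_lit 2, nat_lit 4, nat_lit 7, nat_lit 6, nat_lit 3, nat_lit 3, nat_lit 6])) (.leaf ((nat_lit 0), [nat_lit 9, nat_lit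 2, nat_lit 9, nat_lit 3, nat_lit 9, nat_lit 8, nat_lit 5, nat_lit 8, nat_lit 5, nat_lit 4, nat_lit 7, nat_lit 5, nat_lit 3])))))))
 (.node (nat_lit 0x586931f043b1220) (.node (nat_lit 0x585f6395c9716dc) (.node (nat_lit 0x585bc174d028138) (.node (nat_lit 0x585aaa3be2bf458) (.leaf ((nat_lit 0), [nat_lit 9, nat_lit 8, nat_lit 2, nat_lit 1, nat_lit 9, nat_lit 7, nat_lit 8, nat_lit 4, nat_lit 1, nat_lit 7, nat_lit 4, nat_lit 3, nat_lit 3, nat_lit 6, nat_lit 3, nat_lit 4, nat_lit 1])) (.leaf ((nat_lit 0), [nat_lit 0, nat_lit 9, nat_lit 1, nat_lit 9, nat_lit 3, nat_lit 5, nat_lit 8, nat_lit 4, nat_lit 1, nat_lit 7, nat_lit 5, nat_lit 4, nat_lit 3, nat_lit 3]))) (.node (nat_lit 0x585cd829de3cb00) (.leaf ((nat_lit 0), [nat_lit 6, nat_lit 9, nat_lit 2, nat_lit 1, nat_lit 9, nat_lit 7, nat_lit 5, nat_lit 6, nat_lit 8, nat_lit 4, nat_lit 6, nat_lit 4, nat_lit 2, nat_lit 2,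 nat_lit 1])) (.node (nat_lit 0x585ea9903bfa788) (.leaf ((nat_lit 0), [nat_lit 6, nat_lit 9, nat_lit 2, nat_lit 1, nat_lit 9, nat_lit 7, nat_lit 8, nat_lit 6, nat_lit 7, nat_lit 6, nat_lit 4, nat_lit 2, nat_lit 6, nat_lit 3, nat_lit 0])) (.leaf ((nat_lit 0), [nat_lit 5, nat_lit 9, nat_lit 6, nat_lit 0, nat_lit 9, nat_lit 8, nat_lit 1, nat_lit 8, nat_lit 4, nat_lit 7, nat_lit 5, nat_lit 3, nat_lit 6, nat_lit 5, nat_lit 4, nat_lit 2])))))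
 (.node (nat_lit 0x5865904f089f648) (.node (nat_lit 0x5864d65584c6e5c) (.leaf ((nat_lit 3), [nat_lit 4, nat_lit 3, nat_lit 8, nat_lit 5, nat_lit 1, nat_lit 7, nat_lit 4, nat_lit 2, nat_lit 2, nat_lit 0])) (.leaf ((nat_lit 0), [nat_lit 5, nat_lit 9, nat_lit 6, nat_lit 0, nat_lit 9, nat_lit 8, nat_lit 2, nat_lit 6, nat_lit 8, nat_lit 6, nat_lit 5, nat_lit 7, nat_lit 3, nat_lit 4, nat_lit 6, nat_lit 3, nat_lit 1]))) (.node (nat_lit 0x586703bf7290e2c) (.leaf ((nat_lit 2), [nat_lit 9, nat_lit 8, nat_lit 2, nat_lit 1, nat_lit 9, nat_lit 3, nat_lit 0, nat_lit 8, nat_lit 7, nat_lit 0, nat_lit 7, nat_lit 2, nat_lit 2, nat_lit 6, nat_lit 3, nat_lit 4, nat_lit 0])) (.node (nat_lit 0x58681ab69e4e240) (.leaf ((nat_lit 0), [nat_lit 0, nat_lit 7, nat_lit 0, nat_lit 9, nat_lit 1, nat_lit 9, nat_lit 8, nat_lit 7, nat_lit 1, nat_lit 8, nat_lit 0, nat_lit 7, nat_lit 5, nat_lit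 3, nat_lit 6, nat_lit 5, nat_lit 2, nat_lit 2, nat_lit 0])) (.leaf ((nat_lit 0), [nat_lit 0, nat_lit 9, nat_lit 1, nat_lit 9, nat_lit 8, nat_lit 6, nat_lit 2, nat_lit 8, nat_lit 1, nat_lit 7, nat_lit 4, nat_lit 3, nat_lit 6, nat_lit 2, nat_lit 4]))))))
 (.node (nat_lit 0x58735d5105f1558) (.node (nat_lit 0x586bbd27b8cef88) (.node (nat_lit 0x586aa5aea74c7ec) (.leaf ((nat_lit 0), [nat_lit 0, nat_lit 7, nat_lit 0, nat_lit 9, nat_lit 1, nat_lit 9, nat_lit 1, nat_lit 7, nat_lit 8, nat_lit 5, nat_lit 1, nat_lit 7, nat_lit 6, nat_lit 3, nat_lit 3, nat_lit 6, nat_lit 2, nat_lit 4, nat_lit 0])) (.leaf ((nat_lit 0), [nat_lit 2, nat_lit 9, nat_lit 8, nat_lit 1, nat_lit 9, nat_lit 7, nat_lit 8, nat_lit 1, nat_lit 8, nat_lit 6, nat_lit 0, nat_lit 7, nat_lit 6, nat_lit 5, nat_lit 6, nat_lit 4, nat_lit 1]))) (.node (nat_lit 0x586d8dc2b4f96cc) (.leaf ((nat_lit 0), [nat_lit 5,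 nat_lit 9, nat_lit 6, nat_lit 0, nat_lit 9, nat_lit 2, nat_lit 6, nat_lit 8, nat_lit 3, nat_lit 6, nat_lit 7, nat_lit 4, nat_lit 3, nat_lit 6, nat_lit 4, nat_lit 3, nat_lit 1])) (.node (nat_lit 0x586e47cf7236420) (.leaf ((nat_lit 0), [nat_lit 0, nat_lit 7, nat_lit 0, nat_lit 9, nat_lit 1, nat_lit 9, nat_lit 3, nat_lit 5, nat_lit 8, nat_lit 4, nat_lit 7, nat_lit 6, nat_lit 4, nat_lit 3, nat_lit 6, nat_lit 2, nat_lit 4, nat_lit 2])) (.leaf ((nat_lit 0), [nat_lit 9, nat_lit 0, nat_lit 7, nat_lit 2, nat_lit 9, nat_lit 5, nat_lit 8, nat_lit 0, nat_lit 8, nat_lit 7, nat_lit 1, nat_lit 7, nat_lit 6, nat_lit 5, nat_lit 3, nat_lit 0])))))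
 (.node (nat_lit 0x58758b7ef728eb8) (.node (nat_lit 0x5874174a5bcb040) (.leaf ((nat_lit 0), [nat_lit 6, nat_lit 9, nat_lit 2, nat_lit 1, nat_lit 9, nat_lit 5, nat_lit 7, nat_lit 8, nat_lit 1, nat_lit 7, nat_lit 2, nat_lit 2, nat_lit 6, nat_lit 4, nat_lit 3, nat_lit 3, nat_lit 1])) (.leaf ((nat_lit 0), [nat_lit 9, nat_lit 0, nat_lit 7, nat_lit 2, nat_lit 9, nat_lit 7, nat_lit 5, nat_lit 8, nat_lit 2, nat_lit 4, nat_lit 7, nat_lit 3, nat_lit 3, nat_lit 6, nat_lit 5, nat_lit 2]))) (.node (nat_lit 0x5877b9af9aab930) (.leaf ((nat_lit 0), [nat_lit 2, nat_lit 9, nat_lit 8, nat_lit 1, nat_lit 9, nat_lit 5, nat_lit 8, nat_lit 0, nat_lit 8, nat_lit 1, nat_lit 7, nat_lit 2, nat_lit 4, nat_lit 6, nat_lit 4, nat_lit 0])) (.node (nat_lit 0x587816bf67fdd5c) (.leaf ((nat_lit 5), [nat_lit 5, nat_lit 9, nat_lit 6, nat_lit 0, nat_lit 9, nat_lit 5, nat_lit 0, nat_lit 8, nat_lit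 5, nat_lit 7, nat_lit 3, nat_lit 6, nat_lit 3, nat_lit 1])) (.leaf ((nat_lit 0), [nat_lit 5, nat_lit 9, nat_lit 6, nat_lit 0, nat_lit 9, nat_lit 3, nat_lit 8, nat_lit 6, nat_lit 1, nat_lit 8, nat_lit 7, nat_lit 6, nat_lit 5, nat_lit 3, nat_lit 6, nat_lit 0]))))))))
 (.node (nat_lit 0x58986a98b74d51c) (.node (nat_lit 0x58886ee5fca4f8c) (.node (nat_lit 0x5883b6013a1f078) (.node (nat_lit 0x587afe59a5a46b8) (.node (nat_lit 0x587a447a2ef938c) (.leaf ((nat_lit 0), [nat_lit 0, nat_lit 9, nat_lit 5, nat_lit 3, nat_lit 9, nat_lit 4, nat_lit 6, nat_lit 8, nat_lit 6, nat_lit 2, nat_lit 4, nat_lit 7, nat_lit 6, nat_lit 2, nat_lit 4, nat_lit 6, nat_lit 5, nat_lit 4])) (.leaf ((nat_lit 0), [nat_lit 0, nat_lit 9, nat_lit 0, nat_lit 9, nat_lit 5, nat_lit 7, nat_lit 5, nat_lit 8, nat_lit 6, nat_lit 1, nat_lit 7, nat_lit 2, nat_lit 6, nat_lit 5, nat_lit 4, nat_lit 3, nat_lit 0])))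 (.node (nat_lit 0x587ccf2216c05d8) (.leaf ((nat_lit 0), [nat_lit 0, nat_lit 9, nat_lit 5, nat_lit 3, nat_lit 1, nat_lit 9, nat_lit 2, nat_lit 7, nat_lit 8, nat_lit 7, nat_lit 5, nat_lit 0, nat_lit 7, nat_lit 5, nat_lit 6, nat_lit 3, nat_lit 3])) (.node (nat_lit 0x5882fc06fe4c58c) (.leaf ((nat_lit 0), [nat_lit 9, nat_lit 0, nat_lit 7, nat_lit 2, nat_lit 9, nat_lit 8, nat_lit 0, nat_lit 7, nat_lit 8, nat_lit 7, nat_lit 5, nat_lit 0, nat_lit 7, nat_lit 6, nat_lit 2, nat_lit 4, nat_lit 3, nat_lit 0])) (.leaf ((nat_lit 3), [nat_lit 6, nat_lit 8, nat_lit 5, nat_lit 4, nat_lit 7, nat_lit 4, nat_lit 6, nat_lit 5])))))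
 (.node (nat_lit 0x588529aa3c670c0) (.node (nat_lit 0x588470318a5c7dc) (.leaf ((nat_lit 0), [nat_lit 0, nat_lit 9, nat_lit 5, nat_lit 3, nat_lit 9, nat_lit 3, nat_lit 8, nat_lit 3, nat_lit 4, nat_lit 7, nat_lit 4, nat_lit 2, nat_lit 6, nat_lit 3, nat_lit 3, nat_lit 3, nat_lit 1])) (.leaf ((nat_lit 0), [nat_lit 9, nat_lit 8, nat_lit 2, nat_lit 1, nat_lit 9, nat_lit 5, nat_lit 7, nat_lit 6, nat_lit 8, nat_lit 7, nat_lit 2, nat_lit 4, nat_lit 6, nat_lit 5, nat_lit 4, nat_lit 1]))) (.node (nat_lit 0x5886faa529aa258) (.leaf ((nat_lit 0), [nat_lit 0, nat_lit 9, nat_lit 1, nat_lit 9, nat_lit 7, nat_lit 2, nat_lit 8, nat_lit 2, nat_lit 2, nat_lit 6, nat_lit 5, nat_lit 2])) (.node (nat_lit 0x5887b50b31d42b8) (.leaf ((nat_lit 0), [nat_lit 2, nat_lit 7, nat_lit 9, nat_lit 5, nat_lit 9, nat_lit 6, nat_lit 8, nat_lit 6, nat_lit 5, nat_lit 7, nat_lit 6, nat_lit 4, nat_lit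 2, nat_lit 6, nat_lit 3, nat_lit 0])) (.leaf ((nat_lit 0), [nat_lit 0, nat_lit 9, nat_lit 0, nat_lit 9, nat_lit 2, nat_lit 7, nat_lit 8, nat_lit 5, nat_lit 7, nat_lit 5, nat_lit 7, nat_lit 4, nat_lit 3, nat_lit 6, nat_lit 2, nat_lit 4, nat_lit 2]))))))
 (.node (nat_lit 0x589354385afd6d8) (.node (nat_lit 0x5889e297cca60d8) (.node (nat_lit 0x5888cbc153e0100) (.leaf ((nat_lit 0), [nat_lit 9, nat_lit 8, nat_lit 2, nat_lit 1, nat_lit 9, nat_lit 7, nat_lit 8, nat_lit 3, nat_lit 6, nat_lit 1, nat_lit 7, nat_lit 2, nat_lit 4, nat_lit 2, nat_lit 1])) (.leaf ((nat_lit 0), [nat_lit 0, nat_lit 9, nat_lit 5, nat_lit 3, nat_lit 9, nat_lit 1, nat_lit 8, nat_lit 6, nat_lit 1, nat_lit 8, nat_lit 3, nat_lit 6, nat_lit 4, nat_lit 3, nat_lit 3, nat_lit 1]))) (.node (nat_lit 0x588afa10de28430) (.leaf ((nat_lit 0), [nat_lit 9, nat_lit 2, nat_lit 9, nat_lit 3, nat_lit 9, nat_lit 5,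 nat_lit 1, nat_lit 8, nat_lit 7, nat_lit 2, nat_lit 4, nat_lit 7, nat_lit 5, nat_lit 3, nat_lit 4, nat_lit 0])) (.node (nat_lit 0x58923dc67ee9570) (.leaf ((nat_lit 0), [nat_lit 2, nat_lit 9, nat_lit 8, nat_lit 1, nat_lit 9, nat_lit 2, nat_lit 2, nat_lit 8, nat_lit 7, nat_lit 1, nat_lit 7, nat_lit 6, nat_lit 3, nat_lit 4, nat_lit 6, nat_lit 5, nat_lit 4])) (.leaf ((nat_lit 0), [nat_lit 2, nat_lit 9, nat_lit 8, nat_lit 1, nat_lit 9, nat_lit 3, nat_lit 5, nat_lit 6, nat_lit 8, nat_lit 4, nat_lit 7, nat_lit 2, nat_lit 6, nat_lit 5, nat_lit 2, nat_lit 4, nat_lit 2, nat_lit 1])))))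
 (.node (nat_lit 0x5896993d7d359ec) (.node (nat_lit 0x58946b6db08334c) (.leaf ((nat_lit 0), [nat_lit 0, nat_lit 9, nat_lit 5, nat_lit 3, nat_lit 1, nat_lit 9, nat_lit 5, nat_lit 1, nat_lit 8, nat_lit 6, nat_lit 5, nat_lit 1, nat_lit 7, nat_lit 5, nat_lit 2, nat_lit 4, nat_lit 3])) (.leaf ((nat_lit 0), [nat_lit 0, nat_lit 9, nat_lit 5, nat_lit 3, nat_lit 9, nat_lit 3, nat_lit 8, nat_lit 6, nat_lit 5, nat_lit 1, nat_lit 7, nat_lit 3, nat_lit 1]))) (.node (nat_lit 0x5897531f77cc4c0) (.leaf ((nat_lit 0), [nat_lit 9, nat_lit 2, nat_lit 9, nat_lit 3, nat_lit 9, nat_lit 3, nat_lit 8, nat_lit 1, nat_lit 7, nat_lit 3, nat_lit 6, nat_lit 4, nat_lit 1])) (.node (nat_lit 0x5897b0b7d0adec8) (.leaf ((nat_lit 5), [nat_lit 6, nat_lit 9, nat_lit 2, nat_lit 1, nat_lit 9, nat_lit 3, nat_lit 3, nat_lit 8, nat_lit 4, nat_lit 6, nat_lit 5, nat_lit 3, nat_lit 3])) (.leaf ((nat_lit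 0), [nat_lit 0, nat_lit 9, nat_lit 1, nat_lit 9, nat_lit 3, nat_lit 0, nat_lit 8, nat_lit 4, nat_lit 1, nat_lit 7, nat_lit 2, nat_lit 2, nat_lit 6, nat_lit 0])))))))
 (.node (nat_lit 0x58a808a0698afec) (.node (nat_lit 0x58a238ed9fba120) (.node (nat_lit 0x589a3b5f2e181e0) (.node (nat_lit 0x58992450d516678) (.leaf ((nat_lit 0), [nat_lit 2, nat_lit 7, nat_lit 9, nat_lit 5, nat_lit 9, nat_lit 2, nat_lit 6, nat_lit 1, nat_lit 8, nat_lit 2, nat_lit 4, nat_lit 7, nat_lit 5, nat_lit 3, nat_lit 4])) (.leaf ((nat_lit 0), [nat_lit 0, nat_lit 7, nat_lit 0, nat_lit 9, nat_lit 1, nat_lit 9, nat_lit 2, nat_lit 7, nat_lit 8, nat_lit 7, nat_lit 5, nat_lit 7, nat_lit 6, nat_lit 5, nat_lit 3, nat_lit 6, nat_lit 2, nat_lit 4]))) (.node (nat_lit 0x58a0c4bbe445180) (.leaf ((nat_lit 0), [nat_lit 9, nat_lit 0, nat_lit 7, nat_lit 2, nat_lit 9, nat_lit 8, nat_lit 4, nat_lit 7, nat_lit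 4, nat_lit 3, nat_lit 3, nat_lit 6, nat_lit 5])) (.node (nat_lit 0x58a121b7643b8ec) (.leaf ((nat_lit 0), [nat_lit 9, nat_lit 0, nat_lit 7, nat_lit 2, nat_lit 9, nat_lit 0, nat_lit 7, nat_lit 8, nat_lit 5, nat_lit 7, nat_lit 5, nat_lit 0, nat_lit 7, nat_lit 6, nat_lit 5, nat_lit 3, nat_lit 1])) (.leaf ((nat_lit 0), [nat_lit 6, nat_lit 9, nat_lit 2, nat_lit 1, nat_lit 9, nat_lit 7, nat_lit 8, nat_lit 1, nat_lit 8, nat_lit 6, nat_lit 0, nat_lit 7, nat_lit 2, nat_lit 6, nat_lit 4, nat_lit 2])))))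
 (.node (nat_lit 0x58a5db36a9bfa48) (.node (nat_lit 0x58a3502a2567088) (.leaf ((nat_lit 5), [nat_lit 9, nat_lit 0, nat_lit 7, nat_lit 2, nat_lit 9, nat_lit 7, nat_lit 2, nat_lit 1, nat_lit 8, nat_lit 1, nat_lit 7, nat_lit 3, nat_lit 3, nat_lit 6, nat_lit 2, nat_lit 4])) (.leaf ((nat_lit 0), [nat_lit 2, nat_lit 7, nat_lit 9, nat_lit 5, nat_lit 9, nat_lit 6, nat_lit 3, nat_lit 8, nat_lit 4, nat_lit 1, nat_lit 7, nat_lit 3, nat_lit 6, nat_lit 3, nat_lit 4, nat_lit 3]))) (.node (nat_lit 0x58a63803730f64c) (.leaf ((nat_lit 0), [nat_lit 0, nat_lit 9, nat_lit 5, nat_lit 3, nat_lit 1, nat_lit 9, nat_lit 5, nat_lit 1, nat_lit 8, nat_lit 1, nat_lit 7, nat_lit 3, nat_lit 3, nat_lit 3, nat_lit 6, nat_lit 3, nat_lit 3, nat_lit 1])) (.node (nat_lit 0x58a74ee8795f6a0) (.leaf ((nat_lit 0), [nat_lit 2, nat_lit 7, nat_lit 9, nat_lit 5, nat_lit 9, nat_lit 3, nat_lit 7, nat_lit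 0, nat_lit 8, nat_lit 7, nat_lit 5, nat_lit 0, nat_lit 7, nat_lit 6, nat_lit 3, nat_lit 4, nat_lit 6])) (.leaf ((nat_lit 0), [nat_lit 0, nat_lit 9, nat_lit 0, nat_lit 9, nat_lit 4, nat_lit 7, nat_lit 8, nat_lit 1, nat_lit 7, nat_lit 3, nat_lit 3, nat_lit 6, nat_lit 5, nat_lit 3, nat_lit 0]))))))
 (.node (nat_lit 0x58b34b6731864e0) (.node (nat_lit 0x58b11dee2c7729c) (.node (nat_lit 0x58ae92c31cf5260) (.leaf ((nat_lit 0), [nat_lit 9, nat_lit 2, nat_lit 9, nat_lit 3, nat_lit 9, nat_lit 8, nat_lit 6, nat_lit 5, nat_lit 7, nat_lit 2, nat_lit 2])) (.leaf ((nat_lit 0), [nat_lit 0, nat_lit 7, nat_lit 0, nat_lit 9, nat_lit 1, nat_lit 9, nat_lit 8, nat_lit 1, nat_lit 7, nat_lit 8, nat_lit 5, nat_lit 4, nat_lit 7, nat_lit 3, nat_lit 4, nat_lit 3, nat_lit 3, nat_lit 6]))) (.node (nat_lit 0x58b17aeb785f188) (.leaf ((nat_lit 0), [nat_lit 9, nat_lit 0, nat_lit 7, nat_lit 2,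 nat_lit 9, nat_lit 8, nat_lit 7, nat_lit 2, nat_lit 4, nat_lit 7, nat_lit 3, nat_lit 6, nat_lit 2, nat_lit 4, nat_lit 3, nat_lit 0])) (.node (nat_lit 0x58b291609058c2c) (.leaf ((nat_lit 0), [nat_lit 0, nat_lit 7, nat_lit 0, nat_lit 9, nat_lit 1, nat_lit 9, nat_lit 2, nat_lit 8, nat_lit 6, nat_lit 5, nat_lit 6, nat_lit 7, nat_lit 3, nat_lit 6, nat_lit 5, nat_lit 3, nat_lit 4])) (.leaf ((nat_lit 3), [nat_lit 1, nat_lit 7, nat_lit 8, nat_lit 6, nat_lit 5, nat_lit 6, nat_lit 7, nat_lit 6, nat_lit 5, nat_lit 3])))))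
 (.node (nat_lit 0x58b5d69ae0c27b0) (.node (nat_lit 0x58b5791257613ec) (.leaf ((nat_lit 0), [nat_lit 5, nat_lit 9, nat_lit 6, nat_lit 0, nat_lit 9, nat_lit 7, nat_lit 5, nat_lit 8, nat_lit 6, nat_lit 5, nat_lit 7, nat_lit 2, nat_lit 6, nat_lit 2, nat_lit 2])) (.leaf ((nat_lit 0), [nat_lit 9, nat_lit 0, nat_lit 7, nat_lit 2, nat_lit 9, nat_lit 7, nat_lit 5, nat_lit 8, nat_lit 5, nat_lit 0, nat_lit 7, nat_lit 6, nat_lit 3, nat_lit 3, nat_lit 6, nat_lit 5]))) (.node (nat_lit 0x58b6ed882acfec8) (.leaf ((nat_lit 0), [nat_lit 2, nat_lit 7, nat_lit 9, nat_lit 5, nat_lit 9, nat_lit 2, nat_lit 6, nat_lit 1, nat_lit 8, nat_lit 7, nat_lit 2, nat_lit 4, nat_lit 3, nat_lit 6, nat_lit 2, nat_lit 2])) (.node (nat_lit 0x58bd777fbfd785c) (.leaf ((nat_lit 0), [nat_lit 2, nat_lit 9, nat_lit 8, nat_lit 1, nat_lit 9, nat_lit 8, nat_lit 7, nat_lit 1, nat_lit 8, nat_lit 5, nat_lit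 7, nat_lit 3, nat_lit 6, nat_lit 4, nat_lit 3, nat_lit 3, nat_lit 1])) (.leaf ((nat_lit 0), [nat_lit 2, nat_lit 9, nat_lit 8, nat_lit 1, nat_lit 9, nat_lit 6, nat_lit 2, nat_lit 8, nat_lit 4, nat_lit 1, nat_lit 7, nat_lit 3, nat_lit 3, nat_lit 3, nat_lit 6, nat_lit 3])))))))))
 (.node (nat_lit 0x58fdc1e4393cd00) (.node (nat_lit 0x58dd6de05545b80) (.node (nat_lit 0x58ce898e3ce578c) (.node (nat_lit 0x58c40116d9eb89c) (.node (nat_lit 0x58c05ed305fc9c0) (.node (nat_lit 0x58bfa4e9ada1998) (.leaf ((nat_lit 0), [nat_lit 2, nat_lit 7, nat_lit 9, nat_lit 5, nat_lit 9, nat_lit 8, nat_lit 2, nat_lit 6, nat_lit 8, nat_lit 7, nat_lit 5, nat_lit 7, nat_lit 4, nat_lit 2, nat_lit 2, nat_lit 6, nat_lit 1])) (.leaf ((nat_lit 2), [nat_lit 2, nat_lit 7, nat_lit 9, nat_lit 5, nat_lit 9, nat_lit 3, nat_lit 0, nat_lit 8, nat_lit 6, nat_lit 7, nat_lit 5, nat_lit 2, nat_lit 4, nat_lit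 3, nat_lit 0]))) (.node (nat_lit 0x58c1192070ede38) (.leaf ((nat_lit 0), [nat_lit 5, nat_lit 9, nat_lit 6, nat_lit 0, nat_lit 9, nat_lit 7, nat_lit 5, nat_lit 8, nat_lit 1, nat_lit 7, nat_lit 5, nat_lit 6, nat_lit 5, nat_lit 1])) (.node (nat_lit 0x58c22fa108aafd8) (.leaf ((nat_lit 0), [nat_lit 9, nat_lit 0, nat_lit 7, nat_lit 2, nat_lit 9, nat_lit 4, nat_lit 0, nat_lit 7, nat_lit 8, nat_lit 6, nat_lit 7, nat_lit 6, nat_lit 4, nat_lit 3, nat_lit 6, nat_lit 2, nat_lit 2])) (.leaf ((nat_lit 0), [nat_lit 0, nat_lit 9, nat_lit 0, nat_lit 9, nat_lit 2, nat_lit 8, nat_lit 6, nat_lit 7, nat_lit 2, nat_lit 6, nat_lit 5, nat_lit 3, nat_lit 4])))))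
 (.node (nat_lit 0x58c574c76795bf8) (.node (nat_lit 0x58c5180a11c8c30) (.leaf ((nat_lit 0), [nat_lit 0, nat_lit 9, nat_lit 0, nat_lit 9, nat_lit 7, nat_lit 1, nat_lit 7, nat_lit 8, nat_lit 6, nat_lit 3, nat_lit 4, nat_lit 7, nat_lit 5])) (.leaf ((nat_lit 0), [nat_lit 9, nat_lit 0, nat_lit 7, nat_lit 2, nat_lit 9, nat_lit 2, nat_lit 7, nat_lit 8, nat_lit 6, nat_lit 1, nat_lit 7, nat_lit 5, nat_lit 3, nat_lit 4, nat_lit 0]))) (.node (nat_lit 0x58c62ebef17e0cc) (.leaf ((nat_lit 0), [nat_lit 0, nat_lit 9, nat_lit 5, nat_lit 3, nat_lit 9, nat_lit 8, nat_lit 1, nat_lit 8, nat_lit 1, nat_lit 7, nat_lit 4, nat_lit 2, nat_lit 6, nat_lit 2, nat_lit 4])) (.node (nat_lit 0x58cbfe6441bbf58) (.leaf ((nat_lit 0), [nat_lit 0, nat_lit 9, nat_lit 5, nat_lit 3, nat_lit 9, nat_lit 6, nat_lit 2, nat_lit 1, nat_lit 8, nat_lit 1, nat_lit 7, nat_lit 2, nat_lit 4, nat_lit 3, nat_lit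 6, nat_lit 3, nat_lit 4, nat_lit 1])) (.leaf ((nat_lit 0), [nat_lit 9, nat_lit 2, nat_lit 9, nat_lit 3, nat_lit 9, nat_lit 8, nat_lit 0, nat_lit 8, nat_lit 5, nat_lit 4, nat_lit 7, nat_lit 2, nat_lit 4, nat_lit 3, nat_lit 6, nat_lit 3, nat_lit 0]))))))
 (.node (nat_lit 0x58d3425fc607138) (.node (nat_lit 0x58d0b7b7dea0f9c) (.node (nat_lit 0x58cfa0df99e99b0) (.leaf ((nat_lit 0), [nat_lit 0, nat_lit 9, nat_lit 1, nat_lit 9, nat_lit 6, nat_lit 1, nat_lit 8, nat_lit 6, nat_lit 5, nat_lit 7, nat_lit 4, nat_lit 6, nat_lit 2, nat_lit 4, nat_lit 2, nat_lit 1])) (.leaf ((nat_lit 0), [nat_lit 9, nat_lit 0, nat_lit 7, nat_lit 2, nat_lit 9, nat_lit 2, nat_lit 7, nat_lit 8, nat_lit 5, nat_lit 7, nat_lit 5, nat_lit 0, nat_lit 7, nat_lit 4, nat_lit 2, nat_lit 2, nat_lit 6, nat_lit 2]))) (.node (nat_lit 0x58d171aba2a7f88) (.leaf ((nat_lit 0), [nat_lit 6, nat_lit 9, nat_lit 2,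 nat_lit 1, nat_lit 9, nat_lit 7, nat_lit 8, nat_lit 7, nat_lit 0, nat_lit 8, nat_lit 4, nat_lit 1, nat_lit 7, nat_lit 2, nat_lit 6, nat_lit 0])) (.node (nat_lit 0x58d288624e4e760) (.leaf ((nat_lit 0), [nat_lit 9, nat_lit 0, nat_lit 7, nat_lit 2, nat_lit 9, nat_lit 5, nat_lit 6, nat_lit 8, nat_lit 1, nat_lit 7, nat_lit 2, nat_lit 6, nat_lit 5, nat_lit 3, nat_lit 3])) (.leaf ((nat_lit 0), [nat_lit 9, nat_lit 2, nat_lit 9, nat_lit 3, nat_lit 9, nat_lit 8, nat_lit 1, nat_lit 7, nat_lit 6, nat_lit 4, nat_lit 3, nat_lit 6, nat_lit 2, nat_lit 4, nat_lit 3, nat_lit 0])))))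
 (.node (nat_lit 0x58d4b6116809580) (.node (nat_lit 0x58d39f15ec6ef6c) (.leaf ((nat_lit 2), [nat_lit 5, nat_lit 9, nat_lit 6, nat_lit 0, nat_lit 9, nat_lit 5, nat_lit 7, nat_lit 8, nat_lit 4, nat_lit 7, nat_lit 4, nat_lit 2, nat_lit 6, nat_lit 5])) (.leaf ((nat_lit 0), [nat_lit 0, nat_lit 9, nat_lit 1, nat_lit 9, nat_lit 6, nat_lit 1, nat_lit 8, nat_lit 1, nat_lit 7, nat_lit 6, nat_lit 2, nat_lit 4, nat_lit 6, nat_lit 2, nat_lit 4]))) (.node (nat_lit 0x58da867c59a7c5c) (.leaf ((nat_lit 0), [nat_lit 6, nat_lit 9, nat_lit 2, nat_lit 1, nat_lit 9, nat_lit 7, nat_lit 5, nat_lit 8, nat_lit 6, nat_lit 7, nat_lit 4, nat_lit 3, nat_lit 3, nat_lit 6, nat_lit 2, nat_lit 1])) (.node (nat_lit 0x58dcb3e619734d8) (.leaf ((nat_lit 5), [nat_lit 6, nat_lit 9, nat_lit 2, nat_lit 1, nat_lit 9, nat_lit 0, nat_lit 8, nat_lit 7, nat_lit 1, nat_lit 8, nat_lit 2, nat_lit 4, nat_lit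 3, nat_lit 6, nat_lit 1])) (.leaf ((nat_lit 0), [nat_lit 0, nat_lit 9, nat_lit 0, nat_lit 9, nat_lit 2, nat_lit 7, nat_lit 8, nat_lit 6, nat_lit 0, nat_lit 7, nat_lit 4, nat_lit 6, nat_lit 4, nat_lit 0])))))))
 (.node (nat_lit 0x58ed0cf35ed0730) (.node (nat_lit 0x58e1ca0a178b020) (.node (nat_lit 0x58df9c51d47b470) (.node (nat_lit 0x58de85254c4d578) (.leaf ((nat_lit 0), [nat_lit 0, nat_lit 7, nat_lit 0, nat_lit 9, nat_lit 1, nat_lit 9, nat_lit 6, nat_lit 1, nat_lit 8, nat_lit 5, nat_lit 1, nat_lit 7, nat_lit 6, nat_lit 3, nat_lit 3, nat_lit 6, nat_lit 3, nat_lit 3, nat_lit 0])) (.leaf ((nat_lit 0), [nat_lit 2, nat_lit 7, nat_lit 9, nat_lit 5, nat_lit 9, nat_lit 8, nat_lit 5, nat_lit 8, nat_lit 5, nat_lit 6, nat_lit 7, nat_lit 2, nat_lit 6, nat_lit 5, nat_lit 4, nat_lit 3, nat_lit 0]))) (.node (nat_lit 0x58e0565819ecb08) (.leaf ((nat_lit 0), [nat_lit 5, nat_lit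 9, nat_lit 6, nat_lit 0, nat_lit 9, nat_lit 6, nat_lit 3, nat_lit 0, nat_lit 8, nat_lit 2, nat_lit 6, nat_lit 3, nat_lit 4, nat_lit 3])) (.node (nat_lit 0x58e0b307c827d8c) (.leaf ((nat_lit 0), [nat_lit 5, nat_lit 9, nat_lit 6, nat_lit 0, nat_lit 9, nat_lit 7, nat_lit 1, nat_lit 8, nat_lit 7, nat_lit 0, nat_lit 7, nat_lit 6, nat_lit 3, nat_lit 4, nat_lit 6, nat_lit 5])) (.leaf ((nat_lit 0), [nat_lit 9, nat_lit 8, nat_lit 2, nat_lit 1, nat_lit 9, nat_lit 8, nat_lit 6, nat_lit 2, nat_lit 8, nat_lit 4, nat_lit 0, nat_lit 7, nat_lit 6, nat_lit 2, nat_lit 2, nat_lit 1])))))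
 (.node (nat_lit 0x58e96a9075dd2d8) (.node (nat_lit 0x58e283c1abb97ec) (.leaf ((nat_lit 0), [nat_lit 0, nat_lit 9, nat_lit 0, nat_lit 9, nat_lit 6, nat_lit 1, nat_lit 8, nat_lit 7, nat_lit 4, nat_lit 2, nat_lit 2])) (.leaf ((nat_lit 0), [nat_lit 9, nat_lit 8, nat_lit 2, nat_lit 1, nat_lit 9, nat_lit 5, nat_lit 7, nat_lit 5, nat_lit 8, nat_lit 1, nat_lit 7, nat_lit 2, nat_lit 4, nat_lit 6, nat_lit 5, nat_lit 2, nat_lit 4]))) (.node (nat_lit 0x58ea816bc87baac) (.leaf ((nat_lit 0), [nat_lit 0, nat_lit 9, nat_lit 5, nat_lit 3, nat_lit 1, nat_lit 9, nat_lit 7, nat_lit 5, nat_lit 6, nat_lit 8, nat_lit 6, nat_lit 7, nat_lit 4, nat_lit 6, nat_lit 5, nat_lit 2, nat_lit 2])) (.node (nat_lit 0x58ebf5ba9f053cc) (.leaf ((nat_lit 0), [nat_lit 0, nat_lit 7, nat_lit 0, nat_lit 9, nat_lit 1, nat_lit 9, nat_lit 8, nat_lit 6, nat_lit 2, nat_lit 8, nat_lit 5, nat_lit 1, nat_lit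 7, nat_lit 3, nat_lit 6, nat_lit 2, nat_lit 1])) (.leaf ((nat_lit 0), [nat_lit 0, nat_lit 9, nat_lit 1, nat_lit 9, nat_lit 7, nat_lit 2, nat_lit 8, nat_lit 7, nat_lit 4, nat_lit 6, nat_lit 5, nat_lit 4, nat_lit 2, nat_lit 1]))))))
 (.node (nat_lit 0x58f168bfb44a0f0) (.node (nat_lit 0x58ef3a91f0b010c) (.node (nat_lit 0x58ee80847b790b8) (.leaf ((nat_lit 0), [nat_lit 5, nat_lit 9, nat_lit 6, nat_lit 0, nat_lit 9, nat_lit 6, nat_lit 2, nat_lit 8, nat_lit 3, nat_lit 6, nat_lit 7, nat_lit 5, nat_lit 2, nat_lit 4, nat_lit 2, nat_lit 1])) (.leaf ((nat_lit 0), [nat_lit 0, nat_lit 9, nat_lit 1, nat_lit 9, nat_lit 7, nat_lit 5, nat_lit 8, nat_lit 0, nat_lit 8, nat_lit 7, nat_lit 5, nat_lit 7, nat_lit 6, nat_lit 5, nat_lit 3, nat_lit 4]))) (.node (nat_lit 0x58ef973a4187d80) (.leaf ((nat_lit 0), [nat_lit 2, nat_lit 7, nat_lit 9, nat_lit 5, nat_lit 9, nat_lit 7, nat_lit 2,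 nat_lit 5, nat_lit 8, nat_lit 5, nat_lit 7, nat_lit 5, nat_lit 0, nat_lit 7, nat_lit 3, nat_lit 6, nat_lit 5, nat_lit 1])) (.node (nat_lit 0x58f0ae4392b2998) (.leaf ((nat_lit 0), [nat_lit 9, nat_lit 8, nat_lit 2, nat_lit 1, nat_lit 9, nat_lit 7, nat_lit 5, nat_lit 8, nat_lit 0, nat_lit 8, nat_lit 3, nat_lit 4, nat_lit 7, nat_lit 5, nat_lit 3, nat_lit 3])) (.leaf ((nat_lit 0), [nat_lit 2, nat_lit 7, nat_lit 9, nat_lit 5, nat_lit 9, nat_lit 6, nat_lit 3, nat_lit 8, nat_lit 3, nat_lit 6, nat_lit 1, nat_lit 7, nat_lit 4, nat_lit 2, nat_lit 6, nat_lit 3])))))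
 (.node (nat_lit 0x58fa7d5f30d831c) (.node (nat_lit 0x58f7f2344f54ba0) (.leaf ((nat_lit 2), [nat_lit 6, nat_lit 9, nat_lit 2, nat_lit 1, nat_lit 9, nat_lit 5, nat_lit 1, nat_lit 8, nat_lit 3, nat_lit 3, nat_lit 6, nat_lit 2, nat_lit 4, nat_lit 3, nat_lit 1])) (.leaf ((nat_lit 0), [nat_lit 9, nat_lit 0, nat_lit 7, nat_lit 2, nat_lit 9, nat_lit 7, nat_lit 5, nat_lit 8, nat_lit 1, nat_lit 7, nat_lit 2, nat_lit 4, nat_lit 3, nat_lit 6, nat_lit 0]))) (.node (nat_lit 0x58fada6fb624a48) (.leaf ((nat_lit 0), [nat_lit 0, nat_lit 9, nat_lit 5, nat_lit 3, nat_lit 9, nat_lit 3, nat_lit 3, nat_lit 8, nat_lit 6, nat_lit 2, nat_lit 4, nat_lit 7, nat_lit 6, nat_lit 5, nat_lit 2, nat_lit 4])) (.node (nat_lit 0x58fb93e7823676c) (.leaf ((nat_lit 0), [nat_lit 5, nat_lit 9, nat_lit 6, nat_lit 0, nat_lit 9, nat_lit 2, nat_lit 6, nat_lit 3, nat_lit 8, nat_lit 5, nat_lit 1, nat_lit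 7, nat_lit 5, nat_lit 6, nat_lit 3, nat_lit 4, nat_lit 1])) (.leaf ((nat_lit 0), [nat_lit 2, nat_lit 9, nat_lit 8, nat_lit 1, nat_lit 9, nat_lit 1, nat_lit 7, nat_lit 8, nat_lit 5, nat_lit 0, nat_lit 7, nat_lit 3, nat_lit 3, nat_lit 3, nat_lit 0]))))))))
 (.node (nat_lit 0x591cfeb7cf44bec) (.node (nat_lit 0x590b8fd66cb751c) (.node (nat_lit 0x590679f3d44dcdc) (.node (nat_lit 0x58fed95d78bdd5c) (.node (nat_lit 0x58fe1f49b9b9ac8) (.leaf ((nat_lit 0), [nat_lit 2, nat_lit 9, nat_lit 8, nat_lit 1, nat_lit 9, nat_lit 6, nat_lit 2, nat_lit 8, nat_lit 6, nat_lit 5, nat_lit 7, nat_lit 6, nat_lit 4, nat_lit 2, nat_lit 6, nat_lit 4])) (.leaf ((nat_lit 3), [nat_lit 2, nat_lit 1, nat_lit 8, nat_lit 7, nat_lit 2, nat_lit 4, nat_lit 3, nat_lit 6, nat_lit 2, nat_lit 4, nat_lit 3]))) (.node (nat_lit 0x58fff01258731f8) (.leaf ((nat_lit 0), [nat_lit 9, nat_lit 2, nat_lit 9, nat_lit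 3, nat_lit 9, nat_lit 7, nat_lit 1, nat_lit 8, nat_lit 1, nat_lit 7, nat_lit 2, nat_lit 2, nat_lit 6, nat_lit 2, nat_lit 1])) (.node (nat_lit 0x5900a9f11723de0) (.leaf ((nat_lit 0), [nat_lit 9, nat_lit 8, nat_lit 2, nat_lit 1, nat_lit 9, nat_lit 7, nat_lit 8, nat_lit 0, nat_lit 8, nat_lit 7, nat_lit 5, nat_lit 0, nat_lit 7, nat_lit 6, nat_lit 4, nat_lit 3, nat_lit 3, nat_lit 0])) (.leaf ((nat_lit 0), [nat_lit 0, nat_lit 7, nat_lit 0, nat_lit 9, nat_lit 1, nat_lit 9, nat_lit 7, nat_lit 1, nat_lit 7, nat_lit 8, nat_lit 7, nat_lit 3, nat_lit 4, nat_lit 7, nat_lit 5, nat_lit 6, nat_lit 3, nat_lit 3, nat_lit 3])))))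
 (.node (nat_lit 0x59084a57a87726c) (.node (nat_lit 0x590790ea48110c8) (.leaf ((nat_lit 0), [nat_lit 9, nat_lit 8, nat_lit 2, nat_lit 1, nat_lit 9, nat_lit 7, nat_lit 8, nat_lit 7, nat_lit 6, nat_lit 3, nat_lit 3, nat_lit 6, nat_lit 3, nat_lit 4, nat_lit 3])) (.leaf ((nat_lit 0), [nat_lit 0, nat_lit 9, nat_lit 1, nat_lit 9, nat_lit 6, nat_lit 1, nat_lit 8, nat_lit 7, nat_lit 5, nat_lit 0, nat_lit 7, nat_lit 3, nat_lit 6, nat_lit 4, nat_lit 3, nat_lit 0]))) (.node (nat_lit 0x590a789147505f8) (.leaf ((nat_lit 0), [nat_lit 9, nat_lit 8, nat_lit 2, nat_lit 1, nat_lit 9, nat_lit 4, nat_lit 7, nat_lit 6, nat_lit 8, nat_lit 6, nat_lit 5, nat_lit 6, nat_lit 7, nat_lit 2, nat_lit 6, nat_lit 5, nat_lit 3])) (.node (nat_lit 0x590ad58e93380a0) (.leaf ((nat_lit 0), [nat_lit 0, nat_lit 9, nat_lit 5, nat_lit 3, nat_lit 9, nat_lit 0, nat_lit 7, nat_lit 8, nat_lit 5, nat_lit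 6, nat_lit 7, nat_lit 3, nat_lit 6, nat_lit 5, nat_lit 3, nat_lit 4, nat_lit 1])) (.leaf ((nat_lit 0), [nat_lit 0, nat_lit 9, nat_lit 5, nat_lit 3, nat_lit 9, nat_lit 4, nat_lit 8, nat_lit 6, nat_lit 3, nat_lit 8, nat_lit 0, nat_lit 7, nat_lit 5, nat_lit 6, nat_lit 4, nat_lit 3, nat_lit 3, nat_lit 1]))))))
 (.node (nat_lit 0x591617e5c93b380) (.node (nat_lit 0x590ed47805f45f8) (.node (nat_lit 0x590dbda1e92b7a0) (.leaf ((nat_lit 0), [nat_lit 9, nat_lit 8, nat_lit 2, nat_lit 1, nat_lit 9, nat_lit 7, nat_lit 8, nat_lit 5, nat_lit 0, nat_lit 7, nat_lit 3, nat_lit 3, nat_lit 6, nat_lit 1])) (.leaf ((nat_lit 0), [nat_lit 2, nat_lit 7, nat_lit 9, nat_lit 5, nat_lit 9, nat_lit 8, nat_lit 5, nat_lit 1, nat_lit 8, nat_lit 7, nat_lit 5, nat_lit 0, nat_lit 7, nat_lit 5, nat_lit 6, nat_lit 4]))) (.node (nat_lit 0x590f8e2ff61fb00) (.leaf ((nat_lit 0), [nat_lit 2, nat_lit 9,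 nat_lit 8, nat_lit 1, nat_lit 9, nat_lit 6, nat_lit 2, nat_lit 8, nat_lit 7, nat_lit 1, nat_lit 7, nat_lit 3, nat_lit 6, nat_lit 5])) (.node (nat_lit 0x59155dec7361898) (.leaf ((nat_lit 0), [nat_lit 9, nat_lit 2, nat_lit 9, nat_lit 3, nat_lit 9, nat_lit 2, nat_lit 6, nat_lit 0, nat_lit 8, nat_lit 5, nat_lit 7, nat_lit 6, nat_lit 2, nat_lit 4])) (.leaf ((nat_lit 0), [nat_lit 9, nat_lit 8, nat_lit 2, nat_lit 1, nat_lit 9, nat_lit 8, nat_lit 6, nat_lit 2, nat_lit 8, nat_lit 3, nat_lit 6, nat_lit 1, nat_lit 7, nat_lit 6, nat_lit 4, nat_lit 1])))))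
 (.node (nat_lit 0x59195d4dea327b0) (.node (nat_lit 0x59172f1d74ae5f8) (.leaf ((nat_lit 0), [nat_lit 6, nat_lit 9, nat_lit 2, nat_lit 1, nat_lit 9, nat_lit 2, nat_lit 7, nat_lit 8, nat_lit 4, nat_lit 0, nat_lit 7, nat_lit 4, nat_lit 2])) (.leaf ((nat_lit 3), [nat_lit 6, nat_lit 1, nat_lit 8, nat_lit 6, nat_lit 1, nat_lit 7, nat_lit 6, nat_lit 5, nat_lit 3, nat_lit 6, nat_lit 5, nat_lit 2]))) (.node (nat_lit 0x591a174c47e3bdc) (.leaf ((nat_lit 0), [nat_lit 0, nat_lit 9, nat_lit 0, nat_lit 9, nat_lit 2, nat_lit 7, nat_lit 8, nat_lit 7, nat_lit 5, nat_lit 0, nat_lit 7, nat_lit 2, nat_lit 4, nat_lit 6, nat_lit 5, nat_lit 2, nat_lit 1])) (.node (nat_lit 0x591a740fe77d9a0) (.leaf ((nat_lit 0), [nat_lit 6, nat_lit 9, nat_lit 2, nat_lit 1, nat_lit 9, nat_lit 7, nat_lit 5, nat_lit 8, nat_lit 5, nat_lit 1, nat_lit 7, nat_lit 4, nat_lit 3, nat_lit 1])) (.leaf ((nat_lit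 0), [nat_lit 9, nat_lit 8, nat_lit 2, nat_lit 1, nat_lit 9, nat_lit 8, nat_lit 6, nat_lit 2, nat_lit 8, nat_lit 6, nat_lit 3, nat_lit 4, nat_lit 7, nat_lit 6, nat_lit 5, nat_lit 3, nat_lit 3, nat_lit 0])))))))
 (.node (nat_lit 0x592be3cb95257b0) (.node (nat_lit 0x59272ad1154f748) (.node (nat_lit 0x5923e5abf7f94e0) (.node (nat_lit 0x591e16310ec5c48) (.leaf ((nat_lit 0), [nat_lit 5, nat_lit 9, nat_lit 6, nat_lit 0, nat_lit 9, nat_lit 3, nat_lit 6, nat_lit 2, nat_lit 1, nat_lit 8, nat_lit 4, nat_lit 7, nat_lit 5, nat_lit 3, nat_lit 4])) (.leaf ((nat_lit 0), [nat_lit 0, nat_lit 9, nat_lit 0, nat_lit 9, nat_lit 8, nat_lit 4, nat_lit 6, nat_lit 8, nat_lit 7, nat_lit 1, nat_lit 7, nat_lit 5, nat_lit 3, nat_lit 3, nat_lit 0]))) (.node (nat_lit 0x59249fa54dd340c) (.leaf ((nat_lit 2), [nat_lit 0, nat_lit 9, nat_lit 1, nat_lit 9, nat_lit 7, nat_lit 8, nat_lit 0, nat_lit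 8, nat_lit 3, nat_lit 3, nat_lit 3, nat_lit 6, nat_lit 3, nat_lit 4, nat_lit 0])) (.node (nat_lit 0x5925b6dcf9a72f0) (.leaf ((nat_lit 0), [nat_lit 9, nat_lit 2, nat_lit 9, nat_lit 3, nat_lit 9, nat_lit 2, nat_lit 7, nat_lit 8, nat_lit 3, nat_lit 4, nat_lit 7, nat_lit 4, nat_lit 6, nat_lit 3])) (.leaf ((nat_lit 0), [nat_lit 9, nat_lit 8, nat_lit 2, nat_lit 1, nat_lit 9, nat_lit 6, nat_lit 0, nat_lit 7, nat_lit 6, nat_lit 3, nat_lit 4, nat_lit 6, nat_lit 4, nat_lit 1])))))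
 (.node (nat_lit 0x5928fb62ba06418) (.node (nat_lit 0x59289e403d4b358) (.leaf ((nat_lit 0), [nat_lit 0, nat_lit 7, nat_lit 0, nat_lit 9, nat_lit 1, nat_lit 9, nat_lit 6, nat_lit 2, nat_lit 8, nat_lit 3, nat_lit 4, nat_lit 7, nat_lit 3, nat_lit 3, nat_lit 3, nat_lit 6, nat_lit 2, nat_lit 1])) (.leaf ((nat_lit 0), [nat_lit 2, nat_lit 9, nat_lit 8, nat_lit 1, nat_lit 9, nat_lit 6, nat_lit 7, nat_lit 1, nat_lit 8, nat_lit 0, nat_lit 7, nat_lit 3, nat_lit 4, nat_lit 6, nat_lit 5, nat_lit 3, nat_lit 0]))) (.node (nat_lit 0x5929b56c0d5e9c0) (.leaf ((nat_lit 3), [nat_lit 8, nat_lit 5, nat_lit 7, nat_lit 8, nat_lit 4, nat_lit 0, nat_lit 7, nat_lit 2, nat_lit 6, nat_lit 5, nat_lit 4])) (.node (nat_lit 0x592b29e408bbd9c) (.leaf ((nat_lit 0), [nat_lit 9, nat_lit 2, nat_lit 9, nat_lit 3, nat_lit 9, nat_lit 5, nat_lit 1, nat_lit 8, nat_lit 2, nat_lit 4, nat_lit 3, nat_lit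 6, nat_lit 5, nat_lit 2, nat_lit 2])) (.leaf ((nat_lit 0), [nat_lit 0, nat_lit 9, nat_lit 0, nat_lit 9, nat_lit 7, nat_lit 2, nat_lit 8, nat_lit 5, nat_lit 7, nat_lit 5, nat_lit 1, nat_lit 7, nat_lit 6, nat_lit 5, nat_lit 6, nat_lit 3]))))))
 (.node (nat_lit 0x5934f7f42196058) (.node (nat_lit 0x593327a666b9f08) (.node (nat_lit 0x592cfa8074dac4c) (.leaf ((nat_lit 0), [nat_lit 2, nat_lit 7, nat_lit 9, nat_lit 5, nat_lit 9, nat_lit 7, nat_lit 2, nat_lit 5, nat_lit 8, nat_lit 4, nat_lit 6, nat_lit 5, nat_lit 2, nat_lit 4, nat_lit 1])) (.leaf ((nat_lit 0), [nat_lit 2, nat_lit 7, nat_lit 9, nat_lit 5, nat_lit 9, nat_lit 5, nat_lit 8, nat_lit 0, nat_lit 8, nat_lit 7, nat_lit 6, nat_lit 3, nat_lit 4, nat_lit 6, nat_lit 5, nat_lit 2, nat_lit 2]))) (.node (nat_lit 0x5933e1821783630) (.leaf ((nat_lit 0), [nat_lit 6, nat_lit 9, nat_lit 2, nat_lit 1, nat_lit 9, nat_lit 6,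 nat_lit 1, nat_lit 7, nat_lit 6, nat_lit 5, nat_lit 6, nat_lit 5, nat_lit 4, nat_lit 2, nat_lit 1])) (.node (nat_lit 0x59349b16d0ab6ec) (.leaf ((nat_lit 0), [nat_lit 2, nat_lit 9, nat_lit 8, nat_lit 1, nat_lit 9, nat_lit 7, nat_lit 5, nat_lit 8, nat_lit 0, nat_lit 8, nat_lit 5, nat_lit 6, nat_lit 7, nat_lit 2, nat_lit 4, nat_lit 6, nat_lit 2, nat_lit 2])) (.leaf ((nat_lit 5), [nat_lit 0, nat_lit 7, nat_lit 0, nat_lit 9, nat_lit 1, nat_lit 9, nat_lit 6, nat_lit 8, nat_lit 1, nat_lit 8, nat_lit 4, nat_lit 3, nat_lit 3, nat_lit 6, nat_lit 5, nat_lit 2, nat_lit 2])))))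
 (.node (nat_lit 0x59383d476b35ab0) (.node (nat_lit 0x59366c4a83e278c) (.leaf ((nat_lit 0), [nat_lit 9, nat_lit 2, nat_lit 9, nat_lit 3, nat_lit 9, nat_lit 3, nat_lit 5, nat_lit 8, nat_lit 3, nat_lit 6, nat_lit 1, nat_lit 7, nat_lit 3, nat_lit 6, nat_lit 0])) (.leaf ((nat_lit 0), [nat_lit 9, nat_lit 8, nat_lit 2, nat_lit 1, nat_lit 9, nat_lit 1, nat_lit 7, nat_lit 8, nat_lit 2, nat_lit 4, nat_lit 7, nat_lit 4, nat_lit 6, nat_lit 2, nat_lit 1]))) (.node (nat_lit 0x5938f6ff5b0034c) (.leaf ((nat_lit 0), [nat_lit 6, nat_lit 9, nat_lit 2, nat_lit 1, nat_lit 9, nat_lit 4, nat_lit 7, nat_lit 6, nat_lit 8, nat_lit 0, nat_lit 7, nat_lit 5, nat_lit 3, nat_lit 6, nat_lit 2, nat_lit 4, nat_lit 0])) (.node (nat_lit 0x593ac7b772a04c0) (.leaf ((nat_lit 5), [nat_lit 0, nat_lit 9, nat_lit 5, nat_lit 3, nat_lit 9, nat_lit 3, nat_lit 5, nat_lit 8, nat_lit 3, nat_lit 6, nat_lit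 7, nat_lit 4, nat_lit 6, nat_lit 3, nat_lit 4, nat_lit 3])) (.leaf ((nat_lit 0), [nat_lit 0, nat_lit 9, nat_lit 1, nat_lit 9, nat_lit 5, nat_lit 8, nat_lit 2, nat_lit 1, nat_lit 8, nat_lit 4, nat_lit 7, nat_lit 5, nat_lit 0])))))))))))
 (.node (nat_lit 0x68e3792998273c0) (.node (nat_lit 0x59bcd166832d180) (.node (nat_lit 0x597d9d8b132042c) (.node (nat_lit 0x595f1a9b719f1c0) (.node (nat_lit 0x5950f05b4c51a4c) (.node (nat_lit 0x5944f3f8f765988) (.node (nat_lit 0x59437fd3a12b4f8) (.node (nat_lit 0x5942689c51b556c) (.leaf ((nat_lit 0), [nat_lit 0, nat_lit 7, nat_lit 0, nat_lit 9, nat_lit 1, nat_lit 9, nat_lit 5, nat_lit 7, nat_lit 5, nat_lit 8, nat_lit 4, nat_lit 3, nat_lit 6, nat_lit 5, nat_lit 3, nat_lit 4, nat_lit 3, nat_lit 0])) (.leaf ((nat_lit 0), [nat_lit 0, nat_lit 9, nat_lit 5, nat_lit 3, nat_lit 9, nat_lit 5, nat_lit 2, nat_lit 8, nat_lit 4, nat_lit 0,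 nat_lit 7, nat_lit 5, nat_lit 3, nat_lit 6, nat_lit 5, nat_lit 0]))) (.node (nat_lit 0x594439bc138d960) (.leaf ((nat_lit 0), [nat_lit 0, nat_lit 9, nat_lit 5, nat_lit 3, nat_lit 1, nat_lit 9, nat_lit 3, nat_lit 6, nat_lit 3, nat_lit 8, nat_lit 7, nat_lit 4, nat_lit 2, nat_lit 6, nat_lit 5, nat_lit 3, nat_lit 3])) (.leaf ((nat_lit 0), [nat_lit 0, nat_lit 9, nat_lit 1, nat_lit 9, nat_lit 5, nat_lit 7, nat_lit 5, nat_lit 8, nat_lit 6, nat_lit 7, nat_lit 3, nat_lit 1]))))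
 (.node (nat_lit 0x5947db393224a00) (.node (nat_lit 0x5947218141f94f8) (.leaf ((nat_lit 0), [nat_lit 9, nat_lit 8, nat_lit 2, nat_lit 1, nat_lit 9, nat_lit 7, nat_lit 8, nat_lit 6, nat_lit 5, nat_lit 1, nat_lit 7, nat_lit 2, nat_lit 2, nat_lit 6, nat_lit 4])) (.leaf ((nat_lit 0), [nat_lit 0, nat_lit 9, nat_lit 5, nat_lit 3, nat_lit 9, nat_lit 8, nat_lit 2, nat_lit 1, nat_lit 8, nat_lit 3, nat_lit 4, nat_lit 3, nat_lit 3, nat_lit 6, nat_lit 4, nat_lit 2, nat_lit 2]))) (.node (nat_lit 0x5948f23285d09ec) (.leaf ((nat_lit 0), [nat_lit 9, nat_lit 0, nat_lit 7, nat_lit 2, nat_lit 9, nat_lit 3, nat_lit 8, nat_lit 6, nat_lit 5, nat_lit 7, nat_lit 4, nat_lit 2, nat_lit 2, nat_lit 6, nat_lit 5, nat_lit 1])) (.node (nat_lit 0x594ac3a20d441dc) (.leaf ((nat_lit 0), [nat_lit 0, nat_lit 7, nat_lit 0, nat_lit 9, nat_lit 1, nat_lit 9, nat_lit 3, nat_lit 8, nat_lit 7, nat_lit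 1, nat_lit 8, nat_lit 6, nat_lit 0, nat_lit 7, nat_lit 3, nat_lit 6, nat_lit 3, nat_lit 1])) (.leaf ((nat_lit 0), [nat_lit 0, nat_lit 9, nat_lit 0, nat_lit 9, nat_lit 6, nat_lit 1, nat_lit 8, nat_lit 5, nat_lit 7, nat_lit 5, nat_lit 1, nat_lit 7, nat_lit 5, nat_lit 2]))))))
 (.node (nat_lit 0x595491fcb5c33d8) (.node (nat_lit 0x5952079326241f0) (.node (nat_lit 0x59514d413cf67b8) (.leaf ((nat_lit 0), [nat_lit 0, nat_lit 9, nat_lit 1, nat_lit 9, nat_lit 5, nat_lit 7, nat_lit 5, nat_lit 8, nat_lit 3, nat_lit 6, nat_lit 1, nat_lit 7, nat_lit 6, nat_lit 3])) (.leaf ((nat_lit 0), [nat_lit 6, nat_lit 9, nat_lit 2, nat_lit 1, nat_lit 9, nat_lit 8, nat_lit 5, nat_lit 0, nat_lit 8, nat_lit 6, nat_lit 2, nat_lit 2, nat_lit 6, nat_lit 3, nat_lit 4, nat_lit 3, nat_lit 1]))) (.node (nat_lit 0x5952647778d609c) (.leaf ((nat_lit 0), [nat_lit 9, nat_lit 0, nat_lit 7, nat_lit 2,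 nat_lit 9, nat_lit 7, nat_lit 5, nat_lit 8, nat_lit 2, nat_lit 6, nat_lit 4, nat_lit 3])) (.node (nat_lit 0x59531e086c1c6c0) (.leaf ((nat_lit 0), [nat_lit 6, nat_lit 9, nat_lit 2, nat_lit 1, nat_lit 9, nat_lit 8, nat_lit 2, nat_lit 5, nat_lit 8, nat_lit 5, nat_lit 0, nat_lit 7, nat_lit 6, nat_lit 5, nat_lit 6, nat_lit 2, nat_lit 2])) (.leaf ((nat_lit 2), [nat_lit 9, nat_lit 2, nat_lit 9, nat_lit 3, nat_lit 9, nat_lit 4, nat_lit 8, nat_lit 2, nat_lit 1, nat_lit 8, nat_lit 6, nat_lit 7, nat_lit 4, nat_lit 6, nat_lit 1])))))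
 (.node (nat_lit 0x59566350081ae08) (.node (nat_lit 0x59554bd6c899dac) (.leaf ((nat_lit 0), [nat_lit 9, nat_lit 2, nat_lit 9, nat_lit 3, nat_lit 9, nat_lit 3, nat_lit 7, nat_lit 0, nat_lit 8, nat_lit 6, nat_lit 3, nat_lit 3, nat_lit 6, nat_lit 5, nat_lit 4, nat_lit 1])) (.leaf ((nat_lit 0), [nat_lit 2, nat_lit 9, nat_lit 8, nat_lit 1, nat_lit 9, nat_lit 8, nat_lit 4, nat_lit 6, nat_lit 8, nat_lit 7, nat_lit 5, nat_lit 7, nat_lit 6, nat_lit 5, nat_lit 6, nat_lit 3, nat_lit 3, nat_lit 1]))) (.node (nat_lit 0x595890f681ba60c) (.leaf ((nat_lit 0), [nat_lit 0, nat_lit 9, nat_lit 5, nat_lit 3, nat_lit 1, nat_lit 9, nat_lit 8, nat_lit 2, nat_lit 1, nat_lit 8, nat_lit 3, nat_lit 6, nat_lit 1, nat_lit 7, nat_lit 2, nat_lit 2])) (.node (nat_lit 0x59594af4b16cea0) (.leaf ((nat_lit 0), [nat_lit 5, nat_lit 9, nat_lit 6, nat_lit 0, nat_lit 9, nat_lit 7, nat_lit 1, nat_lit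 8, nat_lit 5, nat_lit 4, nat_lit 7, nat_lit 5, nat_lit 3, nat_lit 6, nat_lit 2, nat_lit 0])) (.leaf ((nat_lit 0), [nat_lit 0, nat_lit 9, nat_lit 5, nat_lit 3, nat_lit 9, nat_lit 5, nat_lit 2, nat_lit 8, nat_lit 4, nat_lit 0, nat_lit 7, nat_lit 5, nat_lit 6, nat_lit 4, nat_lit 3, nat_lit 3, nat_lit 0])))))))
 (.node (nat_lit 0x596f168fbff45f0) (.node (nat_lit 0x596376842a334d8) (.node (nat_lit 0x596031d2ef13b78) (.node (nat_lit 0x595fd4a29d092ac) (.leaf ((nat_lit 0), [nat_lit 6, nat_lit 9, nat_lit 2, nat_lit 1, nat_lit 9, nat_lit 5, nat_lit 0, nat_lit 7, nat_lit 8, nat_lit 0, nat_lit 7, nat_lit 2, nat_lit 6])) (.leaf ((nat_lit 0), [nat_lit 0, nat_lit 9, nat_lit 5, nat_lit 3, nat_lit 1, nat_lit 9, nat_lit 5, nat_lit 0, nat_lit 7, nat_lit 8, nat_lit 3, nat_lit 6, nat_lit 7, nat_lit 2, nat_lit 4]))) (.node (nat_lit 0x596148d59a73e20) (.leaf ((nat_lit 0), [nat_lit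 6, nat_lit 9, nat_lit 2, nat_lit 1, nat_lit 9, nat_lit 5, nat_lit 7, nat_lit 5, nat_lit 8, nat_lit 6, nat_lit 1, nat_lit 7, nat_lit 3, nat_lit 6, nat_lit 4, nat_lit 1])) (.node (nat_lit 0x59620306a2abcc8) (.leaf ((nat_lit 0), [nat_lit 2, nat_lit 9, nat_lit 8, nat_lit 1, nat_lit 9, nat_lit 7, nat_lit 8, nat_lit 1, nat_lit 8, nat_lit 2, nat_lit 6, nat_lit 4, nat_lit 3, nat_lit 3, nat_lit 3, nat_lit 1])) (.leaf ((nat_lit 0), [nat_lit 0, nat_lit 9, nat_lit 5, nat_lit 3, nat_lit 9, nat_lit 8, nat_lit 5, nat_lit 1, nat_lit 8, nat_lit 0, nat_lit 7, nat_lit 6, nat_lit 5, nat_lit 4, nat_lit 2, nat_lit 0])))))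
 (.node (nat_lit 0x59665eed0552870) (.node (nat_lit 0x5965a4e85dd44dc) (.leaf ((nat_lit 0), [nat_lit 0, nat_lit 9, nat_lit 0, nat_lit 9, nat_lit 6, nat_lit 1, nat_lit 8, nat_lit 7, nat_lit 5, nat_lit 0, nat_lit 7, nat_lit 4, nat_lit 3, nat_lit 6, nat_lit 1])) (.leaf ((nat_lit 2), [nat_lit 9, nat_lit 8, nat_lit 2, nat_lit 1, nat_lit 9, nat_lit 6, nat_lit 2, nat_lit 1, nat_lit 8, nat_lit 1, nat_lit 7, nat_lit 2, nat_lit 6, nat_lit 5, nat_lit 1]))) (.node (nat_lit 0x596775a1e507d0c) (.leaf ((nat_lit 0), [nat_lit 5, nat_lit 9, nat_lit 6, nat_lit 0, nat_lit 9, nat_lit 5, nat_lit 8, nat_lit 6, nat_lit 7, nat_lit 6, nat_lit 2, nat_lit 2, nat_lit 6, nat_lit 4])) (.node (nat_lit 0x596e5c70532e678) (.leaf ((nat_lit 0), [nat_lit 9, nat_lit 8, nat_lit 2, nat_lit 1, nat_lit 9, nat_lit 4, nat_lit 7, nat_lit 8, nat_lit 7, nat_lit 3, nat_lit 4, nat_lit 6, nat_lit 5, nat_lit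 3, nat_lit 1])) (.leaf ((nat_lit 0), [nat_lit 0, nat_lit 9, nat_lit 5, nat_lit 3, nat_lit 1, nat_lit 9, nat_lit 5, nat_lit 7, nat_lit 5, nat_lit 7, nat_lit 3, nat_lit 3, nat_lit 3, nat_lit 6, nat_lit 4]))))))
 (.node (nat_lit 0x5974891ad6d3420) (.node (nat_lit 0x5970e6fee5c22c0) (.node (nat_lit 0x596fd0a3acf741c) (.leaf ((nat_lit 0), [nat_lit 5, nat_lit 9, nat_lit 6, nat_lit 0, nat_lit 9, nat_lit 8, nat_lit 1, nat_lit 8, nat_lit 5, nat_lit 7, nat_lit 5, nat_lit 7, nat_lit 2, nat_lit 4, nat_lit 6, nat_lit 2, nat_lit 2, nat_lit 0])) (.leaf ((nat_lit 0), [nat_lit 5, nat_lit 9, nat_lit 6, nat_lit 0, nat_lit 9, nat_lit 1, nat_lit 8, nat_lit 5, nat_lit 0, nat_lit 7, nat_lit 2, nat_lit 2, nat_lit 6, nat_lit 5, nat_lit 3, nat_lit 4]))) (.node (nat_lit 0x5971fdf63f7e3d8) (.leaf ((nat_lit 0), [nat_lit 0, nat_lit 9, nat_lit 1, nat_lit 9, nat_lit 7, nat_lit 5, nat_lit 0,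 nat_lit 8, nat_lit 2, nat_lit 4, nat_lit 3, nat_lit 6, nat_lit 5, nat_lit 3, nat_lit 1])) (.node (nat_lit 0x59725b8204c551c) (.leaf ((nat_lit 0), [nat_lit 0, nat_lit 9, nat_lit 5, nat_lit 3, nat_lit 1, nat_lit 9, nat_lit 7, nat_lit 8, nat_lit 5, nat_lit 8, nat_lit 6, nat_lit 7, nat_lit 3, nat_lit 3, nat_lit 3, nat_lit 6, nat_lit 0])) (.leaf ((nat_lit 0), [nat_lit 5, nat_lit 9, nat_lit 6, nat_lit 0, nat_lit 9, nat_lit 3, nat_lit 5, nat_lit 8, nat_lit 5, nat_lit 7, nat_lit 5, nat_lit 1, nat_lit 7, nat_lit 3, nat_lit 4, nat_lit 6, nat_lit 4])))))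
 (.node (nat_lit 0x597659dbbc2c3c0) (.node (nat_lit 0x59754326ae179f8) (.leaf ((nat_lit 0), [nat_lit 0, nat_lit 9, nat_lit 5, nat_lit 3, nat_lit 1, nat_lit 9, nat_lit 7, nat_lit 8, nat_lit 6, nat_lit 5, nat_lit 3, nat_lit 6, nat_lit 3, nat_lit 0])) (.leaf ((nat_lit 0), [nat_lit 2, nat_lit 9, nat_lit 8, nat_lit 1, nat_lit 9, nat_lit 6, nat_lit 7, nat_lit 1, nat_lit 8, nat_lit 2, nat_lit 4, nat_lit 7, nat_lit 5, nat_lit 4, nat_lit 2, nat_lit 1]))) (.node (nat_lit 0x597ce4148904448) (.leaf ((nat_lit 0), [nat_lit 9, nat_lit 0, nat_lit 7, nat_lit 2, nat_lit 9, nat_lit 6, nat_lit 3, nat_lit 1, nat_lit 8, nat_lit 5, nat_lit 6, nat_lit 7, nat_lit 6, nat_lit 3, nat_lit 3, nat_lit 6, nat_lit 3, nat_lit 3, nat_lit 0])) (.node (nat_lit 0x597d411202ea7b0) (.leaf ((nat_lit 0), [nat_lit 9, nat_lit 2, nat_lit 9, nat_lit 3, nat_lit 9, nat_lit 5, nat_lit 8, nat_lit 5, nat_lit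 8, nat_lit 6, nat_lit 0, nat_lit 7, nat_lit 4, nat_lit 6, nat_lit 4, nat_lit 2, nat_lit 0])) (.leaf ((nat_lit 3), [nat_lit 8, nat_lit 2, nat_lit 1, nat_lit 8, nat_lit 6, nat_lit 5, nat_lit 1, nat_lit 7, nat_lit 3, nat_lit 0]))))))))
 (.node (nat_lit 0x599df171240892c) (.node (nat_lit 0x598e53707392230) (.node (nat_lit 0x5983ca7952a176c) (.node (nat_lit 0x597f6ed1d1bd44c) (.node (nat_lit 0x597e5797d05d458) (.leaf ((nat_lit 0), [nat_lit 0, nat_lit 9, nat_lit 0, nat_lit 9, nat_lit 3, nat_lit 5, nat_lit 8, nat_lit 6, nat_lit 0, nat_lit 7, nat_lit 2, nat_lit 4, nat_lit 3, nat_lit 6, nat_lit 5, nat_lit 3, nat_lit 4])) (.leaf ((nat_lit 0), [nat_lit 2, nat_lit 7, nat_lit 9, nat_lit 5, nat_lit 9, nat_lit 5, nat_lit 1, nat_lit 8, nat_lit 0, nat_lit 7, nat_lit 2, nat_lit 4, nat_lit 3, nat_lit 6, nat_lit 2, nat_lit 4, nat_lit 2, nat_lit 1]))) (.node (nat_lit 0x5980e2d47aef920)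 (.leaf ((nat_lit 0), [nat_lit 2, nat_lit 7, nat_lit 9, nat_lit 5, nat_lit 9, nat_lit 0, nat_lit 8, nat_lit 4, nat_lit 1, nat_lit 7, nat_lit 5, nat_lit 6, nat_lit 2, nat_lit 2])) (.node (nat_lit 0x59819cb2afa4f0c) (.leaf ((nat_lit 0), [nat_lit 6, nat_lit 9, nat_lit 2, nat_lit 1, nat_lit 9, nat_lit 5, nat_lit 1, nat_lit 7, nat_lit 4, nat_lit 3, nat_lit 6, nat_lit 5, nat_lit 4, nat_lit 2])) (.leaf ((nat_lit 0), [nat_lit 0, nat_lit 9, nat_lit 1, nat_lit 9, nat_lit 8, nat_lit 1, nat_lit 8, nat_lit 5, nat_lit 0, nat_lit 7, nat_lit 3, nat_lit 6, nat_lit 5, nat_lit 3])))))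
 (.node (nat_lit 0x598b0e0aa888298) (.node (nat_lit 0x598484f57439308) (.leaf ((nat_lit 0), [nat_lit 2, nat_lit 7, nat_lit 9, nat_lit 5, nat_lit 9, nat_lit 0, nat_lit 8, nat_lit 6, nat_lit 5, nat_lit 6, nat_lit 7, nat_lit 6, nat_lit 3, nat_lit 4, nat_lit 6, nat_lit 5, nat_lit 0])) (.leaf ((nat_lit 5), [nat_lit 0, nat_lit 9, nat_lit 1, nat_lit 9, nat_lit 6, nat_lit 7, nat_lit 2, nat_lit 1, nat_lit 8, nat_lit 4, nat_lit 3, nat_lit 6, nat_lit 5, nat_lit 3, nat_lit 1]))) (.node (nat_lit 0x598d3c41677874c) (.leaf ((nat_lit 0), [nat_lit 2, nat_lit 7, nat_lit 9, nat_lit 5, nat_lit 9, nat_lit 0, nat_lit 8, nat_lit 6, nat_lit 5, nat_lit 7, nat_lit 4, nat_lit 2, nat_lit 6, nat_lit 4, nat_lit 2, nat_lit 1])) (.node (nat_lit 0x598df67e1d51d48) (.leaf ((nat_lit 2), [nat_lit 0, nat_lit 9, nat_lit 0, nat_lit 9, nat_lit 6, nat_lit 0, nat_lit 8, nat_lit 3, nat_lit 4, nat_lit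 7, nat_lit 2, nat_lit 2, nat_lit 6, nat_lit 4, nat_lit 2])) (.leaf ((nat_lit 0), [nat_lit 0, nat_lit 9, nat_lit 1, nat_lit 9, nat_lit 1, nat_lit 7, nat_lit 8, nat_lit 2, nat_lit 4, nat_lit 3, nat_lit 6, nat_lit 5, nat_lit 2, nat_lit 2, nat_lit 1]))))))
 (.node (nat_lit 0x5999f2cfbcc4ee0) (.node (nat_lit 0x5991986b581d6c8) (.node (nat_lit 0x599080f274997ec) (.leaf ((nat_lit 0), [nat_lit 2, nat_lit 7, nat_lit 9, nat_lit 5, nat_lit 9, nat_lit 6, nat_lit 3, nat_lit 8, nat_lit 6, nat_lit 2, nat_lit 4, nat_lit 7, nat_lit 2, nat_lit 4, nat_lit 6])) (.leaf ((nat_lit 2), [nat_lit 9, nat_lit 8, nat_lit 2, nat_lit 1, nat_lit 9, nat_lit 6, nat_lit 8, nat_lit 0, nat_lit 7, nat_lit 6, nat_lit 2, nat_lit 2, nat_lit 6, nat_lit 2, nat_lit 4]))) (.node (nat_lit 0x5992af81c6ddbf0) (.leaf ((nat_lit 0), [nat_lit 0, nat_lit 7, nat_lit 0, nat_lit 9, nat_lit 1, nat_lit 9, nat_lit 7,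 nat_lit 2, nat_lit 8, nat_lit 0, nat_lit 7, nat_lit 2, nat_lit 4, nat_lit 3, nat_lit 6, nat_lit 2, nat_lit 2])) (.node (nat_lit 0x599423133f83420) (.leaf ((nat_lit 0), [nat_lit 0, nat_lit 9, nat_lit 1, nat_lit 9, nat_lit 8, nat_lit 1, nat_lit 8, nat_lit 0, nat_lit 7, nat_lit 5, nat_lit 6, nat_lit 5, nat_lit 4, nat_lit 3, nat_lit 1])) (.leaf ((nat_lit 0), [nat_lit 0, nat_lit 7, nat_lit 0, nat_lit 9, nat_lit 1, nat_lit 9, nat_lit 8, nat_lit 7, nat_lit 1, nat_lit 8, nat_lit 0, nat_lit 7, nat_lit 6, nat_lit 2, nat_lit 4, nat_lit 6, nat_lit 2, nat_lit 2])))))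
 (.node (nat_lit 0x599c20fdae5da5c) (.node (nat_lit 0x599b09c6e882738) (.leaf ((nat_lit 0), [nat_lit 0, nat_lit 9, nat_lit 5, nat_lit 3, nat_lit 9, nat_lit 5, nat_lit 2, nat_lit 8, nat_lit 7, nat_lit 5, nat_lit 6, nat_lit 7, nat_lit 4, nat_lit 6, nat_lit 3, nat_lit 3])) (.leaf ((nat_lit 5), [nat_lit 6, nat_lit 9, nat_lit 2, nat_lit 1, nat_lit 9, nat_lit 4, nat_lit 0, nat_lit 7, nat_lit 8, nat_lit 7, nat_lit 5, nat_lit 6, nat_lit 7, nat_lit 2, nat_lit 6, nat_lit 5, nat_lit 2, nat_lit 4, nat_lit 1]))) (.node (nat_lit 0x599c7dffd41e588) (.leaf ((nat_lit 0), [nat_lit 0, nat_lit 7, nat_lit 0, nat_lit 9, nat_lit 1, nat_lit 9, nat_lit 7, nat_lit 8, nat_lit 1, nat_lit 8, nat_lit 0, nat_lit 7, nat_lit 3, nat_lit 4, nat_lit 6, nat_lit 1])) (.node (nat_lit 0x599d3773ac500c0) (.leaf ((nat_lit 0), [nat_lit 0, nat_lit 9, nat_lit 5, nat_lit 3, nat_lit 1, nat_lit 9, nat_lit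 2, nat_lit 7, nat_lit 8, nat_lit 4, nat_lit 7, nat_lit 3, nat_lit 4, nat_lit 6, nat_lit 5, nat_lit 4, nat_lit 0])) (.leaf ((nat_lit 0), [nat_lit 2, nat_lit 7, nat_lit 9, nat_lit 5, nat_lit 9, nat_lit 6, nat_lit 7, nat_lit 2, nat_lit 1, nat_lit 8, nat_lit 4, nat_lit 0, nat_lit 7, nat_lit 3, nat_lit 6, nat_lit 4])))))))
 (.node (nat_lit 0x59ad90460369d38) (.node (nat_lit 0x59a87a8f41be01c) (.node (nat_lit 0x59a07ca4d2e3b4c) (.node (nat_lit 0x599f65eff32e6b0) (.leaf ((nat_lit 0), [nat_lit 2, nat_lit 9, nat_lit 8, nat_lit 1, nat_lit 9, nat_lit 3, nat_lit 5, nat_lit 8, nat_lit 6, nat_lit 5, nat_lit 6, nat_lit 2, nat_lit 4, nat_lit 2, nat_lit 1])) (.leaf ((nat_lit 0), [nat_lit 0, nat_lit 9, nat_lit 5, nat_lit 3, nat_lit 1, nat_lit 9, nat_lit 8, nat_lit 2, nat_lit 1, nat_lit 8, nat_lit 7, nat_lit 5, nat_lit 1, nat_lit 7, nat_lit 2, nat_lit 2, nat_lit 0]))) (.node (nat_lit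 0x59a1f06eb621e40) (.leaf ((nat_lit 0), [nat_lit 2, nat_lit 9, nat_lit 8, nat_lit 1, nat_lit 9, nat_lit 2, nat_lit 2, nat_lit 8, nat_lit 6, nat_lit 5, nat_lit 1, nat_lit 7, nat_lit 5, nat_lit 2, nat_lit 4, nat_lit 0])) (.node (nat_lit 0x59a3074ce8a9658) (.leaf ((nat_lit 3), [nat_lit 0, nat_lit 8, nat_lit 5, nat_lit 7, nat_lit 5, nat_lit 1, nat_lit 7, nat_lit 2, nat_lit 4, nat_lit 0])) (.leaf ((nat_lit 0), [nat_lit 0, nat_lit 9, nat_lit 5, nat_lit 3, nat_lit 9, nat_lit 4, nat_lit 6, nat_lit 8, nat_lit 3, nat_lit 4, nat_lit 7, nat_lit 6, nat_lit 4, nat_lit 2, nat_lit 6, nat_lit 3, nat_lit 4])))))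
 (.node (nat_lit 0x59ab04f3c9858c0) (.node (nat_lit 0x59aa4afc119ec98) (.leaf ((nat_lit 0), [nat_lit 0, nat_lit 9, nat_lit 1, nat_lit 9, nat_lit 3, nat_lit 5, nat_lit 8, nat_lit 7, nat_lit 5, nat_lit 1, nat_lit 7, nat_lit 4, nat_lit 2])) (.leaf ((nat_lit 0), [nat_lit 0, nat_lit 9, nat_lit 0, nat_lit 9, nat_lit 5, nat_lit 0, nat_lit 7, nat_lit 8, nat_lit 3, nat_lit 4, nat_lit 6, nat_lit 2, nat_lit 4, nat_lit 0]))) (.node (nat_lit 0x59ac1c3020d2d4c) (.leaf ((nat_lit 0), [nat_lit 0, nat_lit 9, nat_lit 5, nat_lit 3, nat_lit 1, nat_lit 9, nat_lit 3, nat_lit 6, nat_lit 3, nat_lit 8, nat_lit 4, nat_lit 3, nat_lit 6, nat_lit 2, nat_lit 4, nat_lit 0])) (.node (nat_lit 0x59ac792978dabb8) (.leaf ((nat_lit 0), [nat_lit 0, nat_lit 9, nat_lit 5, nat_lit 3, nat_lit 9, nat_lit 2, nat_lit 7, nat_lit 8, nat_lit 5, nat_lit 4, nat_lit 7, nat_lit 6, nat_lit 5, nat_lit 3, nat_lit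 6, nat_lit 5, nat_lit 1])) (.leaf ((nat_lit 0), [nat_lit 5, nat_lit 9, nat_lit 6, nat_lit 0, nat_lit 9, nat_lit 2, nat_lit 6, nat_lit 3, nat_lit 8, nat_lit 5, nat_lit 7, nat_lit 6, nat_lit 5, nat_lit 6, nat_lit 2, nat_lit 1]))))))
 (.node (nat_lit 0x59b7bba74fa5500) (.node (nat_lit 0x59b0d57b4c3d048) (.node (nat_lit 0x59af03f7a56c180) (.leaf ((nat_lit 0), [nat_lit 0, nat_lit 9, nat_lit 5, nat_lit 3, nat_lit 1, nat_lit 9, nat_lit 6, nat_lit 1, nat_lit 8, nat_lit 5, nat_lit 0, nat_lit 7, nat_lit 6, nat_lit 4, nat_lit 2])) (.leaf ((nat_lit 0), [nat_lit 9, nat_lit 2, nat_lit 9, nat_lit 3, nat_lit 9, nat_lit 8, nat_lit 6, nat_lit 3, nat_lit 8, nat_lit 3, nat_lit 4, nat_lit 3, nat_lit 3]))) (.node (nat_lit 0x59b18f63be9f61c) (.leaf ((nat_lit 0), [nat_lit 0, nat_lit 9, nat_lit 5, nat_lit 3, nat_lit 1, nat_lit 9, nat_lit 4, nat_lit 3, nat_lit 3, nat_lit 6, nat_lit 3,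 nat_lit 3, nat_lit 3, nat_lit 0])) (.node (nat_lit 0x59b6a4cf38ecc18) (.leaf ((nat_lit 0), [nat_lit 0, nat_lit 9, nat_lit 0, nat_lit 9, nat_lit 2, nat_lit 8, nat_lit 5, nat_lit 7, nat_lit 2, nat_lit 4, nat_lit 6, nat_lit 3, nat_lit 3, nat_lit 1])) (.leaf ((nat_lit 0), [nat_lit 5, nat_lit 9, nat_lit 6, nat_lit 0, nat_lit 9, nat_lit 2, nat_lit 6, nat_lit 3, nat_lit 8, nat_lit 5, nat_lit 1, nat_lit 7, nat_lit 5, nat_lit 6, nat_lit 5, nat_lit 2, nat_lit 4])))))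
 (.node (nat_lit 0x59ba46f173cae4c) (.node (nat_lit 0x59b875e18132138) (.leaf ((nat_lit 0), [nat_lit 9, nat_lit 2, nat_lit 9, nat_lit 3, nat_lit 9, nat_lit 2, nat_lit 6, nat_lit 0, nat_lit 8, nat_lit 3, nat_lit 6, nat_lit 7, nat_lit 3, nat_lit 6, nat_lit 5, nat_lit 3])) (.leaf ((nat_lit 0), [nat_lit 2, nat_lit 9, nat_lit 8, nat_lit 1, nat_lit 9, nat_lit 5, nat_lit 0, nat_lit 8, nat_lit 6, nat_lit 7, nat_lit 6, nat_lit 5, nat_lit 4, nat_lit 3, nat_lit 0]))) (.node (nat_lit 0x59bb5e0af09309c) (.leaf ((nat_lit 0), [nat_lit 0, nat_lit 9, nat_lit 5, nat_lit 3, nat_lit 1, nat_lit 9, nat_lit 2, nat_lit 7, nat_lit 8, nat_lit 7, nat_lit 0, nat_lit 7, nat_lit 5, nat_lit 3, nat_lit 6, nat_lit 4, nat_lit 3, nat_lit 3])) (.node (nat_lit 0x59bc1775fb0c1ec) (.leaf ((nat_lit 0), [nat_lit 9, nat_lit 8, nat_lit 2, nat_lit 1, nat_lit 9, nat_lit 4, nat_lit 0, nat_lit 7, nat_lit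 8, nat_lit 7, nat_lit 2, nat_lit 4, nat_lit 6, nat_lit 5, nat_lit 2])) (.leaf ((nat_lit 0), [nat_lit 9, nat_lit 8, nat_lit 2, nat_lit 1, nat_lit 9, nat_lit 7, nat_lit 8, nat_lit 6, nat_lit 1, nat_lit 7, nat_lit 4, nat_lit 6, nat_lit 5, nat_lit 3, nat_lit 4])))))))))
 (.node (nat_lit 0x5a4aa4847711c74) (.node (nat_lit 0x59dc6be4f380b70) (.node (nat_lit 0x59cbb6645dbf608) (.node (nat_lit 0x59c643758fc630c) (.node (nat_lit 0x59bea297567b8f8) (.node (nat_lit 0x59bd8be2a4c4d1c) (.leaf ((nat_lit 0), [nat_lit 0, nat_lit 9, nat_lit 0, nat_lit 9, nat_lit 2, nat_lit 2, nat_lit 8, nat_lit 2, nat_lit 4, nat_lit 3, nat_lit 6, nat_lit 2, nat_lit 4, nat_lit 2, nat_lit 1])) (.leaf ((nat_lit 0), [nat_lit 0, nat_lit 9, nat_lit 5, nat_lit 3, nat_lit 1, nat_lit 9, nat_lit 2, nat_lit 7, nat_lit 8, nat_lit 2, nat_lit 4, nat_lit 7, nat_lit 5, nat_lit 6, nat_lit 4, nat_lit 2, nat_lit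 0]))) (.node (nat_lit 0x59bfb9974ff1860) (.leaf ((nat_lit 0), [nat_lit 9, nat_lit 2, nat_lit 9, nat_lit 3, nat_lit 9, nat_lit 2, nat_lit 7, nat_lit 8, nat_lit 4, nat_lit 7, nat_lit 3, nat_lit 4, nat_lit 3, nat_lit 3, nat_lit 6, nat_lit 3, nat_lit 1])) (.node (nat_lit 0x59c5898bdb6dd20) (.leaf ((nat_lit 0), [nat_lit 0, nat_lit 9, nat_lit 5, nat_lit 3, nat_lit 9, nat_lit 3, nat_lit 8, nat_lit 7, nat_lit 5, nat_lit 7, nat_lit 6, nat_lit 3, nat_lit 4, nat_lit 6, nat_lit 2, nat_lit 2])) (.leaf ((nat_lit 0), [nat_lit 0, nat_lit 9, nat_lit 0, nat_lit 9, nat_lit 8, nat_lit 2, nat_lit 6, nat_lit 8, nat_lit 7, nat_lit 5, nat_lit 1, nat_lit 7])))))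
 (.node (nat_lit 0x59c9e5266cbabac) (.node (nat_lit 0x59c75abd0b1a3f0) (.leaf ((nat_lit 0), [nat_lit 6, nat_lit 9, nat_lit 2, nat_lit 1, nat_lit 9, nat_lit 6, nat_lit 1, nat_lit 7, nat_lit 3, nat_lit 4, nat_lit 6, nat_lit 5, nat_lit 3])) (.leaf ((nat_lit 0), [nat_lit 0, nat_lit 7, nat_lit 0, nat_lit 9, nat_lit 1, nat_lit 9, nat_lit 3, nat_lit 6, nat_lit 3, nat_lit 8, nat_lit 3, nat_lit 3, nat_lit 6, nat_lit 3, nat_lit 4, nat_lit 3]))) (.node (nat_lit 0x59ca421193356d8) (.leaf ((nat_lit 0), [nat_lit 9, nat_lit 2, nat_lit 9, nat_lit 3, nat_lit 9, nat_lit 3, nat_lit 5, nat_lit 8, nat_lit 3, nat_lit 4, nat_lit 7, nat_lit 6, nat_lit 5, nat_lit 6, nat_lit 4, nat_lit 2, nat_lit 0])) (.node (nat_lit 0x59cafc6ca5d8430) (.leaf ((nat_lit 5), [nat_lit 9, nat_lit 2, nat_lit 9, nat_lit 3, nat_lit 9, nat_lit 1, nat_lit 8, nat_lit 1, nat_lit 8, nat_lit 5, nat_lit 7, nat_lit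 5, nat_lit 7, nat_lit 6, nat_lit 2, nat_lit 2, nat_lit 6, nat_lit 5])) (.leaf ((nat_lit 0), [nat_lit 9, nat_lit 0, nat_lit 7, nat_lit 2, nat_lit 9, nat_lit 5, nat_lit 7, nat_lit 0, nat_lit 8, nat_lit 3, nat_lit 4, nat_lit 7, nat_lit 4, nat_lit 2, nat_lit 0]))))))
 (.node (nat_lit 0x59d5e1b85e4622c) (.node (nat_lit 0x59ce40cb0d757ac) (.node (nat_lit 0x59cccd196b72f20) (.leaf ((nat_lit 0), [nat_lit 0, nat_lit 7, nat_lit 0, nat_lit 9, nat_lit 1, nat_lit 9, nat_lit 6, nat_lit 7, nat_lit 1, nat_lit 8, nat_lit 7, nat_lit 4, nat_lit 6, nat_lit 5, nat_lit 2, nat_lit 0])) (.leaf ((nat_lit 3), [nat_lit 7, nat_lit 8, nat_lit 7, nat_lit 1, nat_lit 8, nat_lit 5, nat_lit 4, nat_lit 7, nat_lit 6, nat_lit 3, nat_lit 3, nat_lit 3, nat_lit 0]))) (.node (nat_lit 0x59d4114b326859c) (.leaf ((nat_lit 0), [nat_lit 0, nat_lit 7, nat_lit 0, nat_lit 9, nat_lit 1, nat_lit 9, nat_lit 8,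 nat_lit 7, nat_lit 1, nat_lit 8, nat_lit 4, nat_lit 7, nat_lit 4, nat_lit 6, nat_lit 5, nat_lit 3, nat_lit 3, nat_lit 3, nat_lit 0])) (.node (nat_lit 0x59d4cb2d88fc4c8) (.leaf ((nat_lit 0), [nat_lit 6, nat_lit 9, nat_lit 2, nat_lit 1, nat_lit 9, nat_lit 4, nat_lit 7, nat_lit 6, nat_lit 8, nat_lit 6, nat_lit 7, nat_lit 3, nat_lit 6, nat_lit 2])) (.leaf ((nat_lit 0), [nat_lit 0, nat_lit 9, nat_lit 1, nat_lit 9, nat_lit 8, nat_lit 6, nat_lit 2, nat_lit 8, nat_lit 5, nat_lit 7, nat_lit 4, nat_lit 2, nat_lit 2])))))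
 (.node (nat_lit 0x59d86ce61f51220) (.node (nat_lit 0x59d7b2ebb5802b8) (.leaf ((nat_lit 0), [nat_lit 9, nat_lit 2, nat_lit 9, nat_lit 3, nat_lit 9, nat_lit 8, nat_lit 7, nat_lit 5, nat_lit 6, nat_lit 5, nat_lit 4, nat_lit 2])) (.leaf ((nat_lit 0), [nat_lit 6, nat_lit 9, nat_lit 2, nat_lit 1, nat_lit 9, nat_lit 4, nat_lit 7, nat_lit 8, nat_lit 7, nat_lit 2, nat_lit 6, nat_lit 4, nat_lit 3, nat_lit 3, nat_lit 1]))) (.node (nat_lit 0x59da3db701e82cc) (.leaf ((nat_lit 0), [nat_lit 9, nat_lit 0, nat_lit 7, nat_lit 2, nat_lit 9, nat_lit 7, nat_lit 5, nat_lit 8, nat_lit 6, nat_lit 3, nat_lit 4, nat_lit 7, nat_lit 5, nat_lit 2, nat_lit 0])) (.node (nat_lit 0x59db546be1fe818) (.leaf ((nat_lit 0), [nat_lit 0, nat_lit 9, nat_lit 5, nat_lit 3, nat_lit 9, nat_lit 2, nat_lit 6, nat_lit 0, nat_lit 8, nat_lit 4, nat_lit 7, nat_lit 2, nat_lit 2, nat_lit 6, nat_lit 0])) (.leaf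 ((nat_lit 0), [nat_lit 0, nat_lit 9, nat_lit 5, nat_lit 3, nat_lit 1, nat_lit 9, nat_lit 7, nat_lit 2, nat_lit 4, nat_lit 7, nat_lit 4, nat_lit 6, nat_lit 3, nat_lit 3, nat_lit 3])))))))
 (.node (nat_lit 0x5a0fcbeaa900cdc) (.node (nat_lit 0x59f7d2e1b8cf3d0) (.node (nat_lit 0x59e60633594abc4) (.node (nat_lit 0x59e31ed09fa29e0) (.leaf ((nat_lit 0), [nat_lit 2, nat_lit 9, nat_lit 8, nat_lit 1, nat_lit 9, nat_lit 8, nat_lit 1, nat_lit 7, nat_lit 8, nat_lit 6, nat_lit 0, nat_lit 7, nat_lit 4, nat_lit 6, nat_lit 1])) (.leaf ((nat_lit 4), [nat_lit 6, nat_lit 9, nat_lit 2, nat_lit 1, nat_lit 9, nat_lit 1, nat_lit 8, nat_lit 5, nat_lit 7, nat_lit 5, nat_lit 7, nat_lit 3, nat_lit 4]))) (.node (nat_lit 0x59e71d6c46b3b7c) (.leaf ((nat_lit 0), [nat_lit 2, nat_lit 7, nat_lit 9, nat_lit 5, nat_lit 9, nat_lit 8, nat_lit 5, nat_lit 2, nat_lit 8, nat_lit 7, nat_lit 1, nat_lit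 7, nat_lit 6, nat_lit 5, nat_lit 6, nat_lit 0])) (.node (nat_lit 0x59f319b826b6730) (.leaf ((nat_lit 0), [nat_lit 0, nat_lit 7, nat_lit 0, nat_lit 9, nat_lit 1, nat_lit 9, nat_lit 7, nat_lit 2, nat_lit 8, nat_lit 5, nat_lit 6, nat_lit 7, nat_lit 4, nat_lit 2, nat_lit 6, nat_lit 2, nat_lit 1])) (.leaf ((nat_lit 0), [nat_lit 2, nat_lit 7, nat_lit 9, nat_lit 5, nat_lit 9, nat_lit 6, nat_lit 5, nat_lit 2, nat_lit 8, nat_lit 6, nat_lit 5, nat_lit 6, nat_lit 7, nat_lit 3, nat_lit 3])))))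
 (.node (nat_lit 0x59fa01100664df4) (.node (nat_lit 0x59f9469554c1c9c) (.leaf ((nat_lit 0), [nat_lit 0, nat_lit 7, nat_lit 0, nat_lit 9, nat_lit 1, nat_lit 9, nat_lit 5, nat_lit 0, nat_lit 8, nat_lit 6, nat_lit 5, nat_lit 1, nat_lit 7, nat_lit 4, nat_lit 2, nat_lit 6, nat_lit 2, nat_lit 4, nat_lit 1])) (.leaf ((nat_lit 4), [nat_lit 2, nat_lit 7, nat_lit 9, nat_lit 5, nat_lit 9, nat_lit 4, nat_lit 8, nat_lit 6, nat_lit 3, nat_lit 8, nat_lit 5, nat_lit 4, nat_lit 7, nat_lit 6, nat_lit 3]))) (.node (nat_lit 0x5a06b797e3e5ecc) (.leaf ((nat_lit 0), [nat_lit 6, nat_lit 9, nat_lit 2, nat_lit 1, nat_lit 9, nat_lit 4, nat_lit 7, nat_lit 2, nat_lit 4, nat_lit 6, nat_lit 2, nat_lit 4, nat_lit 1])) (.node (nat_lit 0x5a09423cbd64764) (.leaf ((nat_lit 0), [nat_lit 6, nat_lit 9, nat_lit 2, nat_lit 1, nat_lit 9, nat_lit 1, nat_lit 7, nat_lit 5, nat_lit 8, nat_lit 3, nat_lit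 4, nat_lit 7, nat_lit 6])) (.leaf ((nat_lit 4), [nat_lit 0, nat_lit 7, nat_lit 0, nat_lit 9, nat_lit 1, nat_lit 9, nat_lit 7, nat_lit 1, nat_lit 8, nat_lit 7, nat_lit 3, nat_lit 4, nat_lit 7, nat_lit 6, nat_lit 3, nat_lit 1]))))))
 (.node (nat_lit 0x5a26516f0f8267c) (.node (nat_lit 0x5a14e1fbc9b1164) (.node (nat_lit 0x5a13cb4adddbeb4) (.leaf ((nat_lit 1), [nat_lit 4, nat_lit 7, nat_lit 6, nat_lit 8, nat_lit 7, nat_lit 3, nat_lit 4, nat_lit 7, nat_lit 4, nat_lit 6, nat_lit 4, nat_lit 2])) (.leaf ((nat_lit 0), [nat_lit 2, nat_lit 7, nat_lit 9, nat_lit 5, nat_lit 9, nat_lit 8, nat_lit 7, nat_lit 0, nat_lit 8, nat_lit 6, nat_lit 5, nat_lit 1, nat_lit 7, nat_lit 2, nat_lit 6, nat_lit 3, nat_lit 0]))) (.node (nat_lit 0x5a15f8b1bdbeb30) (.leaf ((nat_lit 1), [nat_lit 6, nat_lit 7, nat_lit 1, nat_lit 8, nat_lit 6, nat_lit 5, nat_lit 1, nat_lit 7, nat_lit 6, nat_lit 5,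 nat_lit 1])) (.node (nat_lit 0x5a18841d4cf658c) (.leaf ((nat_lit 1), [nat_lit 8, nat_lit 5, nat_lit 8, nat_lit 3, nat_lit 4, nat_lit 6, nat_lit 3, nat_lit 3, nat_lit 3, nat_lit 1])) (.leaf ((nat_lit 0), [nat_lit 0, nat_lit 7, nat_lit 0, nat_lit 9, nat_lit 1, nat_lit 9, nat_lit 6, nat_lit 7, nat_lit 1, nat_lit 8, nat_lit 5, nat_lit 7, nat_lit 6, nat_lit 5, nat_lit 6, nat_lit 2, nat_lit 4, nat_lit 2, nat_lit 1])))))
 (.node (nat_lit 0x5a2f08da4625df0) (.node (nat_lit 0x5a2df2683c1380c) (.leaf ((nat_lit 1), [nat_lit 8, nat_lit 5, nat_lit 4, nat_lit 7, nat_lit 3, nat_lit 6, nat_lit 2, nat_lit 4, nat_lit 1])) (.leaf ((nat_lit 1), [nat_lit 8, nat_lit 2, nat_lit 6, nat_lit 3, nat_lit 8, nat_lit 5, nat_lit 4, nat_lit 7, nat_lit 2, nat_lit 6]))) (.node (nat_lit 0x5a302013bd8a3a4) (.leaf ((nat_lit 0), [nat_lit 0, nat_lit 7, nat_lit 0, nat_lit 9, nat_lit 1, nat_lit 9, nat_lit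 8, nat_lit 1, nat_lit 7, nat_lit 8, nat_lit 7, nat_lit 5, nat_lit 7, nat_lit 5, nat_lit 3, nat_lit 6, nat_lit 5])) (.node (nat_lit 0x5a42a68e8894910) (.leaf ((nat_lit 1), [nat_lit 2, nat_lit 8, nat_lit 3, nat_lit 4, nat_lit 7, nat_lit 3, nat_lit 4, nat_lit 3, nat_lit 3, nat_lit 6, nat_lit 3, nat_lit 4, nat_lit 3, nat_lit 0])) (.leaf ((nat_lit 1), [nat_lit 2, nat_lit 7, nat_lit 8, nat_lit 5, nat_lit 4, nat_lit 7, nat_lit 4, nat_lit 6, nat_lit 5, nat_lit 4, nat_lit 2]))))))))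
 (.node (nat_lit 0x5a9a8d53fd70ff0) (.node (nat_lit 0x5a706a9f61d32c4) (.node (nat_lit 0x5a5d87a53ca5ebc) (.node (nat_lit 0x5a4ea320a81e850) (.node (nat_lit 0x5a4bbaf7391e99c) (.leaf ((nat_lit 1), [nat_lit 5, nat_lit 1, nat_lit 8, nat_lit 6, nat_lit 5, nat_lit 7, nat_lit 4, nat_lit 3, nat_lit 3, nat_lit 6, nat_lit 3])) (.leaf ((nat_lit 1), [nat_lit 7, nat_lit 2, nat_lit 8, nat_lit 7, nat_lit 1, nat_lit 7, nat_lit 2, nat_lit 6, nat_lit 3, nat_lit 3, nat_lit 0]))) (.node (nat_lit 0x5a587187b6598c4) (.leaf ((nat_lit 0), [nat_lit 2, nat_lit 7, nat_lit 9, nat_lit 5, nat_lit 9, nat_lit 0, nat_lit 8, nat_lit 7, nat_lit 2, nat_lit 4, nat_lit 7, nat_lit 6, nat_lit 3, nat_lit 4, nat_lit 6, nat_lit 5, nat_lit 3, nat_lit 4])) (.node (nat_lit 0x5a5c13f7eae18e0) (.leaf ((nat_lit 0), [nat_lit 6, nat_lit 9, nat_lit 2, nat_lit 1, nat_lit 9, nat_lit 5, nat_lit 7, nat_lit 8, nat_lit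 3, nat_lit 6, nat_lit 7, nat_lit 5, nat_lit 3, nat_lit 6, nat_lit 0])) (.leaf ((nat_lit 1), [nat_lit 4, nat_lit 0, nat_lit 7, nat_lit 8, nat_lit 5, nat_lit 7, nat_lit 4, nat_lit 6, nat_lit 5, nat_lit 4, nat_lit 3, nat_lit 3, nat_lit 3, nat_lit 0])))))
 (.node (nat_lit 0x5a6186c495ce660) (.node (nat_lit 0x5a60124ef05e444) (.leaf ((nat_lit 0), [nat_lit 6, nat_lit 9, nat_lit 2, nat_lit 1, nat_lit 9, nat_lit 2, nat_lit 7, nat_lit 8, nat_lit 5, nat_lit 1, nat_lit 7, nat_lit 3, nat_lit 4, nat_lit 6, nat_lit 3, nat_lit 4, nat_lit 0])) (.leaf ((nat_lit 1), [nat_lit 4, nat_lit 7, nat_lit 6, nat_lit 8, nat_lit 6, nat_lit 3, nat_lit 4, nat_lit 7, nat_lit 6, nat_lit 5, nat_lit 4, nat_lit 2, nat_lit 2, nat_lit 0]))) (.node (nat_lit 0x5a6cc9423e59ea0) (.leaf ((nat_lit 1), [nat_lit 7, nat_lit 5, nat_lit 0, nat_lit 8, nat_lit 5, nat_lit 0, nat_lit 7, nat_lit 4, nat_lit 3, nat_lit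 3, nat_lit 6, nat_lit 5, nat_lit 2])) (.node (nat_lit 0x5a6ddff832067bc) (.leaf ((nat_lit 0), [nat_lit 6, nat_lit 9, nat_lit 2, nat_lit 1, nat_lit 9, nat_lit 8, nat_lit 5, nat_lit 0, nat_lit 8, nat_lit 2, nat_lit 4, nat_lit 6, nat_lit 5, nat_lit 3, nat_lit 4, nat_lit 0])) (.leaf ((nat_lit 1), [nat_lit 8, nat_lit 1, nat_lit 8, nat_lit 6, nat_lit 7, nat_lit 6, nat_lit 4, nat_lit 3, nat_lit 6, nat_lit 5, nat_lit 2, nat_lit 4, nat_lit 0]))))))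
 (.node (nat_lit 0x5a84653824f2550) (.node (nat_lit 0x5a780b974c0d664) (.node (nat_lit 0x5a7697633aab670) (.leaf ((nat_lit 1), [nat_lit 1, nat_lit 8, nat_lit 7, nat_lit 1, nat_lit 7, nat_lit 3, nat_lit 6, nat_lit 2, nat_lit 2, nat_lit 0])) (.leaf ((nat_lit 1), [nat_lit 2, nat_lit 1, nat_lit 8, nat_lit 6, nat_lit 0, nat_lit 7, nat_lit 5, nat_lit 6, nat_lit 2, nat_lit 2]))) (.node (nat_lit 0x5a7a39c70997acc) (.leaf ((nat_lit 0), [nat_lit 0, nat_lit 7, nat_lit 0, nat_lit 9, nat_lit 1, nat_lit 9, nat_lit 3, nat_lit 7, nat_lit 5, nat_lit 8, nat_lit 7, nat_lit 2, nat_lit 6, nat_lit 3, nat_lit 4, nat_lit 3])) (.node (nat_lit 0x5a7e95b246172b4) (.leaf ((nat_lit 1), [nat_lit 7, nat_lit 5, nat_lit 1, nat_lit 8, nat_lit 1, nat_lit 7, nat_lit 5, nat_lit 3, nat_lit 6, nat_lit 3, nat_lit 4, nat_lit 3, nat_lit 3, nat_lit 1])) (.leaf ((nat_lit 1), [nat_lit 1, nat_lit 8, nat_lit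 6, nat_lit 1, nat_lit 8, nat_lit 5, nat_lit 0, nat_lit 7, nat_lit 5, nat_lit 3, nat_lit 6, nat_lit 5, nat_lit 4, nat_lit 1])))))
 (.node (nat_lit 0x5a93a69336dc25c) (.node (nat_lit 0x5a88c0d08e50adc) (.leaf ((nat_lit 1), [nat_lit 0, nat_lit 8, nat_lit 7, nat_lit 1, nat_lit 8, nat_lit 3, nat_lit 4, nat_lit 3, nat_lit 3, nat_lit 6, nat_lit 5, nat_lit 3, nat_lit 3, nat_lit 0])) (.leaf ((nat_lit 0), [nat_lit 2, nat_lit 7, nat_lit 9, nat_lit 5, nat_lit 9, nat_lit 8, nat_lit 1, nat_lit 8, nat_lit 5, nat_lit 1, nat_lit 7, nat_lit 6, nat_lit 4, nat_lit 2, nat_lit 6, nat_lit 2, nat_lit 4, nat_lit 1]))) (.node (nat_lit 0x5a95d4c0421ae90) (.leaf ((nat_lit 0), [nat_lit 0, nat_lit 7, nat_lit 0, nat_lit 9, nat_lit 1, nat_lit 9, nat_lit 8, nat_lit 6, nat_lit 2, nat_lit 8, nat_lit 5, nat_lit 1, nat_lit 7, nat_lit 5, nat_lit 0])) (.node (nat_lit 0x5a96ebf901e61f4) (.leaf ((nat_lit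 0), [nat_lit 6, nat_lit 9, nat_lit 2, nat_lit 1, nat_lit 9, nat_lit 4, nat_lit 7, nat_lit 4, nat_lit 2, nat_lit 2, nat_lit 6, nat_lit 3, nat_lit 3, nat_lit 3])) (.leaf ((nat_lit 4), [nat_lit 2, nat_lit 7, nat_lit 9, nat_lit 5, nat_lit 9, nat_lit 6, nat_lit 8, nat_lit 0, nat_lit 8, nat_lit 7, nat_lit 0, nat_lit 7, nat_lit 2, nat_lit 4, nat_lit 3, nat_lit 1])))))))
 (.node (nat_lit 0x5ad565c250c15e4) (.node (nat_lit 0x5ab8b38fa078a50) (.node (nat_lit 0x5aa4b9752b3bae0) (.node (nat_lit 0x5aa3a23eef5c1fc) (.leaf ((nat_lit 1), [nat_lit 8, nat_lit 2, nat_lit 5, nat_lit 8, nat_lit 7, nat_lit 5, nat_lit 7, nat_lit 2, nat_lit 2])) (.leaf ((nat_lit 4), [nat_lit 6, nat_lit 9, nat_lit 2, nat_lit 1, nat_lit 9, nat_lit 3, nat_lit 7, nat_lit 5, nat_lit 8, nat_lit 5, nat_lit 7, nat_lit 5, nat_lit 0, nat_lit 7, nat_lit 2, nat_lit 4, nat_lit 0]))) (.node (nat_lit 0x5aa5d0030e6cd04)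 (.leaf ((nat_lit 0), [nat_lit 2, nat_lit 7, nat_lit 9, nat_lit 5, nat_lit 9, nat_lit 3, nat_lit 5, nat_lit 8, nat_lit 7, nat_lit 0, nat_lit 7, nat_lit 4, nat_lit 2, nat_lit 2, nat_lit 6, nat_lit 5, nat_lit 0])) (.node (nat_lit 0x5ab5cbe8fd36534) (.leaf ((nat_lit 0), [nat_lit 0, nat_lit 7, nat_lit 0, nat_lit 9, nat_lit 1, nat_lit 9, nat_lit 6, nat_lit 1, nat_lit 8, nat_lit 7, nat_lit 5, nat_lit 0, nat_lit 7, nat_lit 5, nat_lit 3])) (.leaf ((nat_lit 1), [nat_lit 8, nat_lit 5, nat_lit 4, nat_lit 7, nat_lit 2, nat_lit 6, nat_lit 5, nat_lit 2, nat_lit 4, nat_lit 3, nat_lit 0])))))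
 (.node (nat_lit 0x5abff758a89cb24) (.node (nat_lit 0x5ab9ca43c894c9c) (.leaf ((nat_lit 0), [nat_lit 2, nat_lit 7, nat_lit 9, nat_lit 5, nat_lit 9, nat_lit 2, nat_lit 5, nat_lit 8, nat_lit 7, nat_lit 1, nat_lit 7, nat_lit 6, nat_lit 3, nat_lit 4, nat_lit 6, nat_lit 2, nat_lit 1])) (.leaf ((nat_lit 1), [nat_lit 4, nat_lit 7, nat_lit 6, nat_lit 8, nat_lit 6, nat_lit 1, nat_lit 7, nat_lit 4, nat_lit 6, nat_lit 4, nat_lit 3, nat_lit 1]))) (.node (nat_lit 0x5ac16b8d445ba4c) (.leaf ((nat_lit 1), [nat_lit 7, nat_lit 5, nat_lit 8, nat_lit 5, nat_lit 6, nat_lit 5, nat_lit 4, nat_lit 2, nat_lit 2, nat_lit 1])) (.node (nat_lit 0x5ad44f0b771c54c) (.leaf ((nat_lit 0), [nat_lit 0, nat_lit 7, nat_lit 0, nat_lit 9, nat_lit 1, nat_lit 9, nat_lit 7, nat_lit 5, nat_lit 8, nat_lit 0, nat_lit 8, nat_lit 7, nat_lit 5, nat_lit 7, nat_lit 2, nat_lit 2, nat_lit 6, nat_lit 2, nat_lit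 4])) (.leaf ((nat_lit 0), [nat_lit 2, nat_lit 7, nat_lit 9, nat_lit 5, nat_lit 9, nat_lit 3, nat_lit 5, nat_lit 8, nat_lit 5, nat_lit 7, nat_lit 5, nat_lit 3, nat_lit 6, nat_lit 3, nat_lit 4, nat_lit 0]))))))
 (.node (nat_lit 0x68dda99ba38d764) (.node (nat_lit 0x5ade1d2d8764ec4) (.node (nat_lit 0x5ad6d972b0ce130) (.leaf ((nat_lit 0), [nat_lit 6, nat_lit 9, nat_lit 2, nat_lit 1, nat_lit 9, nat_lit 4, nat_lit 7, nat_lit 8, nat_lit 5, nat_lit 7, nat_lit 3, nat_lit 4, nat_lit 6, nat_lit 2])) (.leaf ((nat_lit 4), [nat_lit 0, nat_lit 7, nat_lit 0, nat_lit 9, nat_lit 1, nat_lit 9, nat_lit 3, nat_lit 0, nat_lit 8, nat_lit 4, nat_lit 3, nat_lit 6, nat_lit 5, nat_lit 4, nat_lit 3, nat_lit 3, nat_lit 0]))) (.node (nat_lit 0x5adf3463f0e23fc) (.leaf ((nat_lit 0), [nat_lit 6, nat_lit 9, nat_lit 2, nat_lit 1, nat_lit 9, nat_lit 7, nat_lit 2, nat_lit 1, nat_lit 8, nat_lit 5,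 nat_lit 6, nat_lit 7, nat_lit 5, nat_lit 6, nat_lit 4, nat_lit 0])) (.node (nat_lit 0x5adfeea0a6bb720) (.leaf ((nat_lit 1), [nat_lit 8, nat_lit 0, nat_lit 7, nat_lit 8, nat_lit 1, nat_lit 7, nat_lit 4, nat_lit 6, nat_lit 2, nat_lit 4, nat_lit 2, nat_lit 0])) (.leaf ((nat_lit 1), [nat_lit 0, nat_lit 8, nat_lit 6, nat_lit 3, nat_lit 8, nat_lit 6, nat_lit 7, nat_lit 4, nat_lit 3, nat_lit 6, nat_lit 3, nat_lit 4, nat_lit 0])))))
 (.node (nat_lit 0x68e03459484e938) (.node (nat_lit 0x68de0628d320674) (.leaf ((nat_lit 3), [nat_lit 7, nat_lit 5, nat_lit 0, nat_lit 8, nat_lit 3, nat_lit 6, nat_lit 7, nat_lit 3, nat_lit 6, nat_lit 4, nat_lit 3, nat_lit 0])) (.leaf ((nat_lit 0), [nat_lit 9, nat_lit 2, nat_lit 6, nat_lit 3, nat_lit 9, nat_lit 0, nat_lit 8, nat_lit 7, nat_lit 5, nat_lit 1, nat_lit 7, nat_lit 6, nat_lit 5, nat_lit 6, nat_lit 5, nat_lit 3, nat_lit 3, nat_lit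 1]))) (.node (nat_lit 0x68e0918350e2190) (.leaf ((nat_lit 0), [nat_lit 2, nat_lit 7, nat_lit 9, nat_lit 5, nat_lit 9, nat_lit 3, nat_lit 5, nat_lit 8, nat_lit 7, nat_lit 0, nat_lit 7, nat_lit 6, nat_lit 3, nat_lit 3, nat_lit 3, nat_lit 1])) (.node (nat_lit 0x68e31c3f85a3d14) (.leaf ((nat_lit 0), [nat_lit 8, nat_lit 0, nat_lit 9, nat_lit 1, nat_lit 9, nat_lit 7, nat_lit 2, nat_lit 8, nat_lit 3, nat_lit 4, nat_lit 7, nat_lit 2, nat_lit 4, nat_lit 3, nat_lit 6, nat_lit 2])) (.leaf ((nat_lit 0), [nat_lit 3, nat_lit 9, nat_lit 6, nat_lit 3, nat_lit 1, nat_lit 9, nat_lit 6, nat_lit 8, nat_lit 0, nat_lit 8, nat_lit 5, nat_lit 4, nat_lit 7, nat_lit 3, nat_lit 6, nat_lit 5, nat_lit 2, nat_lit 4, nat_lit 0]))))))))))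
 (.node (nat_lit 0x6bfd37d9162a574) (.node (nat_lit 0x692765a13545f20) (.node (nat_lit 0x6901428b5489ba4) (.node (nat_lit 0x68f2bacb739e938) (.node (nat_lit 0x68eebb98b369260) (.node (nat_lit 0x68e5a6d6e5fb7d8) (.node (nat_lit 0x68e3d5f96fbf6a0) (.leaf ((nat_lit 0), [nat_lit 9, nat_lit 2, nat_lit 1, nat_lit 9, nat_lit 7, nat_lit 8, nat_lit 5, nat_lit 1, nat_lit 7, nat_lit 3, nat_lit 3, nat_lit 3, nat_lit 6, nat_lit 5, nat_lit 1])) (.leaf ((nat_lit 0), [nat_lit 6, nat_lit 9, nat_lit 2, nat_lit 1, nat_lit 9, nat_lit 7, nat_lit 6, nat_lit 8, nat_lit 6, nat_lit 5, nat_lit 7, nat_lit 5, nat_lit 4, nat_lit 0]))) (.node (nat_lit 0x68e604697f0b708) (.leaf ((nat_lit 0), [nat_lit 9, nat_lit 2, nat_lit 1, nat_lit 9, nat_lit 0, nat_lit 7, nat_lit 8, nat_lit 7, nat_lit 4, nat_lit 3, nat_lit 3, nat_lit 6, nat_lit 5, nat_lit 2, nat_lit 4, nat_lit 0])) (.node (nat_lit 0x68ec8e2c6fbce48)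 (.leaf ((nat_lit 0), [nat_lit 9, nat_lit 4, nat_lit 6, nat_lit 9, nat_lit 5, nat_lit 0, nat_lit 8, nat_lit 5, nat_lit 7, nat_lit 5, nat_lit 7, nat_lit 6, nat_lit 2])) (.leaf ((nat_lit 2), [nat_lit 9, nat_lit 6, nat_lit 4, nat_lit 9, nat_lit 8, nat_lit 7, nat_lit 3, nat_lit 4, nat_lit 7, nat_lit 6, nat_lit 4, nat_lit 3, nat_lit 6, nat_lit 5, nat_lit 3, nat_lit 4, nat_lit 1])))))
 (.node (nat_lit 0x68ef75d2e4f5a54) (.node (nat_lit 0x68ef19189d10390) (.leaf ((nat_lit 0), [nat_lit 3, nat_lit 3, nat_lit 9, nat_lit 0, nat_lit 9, nat_lit 5, nat_lit 0, nat_lit 8, nat_lit 5, nat_lit 0, nat_lit 7, nat_lit 4, nat_lit 2, nat_lit 2, nat_lit 0])) (.leaf ((nat_lit 0), [nat_lit 9, nat_lit 6, nat_lit 4, nat_lit 9, nat_lit 8, nat_lit 5, nat_lit 8, nat_lit 6, nat_lit 5, nat_lit 7, nat_lit 3, nat_lit 3, nat_lit 3, nat_lit 6, nat_lit 5, nat_lit 2, nat_lit 4]))) (.node (nat_lit 0x68f20111b7d7d10)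 (.leaf ((nat_lit 0), [nat_lit 3, nat_lit 3, nat_lit 9, nat_lit 0, nat_lit 9, nat_lit 2, nat_lit 7, nat_lit 8, nat_lit 7, nat_lit 0, nat_lit 7, nat_lit 6, nat_lit 3, nat_lit 4, nat_lit 6, nat_lit 4, nat_lit 3, nat_lit 3])) (.node (nat_lit 0x68f25df4c89ea88) (.leaf ((nat_lit 5), [nat_lit 5, nat_lit 9, nat_lit 6, nat_lit 3, nat_lit 9, nat_lit 8, nat_lit 2, nat_lit 1, nat_lit 8, nat_lit 5, nat_lit 0, nat_lit 7, nat_lit 6, nat_lit 5, nat_lit 3, nat_lit 6, nat_lit 3, nat_lit 4, nat_lit 0])) (.leaf ((nat_lit 0), [nat_lit 9, nat_lit 4, nat_lit 6, nat_lit 9, nat_lit 5, nat_lit 6, nat_lit 8, nat_lit 6, nat_lit 0, nat_lit 7, nat_lit 6, nat_lit 2, nat_lit 4, nat_lit 6, nat_lit 2]))))))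
 (.node (nat_lit 0x68fda0968dfb2a4) (.node (nat_lit 0x68f4e8777f673b4) (.node (nat_lit 0x68f48ba1e7fd8d4) (.leaf ((nat_lit 0), [nat_lit 9, nat_lit 2, nat_lit 1, nat_lit 9, nat_lit 6, nat_lit 5, nat_lit 0, nat_lit 7, nat_lit 5, nat_lit 6, nat_lit 5, nat_lit 3, nat_lit 6, nat_lit 5, nat_lit 3, nat_lit 1])) (.leaf ((nat_lit 0), [nat_lit 0, nat_lit 7, nat_lit 0, nat_lit 9, nat_lit 1, nat_lit 9, nat_lit 1, nat_lit 7, nat_lit 8, nat_lit 6, nat_lit 4, nat_lit 3, nat_lit 3, nat_lit 3]))) (.node (nat_lit 0x68fb1583edb3b40) (.leaf ((nat_lit 0), [nat_lit 3, nat_lit 3, nat_lit 9, nat_lit 0, nat_lit 9, nat_lit 6, nat_lit 7, nat_lit 1, nat_lit 8, nat_lit 2, nat_lit 4, nat_lit 7, nat_lit 2, nat_lit 6, nat_lit 5, nat_lit 4, nat_lit 3, nat_lit 3])) (.node (nat_lit 0x68fb72250ec5b20) (.leaf ((nat_lit 0), [nat_lit 9, nat_lit 2, nat_lit 6, nat_lit 3, nat_lit 9, nat_lit 1, nat_lit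 7, nat_lit 8, nat_lit 0, nat_lit 7, nat_lit 0])) (.leaf ((nat_lit 0), [nat_lit 9, nat_lit 2, nat_lit 6, nat_lit 3, nat_lit 9, nat_lit 4, nat_lit 7, nat_lit 8, nat_lit 5, nat_lit 6, nat_lit 7, nat_lit 6, nat_lit 3, nat_lit 1])))))
 (.node (nat_lit 0x69002b45d330878) (.node (nat_lit 0x68fdfd0fcc3a558) (.leaf ((nat_lit 0), [nat_lit 9, nat_lit 4, nat_lit 6, nat_lit 9, nat_lit 0, nat_lit 8, nat_lit 6, nat_lit 3, nat_lit 8, nat_lit 6, nat_lit 0, nat_lit 7, nat_lit 5, nat_lit 6])) (.leaf ((nat_lit 0), [nat_lit 0, nat_lit 7, nat_lit 0, nat_lit 9, nat_lit 1, nat_lit 9, nat_lit 5, nat_lit 0, nat_lit 8, nat_lit 6, nat_lit 1, nat_lit 7, nat_lit 4, nat_lit 2, nat_lit 6, nat_lit 5, nat_lit 3, nat_lit 4, nat_lit 1]))) (.node (nat_lit 0x6900880d390d018) (.leaf ((nat_lit 0), [nat_lit 9, nat_lit 2, nat_lit 6, nat_lit 3, nat_lit 9, nat_lit 8, nat_lit 7, nat_lit 1, nat_lit 8, nat_lit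 4, nat_lit 0, nat_lit 7, nat_lit 5, nat_lit 6, nat_lit 3, nat_lit 4, nat_lit 1])) (.node (nat_lit 0x6900e4fea949d34) (.leaf ((nat_lit 0), [nat_lit 9, nat_lit 6, nat_lit 8, nat_lit 1, nat_lit 9, nat_lit 6, nat_lit 8, nat_lit 0, nat_lit 8, nat_lit 5, nat_lit 7, nat_lit 5, nat_lit 4, nat_lit 3])) (.leaf ((nat_lit 0), [nat_lit 6, nat_lit 9, nat_lit 2, nat_lit 1, nat_lit 9, nat_lit 7, nat_lit 8, nat_lit 6, nat_lit 5, nat_lit 7, nat_lit 3, nat_lit 3, nat_lit 6, nat_lit 4, nat_lit 3, nat_lit 3, nat_lit 1])))))))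
 (.node (nat_lit 0x6912545aefdfe58) (.node (nat_lit 0x690c27bc758df80) (.node (nat_lit 0x6909f9cea80ed54) (.node (nat_lit 0x6903133a70119c0) (.leaf ((nat_lit 0), [nat_lit 9, nat_lit 4, nat_lit 6, nat_lit 9, nat_lit 3, nat_lit 8, nat_lit 5, nat_lit 0, nat_lit 7, nat_lit 2, nat_lit 6, nat_lit 3, nat_lit 0])) (.leaf ((nat_lit 0), [nat_lit 2, nat_lit 7, nat_lit 9, nat_lit 5, nat_lit 9, nat_lit 0, nat_lit 8, nat_lit 5, nat_lit 4, nat_lit 7, nat_lit 3, nat_lit 6, nat_lit 5, nat_lit 1]))) (.node (nat_lit 0x690a570a4c1eca4) (.leaf ((nat_lit 3), [nat_lit 2, nat_lit 6, nat_lit 8, nat_lit 3, nat_lit 6, nat_lit 1, nat_lit 7, nat_lit 5, nat_lit 6, nat_lit 4, nat_lit 3, nat_lit 3])) (.node (nat_lit 0x690bca7f33f6f98) (.leaf ((nat_lit 0), [nat_lit 9, nat_lit 2, nat_lit 6, nat_lit 3, nat_lit 9, nat_lit 6, nat_lit 5, nat_lit 7, nat_lit 5, nat_lit 6, nat_lit 5, nat_lit 3, nat_lit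 6, nat_lit 4, nat_lit 2, nat_lit 2, nat_lit 1])) (.leaf ((nat_lit 0), [nat_lit 6, nat_lit 9, nat_lit 2, nat_lit 1, nat_lit 9, nat_lit 8, nat_lit 6, nat_lit 2, nat_lit 8, nat_lit 3, nat_lit 6, nat_lit 1, nat_lit 7, nat_lit 2, nat_lit 6, nat_lit 5, nat_lit 2, nat_lit 2, nat_lit 1])))))
 (.node (nat_lit 0x690f6cf584428e4) (.node (nat_lit 0x690c84782dc8e60) (.leaf ((nat_lit 0), [nat_lit 9, nat_lit 6, nat_lit 4, nat_lit 9, nat_lit 7, nat_lit 8, nat_lit 6, nat_lit 5, nat_lit 1, nat_lit 7, nat_lit 3, nat_lit 3, nat_lit 6, nat_lit 2, nat_lit 2])) (.leaf ((nat_lit 0), [nat_lit 3, nat_lit 3, nat_lit 9, nat_lit 0, nat_lit 9, nat_lit 7, nat_lit 2, nat_lit 8, nat_lit 6, nat_lit 5, nat_lit 0, nat_lit 7, nat_lit 6, nat_lit 5, nat_lit 6, nat_lit 5, nat_lit 4]))) (.node (nat_lit 0x690fca0ae367c50) (.leaf ((nat_lit 0), [nat_lit 3, nat_lit 9, nat_lit 6, nat_lit 3, nat_lit 1, nat_lit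 9, nat_lit 7, nat_lit 6, nat_lit 2, nat_lit 4, nat_lit 6, nat_lit 4, nat_lit 2, nat_lit 1])) (.node (nat_lit 0x691026aee401780) (.leaf ((nat_lit 0), [nat_lit 5, nat_lit 9, nat_lit 6, nat_lit 3, nat_lit 9, nat_lit 4, nat_lit 7, nat_lit 8, nat_lit 7, nat_lit 5, nat_lit 0, nat_lit 7, nat_lit 2, nat_lit 6, nat_lit 2, nat_lit 1])) (.leaf ((nat_lit 0), [nat_lit 2, nat_lit 7, nat_lit 9, nat_lit 5, nat_lit 9, nat_lit 8, nat_lit 1, nat_lit 8, nat_lit 4, nat_lit 0, nat_lit 7, nat_lit 6, nat_lit 5, nat_lit 4, nat_lit 2, nat_lit 2, nat_lit 1]))))))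
 (.node (nat_lit 0x691e510384a95e0) (.node (nat_lit 0x691b0c860807a10) (.node (nat_lit 0x6918de5f743e438) (.leaf ((nat_lit 0), [nat_lit 9, nat_lit 6, nat_lit 4, nat_lit 9, nat_lit 2, nat_lit 6, nat_lit 1, nat_lit 8, nat_lit 6, nat_lit 5, nat_lit 0, nat_lit 7, nat_lit 3, nat_lit 6, nat_lit 4, nat_lit 1])) (.leaf ((nat_lit 2), [nat_lit 6, nat_lit 9, nat_lit 2, nat_lit 1, nat_lit 9, nat_lit 6, nat_lit 3, nat_lit 0, nat_lit 8, nat_lit 5, nat_lit 1, nat_lit 7, nat_lit 6, nat_lit 2, nat_lit 4, nat_lit 6, nat_lit 3, nat_lit 0]))) (.node (nat_lit 0x691b6908f9ed4f4) (.leaf ((nat_lit 0), [nat_lit 5, nat_lit 9, nat_lit 6, nat_lit 3, nat_lit 9, nat_lit 4, nat_lit 7, nat_lit 8, nat_lit 1, nat_lit 7, nat_lit 4, nat_lit 2, nat_lit 6, nat_lit 1])) (.node (nat_lit 0x691bc688e394624) (.leaf ((nat_lit 0), [nat_lit 5, nat_lit 9, nat_lit 6, nat_lit 3, nat_lit 9, nat_lit 7, nat_lit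 0, nat_lit 8, nat_lit 5, nat_lit 6, nat_lit 7, nat_lit 6, nat_lit 2, nat_lit 4, nat_lit 6, nat_lit 2, nat_lit 4])) (.leaf ((nat_lit 0), [nat_lit 0, nat_lit 7, nat_lit 0, nat_lit 9, nat_lit 1, nat_lit 9, nat_lit 3, nat_lit 5, nat_lit 6, nat_lit 8, nat_lit 1, nat_lit 7, nat_lit 2, nat_lit 2, nat_lit 6, nat_lit 5, nat_lit 2])))))
 (.node (nat_lit 0x691f0b81a03bdc8) (.node (nat_lit 0x691eae11e212018) (.leaf ((nat_lit 5), [nat_lit 3, nat_lit 3, nat_lit 9, nat_lit 0, nat_lit 9, nat_lit 4, nat_lit 6, nat_lit 8, nat_lit 6, nat_lit 1, nat_lit 7, nat_lit 3, nat_lit 4, nat_lit 6, nat_lit 3, nat_lit 4, nat_lit 1])) (.leaf ((nat_lit 0), [nat_lit 9, nat_lit 6, nat_lit 4, nat_lit 9, nat_lit 8, nat_lit 5, nat_lit 2, nat_lit 8, nat_lit 3, nat_lit 6, nat_lit 7, nat_lit 3]))) (.node (nat_lit 0x69207f869f506e4) (.leaf ((nat_lit 0), [nat_lit 5, nat_lit 9, nat_lit 6, nat_lit 3, nat_lit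 9, nat_lit 4, nat_lit 8, nat_lit 0, nat_lit 8, nat_lit 7, nat_lit 2, nat_lit 4, nat_lit 7, nat_lit 4, nat_lit 2, nat_lit 6])) (.node (nat_lit 0x6920dc308dba2d4) (.leaf ((nat_lit 0), [nat_lit 6, nat_lit 9, nat_lit 2, nat_lit 1, nat_lit 9, nat_lit 7, nat_lit 2, nat_lit 1, nat_lit 8, nat_lit 5, nat_lit 7, nat_lit 6, nat_lit 2, nat_lit 4, nat_lit 6, nat_lit 1])) (.leaf ((nat_lit 0), [nat_lit 9, nat_lit 2, nat_lit 1, nat_lit 9, nat_lit 3, nat_lit 6, nat_lit 1, nat_lit 7, nat_lit 3, nat_lit 4, nat_lit 6, nat_lit 5, nat_lit 3, nat_lit 4]))))))))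
 (.node (nat_lit 0x693deb173c46a38) (.node (nat_lit 0x692f638d6ff15e0) (.node (nat_lit 0x692aaac2ba62c78) (.node (nat_lit 0x692993ccd090554) (.node (nat_lit 0x6927c31c4514410) (.leaf ((nat_lit 0), [nat_lit 9, nat_lit 2, nat_lit 6, nat_lit 3, nat_lit 9, nat_lit 0, nat_lit 8, nat_lit 7, nat_lit 5, nat_lit 1, nat_lit 7, nat_lit 6, nat_lit 5, nat_lit 6, nat_lit 2, nat_lit 2, nat_lit 0])) (.leaf ((nat_lit 0), [nat_lit 9, nat_lit 2, nat_lit 6, nat_lit 3, nat_lit 9, nat_lit 4, nat_lit 7, nat_lit 8, nat_lit 3, nat_lit 6, nat_lit 7, nat_lit 6, nat_lit 5, nat_lit 3, nat_lit 4]))) (.node (nat_lit 0x6929f08888cb434) (.leaf ((nat_lit 0), [nat_lit 8, nat_lit 0, nat_lit 9, nat_lit 1, nat_lit 9, nat_lit 6, nat_lit 2, nat_lit 8, nat_lit 7, nat_lit 5, nat_lit 0, nat_lit 7, nat_lit 6, nat_lit 4, nat_lit 3, nat_lit 6, nat_lit 2, nat_lit 4])) (.node (nat_lit 0x692a4e070288e48) (.leaf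 ((nat_lit 0), [nat_lit 2, nat_lit 7, nat_lit 9, nat_lit 5, nat_lit 9, nat_lit 2, nat_lit 1, nat_lit 8, nat_lit 7, nat_lit 0, nat_lit 7, nat_lit 2])) (.leaf ((nat_lit 0), [nat_lit 2, nat_lit 7, nat_lit 9, nat_lit 5, nat_lit 9, nat_lit 3, nat_lit 5, nat_lit 8, nat_lit 6, nat_lit 5, nat_lit 1, nat_lit 7, nat_lit 6, nat_lit 4, nat_lit 2, nat_lit 1])))))
 (.node (nat_lit 0x692cd8c3374ab38) (.node (nat_lit 0x692c7c274c6f9c8) (.leaf ((nat_lit 0), [nat_lit 8, nat_lit 0, nat_lit 9, nat_lit 1, nat_lit 9, nat_lit 6, nat_lit 1, nat_lit 8, nat_lit 5, nat_lit 7, nat_lit 3, nat_lit 3, nat_lit 6, nat_lit 4, nat_lit 3, nat_lit 0])) (.leaf ((nat_lit 0), [nat_lit 9, nat_lit 2, nat_lit 6, nat_lit 3, nat_lit 9, nat_lit 2, nat_lit 6, nat_lit 1, nat_lit 8, nat_lit 7, nat_lit 5, nat_lit 3, nat_lit 6, nat_lit 5, nat_lit 2, nat_lit 2]))) (.node (nat_lit 0x692d35dff429514) (.leaf ((nat_lit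 0), [nat_lit 9, nat_lit 6, nat_lit 8, nat_lit 1, nat_lit 9, nat_lit 2, nat_lit 2, nat_lit 8, nat_lit 7, nat_lit 6, nat_lit 3, nat_lit 3, nat_lit 6, nat_lit 5, nat_lit 3, nat_lit 3, nat_lit 3, nat_lit 1])) (.node (nat_lit 0x692d927cf35cbb4) (.leaf ((nat_lit 0), [nat_lit 2, nat_lit 7, nat_lit 9, nat_lit 5, nat_lit 9, nat_lit 8, nat_lit 5, nat_lit 8, nat_lit 5, nat_lit 4, nat_lit 7, nat_lit 5, nat_lit 3, nat_lit 6, nat_lit 5, nat_lit 3])) (.leaf ((nat_lit 0), [nat_lit 9, nat_lit 6, nat_lit 4, nat_lit 9, nat_lit 0, nat_lit 8, nat_lit 4, nat_lit 3, nat_lit 3, nat_lit 6, nat_lit 4, nat_lit 2, nat_lit 1]))))))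
 (.node (nat_lit 0x6938d57077f93b8) (.node (nat_lit 0x6935ed4650f41b4) (.node (nat_lit 0x692fc0ed309c8d0) (.leaf ((nat_lit 0), [nat_lit 8, nat_lit 0, nat_lit 9, nat_lit 1, nat_lit 9, nat_lit 6, nat_lit 1, nat_lit 8, nat_lit 6, nat_lit 0, nat_lit 7, nat_lit 4, nat_lit 2, nat_lit 2, nat_lit 6, nat_lit 4, nat_lit 3, nat_lit 0])) (.leaf ((nat_lit 0), [nat_lit 0, nat_lit 7, nat_lit 0, nat_lit 9, nat_lit 1, nat_lit 9, nat_lit 5, nat_lit 0, nat_lit 8, nat_lit 1, nat_lit 7, nat_lit 5, nat_lit 3, nat_lit 6, nat_lit 5, nat_lit 2, nat_lit 4, nat_lit 0]))) (.node (nat_lit 0x69364a6c3752d94) (.leaf ((nat_lit 3), [nat_lit 4, nat_lit 3, nat_lit 8, nat_lit 7, nat_lit 5, nat_lit 6, nat_lit 5, nat_lit 3, nat_lit 6, nat_lit 2, nat_lit 2, nat_lit 1])) (.node (nat_lit 0x693878b4c01f588) (.leaf ((nat_lit 0), [nat_lit 9, nat_lit 2, nat_lit 6, nat_lit 3, nat_lit 9, nat_lit 3, nat_lit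 8, nat_lit 5, nat_lit 7, nat_lit 2, nat_lit 2, nat_lit 6, nat_lit 4, nat_lit 2, nat_lit 0])) (.leaf ((nat_lit 0), [nat_lit 0, nat_lit 7, nat_lit 0, nat_lit 9, nat_lit 1, nat_lit 9, nat_lit 3, nat_lit 0, nat_lit 8, nat_lit 3, nat_lit 4, nat_lit 7, nat_lit 5, nat_lit 6, nat_lit 5, nat_lit 1])))))
 (.node (nat_lit 0x693b5fea332acf4) (.node (nat_lit 0x6939321392f0660) (.leaf ((nat_lit 0), [nat_lit 5, nat_lit 9, nat_lit 6, nat_lit 3, nat_lit 9, nat_lit 6, nat_lit 3, nat_lit 0, nat_lit 8, nat_lit 2, nat_lit 6, nat_lit 5, nat_lit 3, nat_lit 0])) (.leaf ((nat_lit 0), [nat_lit 9, nat_lit 4, nat_lit 6, nat_lit 9, nat_lit 6, nat_lit 3, nat_lit 8, nat_lit 4, nat_lit 2, nat_lit 6]))) (.node (nat_lit 0x693bbd6b30c9410) (.leaf ((nat_lit 0), [nat_lit 3, nat_lit 9, nat_lit 6, nat_lit 3, nat_lit 1, nat_lit 9, nat_lit 5, nat_lit 2, nat_lit 8, nat_lit 5, nat_lit 7, nat_lit 2, nat_lit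 2, nat_lit 6, nat_lit 2])) (.node (nat_lit 0x693d8e5e92540c8) (.leaf ((nat_lit 0), [nat_lit 0, nat_lit 7, nat_lit 0, nat_lit 9, nat_lit 1, nat_lit 9, nat_lit 0, nat_lit 8, nat_lit 6, nat_lit 1, nat_lit 8, nat_lit 5, nat_lit 7, nat_lit 3, nat_lit 4, nat_lit 6, nat_lit 3])) (.leaf ((nat_lit 0), [nat_lit 3, nat_lit 3, nat_lit 9, nat_lit 0, nat_lit 9, nat_lit 8, nat_lit 2, nat_lit 6, nat_lit 8, nat_lit 1, nat_lit 7, nat_lit 6, nat_lit 2, nat_lit 4])))))))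
 (.node (nat_lit 0x6955e471eba23f8) (.node (nat_lit 0x694aa1795f395d8) (.node (nat_lit 0x69475d048226b00) (.node (nat_lit 0x6944d1d71d23898) (.leaf ((nat_lit 0), [nat_lit 8, nat_lit 0, nat_lit 9, nat_lit 1, nat_lit 9, nat_lit 3, nat_lit 6, nat_lit 3, nat_lit 8, nat_lit 4, nat_lit 7, nat_lit 2, nat_lit 6, nat_lit 4, nat_lit 2])) (.leaf ((nat_lit 2), [nat_lit 2, nat_lit 7, nat_lit 9, nat_lit 5, nat_lit 9, nat_lit 6, nat_lit 1, nat_lit 8, nat_lit 4, nat_lit 0, nat_lit 7, nat_lit 2, nat_lit 4, nat_lit 6, nat_lit 4, nat_lit 3, nat_lit 1]))) (.node (nat_lit 0x6947ba23671f0e4) (.leaf ((nat_lit 0), [nat_lit 9, nat_lit 2, nat_lit 1, nat_lit 9, nat_lit 5, nat_lit 7, nat_lit 6, nat_lit 8, nat_lit 5, nat_lit 6, nat_lit 7, nat_lit 6, nat_lit 3, nat_lit 3, nat_lit 6, nat_lit 5])) (.node (nat_lit 0x694a44bc64fdc40) (.leaf ((nat_lit 0), [nat_lit 9, nat_lit 2, nat_lit 1, nat_lit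 9, nat_lit 3, nat_lit 7, nat_lit 8, nat_lit 1, nat_lit 7, nat_lit 2, nat_lit 4, nat_lit 3, nat_lit 6, nat_lit 5, nat_lit 2, nat_lit 4, nat_lit 2])) (.leaf ((nat_lit 5), [nat_lit 8, nat_lit 0, nat_lit 9, nat_lit 1, nat_lit 9, nat_lit 7, nat_lit 8, nat_lit 5, nat_lit 8, nat_lit 7, nat_lit 5, nat_lit 0, nat_lit 7, nat_lit 3, nat_lit 6, nat_lit 4])))))
 (.node (nat_lit 0x695359c75247310) (.node (nat_lit 0x694d2ce68c58ea4) (.leaf ((nat_lit 0), [nat_lit 3, nat_lit 3, nat_lit 9, nat_lit 0, nat_lit 9, nat_lit 6, nat_lit 2, nat_lit 8, nat_lit 4, nat_lit 1, nat_lit 7, nat_lit 3, nat_lit 3, nat_lit 3, nat_lit 6, nat_lit 5, nat_lit 3, nat_lit 4])) (.leaf ((nat_lit 0), [nat_lit 5, nat_lit 9, nat_lit 6, nat_lit 3, nat_lit 9, nat_lit 2, nat_lit 7, nat_lit 5, nat_lit 8, nat_lit 4, nat_lit 6, nat_lit 3, nat_lit 4, nat_lit 3, nat_lit 1]))) (.node (nat_lit 0x6953b693ed987c0) (.leaf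 ((nat_lit 0), [nat_lit 9, nat_lit 2, nat_lit 6, nat_lit 3, nat_lit 9, nat_lit 0, nat_lit 8, nat_lit 3, nat_lit 6, nat_lit 7, nat_lit 4, nat_lit 6, nat_lit 4, nat_lit 2, nat_lit 0])) (.node (nat_lit 0x695587333a011b4) (.leaf ((nat_lit 0), [nat_lit 9, nat_lit 2, nat_lit 6, nat_lit 3, nat_lit 9, nat_lit 0, nat_lit 8, nat_lit 0, nat_lit 7, nat_lit 5, nat_lit 3, nat_lit 6, nat_lit 4, nat_lit 2])) (.leaf ((nat_lit 0), [nat_lit 9, nat_lit 6, nat_lit 4, nat_lit 9, nat_lit 1, nat_lit 8, nat_lit 7, nat_lit 1, nat_lit 8, nat_lit 6, nat_lit 1, nat_lit 7, nat_lit 2, nat_lit 2, nat_lit 6, nat_lit 3]))))))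
 (.node (nat_lit 0x695bb3e1df84ce0) (.node (nat_lit 0x6958cc7c1800248) (.node (nat_lit 0x69586f063e07b18) (.leaf ((nat_lit 0), [nat_lit 6, nat_lit 9, nat_lit 2, nat_lit 1, nat_lit 9, nat_lit 5, nat_lit 7, nat_lit 6, nat_lit 8, nat_lit 3, nat_lit 4, nat_lit 7, nat_lit 3, nat_lit 4])) (.leaf ((nat_lit 0), [nat_lit 9, nat_lit 2, nat_lit 6, nat_lit 3, nat_lit 9, nat_lit 5, nat_lit 7, nat_lit 0, nat_lit 8, nat_lit 7, nat_lit 1, nat_lit 7, nat_lit 5, nat_lit 3, nat_lit 4, nat_lit 3, nat_lit 3]))) (.node (nat_lit 0x6959293911c4ed4) (.leaf ((nat_lit 0), [nat_lit 9, nat_lit 6, nat_lit 8, nat_lit 1, nat_lit 9, nat_lit 8, nat_lit 5, nat_lit 7, nat_lit 8, nat_lit 6, nat_lit 3, nat_lit 4, nat_lit 6, nat_lit 2, nat_lit 4, nat_lit 2])) (.node (nat_lit 0x695b573064f70c0) (.leaf ((nat_lit 0), [nat_lit 8, nat_lit 0, nat_lit 9, nat_lit 1, nat_lit 9, nat_lit 7, nat_lit 1, nat_lit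 7, nat_lit 8, nat_lit 7, nat_lit 2, nat_lit 4, nat_lit 7, nat_lit 6, nat_lit 5, nat_lit 2, nat_lit 4, nat_lit 0])) (.leaf ((nat_lit 0), [nat_lit 9, nat_lit 4, nat_lit 6, nat_lit 9, nat_lit 3, nat_lit 8, nat_lit 6, nat_lit 5, nat_lit 7, nat_lit 5, nat_lit 3, nat_lit 3])))))
 (.node (nat_lit 0x6bf8db82c534470) (.node (nat_lit 0x6bf7c4d7c72f280) (.leaf ((nat_lit 0), [nat_lit 6, nat_lit 9, nat_lit 2, nat_lit 1, nat_lit 9, nat_lit 5, nat_lit 7, nat_lit 6, nat_lit 8, nat_lit 6, nat_lit 5, nat_lit 0, nat_lit 7, nat_lit 2, nat_lit 6, nat_lit 2])) (.leaf ((nat_lit 0), [nat_lit 8, nat_lit 4, nat_lit 6, nat_lit 8, nat_lit 5, nat_lit 1, nat_lit 7, nat_lit 6, nat_lit 5, nat_lit 4, nat_lit 0]))) (.node (nat_lit 0x6bfaac6ec8e8b30) (.leaf ((nat_lit 1), [nat_lit 6, nat_lit 9, nat_lit 5, nat_lit 3, nat_lit 1, nat_lit 9, nat_lit 8, nat_lit 3, nat_lit 6, nat_lit 1, nat_lit 7, nat_lit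 6, nat_lit 5, nat_lit 4, nat_lit 3, nat_lit 3, nat_lit 3])) (.node (nat_lit 0x6bfc7d6b8211fb4) (.leaf ((nat_lit 2), [nat_lit 3, nat_lit 6, nat_lit 2, nat_lit 1, nat_lit 8, nat_lit 3, nat_lit 4, nat_lit 7, nat_lit 3, nat_lit 6, nat_lit 5, nat_lit 3, nat_lit 1])) (.leaf ((nat_lit 1), [nat_lit 2, nat_lit 2, nat_lit 9, nat_lit 1, nat_lit 9, nat_lit 2, nat_lit 6, nat_lit 8, nat_lit 6, nat_lit 5, nat_lit 6, nat_lit 7, nat_lit 5, nat_lit 4])))))))))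
 (.node (nat_lit 0x6c386ccc27a8104) (.node (nat_lit 0x6c1b00a02185644) (.node (nat_lit 0x6c0d904f4275334) (.node (nat_lit 0x6c05ef2001d341c) (.node (nat_lit 0x6bfd37e3afc9ad0) (.node (nat_lit 0x6bfd37e159eeb20) (.leaf ((nat_lit 6), [nat_lit 6, nat_lit 7, nat_lit 0, nat_lit 9, nat_lit 3, nat_lit 3, nat_lit 8, nat_lit 0, nat_lit 7, nat_lit 2, nat_lit 4, nat_lit 3, nat_lit 6, nat_lit 5, nat_lit 2, nat_lit 2])) (.leaf ((nat_lit 2), [nat_lit 1, nat_lit 9, nat_lit 5, nat_lit 9, nat_lit 8, nat_lit 0, nat_lit 8, nat_lit 0, nat_lit 7, nat_lit 2, nat_lit 2, nat_lit 6, nat_lit 3, nat_lit 4, nat_lit 3, nat_lit 0]))) (.node (nat_lit 0x6bfd9495586116c) (.leaf ((nat_lit 3), [nat_lit 2, nat_lit 2, nat_lit 9, nat_lit 0, nat_lit 9, nat_lit 8, nat_lit 7, nat_lit 0, nat_lit 7, nat_lit 4, nat_lit 3, nat_lit 3, nat_lit 6, nat_lit 3, nat_lit 4, nat_lit 0])) (.node (nat_lit 0x6bff6590fd92e98)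 (.leaf ((nat_lit 3), [nat_lit 2, nat_lit 7, nat_lit 9, nat_lit 5, nat_lit 9, nat_lit 4, nat_lit 7, nat_lit 8, nat_lit 6, nat_lit 5, nat_lit 7, nat_lit 3, nat_lit 3, nat_lit 3, nat_lit 1])) (.leaf ((nat_lit 3), [nat_lit 2, nat_lit 2, nat_lit 9, nat_lit 1, nat_lit 9, nat_lit 6, nat_lit 3, nat_lit 1, nat_lit 8, nat_lit 6, nat_lit 7, nat_lit 6, nat_lit 5, nat_lit 6, nat_lit 3, nat_lit 4])))))
 (.node (nat_lit 0x6c081d460bb2eec) (.node (nat_lit 0x6c06a950dc0c454) (.leaf ((nat_lit 1), [nat_lit 2, nat_lit 7, nat_lit 9, nat_lit 5, nat_lit 9, nat_lit 5, nat_lit 8, nat_lit 4, nat_lit 0, nat_lit 7, nat_lit 2, nat_lit 4, nat_lit 3, nat_lit 6, nat_lit 4, nat_lit 3])) (.leaf ((nat_lit 0), [nat_lit 7, nat_lit 8, nat_lit 7, nat_lit 0, nat_lit 8, nat_lit 6, nat_lit 4, nat_lit 3, nat_lit 6, nat_lit 4, nat_lit 3]))) (.node (nat_lit 0x6c0b052b6308270) (.leaf ((nat_lit 1), [nat_lit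 2, nat_lit 9, nat_lit 3, nat_lit 5, nat_lit 9, nat_lit 5, nat_lit 8, nat_lit 0, nat_lit 8, nat_lit 3, nat_lit 3, nat_lit 6, nat_lit 3])) (.node (nat_lit 0x6c0d32e1da263c8) (.leaf ((nat_lit 1), [nat_lit 2, nat_lit 2, nat_lit 9, nat_lit 0, nat_lit 9, nat_lit 7, nat_lit 0, nat_lit 8, nat_lit 6, nat_lit 5, nat_lit 6, nat_lit 7, nat_lit 4, nat_lit 3, nat_lit 1])) (.leaf ((nat_lit 2), [nat_lit 7, nat_lit 8, nat_lit 7, nat_lit 0, nat_lit 8, nat_lit 6, nat_lit 5, nat_lit 7, nat_lit 6, nat_lit 2, nat_lit 2, nat_lit 6, nat_lit 5, nat_lit 3, nat_lit 1]))))))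
 (.node (nat_lit 0x6c16478e4656c44) (.node (nat_lit 0x6c0d9059dc1888c) (.node (nat_lit 0x6c0d905786203a4) (.leaf ((nat_lit 6), [nat_lit 2, nat_lit 2, nat_lit 7, nat_lit 9, nat_lit 8, nat_lit 2, nat_lit 6, nat_lit 8, nat_lit 5, nat_lit 1, nat_lit 7, nat_lit 6, nat_lit 4, nat_lit 0])) (.leaf ((nat_lit 2), [nat_lit 1, nat_lit 9, nat_lit 5, nat_lit 9, nat_lit 2, nat_lit 6, nat_lit 1, nat_lit 8, nat_lit 7, nat_lit 0, nat_lit 7, nat_lit 6, nat_lit 3, nat_lit 4]))) (.node (nat_lit 0x6c0ded1bb021f80) (.leaf ((nat_lit 3), [nat_lit 0, nat_lit 7, nat_lit 0, nat_lit 9, nat_lit 1, nat_lit 9, nat_lit 5, nat_lit 7, nat_lit 8, nat_lit 5, nat_lit 7, nat_lit 5, nat_lit 1, nat_lit 7, nat_lit 5, nat_lit 4, nat_lit 2])) (.node (nat_lit 0x6c14d3915cfcfc4) (.leaf ((nat_lit 1), [nat_lit 6, nat_lit 9, nat_lit 2, nat_lit 1, nat_lit 9, nat_lit 3, nat_lit 5, nat_lit 6, nat_lit 8, nat_lit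 5, nat_lit 1, nat_lit 7, nat_lit 6, nat_lit 3, nat_lit 4])) (.leaf ((nat_lit 2), [nat_lit 2, nat_lit 6, nat_lit 0, nat_lit 8, nat_lit 4, nat_lit 7, nat_lit 6, nat_lit 5, nat_lit 3, nat_lit 6, nat_lit 5, nat_lit 2, nat_lit 2])))))
 (.node (nat_lit 0x6c18d2f04fd03b8) (.node (nat_lit 0x6c1875b67825014) (.leaf ((nat_lit 0), [nat_lit 5, nat_lit 8, nat_lit 1, nat_lit 8, nat_lit 4, nat_lit 1, nat_lit 7, nat_lit 5, nat_lit 6, nat_lit 5, nat_lit 3, nat_lit 0])) (.leaf ((nat_lit 3), [nat_lit 6, nat_lit 9, nat_lit 5, nat_lit 3, nat_lit 1, nat_lit 9, nat_lit 2, nat_lit 1, nat_lit 8, nat_lit 5, nat_lit 7, nat_lit 6, nat_lit 2, nat_lit 4, nat_lit 6, nat_lit 5, nat_lit 3, nat_lit 0]))) (.node (nat_lit 0x6c18d2f89398960) (.leaf ((nat_lit 6), [nat_lit 1, nat_lit 9, nat_lit 5, nat_lit 9, nat_lit 3, nat_lit 6, nat_lit 2, nat_lit 1, nat_lit 8, nat_lit 0, nat_lit 7, nat_lit 5, nat_lit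 3, nat_lit 6, nat_lit 2, nat_lit 4, nat_lit 0])) (.node (nat_lit 0x6c18d2fae98ce4c) (.leaf ((nat_lit 2), [nat_lit 2, nat_lit 2, nat_lit 9, nat_lit 0, nat_lit 9, nat_lit 7, nat_lit 8, nat_lit 1, nat_lit 8, nat_lit 3, nat_lit 4, nat_lit 7, nat_lit 6, nat_lit 4, nat_lit 3, nat_lit 6])) (.leaf ((nat_lit 3), [nat_lit 9, nat_lit 7, nat_lit 5, nat_lit 0, nat_lit 9, nat_lit 6, nat_lit 3, nat_lit 8, nat_lit 3, nat_lit 6, nat_lit 7, nat_lit 4, nat_lit 2, nat_lit 2, nat_lit 6, nat_lit 5, nat_lit 4])))))))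
 (.node (nat_lit 0x6c2c1367daa3ee0) (.node (nat_lit 0x6c24cf871b87680) (.node (nat_lit 0x6c1d2e4a0509760) (.node (nat_lit 0x6c1b5d67e31039c) (.leaf ((nat_lit 0), [nat_lit 4, nat_lit 8, nat_lit 0, nat_lit 8, nat_lit 1, nat_lit 7, nat_lit 4, nat_lit 2, nat_lit 6, nat_lit 5, nat_lit 0])) (.leaf ((nat_lit 0), [nat_lit 2, nat_lit 2, nat_lit 8, nat_lit 6, nat_lit 1, nat_lit 7, nat_lit 3, nat_lit 6, nat_lit 2, nat_lit 1]))) (.node (nat_lit 0x6c22fe475e497c4) (.leaf ((nat_lit 0), [nat_lit 3, nat_lit 6, nat_lit 8, nat_lit 6, nat_lit 7, nat_lit 4, nat_lit 2, nat_lit 6, nat_lit 5, nat_lit 4, nat_lit 2, nat_lit 2, nat_lit 0])) (.node (nat_lit 0x6c235b6d170ad00) (.leaf ((nat_lit 0), [nat_lit 6, nat_lit 2, nat_lit 8, nat_lit 7, nat_lit 5, nat_lit 7, nat_lit 3, nat_lit 6, nat_lit 2, nat_lit 1])) (.leaf ((nat_lit 1), [nat_lit 0, nat_lit 7, nat_lit 0, nat_lit 9, nat_lit 1, nat_lit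 9, nat_lit 8, nat_lit 5, nat_lit 7, nat_lit 8, nat_lit 6, nat_lit 5, nat_lit 0, nat_lit 7, nat_lit 6, nat_lit 4, nat_lit 3])))))
 (.node (nat_lit 0x6c27b76b8ce3fb0) (.node (nat_lit 0x6c25e61d7033a30) (.leaf ((nat_lit 1), [nat_lit 6, nat_lit 9, nat_lit 5, nat_lit 3, nat_lit 1, nat_lit 9, nat_lit 3, nat_lit 1, nat_lit 8, nat_lit 7, nat_lit 4, nat_lit 3, nat_lit 3, nat_lit 6, nat_lit 3, nat_lit 3, nat_lit 3, nat_lit 0])) (.leaf ((nat_lit 0), [nat_lit 1, nat_lit 8, nat_lit 6, nat_lit 1, nat_lit 8, nat_lit 4, nat_lit 6, nat_lit 4, nat_lit 3, nat_lit 3, nat_lit 3, nat_lit 0]))) (.node (nat_lit 0x6c2814223cf8af0) (.leaf ((nat_lit 3), [nat_lit 2, nat_lit 2, nat_lit 9, nat_lit 0, nat_lit 9, nat_lit 3, nat_lit 6, nat_lit 8, nat_lit 5, nat_lit 1, nat_lit 7, nat_lit 6, nat_lit 4, nat_lit 3, nat_lit 6, nat_lit 4, nat_lit 3])) (.node (nat_lit 0x6c2a42170c2cc08) (.leaf ((nat_lit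 2), [nat_lit 4, nat_lit 8, nat_lit 0, nat_lit 8, nat_lit 6, nat_lit 5, nat_lit 0, nat_lit 7, nat_lit 2, nat_lit 4, nat_lit 3, nat_lit 6, nat_lit 5, nat_lit 4, nat_lit 3])) (.leaf ((nat_lit 1), [nat_lit 2, nat_lit 2, nat_lit 9, nat_lit 0, nat_lit 9, nat_lit 1, nat_lit 8, nat_lit 5, nat_lit 1, nat_lit 7, nat_lit 3, nat_lit 3, nat_lit 3, nat_lit 6, nat_lit 4, nat_lit 2, nat_lit 2, nat_lit 1]))))))
 (.node (nat_lit 0x6c3410e8a4f51ac) (.node (nat_lit 0x6c2c1375543e0e0) (.node (nat_lit 0x6c2c136fc258e24) (.leaf ((nat_lit 2), [nat_lit 3, nat_lit 5, nat_lit 6, nat_lit 8, nat_lit 6, nat_lit 2, nat_lit 4, nat_lit 7, nat_lit 6, nat_lit 5, nat_lit 4, nat_lit 0])) (.leaf ((nat_lit 3), [nat_lit 7, nat_lit 9, nat_lit 2, nat_lit 1, nat_lit 9, nat_lit 5, nat_lit 8, nat_lit 1, nat_lit 8, nat_lit 3, nat_lit 4, nat_lit 7, nat_lit 5, nat_lit 4, nat_lit 1]))) (.node (nat_lit 0x6c3185c3834a55c)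 (.leaf ((nat_lit 6), [nat_lit 6, nat_lit 9, nat_lit 1, nat_lit 9, nat_lit 3, nat_lit 6, nat_lit 2, nat_lit 1, nat_lit 8, nat_lit 7, nat_lit 2, nat_lit 4, nat_lit 7, nat_lit 2])) (.node (nat_lit 0x6c3356cb601d6f0) (.leaf ((nat_lit 2), [nat_lit 6, nat_lit 9, nat_lit 1, nat_lit 9, nat_lit 0, nat_lit 8, nat_lit 6, nat_lit 3, nat_lit 8, nat_lit 3, nat_lit 4, nat_lit 6, nat_lit 3, nat_lit 3, nat_lit 3, nat_lit 1])) (.leaf ((nat_lit 2), [nat_lit 9, nat_lit 5, nat_lit 4, nat_lit 9, nat_lit 5, nat_lit 0, nat_lit 7, nat_lit 8, nat_lit 4, nat_lit 7, nat_lit 6, nat_lit 5, nat_lit 6, nat_lit 2, nat_lit 2, nat_lit 0])))))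
 (.node (nat_lit 0x6c37b305d802f34) (.node (nat_lit 0x6c35e1f195cdcac) (.leaf ((nat_lit 3), [nat_lit 6, nat_lit 9, nat_lit 2, nat_lit 1, nat_lit 9, nat_lit 8, nat_lit 7, nat_lit 0, nat_lit 8, nat_lit 5, nat_lit 7, nat_lit 5, nat_lit 7, nat_lit 5, nat_lit 3, nat_lit 6, nat_lit 4, nat_lit 3, nat_lit 1])) (.leaf ((nat_lit 3), [nat_lit 2, nat_lit 9, nat_lit 3, nat_lit 5, nat_lit 9, nat_lit 3, nat_lit 7, nat_lit 8, nat_lit 1, nat_lit 7, nat_lit 5, nat_lit 2, nat_lit 4]))) (.node (nat_lit 0x6c37b30dbfbbe74) (.leaf ((nat_lit 3), [nat_lit 2, nat_lit 9, nat_lit 3, nat_lit 5, nat_lit 9, nat_lit 3, nat_lit 7, nat_lit 8, nat_lit 5, nat_lit 7, nat_lit 5, nat_lit 7, nat_lit 4, nat_lit 6, nat_lit 4, nat_lit 3, nat_lit 1])) (.node (nat_lit 0x6c37b3135183bf8) (.leaf ((nat_lit 6), [nat_lit 3, nat_lit 8, nat_lit 2, nat_lit 9, nat_lit 6, nat_lit 8, nat_lit 0, nat_lit 8, nat_lit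 4, nat_lit 7, nat_lit 2, nat_lit 6, nat_lit 5, nat_lit 2])) (.leaf ((nat_lit 2), [nat_lit 6, nat_lit 9, nat_lit 5, nat_lit 9, nat_lit 5, nat_lit 1, nat_lit 8, nat_lit 4, nat_lit 0, nat_lit 7, nat_lit 2, nat_lit 6, nat_lit 5, nat_lit 2, nat_lit 2, nat_lit 0]))))))))
 (.node (nat_lit 0x6c623229fe1c484) (.node (nat_lit 0x6c48c514275339c) (.node (nat_lit 0x6c46976034196c0) (.node (nat_lit 0x6c40c78d4194694) (.node (nat_lit 0x6c3a3d7c8525c60) (.leaf ((nat_lit 1), [nat_lit 2, nat_lit 2, nat_lit 9, nat_lit 1, nat_lit 9, nat_lit 4, nat_lit 8, nat_lit 0, nat_lit 8, nat_lit 4, nat_lit 1, nat_lit 7, nat_lit 3, nat_lit 3, nat_lit 6, nat_lit 2, nat_lit 4, nat_lit 2])) (.leaf ((nat_lit 2), [nat_lit 9, nat_lit 5, nat_lit 3, nat_lit 1, nat_lit 9, nat_lit 5, nat_lit 7, nat_lit 6, nat_lit 8, nat_lit 5, nat_lit 6, nat_lit 7, nat_lit 5, nat_lit 2, nat_lit 0]))) (.node (nat_lit 0x6c43af39a4a135c)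 (.leaf ((nat_lit 0), [nat_lit 8, nat_lit 4, nat_lit 6, nat_lit 8, nat_lit 6, nat_lit 7, nat_lit 6, nat_lit 4, nat_lit 2, nat_lit 6, nat_lit 2, nat_lit 0])) (.node (nat_lit 0x6c45800d6715b74) (.leaf ((nat_lit 1), [nat_lit 6, nat_lit 9, nat_lit 2, nat_lit 1, nat_lit 9, nat_lit 2, nat_lit 1, nat_lit 8, nat_lit 6, nat_lit 7, nat_lit 5, nat_lit 4, nat_lit 2, nat_lit 2, nat_lit 0])) (.leaf ((nat_lit 0), [nat_lit 7, nat_lit 8, nat_lit 1, nat_lit 8, nat_lit 6, nat_lit 5, nat_lit 6, nat_lit 7, nat_lit 3, nat_lit 6, nat_lit 4, nat_lit 1])))))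
 (.node (nat_lit 0x6c480b83ec06f0c) (.node (nat_lit 0x6c480b7c0434a90) (.leaf ((nat_lit 1), [nat_lit 6, nat_lit 9, nat_lit 2, nat_lit 1, nat_lit 9, nat_lit 3, nat_lit 1, nat_lit 8, nat_lit 3, nat_lit 4, nat_lit 7, nat_lit 5, nat_lit 6, nat_lit 5, nat_lit 3, nat_lit 6, nat_lit 4, nat_lit 2])) (.leaf ((nat_lit 6), [nat_lit 2, nat_lit 7, nat_lit 9, nat_lit 5, nat_lit 9, nat_lit 8, nat_lit 2, nat_lit 1, nat_lit 8, nat_lit 7, nat_lit 6, nat_lit 5, nat_lit 6, nat_lit 4]))) (.node (nat_lit 0x6c480b897dd2c8c) (.leaf ((nat_lit 2), [nat_lit 9, nat_lit 7, nat_lit 5, nat_lit 0, nat_lit 9, nat_lit 0, nat_lit 8, nat_lit 3, nat_lit 3, nat_lit 3, nat_lit 1])) (.node (nat_lit 0x6c48684a6bd8498) (.leaf ((nat_lit 3), [nat_lit 6, nat_lit 9, nat_lit 2, nat_lit 1, nat_lit 9, nat_lit 3, nat_lit 0, nat_lit 8, nat_lit 5, nat_lit 7, nat_lit 5, nat_lit 7, nat_lit 5, nat_lit 6, nat_lit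 2, nat_lit 0])) (.leaf ((nat_lit 0), [nat_lit 2, nat_lit 7, nat_lit 5, nat_lit 8, nat_lit 5, nat_lit 7, nat_lit 4, nat_lit 2, nat_lit 6, nat_lit 4]))))))
 (.node (nat_lit 0x6c54652fba80bf8) (.node (nat_lit 0x6c51d9a65845b1c) (.node (nat_lit 0x6c50c304dff3614) (.leaf ((nat_lit 1), [nat_lit 9, nat_lit 7, nat_lit 5, nat_lit 0, nat_lit 9, nat_lit 5, nat_lit 6, nat_lit 8, nat_lit 6, nat_lit 7, nat_lit 5, nat_lit 3, nat_lit 4, nat_lit 3])) (.leaf ((nat_lit 0), [nat_lit 6, nat_lit 2, nat_lit 8, nat_lit 5, nat_lit 7, nat_lit 5, nat_lit 1, nat_lit 7, nat_lit 3, nat_lit 3, nat_lit 1]))) (.node (nat_lit 0x6c5293f087b9040) (.leaf ((nat_lit 1), [nat_lit 6, nat_lit 9, nat_lit 2, nat_lit 1, nat_lit 9, nat_lit 6, nat_lit 2, nat_lit 1, nat_lit 8, nat_lit 6, nat_lit 7, nat_lit 3, nat_lit 4, nat_lit 6, nat_lit 2, nat_lit 4, nat_lit 3, nat_lit 0])) (.node (nat_lit 0x6c546529ccbbfcc)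 (.leaf ((nat_lit 3), [nat_lit 9, nat_lit 7, nat_lit 5, nat_lit 0, nat_lit 9, nat_lit 7, nat_lit 2, nat_lit 8, nat_lit 6, nat_lit 1, nat_lit 7, nat_lit 2, nat_lit 6, nat_lit 5, nat_lit 2, nat_lit 2, nat_lit 0])) (.leaf ((nat_lit 3), [nat_lit 2, nat_lit 7, nat_lit 9, nat_lit 5, nat_lit 9, nat_lit 4, nat_lit 0, nat_lit 7, nat_lit 8, nat_lit 6, nat_lit 3, nat_lit 4, nat_lit 7, nat_lit 3, nat_lit 3, nat_lit 6, nat_lit 4, nat_lit 2, nat_lit 1])))))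
 (.node (nat_lit 0x6c55d8e32874c04) (.node (nat_lit 0x6c546537a2531e0) (.leaf ((nat_lit 3), [nat_lit 2, nat_lit 2, nat_lit 9, nat_lit 1, nat_lit 9, nat_lit 8, nat_lit 0, nat_lit 8, nat_lit 4, nat_lit 7, nat_lit 2, nat_lit 4, nat_lit 6, nat_lit 5, nat_lit 4, nat_lit 2, nat_lit 0])) (.leaf ((nat_lit 3), [nat_lit 6, nat_lit 9, nat_lit 5, nat_lit 3, nat_lit 1, nat_lit 9, nat_lit 2, nat_lit 5, nat_lit 8, nat_lit 4, nat_lit 7, nat_lit 5, nat_lit 3, nat_lit 6, nat_lit 2, nat_lit 1]))) (.node (nat_lit 0x6c56929bfe38060) (.leaf ((nat_lit 3), [nat_lit 7, nat_lit 9, nat_lit 2, nat_lit 1, nat_lit 9, nat_lit 2, nat_lit 1, nat_lit 8, nat_lit 3, nat_lit 6, nat_lit 7, nat_lit 2, nat_lit 4, nat_lit 6, nat_lit 3, nat_lit 3, nat_lit 1])) (.node (nat_lit 0x6c5dd689ad664ac) (.leaf ((nat_lit 1), [nat_lit 2, nat_lit 2, nat_lit 9, nat_lit 1, nat_lit 9, nat_lit 7, nat_lit 5, nat_lit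 6, nat_lit 8, nat_lit 3, nat_lit 6, nat_lit 1, nat_lit 7, nat_lit 6, nat_lit 4, nat_lit 2, nat_lit 1])) (.leaf ((nat_lit 0), [nat_lit 3, nat_lit 6, nat_lit 7, nat_lit 4, nat_lit 2, nat_lit 6, nat_lit 5, nat_lit 3, nat_lit 3, nat_lit 3, nat_lit 1])))))))
 (.node (nat_lit 0x6c6dd1faa601f54) (.node (nat_lit 0x6c651a508d94954) (.node (nat_lit 0x6c64bd9ff906ab4) (.node (nat_lit 0x6c628f1d0c4bef4) (.leaf ((nat_lit 0), [nat_lit 1, nat_lit 7, nat_lit 8, nat_lit 2, nat_lit 4, nat_lit 7, nat_lit 4, nat_lit 6, nat_lit 5, nat_lit 2, nat_lit 2])) (.leaf ((nat_lit 2), [nat_lit 3, nat_lit 8, nat_lit 7, nat_lit 1, nat_lit 8, nat_lit 6, nat_lit 1, nat_lit 7, nat_lit 3, nat_lit 3, nat_lit 6, nat_lit 5, nat_lit 4, nat_lit 2, nat_lit 2, nat_lit 0]))) (.node (nat_lit 0x6c64bda5e6cfb20) (.leaf ((nat_lit 2), [nat_lit 2, nat_lit 2, nat_lit 9, nat_lit 1, nat_lit 9, nat_lit 2, nat_lit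 7, nat_lit 6, nat_lit 8, nat_lit 7, nat_lit 2, nat_lit 4, nat_lit 7, nat_lit 6, nat_lit 2])) (.node (nat_lit 0x6c64bdadce84bd0) (.leaf ((nat_lit 2), [nat_lit 6, nat_lit 9, nat_lit 5, nat_lit 3, nat_lit 1, nat_lit 9, nat_lit 5, nat_lit 0, nat_lit 7, nat_lit 8, nat_lit 6, nat_lit 5, nat_lit 1, nat_lit 7, nat_lit 5, nat_lit 2])) (.leaf ((nat_lit 2), [nat_lit 6, nat_lit 9, nat_lit 5, nat_lit 9, nat_lit 7, nat_lit 5, nat_lit 1, nat_lit 8, nat_lit 4, nat_lit 1, nat_lit 7, nat_lit 2, nat_lit 0])))))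
 (.node (nat_lit 0x6c66eb3af352158) (.node (nat_lit 0x6c65d3fa4bd8f04) (.leaf ((nat_lit 0), [nat_lit 4, nat_lit 7, nat_lit 8, nat_lit 6, nat_lit 1, nat_lit 7, nat_lit 5, nat_lit 6, nat_lit 5, nat_lit 2, nat_lit 4, nat_lit 1])) (.leaf ((nat_lit 1), [nat_lit 6, nat_lit 9, nat_lit 5, nat_lit 3, nat_lit 1, nat_lit 9, nat_lit 7, nat_lit 1, nat_lit 7, nat_lit 8, nat_lit 7, nat_lit 1, nat_lit 7, nat_lit 2, nat_lit 4, nat_lit 6, nat_lit 4]))) (.node (nat_lit 0x6c6c012ca34cd2c) (.leaf ((nat_lit 1), [nat_lit 2, nat_lit 2, nat_lit 9, nat_lit 0, nat_lit 9, nat_lit 5, nat_lit 8, nat_lit 5, nat_lit 1, nat_lit 7, nat_lit 4, nat_lit 3, nat_lit 6, nat_lit 2])) (.node (nat_lit 0x6c6d74c579b6ab0) (.leaf ((nat_lit 3), [nat_lit 0, nat_lit 7, nat_lit 0, nat_lit 9, nat_lit 1, nat_lit 9, nat_lit 2, nat_lit 7, nat_lit 6, nat_lit 8, nat_lit 7, nat_lit 5, nat_lit 0, nat_lit 7, nat_lit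 4, nat_lit 2, nat_lit 6, nat_lit 4, nat_lit 0])) (.leaf ((nat_lit 2), [nat_lit 9, nat_lit 5, nat_lit 4, nat_lit 9, nat_lit 3, nat_lit 5, nat_lit 6, nat_lit 8, nat_lit 7, nat_lit 4, nat_lit 3, nat_lit 6, nat_lit 4, nat_lit 3, nat_lit 3, nat_lit 3, nat_lit 1]))))))
 (.node (nat_lit 0x6c75161c131aa4c) (.node (nat_lit 0x6c722dd3bd025b0) (.node (nat_lit 0x6c70b9b5969ffc4) (.leaf ((nat_lit 1), [nat_lit 6, nat_lit 9, nat_lit 5, nat_lit 3, nat_lit 1, nat_lit 9, nat_lit 5, nat_lit 8, nat_lit 1, nat_lit 7, nat_lit 6, nat_lit 2, nat_lit 4, nat_lit 6, nat_lit 5, nat_lit 4, nat_lit 0])) (.leaf ((nat_lit 0), [nat_lit 7, nat_lit 5, nat_lit 8, nat_lit 7, nat_lit 3, nat_lit 4, nat_lit 6, nat_lit 5, nat_lit 2, nat_lit 4, nat_lit 3]))) (.node (nat_lit 0x6c728a9088d3588) (.leaf ((nat_lit 0), [nat_lit 3, nat_lit 6, nat_lit 8, nat_lit 7, nat_lit 1, nat_lit 7, nat_lit 5, nat_lit 3,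 nat_lit 6, nat_lit 5, nat_lit 3, nat_lit 3, nat_lit 0])) (.node (nat_lit 0x6c75161625384a4) (.leaf ((nat_lit 0), [nat_lit 3, nat_lit 6, nat_lit 8, nat_lit 3, nat_lit 4, nat_lit 7, nat_lit 5, nat_lit 6, nat_lit 4, nat_lit 3, nat_lit 0])) (.leaf ((nat_lit 6), [nat_lit 8, nat_lit 5, nat_lit 0, nat_lit 9, nat_lit 7, nat_lit 5, nat_lit 8, nat_lit 6, nat_lit 7, nat_lit 6, nat_lit 4, nat_lit 2, nat_lit 6, nat_lit 0])))))
 (.node (nat_lit 0x6c7ae536af92bb0) (.node (nat_lit 0x6c751623fad36b4) (.leaf ((nat_lit 6), [nat_lit 3, nat_lit 6, nat_lit 3, nat_lit 9, nat_lit 1, nat_lit 8, nat_lit 6, nat_lit 2, nat_lit 4, nat_lit 7, nat_lit 2, nat_lit 4, nat_lit 3, nat_lit 6, nat_lit 3])) (.leaf ((nat_lit 6), [nat_lit 7, nat_lit 3, nat_lit 9, nat_lit 0, nat_lit 7, nat_lit 8, nat_lit 5, nat_lit 1, nat_lit 7, nat_lit 5, nat_lit 4, nat_lit 0]))) (.node (nat_lit 0x6c7ae53c6f591f4) (.leaf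 ((nat_lit 6), [nat_lit 3, nat_lit 6, nat_lit 9, nat_lit 2, nat_lit 6, nat_lit 1, nat_lit 8, nat_lit 3, nat_lit 4, nat_lit 7, nat_lit 4, nat_lit 3, nat_lit 3, nat_lit 6, nat_lit 2, nat_lit 2, nat_lit 1])) (.node (nat_lit 0x6c7ae5448529f30) (.leaf ((nat_lit 6), [nat_lit 4, nat_lit 9, nat_lit 6, nat_lit 4, nat_lit 9, nat_lit 4, nat_lit 7, nat_lit 6, nat_lit 8, nat_lit 1, nat_lit 7, nat_lit 5, nat_lit 6, nat_lit 5, nat_lit 3, nat_lit 0])) (.leaf ((nat_lit 6), [nat_lit 8, nat_lit 4, nat_lit 9, nat_lit 7, nat_lit 5, nat_lit 8, nat_lit 7, nat_lit 0, nat_lit 7, nat_lit 3, nat_lit 6, nat_lit 1]))))))))))))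
 (.node (nat_lit 0x6e83a739a89a058) (.node (nat_lit 0x6d82d90fbbfb34c) (.node (nat_lit 0x6d00910ea1291ec) (.node (nat_lit 0x6cbb8d6c4835bd4) (.node (nat_lit 0x6c9b9630dd9f248) (.node (nat_lit 0x6c8b9ab7a1516dc) (.node (nat_lit 0x6c828646ad72640) (.node (nat_lit 0x6c7f419bbc0dd10) (.node (nat_lit 0x6c7d706a8cc2418) (.leaf ((nat_lit 2), [nat_lit 5, nat_lit 8, nat_lit 2, nat_lit 1, nat_lit 8, nat_lit 5, nat_lit 1, nat_lit 7, nat_lit 3, nat_lit 4, nat_lit 6, nat_lit 2, nat_lit 4])) (.leaf ((nat_lit 0), [nat_lit 7, nat_lit 5, nat_lit 1, nat_lit 8, nat_lit 7, nat_lit 3, nat_lit 4, nat_lit 7, nat_lit 3, nat_lit 3, nat_lit 6, nat_lit 4, nat_lit 3]))) (.node (nat_lit 0x6c80588bb810374) (.leaf ((nat_lit 0), [nat_lit 8, nat_lit 2, nat_lit 5, nat_lit 8, nat_lit 4, nat_lit 7, nat_lit 6, nat_lit 3, nat_lit 0])) (.leaf ((nat_lit 3), [nat_lit 0, nat_lit 7, nat_lit 0, nat_lit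 9, nat_lit 1, nat_lit 9, nat_lit 0, nat_lit 8, nat_lit 3, nat_lit 4, nat_lit 7, nat_lit 2, nat_lit 1]))))
 (.node (nat_lit 0x6c8a843485bdbb8) (.node (nat_lit 0x6c834076cf505a0) (.leaf ((nat_lit 2), [nat_lit 9, nat_lit 7, nat_lit 5, nat_lit 0, nat_lit 9, nat_lit 8, nat_lit 5, nat_lit 0, nat_lit 8, nat_lit 7, nat_lit 0, nat_lit 7, nat_lit 2, nat_lit 2, nat_lit 6, nat_lit 4, nat_lit 0])) (.leaf ((nat_lit 3), [nat_lit 9, nat_lit 7, nat_lit 5, nat_lit 0, nat_lit 9, nat_lit 8, nat_lit 5, nat_lit 7, nat_lit 5, nat_lit 7, nat_lit 4, nat_lit 6, nat_lit 5, nat_lit 3, nat_lit 4, nat_lit 3, nat_lit 3, nat_lit 0]))) (.node (nat_lit 0x6c8b9aa9cbb6360) (.leaf ((nat_lit 1), [nat_lit 7, nat_lit 9, nat_lit 2, nat_lit 1, nat_lit 9, nat_lit 6, nat_lit 8, nat_lit 5, nat_lit 0, nat_lit 7, nat_lit 4, nat_lit 6, nat_lit 5, nat_lit 3, nat_lit 1])) (.node (nat_lit 0x6c8b9aaf8b99edc) (.leaf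 ((nat_lit 2), [nat_lit 2, nat_lit 9, nat_lit 3, nat_lit 5, nat_lit 9, nat_lit 2, nat_lit 5, nat_lit 8, nat_lit 6, nat_lit 7, nat_lit 5, nat_lit 4, nat_lit 2, nat_lit 0])) (.leaf ((nat_lit 2), [nat_lit 7, nat_lit 8, nat_lit 0, nat_lit 8, nat_lit 7, nat_lit 0, nat_lit 7, nat_lit 6, nat_lit 4, nat_lit 3, nat_lit 6, nat_lit 4, nat_lit 2]))))))
 (.node (nat_lit 0x6c92deaa2a4d2d4) (.node (nat_lit 0x6c8e2623309018c) (.node (nat_lit 0x6c8d6bdbb35cbc4) (.leaf ((nat_lit 2), [nat_lit 5, nat_lit 2, nat_lit 8, nat_lit 5, nat_lit 7, nat_lit 5, nat_lit 1, nat_lit 7, nat_lit 6, nat_lit 5, nat_lit 3, nat_lit 6, nat_lit 5, nat_lit 4, nat_lit 3, nat_lit 1])) (.leaf ((nat_lit 2), [nat_lit 8, nat_lit 5, nat_lit 8, nat_lit 1, nat_lit 7, nat_lit 6, nat_lit 3, nat_lit 3, nat_lit 6, nat_lit 4, nat_lit 1]))) (.node (nat_lit 0x6c8ee00f3ad54f4) (.leaf ((nat_lit 0), [nat_lit 5, nat_lit 1,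 nat_lit 8, nat_lit 1, nat_lit 7, nat_lit 3, nat_lit 3, nat_lit 6, nat_lit 4, nat_lit 2])) (.node (nat_lit 0x6c910e04941064c) (.leaf ((nat_lit 1), [nat_lit 2, nat_lit 9, nat_lit 3, nat_lit 5, nat_lit 9, nat_lit 4, nat_lit 6, nat_lit 8, nat_lit 5, nat_lit 7, nat_lit 5, nat_lit 7, nat_lit 3, nat_lit 4, nat_lit 6])) (.leaf ((nat_lit 1), [nat_lit 6, nat_lit 9, nat_lit 2, nat_lit 1, nat_lit 9, nat_lit 5, nat_lit 1, nat_lit 8, nat_lit 0, nat_lit 7, nat_lit 5, nat_lit 6, nat_lit 5, nat_lit 3, nat_lit 3, nat_lit 3])))))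
 (.node (nat_lit 0x6c9b39b79f6afe4) (.node (nat_lit 0x6c98ae8a685ba30) (.leaf ((nat_lit 0), [nat_lit 6, nat_lit 7, nat_lit 1, nat_lit 8, nat_lit 7, nat_lit 1, nat_lit 7, nat_lit 6, nat_lit 2, nat_lit 2, nat_lit 1])) (.leaf ((nat_lit 1), [nat_lit 7, nat_lit 9, nat_lit 2, nat_lit 1, nat_lit 9, nat_lit 2, nat_lit 6, nat_lit 3, nat_lit 8, nat_lit 7, nat_lit 3, nat_lit 4, nat_lit 7, nat_lit 4, nat_lit 2, nat_lit 6, nat_lit 5, nat_lit 0]))) (.node (nat_lit 0x6c9b96230821404) (.leaf ((nat_lit 3), [nat_lit 2, nat_lit 2, nat_lit 9, nat_lit 0, nat_lit 9, nat_lit 8, nat_lit 4, nat_lit 6, nat_lit 8, nat_lit 7, nat_lit 1, nat_lit 7, nat_lit 4, nat_lit 2, nat_lit 2, nat_lit 6, nat_lit 5, nat_lit 2, nat_lit 2])) (.node (nat_lit 0x6c9b9628c7eba44) (.leaf ((nat_lit 3), [nat_lit 2, nat_lit 9, nat_lit 3, nat_lit 5, nat_lit 9, nat_lit 8, nat_lit 4, nat_lit 7, nat_lit 5, nat_lit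 3, nat_lit 6, nat_lit 4, nat_lit 3, nat_lit 3])) (.leaf ((nat_lit 3), [nat_lit 6, nat_lit 9, nat_lit 2, nat_lit 1, nat_lit 9, nat_lit 5, nat_lit 7, nat_lit 6, nat_lit 8, nat_lit 2, nat_lit 4, nat_lit 7, nat_lit 6, nat_lit 2, nat_lit 4, nat_lit 6, nat_lit 0])))))))
 (.node (nat_lit 0x6caad83f6b8e760) (.node (nat_lit 0x6ca7f06fa366578) (.node (nat_lit 0x6c9e215b91365ec) (.node (nat_lit 0x6c9c506915a7f40) (.leaf ((nat_lit 3), [nat_lit 7, nat_lit 9, nat_lit 2, nat_lit 1, nat_lit 9, nat_lit 5, nat_lit 1, nat_lit 8, nat_lit 1, nat_lit 7, nat_lit 6, nat_lit 5, nat_lit 6, nat_lit 3, nat_lit 4, nat_lit 3])) (.leaf ((nat_lit 0), [nat_lit 1, nat_lit 7, nat_lit 8, nat_lit 6, nat_lit 1, nat_lit 7, nat_lit 6, nat_lit 3, nat_lit 4, nat_lit 6, nat_lit 5, nat_lit 2, nat_lit 0]))) (.node (nat_lit 0x6ca0ac808481760) (.leaf ((nat_lit 1), [nat_lit 9, nat_lit 7, nat_lit 5, nat_lit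 0, nat_lit 9, nat_lit 3, nat_lit 5, nat_lit 8, nat_lit 6, nat_lit 5, nat_lit 1, nat_lit 7, nat_lit 4, nat_lit 2, nat_lit 2, nat_lit 6, nat_lit 5, nat_lit 3, nat_lit 4, nat_lit 3])) (.node (nat_lit 0x6ca1093bb2c0a94) (.leaf ((nat_lit 0), [nat_lit 7, nat_lit 8, nat_lit 7, nat_lit 0, nat_lit 8, nat_lit 6, nat_lit 3, nat_lit 4, nat_lit 7, nat_lit 4, nat_lit 3, nat_lit 3, nat_lit 1])) (.leaf ((nat_lit 1), [nat_lit 6, nat_lit 9, nat_lit 2, nat_lit 1, nat_lit 9, nat_lit 8, nat_lit 1, nat_lit 8, nat_lit 4, nat_lit 1, nat_lit 7, nat_lit 4, nat_lit 3, nat_lit 6, nat_lit 3, nat_lit 3, nat_lit 3, nat_lit 1])))))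
 (.node (nat_lit 0x6ca963e207481e0) (.node (nat_lit 0x6ca963d99597584) (.leaf ((nat_lit 0), [nat_lit 7, nat_lit 8, nat_lit 1, nat_lit 8, nat_lit 2, nat_lit 4, nat_lit 7, nat_lit 3, nat_lit 3, nat_lit 3, nat_lit 6])) (.leaf ((nat_lit 3), [nat_lit 0, nat_lit 7, nat_lit 0, nat_lit 9, nat_lit 1, nat_lit 9, nat_lit 5, nat_lit 7, nat_lit 0, nat_lit 8, nat_lit 5, nat_lit 1, nat_lit 7, nat_lit 3, nat_lit 6, nat_lit 2, nat_lit 2]))) (.node (nat_lit 0x6ca963e76b2ea70) (.leaf ((nat_lit 6), [nat_lit 4, nat_lit 8, nat_lit 2, nat_lit 9, nat_lit 3, nat_lit 6, nat_lit 3, nat_lit 8, nat_lit 7, nat_lit 0, nat_lit 7, nat_lit 4, nat_lit 2, nat_lit 6, nat_lit 3, nat_lit 3])) (.node (nat_lit 0x6ca9c11f1b4c5c4) (.leaf ((nat_lit 2), [nat_lit 2, nat_lit 9, nat_lit 3, nat_lit 5, nat_lit 9, nat_lit 8, nat_lit 4, nat_lit 6, nat_lit 8, nat_lit 4, nat_lit 0, nat_lit 7, nat_lit 2, nat_lit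 4, nat_lit 6, nat_lit 1])) (.leaf ((nat_lit 0), [nat_lit 7, nat_lit 2, nat_lit 8, nat_lit 3, nat_lit 6, nat_lit 1, nat_lit 7, nat_lit 2, nat_lit 6, nat_lit 2, nat_lit 4, nat_lit 1]))))))
 (.node (nat_lit 0x6cb7ebe31fedee4) (.node (nat_lit 0x6cae1cf078a84d4) (.node (nat_lit 0x6cadc0343671d20) (.leaf ((nat_lit 0), [nat_lit 3, nat_lit 7, nat_lit 0, nat_lit 8, nat_lit 6, nat_lit 5, nat_lit 0, nat_lit 7, nat_lit 5, nat_lit 3, nat_lit 6, nat_lit 5, nat_lit 3])) (.leaf ((nat_lit 0), [nat_lit 1, nat_lit 7, nat_lit 8, nat_lit 6, nat_lit 7, nat_lit 3, nat_lit 3, nat_lit 6, nat_lit 2, nat_lit 4, nat_lit 2, nat_lit 0]))) (.node (nat_lit 0x6cafede88609ac0) (.leaf ((nat_lit 1), [nat_lit 6, nat_lit 9, nat_lit 2, nat_lit 1, nat_lit 9, nat_lit 2, nat_lit 2, nat_lit 8, nat_lit 3, nat_lit 6, nat_lit 1, nat_lit 7, nat_lit 5, nat_lit 2, nat_lit 4])) (.node (nat_lit 0x6cb61aaee2bb570)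 (.leaf ((nat_lit 0), [nat_lit 2, nat_lit 2, nat_lit 8, nat_lit 6, nat_lit 1, nat_lit 7, nat_lit 4, nat_lit 2, nat_lit 2, nat_lit 6, nat_lit 3, nat_lit 4, nat_lit 3])) (.leaf ((nat_lit 2), [nat_lit 6, nat_lit 2, nat_lit 1, nat_lit 8, nat_lit 4, nat_lit 7, nat_lit 2, nat_lit 6, nat_lit 2, nat_lit 4, nat_lit 3, nat_lit 0])))))
 (.node (nat_lit 0x6cba7649a1a57c8) (.node (nat_lit 0x6cb95f829c8e56c) (.leaf ((nat_lit 1), [nat_lit 7, nat_lit 9, nat_lit 2, nat_lit 1, nat_lit 9, nat_lit 5, nat_lit 8, nat_lit 0, nat_lit 8, nat_lit 7, nat_lit 6, nat_lit 5, nat_lit 6])) (.leaf ((nat_lit 2), [nat_lit 2, nat_lit 5, nat_lit 8, nat_lit 5, nat_lit 0, nat_lit 7, nat_lit 2, nat_lit 6, nat_lit 5, nat_lit 4, nat_lit 2]))) (.node (nat_lit 0x6cba7652137395c) (.leaf ((nat_lit 2), [nat_lit 7, nat_lit 9, nat_lit 2, nat_lit 1, nat_lit 9, nat_lit 5, nat_lit 7, nat_lit 0, nat_lit 8, nat_lit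 7, nat_lit 2, nat_lit 6, nat_lit 3, nat_lit 1])) (.node (nat_lit 0x6cba76577740cb0) (.leaf ((nat_lit 3), [nat_lit 9, nat_lit 7, nat_lit 5, nat_lit 0, nat_lit 9, nat_lit 5, nat_lit 7, nat_lit 5, nat_lit 8, nat_lit 7, nat_lit 6, nat_lit 3, nat_lit 4, nat_lit 6, nat_lit 3, nat_lit 3, nat_lit 1])) (.leaf ((nat_lit 6), [nat_lit 5, nat_lit 4, nat_lit 9, nat_lit 2, nat_lit 5, nat_lit 8, nat_lit 7, nat_lit 0, nat_lit 7, nat_lit 3, nat_lit 6, nat_lit 4, nat_lit 2]))))))))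
 (.node (nat_lit 0x6cda6d65c931e80) (.node (nat_lit 0x6cc8a163e3ae150) (.node (nat_lit 0x6cc5b8eaaf24f44) (.node (nat_lit 0x6cbdbba24f24d34) (.node (nat_lit 0x6cbc47ba991f934) (.leaf ((nat_lit 1), [nat_lit 2, nat_lit 9, nat_lit 3, nat_lit 5, nat_lit 9, nat_lit 3, nat_lit 8, nat_lit 2, nat_lit 4, nat_lit 7, nat_lit 3, nat_lit 3, nat_lit 3, nat_lit 6, nat_lit 5, nat_lit 2, nat_lit 4, nat_lit 2])) (.leaf ((nat_lit 0), [nat_lit 3, nat_lit 7, nat_lit 0, nat_lit 8, nat_lit 6, nat_lit 5, nat_lit 1, nat_lit 7, nat_lit 5, nat_lit 6, nat_lit 5, nat_lit 4, nat_lit 2, nat_lit 0]))) (.node (nat_lit 0x6cbe1879b28026c) (.leaf ((nat_lit 3), [nat_lit 6, nat_lit 9, nat_lit 2, nat_lit 1, nat_lit 9, nat_lit 8, nat_lit 2, nat_lit 6, nat_lit 8, nat_lit 5, nat_lit 4, nat_lit 7, nat_lit 4, nat_lit 6, nat_lit 3, nat_lit 1])) (.node (nat_lit 0x6cc4452ea1d0b94) (.leaf ((nat_lit 2), [nat_lit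 9, nat_lit 1, nat_lit 8, nat_lit 7, nat_lit 9, nat_lit 7, nat_lit 8, nat_lit 1, nat_lit 8, nat_lit 7, nat_lit 5, nat_lit 7, nat_lit 3, nat_lit 3, nat_lit 3, nat_lit 6, nat_lit 5, nat_lit 2, nat_lit 0])) (.leaf ((nat_lit 1), [nat_lit 2, nat_lit 7, nat_lit 9, nat_lit 5, nat_lit 9, nat_lit 5, nat_lit 2, nat_lit 8, nat_lit 6, nat_lit 3, nat_lit 3, nat_lit 6, nat_lit 4, nat_lit 2, nat_lit 2])))))
 (.node (nat_lit 0x6cc5b8f884a2ef4) (.node (nat_lit 0x6cc5b8f320d9b9c) (.leaf ((nat_lit 6), [nat_lit 3, nat_lit 8, nat_lit 3, nat_lit 9, nat_lit 2, nat_lit 8, nat_lit 6, nat_lit 5, nat_lit 7, nat_lit 6, nat_lit 2, nat_lit 4, nat_lit 6, nat_lit 2, nat_lit 4, nat_lit 3, nat_lit 0])) (.leaf ((nat_lit 2), [nat_lit 7, nat_lit 9, nat_lit 2, nat_lit 1, nat_lit 9, nat_lit 8, nat_lit 5, nat_lit 0, nat_lit 8, nat_lit 6, nat_lit 2, nat_lit 4, nat_lit 6, nat_lit 3, nat_lit 3]))) (.node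 (nat_lit 0x6cc616384a91618) (.leaf ((nat_lit 3), [nat_lit 2, nat_lit 2, nat_lit 9, nat_lit 0, nat_lit 9, nat_lit 1, nat_lit 8, nat_lit 4, nat_lit 7, nat_lit 6, nat_lit 5, nat_lit 3, nat_lit 6, nat_lit 4, nat_lit 2, nat_lit 2, nat_lit 1])) (.node (nat_lit 0x6cc6734ebd7f4f4) (.leaf ((nat_lit 1), [nat_lit 2, nat_lit 2, nat_lit 9, nat_lit 0, nat_lit 9, nat_lit 1, nat_lit 8, nat_lit 5, nat_lit 0, nat_lit 7, nat_lit 6, nat_lit 5, nat_lit 6, nat_lit 5, nat_lit 1])) (.leaf ((nat_lit 3), [nat_lit 6, nat_lit 9, nat_lit 5, nat_lit 3, nat_lit 1, nat_lit 9, nat_lit 7, nat_lit 8, nat_lit 5, nat_lit 7, nat_lit 5, nat_lit 0, nat_lit 7, nat_lit 5, nat_lit 2]))))))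
 (.node (nat_lit 0x6cd49de211d93e4) (.node (nat_lit 0x6ccbe5ea5c39bac) (.node (nat_lit 0x6cc95b53e1de9cc) (.leaf ((nat_lit 3), [nat_lit 2, nat_lit 2, nat_lit 9, nat_lit 1, nat_lit 9, nat_lit 8, nat_lit 3, nat_lit 1, nat_lit 8, nat_lit 1, nat_lit 7, nat_lit 5, nat_lit 6, nat_lit 5, nat_lit 0])) (.leaf ((nat_lit 1), [nat_lit 0, nat_lit 7, nat_lit 0, nat_lit 9, nat_lit 1, nat_lit 9, nat_lit 5, nat_lit 8, nat_lit 5, nat_lit 8, nat_lit 4, nat_lit 7, nat_lit 2, nat_lit 2, nat_lit 6, nat_lit 5, nat_lit 3, nat_lit 4]))) (.node (nat_lit 0x6cd2cd04f7b7520) (.leaf ((nat_lit 2), [nat_lit 9, nat_lit 8, nat_lit 0, nat_lit 9, nat_lit 6, nat_lit 8, nat_lit 0, nat_lit 8, nat_lit 4, nat_lit 7, nat_lit 2, nat_lit 4, nat_lit 6, nat_lit 2, nat_lit 4])) (.node (nat_lit 0x6cd440a2a848ef0) (.leaf ((nat_lit 1), [nat_lit 6, nat_lit 9, nat_lit 5, nat_lit 3, nat_lit 1, nat_lit 9, nat_lit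 6, nat_lit 8, nat_lit 7, nat_lit 5, nat_lit 3, nat_lit 6, nat_lit 5, nat_lit 3, nat_lit 3, nat_lit 3])) (.leaf ((nat_lit 0), [nat_lit 8, nat_lit 2, nat_lit 5, nat_lit 8, nat_lit 5, nat_lit 7, nat_lit 6, nat_lit 2, nat_lit 1])))))
 (.node (nat_lit 0x6cd72849a788148) (.node (nat_lit 0x6cd7284191d4c1c) (.leaf ((nat_lit 0), [nat_lit 5, nat_lit 0, nat_lit 8, nat_lit 3, nat_lit 6, nat_lit 7, nat_lit 3, nat_lit 3])) (.leaf ((nat_lit 2), [nat_lit 8, nat_lit 0, nat_lit 7, nat_lit 8, nat_lit 6, nat_lit 5, nat_lit 0, nat_lit 7, nat_lit 3, nat_lit 4, nat_lit 6, nat_lit 5, nat_lit 2, nat_lit 2]))) (.node (nat_lit 0x6cd72851bd58ff0) (.leaf ((nat_lit 6), [nat_lit 9, nat_lit 6, nat_lit 5, nat_lit 9, nat_lit 8, nat_lit 0, nat_lit 7, nat_lit 8, nat_lit 1, nat_lit 7, nat_lit 6, nat_lit 2, nat_lit 2, nat_lit 6, nat_lit 4, nat_lit 1])) (.node (nat_lit 0x6cd7e282f38f480) (.leaf ((nat_lit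 3), [nat_lit 6, nat_lit 9, nat_lit 5, nat_lit 3, nat_lit 1, nat_lit 9, nat_lit 6, nat_lit 3, nat_lit 4, nat_lit 6, nat_lit 2, nat_lit 4, nat_lit 2, nat_lit 0])) (.leaf ((nat_lit 1), [nat_lit 6, nat_lit 9, nat_lit 5, nat_lit 3, nat_lit 1, nat_lit 9, nat_lit 2, nat_lit 6, nat_lit 8, nat_lit 7, nat_lit 5, nat_lit 7, nat_lit 4, nat_lit 6, nat_lit 5, nat_lit 4, nat_lit 2])))))))
 (.node (nat_lit 0x6ce83b09794eb54) (.node (nat_lit 0x6ce3253990470c0) (.node (nat_lit 0x6ce26ae29f36cf4) (.node (nat_lit 0x6cdc3e986871c0c) (.leaf ((nat_lit 0), [nat_lit 8, nat_lit 6, nat_lit 2, nat_lit 8, nat_lit 5, nat_lit 7, nat_lit 6, nat_lit 5, nat_lit 3, nat_lit 4, nat_lit 0])) (.leaf ((nat_lit 1), [nat_lit 6, nat_lit 9, nat_lit 2, nat_lit 1, nat_lit 9, nat_lit 4, nat_lit 8, nat_lit 2, nat_lit 1, nat_lit 8, nat_lit 4, nat_lit 3, nat_lit 3, nat_lit 6, nat_lit 5, nat_lit 2, nat_lit 2])))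 (.node (nat_lit 0x6ce26aeab507b9c) (.leaf ((nat_lit 2), [nat_lit 5, nat_lit 8, nat_lit 1, nat_lit 8, nat_lit 1, nat_lit 7, nat_lit 2, nat_lit 4, nat_lit 6, nat_lit 3, nat_lit 4, nat_lit 3])) (.node (nat_lit 0x6ce26af2cabf0c4) (.leaf ((nat_lit 6), [nat_lit 9, nat_lit 5, nat_lit 3, nat_lit 9, nat_lit 5, nat_lit 8, nat_lit 7, nat_lit 3, nat_lit 4, nat_lit 7, nat_lit 3, nat_lit 6, nat_lit 5, nat_lit 3, nat_lit 4, nat_lit 3, nat_lit 3])) (.leaf ((nat_lit 3), [nat_lit 2, nat_lit 7, nat_lit 9, nat_lit 5, nat_lit 9, nat_lit 6, nat_lit 2, nat_lit 8, nat_lit 2, nat_lit 4, nat_lit 7, nat_lit 2, nat_lit 6, nat_lit 5, nat_lit 0])))))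
 (.node (nat_lit 0x6ce4f61004a5c18) (.node (nat_lit 0x6ce3df7a95a39cc) (.leaf ((nat_lit 0), [nat_lit 1, nat_lit 7, nat_lit 8, nat_lit 1, nat_lit 7, nat_lit 3, nat_lit 3, nat_lit 3, nat_lit 6, nat_lit 5, nat_lit 3, nat_lit 4])) (.leaf ((nat_lit 3), [nat_lit 2, nat_lit 9, nat_lit 3, nat_lit 5, nat_lit 9, nat_lit 7, nat_lit 8, nat_lit 4, nat_lit 0, nat_lit 7, nat_lit 5, nat_lit 3, nat_lit 6, nat_lit 2, nat_lit 4]))) (.node (nat_lit 0x6ce5534d4647c50) (.leaf ((nat_lit 2), [nat_lit 0, nat_lit 9, nat_lit 2, nat_lit 7, nat_lit 9, nat_lit 6, nat_lit 5, nat_lit 2, nat_lit 8, nat_lit 6, nat_lit 0, nat_lit 7, nat_lit 2, nat_lit 6, nat_lit 3])) (.node (nat_lit 0x6ce7de440d5b3a0) (.leaf ((nat_lit 1), [nat_lit 2, nat_lit 2, nat_lit 9, nat_lit 1, nat_lit 9, nat_lit 8, nat_lit 5, nat_lit 7, nat_lit 8, nat_lit 7, nat_lit 5, nat_lit 0, nat_lit 7, nat_lit 3, nat_lit 4, nat_lit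 0])) (.leaf ((nat_lit 0), [nat_lit 4, nat_lit 7, nat_lit 8, nat_lit 6, nat_lit 5, nat_lit 3, nat_lit 6, nat_lit 5, nat_lit 3, nat_lit 0]))))))
 (.node (nat_lit 0x6cf4949a26a4344) (.node (nat_lit 0x6cf2c358cb8cb04) (.node (nat_lit 0x6cf095fbfb46678) (.leaf ((nat_lit 2), [nat_lit 9, nat_lit 8, nat_lit 1, nat_lit 9, nat_lit 6, nat_lit 8, nat_lit 1, nat_lit 8, nat_lit 1, nat_lit 7, nat_lit 6, nat_lit 2, nat_lit 4, nat_lit 6, nat_lit 5, nat_lit 3])) (.leaf ((nat_lit 3), [nat_lit 7, nat_lit 9, nat_lit 2, nat_lit 1, nat_lit 9, nat_lit 7, nat_lit 2, nat_lit 5, nat_lit 8, nat_lit 5, nat_lit 7, nat_lit 6, nat_lit 5, nat_lit 6, nat_lit 0]))) (.node (nat_lit 0x6cf2c360e144470) (.leaf ((nat_lit 2), [nat_lit 7, nat_lit 8, nat_lit 7, nat_lit 0, nat_lit 8, nat_lit 7, nat_lit 5, nat_lit 7, nat_lit 4, nat_lit 2, nat_lit 6, nat_lit 5, nat_lit 3, nat_lit 1])) (.node (nat_lit 0x6cf2c368f6f7de0)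 (.leaf ((nat_lit 6), [nat_lit 0, nat_lit 7, nat_lit 0, nat_lit 9, nat_lit 1, nat_lit 9, nat_lit 8, nat_lit 7, nat_lit 8, nat_lit 5, nat_lit 8, nat_lit 7, nat_lit 2, nat_lit 4, nat_lit 7, nat_lit 3, nat_lit 3, nat_lit 3, nat_lit 6])) (.leaf ((nat_lit 3), [nat_lit 2, nat_lit 2, nat_lit 9, nat_lit 1, nat_lit 9, nat_lit 8, nat_lit 7, nat_lit 1, nat_lit 8, nat_lit 6, nat_lit 0, nat_lit 7, nat_lit 2, nat_lit 2, nat_lit 1])))))
 (.node (nat_lit 0x6cf7d9d4d2f5c74) (.node (nat_lit 0x6cf608cdae1cf4c) (.leaf ((nat_lit 1), [nat_lit 7, nat_lit 9, nat_lit 2, nat_lit 1, nat_lit 9, nat_lit 5, nat_lit 8, nat_lit 1, nat_lit 8, nat_lit 6, nat_lit 7, nat_lit 4, nat_lit 6, nat_lit 1])) (.leaf ((nat_lit 1), [nat_lit 2, nat_lit 9, nat_lit 3, nat_lit 5, nat_lit 9, nat_lit 7, nat_lit 5, nat_lit 8, nat_lit 0, nat_lit 8, nat_lit 3, nat_lit 4, nat_lit 6, nat_lit 5, nat_lit 3, nat_lit 0])))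 (.node (nat_lit 0x6cf89374afeb46c) (.leaf ((nat_lit 3), [nat_lit 2, nat_lit 7, nat_lit 9, nat_lit 5, nat_lit 9, nat_lit 7, nat_lit 8, nat_lit 4, nat_lit 0, nat_lit 7, nat_lit 4, nat_lit 3, nat_lit 3, nat_lit 6, nat_lit 5, nat_lit 4, nat_lit 2, nat_lit 0])) (.node (nat_lit 0x6cffd766dc81de0) (.leaf ((nat_lit 0), [nat_lit 8, nat_lit 4, nat_lit 6, nat_lit 8, nat_lit 6, nat_lit 1, nat_lit 7, nat_lit 5, nat_lit 4, nat_lit 3])) (.leaf ((nat_lit 0), [nat_lit 5, nat_lit 1, nat_lit 8, nat_lit 5, nat_lit 7, nat_lit 2, nat_lit 6, nat_lit 3, nat_lit 4, nat_lit 0])))))))))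
 (.node (nat_lit 0x6d3df3dd8855e48) (.node (nat_lit 0x6d219ebfad48f5c) (.node (nat_lit 0x6d120049aaa0bdc) (.node (nat_lit 0x6d0432bc13cd074) (.node (nat_lit 0x6d00911c76adf18) (.node (nat_lit 0x6d0091146101a40) (.leaf ((nat_lit 6), [nat_lit 5, nat_lit 8, nat_lit 7, nat_lit 9, nat_lit 6, nat_lit 7, nat_lit 1, nat_lit 8, nat_lit 6, nat_lit 7, nat_lit 4, nat_lit 3, nat_lit 6, nat_lit 3, nat_lit 4, nat_lit 1])) (.leaf ((nat_lit 3), [nat_lit 6, nat_lit 9, nat_lit 5, nat_lit 3, nat_lit 1, nat_lit 9, nat_lit 3, nat_lit 0, nat_lit 8, nat_lit 5, nat_lit 4, nat_lit 7, nat_lit 6, nat_lit 2, nat_lit 2, nat_lit 6, nat_lit 0]))) (.node (nat_lit 0x6d0204c2f4b4a30) (.leaf ((nat_lit 2), [nat_lit 2, nat_lit 2, nat_lit 9, nat_lit 0, nat_lit 9, nat_lit 8, nat_lit 5, nat_lit 8, nat_lit 5, nat_lit 0, nat_lit 7, nat_lit 5, nat_lit 4])) (.node (nat_lit 0x6d02bf4c61d5b90) (.leaf ((nat_lit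 3), [nat_lit 6, nat_lit 9, nat_lit 2, nat_lit 1, nat_lit 9, nat_lit 2, nat_lit 6, nat_lit 1, nat_lit 8, nat_lit 6, nat_lit 5, nat_lit 3, nat_lit 4, nat_lit 3, nat_lit 1])) (.leaf ((nat_lit 2), [nat_lit 3, nat_lit 7, nat_lit 0, nat_lit 8, nat_lit 4, nat_lit 0, nat_lit 7, nat_lit 4, nat_lit 3, nat_lit 3, nat_lit 6, nat_lit 2, nat_lit 4, nat_lit 2, nat_lit 0])))))
 (.node (nat_lit 0x6d08320fe3179b4) (.node (nat_lit 0x6d0660a369929b0) (.leaf ((nat_lit 1), [nat_lit 2, nat_lit 2, nat_lit 9, nat_lit 1, nat_lit 9, nat_lit 6, nat_lit 3, nat_lit 1, nat_lit 8, nat_lit 2, nat_lit 4, nat_lit 3, nat_lit 6, nat_lit 5, nat_lit 1])) (.leaf ((nat_lit 1), [nat_lit 6, nat_lit 9, nat_lit 5, nat_lit 3, nat_lit 1, nat_lit 9, nat_lit 3, nat_lit 1, nat_lit 8, nat_lit 7, nat_lit 4, nat_lit 3, nat_lit 6, nat_lit 4, nat_lit 3]))) (.node (nat_lit 0x6d102fd4f30718c) (.leaf ((nat_lit 2), [nat_lit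 2, nat_lit 7, nat_lit 9, nat_lit 5, nat_lit 9, nat_lit 8, nat_lit 0, nat_lit 8, nat_lit 6, nat_lit 5, nat_lit 7, nat_lit 2, nat_lit 6, nat_lit 5, nat_lit 0])) (.node (nat_lit 0x6d10e9433953ce0) (.leaf ((nat_lit 2), [nat_lit 2, nat_lit 9, nat_lit 3, nat_lit 5, nat_lit 9, nat_lit 5, nat_lit 7, nat_lit 8, nat_lit 4, nat_lit 0, nat_lit 7, nat_lit 6, nat_lit 4, nat_lit 3, nat_lit 3, nat_lit 3])) (.leaf ((nat_lit 3), [nat_lit 7, nat_lit 9, nat_lit 2, nat_lit 1, nat_lit 9, nat_lit 8, nat_lit 1, nat_lit 7, nat_lit 8, nat_lit 2, nat_lit 4, nat_lit 7, nat_lit 4, nat_lit 3, nat_lit 6, nat_lit 4]))))))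
 (.node (nat_lit 0x6d1c2c2b9aa0830) (.node (nat_lit 0x6d14e8297029f08) (.node (nat_lit 0x6d13d1bbe3fe70c) (.leaf ((nat_lit 0), [nat_lit 4, nat_lit 7, nat_lit 8, nat_lit 7, nat_lit 0, nat_lit 7, nat_lit 6, nat_lit 2, nat_lit 2, nat_lit 6, nat_lit 4, nat_lit 2, nat_lit 1])) (.leaf ((nat_lit 0), [nat_lit 1, nat_lit 7, nat_lit 8, nat_lit 7, nat_lit 5, nat_lit 7, nat_lit 6, nat_lit 4, nat_lit 3, nat_lit 6]))) (.node (nat_lit 0x6d16b9134c09204) (.leaf ((nat_lit 0), [nat_lit 5, nat_lit 0, nat_lit 8, nat_lit 0, nat_lit 7, nat_lit 2, nat_lit 6, nat_lit 4, nat_lit 2, nat_lit 1])) (.node (nat_lit 0x6d1c2c25dae10d4) (.leaf ((nat_lit 0), [nat_lit 0, nat_lit 7, nat_lit 8, nat_lit 3, nat_lit 3, nat_lit 6, nat_lit 5, nat_lit 4, nat_lit 2])) (.leaf ((nat_lit 2), [nat_lit 7, nat_lit 9, nat_lit 2, nat_lit 1, nat_lit 9, nat_lit 4, nat_lit 8, nat_lit 2, nat_lit 1, nat_lit 8, nat_lit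 7, nat_lit 0, nat_lit 7, nat_lit 4, nat_lit 2, nat_lit 6, nat_lit 5])))))
 (.node (nat_lit 0x6d1d9fe24424284) (.node (nat_lit 0x6d1c2c33b06a240) (.leaf ((nat_lit 6), [nat_lit 4, nat_lit 1, nat_lit 9, nat_lit 5, nat_lit 9, nat_lit 8, nat_lit 0, nat_lit 7, nat_lit 4, nat_lit 6, nat_lit 4, nat_lit 3, nat_lit 3, nat_lit 3, nat_lit 0])) (.leaf ((nat_lit 3), [nat_lit 2, nat_lit 7, nat_lit 9, nat_lit 5, nat_lit 9, nat_lit 2, nat_lit 1, nat_lit 8, nat_lit 7, nat_lit 5, nat_lit 1, nat_lit 7, nat_lit 3, nat_lit 6, nat_lit 5]))) (.node (nat_lit 0x6d1f1455939c124) (.leaf ((nat_lit 1), [nat_lit 0, nat_lit 7, nat_lit 0, nat_lit 9, nat_lit 1, nat_lit 9, nat_lit 8, nat_lit 2, nat_lit 5, nat_lit 8, nat_lit 4, nat_lit 1, nat_lit 7, nat_lit 4, nat_lit 6, nat_lit 1])) (.node (nat_lit 0x6d202b486f8e6b4) (.leaf ((nat_lit 0), [nat_lit 8, nat_lit 7, nat_lit 8, nat_lit 5, nat_lit 8,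 nat_lit 4, nat_lit 3, nat_lit 3, nat_lit 6, nat_lit 2, nat_lit 4, nat_lit 2])) (.leaf ((nat_lit 1), [nat_lit 2, nat_lit 9, nat_lit 3, nat_lit 5, nat_lit 9, nat_lit 4, nat_lit 0, nat_lit 7, nat_lit 3, nat_lit 4, nat_lit 3, nat_lit 3, nat_lit 0])))))))
 (.node (nat_lit 0x6d2fc99d637bb00) (.node (nat_lit 0x6d242a3380367a0) (.node (nat_lit 0x6d22b5eeb9506c4) (.node (nat_lit 0x6d21fc34fd335f8) (.leaf ((nat_lit 3), [nat_lit 2, nat_lit 9, nat_lit 3, nat_lit 5, nat_lit 9, nat_lit 6, nat_lit 1, nat_lit 8, nat_lit 3, nat_lit 4, nat_lit 3, nat_lit 1])) (.leaf ((nat_lit 1), [nat_lit 7, nat_lit 9, nat_lit 2, nat_lit 1, nat_lit 9, nat_lit 5, nat_lit 1, nat_lit 8, nat_lit 6, nat_lit 5, nat_lit 7, nat_lit 5, nat_lit 6, nat_lit 3, nat_lit 3, nat_lit 3]))) (.node (nat_lit 0x6d22b5f4792cf14) (.leaf ((nat_lit 3), [nat_lit 2, nat_lit 2, nat_lit 9, nat_lit 1, nat_lit 9, nat_lit 7,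 nat_lit 8, nat_lit 7, nat_lit 0, nat_lit 8, nat_lit 6, nat_lit 0, nat_lit 7, nat_lit 3, nat_lit 6, nat_lit 5, nat_lit 2, nat_lit 0])) (.node (nat_lit 0x6d22b5fc8ef2d6c) (.leaf ((nat_lit 2), [nat_lit 7, nat_lit 9, nat_lit 2, nat_lit 1, nat_lit 9, nat_lit 5, nat_lit 8, nat_lit 0, nat_lit 8, nat_lit 4, nat_lit 2, nat_lit 6, nat_lit 3])) (.leaf ((nat_lit 6), [nat_lit 8, nat_lit 3, nat_lit 9, nat_lit 8, nat_lit 5, nat_lit 8, nat_lit 5, nat_lit 7, nat_lit 5, nat_lit 0, nat_lit 7, nat_lit 2, nat_lit 6, nat_lit 3, nat_lit 3, nat_lit 3])))))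
 (.node (nat_lit 0x6d2ce2154ae1620) (.node (nat_lit 0x6d2b110c87fc0b8) (.leaf ((nat_lit 1), [nat_lit 2, nat_lit 7, nat_lit 9, nat_lit 5, nat_lit 9, nat_lit 3, nat_lit 3, nat_lit 8, nat_lit 6, nat_lit 7, nat_lit 3, nat_lit 6, nat_lit 3])) (.leaf ((nat_lit 2), [nat_lit 3, nat_lit 9, nat_lit 5, nat_lit 3, nat_lit 9, nat_lit 3, nat_lit 1, nat_lit 8, nat_lit 6, nat_lit 5, nat_lit 7, nat_lit 4, nat_lit 2, nat_lit 6, nat_lit 5]))) (.node (nat_lit 0x6d2eb2752b23804) (.leaf ((nat_lit 2), [nat_lit 8, nat_lit 5, nat_lit 8, nat_lit 5, nat_lit 1, nat_lit 7, nat_lit 2, nat_lit 4, nat_lit 6, nat_lit 5, nat_lit 2, nat_lit 4, nat_lit 3])) (.node (nat_lit 0x6d2fc9954db5f80) (.leaf ((nat_lit 1), [nat_lit 6, nat_lit 9, nat_lit 2, nat_lit 1, nat_lit 9, nat_lit 8, nat_lit 7, nat_lit 1, nat_lit 8, nat_lit 7, nat_lit 1, nat_lit 7, nat_lit 2, nat_lit 4, nat_lit 6, nat_lit 2])) (.leaf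 ((nat_lit 3), [nat_lit 6, nat_lit 9, nat_lit 2, nat_lit 1, nat_lit 9, nat_lit 2, nat_lit 8, nat_lit 5, nat_lit 7, nat_lit 3, nat_lit 3, nat_lit 6, nat_lit 5, nat_lit 3, nat_lit 3, nat_lit 0]))))))
 (.node (nat_lit 0x6d3aaf2043e38f0) (.node (nat_lit 0x6d30e0e4546c0a0) (.node (nat_lit 0x6d2fc9a57928144) (.leaf ((nat_lit 6), [nat_lit 9, nat_lit 3, nat_lit 9, nat_lit 3, nat_lit 8, nat_lit 4, nat_lit 1, nat_lit 7, nat_lit 6, nat_lit 2, nat_lit 2, nat_lit 6, nat_lit 4, nat_lit 2, nat_lit 1])) (.leaf ((nat_lit 2), [nat_lit 1, nat_lit 9, nat_lit 5, nat_lit 9, nat_lit 7, nat_lit 8, nat_lit 5, nat_lit 8, nat_lit 4, nat_lit 7, nat_lit 4, nat_lit 2, nat_lit 6, nat_lit 5, nat_lit 1]))) (.node (nat_lit 0x6d319a69c804508) (.leaf ((nat_lit 1), [nat_lit 0, nat_lit 7, nat_lit 0, nat_lit 9, nat_lit 1, nat_lit 9, nat_lit 7, nat_lit 8, nat_lit 4, nat_lit 3, nat_lit 6, nat_lit 5,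 nat_lit 2, nat_lit 2])) (.node (nat_lit 0x6d33c84e99de530) (.leaf ((nat_lit 1), [nat_lit 2, nat_lit 2, nat_lit 9, nat_lit 0, nat_lit 9, nat_lit 8, nat_lit 6, nat_lit 1, nat_lit 7, nat_lit 6, nat_lit 4, nat_lit 2, nat_lit 6, nat_lit 5, nat_lit 4, nat_lit 1])) (.leaf ((nat_lit 0), [nat_lit 8, nat_lit 4, nat_lit 6, nat_lit 8, nat_lit 7, nat_lit 4, nat_lit 3, nat_lit 3, nat_lit 6, nat_lit 2, nat_lit 4, nat_lit 1])))))
 (.node (nat_lit 0x6d3b693b60ccaac) (.node (nat_lit 0x6d3b69334b02f30) (.leaf ((nat_lit 3), [nat_lit 0, nat_lit 7, nat_lit 0, nat_lit 9, nat_lit 1, nat_lit 9, nat_lit 3, nat_lit 6, nat_lit 8, nat_lit 7, nat_lit 3, nat_lit 6, nat_lit 3, nat_lit 4, nat_lit 3])) (.leaf ((nat_lit 3), [nat_lit 7, nat_lit 9, nat_lit 2, nat_lit 1, nat_lit 9, nat_lit 7, nat_lit 0, nat_lit 8, nat_lit 6, nat_lit 0, nat_lit 7, nat_lit 4, nat_lit 2, nat_lit 0]))) (.node (nat_lit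 0x6d3b6943769262c) (.leaf ((nat_lit 6), [nat_lit 7, nat_lit 4, nat_lit 2, nat_lit 9, nat_lit 3, nat_lit 5, nat_lit 8, nat_lit 3, nat_lit 4, nat_lit 7, nat_lit 3, nat_lit 3, nat_lit 6, nat_lit 5, nat_lit 2, nat_lit 4, nat_lit 3])) (.node (nat_lit 0x6d3d3a861350d0c) (.leaf ((nat_lit 2), [nat_lit 7, nat_lit 5, nat_lit 6, nat_lit 8, nat_lit 7, nat_lit 0, nat_lit 7, nat_lit 4, nat_lit 6, nat_lit 4, nat_lit 2, nat_lit 2, nat_lit 1])) (.leaf ((nat_lit 1), [nat_lit 2, nat_lit 9, nat_lit 3, nat_lit 5, nat_lit 9, nat_lit 5, nat_lit 8, nat_lit 0, nat_lit 8, nat_lit 4, nat_lit 0, nat_lit 7, nat_lit 2, nat_lit 2, nat_lit 1]))))))))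
 (.node (nat_lit 0x6d5d30ddad07ab0) (.node (nat_lit 0x6d4c7bed0087b90) (.node (nat_lit 0x6d499381737e074) (.node (nat_lit 0x6d3f686fecdd6f8) (.node (nat_lit 0x6d3f0ad5c81cbc4) (.leaf ((nat_lit 3), [nat_lit 2, nat_lit 2, nat_lit 9, nat_lit 0, nat_lit 9, nat_lit 6, nat_lit 7, nat_lit 6, nat_lit 5, nat_lit 3, nat_lit 6, nat_lit 2, nat_lit 2])) (.leaf ((nat_lit 3), [nat_lit 6, nat_lit 9, nat_lit 5, nat_lit 3, nat_lit 1, nat_lit 9, nat_lit 7, nat_lit 0, nat_lit 8, nat_lit 6, nat_lit 1, nat_lit 7, nat_lit 3, nat_lit 6, nat_lit 5, nat_lit 2, nat_lit 2, nat_lit 1]))) (.node (nat_lit 0x6d41394d071caf4) (.leaf ((nat_lit 0), [nat_lit 3, nat_lit 3, nat_lit 8, nat_lit 3, nat_lit 6, nat_lit 7, nat_lit 3, nat_lit 6, nat_lit 4, nat_lit 3, nat_lit 0])) (.node (nat_lit 0x6d48da1b9eecef4) (.leaf ((nat_lit 2), [nat_lit 8, nat_lit 6, nat_lit 9, nat_lit 5, nat_lit 9, nat_lit 7, nat_lit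 5, nat_lit 1, nat_lit 8, nat_lit 4, nat_lit 7, nat_lit 2, nat_lit 6, nat_lit 5, nat_lit 4, nat_lit 2, nat_lit 1])) (.leaf ((nat_lit 0), [nat_lit 0, nat_lit 7, nat_lit 8, nat_lit 5, nat_lit 4, nat_lit 7, nat_lit 5, nat_lit 3])))))
 (.node (nat_lit 0x6d4bc1a97758bd4) (.node (nat_lit 0x6d4b078e886755c) (.leaf ((nat_lit 0), [nat_lit 5, nat_lit 6, nat_lit 8, nat_lit 4, nat_lit 7, nat_lit 6, nat_lit 5, nat_lit 3, nat_lit 6, nat_lit 5])) (.leaf ((nat_lit 0), [nat_lit 5, nat_lit 7, nat_lit 8, nat_lit 5, nat_lit 6, nat_lit 7, nat_lit 4, nat_lit 3, nat_lit 3, nat_lit 6, nat_lit 5]))) (.node (nat_lit 0x6d4bc1b18d05218) (.leaf ((nat_lit 3), [nat_lit 2, nat_lit 9, nat_lit 3, nat_lit 5, nat_lit 9, nat_lit 5, nat_lit 8, nat_lit 7, nat_lit 0, nat_lit 7, nat_lit 2, nat_lit 4, nat_lit 6, nat_lit 5, nat_lit 1])) (.node (nat_lit 0x6d4bc1b9a2ced94) (.leaf ((nat_lit 6), [nat_lit 2,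 nat_lit 9, nat_lit 3, nat_lit 5, nat_lit 9, nat_lit 7, nat_lit 8, nat_lit 7, nat_lit 0, nat_lit 8, nat_lit 0, nat_lit 7, nat_lit 2, nat_lit 6, nat_lit 4, nat_lit 3, nat_lit 3])) (.leaf ((nat_lit 2), [nat_lit 2, nat_lit 2, nat_lit 9, nat_lit 0, nat_lit 9, nat_lit 7, nat_lit 5, nat_lit 6, nat_lit 8, nat_lit 4, nat_lit 0, nat_lit 7, nat_lit 3, nat_lit 3, nat_lit 6, nat_lit 5, nat_lit 2, nat_lit 4, nat_lit 1]))))))
 (.node (nat_lit 0x6d57be5aabe0314) (.node (nat_lit 0x6d4fc0e0874e690) (.node (nat_lit 0x6d4f636e174c91c) (.leaf ((nat_lit 0), [nat_lit 3, nat_lit 6, nat_lit 8, nat_lit 4, nat_lit 7, nat_lit 3, nat_lit 3, nat_lit 6, nat_lit 5, nat_lit 3, nat_lit 4, nat_lit 3, nat_lit 0])) (.leaf ((nat_lit 1), [nat_lit 2, nat_lit 9, nat_lit 3, nat_lit 5, nat_lit 9, nat_lit 6, nat_lit 0, nat_lit 8, nat_lit 3, nat_lit 4, nat_lit 7, nat_lit 5, nat_lit 6, nat_lit 2, nat_lit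 2, nat_lit 0]))) (.node (nat_lit 0x6d5191cb491f38c) (.leaf ((nat_lit 1), [nat_lit 2, nat_lit 2, nat_lit 9, nat_lit 1, nat_lit 9, nat_lit 2, nat_lit 6, nat_lit 1, nat_lit 8, nat_lit 6, nat_lit 7, nat_lit 6, nat_lit 3, nat_lit 3, nat_lit 6, nat_lit 5, nat_lit 1])) (.node (nat_lit 0x6d576109a67d55c) (.leaf ((nat_lit 0), [nat_lit 3, nat_lit 5, nat_lit 8, nat_lit 7, nat_lit 2, nat_lit 2, nat_lit 6, nat_lit 4, nat_lit 1])) (.leaf ((nat_lit 0), [nat_lit 2, nat_lit 6, nat_lit 1, nat_lit 8, nat_lit 3, nat_lit 6, nat_lit 7, nat_lit 3, nat_lit 4, nat_lit 6, nat_lit 5, nat_lit 3])))))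
 (.node (nat_lit 0x6d57be685366d30) (.node (nat_lit 0x6d57be62c1a6000) (.leaf ((nat_lit 2), [nat_lit 7, nat_lit 5, nat_lit 8, nat_lit 0, nat_lit 8, nat_lit 5, nat_lit 1, nat_lit 7, nat_lit 3, nat_lit 3, nat_lit 3, nat_lit 6])) (.leaf ((nat_lit 2), [nat_lit 0, nat_lit 7, nat_lit 0, nat_lit 9, nat_lit 1, nat_lit 9, nat_lit 3, nat_lit 0, nat_lit 8, nat_lit 0, nat_lit 7, nat_lit 3, nat_lit 6, nat_lit 5, nat_lit 4, nat_lit 2, nat_lit 2]))) (.node (nat_lit 0x6d5aa6924c62624) (.leaf ((nat_lit 2), [nat_lit 1, nat_lit 9, nat_lit 5, nat_lit 9, nat_lit 8, nat_lit 1, nat_lit 8, nat_lit 7, nat_lit 5, nat_lit 3, nat_lit 6, nat_lit 5, nat_lit 3, nat_lit 3])) (.node (nat_lit 0x6d5bbd766ccbfa0) (.leaf ((nat_lit 2), [nat_lit 3, nat_lit 8, nat_lit 7, nat_lit 1, nat_lit 8, nat_lit 6, nat_lit 5, nat_lit 0, nat_lit 7, nat_lit 3, nat_lit 3, nat_lit 3, nat_lit 6, nat_lit 0])) (.leaf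 ((nat_lit 1), [nat_lit 9, nat_lit 7, nat_lit 5, nat_lit 0, nat_lit 9, nat_lit 1, nat_lit 8, nat_lit 6, nat_lit 7, nat_lit 4, nat_lit 6, nat_lit 5, nat_lit 2])))))))
 (.node (nat_lit 0x6d6ea0d4a488360) (.node (nat_lit 0x6d67b98d7a52784) (.node (nat_lit 0x6d6018cba4173a0) (.node (nat_lit 0x6d5d8e5410f4bcc) (.leaf ((nat_lit 3), [nat_lit 9, nat_lit 7, nat_lit 5, nat_lit 0, nat_lit 9, nat_lit 8, nat_lit 5, nat_lit 0, nat_lit 8, nat_lit 4, nat_lit 2, nat_lit 6, nat_lit 3, nat_lit 1])) (.leaf ((nat_lit 0), [nat_lit 6, nat_lit 2, nat_lit 8, nat_lit 5, nat_lit 7, nat_lit 5, nat_lit 7, nat_lit 6, nat_lit 3, nat_lit 3, nat_lit 6, nat_lit 5, nat_lit 4, nat_lit 1]))) (.node (nat_lit 0x6d65e8a0be91bb4) (.leaf ((nat_lit 1), [nat_lit 7, nat_lit 9, nat_lit 2, nat_lit 1, nat_lit 9, nat_lit 8, nat_lit 5, nat_lit 1, nat_lit 7, nat_lit 6, nat_lit 2, nat_lit 2, nat_lit 6, nat_lit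 2, nat_lit 4, nat_lit 2])) (.node (nat_lit 0x6d67000f647ab4c) (.leaf ((nat_lit 3), [nat_lit 2, nat_lit 2, nat_lit 9, nat_lit 1, nat_lit 9, nat_lit 6, nat_lit 0, nat_lit 8, nat_lit 7, nat_lit 2, nat_lit 4, nat_lit 7, nat_lit 3, nat_lit 0])) (.leaf ((nat_lit 0), [nat_lit 7, nat_lit 8, nat_lit 7, nat_lit 1, nat_lit 8, nat_lit 1, nat_lit 7, nat_lit 5, nat_lit 2, nat_lit 4, nat_lit 1])))))
 (.node (nat_lit 0x6d6873d5ddcd640) (.node (nat_lit 0x6d6873cdc803958) (.leaf ((nat_lit 1), [nat_lit 6, nat_lit 9, nat_lit 2, nat_lit 1, nat_lit 9, nat_lit 2, nat_lit 2, nat_lit 8, nat_lit 2, nat_lit 4, nat_lit 7, nat_lit 3, nat_lit 3, nat_lit 6, nat_lit 4, nat_lit 0])) (.leaf ((nat_lit 3), [nat_lit 2, nat_lit 2, nat_lit 9, nat_lit 0, nat_lit 9, nat_lit 5, nat_lit 8, nat_lit 5, nat_lit 7, nat_lit 5, nat_lit 7, nat_lit 2, nat_lit 4, nat_lit 3, nat_lit 6, nat_lit 2, nat_lit 1])))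 (.node (nat_lit 0x6d6873db6fa78ac) (.leaf ((nat_lit 3), [nat_lit 0, nat_lit 7, nat_lit 0, nat_lit 9, nat_lit 1, nat_lit 9, nat_lit 4, nat_lit 8, nat_lit 6, nat_lit 3, nat_lit 8, nat_lit 3, nat_lit 4, nat_lit 6, nat_lit 5, nat_lit 4, nat_lit 0])) (.node (nat_lit 0x6d6de661acad7c4) (.leaf ((nat_lit 3), [nat_lit 9, nat_lit 7, nat_lit 5, nat_lit 0, nat_lit 9, nat_lit 0, nat_lit 8, nat_lit 7, nat_lit 1, nat_lit 8, nat_lit 5, nat_lit 7, nat_lit 4, nat_lit 3, nat_lit 6, nat_lit 3, nat_lit 3, nat_lit 1])) (.leaf ((nat_lit 1), [nat_lit 2, nat_lit 9, nat_lit 3, nat_lit 5, nat_lit 9, nat_lit 8, nat_lit 6, nat_lit 2, nat_lit 8, nat_lit 7, nat_lit 1, nat_lit 7, nat_lit 6, nat_lit 5, nat_lit 6, nat_lit 3, nat_lit 1]))))))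
 (.node (nat_lit 0x6d7812522a30884) (.node (nat_lit 0x6d77587d7affab4) (.node (nat_lit 0x6d769e1bf07eee0) (.leaf ((nat_lit 1), [nat_lit 6, nat_lit 9, nat_lit 2, nat_lit 1, nat_lit 9, nat_lit 2, nat_lit 1, nat_lit 8, nat_lit 2, nat_lit 4, nat_lit 7, nat_lit 3, nat_lit 4, nat_lit 6, nat_lit 5])) (.leaf ((nat_lit 0), [nat_lit 7, nat_lit 5, nat_lit 8, nat_lit 0, nat_lit 8, nat_lit 1, nat_lit 7, nat_lit 5, nat_lit 3, nat_lit 6]))) (.node (nat_lit 0x6d77b4fea0ecf30) (.leaf ((nat_lit 2), [nat_lit 8, nat_lit 6, nat_lit 3, nat_lit 8, nat_lit 7, nat_lit 5, nat_lit 6, nat_lit 7, nat_lit 2, nat_lit 4, nat_lit 6, nat_lit 4, nat_lit 2, nat_lit 2, nat_lit 1])) (.node (nat_lit 0x6d78124a14840d4) (.leaf ((nat_lit 3), [nat_lit 2, nat_lit 7, nat_lit 9, nat_lit 5, nat_lit 9, nat_lit 6, nat_lit 5, nat_lit 8, nat_lit 0, nat_lit 8, nat_lit 5, nat_lit 7, nat_lit 3])) (.leaf ((nat_lit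 6), [nat_lit 9, nat_lit 5, nat_lit 3, nat_lit 9, nat_lit 5, nat_lit 8, nat_lit 2, nat_lit 1, nat_lit 8, nat_lit 5, nat_lit 4, nat_lit 7, nat_lit 3, nat_lit 3, nat_lit 3, nat_lit 0])))))
 (.node (nat_lit 0x6d798690794acf4) (.node (nat_lit 0x6d781257bc0eaec) (.leaf ((nat_lit 6), [nat_lit 3, nat_lit 1, nat_lit 9, nat_lit 8, nat_lit 1, nat_lit 8, nat_lit 7, nat_lit 0, nat_lit 7, nat_lit 6, nat_lit 5, nat_lit 3, nat_lit 4])) (.leaf ((nat_lit 6), [nat_lit 6, nat_lit 9, nat_lit 2, nat_lit 1, nat_lit 9, nat_lit 7, nat_lit 8, nat_lit 6, nat_lit 5, nat_lit 6, nat_lit 7, nat_lit 3, nat_lit 6, nat_lit 4, nat_lit 2, nat_lit 2]))) (.node (nat_lit 0x6d7c6e509fd4064) (.leaf ((nat_lit 2), [nat_lit 3, nat_lit 6, nat_lit 2, nat_lit 1, nat_lit 8, nat_lit 6, nat_lit 1, nat_lit 7, nat_lit 6, nat_lit 3, nat_lit 3, nat_lit 6, nat_lit 5, nat_lit 3])) (.node (nat_lit 0x6d7de1cfc560c1c)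 (.leaf ((nat_lit 1), [nat_lit 2, nat_lit 2, nat_lit 9, nat_lit 0, nat_lit 9, nat_lit 2, nat_lit 6, nat_lit 8, nat_lit 6, nat_lit 4, nat_lit 3, nat_lit 3, nat_lit 3, nat_lit 0])) (.leaf ((nat_lit 0), [nat_lit 4, nat_lit 0, nat_lit 7, nat_lit 6, nat_lit 3, nat_lit 4, nat_lit 6, nat_lit 5, nat_lit 2, nat_lit 4, nat_lit 3]))))))))))
 (.node (nat_lit 0x6e01fa94a58de58) (.node (nat_lit 0x6dc3dd7ad6ef704) (.node (nat_lit 0x6da272ecd5882b8) (.node (nat_lit 0x6d92d480b4970cc) (.node (nat_lit 0x6d8905471564374) (.node (nat_lit 0x6d850679a9c531c) (.node (nat_lit 0x6d844cc18bfc498) (.leaf ((nat_lit 0), [nat_lit 0, nat_lit 9, nat_lit 0, nat_lit 9, nat_lit 3, nat_lit 5, nat_lit 6, nat_lit 8, nat_lit 5, nat_lit 0, nat_lit 7, nat_lit 4, nat_lit 6, nat_lit 4, nat_lit 3, nat_lit 3])) (.leaf ((nat_lit 0), [nat_lit 9, nat_lit 0, nat_lit 7, nat_lit 2, nat_lit 9, nat_lit 4, nat_lit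 6, nat_lit 8, nat_lit 0, nat_lit 7, nat_lit 6, nat_lit 5, nat_lit 6, nat_lit 4, nat_lit 3, nat_lit 1]))) (.node (nat_lit 0x6d8563b7d1c0fc4) (.leaf ((nat_lit 0), [nat_lit 0, nat_lit 9, nat_lit 5, nat_lit 3, nat_lit 9, nat_lit 7, nat_lit 2, nat_lit 1, nat_lit 8, nat_lit 2, nat_lit 4, nat_lit 7, nat_lit 3, nat_lit 4, nat_lit 6, nat_lit 4, nat_lit 3])) (.node (nat_lit 0x6d8734e9010c5e4) (.leaf ((nat_lit 0), [nat_lit 0, nat_lit 9, nat_lit 0, nat_lit 9, nat_lit 7, nat_lit 1, nat_lit 7, nat_lit 8, nat_lit 4, nat_lit 0, nat_lit 7, nat_lit 2])) (.leaf ((nat_lit 0), [nat_lit 0, nat_lit 7, nat_lit 0, nat_lit 9, nat_lit 1, nat_lit 9, nat_lit 2, nat_lit 7, nat_lit 8, nat_lit 6, nat_lit 3, nat_lit 3, nat_lit 6, nat_lit 4, nat_lit 2])))))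
 (.node (nat_lit 0x6d8a1c4d86a5f48) (.node (nat_lit 0x6d89bf814751aac) (.leaf ((nat_lit 0), [nat_lit 5, nat_lit 9, nat_lit 6, nat_lit 0, nat_lit 9, nat_lit 1, nat_lit 8, nat_lit 5, nat_lit 4, nat_lit 7, nat_lit 2, nat_lit 4, nat_lit 3, nat_lit 6, nat_lit 5, nat_lit 2, nat_lit 0])) (.leaf ((nat_lit 0), [nat_lit 6, nat_lit 9, nat_lit 2, nat_lit 1, nat_lit 9, nat_lit 8, nat_lit 6, nat_lit 2, nat_lit 8, nat_lit 4, nat_lit 7, nat_lit 4, nat_lit 2, nat_lit 6, nat_lit 4, nat_lit 2, nat_lit 0]))) (.node (nat_lit 0x6d8bedb1bc74ff8) (.leaf ((nat_lit 3), [nat_lit 3, nat_lit 7, nat_lit 8, nat_lit 4, nat_lit 1, nat_lit 7, nat_lit 5, nat_lit 3, nat_lit 6, nat_lit 5, nat_lit 2])) (.node (nat_lit 0x6d91bd07ff11ef4) (.leaf ((nat_lit 0), [nat_lit 9, nat_lit 8, nat_lit 2, nat_lit 1, nat_lit 9, nat_lit 4, nat_lit 0, nat_lit 7, nat_lit 8, nat_lit 3, nat_lit 6, nat_lit 1, nat_lit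 7, nat_lit 4, nat_lit 6, nat_lit 3, nat_lit 0])) (.leaf ((nat_lit 0), [nat_lit 5, nat_lit 9, nat_lit 6, nat_lit 0, nat_lit 9, nat_lit 5, nat_lit 8, nat_lit 5, nat_lit 0, nat_lit 7, nat_lit 4, nat_lit 2, nat_lit 2]))))))
 (.node (nat_lit 0x6d98a3bb1e15388) (.node (nat_lit 0x6d95bbe45438148) (.node (nat_lit 0x6d93eb1e9567784) (.leaf ((nat_lit 0), [nat_lit 9, nat_lit 0, nat_lit 7, nat_lit 2, nat_lit 9, nat_lit 7, nat_lit 5, nat_lit 8, nat_lit 6, nat_lit 1, nat_lit 7, nat_lit 5, nat_lit 6, nat_lit 2, nat_lit 4, nat_lit 3, nat_lit 0])) (.leaf ((nat_lit 0), [nat_lit 2, nat_lit 7, nat_lit 9, nat_lit 5, nat_lit 9, nat_lit 0, nat_lit 8, nat_lit 7, nat_lit 6, nat_lit 2, nat_lit 4, nat_lit 6, nat_lit 5, nat_lit 4, nat_lit 3, nat_lit 3, nat_lit 0]))) (.node (nat_lit 0x6d96761f6c1e5ac) (.leaf ((nat_lit 0), [nat_lit 5, nat_lit 9, nat_lit 6, nat_lit 0, nat_lit 9, nat_lit 8,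 nat_lit 1, nat_lit 8, nat_lit 5, nat_lit 3, nat_lit 6, nat_lit 3, nat_lit 4, nat_lit 0])) (.node (nat_lit 0x6d97ea451df4b0c) (.leaf ((nat_lit 0), [nat_lit 9, nat_lit 0, nat_lit 7, nat_lit 2, nat_lit 9, nat_lit 6, nat_lit 3, nat_lit 1, nat_lit 8, nat_lit 7, nat_lit 5, nat_lit 7, nat_lit 5, nat_lit 6, nat_lit 3, nat_lit 0])) (.leaf ((nat_lit 0), [nat_lit 0, nat_lit 7, nat_lit 0, nat_lit 9, nat_lit 1, nat_lit 9, nat_lit 4, nat_lit 7, nat_lit 8, nat_lit 7, nat_lit 2, nat_lit 4])))))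
 (.node (nat_lit 0x6d9ad1eb659b0c4) (.node (nat_lit 0x6d990159eec2724) (.leaf ((nat_lit 0), [nat_lit 5, nat_lit 9, nat_lit 6, nat_lit 0, nat_lit 9, nat_lit 7, nat_lit 0, nat_lit 8, nat_lit 6, nat_lit 5, nat_lit 7, nat_lit 6, nat_lit 5, nat_lit 3, nat_lit 4, nat_lit 3, nat_lit 3])) (.leaf ((nat_lit 0), [nat_lit 9, nat_lit 0, nat_lit 7, nat_lit 2, nat_lit 9, nat_lit 3, nat_lit 3, nat_lit 8, nat_lit 5, nat_lit 7, nat_lit 5, nat_lit 0, nat_lit 7, nat_lit 3, nat_lit 4]))) (.node (nat_lit 0x6da044dd6f598d8) (.leaf ((nat_lit 0), [nat_lit 0, nat_lit 9, nat_lit 5, nat_lit 3, nat_lit 1, nat_lit 9, nat_lit 0, nat_lit 8, nat_lit 2, nat_lit 4, nat_lit 7, nat_lit 6, nat_lit 5])) (.node (nat_lit 0x6da1b88f10fb0b4) (.leaf ((nat_lit 0), [nat_lit 6, nat_lit 9, nat_lit 2, nat_lit 1, nat_lit 9, nat_lit 7, nat_lit 3, nat_lit 4, nat_lit 7, nat_lit 2, nat_lit 4, nat_lit 6, nat_lit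 4, nat_lit 3, nat_lit 3])) (.leaf ((nat_lit 2), [nat_lit 9, nat_lit 2, nat_lit 9, nat_lit 3, nat_lit 9, nat_lit 0, nat_lit 8, nat_lit 6, nat_lit 5, nat_lit 0, nat_lit 7, nat_lit 4, nat_lit 2, nat_lit 2, nat_lit 6, nat_lit 5, nat_lit 3, nat_lit 3])))))))
 (.node (nat_lit 0x6db3281f7201204) (.node (nat_lit 0x6da8fc2b008bbdc) (.node (nat_lit 0x6da4439add79a2c) (.node (nat_lit 0x6da32c8274a8c5c) (.leaf ((nat_lit 0), [nat_lit 0, nat_lit 9, nat_lit 1, nat_lit 9, nat_lit 5, nat_lit 0, nat_lit 7, nat_lit 8, nat_lit 4, nat_lit 0, nat_lit 7, nat_lit 6, nat_lit 5, nat_lit 6])) (.leaf ((nat_lit 0), [nat_lit 9, nat_lit 2, nat_lit 9, nat_lit 3, nat_lit 9, nat_lit 8, nat_lit 5, nat_lit 8, nat_lit 5, nat_lit 4, nat_lit 7, nat_lit 5, nat_lit 3, nat_lit 4]))) (.node (nat_lit 0x6da67181a931718) (.leaf ((nat_lit 0), [nat_lit 0, nat_lit 9, nat_lit 1, nat_lit 9, nat_lit 8, nat_lit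 2, nat_lit 6, nat_lit 8, nat_lit 3, nat_lit 3, nat_lit 1])) (.node (nat_lit 0x6da72bbc36bb364) (.leaf ((nat_lit 0), [nat_lit 0, nat_lit 9, nat_lit 1, nat_lit 9, nat_lit 8, nat_lit 1, nat_lit 8, nat_lit 2, nat_lit 4, nat_lit 6, nat_lit 2, nat_lit 4, nat_lit 2, nat_lit 0])) (.leaf ((nat_lit 0), [nat_lit 0, nat_lit 9, nat_lit 0, nat_lit 9, nat_lit 6, nat_lit 7, nat_lit 1, nat_lit 8, nat_lit 2, nat_lit 4, nat_lit 7, nat_lit 2, nat_lit 2, nat_lit 6, nat_lit 5, nat_lit 3, nat_lit 3])))))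
 (.node (nat_lit 0x6db0407a9a4f524) (.node (nat_lit 0x6da959c273748b8) (.leaf ((nat_lit 5), [nat_lit 9, nat_lit 0, nat_lit 7, nat_lit 2, nat_lit 9, nat_lit 8, nat_lit 1, nat_lit 8, nat_lit 4, nat_lit 7, nat_lit 4, nat_lit 6, nat_lit 2, nat_lit 4, nat_lit 1])) (.leaf ((nat_lit 0), [nat_lit 2, nat_lit 7, nat_lit 9, nat_lit 5, nat_lit 9, nat_lit 8, nat_lit 1, nat_lit 8, nat_lit 1, nat_lit 7, nat_lit 6, nat_lit 3, nat_lit 4, nat_lit 6, nat_lit 4, nat_lit 2, nat_lit 2]))) (.node (nat_lit 0x6db1b42c0e53218) (.leaf ((nat_lit 0), [nat_lit 2, nat_lit 9, nat_lit 8, nat_lit 1, nat_lit 9, nat_lit 2, nat_lit 7, nat_lit 8, nat_lit 5, nat_lit 4, nat_lit 7, nat_lit 6, nat_lit 5, nat_lit 2, nat_lit 4, nat_lit 2, nat_lit 1])) (.node (nat_lit 0x6db21101d35a39c) (.leaf ((nat_lit 3), [nat_lit 4, nat_lit 8, nat_lit 0, nat_lit 8, nat_lit 4, nat_lit 7, nat_lit 2, nat_lit 1])) (.leaf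 ((nat_lit 0), [nat_lit 2, nat_lit 9, nat_lit 8, nat_lit 1, nat_lit 9, nat_lit 7, nat_lit 8, nat_lit 1, nat_lit 8, nat_lit 5, nat_lit 6, nat_lit 7, nat_lit 2, nat_lit 2]))))))
 (.node (nat_lit 0x6dbec78954de188) (.node (nat_lit 0x6db5b335a9ca64c) (.node (nat_lit 0x6db4f940ffcad78) (.leaf ((nat_lit 0), [nat_lit 9, nat_lit 2, nat_lit 9, nat_lit 3, nat_lit 9, nat_lit 7, nat_lit 1, nat_lit 8, nat_lit 5, nat_lit 7, nat_lit 5, nat_lit 1, nat_lit 7, nat_lit 2, nat_lit 6, nat_lit 3, nat_lit 1])) (.leaf ((nat_lit 3), [nat_lit 7, nat_lit 8, nat_lit 4, nat_lit 0, nat_lit 7, nat_lit 3, nat_lit 3, nat_lit 3, nat_lit 6, nat_lit 3, nat_lit 3, nat_lit 0]))) (.node (nat_lit 0x6db783a8677b4f4) (.leaf ((nat_lit 0), [nat_lit 9, nat_lit 2, nat_lit 9, nat_lit 3, nat_lit 9, nat_lit 6, nat_lit 3, nat_lit 1, nat_lit 8, nat_lit 5, nat_lit 7, nat_lit 6, nat_lit 5, nat_lit 6, nat_lit 4,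 nat_lit 2, nat_lit 1])) (.node (nat_lit 0x6db7e0e7ff6b1ec) (.leaf ((nat_lit 0), [nat_lit 0, nat_lit 9, nat_lit 1, nat_lit 9, nat_lit 3, nat_lit 0, nat_lit 8, nat_lit 5, nat_lit 6, nat_lit 7, nat_lit 5, nat_lit 4, nat_lit 3, nat_lit 3, nat_lit 3, nat_lit 1])) (.leaf ((nat_lit 0), [nat_lit 0, nat_lit 9, nat_lit 1, nat_lit 9, nat_lit 3, nat_lit 0, nat_lit 8, nat_lit 4, nat_lit 1, nat_lit 7, nat_lit 3, nat_lit 3, nat_lit 3, nat_lit 6, nat_lit 5, nat_lit 0])))))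
 (.node (nat_lit 0x6dc0f5e572c07cc) (.node (nat_lit 0x6dbf81b1615e66c) (.leaf ((nat_lit 0), [nat_lit 6, nat_lit 9, nat_lit 2, nat_lit 1, nat_lit 9, nat_lit 6, nat_lit 7, nat_lit 2, nat_lit 1, nat_lit 8, nat_lit 6, nat_lit 0, nat_lit 7, nat_lit 6, nat_lit 4, nat_lit 2, nat_lit 2, nat_lit 1])) (.leaf ((nat_lit 5), [nat_lit 9, nat_lit 2, nat_lit 9, nat_lit 3, nat_lit 9, nat_lit 8, nat_lit 2, nat_lit 6, nat_lit 8, nat_lit 3, nat_lit 6, nat_lit 4, nat_lit 2, nat_lit 2, nat_lit 1]))) (.node (nat_lit 0x6dc152b3da64784) (.leaf ((nat_lit 0), [nat_lit 9, nat_lit 0, nat_lit 7, nat_lit 2, nat_lit 9, nat_lit 5, nat_lit 2, nat_lit 8, nat_lit 4, nat_lit 1, nat_lit 7, nat_lit 4, nat_lit 3])) (.node (nat_lit 0x6dc20cdbe683bb8) (.leaf ((nat_lit 0), [nat_lit 9, nat_lit 2, nat_lit 9, nat_lit 3, nat_lit 9, nat_lit 8, nat_lit 7, nat_lit 0, nat_lit 7, nat_lit 3, nat_lit 6, nat_lit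 4, nat_lit 3, nat_lit 1])) (.leaf ((nat_lit 0), [nat_lit 0, nat_lit 9, nat_lit 0, nat_lit 9, nat_lit 2, nat_lit 7, nat_lit 8, nat_lit 4, nat_lit 0, nat_lit 7, nat_lit 3, nat_lit 6, nat_lit 5, nat_lit 2, nat_lit 4]))))))))
 (.node (nat_lit 0x6de08f604588a88) (.node (nat_lit 0x6dd31eb3698f1f4) (.node (nat_lit 0x6dcd4f4b8bc132c) (.node (nat_lit 0x6dc5aeac6237bcc) (.node (nat_lit 0x6dc4977de07abd8) (.leaf ((nat_lit 0), [nat_lit 9, nat_lit 0, nat_lit 7, nat_lit 2, nat_lit 9, nat_lit 6, nat_lit 3, nat_lit 1, nat_lit 8, nat_lit 6, nat_lit 7, nat_lit 3, nat_lit 4, nat_lit 6, nat_lit 5])) (.leaf ((nat_lit 0), [nat_lit 2, nat_lit 9, nat_lit 8, nat_lit 1, nat_lit 9, nat_lit 6, nat_lit 7, nat_lit 1, nat_lit 8, nat_lit 6, nat_lit 0, nat_lit 7, nat_lit 4, nat_lit 2, nat_lit 2, nat_lit 6, nat_lit 3, nat_lit 4]))) (.node (nat_lit 0x6dc60b27f6592c8) (.leaf ((nat_lit 0), [nat_lit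 5, nat_lit 9, nat_lit 6, nat_lit 0, nat_lit 9, nat_lit 8, nat_lit 1, nat_lit 8, nat_lit 6, nat_lit 3, nat_lit 4, nat_lit 7, nat_lit 2, nat_lit 6, nat_lit 5, nat_lit 2])) (.node (nat_lit 0x6dc668b051bc0a4) (.leaf ((nat_lit 0), [nat_lit 2, nat_lit 7, nat_lit 9, nat_lit 5, nat_lit 9, nat_lit 6, nat_lit 3, nat_lit 8, nat_lit 6, nat_lit 3, nat_lit 4, nat_lit 7, nat_lit 6, nat_lit 5, nat_lit 6, nat_lit 2, nat_lit 2, nat_lit 1])) (.leaf ((nat_lit 2), [nat_lit 0, nat_lit 9, nat_lit 0, nat_lit 9, nat_lit 3, nat_lit 8, nat_lit 6, nat_lit 5, nat_lit 1, nat_lit 7, nat_lit 3, nat_lit 4, nat_lit 3, nat_lit 3])))))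
 (.node (nat_lit 0x6dd0377300d1478) (.node (nat_lit 0x6dcf7cf6b13b2f4) (.leaf ((nat_lit 0), [nat_lit 0, nat_lit 9, nat_lit 5, nat_lit 3, nat_lit 9, nat_lit 5, nat_lit 6, nat_lit 8, nat_lit 6, nat_lit 3, nat_lit 4, nat_lit 7, nat_lit 6, nat_lit 5, nat_lit 1])) (.leaf ((nat_lit 0), [nat_lit 9, nat_lit 0, nat_lit 7, nat_lit 2, nat_lit 9, nat_lit 8, nat_lit 5, nat_lit 1, nat_lit 8, nat_lit 7, nat_lit 5, nat_lit 7, nat_lit 5, nat_lit 2, nat_lit 0]))) (.node (nat_lit 0x6dd207ba9fdeadc) (.leaf ((nat_lit 0), [nat_lit 0, nat_lit 7, nat_lit 0, nat_lit 9, nat_lit 1, nat_lit 9, nat_lit 8, nat_lit 4, nat_lit 6, nat_lit 8, nat_lit 5, nat_lit 4, nat_lit 7, nat_lit 6, nat_lit 4, nat_lit 2, nat_lit 6, nat_lit 4])) (.node (nat_lit 0x6dd2653dc56baf8) (.leaf ((nat_lit 0), [nat_lit 9, nat_lit 0, nat_lit 7, nat_lit 2, nat_lit 9, nat_lit 4, nat_lit 8, nat_lit 0, nat_lit 8, nat_lit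 7, nat_lit 1, nat_lit 7, nat_lit 5, nat_lit 6, nat_lit 3, nat_lit 1])) (.leaf ((nat_lit 0), [nat_lit 0, nat_lit 9, nat_lit 5, nat_lit 3, nat_lit 9, nat_lit 7, nat_lit 8, nat_lit 0, nat_lit 8, nat_lit 7, nat_lit 2, nat_lit 4, nat_lit 6, nat_lit 4, nat_lit 3, nat_lit 3, nat_lit 3]))))))
 (.node (nat_lit 0x6ddbd6b41b59544) (.node (nat_lit 0x6dd4f025fee9ea4) (.node (nat_lit 0x6dd492e6395c558) (.leaf ((nat_lit 0), [nat_lit 0, nat_lit 7, nat_lit 0, nat_lit 9, nat_lit 1, nat_lit 9, nat_lit 6, nat_lit 2, nat_lit 8, nat_lit 4, nat_lit 7, nat_lit 6, nat_lit 2, nat_lit 2, nat_lit 6, nat_lit 5, nat_lit 4])) (.leaf ((nat_lit 0), [nat_lit 0, nat_lit 7, nat_lit 0, nat_lit 9, nat_lit 1, nat_lit 9, nat_lit 8, nat_lit 7, nat_lit 8, nat_lit 5, nat_lit 8, nat_lit 6, nat_lit 7, nat_lit 5, nat_lit 2]))) (.node (nat_lit 0x6dd54ce2cb1bf2c) (.leaf ((nat_lit 0), [nat_lit 0, nat_lit 9,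 nat_lit 5, nat_lit 3, nat_lit 9, nat_lit 2, nat_lit 7, nat_lit 8, nat_lit 4, nat_lit 0, nat_lit 7, nat_lit 4, nat_lit 2, nat_lit 6, nat_lit 5, nat_lit 3])) (.node (nat_lit 0x6ddb7979e73d91c) (.leaf ((nat_lit 0), [nat_lit 9, nat_lit 0, nat_lit 7, nat_lit 2, nat_lit 9, nat_lit 8, nat_lit 1, nat_lit 8, nat_lit 7, nat_lit 0, nat_lit 7, nat_lit 6, nat_lit 2, nat_lit 2, nat_lit 6, nat_lit 5, nat_lit 2, nat_lit 1])) (.leaf ((nat_lit 0), [nat_lit 2, nat_lit 7, nat_lit 9, nat_lit 5, nat_lit 9, nat_lit 8, nat_lit 1, nat_lit 8, nat_lit 6, nat_lit 1, nat_lit 7, nat_lit 5, nat_lit 6, nat_lit 4, nat_lit 2, nat_lit 2])))))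
 (.node (nat_lit 0x6ddebe5920a88c8) (.node (nat_lit 0x6ddda7e54aa4b64) (.leaf ((nat_lit 0), [nat_lit 6, nat_lit 9, nat_lit 2, nat_lit 1, nat_lit 9, nat_lit 2, nat_lit 7, nat_lit 8, nat_lit 0, nat_lit 7, nat_lit 4, nat_lit 6, nat_lit 5, nat_lit 2, nat_lit 4])) (.leaf ((nat_lit 0), [nat_lit 0, nat_lit 9, nat_lit 5, nat_lit 3, nat_lit 9, nat_lit 4, nat_lit 8, nat_lit 0, nat_lit 8, nat_lit 6, nat_lit 5, nat_lit 6, nat_lit 7, nat_lit 4, nat_lit 3, nat_lit 3, nat_lit 0]))) (.node (nat_lit 0x6ddfd5951c59b18) (.leaf ((nat_lit 0), [nat_lit 9, nat_lit 0, nat_lit 7, nat_lit 2, nat_lit 9, nat_lit 8, nat_lit 0, nat_lit 7, nat_lit 8, nat_lit 7, nat_lit 3, nat_lit 4, nat_lit 6, nat_lit 4, nat_lit 2, nat_lit 1])) (.node (nat_lit 0x6de032bef6d912c) (.leaf ((nat_lit 0), [nat_lit 9, nat_lit 8, nat_lit 2, nat_lit 1, nat_lit 9, nat_lit 7, nat_lit 8, nat_lit 4, nat_lit 1, nat_lit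 7, nat_lit 2, nat_lit 4, nat_lit 6, nat_lit 3, nat_lit 4, nat_lit 0])) (.leaf ((nat_lit 0), [nat_lit 5, nat_lit 9, nat_lit 6, nat_lit 0, nat_lit 9, nat_lit 8, nat_lit 3, nat_lit 1, nat_lit 8, nat_lit 5, nat_lit 0, nat_lit 7, nat_lit 2, nat_lit 6, nat_lit 3, nat_lit 4, nat_lit 1])))))))
 (.node (nat_lit 0x6df1a1d63f71ddc) (.node (nat_lit 0x6dece8da7da5ec8) (.node (nat_lit 0x6de2bdd082c84cc) (.node (nat_lit 0x6de203eff825ff8) (.leaf ((nat_lit 0), [nat_lit 9, nat_lit 8, nat_lit 2, nat_lit 1, nat_lit 9, nat_lit 1, nat_lit 7, nat_lit 8, nat_lit 6, nat_lit 5, nat_lit 0, nat_lit 7, nat_lit 6, nat_lit 5])) (.leaf ((nat_lit 0), [nat_lit 9, nat_lit 0, nat_lit 7, nat_lit 2, nat_lit 9, nat_lit 4, nat_lit 6, nat_lit 8, nat_lit 5, nat_lit 7, nat_lit 5, nat_lit 3, nat_lit 6, nat_lit 5, nat_lit 0]))) (.node (nat_lit 0x6de48e59b5c3934) (.leaf ((nat_lit 0), [nat_lit 0, nat_lit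 7, nat_lit 0, nat_lit 9, nat_lit 1, nat_lit 9, nat_lit 8, nat_lit 4, nat_lit 6, nat_lit 8, nat_lit 5, nat_lit 7, nat_lit 6, nat_lit 4, nat_lit 3, nat_lit 6])) (.node (nat_lit 0x6dea5e2efe5d104) (.leaf ((nat_lit 0), [nat_lit 2, nat_lit 7, nat_lit 9, nat_lit 5, nat_lit 9, nat_lit 8, nat_lit 5, nat_lit 8, nat_lit 4, nat_lit 0, nat_lit 7, nat_lit 3, nat_lit 4, nat_lit 6, nat_lit 5, nat_lit 1])) (.leaf ((nat_lit 0), [nat_lit 0, nat_lit 9, nat_lit 1, nat_lit 9, nat_lit 5, nat_lit 8, nat_lit 0, nat_lit 8, nat_lit 7, nat_lit 1, nat_lit 7, nat_lit 6, nat_lit 4, nat_lit 3, nat_lit 6, nat_lit 1])))))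
 (.node (nat_lit 0x6def16f8fb9b2c8) (.node (nat_lit 0x6deeba4a61166cc) (.leaf ((nat_lit 0), [nat_lit 2, nat_lit 9, nat_lit 8, nat_lit 1, nat_lit 9, nat_lit 7, nat_lit 8, nat_lit 1, nat_lit 8, nat_lit 7, nat_lit 5, nat_lit 1, nat_lit 7, nat_lit 6, nat_lit 5, nat_lit 2, nat_lit 4])) (.leaf ((nat_lit 5), [nat_lit 0, nat_lit 9, nat_lit 0, nat_lit 9, nat_lit 3, nat_lit 8, nat_lit 7, nat_lit 2, nat_lit 4, nat_lit 7, nat_lit 2, nat_lit 6, nat_lit 5, nat_lit 2, nat_lit 2]))) (.node (nat_lit 0x6def746cdba3b24) (.leaf ((nat_lit 0), [nat_lit 0, nat_lit 9, nat_lit 0, nat_lit 9, nat_lit 5, nat_lit 0, nat_lit 7, nat_lit 8, nat_lit 4, nat_lit 6, nat_lit 5, nat_lit 3, nat_lit 4, nat_lit 3, nat_lit 3])) (.node (nat_lit 0x6df14526bf35584) (.leaf ((nat_lit 0), [nat_lit 0, nat_lit 9, nat_lit 5, nat_lit 3, nat_lit 1, nat_lit 9, nat_lit 5, nat_lit 7, nat_lit 5, nat_lit 8, nat_lit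 6, nat_lit 4, nat_lit 3, nat_lit 6, nat_lit 2, nat_lit 1])) (.leaf ((nat_lit 2), [nat_lit 6, nat_lit 9, nat_lit 2, nat_lit 1, nat_lit 9, nat_lit 4, nat_lit 8, nat_lit 2, nat_lit 1, nat_lit 8, nat_lit 0, nat_lit 7, nat_lit 6, nat_lit 5, nat_lit 2, nat_lit 4, nat_lit 0]))))))
 (.node (nat_lit 0x6dfb13aa8c4716c) (.node (nat_lit 0x6df37357ec5298c) (.node (nat_lit 0x6df25c12c74cb18) (.leaf ((nat_lit 0), [nat_lit 2, nat_lit 7, nat_lit 9, nat_lit 5, nat_lit 9, nat_lit 8, nat_lit 1, nat_lit 8, nat_lit 1, nat_lit 7, nat_lit 5, nat_lit 6, nat_lit 5, nat_lit 2, nat_lit 2])) (.leaf ((nat_lit 0), [nat_lit 9, nat_lit 2, nat_lit 9, nat_lit 3, nat_lit 9, nat_lit 3, nat_lit 8, nat_lit 1, nat_lit 7, nat_lit 3, nat_lit 6, nat_lit 0]))) (.node (nat_lit 0x6df8e607aa297b8) (.leaf ((nat_lit 0), [nat_lit 0, nat_lit 9, nat_lit 0, nat_lit 9, nat_lit 4, nat_lit 7, nat_lit 8, nat_lit 7,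 nat_lit 5, nat_lit 0, nat_lit 7, nat_lit 5, nat_lit 4, nat_lit 2, nat_lit 2])) (.node (nat_lit 0x6df99f7e904291c) (.leaf ((nat_lit 0), [nat_lit 0, nat_lit 9, nat_lit 5, nat_lit 3, nat_lit 9, nat_lit 8, nat_lit 2, nat_lit 6, nat_lit 8, nat_lit 7, nat_lit 2, nat_lit 4, nat_lit 7, nat_lit 5, nat_lit 3, nat_lit 4, nat_lit 1])) (.leaf ((nat_lit 0), [nat_lit 2, nat_lit 9, nat_lit 8, nat_lit 1, nat_lit 9, nat_lit 5, nat_lit 0, nat_lit 8, nat_lit 5, nat_lit 6, nat_lit 7, nat_lit 5, nat_lit 2, nat_lit 2, nat_lit 1])))))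
 (.node (nat_lit 0x6dfd9ef9b844124) (.node (nat_lit 0x6dfce4577fe07f4) (.leaf ((nat_lit 0), [nat_lit 6, nat_lit 9, nat_lit 2, nat_lit 1, nat_lit 9, nat_lit 4, nat_lit 7, nat_lit 6, nat_lit 8, nat_lit 7, nat_lit 5, nat_lit 0, nat_lit 7, nat_lit 4, nat_lit 2, nat_lit 6])) (.leaf ((nat_lit 0), [nat_lit 0, nat_lit 9, nat_lit 5, nat_lit 3, nat_lit 1, nat_lit 9, nat_lit 3, nat_lit 0, nat_lit 8, nat_lit 6, nat_lit 5, nat_lit 0, nat_lit 7, nat_lit 4, nat_lit 2, nat_lit 6, nat_lit 5, nat_lit 4, nat_lit 2, nat_lit 1]))) (.node (nat_lit 0x6dffcc63780f55c) (.leaf ((nat_lit 0), [nat_lit 6, nat_lit 9, nat_lit 2, nat_lit 1, nat_lit 9, nat_lit 7, nat_lit 2, nat_lit 1, nat_lit 8, nat_lit 1, nat_lit 7, nat_lit 5, nat_lit 3, nat_lit 6, nat_lit 3, nat_lit 3])) (.node (nat_lit 0x6e00864b8e74df4) (.leaf ((nat_lit 0), [nat_lit 9, nat_lit 0, nat_lit 7, nat_lit 2, nat_lit 9, nat_lit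 8, nat_lit 6, nat_lit 2, nat_lit 4, nat_lit 7, nat_lit 3, nat_lit 6, nat_lit 5, nat_lit 2, nat_lit 0])) (.leaf ((nat_lit 0), [nat_lit 2, nat_lit 9, nat_lit 8, nat_lit 1, nat_lit 9, nat_lit 8, nat_lit 4, nat_lit 6, nat_lit 8, nat_lit 7, nat_lit 4, nat_lit 6, nat_lit 5, nat_lit 4, nat_lit 3, nat_lit 3, nat_lit 1])))))))))
 (.node (nat_lit 0x6e44165317150ec) (.node (nat_lit 0x6e259337ccd4d88) (.node (nat_lit 0x6e1651eb48d65ec) (.node (nat_lit 0x6e0ce07189049a4) (.node (nat_lit 0x6e07ca6d29eccac) (.node (nat_lit 0x6e076d1cdc84088) (.leaf ((nat_lit 0), [nat_lit 9, nat_lit 2, nat_lit 9, nat_lit 3, nat_lit 9, nat_lit 7, nat_lit 2, nat_lit 5, nat_lit 8, nat_lit 4, nat_lit 0, nat_lit 7, nat_lit 2, nat_lit 6, nat_lit 2, nat_lit 4, nat_lit 2, nat_lit 1])) (.leaf ((nat_lit 5), [nat_lit 6, nat_lit 9, nat_lit 2, nat_lit 1, nat_lit 9, nat_lit 3, nat_lit 7, nat_lit 8, nat_lit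 4, nat_lit 6, nat_lit 5, nat_lit 3, nat_lit 3]))) (.node (nat_lit 0x6e09f89b1b2460c) (.leaf ((nat_lit 0), [nat_lit 6, nat_lit 9, nat_lit 2, nat_lit 1, nat_lit 9, nat_lit 3, nat_lit 7, nat_lit 5, nat_lit 8, nat_lit 3, nat_lit 6, nat_lit 7, nat_lit 4, nat_lit 3, nat_lit 3, nat_lit 3])) (.node (nat_lit 0x6e0bc9386d9d404) (.leaf ((nat_lit 0), [nat_lit 0, nat_lit 9, nat_lit 1, nat_lit 9, nat_lit 3, nat_lit 0, nat_lit 8, nat_lit 3, nat_lit 4, nat_lit 7, nat_lit 2, nat_lit 6, nat_lit 5, nat_lit 4, nat_lit 1])) (.leaf ((nat_lit 0), [nat_lit 2, nat_lit 9, nat_lit 8, nat_lit 1, nat_lit 9, nat_lit 6, nat_lit 7, nat_lit 1, nat_lit 8, nat_lit 5, nat_lit 1, nat_lit 7, nat_lit 3, nat_lit 6, nat_lit 4])))))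
 (.node (nat_lit 0x6e0f0ddc2ec899c) (.node (nat_lit 0x6e0d9a7c1e52df8) (.leaf ((nat_lit 0), [nat_lit 6, nat_lit 9, nat_lit 2, nat_lit 1, nat_lit 9, nat_lit 7, nat_lit 6, nat_lit 8, nat_lit 7, nat_lit 1, nat_lit 7, nat_lit 4, nat_lit 6, nat_lit 5, nat_lit 3, nat_lit 3, nat_lit 1])) (.leaf ((nat_lit 0), [nat_lit 9, nat_lit 8, nat_lit 2, nat_lit 1, nat_lit 9, nat_lit 0, nat_lit 7, nat_lit 8, nat_lit 5, nat_lit 7, nat_lit 3, nat_lit 3, nat_lit 3, nat_lit 6, nat_lit 5, nat_lit 1]))) (.node (nat_lit 0x6e0f6b1bf4b7398) (.leaf ((nat_lit 0), [nat_lit 5, nat_lit 9, nat_lit 6, nat_lit 0, nat_lit 9, nat_lit 7, nat_lit 1, nat_lit 8, nat_lit 4, nat_lit 7, nat_lit 3, nat_lit 4, nat_lit 3, nat_lit 3, nat_lit 6, nat_lit 5, nat_lit 4])) (.node (nat_lit 0x6e0fc7e720143b4) (.leaf ((nat_lit 0), [nat_lit 9, nat_lit 8, nat_lit 2, nat_lit 1, nat_lit 9, nat_lit 4, nat_lit 7, nat_lit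 8, nat_lit 5, nat_lit 4, nat_lit 7, nat_lit 3, nat_lit 6])) (.leaf ((nat_lit 0), [nat_lit 5, nat_lit 9, nat_lit 6, nat_lit 0, nat_lit 9, nat_lit 6, nat_lit 2, nat_lit 8, nat_lit 4, nat_lit 0, nat_lit 7, nat_lit 4, nat_lit 3, nat_lit 6, nat_lit 4, nat_lit 2, nat_lit 0]))))))
 (.node (nat_lit 0x6e1c7ec45503384) (.node (nat_lit 0x6e1939d18636a18) (.node (nat_lit 0x6e187f7f9d08e74) (.leaf ((nat_lit 0), [nat_lit 9, nat_lit 0, nat_lit 7, nat_lit 2, nat_lit 9, nat_lit 8, nat_lit 0, nat_lit 7, nat_lit 4, nat_lit 3, nat_lit 6, nat_lit 4, nat_lit 1])) (.leaf ((nat_lit 0), [nat_lit 5, nat_lit 9, nat_lit 6, nat_lit 0, nat_lit 9, nat_lit 8, nat_lit 2, nat_lit 6, nat_lit 8, nat_lit 7, nat_lit 2, nat_lit 4, nat_lit 7, nat_lit 3, nat_lit 3]))) (.node (nat_lit 0x6e1a50f0c26f3b8) (.leaf ((nat_lit 0), [nat_lit 2, nat_lit 9, nat_lit 8, nat_lit 1, nat_lit 9, nat_lit 7, nat_lit 5,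 nat_lit 8, nat_lit 0, nat_lit 8, nat_lit 5, nat_lit 1, nat_lit 7, nat_lit 3, nat_lit 4, nat_lit 6])) (.node (nat_lit 0x6e1bc4ab6028eec) (.leaf ((nat_lit 0), [nat_lit 2, nat_lit 7, nat_lit 9, nat_lit 5, nat_lit 9, nat_lit 3, nat_lit 5, nat_lit 8, nat_lit 5, nat_lit 7, nat_lit 5, nat_lit 6, nat_lit 2, nat_lit 4, nat_lit 3, nat_lit 1])) (.leaf ((nat_lit 0), [nat_lit 0, nat_lit 9, nat_lit 1, nat_lit 9, nat_lit 2, nat_lit 7, nat_lit 8, nat_lit 4, nat_lit 0, nat_lit 7, nat_lit 2, nat_lit 4, nat_lit 6, nat_lit 5, nat_lit 2, nat_lit 2, nat_lit 1])))))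
 (.node (nat_lit 0x6e1e4f55cb7ac74) (.node (nat_lit 0x6e1df2da095acb8) (.leaf ((nat_lit 0), [nat_lit 9, nat_lit 8, nat_lit 2, nat_lit 1, nat_lit 9, nat_lit 8, nat_lit 6, nat_lit 2, nat_lit 8, nat_lit 6, nat_lit 2, nat_lit 4, nat_lit 7, nat_lit 6, nat_lit 4, nat_lit 2, nat_lit 2])) (.leaf ((nat_lit 0), [nat_lit 0, nat_lit 9, nat_lit 1, nat_lit 9, nat_lit 5, nat_lit 7, nat_lit 5, nat_lit 8, nat_lit 7, nat_lit 0, nat_lit 7, nat_lit 3, nat_lit 4, nat_lit 6, nat_lit 3, nat_lit 4, nat_lit 0]))) (.node (nat_lit 0x6e1eacf3883074c) (.leaf ((nat_lit 3), [nat_lit 2, nat_lit 2, nat_lit 8, nat_lit 3, nat_lit 6, nat_lit 1, nat_lit 7, nat_lit 3, nat_lit 6, nat_lit 5])) (.node (nat_lit 0x6e24d9a08fc1524) (.leaf ((nat_lit 0), [nat_lit 2, nat_lit 7, nat_lit 9, nat_lit 5, nat_lit 9, nat_lit 6, nat_lit 3, nat_lit 8, nat_lit 3, nat_lit 4, nat_lit 6, nat_lit 3, nat_lit 3, nat_lit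 1])) (.leaf ((nat_lit 0), [nat_lit 0, nat_lit 9, nat_lit 5, nat_lit 3, nat_lit 1, nat_lit 9, nat_lit 2, nat_lit 6, nat_lit 1, nat_lit 8, nat_lit 4, nat_lit 3, nat_lit 6, nat_lit 0])))))))
 (.node (nat_lit 0x6e3531b16758e48) (.node (nat_lit 0x6e2b05f9de1755c) (.node (nat_lit 0x6e2934f7c10e89c) (.node (nat_lit 0x6e27076bde97f98) (.leaf ((nat_lit 0), [nat_lit 0, nat_lit 9, nat_lit 5, nat_lit 3, nat_lit 9, nat_lit 8, nat_lit 0, nat_lit 7, nat_lit 8, nat_lit 0, nat_lit 7, nat_lit 2, nat_lit 4, nat_lit 6, nat_lit 2, nat_lit 4, nat_lit 2])) (.leaf ((nat_lit 0), [nat_lit 0, nat_lit 7, nat_lit 0, nat_lit 9, nat_lit 1, nat_lit 9, nat_lit 0, nat_lit 8, nat_lit 6, nat_lit 1, nat_lit 8, nat_lit 6, nat_lit 5, nat_lit 6, nat_lit 7, nat_lit 2, nat_lit 6, nat_lit 1]))) (.node (nat_lit 0x6e29eeeb2918708) (.leaf ((nat_lit 0), [nat_lit 5, nat_lit 9, nat_lit 6, nat_lit 0, nat_lit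 9, nat_lit 8, nat_lit 3, nat_lit 1, nat_lit 8, nat_lit 5, nat_lit 1, nat_lit 7, nat_lit 6, nat_lit 2, nat_lit 2, nat_lit 6, nat_lit 5])) (.node (nat_lit 0x6e2a4c840bf59e4) (.leaf ((nat_lit 0), [nat_lit 9, nat_lit 2, nat_lit 9, nat_lit 3, nat_lit 9, nat_lit 6, nat_lit 3, nat_lit 1, nat_lit 8, nat_lit 5, nat_lit 7, nat_lit 5, nat_lit 6, nat_lit 5, nat_lit 3, nat_lit 6, nat_lit 2])) (.leaf ((nat_lit 0), [nat_lit 2, nat_lit 9, nat_lit 8, nat_lit 1, nat_lit 9, nat_lit 6, nat_lit 7, nat_lit 1, nat_lit 8, nat_lit 6, nat_lit 5, nat_lit 7, nat_lit 3, nat_lit 3, nat_lit 6, nat_lit 5, nat_lit 4, nat_lit 1])))))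
 (.node (nat_lit 0x6e2cd7565a24dcc) (.node (nat_lit 0x6e2c7a16f094a44) (.leaf ((nat_lit 2), [nat_lit 6, nat_lit 9, nat_lit 2, nat_lit 1, nat_lit 9, nat_lit 5, nat_lit 8, nat_lit 7, nat_lit 5, nat_lit 1, nat_lit 7, nat_lit 2, nat_lit 6, nat_lit 3, nat_lit 4, nat_lit 1])) (.leaf ((nat_lit 0), [nat_lit 0, nat_lit 7, nat_lit 0, nat_lit 9, nat_lit 1, nat_lit 9, nat_lit 8, nat_lit 4, nat_lit 6, nat_lit 8, nat_lit 4, nat_lit 7, nat_lit 4, nat_lit 6, nat_lit 5, nat_lit 4, nat_lit 2, nat_lit 2, nat_lit 0]))) (.node (nat_lit 0x6e33612976539f8) (.leaf ((nat_lit 0), [nat_lit 9, nat_lit 8, nat_lit 2, nat_lit 1, nat_lit 9, nat_lit 7, nat_lit 8, nat_lit 4, nat_lit 1, nat_lit 7, nat_lit 6, nat_lit 3, nat_lit 3, nat_lit 6, nat_lit 3, nat_lit 4, nat_lit 3, nat_lit 1])) (.node (nat_lit 0x6e34d4f52583744) (.leaf ((nat_lit 0), [nat_lit 9, nat_lit 8, nat_lit 2, nat_lit 1, nat_lit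 9, nat_lit 5, nat_lit 0, nat_lit 7, nat_lit 8, nat_lit 5, nat_lit 4, nat_lit 7, nat_lit 6, nat_lit 2, nat_lit 2, nat_lit 0])) (.leaf ((nat_lit 0), [nat_lit 9, nat_lit 2, nat_lit 9, nat_lit 3, nat_lit 9, nat_lit 8, nat_lit 7, nat_lit 5, nat_lit 1, nat_lit 7, nat_lit 2, nat_lit 2, nat_lit 6, nat_lit 3, nat_lit 3, nat_lit 3]))))))
 (.node (nat_lit 0x6e3b01d5eb30f24) (.node (nat_lit 0x6e38197cb1931f4) (.node (nat_lit 0x6e370308db8f04c) (.leaf ((nat_lit 0), [nat_lit 9, nat_lit 8, nat_lit 2, nat_lit 1, nat_lit 9, nat_lit 5, nat_lit 7, nat_lit 6, nat_lit 8, nat_lit 7, nat_lit 2, nat_lit 4, nat_lit 6, nat_lit 5, nat_lit 3, nat_lit 3])) (.leaf ((nat_lit 0), [nat_lit 0, nat_lit 7, nat_lit 0, nat_lit 9, nat_lit 1, nat_lit 9, nat_lit 8, nat_lit 1, nat_lit 7, nat_lit 8, nat_lit 7, nat_lit 1, nat_lit 7, nat_lit 2, nat_lit 2, nat_lit 6]))) (.node (nat_lit 0x6e3876ab0a0e858)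 (.leaf ((nat_lit 0), [nat_lit 0, nat_lit 7, nat_lit 0, nat_lit 9, nat_lit 1, nat_lit 9, nat_lit 2, nat_lit 8, nat_lit 3, nat_lit 4, nat_lit 7, nat_lit 4, nat_lit 2, nat_lit 6, nat_lit 5, nat_lit 3, nat_lit 3, nat_lit 1])) (.node (nat_lit 0x6e38d362440cd34) (.leaf ((nat_lit 0), [nat_lit 9, nat_lit 8, nat_lit 2, nat_lit 1, nat_lit 9, nat_lit 4, nat_lit 7, nat_lit 8, nat_lit 5, nat_lit 4, nat_lit 7, nat_lit 2, nat_lit 6, nat_lit 5])) (.leaf ((nat_lit 0), [nat_lit 0, nat_lit 9, nat_lit 0, nat_lit 9, nat_lit 3, nat_lit 5, nat_lit 8, nat_lit 2, nat_lit 4, nat_lit 7, nat_lit 5, nat_lit 6, nat_lit 5, nat_lit 2, nat_lit 4, nat_lit 3])))))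
 (.node (nat_lit 0x6e3cd245f6f74dc) (.node (nat_lit 0x6e3b5e8cf7917ac) (.leaf ((nat_lit 0), [nat_lit 0, nat_lit 9, nat_lit 5, nat_lit 3, nat_lit 9, nat_lit 5, nat_lit 2, nat_lit 8, nat_lit 4, nat_lit 7, nat_lit 4, nat_lit 2, nat_lit 6, nat_lit 4, nat_lit 3])) (.leaf ((nat_lit 0), [nat_lit 2, nat_lit 9, nat_lit 8, nat_lit 1, nat_lit 9, nat_lit 8, nat_lit 7, nat_lit 1, nat_lit 8, nat_lit 6, nat_lit 5, nat_lit 0, nat_lit 7, nat_lit 6, nat_lit 3, nat_lit 3, nat_lit 0]))) (.node (nat_lit 0x6e424521b96a15c) (.leaf ((nat_lit 0), [nat_lit 2, nat_lit 7, nat_lit 9, nat_lit 5, nat_lit 9, nat_lit 3, nat_lit 6, nat_lit 8, nat_lit 7, nat_lit 0, nat_lit 7, nat_lit 6, nat_lit 4, nat_lit 3, nat_lit 3, nat_lit 3, nat_lit 1])) (.node (nat_lit 0x6e435cad7a556f8) (.leaf ((nat_lit 0), [nat_lit 9, nat_lit 8, nat_lit 2, nat_lit 1, nat_lit 9, nat_lit 7, nat_lit 5, nat_lit 8, nat_lit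 1, nat_lit 8, nat_lit 5, nat_lit 7, nat_lit 5, nat_lit 1, nat_lit 7, nat_lit 5, nat_lit 6, nat_lit 0])) (.leaf ((nat_lit 0), [nat_lit 0, nat_lit 9, nat_lit 1, nat_lit 9, nat_lit 8, nat_lit 6, nat_lit 2, nat_lit 8, nat_lit 6, nat_lit 3, nat_lit 4, nat_lit 7, nat_lit 5, nat_lit 2, nat_lit 0]))))))))
 (.node (nat_lit 0x6e65de56f2546d8) (.node (nat_lit 0x6e52faa27d2a3c8) (.node (nat_lit 0x6e498912d26a86c) (.node (nat_lit 0x6e46a0fafe7b3f4) (.node (nat_lit 0x6e44d08e2e9a8e4) (.leaf ((nat_lit 2), [nat_lit 2, nat_lit 9, nat_lit 8, nat_lit 1, nat_lit 9, nat_lit 6, nat_lit 3, nat_lit 1, nat_lit 8, nat_lit 3, nat_lit 6, nat_lit 7, nat_lit 6, nat_lit 3, nat_lit 4])) (.leaf ((nat_lit 0), [nat_lit 2, nat_lit 7, nat_lit 9, nat_lit 5, nat_lit 9, nat_lit 5, nat_lit 1, nat_lit 8, nat_lit 6, nat_lit 0, nat_lit 7, nat_lit 5, nat_lit 3, nat_lit 6, nat_lit 4, nat_lit 1]))) (.node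 (nat_lit 0x6e475ae4e0d2134) (.leaf ((nat_lit 0), [nat_lit 0, nat_lit 9, nat_lit 1, nat_lit 9, nat_lit 5, nat_lit 0, nat_lit 7, nat_lit 8, nat_lit 5, nat_lit 4, nat_lit 7, nat_lit 1])) (.node (nat_lit 0x6e47b86eac290cc) (.leaf ((nat_lit 0), [nat_lit 9, nat_lit 8, nat_lit 2, nat_lit 1, nat_lit 9, nat_lit 5, nat_lit 7, nat_lit 2, nat_lit 6, nat_lit 4, nat_lit 0])) (.leaf ((nat_lit 0), [nat_lit 0, nat_lit 9, nat_lit 5, nat_lit 3, nat_lit 9, nat_lit 6, nat_lit 3, nat_lit 1, nat_lit 8, nat_lit 6, nat_lit 7, nat_lit 6, nat_lit 3, nat_lit 4, nat_lit 3])))))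
 (.node (nat_lit 0x6e50ccf729b1f84) (.node (nat_lit 0x6e4bb743d1897f8) (.leaf ((nat_lit 0), [nat_lit 0, nat_lit 7, nat_lit 0, nat_lit 9, nat_lit 1, nat_lit 9, nat_lit 6, nat_lit 2, nat_lit 8, nat_lit 3, nat_lit 3, nat_lit 3, nat_lit 6])) (.leaf ((nat_lit 0), [nat_lit 9, nat_lit 2, nat_lit 9, nat_lit 3, nat_lit 9, nat_lit 3, nat_lit 8, nat_lit 7, nat_lit 1, nat_lit 8, nat_lit 5, nat_lit 4, nat_lit 7, nat_lit 5, nat_lit 4, nat_lit 2]))) (.node (nat_lit 0x6e5240b478f4bdc) (.leaf ((nat_lit 3), [nat_lit 4, nat_lit 8, nat_lit 1, nat_lit 8, nat_lit 4, nat_lit 2, nat_lit 2, nat_lit 6, nat_lit 0])) (.node (nat_lit 0x6e529e354894ba4) (.leaf ((nat_lit 0), [nat_lit 6, nat_lit 9, nat_lit 2, nat_lit 1, nat_lit 9, nat_lit 5, nat_lit 0, nat_lit 7, nat_lit 8, nat_lit 7, nat_lit 6])) (.leaf ((nat_lit 0), [nat_lit 9, nat_lit 8, nat_lit 2, nat_lit 1, nat_lit 9, nat_lit 8, nat_lit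 7, nat_lit 8, nat_lit 5, nat_lit 8, nat_lit 2, nat_lit 2, nat_lit 6, nat_lit 2, nat_lit 4]))))))
 (.node (nat_lit 0x6e606b9764bcb8c) (.node (nat_lit 0x6e55e2e5f977ccc) (.node (nat_lit 0x6e5528dd025d258) (.leaf ((nat_lit 0), [nat_lit 0, nat_lit 9, nat_lit 0, nat_lit 9, nat_lit 7, nat_lit 8, nat_lit 7, nat_lit 1, nat_lit 8, nat_lit 6, nat_lit 2, nat_lit 4, nat_lit 7, nat_lit 5, nat_lit 6, nat_lit 1])) (.leaf ((nat_lit 0), [nat_lit 5, nat_lit 9, nat_lit 6, nat_lit 0, nat_lit 9, nat_lit 4, nat_lit 0, nat_lit 7, nat_lit 8, nat_lit 3, nat_lit 6, nat_lit 7, nat_lit 5, nat_lit 6, nat_lit 0]))) (.node (nat_lit 0x6e586d4c7b2f888) (.leaf ((nat_lit 2), [nat_lit 2, nat_lit 7, nat_lit 9, nat_lit 5, nat_lit 9, nat_lit 8, nat_lit 2, nat_lit 6, nat_lit 3, nat_lit 8, nat_lit 6, nat_lit 5, nat_lit 7, nat_lit 5, nat_lit 6, nat_lit 5, nat_lit 4])) (.node (nat_lit 0x6e5a3e80b8c3584)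 (.leaf ((nat_lit 0), [nat_lit 0, nat_lit 9, nat_lit 0, nat_lit 9, nat_lit 2, nat_lit 7, nat_lit 8, nat_lit 7, nat_lit 5, nat_lit 0, nat_lit 7, nat_lit 2, nat_lit 4, nat_lit 6, nat_lit 2, nat_lit 4])) (.leaf ((nat_lit 0), [nat_lit 0, nat_lit 9, nat_lit 0, nat_lit 9, nat_lit 8, nat_lit 1, nat_lit 8, nat_lit 5, nat_lit 0, nat_lit 7, nat_lit 6, nat_lit 4, nat_lit 2, nat_lit 1])))))
 (.node (nat_lit 0x6e6299428a97c04) (.node (nat_lit 0x6e61828dd87ff78) (.leaf ((nat_lit 0), [nat_lit 0, nat_lit 9, nat_lit 5, nat_lit 3, nat_lit 9, nat_lit 8, nat_lit 2, nat_lit 6, nat_lit 8, nat_lit 6, nat_lit 3, nat_lit 4, nat_lit 7, nat_lit 3, nat_lit 4, nat_lit 6, nat_lit 5])) (.leaf ((nat_lit 5), [nat_lit 2, nat_lit 7, nat_lit 9, nat_lit 5, nat_lit 9, nat_lit 2, nat_lit 6, nat_lit 8, nat_lit 6, nat_lit 7, nat_lit 2, nat_lit 4, nat_lit 6, nat_lit 2, nat_lit 4, nat_lit 3, nat_lit 1])))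 (.node (nat_lit 0x6e6352ff82396c8) (.leaf ((nat_lit 0), [nat_lit 2, nat_lit 7, nat_lit 9, nat_lit 5, nat_lit 9, nat_lit 2, nat_lit 6, nat_lit 1, nat_lit 8, nat_lit 3, nat_lit 4, nat_lit 6, nat_lit 4, nat_lit 3, nat_lit 3, nat_lit 3, nat_lit 0])) (.node (nat_lit 0x6e658119b05175c) (.leaf ((nat_lit 0), [nat_lit 9, nat_lit 8, nat_lit 2, nat_lit 1, nat_lit 9, nat_lit 7, nat_lit 6, nat_lit 8, nat_lit 7, nat_lit 5, nat_lit 6, nat_lit 5, nat_lit 4, nat_lit 2, nat_lit 0])) (.leaf ((nat_lit 0), [nat_lit 0, nat_lit 9, nat_lit 0, nat_lit 9, nat_lit 3, nat_lit 6, nat_lit 3, nat_lit 8, nat_lit 5, nat_lit 7, nat_lit 2, nat_lit 4, nat_lit 6, nat_lit 2, nat_lit 4, nat_lit 2])))))))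
 (.node (nat_lit 0x6e74c290c917fb4) (.node (nat_lit 0x6e7066861b966dc) (.node (nat_lit 0x6e686927d08f62c) (.node (nat_lit 0x6e680c873979364) (.leaf ((nat_lit 5), [nat_lit 9, nat_lit 2, nat_lit 9, nat_lit 3, nat_lit 9, nat_lit 3, nat_lit 7, nat_lit 5, nat_lit 8, nat_lit 7, nat_lit 4, nat_lit 6])) (.leaf ((nat_lit 0), [nat_lit 0, nat_lit 9, nat_lit 1, nat_lit 9, nat_lit 6, nat_lit 7, nat_lit 1, nat_lit 8, nat_lit 4, nat_lit 7, nat_lit 6]))) (.node (nat_lit 0x6e6ef292b7e8b34) (.leaf ((nat_lit 0), [nat_lit 9, nat_lit 2, nat_lit 9, nat_lit 3, nat_lit 9, nat_lit 5, nat_lit 1, nat_lit 8, nat_lit 7, nat_lit 5, nat_lit 0, nat_lit 7, nat_lit 2, nat_lit 6, nat_lit 2, nat_lit 0])) (.node (nat_lit 0x6e6faccdcfcef98) (.leaf ((nat_lit 0), [nat_lit 6, nat_lit 9, nat_lit 2, nat_lit 1, nat_lit 9, nat_lit 8, nat_lit 2, nat_lit 5, nat_lit 8, nat_lit 6, nat_lit 2, nat_lit 4, nat_lit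 7, nat_lit 2, nat_lit 4, nat_lit 6, nat_lit 2, nat_lit 4, nat_lit 2])) (.leaf ((nat_lit 0), [nat_lit 0, nat_lit 7, nat_lit 0, nat_lit 9, nat_lit 1, nat_lit 9, nat_lit 8, nat_lit 6, nat_lit 2, nat_lit 8, nat_lit 7, nat_lit 5, nat_lit 1, nat_lit 7, nat_lit 2, nat_lit 2, nat_lit 6, nat_lit 2, nat_lit 0])))))
 (.node (nat_lit 0x6e71dab7a96de6c) (.node (nat_lit 0x6e717dfeff1a5b8) (.leaf ((nat_lit 0), [nat_lit 9, nat_lit 0, nat_lit 7, nat_lit 2, nat_lit 9, nat_lit 3, nat_lit 8, nat_lit 4, nat_lit 1, nat_lit 7, nat_lit 4, nat_lit 2, nat_lit 2, nat_lit 0])) (.leaf ((nat_lit 0), [nat_lit 5, nat_lit 9, nat_lit 6, nat_lit 0, nat_lit 9, nat_lit 7, nat_lit 5, nat_lit 8, nat_lit 0, nat_lit 7, nat_lit 5, nat_lit 4, nat_lit 2, nat_lit 0]))) (.node (nat_lit 0x6e7294f572dd9a4) (.leaf ((nat_lit 0), [nat_lit 9, nat_lit 8, nat_lit 2, nat_lit 1, nat_lit 9, nat_lit 8, nat_lit 6, nat_lit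 3, nat_lit 1, nat_lit 8, nat_lit 0, nat_lit 7, nat_lit 6, nat_lit 2, nat_lit 4, nat_lit 1])) (.node (nat_lit 0x6e746617e6e0bf8) (.leaf ((nat_lit 0), [nat_lit 0, nat_lit 9, nat_lit 5, nat_lit 3, nat_lit 9, nat_lit 6, nat_lit 3, nat_lit 1, nat_lit 8, nat_lit 5, nat_lit 7, nat_lit 3, nat_lit 4, nat_lit 6, nat_lit 2, nat_lit 2, nat_lit 1])) (.leaf ((nat_lit 0), [nat_lit 2, nat_lit 7, nat_lit 9, nat_lit 5, nat_lit 9, nat_lit 8, nat_lit 1, nat_lit 7, nat_lit 8, nat_lit 4, nat_lit 7, nat_lit 2, nat_lit 2, nat_lit 6, nat_lit 5, nat_lit 2, nat_lit 4]))))))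
 (.node (nat_lit 0x6e7fa8134daa09c) (.node (nat_lit 0x6e774dbe2e86d6c) (.node (nat_lit 0x6e7520041f2498c) (.leaf ((nat_lit 0), [nat_lit 0, nat_lit 9, nat_lit 5, nat_lit 3, nat_lit 1, nat_lit 9, nat_lit 6, nat_lit 2, nat_lit 1, nat_lit 8, nat_lit 6, nat_lit 3, nat_lit 3, nat_lit 6, nat_lit 5, nat_lit 4, nat_lit 0])) (.leaf ((nat_lit 0), [nat_lit 0, nat_lit 9, nat_lit 0, nat_lit 9, nat_lit 5, nat_lit 0, nat_lit 7, nat_lit 8, nat_lit 2, nat_lit 4, nat_lit 7, nat_lit 6, nat_lit 2, nat_lit 4, nat_lit 2, nat_lit 1]))) (.node (nat_lit 0x6e7d7a5e46803d8) (.leaf ((nat_lit 0), [nat_lit 9, nat_lit 2, nat_lit 9, nat_lit 3, nat_lit 9, nat_lit 8, nat_lit 6, nat_lit 7, nat_lit 2, nat_lit 4, nat_lit 3, nat_lit 6, nat_lit 5, nat_lit 4, nat_lit 2, nat_lit 2])) (.node (nat_lit 0x6e7eee5b8bde504) (.leaf ((nat_lit 0), [nat_lit 2, nat_lit 9, nat_lit 8, nat_lit 1, nat_lit 9, nat_lit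 3, nat_lit 5, nat_lit 8, nat_lit 2, nat_lit 4, nat_lit 7, nat_lit 6, nat_lit 4, nat_lit 3, nat_lit 6, nat_lit 4, nat_lit 3])) (.leaf ((nat_lit 0), [nat_lit 0, nat_lit 9, nat_lit 5, nat_lit 3, nat_lit 1, nat_lit 9, nat_lit 7, nat_lit 2, nat_lit 5, nat_lit 8, nat_lit 4, nat_lit 7, nat_lit 5, nat_lit 4, nat_lit 0])))))
 (.node (nat_lit 0x6e80620ca383fc8) (.node (nat_lit 0x6e800592ad55a64) (.leaf ((nat_lit 0), [nat_lit 2, nat_lit 9, nat_lit 8, nat_lit 1, nat_lit 9, nat_lit 8, nat_lit 1, nat_lit 8, nat_lit 5, nat_lit 7, nat_lit 5, nat_lit 7, nat_lit 6, nat_lit 5, nat_lit 3, nat_lit 4])) (.leaf ((nat_lit 3), [nat_lit 5, nat_lit 8, nat_lit 7, nat_lit 6, nat_lit 4, nat_lit 2, nat_lit 6, nat_lit 2, nat_lit 2, nat_lit 0]))) (.node (nat_lit 0x6e82ed54a01c0c4) (.leaf ((nat_lit 0), [nat_lit 6, nat_lit 9, nat_lit 2, nat_lit 1, nat_lit 9, nat_lit 4, nat_lit 7, nat_lit 8, nat_lit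 6, nat_lit 5, nat_lit 6, nat_lit 7, nat_lit 5, nat_lit 3, nat_lit 6, nat_lit 5])) (.node (nat_lit 0x6e834a91e1bdb4c) (.leaf ((nat_lit 0), [nat_lit 9, nat_lit 2, nat_lit 9, nat_lit 3, nat_lit 9, nat_lit 8, nat_lit 5, nat_lit 7, nat_lit 5, nat_lit 7, nat_lit 4, nat_lit 6, nat_lit 2, nat_lit 2, nat_lit 1])) (.leaf ((nat_lit 0), [nat_lit 9, nat_lit 0, nat_lit 7, nat_lit 2, nat_lit 9, nat_lit 4, nat_lit 8, nat_lit 6, nat_lit 3, nat_lit 8, nat_lit 5, nat_lit 4, nat_lit 7, nat_lit 6, nat_lit 1])))))))))))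
 (.node (nat_lit 0x6f89ac28e5e951c) (.node (nat_lit 0x6f06c82b5a4110c) (.node (nat_lit 0x6ec8aab366bc4dc) (.node (nat_lit 0x6ea39e74b6c05a4) (.node (nat_lit 0x6e92e906a268fcc) (.node (nat_lit 0x6e8e8cebc9ab16c) (.node (nat_lit 0x6e8c5f3f33dbf38) (.node (nat_lit 0x6e85d4fb155fa48) (.leaf ((nat_lit 0), [nat_lit 0, nat_lit 9, nat_lit 5, nat_lit 3, nat_lit 9, nat_lit 4, nat_lit 6, nat_lit 8, nat_lit 7, nat_lit 2, nat_lit 2, nat_lit 6, nat_lit 2, nat_lit 2, nat_lit 1])) (.leaf ((nat_lit 0), [nat_lit 6, nat_lit 9, nat_lit 2, nat_lit 1, nat_lit 9, nat_lit 2, nat_lit 7, nat_lit 8, nat_lit 5, nat_lit 1, nat_lit 7, nat_lit 2, nat_lit 2, nat_lit 6, nat_lit 4, nat_lit 0]))) (.node (nat_lit 0x6e8d1949f728f24) (.leaf ((nat_lit 0), [nat_lit 0, nat_lit 9, nat_lit 5, nat_lit 3, nat_lit 1, nat_lit 9, nat_lit 5, nat_lit 7, nat_lit 5, nat_lit 8, nat_lit 6, nat_lit 5, nat_lit 1,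 nat_lit 7, nat_lit 4, nat_lit 2, nat_lit 6, nat_lit 4])) (.leaf ((nat_lit 0), [nat_lit 6, nat_lit 9, nat_lit 2, nat_lit 1, nat_lit 9, nat_lit 4, nat_lit 0, nat_lit 7, nat_lit 8, nat_lit 6, nat_lit 1, nat_lit 7, nat_lit 6, nat_lit 1]))))
 (.node (nat_lit 0x6e8f46f51d03b58) (.node (nat_lit 0x6e8ee9a5e3923b4) (.leaf ((nat_lit 0), [nat_lit 2, nat_lit 7, nat_lit 9, nat_lit 5, nat_lit 9, nat_lit 6, nat_lit 3, nat_lit 8, nat_lit 4, nat_lit 0, nat_lit 7, nat_lit 3, nat_lit 6, nat_lit 5, nat_lit 4, nat_lit 3])) (.leaf ((nat_lit 0), [nat_lit 9, nat_lit 2, nat_lit 9, nat_lit 3, nat_lit 9, nat_lit 7, nat_lit 1, nat_lit 8, nat_lit 5, nat_lit 7, nat_lit 2, nat_lit 4, nat_lit 6, nat_lit 5, nat_lit 4, nat_lit 2, nat_lit 0]))) (.node (nat_lit 0x6e905ddbc146d44) (.leaf ((nat_lit 0), [nat_lit 9, nat_lit 8, nat_lit 2, nat_lit 1, nat_lit 9, nat_lit 3, nat_lit 7, nat_lit 5, nat_lit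 8, nat_lit 4, nat_lit 7, nat_lit 6, nat_lit 5, nat_lit 4, nat_lit 3, nat_lit 3, nat_lit 0])) (.node (nat_lit 0x6e90baa8e69395c) (.leaf ((nat_lit 0), [nat_lit 0, nat_lit 9, nat_lit 0, nat_lit 9, nat_lit 2, nat_lit 7, nat_lit 8, nat_lit 7, nat_lit 1, nat_lit 7, nat_lit 3, nat_lit 3, nat_lit 6, nat_lit 5, nat_lit 3, nat_lit 3, nat_lit 1])) (.leaf ((nat_lit 0), [nat_lit 5, nat_lit 9, nat_lit 6, nat_lit 0, nat_lit 9, nat_lit 2, nat_lit 6, nat_lit 3, nat_lit 8, nat_lit 7, nat_lit 5, nat_lit 0, nat_lit 7, nat_lit 1]))))))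
 (.node (nat_lit 0x6e9d14a3c2803e4) (.node (nat_lit 0x6e9ae64b987d9dc) (.node (nat_lit 0x6e94b976ae2f9c8) (.leaf ((nat_lit 0), [nat_lit 0, nat_lit 9, nat_lit 0, nat_lit 9, nat_lit 5, nat_lit 8, nat_lit 0, nat_lit 8, nat_lit 0, nat_lit 7, nat_lit 4, nat_lit 2, nat_lit 2, nat_lit 6, nat_lit 2, nat_lit 4, nat_lit 2])) (.leaf ((nat_lit 2), [nat_lit 6, nat_lit 9, nat_lit 2, nat_lit 1, nat_lit 9, nat_lit 3, nat_lit 0, nat_lit 8, nat_lit 6, nat_lit 2, nat_lit 4, nat_lit 7, nat_lit 2, nat_lit 2, nat_lit 6]))) (.node (nat_lit 0x6e9ba086b064284) (.leaf ((nat_lit 3), [nat_lit 8, nat_lit 6, nat_lit 1, nat_lit 8, nat_lit 6, nat_lit 0, nat_lit 7, nat_lit 3, nat_lit 4, nat_lit 6, nat_lit 0])) (.node (nat_lit 0x6e9bfd41de42508) (.leaf ((nat_lit 0), [nat_lit 2, nat_lit 7, nat_lit 9, nat_lit 5, nat_lit 9, nat_lit 5, nat_lit 1, nat_lit 8, nat_lit 0, nat_lit 7, nat_lit 6, nat_lit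 5, nat_lit 6, nat_lit 4, nat_lit 3])) (.leaf ((nat_lit 0), [nat_lit 5, nat_lit 9, nat_lit 6, nat_lit 0, nat_lit 9, nat_lit 6, nat_lit 3, nat_lit 0, nat_lit 8, nat_lit 2, nat_lit 4, nat_lit 7, nat_lit 3, nat_lit 4, nat_lit 3, nat_lit 3, nat_lit 1])))))
 (.node (nat_lit 0x6e9f42156a0b91c) (.node (nat_lit 0x6e9dce5afab1758) (.leaf ((nat_lit 0), [nat_lit 2, nat_lit 9, nat_lit 8, nat_lit 1, nat_lit 9, nat_lit 8, nat_lit 6, nat_lit 2, nat_lit 8, nat_lit 5, nat_lit 3, nat_lit 6, nat_lit 5, nat_lit 2, nat_lit 4, nat_lit 3])) (.leaf ((nat_lit 0), [nat_lit 2, nat_lit 9, nat_lit 8, nat_lit 1, nat_lit 9, nat_lit 3, nat_lit 5, nat_lit 8, nat_lit 4, nat_lit 1, nat_lit 7, nat_lit 5, nat_lit 6, nat_lit 4, nat_lit 2]))) (.node (nat_lit 0x6e9f9fb520b1878) (.leaf ((nat_lit 0), [nat_lit 5, nat_lit 9, nat_lit 6, nat_lit 0, nat_lit 9, nat_lit 8, nat_lit 1, nat_lit 8, nat_lit 7, nat_lit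 5, nat_lit 7, nat_lit 6, nat_lit 5, nat_lit 6, nat_lit 5, nat_lit 0])) (.node (nat_lit 0x6ea1cd40798d958) (.leaf ((nat_lit 0), [nat_lit 2, nat_lit 9, nat_lit 8, nat_lit 1, nat_lit 9, nat_lit 2, nat_lit 2, nat_lit 8, nat_lit 4, nat_lit 1, nat_lit 7, nat_lit 6, nat_lit 5, nat_lit 6, nat_lit 5, nat_lit 4, nat_lit 1])) (.leaf ((nat_lit 0), [nat_lit 0, nat_lit 7, nat_lit 0, nat_lit 9, nat_lit 1, nat_lit 9, nat_lit 2, nat_lit 8, nat_lit 7, nat_lit 5, nat_lit 7, nat_lit 5, nat_lit 6, nat_lit 3, nat_lit 4, nat_lit 3, nat_lit 3, nat_lit 0])))))))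
 (.node (nat_lit 0x6eb7f5488e4b234) (.node (nat_lit 0x6ead0fbf91ed374) (.node (nat_lit 0x6eaa85177c887ac) (.node (nat_lit 0x6ea96e2136c40c4) (.leaf ((nat_lit 0), [nat_lit 0, nat_lit 9, nat_lit 5, nat_lit 3, nat_lit 1, nat_lit 9, nat_lit 3, nat_lit 0, nat_lit 8, nat_lit 6, nat_lit 5, nat_lit 1, nat_lit 7, nat_lit 4, nat_lit 2, nat_lit 6, nat_lit 4, nat_lit 2])) (.leaf ((nat_lit 0), [nat_lit 0, nat_lit 9, nat_lit 5, nat_lit 3, nat_lit 1, nat_lit 9, nat_lit 3, nat_lit 6, nat_lit 3, nat_lit 8, nat_lit 3, nat_lit 3, nat_lit 3, nat_lit 6, nat_lit 2, nat_lit 4, nat_lit 1]))) (.node (nat_lit 0x6eabf8aaef1e188) (.leaf ((nat_lit 0), [nat_lit 0, nat_lit 9, nat_lit 0, nat_lit 9, nat_lit 7, nat_lit 8, nat_lit 1, nat_lit 8, nat_lit 2, nat_lit 4, nat_lit 7, nat_lit 6, nat_lit 5, nat_lit 6, nat_lit 3, nat_lit 1])) (.node (nat_lit 0x6eac5648abd3dcc) (.leaf ((nat_lit 0), [nat_lit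 5, nat_lit 9, nat_lit 6, nat_lit 0, nat_lit 9, nat_lit 7, nat_lit 1, nat_lit 8, nat_lit 6, nat_lit 5, nat_lit 1, nat_lit 7, nat_lit 3, nat_lit 4, nat_lit 3, nat_lit 3])) (.leaf ((nat_lit 0), [nat_lit 0, nat_lit 7, nat_lit 0, nat_lit 9, nat_lit 1, nat_lit 9, nat_lit 7, nat_lit 5, nat_lit 0, nat_lit 8, nat_lit 6, nat_lit 1, nat_lit 7, nat_lit 6, nat_lit 5, nat_lit 6, nat_lit 5, nat_lit 4, nat_lit 2, nat_lit 2])))))
 (.node (nat_lit 0x6eaff780427d174) (.node (nat_lit 0x6eadca1654b3038) (.leaf ((nat_lit 5), [nat_lit 0, nat_lit 9, nat_lit 1, nat_lit 9, nat_lit 8, nat_lit 5, nat_lit 1, nat_lit 8, nat_lit 0, nat_lit 7, nat_lit 6, nat_lit 2, nat_lit 4, nat_lit 6, nat_lit 4, nat_lit 2, nat_lit 2])) (.leaf ((nat_lit 0), [nat_lit 6, nat_lit 9, nat_lit 2, nat_lit 1, nat_lit 9, nat_lit 7, nat_lit 5, nat_lit 8, nat_lit 0, nat_lit 8, nat_lit 3, nat_lit 4, nat_lit 6, nat_lit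 2, nat_lit 0]))) (.node (nat_lit 0x6eb055186d5fd0c) (.leaf ((nat_lit 0), [nat_lit 0, nat_lit 9, nat_lit 5, nat_lit 3, nat_lit 9, nat_lit 8, nat_lit 2, nat_lit 6, nat_lit 8, nat_lit 7, nat_lit 5, nat_lit 7, nat_lit 0])) (.node (nat_lit 0x6eb225b141fcd6c) (.leaf ((nat_lit 0), [nat_lit 9, nat_lit 0, nat_lit 7, nat_lit 2, nat_lit 9, nat_lit 6, nat_lit 8, nat_lit 7, nat_lit 0, nat_lit 7, nat_lit 3, nat_lit 3, nat_lit 3, nat_lit 6, nat_lit 4])) (.leaf ((nat_lit 0), [nat_lit 0, nat_lit 9, nat_lit 5, nat_lit 3, nat_lit 1, nat_lit 9, nat_lit 6, nat_lit 1, nat_lit 8, nat_lit 6, nat_lit 7, nat_lit 3, nat_lit 3, nat_lit 6, nat_lit 4, nat_lit 3, nat_lit 0]))))))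
 (.node (nat_lit 0x6ebdc505f185748) (.node (nat_lit 0x6eb9c6d6cec60f8) (.node (nat_lit 0x6eb85286b646a98) (.leaf ((nat_lit 0), [nat_lit 0, nat_lit 7, nat_lit 0, nat_lit 9, nat_lit 1, nat_lit 9, nat_lit 4, nat_lit 7, nat_lit 8, nat_lit 1, nat_lit 7, nat_lit 3, nat_lit 3, nat_lit 6, nat_lit 2])) (.leaf ((nat_lit 2), [nat_lit 9, nat_lit 8, nat_lit 2, nat_lit 1, nat_lit 9, nat_lit 2, nat_lit 1, nat_lit 8, nat_lit 1, nat_lit 7, nat_lit 2, nat_lit 4, nat_lit 3, nat_lit 6, nat_lit 5, nat_lit 4, nat_lit 3, nat_lit 1]))) (.node (nat_lit 0x6ebaddb1696a8a4) (.leaf ((nat_lit 0), [nat_lit 9, nat_lit 8, nat_lit 2, nat_lit 1, nat_lit 9, nat_lit 2, nat_lit 7, nat_lit 6, nat_lit 8, nat_lit 1, nat_lit 7, nat_lit 2, nat_lit 4, nat_lit 6, nat_lit 4, nat_lit 1])) (.node (nat_lit 0x6ebbf480b2aafec) (.leaf ((nat_lit 0), [nat_lit 2, nat_lit 9, nat_lit 8, nat_lit 1, nat_lit 9, nat_lit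 2, nat_lit 2, nat_lit 8, nat_lit 4, nat_lit 0, nat_lit 7, nat_lit 3, nat_lit 4, nat_lit 6, nat_lit 5, nat_lit 2, nat_lit 2])) (.leaf ((nat_lit 0), [nat_lit 9, nat_lit 2, nat_lit 9, nat_lit 3, nat_lit 9, nat_lit 8, nat_lit 6, nat_lit 0, nat_lit 7, nat_lit 2, nat_lit 4, nat_lit 3, nat_lit 6, nat_lit 4, nat_lit 1])))))
 (.node (nat_lit 0x6ebedbf6777879c) (.node (nat_lit 0x6ebe7f3ff574a04) (.leaf ((nat_lit 0), [nat_lit 9, nat_lit 8, nat_lit 2, nat_lit 1, nat_lit 9, nat_lit 7, nat_lit 5, nat_lit 8, nat_lit 5, nat_lit 0, nat_lit 7, nat_lit 5, nat_lit 6, nat_lit 4])) (.leaf ((nat_lit 0), [nat_lit 2, nat_lit 7, nat_lit 9, nat_lit 5, nat_lit 9, nat_lit 6, nat_lit 3, nat_lit 8, nat_lit 0, nat_lit 7, nat_lit 5, nat_lit 6, nat_lit 5, nat_lit 3, nat_lit 6, nat_lit 4, nat_lit 3]))) (.node (nat_lit 0x6ec0ad706a97b0c) (.leaf ((nat_lit 0), [nat_lit 0, nat_lit 7, nat_lit 0, nat_lit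 9, nat_lit 1, nat_lit 9, nat_lit 6, nat_lit 2, nat_lit 8, nat_lit 4, nat_lit 0, nat_lit 7, nat_lit 5, nat_lit 4, nat_lit 3, nat_lit 3, nat_lit 0])) (.node (nat_lit 0x6ec6da17b297a98) (.leaf ((nat_lit 0), [nat_lit 0, nat_lit 9, nat_lit 5, nat_lit 3, nat_lit 9, nat_lit 4, nat_lit 8, nat_lit 6, nat_lit 3, nat_lit 8, nat_lit 5, nat_lit 0, nat_lit 7, nat_lit 4, nat_lit 6, nat_lit 5, nat_lit 2])) (.leaf ((nat_lit 0), [nat_lit 9, nat_lit 2, nat_lit 9, nat_lit 3, nat_lit 9, nat_lit 3, nat_lit 8, nat_lit 7, nat_lit 6, nat_lit 3, nat_lit 4, nat_lit 6, nat_lit 5, nat_lit 3, nat_lit 3, nat_lit 1]))))))))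
 (.node (nat_lit 0x6ee673eb46718d8) (.node (nat_lit 0x6ed849c0de742b8) (.node (nat_lit 0x6ecf34ad51d1898) (.node (nat_lit 0x6ecb3632e752be4) (.node (nat_lit 0x6eca1ea69c6bc08) (.leaf ((nat_lit 0), [nat_lit 9, nat_lit 0, nat_lit 7, nat_lit 2, nat_lit 9, nat_lit 3, nat_lit 8, nat_lit 7, nat_lit 5, nat_lit 0, nat_lit 7, nat_lit 5, nat_lit 3, nat_lit 6, nat_lit 5, nat_lit 2, nat_lit 2])) (.leaf ((nat_lit 0), [nat_lit 0, nat_lit 7, nat_lit 0, nat_lit 9, nat_lit 1, nat_lit 9, nat_lit 8, nat_lit 1, nat_lit 8, nat_lit 7, nat_lit 4, nat_lit 2, nat_lit 6, nat_lit 5, nat_lit 2, nat_lit 0]))) (.node (nat_lit 0x6eccaa03cc17a64) (.leaf ((nat_lit 0), [nat_lit 6, nat_lit 9, nat_lit 2, nat_lit 1, nat_lit 9, nat_lit 4, nat_lit 7, nat_lit 6, nat_lit 8, nat_lit 1, nat_lit 7, nat_lit 2, nat_lit 6, nat_lit 3, nat_lit 1])) (.node (nat_lit 0x6ecd6379cc37e9c) (.leaf ((nat_lit 5), [nat_lit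 0, nat_lit 9, nat_lit 5, nat_lit 3, nat_lit 1, nat_lit 9, nat_lit 4, nat_lit 8, nat_lit 1, nat_lit 8, nat_lit 7, nat_lit 5, nat_lit 6, nat_lit 7, nat_lit 5])) (.leaf ((nat_lit 0), [nat_lit 0, nat_lit 9, nat_lit 1, nat_lit 9, nat_lit 3, nat_lit 0, nat_lit 8, nat_lit 5, nat_lit 6, nat_lit 7, nat_lit 5, nat_lit 4, nat_lit 2, nat_lit 0])))))
 (.node (nat_lit 0x6ed561e5c4b9d0c) (.node (nat_lit 0x6ecf9171d7644f4) (.leaf ((nat_lit 0), [nat_lit 0, nat_lit 9, nat_lit 0, nat_lit 9, nat_lit 2, nat_lit 2, nat_lit 8, nat_lit 6, nat_lit 1, nat_lit 7, nat_lit 5, nat_lit 6, nat_lit 2, nat_lit 4, nat_lit 1])) (.leaf ((nat_lit 0), [nat_lit 0, nat_lit 9, nat_lit 5, nat_lit 3, nat_lit 1, nat_lit 9, nat_lit 7, nat_lit 8, nat_lit 5, nat_lit 8, nat_lit 5, nat_lit 6, nat_lit 7, nat_lit 5, nat_lit 6, nat_lit 5, nat_lit 0]))) (.node (nat_lit 0x6ed61b51872d434) (.leaf ((nat_lit 0), [nat_lit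 2, nat_lit 9, nat_lit 8, nat_lit 1, nat_lit 9, nat_lit 8, nat_lit 4, nat_lit 6, nat_lit 8, nat_lit 7, nat_lit 0, nat_lit 7, nat_lit 3, nat_lit 6, nat_lit 2, nat_lit 1])) (.node (nat_lit 0x6ed78f85c6eef04) (.leaf ((nat_lit 0), [nat_lit 0, nat_lit 9, nat_lit 5, nat_lit 3, nat_lit 1, nat_lit 9, nat_lit 5, nat_lit 7, nat_lit 5, nat_lit 8, nat_lit 6, nat_lit 5, nat_lit 7, nat_lit 4, nat_lit 3, nat_lit 6, nat_lit 4, nat_lit 1])) (.leaf ((nat_lit 5), [nat_lit 0, nat_lit 9, nat_lit 0, nat_lit 9, nat_lit 7, nat_lit 2, nat_lit 8, nat_lit 1, nat_lit 7, nat_lit 3, nat_lit 4, nat_lit 0]))))))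
 (.node (nat_lit 0x6edc4838690a644) (.node (nat_lit 0x6ed9bd3cf6074c8) (.node (nat_lit 0x6ed90378fc9e1ec) (.leaf ((nat_lit 0), [nat_lit 2, nat_lit 7, nat_lit 9, nat_lit 5, nat_lit 9, nat_lit 8, nat_lit 1, nat_lit 8, nat_lit 5, nat_lit 6, nat_lit 7, nat_lit 2, nat_lit 4, nat_lit 3, nat_lit 6, nat_lit 4, nat_lit 3, nat_lit 1])) (.leaf ((nat_lit 0), [nat_lit 9, nat_lit 2, nat_lit 9, nat_lit 3, nat_lit 9, nat_lit 8, nat_lit 5, nat_lit 7, nat_lit 5, nat_lit 1, nat_lit 7, nat_lit 6, nat_lit 4, nat_lit 2, nat_lit 6, nat_lit 5, nat_lit 0]))) (.node (nat_lit 0x6edb3140b3513ac) (.leaf ((nat_lit 0), [nat_lit 0, nat_lit 9, nat_lit 1, nat_lit 9, nat_lit 5, nat_lit 8, nat_lit 0, nat_lit 8, nat_lit 7, nat_lit 4, nat_lit 2, nat_lit 6, nat_lit 2, nat_lit 0])) (.node (nat_lit 0x6edbeb7ae4dde78) (.leaf ((nat_lit 0), [nat_lit 9, nat_lit 0, nat_lit 7, nat_lit 2, nat_lit 9, nat_lit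 4, nat_lit 8, nat_lit 0, nat_lit 8, nat_lit 1, nat_lit 7, nat_lit 4, nat_lit 6, nat_lit 4, nat_lit 2])) (.leaf ((nat_lit 0), [nat_lit 0, nat_lit 9, nat_lit 5, nat_lit 3, nat_lit 9, nat_lit 2, nat_lit 7, nat_lit 8, nat_lit 6, nat_lit 0, nat_lit 7, nat_lit 4, nat_lit 6, nat_lit 0])))))
 (.node (nat_lit 0x6ee38c4612c2be4) (.node (nat_lit 0x6ede18e6fa968b4) (.leaf ((nat_lit 0), [nat_lit 0, nat_lit 9, nat_lit 0, nat_lit 9, nat_lit 6, nat_lit 1, nat_lit 8, nat_lit 5, nat_lit 1, nat_lit 7, nat_lit 6, nat_lit 5, nat_lit 3, nat_lit 6, nat_lit 5, nat_lit 4])) (.leaf ((nat_lit 0), [nat_lit 0, nat_lit 7, nat_lit 0, nat_lit 9, nat_lit 1, nat_lit 9, nat_lit 6, nat_lit 7, nat_lit 1, nat_lit 8, nat_lit 7, nat_lit 4, nat_lit 3, nat_lit 3, nat_lit 6, nat_lit 3, nat_lit 4, nat_lit 1]))) (.node (nat_lit 0x6ee4fffbd6a396c) (.leaf ((nat_lit 0), [nat_lit 5, nat_lit 9, nat_lit 6, nat_lit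 0, nat_lit 9, nat_lit 7, nat_lit 1, nat_lit 8, nat_lit 5, nat_lit 6, nat_lit 7, nat_lit 6, nat_lit 4, nat_lit 3, nat_lit 6, nat_lit 5])) (.node (nat_lit 0x6ee55cb8a274ef4) (.leaf ((nat_lit 0), [nat_lit 0, nat_lit 9, nat_lit 1, nat_lit 9, nat_lit 2, nat_lit 7, nat_lit 8, nat_lit 6, nat_lit 1, nat_lit 7, nat_lit 2, nat_lit 4, nat_lit 6, nat_lit 4, nat_lit 2])) (.leaf ((nat_lit 0), [nat_lit 0, nat_lit 9, nat_lit 1, nat_lit 9, nat_lit 3, nat_lit 8, nat_lit 7, nat_lit 1, nat_lit 8, nat_lit 5, nat_lit 1, nat_lit 7, nat_lit 5, nat_lit 3, nat_lit 6, nat_lit 5, nat_lit 2, nat_lit 1])))))))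
 (.node (nat_lit 0x6ef66f1aaaff59c) (.node (nat_lit 0x6eebe6917e74edc) (.node (nat_lit 0x6ee95c4423f1d8c) (.node (nat_lit 0x6ee7e81f57d3a38) (.leaf ((nat_lit 0), [nat_lit 0, nat_lit 9, nat_lit 5, nat_lit 3, nat_lit 1, nat_lit 9, nat_lit 5, nat_lit 0, nat_lit 7, nat_lit 8, nat_lit 3, nat_lit 6, nat_lit 1, nat_lit 7, nat_lit 6, nat_lit 3, nat_lit 4, nat_lit 1])) (.leaf ((nat_lit 2), [nat_lit 9, nat_lit 8, nat_lit 2, nat_lit 1, nat_lit 9, nat_lit 6, nat_lit 1, nat_lit 8, nat_lit 1, nat_lit 7, nat_lit 6, nat_lit 5, nat_lit 2]))) (.node (nat_lit 0x6eeacfb4e9e09c8) (.leaf ((nat_lit 0), [nat_lit 6, nat_lit 9, nat_lit 2, nat_lit 1, nat_lit 9, nat_lit 8, nat_lit 6, nat_lit 3, nat_lit 1, nat_lit 8, nat_lit 0, nat_lit 7, nat_lit 6, nat_lit 2, nat_lit 2, nat_lit 6, nat_lit 2, nat_lit 4, nat_lit 0])) (.node (nat_lit 0x6eeb89f171bb704) (.leaf ((nat_lit 0), [nat_lit 0, nat_lit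 9, nat_lit 5, nat_lit 3, nat_lit 1, nat_lit 9, nat_lit 7, nat_lit 8, nat_lit 6, nat_lit 5, nat_lit 1, nat_lit 7, nat_lit 3, nat_lit 6, nat_lit 5, nat_lit 4, nat_lit 2, nat_lit 0])) (.leaf ((nat_lit 0), [nat_lit 0, nat_lit 9, nat_lit 5, nat_lit 3, nat_lit 9, nat_lit 5, nat_lit 6, nat_lit 8, nat_lit 5, nat_lit 7, nat_lit 4, nat_lit 2, nat_lit 0])))))
 (.node (nat_lit 0x6ef387b42b75d64) (.node (nat_lit 0x6ef2703e55d9348) (.leaf ((nat_lit 0), [nat_lit 2, nat_lit 9, nat_lit 8, nat_lit 1, nat_lit 9, nat_lit 3, nat_lit 6, nat_lit 3, nat_lit 8, nat_lit 4, nat_lit 1, nat_lit 7, nat_lit 2, nat_lit 0])) (.leaf ((nat_lit 0), [nat_lit 0, nat_lit 9, nat_lit 0, nat_lit 9, nat_lit 2, nat_lit 8, nat_lit 6, nat_lit 5, nat_lit 7, nat_lit 3, nat_lit 4, nat_lit 3, nat_lit 3, nat_lit 6, nat_lit 1]))) (.node (nat_lit 0x6ef4416db994298) (.leaf ((nat_lit 0), [nat_lit 9, nat_lit 2, nat_lit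 9, nat_lit 3, nat_lit 9, nat_lit 7, nat_lit 1, nat_lit 8, nat_lit 7, nat_lit 3, nat_lit 4, nat_lit 7, nat_lit 6, nat_lit 4, nat_lit 3, nat_lit 6, nat_lit 5, nat_lit 4, nat_lit 1])) (.node (nat_lit 0x6ef4fbaacb0968c) (.leaf ((nat_lit 0), [nat_lit 2, nat_lit 7, nat_lit 9, nat_lit 5, nat_lit 9, nat_lit 0, nat_lit 8, nat_lit 6, nat_lit 0, nat_lit 7, nat_lit 6, nat_lit 5, nat_lit 6, nat_lit 5, nat_lit 4, nat_lit 3, nat_lit 1])) (.leaf ((nat_lit 3), [nat_lit 7, nat_lit 1, nat_lit 8, nat_lit 7, nat_lit 1, nat_lit 7, nat_lit 3, nat_lit 6, nat_lit 4, nat_lit 3, nat_lit 3]))))))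
 (.node (nat_lit 0x6f026bbb2a15248) (.node (nat_lit 0x6efa6eaca4484e4) (.node (nat_lit 0x6ef8407dfb16718) (.leaf ((nat_lit 0), [nat_lit 0, nat_lit 9, nat_lit 5, nat_lit 3, nat_lit 1, nat_lit 9, nat_lit 7, nat_lit 8, nat_lit 6, nat_lit 1, nat_lit 7, nat_lit 4, nat_lit 6, nat_lit 5, nat_lit 3, nat_lit 3])) (.leaf ((nat_lit 0), [nat_lit 9, nat_lit 2, nat_lit 9, nat_lit 3, nat_lit 9, nat_lit 8, nat_lit 6, nat_lit 1, nat_lit 7, nat_lit 6, nat_lit 5, nat_lit 6, nat_lit 5, nat_lit 4, nat_lit 0]))) (.node (nat_lit 0x6efb2825285439c) (.leaf ((nat_lit 0), [nat_lit 0, nat_lit 9, nat_lit 5, nat_lit 3, nat_lit 1, nat_lit 9, nat_lit 5, nat_lit 2, nat_lit 8, nat_lit 2, nat_lit 4, nat_lit 7, nat_lit 4, nat_lit 6, nat_lit 5, nat_lit 3, nat_lit 4, nat_lit 0])) (.node (nat_lit 0x6f00f813c620d2c) (.leaf ((nat_lit 0), [nat_lit 2, nat_lit 7, nat_lit 9, nat_lit 5, nat_lit 9, nat_lit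 0, nat_lit 8, nat_lit 5, nat_lit 7, nat_lit 5, nat_lit 6, nat_lit 5, nat_lit 3, nat_lit 6, nat_lit 5, nat_lit 2, nat_lit 4, nat_lit 0])) (.leaf ((nat_lit 0), [nat_lit 6, nat_lit 9, nat_lit 2, nat_lit 1, nat_lit 9, nat_lit 6, nat_lit 7, nat_lit 2, nat_lit 1, nat_lit 8, nat_lit 5, nat_lit 0, nat_lit 7, nat_lit 4, nat_lit 6, nat_lit 5, nat_lit 3])))))
 (.node (nat_lit 0x6f04f6e6f191584) (.node (nat_lit 0x6f02c944f56c34c) (.leaf ((nat_lit 0), [nat_lit 6, nat_lit 9, nat_lit 2, nat_lit 1, nat_lit 9, nat_lit 7, nat_lit 5, nat_lit 6, nat_lit 8, nat_lit 7, nat_lit 0, nat_lit 7, nat_lit 4, nat_lit 6, nat_lit 3, nat_lit 3])) (.leaf ((nat_lit 0), [nat_lit 0, nat_lit 9, nat_lit 5, nat_lit 3, nat_lit 9, nat_lit 6, nat_lit 8, nat_lit 7, nat_lit 0, nat_lit 7, nat_lit 6, nat_lit 4, nat_lit 3, nat_lit 6, nat_lit 3, nat_lit 4]))) (.node (nat_lit 0x6f05b12b32cc778) (.leaf ((nat_lit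 0), [nat_lit 0, nat_lit 9, nat_lit 5, nat_lit 3, nat_lit 1, nat_lit 9, nat_lit 6, nat_lit 5, nat_lit 7, nat_lit 4, nat_lit 3, nat_lit 3, nat_lit 6, nat_lit 4])) (.node (nat_lit 0x6f066abdc405f34) (.leaf ((nat_lit 0), [nat_lit 0, nat_lit 9, nat_lit 5, nat_lit 3, nat_lit 9, nat_lit 7, nat_lit 5, nat_lit 8, nat_lit 1, nat_lit 8, nat_lit 1, nat_lit 7, nat_lit 5, nat_lit 3, nat_lit 6, nat_lit 5, nat_lit 2, nat_lit 4, nat_lit 2])) (.leaf ((nat_lit 0), [nat_lit 0, nat_lit 9, nat_lit 1, nat_lit 9, nat_lit 4, nat_lit 7, nat_lit 8, nat_lit 6, nat_lit 3, nat_lit 3, nat_lit 6, nat_lit 5, nat_lit 0])))))))))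
 (.node (nat_lit 0x6f4c725c7a4ffb4) (.node (nat_lit 0x6f2708b7edd2414) (.node (nat_lit 0x6f16b047536fc40) (.node (nat_lit 0x6f10b71786073b0) (.node (nat_lit 0x6f095329510f778) (.node (nat_lit 0x6f0898ec9b9722c) (.leaf ((nat_lit 0), [nat_lit 0, nat_lit 9, nat_lit 5, nat_lit 3, nat_lit 1, nat_lit 9, nat_lit 7, nat_lit 0, nat_lit 8, nat_lit 4, nat_lit 0, nat_lit 7, nat_lit 5, nat_lit 2, nat_lit 2, nat_lit 0])) (.leaf ((nat_lit 3), [nat_lit 6, nat_lit 2, nat_lit 1, nat_lit 8, nat_lit 4, nat_lit 2, nat_lit 2, nat_lit 6, nat_lit 4, nat_lit 3, nat_lit 3]))) (.node (nat_lit 0x6f09afd05ff1984) (.leaf ((nat_lit 0), [nat_lit 0, nat_lit 9, nat_lit 1, nat_lit 9, nat_lit 7, nat_lit 1, nat_lit 7, nat_lit 8, nat_lit 7, nat_lit 5, nat_lit 7, nat_lit 5, nat_lit 6, nat_lit 4, nat_lit 3])) (.node (nat_lit 0x6f105a2dfd86eb4) (.leaf ((nat_lit 0), [nat_lit 5, nat_lit 9, nat_lit 6,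 nat_lit 0, nat_lit 9, nat_lit 8, nat_lit 3, nat_lit 1, nat_lit 8, nat_lit 5, nat_lit 0, nat_lit 7, nat_lit 0])) (.leaf ((nat_lit 3), [nat_lit 0, nat_lit 7, nat_lit 0, nat_lit 9, nat_lit 1, nat_lit 9, nat_lit 3, nat_lit 5, nat_lit 8, nat_lit 6, nat_lit 5, nat_lit 7, nat_lit 2, nat_lit 6, nat_lit 3, nat_lit 3])))))
 (.node (nat_lit 0x6f15ccdc4b53a84) (.node (nat_lit 0x6f130e9fe2e21a8) (.leaf ((nat_lit 0), [nat_lit 1, nat_lit 8, nat_lit 1, nat_lit 7, nat_lit 3, nat_lit 3, nat_lit 6, nat_lit 3, nat_lit 4, nat_lit 3])) (.leaf ((nat_lit 2), [nat_lit 5, nat_lit 6, nat_lit 8, nat_lit 6, nat_lit 2, nat_lit 4, nat_lit 7, nat_lit 6, nat_lit 5, nat_lit 6, nat_lit 5, nat_lit 4, nat_lit 3, nat_lit 0]))) (.node (nat_lit 0x6f16b039d9ce9ec) (.leaf ((nat_lit 3), [nat_lit 2, nat_lit 2, nat_lit 9, nat_lit 0, nat_lit 9, nat_lit 3, nat_lit 8, nat_lit 7, nat_lit 1, nat_lit 8, nat_lit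 7, nat_lit 1, nat_lit 7, nat_lit 3, nat_lit 4, nat_lit 6, nat_lit 2, nat_lit 2, nat_lit 0])) (.node (nat_lit 0x6f16b041c196534) (.leaf ((nat_lit 3), [nat_lit 2, nat_lit 2, nat_lit 9, nat_lit 1, nat_lit 9, nat_lit 7, nat_lit 8, nat_lit 1, nat_lit 8, nat_lit 5, nat_lit 1, nat_lit 7, nat_lit 3, nat_lit 3, nat_lit 6, nat_lit 0])) (.leaf ((nat_lit 6), [nat_lit 5, nat_lit 2, nat_lit 2, nat_lit 9, nat_lit 6, nat_lit 5, nat_lit 2, nat_lit 8, nat_lit 3, nat_lit 6, nat_lit 7, nat_lit 4, nat_lit 2, nat_lit 6, nat_lit 0]))))))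
 (.node (nat_lit 0x6f236730a65574c) (.node (nat_lit 0x6f18de7bd11dd60) (.node (nat_lit 0x6f188186f6ffea0) (.leaf ((nat_lit 2), [nat_lit 1, nat_lit 9, nat_lit 5, nat_lit 9, nat_lit 2, nat_lit 6, nat_lit 3, nat_lit 8, nat_lit 6, nat_lit 2, nat_lit 4, nat_lit 6, nat_lit 5, nat_lit 4, nat_lit 3, nat_lit 0])) (.leaf ((nat_lit 1), [nat_lit 6, nat_lit 9, nat_lit 5, nat_lit 3, nat_lit 1, nat_lit 9, nat_lit 7, nat_lit 2, nat_lit 8, nat_lit 7, nat_lit 5, nat_lit 6, nat_lit 7, nat_lit 2, nat_lit 6, nat_lit 3, nat_lit 3, nat_lit 0]))) (.node (nat_lit 0x6f210f859c8c75c) (.leaf ((nat_lit 1), [nat_lit 2, nat_lit 2, nat_lit 9, nat_lit 0, nat_lit 9, nat_lit 8, nat_lit 0, nat_lit 7, nat_lit 8, nat_lit 5, nat_lit 6, nat_lit 7, nat_lit 4, nat_lit 6, nat_lit 1])) (.node (nat_lit 0x6f230a138d683d4) (.leaf ((nat_lit 3), [nat_lit 9, nat_lit 7, nat_lit 5, nat_lit 0, nat_lit 9, nat_lit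 3, nat_lit 8, nat_lit 7, nat_lit 6, nat_lit 2, nat_lit 4, nat_lit 6, nat_lit 3, nat_lit 3, nat_lit 3])) (.leaf ((nat_lit 0), [nat_lit 0, nat_lit 8, nat_lit 1, nat_lit 7, nat_lit 3, nat_lit 4, nat_lit 3, nat_lit 3, nat_lit 1])))))
 (.node (nat_lit 0x6f247e274808f0c) (.node (nat_lit 0x6f24211cb09aab4) (.leaf ((nat_lit 2), [nat_lit 1, nat_lit 9, nat_lit 1, nat_lit 9, nat_lit 1, nat_lit 8, nat_lit 1, nat_lit 8, nat_lit 5, nat_lit 7, nat_lit 5, nat_lit 1, nat_lit 7, nat_lit 5, nat_lit 4, nat_lit 3, nat_lit 3, nat_lit 0])) (.leaf ((nat_lit 0), [nat_lit 3, nat_lit 6, nat_lit 1, nat_lit 7, nat_lit 2, nat_lit 2, nat_lit 6, nat_lit 5, nat_lit 3, nat_lit 4, nat_lit 3]))) (.node (nat_lit 0x6f268273565f9f0) (.leaf ((nat_lit 0), [nat_lit 7, nat_lit 5, nat_lit 1, nat_lit 8, nat_lit 5, nat_lit 7, nat_lit 3, nat_lit 4, nat_lit 6, nat_lit 2, nat_lit 0])) (.node (nat_lit 0x6f2708b00620694)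 (.leaf ((nat_lit 0), [nat_lit 3, nat_lit 6, nat_lit 2, nat_lit 1, nat_lit 8, nat_lit 6, nat_lit 2, nat_lit 4, nat_lit 2, nat_lit 1])) (.leaf ((nat_lit 3), [nat_lit 6, nat_lit 9, nat_lit 5, nat_lit 3, nat_lit 1, nat_lit 9, nat_lit 8, nat_lit 2, nat_lit 6, nat_lit 3, nat_lit 8, nat_lit 6, nat_lit 5, nat_lit 7, nat_lit 4, nat_lit 2, nat_lit 6, nat_lit 1])))))))
 (.node (nat_lit 0x6f367dd8cf588dc) (.node (nat_lit 0x6f324b511395204) (.node (nat_lit 0x6f2ea9bf325faa4) (.node (nat_lit 0x6f2708bd7facf08) (.leaf ((nat_lit 6), [nat_lit 6, nat_lit 9, nat_lit 5, nat_lit 9, nat_lit 4, nat_lit 7, nat_lit 8, nat_lit 7, nat_lit 2, nat_lit 4, nat_lit 7])) (.leaf ((nat_lit 2), [nat_lit 6, nat_lit 9, nat_lit 2, nat_lit 1, nat_lit 9, nat_lit 2, nat_lit 1, nat_lit 8, nat_lit 6, nat_lit 5, nat_lit 7, nat_lit 6, nat_lit 3, nat_lit 3, nat_lit 6, nat_lit 5, nat_lit 0]))) (.node (nat_lit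 0x6f310af6c326ac4) (.leaf ((nat_lit 1), [nat_lit 0, nat_lit 7, nat_lit 0, nat_lit 9, nat_lit 1, nat_lit 9, nat_lit 1, nat_lit 8, nat_lit 0, nat_lit 7, nat_lit 6, nat_lit 5, nat_lit 4, nat_lit 3, nat_lit 0])) (.node (nat_lit 0x6f31680f8c29ca4) (.leaf ((nat_lit 1), [nat_lit 6, nat_lit 9, nat_lit 5, nat_lit 3, nat_lit 1, nat_lit 9, nat_lit 5, nat_lit 7, nat_lit 8, nat_lit 3, nat_lit 6, nat_lit 7, nat_lit 6, nat_lit 4, nat_lit 2, nat_lit 6, nat_lit 5, nat_lit 4, nat_lit 3])) (.leaf ((nat_lit 0), [nat_lit 1, nat_lit 7, nat_lit 8, nat_lit 6, nat_lit 5, nat_lit 6, nat_lit 7, nat_lit 3, nat_lit 6, nat_lit 5, nat_lit 3, nat_lit 4, nat_lit 1])))))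
 (.node (nat_lit 0x6f324b5e8d128c0) (.node (nat_lit 0x6f324b58fb4de6c) (.leaf ((nat_lit 3), [nat_lit 2, nat_lit 7, nat_lit 9, nat_lit 5, nat_lit 9, nat_lit 3, nat_lit 0, nat_lit 8, nat_lit 4, nat_lit 3, nat_lit 3, nat_lit 6, nat_lit 4, nat_lit 2, nat_lit 2, nat_lit 1])) (.leaf ((nat_lit 6), [nat_lit 6, nat_lit 7, nat_lit 2, nat_lit 9, nat_lit 7, nat_lit 1, nat_lit 7, nat_lit 8, nat_lit 4, nat_lit 6, nat_lit 2, nat_lit 4, nat_lit 3, nat_lit 0]))) (.node (nat_lit 0x6f34798e02f76f4) (.leaf ((nat_lit 2), [nat_lit 0, nat_lit 7, nat_lit 0, nat_lit 9, nat_lit 1, nat_lit 9, nat_lit 3, nat_lit 6, nat_lit 3, nat_lit 8, nat_lit 7, nat_lit 5, nat_lit 7, nat_lit 2, nat_lit 6, nat_lit 3, nat_lit 4])) (.node (nat_lit 0x6f3620df77584b8) (.leaf ((nat_lit 2), [nat_lit 6, nat_lit 2, nat_lit 8, nat_lit 5, nat_lit 6, nat_lit 7, nat_lit 6, nat_lit 4, nat_lit 3, nat_lit 6, nat_lit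 2, nat_lit 4, nat_lit 3, nat_lit 1])) (.leaf ((nat_lit 1), [nat_lit 6, nat_lit 9, nat_lit 2, nat_lit 1, nat_lit 9, nat_lit 7, nat_lit 2, nat_lit 8, nat_lit 7, nat_lit 5, nat_lit 7, nat_lit 5, nat_lit 4]))))))
 (.node (nat_lit 0x6f40d2c43ccff80) (.node (nat_lit 0x6f3c4d8a56fa824) (.node (nat_lit 0x6f3bf0829f5f4dc) (.leaf ((nat_lit 1), [nat_lit 7, nat_lit 9, nat_lit 2, nat_lit 1, nat_lit 9, nat_lit 6, nat_lit 2, nat_lit 8, nat_lit 6, nat_lit 7, nat_lit 4, nat_lit 3, nat_lit 3, nat_lit 6, nat_lit 3, nat_lit 3])) (.leaf ((nat_lit 3), [nat_lit 2, nat_lit 2, nat_lit 9, nat_lit 1, nat_lit 9, nat_lit 7, nat_lit 8, nat_lit 0, nat_lit 8, nat_lit 7, nat_lit 6, nat_lit 2, nat_lit 2, nat_lit 6, nat_lit 5]))) (.node (nat_lit 0x6f3e4825c1765e0) (.leaf ((nat_lit 0), [nat_lit 6, nat_lit 2, nat_lit 8, nat_lit 7, nat_lit 5, nat_lit 7, nat_lit 5, nat_lit 6, nat_lit 4, nat_lit 2,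 nat_lit 0])) (.node (nat_lit 0x6f40d2be7cf0400) (.leaf ((nat_lit 2), [nat_lit 7, nat_lit 4, nat_lit 9, nat_lit 1, nat_lit 9, nat_lit 6, nat_lit 3, nat_lit 8, nat_lit 4, nat_lit 3, nat_lit 3, nat_lit 0])) (.leaf ((nat_lit 3), [nat_lit 7, nat_lit 9, nat_lit 2, nat_lit 1, nat_lit 9, nat_lit 5, nat_lit 8, nat_lit 2, nat_lit 1, nat_lit 8, nat_lit 5, nat_lit 6, nat_lit 5, nat_lit 2])))))
 (.node (nat_lit 0x6f416372533eeb0) (.node (nat_lit 0x6f40d2cc5288008) (.leaf ((nat_lit 6), [nat_lit 7, nat_lit 4, nat_lit 9, nat_lit 1, nat_lit 9, nat_lit 3, nat_lit 7, nat_lit 8, nat_lit 5, nat_lit 6, nat_lit 7, nat_lit 4, nat_lit 2, nat_lit 6, nat_lit 4, nat_lit 0])) (.leaf ((nat_lit 2), [nat_lit 1, nat_lit 9, nat_lit 5, nat_lit 9, nat_lit 1, nat_lit 7, nat_lit 6, nat_lit 5, nat_lit 6, nat_lit 3, nat_lit 4, nat_lit 3, nat_lit 3]))) (.node (nat_lit 0x6f41c07786e03f8) (.leaf ((nat_lit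 1), [nat_lit 9, nat_lit 7, nat_lit 5, nat_lit 0, nat_lit 9, nat_lit 5, nat_lit 2, nat_lit 8, nat_lit 4, nat_lit 0, nat_lit 7, nat_lit 3, nat_lit 6, nat_lit 4, nat_lit 2, nat_lit 1])) (.node (nat_lit 0x6f44d1fbbd8dca0) (.leaf ((nat_lit 1), [nat_lit 0, nat_lit 7, nat_lit 0, nat_lit 9, nat_lit 1, nat_lit 9, nat_lit 3, nat_lit 7, nat_lit 0, nat_lit 8, nat_lit 1, nat_lit 7, nat_lit 2, nat_lit 2, nat_lit 6, nat_lit 1])) (.leaf ((nat_lit 0), [nat_lit 2, nat_lit 6, nat_lit 8, nat_lit 5, nat_lit 7, nat_lit 5, nat_lit 1, nat_lit 7, nat_lit 6, nat_lit 5, nat_lit 4, nat_lit 3]))))))))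
 (.node (nat_lit 0x6f69ded4667e1cc) (.node (nat_lit 0x6f5ccad2a69a214) (.node (nat_lit 0x6f4f5a8de5cfa4c) (.node (nat_lit 0x6f4c726a4fe6aac) (.node (nat_lit 0x6f4c72623a19a94) (.leaf ((nat_lit 6), [nat_lit 2, nat_lit 7, nat_lit 9, nat_lit 1, nat_lit 7, nat_lit 8, nat_lit 5, nat_lit 6, nat_lit 7, nat_lit 2, nat_lit 4, nat_lit 3, nat_lit 6, nat_lit 5, nat_lit 3, nat_lit 4, nat_lit 0])) (.leaf ((nat_lit 2), [nat_lit 2, nat_lit 2, nat_lit 9, nat_lit 0, nat_lit 9, nat_lit 1, nat_lit 8, nat_lit 6, nat_lit 1, nat_lit 8, nat_lit 5, nat_lit 7, nat_lit 5, nat_lit 3]))) (.node (nat_lit 0x6f4ca5f83f8ef74) (.leaf ((nat_lit 3), [nat_lit 2, nat_lit 9, nat_lit 3, nat_lit 5, nat_lit 9, nat_lit 5, nat_lit 2, nat_lit 8, nat_lit 7, nat_lit 0, nat_lit 7, nat_lit 6, nat_lit 5, nat_lit 3, nat_lit 6, nat_lit 3, nat_lit 3])) (.node (nat_lit 0x6f4efd903ddc7cc) (.leaf ((nat_lit 3), [nat_lit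 2, nat_lit 7, nat_lit 9, nat_lit 5, nat_lit 9, nat_lit 1, nat_lit 8, nat_lit 1, nat_lit 8, nat_lit 7, nat_lit 6, nat_lit 3, nat_lit 4, nat_lit 0])) (.leaf ((nat_lit 2), [nat_lit 5, nat_lit 9, nat_lit 2, nat_lit 1, nat_lit 9, nat_lit 5, nat_lit 0, nat_lit 8, nat_lit 7, nat_lit 5, nat_lit 7, nat_lit 6, nat_lit 3, nat_lit 3, nat_lit 3])))))
 (.node (nat_lit 0x6f5219056a72234) (.node (nat_lit 0x6f5014adae725b4) (.leaf ((nat_lit 0), [nat_lit 2, nat_lit 1, nat_lit 8, nat_lit 3, nat_lit 6, nat_lit 7, nat_lit 2, nat_lit 4, nat_lit 6, nat_lit 5, nat_lit 4, nat_lit 1])) (.leaf ((nat_lit 2), [nat_lit 1, nat_lit 9, nat_lit 0, nat_lit 9, nat_lit 8, nat_lit 1, nat_lit 7, nat_lit 8, nat_lit 7, nat_lit 2, nat_lit 4, nat_lit 7, nat_lit 6, nat_lit 3, nat_lit 3, nat_lit 1]))) (.node (nat_lit 0x6f5a402c4380774) (.leaf ((nat_lit 3), [nat_lit 6, nat_lit 9, nat_lit 2, nat_lit 1, nat_lit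 9, nat_lit 3, nat_lit 8, nat_lit 2, nat_lit 2, nat_lit 6, nat_lit 5, nat_lit 2, nat_lit 4, nat_lit 3, nat_lit 0])) (.node (nat_lit 0x6f5a9d33fb05e60) (.leaf ((nat_lit 1), [nat_lit 2, nat_lit 9, nat_lit 3, nat_lit 5, nat_lit 9, nat_lit 1, nat_lit 8, nat_lit 3, nat_lit 6, nat_lit 1, nat_lit 7, nat_lit 3, nat_lit 4])) (.leaf ((nat_lit 0), [nat_lit 3, nat_lit 3, nat_lit 8, nat_lit 4, nat_lit 0, nat_lit 7, nat_lit 4, nat_lit 6, nat_lit 5, nat_lit 4, nat_lit 2, nat_lit 1]))))))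
 (.node (nat_lit 0x6f60100dc39e424) (.node (nat_lit 0x6f5ccae07c1c32c) (.node (nat_lit 0x6f5ccad86673184) (.leaf ((nat_lit 2), [nat_lit 3, nat_lit 7, nat_lit 8, nat_lit 5, nat_lit 1, nat_lit 7, nat_lit 4, nat_lit 6, nat_lit 5, nat_lit 2, nat_lit 1])) (.leaf ((nat_lit 3), [nat_lit 6, nat_lit 9, nat_lit 2, nat_lit 1, nat_lit 9, nat_lit 4, nat_lit 3, nat_lit 8, nat_lit 5, nat_lit 6, nat_lit 5, nat_lit 2, nat_lit 2, nat_lit 0]))) (.node (nat_lit 0x6f5cfe7e9741fb8) (.leaf ((nat_lit 6), [nat_lit 8, nat_lit 7, nat_lit 9, nat_lit 8, nat_lit 2, nat_lit 6, nat_lit 3, nat_lit 8, nat_lit 3, nat_lit 6, nat_lit 2, nat_lit 4, nat_lit 3, nat_lit 1])) (.node (nat_lit 0x6f5d5b78d53acc4) (.leaf ((nat_lit 1), [nat_lit 6, nat_lit 9, nat_lit 2, nat_lit 1, nat_lit 9, nat_lit 5, nat_lit 8, nat_lit 7, nat_lit 5, nat_lit 7, nat_lit 5, nat_lit 6, nat_lit 5, nat_lit 4, nat_lit 2])) (.leaf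 ((nat_lit 0), [nat_lit 2, nat_lit 5, nat_lit 8, nat_lit 4, nat_lit 7, nat_lit 6, nat_lit 4, nat_lit 2, nat_lit 1])))))
 (.node (nat_lit 0x6f621466c1851dc) (.node (nat_lit 0x6f606d18b71060c) (.leaf ((nat_lit 1), [nat_lit 0, nat_lit 7, nat_lit 0, nat_lit 9, nat_lit 1, nat_lit 9, nat_lit 5, nat_lit 7, nat_lit 5, nat_lit 7, nat_lit 3, nat_lit 3, nat_lit 6, nat_lit 2, nat_lit 4, nat_lit 0])) (.leaf ((nat_lit 1), [nat_lit 2, nat_lit 9, nat_lit 3, nat_lit 5, nat_lit 9, nat_lit 4, nat_lit 6, nat_lit 8, nat_lit 1, nat_lit 7, nat_lit 6, nat_lit 5, nat_lit 3, nat_lit 6, nat_lit 2, nat_lit 4, nat_lit 1]))) (.node (nat_lit 0x6f62715357ed864) (.leaf ((nat_lit 0), [nat_lit 0, nat_lit 7, nat_lit 2, nat_lit 4, nat_lit 6, nat_lit 4, nat_lit 3, nat_lit 3, nat_lit 3])) (.node (nat_lit 0x6f695831678ddf0) (.leaf ((nat_lit 0), [nat_lit 5, nat_lit 7, nat_lit 8, nat_lit 7, nat_lit 5,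 nat_lit 7, nat_lit 4, nat_lit 6, nat_lit 5, nat_lit 2, nat_lit 4])) (.leaf ((nat_lit 3), [nat_lit 7, nat_lit 9, nat_lit 2, nat_lit 1, nat_lit 9, nat_lit 8, nat_lit 6, nat_lit 3, nat_lit 8, nat_lit 6, nat_lit 5, nat_lit 1, nat_lit 7, nat_lit 5, nat_lit 6, nat_lit 5, nat_lit 2, nat_lit 2, nat_lit 0])))))))
 (.node (nat_lit 0x6f77ac2b1c8982c) (.node (nat_lit 0x6f6cf9f7a5a3030) (.node (nat_lit 0x6f6c697c398bf94) (.node (nat_lit 0x6f6a3bc5d6cd814) (.leaf ((nat_lit 1), [nat_lit 7, nat_lit 9, nat_lit 2, nat_lit 1, nat_lit 9, nat_lit 7, nat_lit 0, nat_lit 8, nat_lit 5, nat_lit 6, nat_lit 5, nat_lit 2, nat_lit 4, nat_lit 1])) (.leaf ((nat_lit 0), [nat_lit 8, nat_lit 6, nat_lit 3, nat_lit 8, nat_lit 5, nat_lit 1, nat_lit 7, nat_lit 1]))) (.node (nat_lit 0x6f6c6984ab5d5c4) (.leaf ((nat_lit 3), [nat_lit 2, nat_lit 2, nat_lit 9, nat_lit 0, nat_lit 9, nat_lit 5, nat_lit 8,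 nat_lit 3, nat_lit 6, nat_lit 7, nat_lit 6, nat_lit 2, nat_lit 4, nat_lit 6, nat_lit 3, nat_lit 3, nat_lit 1])) (.node (nat_lit 0x6f6c698a0f2a640) (.leaf ((nat_lit 3), [nat_lit 0, nat_lit 7, nat_lit 0, nat_lit 9, nat_lit 1, nat_lit 9, nat_lit 4, nat_lit 0, nat_lit 7, nat_lit 8, nat_lit 5, nat_lit 7, nat_lit 6, nat_lit 3, nat_lit 4, nat_lit 6, nat_lit 5, nat_lit 4, nat_lit 3])) (.leaf ((nat_lit 3), [nat_lit 9, nat_lit 7, nat_lit 5, nat_lit 0, nat_lit 9, nat_lit 2, nat_lit 7, nat_lit 6, nat_lit 8, nat_lit 3, nat_lit 4, nat_lit 6, nat_lit 3, nat_lit 4])))))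
 (.node (nat_lit 0x6f717f6dd00ae24) (.node (nat_lit 0x6f7122686e4ebf4) (.leaf ((nat_lit 3), [nat_lit 6, nat_lit 9, nat_lit 5, nat_lit 3, nat_lit 1, nat_lit 9, nat_lit 3, nat_lit 0, nat_lit 8, nat_lit 6, nat_lit 0, nat_lit 7, nat_lit 6, nat_lit 3, nat_lit 4, nat_lit 3, nat_lit 3, nat_lit 1])) (.leaf ((nat_lit 1), [nat_lit 2, nat_lit 2, nat_lit 9, nat_lit 1, nat_lit 9, nat_lit 5, nat_lit 6, nat_lit 8, nat_lit 5, nat_lit 1, nat_lit 7, nat_lit 5, nat_lit 6, nat_lit 5, nat_lit 4, nat_lit 2]))) (.node (nat_lit 0x6f77ac1d4700f48) (.leaf ((nat_lit 1), [nat_lit 6, nat_lit 9, nat_lit 2, nat_lit 1, nat_lit 9, nat_lit 2, nat_lit 6, nat_lit 1, nat_lit 8, nat_lit 3, nat_lit 4, nat_lit 7, nat_lit 5, nat_lit 3, nat_lit 6, nat_lit 4, nat_lit 2, nat_lit 0])) (.node (nat_lit 0x6f77ac25b8c352c) (.leaf ((nat_lit 2), [nat_lit 2, nat_lit 2, nat_lit 9, nat_lit 0, nat_lit 9, nat_lit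 8, nat_lit 4, nat_lit 6, nat_lit 8, nat_lit 5, nat_lit 0, nat_lit 7, nat_lit 3, nat_lit 4, nat_lit 0])) (.leaf ((nat_lit 2), [nat_lit 1, nat_lit 7, nat_lit 8, nat_lit 5, nat_lit 7, nat_lit 5, nat_lit 7, nat_lit 4, nat_lit 2, nat_lit 6, nat_lit 4, nat_lit 3, nat_lit 3]))))))
 (.node (nat_lit 0x6f8579dabcbf428) (.node (nat_lit 0x6f7a94552a3e160) (.node (nat_lit 0x6f7a0db4af39804) (.leaf ((nat_lit 2), [nat_lit 7, nat_lit 8, nat_lit 7, nat_lit 0, nat_lit 8, nat_lit 7, nat_lit 5, nat_lit 1, nat_lit 7, nat_lit 3, nat_lit 6, nat_lit 5, nat_lit 2, nat_lit 4, nat_lit 1])) (.leaf ((nat_lit 1), [nat_lit 2, nat_lit 2, nat_lit 9, nat_lit 1, nat_lit 9, nat_lit 3, nat_lit 8, nat_lit 4, nat_lit 1, nat_lit 7, nat_lit 6, nat_lit 3, nat_lit 3, nat_lit 6, nat_lit 5, nat_lit 2, nat_lit 4, nat_lit 3]))) (.node (nat_lit 0x6f7d1f0b7157ed4) (.leaf ((nat_lit 2), [nat_lit 9, nat_lit 2,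 nat_lit 6, nat_lit 9, nat_lit 3, nat_lit 3, nat_lit 8, nat_lit 4, nat_lit 0, nat_lit 7, nat_lit 6, nat_lit 3, nat_lit 4, nat_lit 6, nat_lit 2, nat_lit 0])) (.node (nat_lit 0x6f7d525b227dcc4) (.leaf ((nat_lit 0), [nat_lit 8, nat_lit 0, nat_lit 8, nat_lit 5, nat_lit 0, nat_lit 7, nat_lit 3, nat_lit 6, nat_lit 4, nat_lit 2])) (.leaf ((nat_lit 0), [nat_lit 1, nat_lit 8, nat_lit 5, nat_lit 7, nat_lit 5, nat_lit 7, nat_lit 4, nat_lit 2, nat_lit 2, nat_lit 6])))))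
 (.node (nat_lit 0x6f880493734b314) (.node (nat_lit 0x6f85d6ee4feb2f4) (.leaf ((nat_lit 2), [nat_lit 3, nat_lit 9, nat_lit 2, nat_lit 1, nat_lit 9, nat_lit 8, nat_lit 7, nat_lit 0, nat_lit 8, nat_lit 5, nat_lit 7, nat_lit 4, nat_lit 2, nat_lit 6, nat_lit 5, nat_lit 4, nat_lit 1])) (.leaf ((nat_lit 0), [nat_lit 3, nat_lit 6, nat_lit 8, nat_lit 4, nat_lit 0, nat_lit 7, nat_lit 3, nat_lit 6, nat_lit 3, nat_lit 0]))) (.node (nat_lit 0x6f88049be4f8c40) (.leaf ((nat_lit 6), [nat_lit 2, nat_lit 2, nat_lit 9, nat_lit 1, nat_lit 9, nat_lit 5, nat_lit 8, nat_lit 7, nat_lit 5, nat_lit 1, nat_lit 7, nat_lit 4, nat_lit 3, nat_lit 3, nat_lit 6, nat_lit 2])) (.node (nat_lit 0x6f8804a148d4e74) (.leaf ((nat_lit 6), [nat_lit 2, nat_lit 6, nat_lit 3, nat_lit 8, nat_lit 7, nat_lit 0, nat_lit 7, nat_lit 6, nat_lit 5, nat_lit 4, nat_lit 2, nat_lit 1])) (.leaf ((nat_lit 6), [nat_lit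 3, nat_lit 1, nat_lit 9, nat_lit 6, nat_lit 3, nat_lit 8, nat_lit 4, nat_lit 0, nat_lit 7, nat_lit 6, nat_lit 2, nat_lit 2, nat_lit 6, nat_lit 3, nat_lit 4, nat_lit 3, nat_lit 1]))))))))))
 (.node (nat_lit 0x7e87ba827d31d80) (.node (nat_lit 0x7e475c30fed09e4) (.node (nat_lit 0x7e20219c7abf264) (.node (nat_lit 0x7e0b6d3febd1ea8) (.node (nat_lit 0x7e0a69ed0b04dd4) (.node (nat_lit 0x6f8d1a7f49dc6e8) (.node (nat_lit 0x6f8a0905ace6384) (.leaf ((nat_lit 0), [nat_lit 7, nat_lit 8, nat_lit 1, nat_lit 8, nat_lit 7, nat_lit 6, nat_lit 5, nat_lit 3, nat_lit 3, nat_lit 1])) (.leaf ((nat_lit 3), [nat_lit 2, nat_lit 9, nat_lit 3, nat_lit 5, nat_lit 9, nat_lit 1, nat_lit 7, nat_lit 8, nat_lit 5, nat_lit 7, nat_lit 5, nat_lit 7, nat_lit 4, nat_lit 6, nat_lit 5, nat_lit 3, nat_lit 3, nat_lit 0]))) (.node (nat_lit 0x6f8d4ddca285d30) (.leaf ((nat_lit 2), [nat_lit 7, nat_lit 0,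 nat_lit 9, nat_lit 1, nat_lit 9, nat_lit 3, nat_lit 1, nat_lit 8, nat_lit 5, nat_lit 7, nat_lit 5, nat_lit 0, nat_lit 7, nat_lit 6, nat_lit 4, nat_lit 2, nat_lit 6, nat_lit 2])) (.node (nat_lit 0x6f8daae1a83d7dc) (.leaf ((nat_lit 1), [nat_lit 7, nat_lit 9, nat_lit 2, nat_lit 1, nat_lit 9, nat_lit 8, nat_lit 3, nat_lit 1, nat_lit 8, nat_lit 3, nat_lit 4, nat_lit 7, nat_lit 6, nat_lit 3, nat_lit 3, nat_lit 6, nat_lit 2, nat_lit 2])) (.leaf ((nat_lit 1), [nat_lit 9, nat_lit 7, nat_lit 5, nat_lit 0, nat_lit 9, nat_lit 6, nat_lit 2, nat_lit 8, nat_lit 7, nat_lit 5, nat_lit 7, nat_lit 6, nat_lit 5, nat_lit 2, nat_lit 4, nat_lit 3])))))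
 (.node (nat_lit 0x7e0a69fd3697694) (.node (nat_lit 0x7e0a69f520d6398) (.leaf ((nat_lit 6), [nat_lit 7, nat_lit 6, nat_lit 7, nat_lit 9, nat_lit 7, nat_lit 8, nat_lit 7, nat_lit 5, nat_lit 1, nat_lit 7, nat_lit 3, nat_lit 6, nat_lit 2, nat_lit 4, nat_lit 2])) (.leaf ((nat_lit 6), [nat_lit 3, nat_lit 9, nat_lit 5, nat_lit 9, nat_lit 5, nat_lit 7, nat_lit 0, nat_lit 8, nat_lit 6, nat_lit 5, nat_lit 7, nat_lit 6, nat_lit 3, nat_lit 3, nat_lit 6, nat_lit 2, nat_lit 1]))) (.node (nat_lit 0x7e0ac6bbf2c9480) (.leaf ((nat_lit 6), [nat_lit 8, nat_lit 1, nat_lit 8, nat_lit 7, nat_lit 5, nat_lit 1, nat_lit 7, nat_lit 5, nat_lit 6, nat_lit 5, nat_lit 3, nat_lit 6, nat_lit 0])) (.node (nat_lit 0x7e0b23ad6323b18) (.leaf ((nat_lit 3), [nat_lit 2, nat_lit 7, nat_lit 9, nat_lit 5, nat_lit 9, nat_lit 7, nat_lit 6, nat_lit 8, nat_lit 5, nat_lit 4, nat_lit 7, nat_lit 6, nat_lit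 2, nat_lit 0])) (.leaf ((nat_lit 0), [nat_lit 7, nat_lit 5, nat_lit 8, nat_lit 3, nat_lit 6, nat_lit 7, nat_lit 3, nat_lit 4, nat_lit 6, nat_lit 4]))))))
 (.node (nat_lit 0x7e1b1f683d07640) (.node (nat_lit 0x7e0fc92620676f8) (.node (nat_lit 0x7e0f6c31744f590) (.leaf ((nat_lit 0), [nat_lit 8, nat_lit 0, nat_lit 7, nat_lit 8, nat_lit 3, nat_lit 4, nat_lit 7, nat_lit 5, nat_lit 6, nat_lit 2, nat_lit 4, nat_lit 0])) (.leaf ((nat_lit 2), [nat_lit 0, nat_lit 7, nat_lit 8, nat_lit 2, nat_lit 4, nat_lit 7, nat_lit 6, nat_lit 5, nat_lit 2, nat_lit 4, nat_lit 3, nat_lit 1]))) (.node (nat_lit 0x7e10398a69b5b94) (.leaf ((nat_lit 2), [nat_lit 9, nat_lit 2, nat_lit 1, nat_lit 9, nat_lit 6, nat_lit 3, nat_lit 0, nat_lit 8, nat_lit 7, nat_lit 6, nat_lit 3, nat_lit 4, nat_lit 3, nat_lit 0])) (.node (nat_lit 0x7e1b1f60274606c) (.leaf ((nat_lit 3), [nat_lit 2, nat_lit 2, nat_lit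 9, nat_lit 1, nat_lit 9, nat_lit 8, nat_lit 5, nat_lit 8, nat_lit 6, nat_lit 5, nat_lit 7, nat_lit 6, nat_lit 5, nat_lit 3, nat_lit 4, nat_lit 3, nat_lit 3])) (.leaf ((nat_lit 3), [nat_lit 2, nat_lit 9, nat_lit 3, nat_lit 5, nat_lit 9, nat_lit 8, nat_lit 6, nat_lit 5, nat_lit 7, nat_lit 4, nat_lit 2, nat_lit 6, nat_lit 3, nat_lit 4, nat_lit 3, nat_lit 1])))))
 (.node (nat_lit 0x7e1b7c1b79a8bec) (.node (nat_lit 0x7e1b1f7052b0ac0) (.leaf ((nat_lit 3), [nat_lit 7, nat_lit 9, nat_lit 2, nat_lit 1, nat_lit 9, nat_lit 8, nat_lit 5, nat_lit 0, nat_lit 8, nat_lit 6, nat_lit 5, nat_lit 7, nat_lit 3, nat_lit 6, nat_lit 5, nat_lit 3, nat_lit 3, nat_lit 0])) (.leaf ((nat_lit 3), [nat_lit 6, nat_lit 9, nat_lit 2, nat_lit 1, nat_lit 9, nat_lit 8, nat_lit 7, nat_lit 0, nat_lit 8, nat_lit 7, nat_lit 5, nat_lit 7, nat_lit 2, nat_lit 6, nat_lit 5, nat_lit 2, nat_lit 0]))) (.node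 (nat_lit 0x7e1bc5add4586bc) (.leaf ((nat_lit 3), [nat_lit 6, nat_lit 9, nat_lit 5, nat_lit 3, nat_lit 1, nat_lit 9, nat_lit 3, nat_lit 7, nat_lit 5, nat_lit 8, nat_lit 5, nat_lit 4, nat_lit 7, nat_lit 3, nat_lit 4, nat_lit 6, nat_lit 5, nat_lit 3, nat_lit 1])) (.node (nat_lit 0x7e1c22ce2920764) (.leaf ((nat_lit 1), [nat_lit 6, nat_lit 9, nat_lit 5, nat_lit 3, nat_lit 1, nat_lit 9, nat_lit 8, nat_lit 7, nat_lit 0, nat_lit 8, nat_lit 3, nat_lit 3, nat_lit 3, nat_lit 6, nat_lit 2, nat_lit 0])) (.leaf ((nat_lit 0), [nat_lit 7, nat_lit 2, nat_lit 8, nat_lit 7, nat_lit 5, nat_lit 0, nat_lit 7, nat_lit 5, nat_lit 3, nat_lit 6, nat_lit 5, nat_lit 2])))))))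
 (.node (nat_lit 0x7e308d85ade4428) (.node (nat_lit 0x7e2b1ae98f1c6c4) (.node (nat_lit 0x7e20eeed5a6e340) (.node (nat_lit 0x7e207e8e18f0350) (.leaf ((nat_lit 1), [nat_lit 7, nat_lit 9, nat_lit 2, nat_lit 1, nat_lit 9, nat_lit 1, nat_lit 8, nat_lit 5, nat_lit 0, nat_lit 7, nat_lit 5, nat_lit 6, nat_lit 5, nat_lit 4, nat_lit 3, nat_lit 3, nat_lit 0])) (.leaf ((nat_lit 1), [nat_lit 2, nat_lit 7, nat_lit 9, nat_lit 5, nat_lit 9, nat_lit 2, nat_lit 6, nat_lit 8, nat_lit 3, nat_lit 6, nat_lit 1, nat_lit 7, nat_lit 5, nat_lit 0]))) (.node (nat_lit 0x7e2b1ad9639a954) (.leaf ((nat_lit 0), [nat_lit 4, nat_lit 7, nat_lit 6, nat_lit 8, nat_lit 4, nat_lit 7, nat_lit 6, nat_lit 5, nat_lit 4, nat_lit 3, nat_lit 0])) (.node (nat_lit 0x7e2b1ae1794ae28) (.leaf ((nat_lit 2), [nat_lit 2, nat_lit 9, nat_lit 3, nat_lit 5, nat_lit 9, nat_lit 7, nat_lit 1, nat_lit 8, nat_lit 4, nat_lit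 1, nat_lit 7, nat_lit 5, nat_lit 3, nat_lit 4, nat_lit 3, nat_lit 1])) (.leaf ((nat_lit 2), [nat_lit 0, nat_lit 7, nat_lit 0, nat_lit 9, nat_lit 1, nat_lit 9, nat_lit 3, nat_lit 8, nat_lit 7, nat_lit 3, nat_lit 3, nat_lit 6, nat_lit 3, nat_lit 0])))))
 (.node (nat_lit 0x7e2bd4b538ba1d4) (.node (nat_lit 0x7e2b77a4e17f244) (.leaf ((nat_lit 2), [nat_lit 6, nat_lit 9, nat_lit 5, nat_lit 9, nat_lit 5, nat_lit 7, nat_lit 8, nat_lit 4, nat_lit 0, nat_lit 7, nat_lit 6, nat_lit 2, nat_lit 4, nat_lit 6, nat_lit 4, nat_lit 0])) (.leaf ((nat_lit 1), [nat_lit 2, nat_lit 9, nat_lit 3, nat_lit 5, nat_lit 9, nat_lit 6, nat_lit 7, nat_lit 2, nat_lit 1, nat_lit 8, nat_lit 4, nat_lit 7, nat_lit 6, nat_lit 5, nat_lit 6, nat_lit 3, nat_lit 0]))) (.node (nat_lit 0x7e2c1e342c19914) (.leaf ((nat_lit 0), [nat_lit 6, nat_lit 1, nat_lit 8, nat_lit 5, nat_lit 4, nat_lit 7, nat_lit 6, nat_lit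 5, nat_lit 6, nat_lit 4, nat_lit 3, nat_lit 3, nat_lit 1])) (.node (nat_lit 0x7e301d1dfabffa4) (.leaf ((nat_lit 2), [nat_lit 7, nat_lit 5, nat_lit 8, nat_lit 1, nat_lit 8, nat_lit 6, nat_lit 5, nat_lit 7, nat_lit 4, nat_lit 6, nat_lit 3, nat_lit 4, nat_lit 0])) (.leaf ((nat_lit 0), [nat_lit 6, nat_lit 2, nat_lit 8, nat_lit 5, nat_lit 1, nat_lit 7, nat_lit 3, nat_lit 6, nat_lit 5, nat_lit 4, nat_lit 3, nat_lit 1]))))))
 (.node (nat_lit 0x7e3760bf7c32064) (.node (nat_lit 0x7e365d28a809b14) (.node (nat_lit 0x7e30ea8a85a47d4) (.leaf ((nat_lit 1), [nat_lit 0, nat_lit 7, nat_lit 0, nat_lit 9, nat_lit 1, nat_lit 9, nat_lit 5, nat_lit 7, nat_lit 6, nat_lit 8, nat_lit 4, nat_lit 7, nat_lit 3, nat_lit 6, nat_lit 2])) (.leaf ((nat_lit 1), [nat_lit 7, nat_lit 9, nat_lit 2, nat_lit 1, nat_lit 9, nat_lit 6, nat_lit 1, nat_lit 8, nat_lit 6, nat_lit 7, nat_lit 2, nat_lit 6,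 nat_lit 5, nat_lit 3, nat_lit 3, nat_lit 3]))) (.node (nat_lit 0x7e36ba20060c294) (.leaf ((nat_lit 1), [nat_lit 2, nat_lit 2, nat_lit 9, nat_lit 1, nat_lit 9, nat_lit 8, nat_lit 6, nat_lit 1, nat_lit 8, nat_lit 7, nat_lit 0, nat_lit 7, nat_lit 6, nat_lit 2, nat_lit 4, nat_lit 6])) (.node (nat_lit 0x7e3703b066cbe90) (.leaf ((nat_lit 3), [nat_lit 6, nat_lit 9, nat_lit 2, nat_lit 1, nat_lit 9, nat_lit 7, nat_lit 5, nat_lit 1, nat_lit 8, nat_lit 6, nat_lit 5, nat_lit 7, nat_lit 2, nat_lit 6, nat_lit 5, nat_lit 0])) (.leaf ((nat_lit 2), [nat_lit 3, nat_lit 3, nat_lit 9, nat_lit 0, nat_lit 9, nat_lit 7, nat_lit 5, nat_lit 7, nat_lit 6, nat_lit 5, nat_lit 3, nat_lit 6, nat_lit 5, nat_lit 4, nat_lit 2])))))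
 (.node (nat_lit 0x7e3bd0185bd8998) (.node (nat_lit 0x7e3b5fa978f0ee4) (.leaf ((nat_lit 0), [nat_lit 5, nat_lit 7, nat_lit 6, nat_lit 8, nat_lit 6, nat_lit 0, nat_lit 7, nat_lit 2, nat_lit 0])) (.leaf ((nat_lit 1), [nat_lit 2, nat_lit 2, nat_lit 9, nat_lit 0, nat_lit 9, nat_lit 7, nat_lit 8, nat_lit 5, nat_lit 0, nat_lit 7, nat_lit 3, nat_lit 4, nat_lit 6, nat_lit 3, nat_lit 3, nat_lit 3]))) (.node (nat_lit 0x7e3c2d04f234be8) (.leaf ((nat_lit 3), [nat_lit 9, nat_lit 7, nat_lit 5, nat_lit 0, nat_lit 9, nat_lit 6, nat_lit 2, nat_lit 1, nat_lit 8, nat_lit 5, nat_lit 7, nat_lit 5, nat_lit 7, nat_lit 5, nat_lit 3, nat_lit 3, nat_lit 3, nat_lit 0])) (.node (nat_lit 0x7e4712a65dcd380) (.leaf ((nat_lit 3), [nat_lit 0, nat_lit 7, nat_lit 0, nat_lit 9, nat_lit 1, nat_lit 9, nat_lit 0, nat_lit 8, nat_lit 7, nat_lit 0, nat_lit 7, nat_lit 2, nat_lit 4, nat_lit 3, nat_lit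 6, nat_lit 3, nat_lit 4])) (.leaf ((nat_lit 1), [nat_lit 2, nat_lit 7, nat_lit 9, nat_lit 5, nat_lit 9, nat_lit 1, nat_lit 8, nat_lit 3, nat_lit 6, nat_lit 7, nat_lit 2, nat_lit 4, nat_lit 3, nat_lit 6, nat_lit 5, nat_lit 4, nat_lit 3, nat_lit 1]))))))))
 (.node (nat_lit 0x7e6820c876215d8) (.node (nat_lit 0x7e5cde198976d54) (.node (nat_lit 0x7e576b14a250ba8) (.node (nat_lit 0x7e4bb81f7733a54) (.node (nat_lit 0x7e47b92b98b8d78) (.leaf ((nat_lit 1), [nat_lit 2, nat_lit 2, nat_lit 9, nat_lit 0, nat_lit 9, nat_lit 8, nat_lit 6, nat_lit 7, nat_lit 6, nat_lit 3, nat_lit 3, nat_lit 6, nat_lit 5, nat_lit 2, nat_lit 4])) (.leaf ((nat_lit 0), [nat_lit 8, nat_lit 0, nat_lit 8, nat_lit 5, nat_lit 1, nat_lit 7, nat_lit 5, nat_lit 6, nat_lit 2]))) (.node (nat_lit 0x7e4c1514515b2a4) (.leaf ((nat_lit 0), [nat_lit 5, nat_lit 1, nat_lit 8, nat_lit 6, nat_lit 1, nat_lit 7, nat_lit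 6, nat_lit 2, nat_lit 2, nat_lit 6, nat_lit 5, nat_lit 0])) (.node (nat_lit 0x7e4c858ba5f2fc0) (.leaf ((nat_lit 0), [nat_lit 8, nat_lit 1, nat_lit 8, nat_lit 6, nat_lit 3, nat_lit 4, nat_lit 7, nat_lit 4])) (.leaf ((nat_lit 0), [nat_lit 3, nat_lit 0, nat_lit 8, nat_lit 6, nat_lit 0, nat_lit 7, nat_lit 4, nat_lit 3, nat_lit 6, nat_lit 0])))))
 (.node (nat_lit 0x7e58119bd7420d0) (.node (nat_lit 0x7e57c806caa0f94) (.leaf ((nat_lit 0), [nat_lit 3, nat_lit 0, nat_lit 8, nat_lit 7, nat_lit 1, nat_lit 7, nat_lit 4, nat_lit 3, nat_lit 3, nat_lit 6, nat_lit 2, nat_lit 4])) (.leaf ((nat_lit 3), [nat_lit 7, nat_lit 9, nat_lit 2, nat_lit 1, nat_lit 9, nat_lit 0, nat_lit 7, nat_lit 8, nat_lit 7, nat_lit 5, nat_lit 6, nat_lit 7, nat_lit 4, nat_lit 2, nat_lit 6, nat_lit 2, nat_lit 4, nat_lit 1]))) (.node (nat_lit 0x7e5c10ae12b4590) (.leaf ((nat_lit 2), [nat_lit 2, nat_lit 2,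 nat_lit 9, nat_lit 0, nat_lit 9, nat_lit 7, nat_lit 8, nat_lit 0, nat_lit 8, nat_lit 7, nat_lit 5, nat_lit 7, nat_lit 2, nat_lit 6, nat_lit 5])) (.node (nat_lit 0x7e5c80f488e2cac) (.leaf ((nat_lit 2), [nat_lit 7, nat_lit 9, nat_lit 5, nat_lit 3, nat_lit 1, nat_lit 9, nat_lit 1, nat_lit 8, nat_lit 5, nat_lit 7, nat_lit 5, nat_lit 7, nat_lit 4, nat_lit 6, nat_lit 5, nat_lit 2])) (.leaf ((nat_lit 1), [nat_lit 2, nat_lit 9, nat_lit 3, nat_lit 5, nat_lit 9, nat_lit 3, nat_lit 7, nat_lit 0, nat_lit 8, nat_lit 6, nat_lit 2, nat_lit 4, nat_lit 7, nat_lit 4, nat_lit 6, nat_lit 5, nat_lit 3]))))))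
 (.node (nat_lit 0x7e630b0f8c66b98) (.node (nat_lit 0x7e629a6edb61d24) (.node (nat_lit 0x7e623d69d5cb368) (.leaf ((nat_lit 1), [nat_lit 6, nat_lit 9, nat_lit 2, nat_lit 1, nat_lit 9, nat_lit 3, nat_lit 6, nat_lit 2, nat_lit 1, nat_lit 8, nat_lit 6, nat_lit 5, nat_lit 7, nat_lit 3, nat_lit 3, nat_lit 6, nat_lit 5, nat_lit 2])) (.leaf ((nat_lit 1), [nat_lit 6, nat_lit 9, nat_lit 5, nat_lit 3, nat_lit 1, nat_lit 9, nat_lit 5, nat_lit 6, nat_lit 8, nat_lit 0, nat_lit 7, nat_lit 6, nat_lit 5, nat_lit 3, nat_lit 6, nat_lit 2, nat_lit 1]))) (.node (nat_lit 0x7e630aff60d6d80) (.leaf ((nat_lit 2), [nat_lit 3, nat_lit 6, nat_lit 8, nat_lit 5, nat_lit 0, nat_lit 7, nat_lit 4, nat_lit 2, nat_lit 6, nat_lit 5, nat_lit 2, nat_lit 4, nat_lit 2, nat_lit 0])) (.node (nat_lit 0x7e630b0776a3954) (.leaf ((nat_lit 6), [nat_lit 9, nat_lit 7, nat_lit 5, nat_lit 0, nat_lit 9, nat_lit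 5, nat_lit 8, nat_lit 5, nat_lit 4, nat_lit 7, nat_lit 2, nat_lit 4, nat_lit 3, nat_lit 6, nat_lit 4])) (.leaf ((nat_lit 2), [nat_lit 8, nat_lit 0, nat_lit 7, nat_lit 8, nat_lit 5, nat_lit 6, nat_lit 7, nat_lit 5, nat_lit 6, nat_lit 2, nat_lit 4, nat_lit 3])))))
 (.node (nat_lit 0x7e6766934290f98) (.node (nat_lit 0x7e63c4df85f70c0) (.leaf ((nat_lit 3), [nat_lit 6, nat_lit 9, nat_lit 5, nat_lit 3, nat_lit 1, nat_lit 9, nat_lit 3, nat_lit 6, nat_lit 7, nat_lit 2, nat_lit 6, nat_lit 2, nat_lit 2])) (.leaf ((nat_lit 0), [nat_lit 5, nat_lit 0, nat_lit 8, nat_lit 0, nat_lit 7, nat_lit 5, nat_lit 3, nat_lit 3, nat_lit 3]))) (.node (nat_lit 0x7e6820bddc64428) (.leaf ((nat_lit 1), [nat_lit 9, nat_lit 7, nat_lit 5, nat_lit 0, nat_lit 9, nat_lit 8, nat_lit 0, nat_lit 8, nat_lit 7, nat_lit 0, nat_lit 7, nat_lit 5, nat_lit 3, nat_lit 6, nat_lit 5, nat_lit 3, nat_lit 4]))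 (.node (nat_lit 0x7e6820c62036ec0) (.leaf ((nat_lit 6), [nat_lit 3, nat_lit 1, nat_lit 8, nat_lit 7, nat_lit 5, nat_lit 6, nat_lit 7, nat_lit 4, nat_lit 2, nat_lit 2, nat_lit 6, nat_lit 5, nat_lit 2, nat_lit 1])) (.leaf ((nat_lit 3), [nat_lit 2, nat_lit 2, nat_lit 9, nat_lit 0, nat_lit 9, nat_lit 3, nat_lit 8, nat_lit 7, nat_lit 2, nat_lit 4, nat_lit 6, nat_lit 5, nat_lit 3, nat_lit 4, nat_lit 3, nat_lit 3, nat_lit 1])))))))
 (.node (nat_lit 0x7e78793c4c78184) (.node (nat_lit 0x7e73c07a92c3c68) (.node (nat_lit 0x7e72f2f53322e10) (.node (nat_lit 0x7e686a1a1941be8) (.leaf ((nat_lit 2), [nat_lit 2, nat_lit 6, nat_lit 3, nat_lit 8, nat_lit 5, nat_lit 7, nat_lit 6, nat_lit 4, nat_lit 2, nat_lit 6, nat_lit 5, nat_lit 3, nat_lit 3, nat_lit 1])) (.leaf ((nat_lit 2), [nat_lit 9, nat_lit 8, nat_lit 0, nat_lit 9, nat_lit 7, nat_lit 1, nat_lit 7, nat_lit 8, nat_lit 7, nat_lit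 4, nat_lit 6, nat_lit 5, nat_lit 4]))) (.node (nat_lit 0x7e734fc9b66727c) (.leaf ((nat_lit 0), [nat_lit 6, nat_lit 1, nat_lit 8, nat_lit 7, nat_lit 5, nat_lit 6, nat_lit 7, nat_lit 4, nat_lit 2, nat_lit 1])) (.node (nat_lit 0x7e73c0727d17eac) (.leaf ((nat_lit 2), [nat_lit 6, nat_lit 9, nat_lit 1, nat_lit 9, nat_lit 3, nat_lit 8, nat_lit 7, nat_lit 1, nat_lit 7, nat_lit 6, nat_lit 3, nat_lit 3, nat_lit 6, nat_lit 4, nat_lit 3])) (.leaf ((nat_lit 2), [nat_lit 2, nat_lit 2, nat_lit 9, nat_lit 1, nat_lit 9, nat_lit 2, nat_lit 2, nat_lit 8, nat_lit 2, nat_lit 4, nat_lit 6, nat_lit 5, nat_lit 3, nat_lit 3, nat_lit 3])))))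
 (.node (nat_lit 0x7e747a4a8c5fbd4) (.node (nat_lit 0x7e73c082a897cd4) (.leaf ((nat_lit 3), [nat_lit 2, nat_lit 7, nat_lit 9, nat_lit 5, nat_lit 9, nat_lit 5, nat_lit 8, nat_lit 1, nat_lit 8, nat_lit 6, nat_lit 5, nat_lit 6, nat_lit 7, nat_lit 3, nat_lit 6, nat_lit 5, nat_lit 4])) (.leaf ((nat_lit 6), [nat_lit 5, nat_lit 7, nat_lit 6, nat_lit 8, nat_lit 6, nat_lit 5, nat_lit 1, nat_lit 7, nat_lit 3, nat_lit 3, nat_lit 3, nat_lit 6, nat_lit 5, nat_lit 2, nat_lit 4, nat_lit 2]))) (.node (nat_lit 0x7e77bf0bc4c1ec4) (.leaf ((nat_lit 3), [nat_lit 2, nat_lit 2, nat_lit 9, nat_lit 0, nat_lit 9, nat_lit 5, nat_lit 7, nat_lit 0, nat_lit 8, nat_lit 6, nat_lit 1, nat_lit 7, nat_lit 3, nat_lit 6, nat_lit 5, nat_lit 3])) (.node (nat_lit 0x7e78793408bd6d4) (.leaf ((nat_lit 3), [nat_lit 2, nat_lit 9, nat_lit 3, nat_lit 5, nat_lit 9, nat_lit 5, nat_lit 0, nat_lit 8, nat_lit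 6, nat_lit 0, nat_lit 7, nat_lit 6, nat_lit 4, nat_lit 3, nat_lit 6, nat_lit 4])) (.leaf ((nat_lit 6), [nat_lit 5, nat_lit 7, nat_lit 9, nat_lit 6, nat_lit 1, nat_lit 8, nat_lit 7, nat_lit 6, nat_lit 4, nat_lit 2, nat_lit 6, nat_lit 3, nat_lit 4, nat_lit 3]))))))
 (.node (nat_lit 0x7e835eeec988ec0) (.node (nat_lit 0x7e78c2963342ca4) (.node (nat_lit 0x7e78793ea252740) (.leaf ((nat_lit 3), [nat_lit 9, nat_lit 7, nat_lit 5, nat_lit 0, nat_lit 9, nat_lit 6, nat_lit 8, nat_lit 0, nat_lit 8, nat_lit 7, nat_lit 3, nat_lit 4, nat_lit 7, nat_lit 3, nat_lit 4, nat_lit 6, nat_lit 2, nat_lit 1])) (.leaf ((nat_lit 2), [nat_lit 9, nat_lit 7, nat_lit 5, nat_lit 0, nat_lit 9, nat_lit 5, nat_lit 6, nat_lit 8, nat_lit 6, nat_lit 1, nat_lit 7, nat_lit 3, nat_lit 4, nat_lit 6, nat_lit 1]))) (.node (nat_lit 0x7e791f8b3b80514) (.leaf ((nat_lit 1), [nat_lit 6, nat_lit 9, nat_lit 2,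 nat_lit 1, nat_lit 9, nat_lit 3, nat_lit 3, nat_lit 8, nat_lit 0, nat_lit 7, nat_lit 5, nat_lit 2, nat_lit 4, nat_lit 2, nat_lit 1])) (.node (nat_lit 0x7e82ee6687bba38) (.leaf ((nat_lit 1), [nat_lit 2, nat_lit 9, nat_lit 3, nat_lit 5, nat_lit 9, nat_lit 4, nat_lit 8, nat_lit 0, nat_lit 8, nat_lit 0, nat_lit 7, nat_lit 5, nat_lit 6, nat_lit 4, nat_lit 2])) (.leaf ((nat_lit 1), [nat_lit 0, nat_lit 7, nat_lit 0, nat_lit 9, nat_lit 1, nat_lit 9, nat_lit 7, nat_lit 1, nat_lit 8, nat_lit 0, nat_lit 7, nat_lit 6, nat_lit 5, nat_lit 2, nat_lit 4])))))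
 (.node (nat_lit 0x7e835efef4f0b94) (.node (nat_lit 0x7e835ef6df44f44) (.leaf ((nat_lit 3), [nat_lit 2, nat_lit 2, nat_lit 9, nat_lit 1, nat_lit 9, nat_lit 5, nat_lit 7, nat_lit 5, nat_lit 0, nat_lit 7, nat_lit 5, nat_lit 3, nat_lit 6, nat_lit 5, nat_lit 4, nat_lit 2, nat_lit 1])) (.leaf ((nat_lit 6), [nat_lit 6, nat_lit 1, nat_lit 9, nat_lit 7, nat_lit 5, nat_lit 0, nat_lit 8, nat_lit 7, nat_lit 5, nat_lit 7, nat_lit 3, nat_lit 4, nat_lit 6, nat_lit 3, nat_lit 4, nat_lit 3, nat_lit 3, nat_lit 0]))) (.node (nat_lit 0x7e8418bec3167d4) (.leaf ((nat_lit 2), [nat_lit 6, nat_lit 9, nat_lit 2, nat_lit 1, nat_lit 9, nat_lit 1, nat_lit 8, nat_lit 5, nat_lit 1, nat_lit 7, nat_lit 4, nat_lit 6, nat_lit 2, nat_lit 1])) (.node (nat_lit 0x7e8475abb580144) (.leaf ((nat_lit 1), [nat_lit 7, nat_lit 9, nat_lit 2, nat_lit 1, nat_lit 9, nat_lit 6, nat_lit 2, nat_lit 1, nat_lit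 8, nat_lit 7, nat_lit 5, nat_lit 7, nat_lit 3, nat_lit 6, nat_lit 4, nat_lit 0])) (.leaf ((nat_lit 0), [nat_lit 7, nat_lit 5, nat_lit 8, nat_lit 5, nat_lit 7, nat_lit 6, nat_lit 5, nat_lit 6, nat_lit 2, nat_lit 4])))))))))
 (.node (nat_lit 0x7ec3f33b191a1a4) (.node (nat_lit 0x7ea355ea99d9da8) (.node (nat_lit 0x7e912c8c01d2ed4) (.node (nat_lit 0x7e891afe2e0bffc) (.node (nat_lit 0x7e88d1aa34fe82c) (.node (nat_lit 0x7e88176f419c9ec) (.leaf ((nat_lit 0), [nat_lit 1, nat_lit 7, nat_lit 5, nat_lit 8, nat_lit 4, nat_lit 2, nat_lit 2, nat_lit 6, nat_lit 5, nat_lit 3, nat_lit 4])) (.leaf ((nat_lit 0), [nat_lit 7, nat_lit 0, nat_lit 7, nat_lit 3, nat_lit 6, nat_lit 5, nat_lit 3, nat_lit 1]))) (.node (nat_lit 0x7e88d1b278a9014) (.leaf ((nat_lit 6), [nat_lit 6, nat_lit 5, nat_lit 4, nat_lit 9, nat_lit 7, nat_lit 1, nat_lit 8, nat_lit 7, nat_lit 3, nat_lit 4, nat_lit 7, nat_lit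 3, nat_lit 3, nat_lit 3, nat_lit 6, nat_lit 4, nat_lit 2])) (.node (nat_lit 0x7e88d1b4cea4554) (.leaf ((nat_lit 3), [nat_lit 0, nat_lit 7, nat_lit 0, nat_lit 9, nat_lit 1, nat_lit 9, nat_lit 4, nat_lit 7, nat_lit 8, nat_lit 7, nat_lit 5, nat_lit 7, nat_lit 5, nat_lit 6, nat_lit 5, nat_lit 2, nat_lit 2])) (.leaf ((nat_lit 2), [nat_lit 6, nat_lit 9, nat_lit 5, nat_lit 9, nat_lit 1, nat_lit 8, nat_lit 1, nat_lit 8, nat_lit 1, nat_lit 7, nat_lit 5, nat_lit 6, nat_lit 4, nat_lit 2, nat_lit 2])))))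
 (.node (nat_lit 0x7e9001f64ae4210) (.node (nat_lit 0x7e9001ee3510038) (.leaf ((nat_lit 0), [nat_lit 1, nat_lit 8, nat_lit 6, nat_lit 1, nat_lit 8, nat_lit 7, nat_lit 6, nat_lit 4, nat_lit 3, nat_lit 6, nat_lit 4, nat_lit 1])) (.leaf ((nat_lit 3), [nat_lit 0, nat_lit 7, nat_lit 0, nat_lit 9, nat_lit 1, nat_lit 9, nat_lit 2, nat_lit 6, nat_lit 8, nat_lit 3, nat_lit 4, nat_lit 7, nat_lit 6, nat_lit 5, nat_lit 6, nat_lit 3, nat_lit 3, nat_lit 1]))) (.node (nat_lit 0x7e9001fbdcb46a8) (.leaf ((nat_lit 6), [nat_lit 9, nat_lit 7, nat_lit 5, nat_lit 0, nat_lit 9, nat_lit 5, nat_lit 8, nat_lit 1, nat_lit 8, nat_lit 1, nat_lit 7, nat_lit 4, nat_lit 6, nat_lit 3, nat_lit 4, nat_lit 3, nat_lit 1])) (.node (nat_lit 0x7e90cfa1c14e798) (.leaf ((nat_lit 2), [nat_lit 0, nat_lit 7, nat_lit 0, nat_lit 9, nat_lit 1, nat_lit 9, nat_lit 3, nat_lit 7, nat_lit 8, nat_lit 4, nat_lit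 7, nat_lit 2, nat_lit 4, nat_lit 6, nat_lit 5, nat_lit 3])) (.leaf ((nat_lit 1), [nat_lit 9, nat_lit 7, nat_lit 5, nat_lit 0, nat_lit 9, nat_lit 7, nat_lit 2, nat_lit 5, nat_lit 8, nat_lit 4, nat_lit 3, nat_lit 6, nat_lit 4, nat_lit 3, nat_lit 3, nat_lit 3]))))))
 (.node (nat_lit 0x7ea127fd286d680) (.node (nat_lit 0x7e96fc2bb660198) (.node (nat_lit 0x7e9189397e904c0) (.leaf ((nat_lit 3), [nat_lit 7, nat_lit 9, nat_lit 2, nat_lit 1, nat_lit 9, nat_lit 2, nat_lit 6, nat_lit 3, nat_lit 8, nat_lit 4, nat_lit 7, nat_lit 6, nat_lit 3, nat_lit 4, nat_lit 3, nat_lit 3])) (.leaf ((nat_lit 0), [nat_lit 6, nat_lit 2, nat_lit 8, nat_lit 6, nat_lit 3, nat_lit 4, nat_lit 7, nat_lit 2, nat_lit 6, nat_lit 2]))) (.node (nat_lit 0x7e975915f6dd714) (.leaf ((nat_lit 2), [nat_lit 0, nat_lit 9, nat_lit 2, nat_lit 1, nat_lit 9, nat_lit 8, nat_lit 6, nat_lit 3, nat_lit 8, nat_lit 7,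 nat_lit 3, nat_lit 4, nat_lit 6, nat_lit 5])) (.node (nat_lit 0x7e97b65a1614f54) (.leaf ((nat_lit 2), [nat_lit 7, nat_lit 9, nat_lit 2, nat_lit 1, nat_lit 9, nat_lit 6, nat_lit 3, nat_lit 0, nat_lit 8, nat_lit 0, nat_lit 7, nat_lit 4, nat_lit 3, nat_lit 6, nat_lit 5, nat_lit 2, nat_lit 2, nat_lit 1])) (.leaf ((nat_lit 1), [nat_lit 2, nat_lit 7, nat_lit 9, nat_lit 5, nat_lit 9, nat_lit 1, nat_lit 7, nat_lit 8, nat_lit 7, nat_lit 6, nat_lit 4, nat_lit 3, nat_lit 6, nat_lit 3, nat_lit 3, nat_lit 3, nat_lit 1])))))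
 (.node (nat_lit 0x7ea1e1c1fe5266c) (.node (nat_lit 0x7ea184c0627aae8) (.leaf ((nat_lit 1), [nat_lit 2, nat_lit 2, nat_lit 9, nat_lit 0, nat_lit 9, nat_lit 4, nat_lit 7, nat_lit 6, nat_lit 8, nat_lit 6, nat_lit 3, nat_lit 4, nat_lit 7, nat_lit 5, nat_lit 3, nat_lit 6, nat_lit 2, nat_lit 1])) (.leaf ((nat_lit 1), [nat_lit 0, nat_lit 7, nat_lit 0, nat_lit 9, nat_lit 1, nat_lit 9, nat_lit 4, nat_lit 8, nat_lit 0, nat_lit 8, nat_lit 4, nat_lit 7, nat_lit 2, nat_lit 4, nat_lit 6]))) (.node (nat_lit 0x7ea29bc421e53c4) (.leaf ((nat_lit 0), [nat_lit 3, nat_lit 7, nat_lit 0, nat_lit 8, nat_lit 2, nat_lit 4, nat_lit 7, nat_lit 4, nat_lit 6])) (.node (nat_lit 0x7ea2f8b8fc13f40) (.leaf ((nat_lit 1), [nat_lit 9, nat_lit 7, nat_lit 5, nat_lit 0, nat_lit 9, nat_lit 3, nat_lit 7, nat_lit 5, nat_lit 8, nat_lit 5, nat_lit 7, nat_lit 2, nat_lit 6, nat_lit 5, nat_lit 2, nat_lit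 2, nat_lit 0])) (.leaf ((nat_lit 1), [nat_lit 2, nat_lit 2, nat_lit 9, nat_lit 0, nat_lit 9, nat_lit 7, nat_lit 8, nat_lit 4, nat_lit 7, nat_lit 4, nat_lit 2, nat_lit 2, nat_lit 6, nat_lit 3, nat_lit 4])))))))
 (.node (nat_lit 0x7eb2f43fb1ffe14) (.node (nat_lit 0x7eacc7b059175c4) (.node (nat_lit 0x7eab9d0d84928d4) (.node (nat_lit 0x7eab9d056ed66e4) (.leaf ((nat_lit 3), [nat_lit 6, nat_lit 9, nat_lit 2, nat_lit 1, nat_lit 9, nat_lit 3, nat_lit 8, nat_lit 6, nat_lit 1, nat_lit 8, nat_lit 6, nat_lit 0, nat_lit 7, nat_lit 5, nat_lit 6, nat_lit 2])) (.leaf ((nat_lit 2), [nat_lit 2, nat_lit 9, nat_lit 3, nat_lit 5, nat_lit 9, nat_lit 7, nat_lit 8, nat_lit 7, nat_lit 0, nat_lit 8, nat_lit 6, nat_lit 0, nat_lit 7, nat_lit 3, nat_lit 6, nat_lit 1]))) (.node (nat_lit 0x7eab9d131652c10) (.leaf ((nat_lit 3), [nat_lit 9, nat_lit 7, nat_lit 5, nat_lit 0, nat_lit 9, nat_lit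 3, nat_lit 7, nat_lit 0, nat_lit 8, nat_lit 7, nat_lit 4, nat_lit 3, nat_lit 6, nat_lit 3])) (.node (nat_lit 0x7eac6a987601f54) (.leaf ((nat_lit 6), [nat_lit 9, nat_lit 5, nat_lit 0, nat_lit 9, nat_lit 5, nat_lit 8, nat_lit 7, nat_lit 1, nat_lit 7, nat_lit 2, nat_lit 2, nat_lit 6, nat_lit 5, nat_lit 2])) (.leaf ((nat_lit 0), [nat_lit 8, nat_lit 2, nat_lit 5, nat_lit 8, nat_lit 0, nat_lit 7, nat_lit 6, nat_lit 5, nat_lit 2, nat_lit 0])))))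
 (.node (nat_lit 0x7eb226ce4d5543c) (.node (nat_lit 0x7ead24564a14294) (.leaf ((nat_lit 3), [nat_lit 2, nat_lit 9, nat_lit 3, nat_lit 5, nat_lit 9, nat_lit 8, nat_lit 7, nat_lit 0, nat_lit 8, nat_lit 5, nat_lit 7, nat_lit 3, nat_lit 3, nat_lit 3, nat_lit 6, nat_lit 4, nat_lit 2, nat_lit 0])) (.leaf ((nat_lit 2), [nat_lit 3, nat_lit 3, nat_lit 9, nat_lit 0, nat_lit 9, nat_lit 5, nat_lit 8, nat_lit 5, nat_lit 8, nat_lit 3, nat_lit 6, nat_lit 7, nat_lit 6, nat_lit 5, nat_lit 6, nat_lit 2, nat_lit 4]))) (.node (nat_lit 0x7eb226d66301364) (.leaf ((nat_lit 6), [nat_lit 4, nat_lit 7, nat_lit 8, nat_lit 1, nat_lit 9, nat_lit 8, nat_lit 2, nat_lit 5, nat_lit 8, nat_lit 5, nat_lit 4, nat_lit 7, nat_lit 4, nat_lit 3, nat_lit 0])) (.node (nat_lit 0x7eb226dbf4e2624) (.leaf ((nat_lit 2), [nat_lit 1, nat_lit 9, nat_lit 5, nat_lit 9, nat_lit 7, nat_lit 8, nat_lit 7, nat_lit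 6, nat_lit 3, nat_lit 3, nat_lit 6, nat_lit 3, nat_lit 3, nat_lit 1])) (.leaf ((nat_lit 3), [nat_lit 2, nat_lit 2, nat_lit 9, nat_lit 0, nat_lit 9, nat_lit 2, nat_lit 2, nat_lit 8, nat_lit 5, nat_lit 3, nat_lit 6, nat_lit 5, nat_lit 3, nat_lit 4, nat_lit 3, nat_lit 0]))))))
 (.node (nat_lit 0x7ebd0c49a20f0d0) (.node (nat_lit 0x7eb3ae68dbdc640) (.node (nat_lit 0x7eb3517121da12c) (.leaf ((nat_lit 0), [nat_lit 5, nat_lit 0, nat_lit 8, nat_lit 1, nat_lit 7, nat_lit 6, nat_lit 3, nat_lit 3, nat_lit 3, nat_lit 0])) (.leaf ((nat_lit 0), [nat_lit 5, nat_lit 1, nat_lit 8, nat_lit 6, nat_lit 3, nat_lit 4, nat_lit 7, nat_lit 6, nat_lit 3, nat_lit 3, nat_lit 6, nat_lit 2]))) (.node (nat_lit 0x7ebc6601b4e0d18) (.leaf ((nat_lit 0), [nat_lit 3, nat_lit 5, nat_lit 8, nat_lit 4, nat_lit 1, nat_lit 7, nat_lit 6, nat_lit 0])) (.node (nat_lit 0x7ebcc2bd0743898) (.leaf ((nat_lit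 3), [nat_lit 9, nat_lit 7, nat_lit 5, nat_lit 0, nat_lit 9, nat_lit 1, nat_lit 8, nat_lit 0, nat_lit 7, nat_lit 4, nat_lit 2, nat_lit 6, nat_lit 5, nat_lit 2, nat_lit 2])) (.leaf ((nat_lit 1), [nat_lit 9, nat_lit 7, nat_lit 5, nat_lit 0, nat_lit 9, nat_lit 2, nat_lit 7, nat_lit 5, nat_lit 8, nat_lit 3, nat_lit 4, nat_lit 7, nat_lit 3, nat_lit 6, nat_lit 5, nat_lit 2, nat_lit 1])))))
 (.node (nat_lit 0x7ebd0c5777ad4a4) (.node (nat_lit 0x7ebd0c4f61f3368) (.leaf ((nat_lit 3), [nat_lit 2, nat_lit 7, nat_lit 9, nat_lit 5, nat_lit 9, nat_lit 4, nat_lit 7, nat_lit 6, nat_lit 8, nat_lit 6, nat_lit 7, nat_lit 3, nat_lit 6, nat_lit 3, nat_lit 4, nat_lit 3, nat_lit 0])) (.leaf ((nat_lit 3), [nat_lit 6, nat_lit 9, nat_lit 5, nat_lit 3, nat_lit 1, nat_lit 9, nat_lit 5, nat_lit 7, nat_lit 5, nat_lit 8, nat_lit 4, nat_lit 1, nat_lit 7, nat_lit 4, nat_lit 6, nat_lit 5, nat_lit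 0]))) (.node (nat_lit 0x7ec34ca0aaec858) (.leaf ((nat_lit 3), [nat_lit 2, nat_lit 2, nat_lit 9, nat_lit 1, nat_lit 9, nat_lit 4, nat_lit 8, nat_lit 6, nat_lit 3, nat_lit 8, nat_lit 7, nat_lit 0, nat_lit 7, nat_lit 3, nat_lit 4, nat_lit 6, nat_lit 5, nat_lit 3])) (.node (nat_lit 0x7ec3a9de80651d8) (.leaf ((nat_lit 0), [nat_lit 3, nat_lit 8, nat_lit 7, nat_lit 1, nat_lit 8, nat_lit 7, nat_lit 3, nat_lit 4, nat_lit 3, nat_lit 3, nat_lit 6, nat_lit 4, nat_lit 2])) (.leaf ((nat_lit 0), [nat_lit 2, nat_lit 2, nat_lit 8, nat_lit 5, nat_lit 7, nat_lit 5, nat_lit 0, nat_lit 7, nat_lit 3, nat_lit 3, nat_lit 6, nat_lit 5, nat_lit 2]))))))))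
 (.node (nat_lit 0x7ed9615abbaae10) (.node (nat_lit 0x7ece8f3bf8885c4) (.node (nat_lit 0x7ecd78352b4c040) (.node (nat_lit 0x7ec3f348eebf8a4) (.node (nat_lit 0x7ec3f34106fce68) (.leaf ((nat_lit 3), [nat_lit 6, nat_lit 9, nat_lit 2, nat_lit 1, nat_lit 9, nat_lit 3, nat_lit 7, nat_lit 0, nat_lit 8, nat_lit 3, nat_lit 6, nat_lit 7, nat_lit 5, nat_lit 6, nat_lit 4, nat_lit 3])) (.leaf ((nat_lit 6), [nat_lit 6, nat_lit 9, nat_lit 5, nat_lit 9, nat_lit 6, nat_lit 5, nat_lit 8, nat_lit 0, nat_lit 8, nat_lit 6, nat_lit 5, nat_lit 1, nat_lit 7, nat_lit 2, nat_lit 6, nat_lit 5, nat_lit 0]))) (.node (nat_lit 0x7eccbe722152fac) (.leaf ((nat_lit 2), [nat_lit 6, nat_lit 9, nat_lit 5, nat_lit 3, nat_lit 1, nat_lit 9, nat_lit 7, nat_lit 8, nat_lit 1, nat_lit 8, nat_lit 5, nat_lit 7, nat_lit 5, nat_lit 6, nat_lit 5, nat_lit 3])) (.node (nat_lit 0x7ecd1b73bd05494) (.leaf ((nat_lit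 1), [nat_lit 6, nat_lit 9, nat_lit 5, nat_lit 3, nat_lit 1, nat_lit 9, nat_lit 3, nat_lit 3, nat_lit 8, nat_lit 7, nat_lit 2, nat_lit 4, nat_lit 7, nat_lit 2, nat_lit 6, nat_lit 4, nat_lit 2, nat_lit 2])) (.leaf ((nat_lit 0), [nat_lit 7, nat_lit 6, nat_lit 8, nat_lit 7, nat_lit 5, nat_lit 7, nat_lit 5, nat_lit 3, nat_lit 6, nat_lit 4, nat_lit 2, nat_lit 2])))))
 (.node (nat_lit 0x7ece1eb9ae3adfc) (.node (nat_lit 0x7ecdd527538b32c) (.leaf ((nat_lit 1), [nat_lit 2, nat_lit 2, nat_lit 9, nat_lit 0, nat_lit 9, nat_lit 2, nat_lit 6, nat_lit 8, nat_lit 6, nat_lit 7, nat_lit 6, nat_lit 5, nat_lit 3, nat_lit 6, nat_lit 2, nat_lit 2, nat_lit 0])) (.leaf ((nat_lit 2), [nat_lit 9, nat_lit 5, nat_lit 3, nat_lit 9, nat_lit 5, nat_lit 7, nat_lit 6, nat_lit 8, nat_lit 3, nat_lit 6, nat_lit 5, nat_lit 4, nat_lit 2]))) (.node (nat_lit 0x7ece1ebf6e0f0a4) (.leaf ((nat_lit 2), [nat_lit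 7, nat_lit 9, nat_lit 2, nat_lit 1, nat_lit 9, nat_lit 2, nat_lit 7, nat_lit 6, nat_lit 8, nat_lit 7, nat_lit 2, nat_lit 6, nat_lit 3, nat_lit 4])) (.node (nat_lit 0x7ece1ec783b83b8) (.leaf ((nat_lit 2), [nat_lit 6, nat_lit 9, nat_lit 5, nat_lit 9, nat_lit 5, nat_lit 6, nat_lit 8, nat_lit 6, nat_lit 5, nat_lit 7, nat_lit 3, nat_lit 4, nat_lit 6, nat_lit 3, nat_lit 4, nat_lit 3, nat_lit 3])) (.leaf ((nat_lit 2), [nat_lit 6, nat_lit 9, nat_lit 5, nat_lit 9, nat_lit 6, nat_lit 3, nat_lit 8, nat_lit 5, nat_lit 7, nat_lit 5, nat_lit 0, nat_lit 7, nat_lit 4, nat_lit 2, nat_lit 6, nat_lit 3, nat_lit 4, nat_lit 3, nat_lit 3]))))))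
 (.node (nat_lit 0x7ecf92e6ec150d4) (.node (nat_lit 0x7ecf497719e8cc4) (.node (nat_lit 0x7eceec71e643780) (.leaf ((nat_lit 2), [nat_lit 3, nat_lit 9, nat_lit 5, nat_lit 9, nat_lit 5, nat_lit 8, nat_lit 0, nat_lit 8, nat_lit 4, nat_lit 1, nat_lit 7, nat_lit 4, nat_lit 3])) (.leaf ((nat_lit 1), [nat_lit 7, nat_lit 9, nat_lit 2, nat_lit 1, nat_lit 9, nat_lit 8, nat_lit 2, nat_lit 6, nat_lit 8, nat_lit 5, nat_lit 3, nat_lit 6, nat_lit 5, nat_lit 2, nat_lit 4, nat_lit 0]))) (.node (nat_lit 0x7ecf92d91680524) (.leaf ((nat_lit 1), [nat_lit 9, nat_lit 7, nat_lit 5, nat_lit 0, nat_lit 9, nat_lit 3, nat_lit 7, nat_lit 5, nat_lit 8, nat_lit 3, nat_lit 6, nat_lit 5, nat_lit 2, nat_lit 4, nat_lit 2, nat_lit 0])) (.node (nat_lit 0x7ecf92df04420f8) (.leaf ((nat_lit 3), [nat_lit 7, nat_lit 9, nat_lit 2, nat_lit 1, nat_lit 9, nat_lit 3, nat_lit 0, nat_lit 8, nat_lit 7, nat_lit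 5, nat_lit 0, nat_lit 7, nat_lit 6, nat_lit 5, nat_lit 4, nat_lit 3])) (.leaf ((nat_lit 6), [nat_lit 8, nat_lit 2, nat_lit 7, nat_lit 9, nat_lit 8, nat_lit 6, nat_lit 3, nat_lit 8, nat_lit 4, nat_lit 0, nat_lit 7, nat_lit 2, nat_lit 4, nat_lit 6, nat_lit 4, nat_lit 1])))))
 (.node (nat_lit 0x7ed85e1df43b444) (.node (nat_lit 0x7ed8011d6c5ad40) (.leaf ((nat_lit 2), [nat_lit 9, nat_lit 7, nat_lit 5, nat_lit 0, nat_lit 9, nat_lit 8, nat_lit 0, nat_lit 8, nat_lit 7, nat_lit 2, nat_lit 4, nat_lit 6, nat_lit 5, nat_lit 3, nat_lit 3, nat_lit 1])) (.leaf ((nat_lit 3), [nat_lit 0, nat_lit 7, nat_lit 0, nat_lit 9, nat_lit 1, nat_lit 9, nat_lit 6, nat_lit 0, nat_lit 8, nat_lit 3, nat_lit 3, nat_lit 6, nat_lit 5, nat_lit 3, nat_lit 3, nat_lit 3]))) (.node (nat_lit 0x7ed8bad9189f704) (.leaf ((nat_lit 0), [nat_lit 2, nat_lit 2, nat_lit 8, nat_lit 5, nat_lit 0, nat_lit 7, nat_lit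 3, nat_lit 3, nat_lit 3, nat_lit 6, nat_lit 2, nat_lit 4])) (.node (nat_lit 0x7ed917c5810b414) (.leaf ((nat_lit 0), [nat_lit 0, nat_lit 8, nat_lit 6, nat_lit 1, nat_lit 8, nat_lit 5, nat_lit 0, nat_lit 7, nat_lit 4, nat_lit 2, nat_lit 2, nat_lit 6])) (.leaf ((nat_lit 2), [nat_lit 8, nat_lit 1, nat_lit 9, nat_lit 0, nat_lit 9, nat_lit 1, nat_lit 8, nat_lit 4, nat_lit 3, nat_lit 3, nat_lit 6, nat_lit 4])))))))
 (.node (nat_lit 0x7ee859813badb40) (.node (nat_lit 0x7edf44f5e8173d4) (.node (nat_lit 0x7ed961689138694) (.node (nat_lit 0x7ed961607b66f64) (.leaf ((nat_lit 6), [nat_lit 8, nat_lit 1, nat_lit 8, nat_lit 7, nat_lit 1, nat_lit 7, nat_lit 6, nat_lit 2, nat_lit 4, nat_lit 2])) (.leaf ((nat_lit 6), [nat_lit 4, nat_lit 8, nat_lit 3, nat_lit 9, nat_lit 7, nat_lit 5, nat_lit 8, nat_lit 0, nat_lit 8, nat_lit 0, nat_lit 7, nat_lit 4, nat_lit 3, nat_lit 6, nat_lit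 4, nat_lit 2]))) (.node (nat_lit 0x7ede8ab562cd114) (.leaf ((nat_lit 6), [nat_lit 9, nat_lit 7, nat_lit 0, nat_lit 9, nat_lit 3, nat_lit 7, nat_lit 5, nat_lit 8, nat_lit 3, nat_lit 6, nat_lit 1, nat_lit 7, nat_lit 5, nat_lit 6, nat_lit 5, nat_lit 2, nat_lit 4])) (.node (nat_lit 0x7edee7c3084356c) (.leaf ((nat_lit 1), [nat_lit 6, nat_lit 9, nat_lit 2, nat_lit 1, nat_lit 9, nat_lit 5, nat_lit 8, nat_lit 0, nat_lit 8, nat_lit 1, nat_lit 7, nat_lit 4, nat_lit 2, nat_lit 6, nat_lit 2, nat_lit 4, nat_lit 3, nat_lit 1])) (.leaf ((nat_lit 1), [nat_lit 6, nat_lit 9, nat_lit 5, nat_lit 3, nat_lit 1, nat_lit 9, nat_lit 8, nat_lit 5, nat_lit 7, nat_lit 5, nat_lit 7, nat_lit 5, nat_lit 6, nat_lit 2, nat_lit 4, nat_lit 2])))))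
 (.node (nat_lit 0x7edfeb4f42c883c) (.node (nat_lit 0x7edfa1fd9fa822c) (.leaf ((nat_lit 3), [nat_lit 2, nat_lit 2, nat_lit 9, nat_lit 1, nat_lit 9, nat_lit 6, nat_lit 8, nat_lit 5, nat_lit 6, nat_lit 7, nat_lit 5, nat_lit 3, nat_lit 4, nat_lit 3])) (.leaf ((nat_lit 3), [nat_lit 6, nat_lit 9, nat_lit 5, nat_lit 3, nat_lit 1, nat_lit 9, nat_lit 6, nat_lit 5, nat_lit 8, nat_lit 0, nat_lit 8, nat_lit 4, nat_lit 6, nat_lit 2, nat_lit 4, nat_lit 3, nat_lit 0]))) (.node (nat_lit 0x7edfeb55309b510) (.leaf ((nat_lit 3), [nat_lit 2, nat_lit 9, nat_lit 3, nat_lit 5, nat_lit 9, nat_lit 2, nat_lit 5, nat_lit 8, nat_lit 1, nat_lit 7, nat_lit 0])) (.node (nat_lit 0x7edfeb5d18460d0) (.leaf ((nat_lit 6), [nat_lit 5, nat_lit 6, nat_lit 2, nat_lit 9, nat_lit 7, nat_lit 5, nat_lit 8, nat_lit 6, nat_lit 7, nat_lit 6, nat_lit 5, nat_lit 3, nat_lit 6, nat_lit 5, nat_lit 4])) (.leaf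 ((nat_lit 2), [nat_lit 2, nat_lit 2, nat_lit 9, nat_lit 1, nat_lit 9, nat_lit 3, nat_lit 5, nat_lit 8, nat_lit 3, nat_lit 3, nat_lit 6]))))))
 (.node (nat_lit 0x7eee8662f12f0c0) (.node (nat_lit 0x7ee9cda80b411c0) (.node (nat_lit 0x7ee8b6572ebe468) (.leaf ((nat_lit 1), [nat_lit 2, nat_lit 2, nat_lit 9, nat_lit 1, nat_lit 9, nat_lit 7, nat_lit 8, nat_lit 0, nat_lit 8, nat_lit 2, nat_lit 4, nat_lit 7, nat_lit 4, nat_lit 6, nat_lit 2, nat_lit 2])) (.leaf ((nat_lit 0), [nat_lit 6, nat_lit 8, nat_lit 4, nat_lit 3, nat_lit 6, nat_lit 3, nat_lit 4, nat_lit 3]))) (.node (nat_lit 0x7eea2a9445c1214) (.leaf ((nat_lit 1), [nat_lit 0, nat_lit 7, nat_lit 0, nat_lit 9, nat_lit 1, nat_lit 9, nat_lit 3, nat_lit 7, nat_lit 0, nat_lit 8, nat_lit 7, nat_lit 5, nat_lit 1, nat_lit 7, nat_lit 3, nat_lit 3, nat_lit 3, nat_lit 6, nat_lit 1])) (.node (nat_lit 0x7eee29551db7628) (.leaf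 ((nat_lit 0), [nat_lit 2, nat_lit 7, nat_lit 5, nat_lit 8, nat_lit 7, nat_lit 1, nat_lit 7, nat_lit 6, nat_lit 4, nat_lit 2, nat_lit 0])) (.leaf ((nat_lit 1), [nat_lit 2, nat_lit 7, nat_lit 9, nat_lit 5, nat_lit 9, nat_lit 7, nat_lit 8, nat_lit 6, nat_lit 3, nat_lit 8, nat_lit 5, nat_lit 6, nat_lit 7, nat_lit 3, nat_lit 6, nat_lit 5, nat_lit 2, nat_lit 2])))))
 (.node (nat_lit 0x7eeffa073dac7d4) (.node (nat_lit 0x7eef9d0f83aced4) (.leaf ((nat_lit 1), [nat_lit 2, nat_lit 2, nat_lit 9, nat_lit 1, nat_lit 9, nat_lit 8, nat_lit 3, nat_lit 6, nat_lit 7, nat_lit 6, nat_lit 5, nat_lit 0])) (.leaf ((nat_lit 0), [nat_lit 5, nat_lit 0, nat_lit 8, nat_lit 1, nat_lit 7, nat_lit 6, nat_lit 2, nat_lit 4, nat_lit 6, nat_lit 4, nat_lit 3, nat_lit 0]))) (.node (nat_lit 0x7ef90eec7014f14) (.leaf ((nat_lit 0), [nat_lit 8, nat_lit 0, nat_lit 8, nat_lit 4, nat_lit 2, nat_lit 2, nat_lit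 6, nat_lit 4, nat_lit 2, nat_lit 0])) (.node (nat_lit 0x7efa262c0d14ca8) (.leaf ((nat_lit 2), [nat_lit 4, nat_lit 0, nat_lit 7, nat_lit 8, nat_lit 5, nat_lit 6, nat_lit 7, nat_lit 3, nat_lit 3, nat_lit 3, nat_lit 6, nat_lit 3, nat_lit 4, nat_lit 3, nat_lit 3, nat_lit 1])) (.leaf ((nat_lit 0), [nat_lit 8, nat_lit 0, nat_lit 8, nat_lit 4, nat_lit 0, nat_lit 7, nat_lit 4, nat_lit 6, nat_lit 5, nat_lit 3, nat_lit 3])))))))))))))
 (.node (nat_lit 0x9500b7414e7c8bc) (.node (nat_lit 0x8377be08f24b890) (.node (nat_lit 0x805e8e96e233430) (.node (nat_lit 0x7fe0e0b59713ea8) (.node (nat_lit 0x7f9bdc87a462558) (.node (nat_lit 0x7f4f069787bd718) (.node (nat_lit 0x7f1bcf6fa1eb520) (.node (nat_lit 0x7f0568c532c2114) (.node (nat_lit 0x7f03f47f4e14d00) (.node (nat_lit 0x7efb99aafad5e68) (.leaf ((nat_lit 3), [nat_lit 2, nat_lit 2, nat_lit 9, nat_lit 0, nat_lit 9, nat_lit 4, nat_lit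 6, nat_lit 8, nat_lit 4, nat_lit 0, nat_lit 7, nat_lit 4, nat_lit 3, nat_lit 3, nat_lit 6, nat_lit 2, nat_lit 0])) (.leaf ((nat_lit 2), [nat_lit 2, nat_lit 7, nat_lit 9, nat_lit 5, nat_lit 9, nat_lit 2, nat_lit 6, nat_lit 8, nat_lit 5, nat_lit 4, nat_lit 7, nat_lit 3, nat_lit 3, nat_lit 6, nat_lit 2]))) (.node (nat_lit 0x7f045187bdb7cd4) (.leaf ((nat_lit 2), [nat_lit 9, nat_lit 2, nat_lit 6, nat_lit 3, nat_lit 9, nat_lit 7, nat_lit 1, nat_lit 8, nat_lit 1, nat_lit 8, nat_lit 6, nat_lit 7, nat_lit 6, nat_lit 5, nat_lit 6, nat_lit 4, nat_lit 2])) (.leaf ((nat_lit 0), [nat_lit 5, nat_lit 7, nat_lit 6, nat_lit 8, nat_lit 6, nat_lit 5, nat_lit 6, nat_lit 5, nat_lit 4, nat_lit 3]))))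
 (.node (nat_lit 0x7f0b9523db31fc0) (.node (nat_lit 0x7f0a7e73deddc14) (.leaf ((nat_lit 3), [nat_lit 2, nat_lit 7, nat_lit 9, nat_lit 5, nat_lit 9, nat_lit 6, nat_lit 8, nat_lit 7, nat_lit 3, nat_lit 4, nat_lit 7, nat_lit 6, nat_lit 5, nat_lit 2, nat_lit 2, nat_lit 0])) (.leaf ((nat_lit 0), [nat_lit 7, nat_lit 2, nat_lit 8, nat_lit 3, nat_lit 6, nat_lit 1, nat_lit 7, nat_lit 6, nat_lit 5, nat_lit 6, nat_lit 5]))) (.node (nat_lit 0x7f142e6bae12a18) (.leaf ((nat_lit 1), [nat_lit 2, nat_lit 7, nat_lit 9, nat_lit 5, nat_lit 9, nat_lit 7, nat_lit 5, nat_lit 1, nat_lit 7, nat_lit 3, nat_lit 3, nat_lit 3, nat_lit 6, nat_lit 2])) (.node (nat_lit 0x7f15a220b99855c) (.leaf ((nat_lit 3), [nat_lit 2, nat_lit 7, nat_lit 9, nat_lit 5, nat_lit 9, nat_lit 2, nat_lit 1, nat_lit 8, nat_lit 2, nat_lit 4, nat_lit 7, nat_lit 6, nat_lit 5, nat_lit 4, nat_lit 3, nat_lit 3, nat_lit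 1])) (.leaf ((nat_lit 3), [nat_lit 6, nat_lit 9, nat_lit 2, nat_lit 1, nat_lit 9, nat_lit 5, nat_lit 0, nat_lit 7, nat_lit 8, nat_lit 7, nat_lit 5, nat_lit 3, nat_lit 6, nat_lit 3, nat_lit 4, nat_lit 3]))))))
 (.node (nat_lit 0x7f3425aefff6078) (.node (nat_lit 0x7f22b5b5e07fd08) (.node (nat_lit 0x7f21fc48801988c) (.leaf ((nat_lit 3), [nat_lit 0, nat_lit 7, nat_lit 0, nat_lit 9, nat_lit 1, nat_lit 9, nat_lit 8, nat_lit 4, nat_lit 7, nat_lit 4, nat_lit 3, nat_lit 6, nat_lit 2, nat_lit 4, nat_lit 2])) (.leaf ((nat_lit 2), [nat_lit 3, nat_lit 3, nat_lit 9, nat_lit 0, nat_lit 9, nat_lit 3, nat_lit 0, nat_lit 8, nat_lit 3, nat_lit 4, nat_lit 7, nat_lit 6, nat_lit 5, nat_lit 3, nat_lit 6, nat_lit 5, nat_lit 2]))) (.node (nat_lit 0x7f28e284dcfdaf0) (.leaf ((nat_lit 2), [nat_lit 4, nat_lit 8, nat_lit 2, nat_lit 1, nat_lit 8, nat_lit 7, nat_lit 5, nat_lit 7, nat_lit 4,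 nat_lit 6, nat_lit 4, nat_lit 2, nat_lit 0])) (.node (nat_lit 0x7f336b6e289f1ec) (.leaf ((nat_lit 0), [nat_lit 5, nat_lit 7, nat_lit 8, nat_lit 3, nat_lit 4, nat_lit 7, nat_lit 4, nat_lit 2, nat_lit 6, nat_lit 3])) (.leaf ((nat_lit 0), [nat_lit 6, nat_lit 2, nat_lit 8, nat_lit 4, nat_lit 0, nat_lit 7, nat_lit 6, nat_lit 4, nat_lit 3, nat_lit 6, nat_lit 2, nat_lit 2])))))
 (.node (nat_lit 0x7f41391e105216c) (.node (nat_lit 0x7f34df680418a00) (.leaf ((nat_lit 0), [nat_lit 8, nat_lit 0, nat_lit 8, nat_lit 3, nat_lit 6, nat_lit 1, nat_lit 7, nat_lit 6, nat_lit 2, nat_lit 4, nat_lit 6, nat_lit 3, nat_lit 1])) (.leaf ((nat_lit 2), [nat_lit 8, nat_lit 0, nat_lit 9, nat_lit 1, nat_lit 9, nat_lit 0, nat_lit 8, nat_lit 6, nat_lit 7, nat_lit 4, nat_lit 6, nat_lit 2, nat_lit 0]))) (.node (nat_lit 0x7f481fe1b6cfb00) (.leaf ((nat_lit 1), [nat_lit 2, nat_lit 7, nat_lit 9, nat_lit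 5, nat_lit 9, nat_lit 5, nat_lit 8, nat_lit 1, nat_lit 8, nat_lit 7, nat_lit 1, nat_lit 7, nat_lit 3, nat_lit 3, nat_lit 6, nat_lit 3, nat_lit 4, nat_lit 3, nat_lit 3])) (.node (nat_lit 0x7f4e4c7bb2da25c) (.leaf ((nat_lit 0), [nat_lit 7, nat_lit 0, nat_lit 8, nat_lit 5, nat_lit 3, nat_lit 6, nat_lit 5, nat_lit 2, nat_lit 4, nat_lit 1])) (.leaf ((nat_lit 6), [nat_lit 4, nat_lit 7, nat_lit 9, nat_lit 5, nat_lit 9, nat_lit 4, nat_lit 6, nat_lit 8, nat_lit 7, nat_lit 3, nat_lit 4, nat_lit 7, nat_lit 3, nat_lit 4, nat_lit 6, nat_lit 5, nat_lit 1])))))))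
 (.node (nat_lit 0x7f80c9fce8155c0) (.node (nat_lit 0x7f6de6d15a77a0c) (.node (nat_lit 0x7f5fbc658ccbe0c) (.node (nat_lit 0x7f54d6aaf9feee0) (.leaf ((nat_lit 6), [nat_lit 8, nat_lit 1, nat_lit 9, nat_lit 5, nat_lit 9, nat_lit 6, nat_lit 0, nat_lit 8, nat_lit 4, nat_lit 0, nat_lit 7, nat_lit 6, nat_lit 5, nat_lit 6, nat_lit 5, nat_lit 4])) (.leaf ((nat_lit 2), [nat_lit 2, nat_lit 7, nat_lit 9, nat_lit 5, nat_lit 9, nat_lit 2, nat_lit 6, nat_lit 0, nat_lit 8, nat_lit 2, nat_lit 4, nat_lit 7, nat_lit 4, nat_lit 6, nat_lit 5, nat_lit 1]))) (.node (nat_lit 0x7f612fc6df376f0) (.leaf ((nat_lit 1), [nat_lit 0, nat_lit 7, nat_lit 0, nat_lit 9, nat_lit 1, nat_lit 9, nat_lit 0, nat_lit 7, nat_lit 8, nat_lit 5, nat_lit 6, nat_lit 7, nat_lit 5, nat_lit 3, nat_lit 3, nat_lit 0])) (.node (nat_lit 0x7f6ccf6a6e62908) (.leaf ((nat_lit 3), [nat_lit 2, nat_lit 7, nat_lit 9, nat_lit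 5, nat_lit 9, nat_lit 6, nat_lit 8, nat_lit 6, nat_lit 5, nat_lit 0, nat_lit 7, nat_lit 6, nat_lit 4, nat_lit 3, nat_lit 6, nat_lit 5, nat_lit 4, nat_lit 1])) (.leaf ((nat_lit 0), [nat_lit 8, nat_lit 6, nat_lit 3, nat_lit 8, nat_lit 5, nat_lit 0, nat_lit 7, nat_lit 3, nat_lit 3, nat_lit 1])))))
 (.node (nat_lit 0x7f7413300ca2230) (.node (nat_lit 0x7f7242a95d92df8) (.leaf ((nat_lit 0), [nat_lit 8, nat_lit 0, nat_lit 8, nat_lit 6, nat_lit 2, nat_lit 4, nat_lit 7, nat_lit 2, nat_lit 4, nat_lit 6, nat_lit 5, nat_lit 2, nat_lit 2])) (.leaf ((nat_lit 1), [nat_lit 6, nat_lit 9, nat_lit 2, nat_lit 1, nat_lit 9, nat_lit 1, nat_lit 8, nat_lit 5, nat_lit 0, nat_lit 7, nat_lit 2, nat_lit 2, nat_lit 6, nat_lit 2, nat_lit 4, nat_lit 3]))) (.node (nat_lit 0x7f7a4034c18e22c) (.leaf ((nat_lit 1), [nat_lit 2, nat_lit 7, nat_lit 9, nat_lit 5, nat_lit 9, nat_lit 2, nat_lit 6, nat_lit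 2, nat_lit 8, nat_lit 6, nat_lit 7, nat_lit 6, nat_lit 3, nat_lit 3, nat_lit 6, nat_lit 5, nat_lit 3, nat_lit 0])) (.node (nat_lit 0x7f7afa7c10b0bb8) (.leaf ((nat_lit 3), [nat_lit 0, nat_lit 7, nat_lit 0, nat_lit 9, nat_lit 1, nat_lit 9, nat_lit 3, nat_lit 0, nat_lit 8, nat_lit 6, nat_lit 5, nat_lit 1, nat_lit 7, nat_lit 2, nat_lit 2, nat_lit 6, nat_lit 3, nat_lit 4, nat_lit 0])) (.leaf ((nat_lit 3), [nat_lit 6, nat_lit 9, nat_lit 2, nat_lit 1, nat_lit 9, nat_lit 4, nat_lit 3, nat_lit 8, nat_lit 6, nat_lit 5, nat_lit 7, nat_lit 5, nat_lit 6, nat_lit 0]))))))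
 (.node (nat_lit 0x7f9669b567a2898) (.node (nat_lit 0x7f8b525d4bc961c) (.node (nat_lit 0x7f8126b8cdedf88) (.leaf ((nat_lit 1), [nat_lit 0, nat_lit 7, nat_lit 0, nat_lit 9, nat_lit 1, nat_lit 9, nat_lit 3, nat_lit 3, nat_lit 8, nat_lit 6, nat_lit 0, nat_lit 7, nat_lit 6, nat_lit 2, nat_lit 4, nat_lit 2])) (.leaf ((nat_lit 1), [nat_lit 2, nat_lit 7, nat_lit 9, nat_lit 5, nat_lit 9, nat_lit 5, nat_lit 0, nat_lit 7, nat_lit 8, nat_lit 0, nat_lit 7, nat_lit 5, nat_lit 3, nat_lit 0]))) (.node (nat_lit 0x7f8bafb6f0e6c18) (.leaf ((nat_lit 2), [nat_lit 4, nat_lit 6, nat_lit 8, nat_lit 6, nat_lit 7, nat_lit 5, nat_lit 3, nat_lit 6, nat_lit 5, nat_lit 0])) (.node (nat_lit 0x7f8d23ecce3a220) (.leaf ((nat_lit 2), [nat_lit 7, nat_lit 0, nat_lit 9, nat_lit 1, nat_lit 9, nat_lit 8, nat_lit 7, nat_lit 8, nat_lit 5, nat_lit 8, nat_lit 4, nat_lit 6, nat_lit 2, nat_lit 1])) (.leaf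 ((nat_lit 6), [nat_lit 9, nat_lit 2, nat_lit 1, nat_lit 9, nat_lit 0, nat_lit 8, nat_lit 3, nat_lit 6, nat_lit 5, nat_lit 3, nat_lit 1])))))
 (.node (nat_lit 0x7f9a0b94fadc918) (.node (nat_lit 0x7f9723aeeb7af18) (.leaf ((nat_lit 0), [nat_lit 8, nat_lit 1, nat_lit 9, nat_lit 5, nat_lit 9, nat_lit 8, nat_lit 2, nat_lit 6, nat_lit 8, nat_lit 1, nat_lit 7, nat_lit 6, nat_lit 4, nat_lit 3, nat_lit 6, nat_lit 4, nat_lit 2])) (.leaf ((nat_lit 2), [nat_lit 7, nat_lit 0, nat_lit 9, nat_lit 1, nat_lit 9, nat_lit 8, nat_lit 7, nat_lit 0, nat_lit 8, nat_lit 7, nat_lit 6, nat_lit 2, nat_lit 4, nat_lit 6, nat_lit 4, nat_lit 3, nat_lit 0]))) (.node (nat_lit 0x7f9ac58c28c7dd8) (.leaf ((nat_lit 0), [nat_lit 8, nat_lit 6, nat_lit 9, nat_lit 5, nat_lit 9, nat_lit 5, nat_lit 8, nat_lit 5, nat_lit 8, nat_lit 6, nat_lit 1, nat_lit 7, nat_lit 5, nat_lit 3, nat_lit 6, nat_lit 5, nat_lit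 4, nat_lit 3, nat_lit 1])) (.node (nat_lit 0x7f9b228974afb58) (.leaf ((nat_lit 5), [nat_lit 8, nat_lit 1, nat_lit 9, nat_lit 5, nat_lit 9, nat_lit 6, nat_lit 8, nat_lit 0, nat_lit 8, nat_lit 3, nat_lit 4, nat_lit 7, nat_lit 6, nat_lit 5, nat_lit 2, nat_lit 0])) (.leaf ((nat_lit 0), [nat_lit 9, nat_lit 1, nat_lit 8, nat_lit 7, nat_lit 9, nat_lit 1, nat_lit 8, nat_lit 7, nat_lit 0, nat_lit 7, nat_lit 6, nat_lit 3, nat_lit 4, nat_lit 6, nat_lit 4, nat_lit 2]))))))))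
 (.node (nat_lit 0x7fbc8d374316380) (.node (nat_lit 0x7fada93f2dfdc54) (.node (nat_lit 0x7fa6c1f8e9c14c0) (.node (nat_lit 0x7f9f7e667fa22d8) (.node (nat_lit 0x7f9ec46ccdcb398) (.leaf ((nat_lit 0), [nat_lit 8, nat_lit 1, nat_lit 9, nat_lit 5, nat_lit 9, nat_lit 6, nat_lit 8, nat_lit 6, nat_lit 7, nat_lit 3, nat_lit 3, nat_lit 3, nat_lit 6, nat_lit 5, nat_lit 4])) (.leaf ((nat_lit 0), [nat_lit 8, nat_lit 1, nat_lit 9, nat_lit 5, nat_lit 9, nat_lit 6, nat_lit 5, nat_lit 2, nat_lit 8, nat_lit 2, nat_lit 6, nat_lit 2, nat_lit 4, nat_lit 2, nat_lit 0]))) (.node (nat_lit 0x7f9fdb63138fd58) (.leaf ((nat_lit 0), [nat_lit 8, nat_lit 1, nat_lit 9, nat_lit 5, nat_lit 9, nat_lit 3, nat_lit 1, nat_lit 8, nat_lit 5, nat_lit 4, nat_lit 7, nat_lit 4, nat_lit 3, nat_lit 6, nat_lit 3, nat_lit 3])) (.node (nat_lit 0x7fa54e04ce19340) (.leaf ((nat_lit 3), [nat_lit 5, nat_lit 7, nat_lit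 8, nat_lit 7, nat_lit 5, nat_lit 7, nat_lit 3, nat_lit 6, nat_lit 5, nat_lit 2, nat_lit 4, nat_lit 0])) (.leaf ((nat_lit 0), [nat_lit 1, nat_lit 9, nat_lit 5, nat_lit 4, nat_lit 9, nat_lit 6, nat_lit 0, nat_lit 8, nat_lit 5, nat_lit 6, nat_lit 7, nat_lit 2, nat_lit 2, nat_lit 6, nat_lit 3])))))
 (.node (nat_lit 0x7fa94cd79d8c740) (.node (nat_lit 0x7fa8efdb659be40) (.leaf ((nat_lit 0), [nat_lit 2, nat_lit 7, nat_lit 9, nat_lit 5, nat_lit 9, nat_lit 3, nat_lit 7, nat_lit 5, nat_lit 8, nat_lit 5, nat_lit 1, nat_lit 7, nat_lit 2, nat_lit 4, nat_lit 2])) (.leaf ((nat_lit 0), [nat_lit 4, nat_lit 7, nat_lit 9, nat_lit 5, nat_lit 9, nat_lit 6, nat_lit 7, nat_lit 2, nat_lit 1, nat_lit 8, nat_lit 5, nat_lit 0, nat_lit 7, nat_lit 2, nat_lit 6, nat_lit 4]))) (.node (nat_lit 0x7fa9a9de9d25d40) (.leaf ((nat_lit 0), [nat_lit 9, nat_lit 5, nat_lit 4, nat_lit 9, nat_lit 8, nat_lit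 5, nat_lit 4, nat_lit 7, nat_lit 6, nat_lit 4, nat_lit 3, nat_lit 6])) (.node (nat_lit 0x7faac152d4cf014) (.leaf ((nat_lit 0), [nat_lit 0, nat_lit 7, nat_lit 0, nat_lit 9, nat_lit 1, nat_lit 9, nat_lit 8, nat_lit 1, nat_lit 8, nat_lit 5, nat_lit 1, nat_lit 7, nat_lit 2, nat_lit 2])) (.leaf ((nat_lit 0), [nat_lit 4, nat_lit 7, nat_lit 9, nat_lit 5, nat_lit 9, nat_lit 2, nat_lit 5, nat_lit 8, nat_lit 1, nat_lit 7, nat_lit 3, nat_lit 6, nat_lit 4, nat_lit 3]))))))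
 (.node (nat_lit 0x7fb777e5a7f73d4) (.node (nat_lit 0x7faec03573c2614) (.node (nat_lit 0x7fae6338b1d62d4) (.leaf ((nat_lit 0), [nat_lit 6, nat_lit 9, nat_lit 2, nat_lit 1, nat_lit 9, nat_lit 7, nat_lit 8, nat_lit 6, nat_lit 3, nat_lit 8, nat_lit 6, nat_lit 4, nat_lit 2, nat_lit 2])) (.leaf ((nat_lit 0), [nat_lit 4, nat_lit 7, nat_lit 9, nat_lit 5, nat_lit 9, nat_lit 7, nat_lit 2, nat_lit 1, nat_lit 8, nat_lit 5, nat_lit 7, nat_lit 5, nat_lit 3, nat_lit 6, nat_lit 2, nat_lit 2]))) (.node (nat_lit 0x7fb3d60614bd354) (.leaf ((nat_lit 0), [nat_lit 7, nat_lit 0, nat_lit 9, nat_lit 1, nat_lit 9, nat_lit 8, nat_lit 6, nat_lit 2, nat_lit 8, nat_lit 6, nat_lit 2, nat_lit 4, nat_lit 7, nat_lit 5, nat_lit 2])) (.node (nat_lit 0x7fb4ecfc88805d4) (.leaf ((nat_lit 0), [nat_lit 6, nat_lit 9, nat_lit 2, nat_lit 1, nat_lit 9, nat_lit 6, nat_lit 3, nat_lit 4, nat_lit 7, nat_lit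 3, nat_lit 6, nat_lit 4, nat_lit 3, nat_lit 3])) (.leaf ((nat_lit 0), [nat_lit 7, nat_lit 0, nat_lit 9, nat_lit 1, nat_lit 9, nat_lit 2, nat_lit 2, nat_lit 8, nat_lit 7, nat_lit 1, nat_lit 7, nat_lit 2, nat_lit 4, nat_lit 2, nat_lit 0])))))
 (.node (nat_lit 0x7fb88ee17f8ecd4) (.node (nat_lit 0x7fb7d4e715bda94) (.leaf ((nat_lit 0), [nat_lit 0, nat_lit 7, nat_lit 0, nat_lit 9, nat_lit 1, nat_lit 9, nat_lit 5, nat_lit 8, nat_lit 2, nat_lit 1, nat_lit 8, nat_lit 5, nat_lit 6, nat_lit 7, nat_lit 3, nat_lit 6, nat_lit 2, nat_lit 4, nat_lit 2])) (.leaf ((nat_lit 0), [nat_lit 3, nat_lit 9, nat_lit 2, nat_lit 1, nat_lit 9, nat_lit 5, nat_lit 7, nat_lit 6, nat_lit 8, nat_lit 6, nat_lit 4, nat_lit 2, nat_lit 6, nat_lit 5, nat_lit 2, nat_lit 2, nat_lit 1]))) (.node (nat_lit 0x7fb9a5591b74a80) (.leaf ((nat_lit 0), [nat_lit 1, nat_lit 9, nat_lit 5, nat_lit 4, nat_lit 9, nat_lit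 6, nat_lit 8, nat_lit 0, nat_lit 8, nat_lit 6, nat_lit 0, nat_lit 7, nat_lit 6, nat_lit 3, nat_lit 4, nat_lit 6])) (.node (nat_lit 0x7fbc303a812a040) (.leaf ((nat_lit 0), [nat_lit 7, nat_lit 0, nat_lit 9, nat_lit 1, nat_lit 9, nat_lit 7, nat_lit 2, nat_lit 8, nat_lit 0, nat_lit 7, nat_lit 2, nat_lit 4, nat_lit 6, nat_lit 0])) (.leaf ((nat_lit 0), [nat_lit 1, nat_lit 9, nat_lit 5, nat_lit 4, nat_lit 9, nat_lit 7, nat_lit 5, nat_lit 8, nat_lit 3, nat_lit 3, nat_lit 3, nat_lit 6, nat_lit 5, nat_lit 4, nat_lit 3, nat_lit 0])))))))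
 (.node (nat_lit 0x7fcab8104d0d544) (.node (nat_lit 0x7fc7d03da50ec44) (.node (nat_lit 0x7fc31767fa0f1e0) (.node (nat_lit 0x7fbd4730f4ed2c0) (.leaf ((nat_lit 0), [nat_lit 2, nat_lit 7, nat_lit 9, nat_lit 5, nat_lit 9, nat_lit 7, nat_lit 2, nat_lit 5, nat_lit 8, nat_lit 6, nat_lit 5, nat_lit 1, nat_lit 7, nat_lit 6, nat_lit 4, nat_lit 2, nat_lit 6, nat_lit 5, nat_lit 0])) (.leaf ((nat_lit 0), [nat_lit 7, nat_lit 0, nat_lit 9, nat_lit 1, nat_lit 9, nat_lit 3, nat_lit 6, nat_lit 3, nat_lit 8, nat_lit 7, nat_lit 5, nat_lit 6, nat_lit 7, nat_lit 4, nat_lit 2, nat_lit 6, nat_lit 2, nat_lit 0]))) (.node (nat_lit 0x7fc3d1617de7860) (.leaf ((nat_lit 0), [nat_lit 0, nat_lit 7, nat_lit 0, nat_lit 9, nat_lit 1, nat_lit 9, nat_lit 3, nat_lit 6, nat_lit 3, nat_lit 8, nat_lit 5, nat_lit 7, nat_lit 6, nat_lit 5, nat_lit 6, nat_lit 3])) (.node (nat_lit 0x7fc42e5f25cc760) (.leaf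 ((nat_lit 0), [nat_lit 7, nat_lit 0, nat_lit 9, nat_lit 1, nat_lit 9, nat_lit 5, nat_lit 8, nat_lit 0, nat_lit 8, nat_lit 1, nat_lit 7, nat_lit 4, nat_lit 2, nat_lit 6, nat_lit 5, nat_lit 3, nat_lit 1])) (.leaf ((nat_lit 0), [nat_lit 8, nat_lit 7, nat_lit 9, nat_lit 2, nat_lit 1, nat_lit 9, nat_lit 7, nat_lit 8, nat_lit 6, nat_lit 0, nat_lit 7, nat_lit 4, nat_lit 3, nat_lit 3, nat_lit 6, nat_lit 5, nat_lit 2])))))
 (.node (nat_lit 0x7fc8e733bcd4d44) (.node (nat_lit 0x7fc88a3728e72c4) (.leaf ((nat_lit 0), [nat_lit 1, nat_lit 9, nat_lit 5, nat_lit 4, nat_lit 9, nat_lit 4, nat_lit 0, nat_lit 7, nat_lit 8, nat_lit 7, nat_lit 3, nat_lit 4, nat_lit 7, nat_lit 6, nat_lit 2, nat_lit 2])) (.leaf ((nat_lit 0), [nat_lit 6, nat_lit 9, nat_lit 2, nat_lit 1, nat_lit 9, nat_lit 3, nat_lit 7, nat_lit 8, nat_lit 0, nat_lit 7, nat_lit 6, nat_lit 3, nat_lit 4, nat_lit 6, nat_lit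 5, nat_lit 0]))) (.node (nat_lit 0x7fc9441ce95f6c4) (.leaf ((nat_lit 0), [nat_lit 9, nat_lit 5, nat_lit 4, nat_lit 9, nat_lit 4, nat_lit 0, nat_lit 7, nat_lit 8, nat_lit 4, nat_lit 0, nat_lit 7, nat_lit 6, nat_lit 2, nat_lit 2, nat_lit 6, nat_lit 0])) (.node (nat_lit 0x7fc9fe16f733784) (.leaf ((nat_lit 0), [nat_lit 8, nat_lit 7, nat_lit 9, nat_lit 2, nat_lit 1, nat_lit 9, nat_lit 6, nat_lit 7, nat_lit 2, nat_lit 1, nat_lit 8, nat_lit 6, nat_lit 7, nat_lit 5, nat_lit 6, nat_lit 3, nat_lit 3, nat_lit 1])) (.leaf ((nat_lit 0), [nat_lit 0, nat_lit 7, nat_lit 0, nat_lit 9, nat_lit 1, nat_lit 9, nat_lit 7, nat_lit 8, nat_lit 1, nat_lit 8, nat_lit 7, nat_lit 4, nat_lit 6, nat_lit 4, nat_lit 2]))))))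
 (.node (nat_lit 0x7fd6b50fd7431f0) (.node (nat_lit 0x7fd258b4506f8e4) (.node (nat_lit 0x7fd1fbb7bc81e64) (.leaf ((nat_lit 0), [nat_lit 7, nat_lit 0, nat_lit 9, nat_lit 1, nat_lit 9, nat_lit 6, nat_lit 2, nat_lit 8, nat_lit 3, nat_lit 4, nat_lit 7, nat_lit 3, nat_lit 4, nat_lit 6, nat_lit 4, nat_lit 3, nat_lit 3])) (.leaf ((nat_lit 0), [nat_lit 8, nat_lit 6, nat_lit 9, nat_lit 5, nat_lit 9, nat_lit 8, nat_lit 5, nat_lit 2, nat_lit 8, nat_lit 7, nat_lit 6, nat_lit 2, nat_lit 4, nat_lit 6, nat_lit 4, nat_lit 3]))) (.node (nat_lit 0x7fd2b591a15a0e4) (.leaf ((nat_lit 3), [nat_lit 8, nat_lit 3, nat_lit 1, nat_lit 8, nat_lit 6, nat_lit 0, nat_lit 7, nat_lit 3, nat_lit 4, nat_lit 6, nat_lit 1])) (.node (nat_lit 0x7fd429a4480b1e4) (.leaf ((nat_lit 0), [nat_lit 8, nat_lit 6, nat_lit 9, nat_lit 5, nat_lit 9, nat_lit 5, nat_lit 1, nat_lit 8, nat_lit 7, nat_lit 3, nat_lit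 4, nat_lit 7, nat_lit 2, nat_lit 2, nat_lit 6, nat_lit 2, nat_lit 4, nat_lit 3])) (.leaf ((nat_lit 5), [nat_lit 7, nat_lit 0, nat_lit 9, nat_lit 1, nat_lit 9, nat_lit 8, nat_lit 2, nat_lit 6, nat_lit 3, nat_lit 8, nat_lit 4, nat_lit 7, nat_lit 2, nat_lit 6, nat_lit 5, nat_lit 2, nat_lit 0])))))
 (.node (nat_lit 0x7fd7cc061d07bb0) (.node (nat_lit 0x7fd76f09891a130) (.leaf ((nat_lit 0), [nat_lit 8, nat_lit 1, nat_lit 9, nat_lit 5, nat_lit 9, nat_lit 6, nat_lit 8, nat_lit 7, nat_lit 3, nat_lit 4, nat_lit 7, nat_lit 2, nat_lit 6, nat_lit 2, nat_lit 4, nat_lit 0])) (.leaf ((nat_lit 0), [nat_lit 8, nat_lit 6, nat_lit 9, nat_lit 5, nat_lit 9, nat_lit 8, nat_lit 7, nat_lit 0, nat_lit 8, nat_lit 3, nat_lit 3, nat_lit 3, nat_lit 6, nat_lit 2, nat_lit 4, nat_lit 3]))) (.node (nat_lit 0x7fd828e819cc730) (.leaf ((nat_lit 5), [nat_lit 9, nat_lit 1, nat_lit 8, nat_lit 7, nat_lit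 9, nat_lit 7, nat_lit 8, nat_lit 4, nat_lit 1, nat_lit 7, nat_lit 6, nat_lit 5, nat_lit 2, nat_lit 0])) (.node (nat_lit 0x7fe083a795b3368) (.leaf ((nat_lit 0), [nat_lit 9, nat_lit 1, nat_lit 8, nat_lit 7, nat_lit 9, nat_lit 6, nat_lit 3, nat_lit 0, nat_lit 8, nat_lit 6, nat_lit 5, nat_lit 0, nat_lit 7, nat_lit 3, nat_lit 6, nat_lit 4, nat_lit 3, nat_lit 3])) (.leaf ((nat_lit 0), [nat_lit 4, nat_lit 7, nat_lit 9, nat_lit 5, nat_lit 9, nat_lit 3, nat_lit 8, nat_lit 7, nat_lit 1, nat_lit 8, nat_lit 7, nat_lit 5, nat_lit 0, nat_lit 7, nat_lit 2, nat_lit 6, nat_lit 5])))))))))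
 (.node (nat_lit 0x801d2c4404df818) (.node (nat_lit 0x8000d7234a181f8) (.node (nat_lit 0x7ff138cc5c3b044) (.node (nat_lit 0x7fe599084857af8) (.node (nat_lit 0x7fe254a870c62e8) (.node (nat_lit 0x7fe19a9ddb77d28) (.leaf ((nat_lit 0), [nat_lit 7, nat_lit 0, nat_lit 9, nat_lit 1, nat_lit 9, nat_lit 3, nat_lit 6, nat_lit 3, nat_lit 8, nat_lit 7, nat_lit 5, nat_lit 7, nat_lit 3, nat_lit 3, nat_lit 3, nat_lit 6, nat_lit 2])) (.leaf ((nat_lit 0), [nat_lit 6, nat_lit 9, nat_lit 2, nat_lit 1, nat_lit 9, nat_lit 5, nat_lit 7, nat_lit 5, nat_lit 8, nat_lit 6, nat_lit 5, nat_lit 1, nat_lit 7, nat_lit 3, nat_lit 6]))) (.node (nat_lit 0x7fe36b9ff8809e8) (.leaf ((nat_lit 0), [nat_lit 9, nat_lit 5, nat_lit 4, nat_lit 9, nat_lit 3, nat_lit 3, nat_lit 8, nat_lit 6, nat_lit 1, nat_lit 7, nat_lit 4, nat_lit 3, nat_lit 6, nat_lit 2, nat_lit 0])) (.node (nat_lit 0x7fe53c0b866b7b8)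 (.leaf ((nat_lit 0), [nat_lit 2, nat_lit 7, nat_lit 9, nat_lit 5, nat_lit 9, nat_lit 3, nat_lit 7, nat_lit 5, nat_lit 8, nat_lit 4, nat_lit 1, nat_lit 7, nat_lit 3, nat_lit 3, nat_lit 6, nat_lit 5, nat_lit 4, nat_lit 0])) (.leaf ((nat_lit 0), [nat_lit 6, nat_lit 9, nat_lit 2, nat_lit 1, nat_lit 9, nat_lit 4, nat_lit 7, nat_lit 6, nat_lit 4, nat_lit 2, nat_lit 6, nat_lit 3])))))
 (.node (nat_lit 0x7fe6aff1cc83778) (.node (nat_lit 0x7fe653019e318b8) (.leaf ((nat_lit 0), [nat_lit 8, nat_lit 7, nat_lit 9, nat_lit 2, nat_lit 1, nat_lit 9, nat_lit 7, nat_lit 6, nat_lit 8, nat_lit 5, nat_lit 7, nat_lit 5, nat_lit 4, nat_lit 2, nat_lit 2, nat_lit 0])) (.leaf ((nat_lit 0), [nat_lit 3, nat_lit 9, nat_lit 2, nat_lit 1, nat_lit 9, nat_lit 4, nat_lit 1, nat_lit 7, nat_lit 3, nat_lit 6, nat_lit 4, nat_lit 0]))) (.node (nat_lit 0x7fe769ec08560f8) (.leaf ((nat_lit 0), [nat_lit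 2, nat_lit 7, nat_lit 9, nat_lit 5, nat_lit 9, nat_lit 6, nat_lit 2, nat_lit 8, nat_lit 6, nat_lit 5, nat_lit 6, nat_lit 7, nat_lit 2, nat_lit 2, nat_lit 6, nat_lit 4, nat_lit 3, nat_lit 1])) (.node (nat_lit 0x7ff07ed2d8629c4) (.leaf ((nat_lit 0), [nat_lit 1, nat_lit 9, nat_lit 5, nat_lit 4, nat_lit 9, nat_lit 7, nat_lit 5, nat_lit 8, nat_lit 3, nat_lit 6, nat_lit 4, nat_lit 2, nat_lit 1])) (.leaf ((nat_lit 0), [nat_lit 8, nat_lit 7, nat_lit 9, nat_lit 2, nat_lit 1, nat_lit 9, nat_lit 1, nat_lit 7, nat_lit 8, nat_lit 5, nat_lit 7, nat_lit 6, nat_lit 5, nat_lit 4, nat_lit 3, nat_lit 3, nat_lit 0]))))))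
 (.node (nat_lit 0x7ff64eb76660ae0) (.node (nat_lit 0x7ff537a827660e0) (.node (nat_lit 0x7ff1f2c6f40ab44) (.leaf ((nat_lit 0), [nat_lit 7, nat_lit 0, nat_lit 9, nat_lit 1, nat_lit 9, nat_lit 5, nat_lit 8, nat_lit 0, nat_lit 8, nat_lit 7, nat_lit 4, nat_lit 3, nat_lit 6, nat_lit 3, nat_lit 0])) (.leaf ((nat_lit 0), [nat_lit 0, nat_lit 7, nat_lit 0, nat_lit 9, nat_lit 1, nat_lit 9, nat_lit 3, nat_lit 6, nat_lit 3, nat_lit 8, nat_lit 4, nat_lit 7, nat_lit 3, nat_lit 6, nat_lit 5, nat_lit 4, nat_lit 3]))) (.node (nat_lit 0x7ff594a4e952420) (.leaf ((nat_lit 0), [nat_lit 0, nat_lit 7, nat_lit 0, nat_lit 9, nat_lit 1, nat_lit 9, nat_lit 8, nat_lit 1, nat_lit 8, nat_lit 5, nat_lit 7, nat_lit 6, nat_lit 3, nat_lit 3, nat_lit 6, nat_lit 5, nat_lit 1])) (.node (nat_lit 0x7ff5f1a17d3fea0) (.leaf ((nat_lit 0), [nat_lit 8, nat_lit 7, nat_lit 9, nat_lit 2, nat_lit 1, nat_lit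 9, nat_lit 1, nat_lit 7, nat_lit 8, nat_lit 6, nat_lit 5, nat_lit 6, nat_lit 7, nat_lit 3, nat_lit 6, nat_lit 0])) (.leaf ((nat_lit 0), [nat_lit 7, nat_lit 0, nat_lit 9, nat_lit 1, nat_lit 9, nat_lit 6, nat_lit 2, nat_lit 8, nat_lit 6, nat_lit 7, nat_lit 5, nat_lit 3, nat_lit 3, nat_lit 3, nat_lit 0])))))
 (.node (nat_lit 0x7ff7c2aaf80d220) (.node (nat_lit 0x7ff708b17434ba0) (.leaf ((nat_lit 0), [nat_lit 2, nat_lit 7, nat_lit 9, nat_lit 5, nat_lit 9, nat_lit 7, nat_lit 8, nat_lit 7, nat_lit 1, nat_lit 8, nat_lit 3, nat_lit 4, nat_lit 7, nat_lit 2, nat_lit 4])) (.leaf ((nat_lit 0), [nat_lit 4, nat_lit 7, nat_lit 9, nat_lit 5, nat_lit 9, nat_lit 6, nat_lit 2, nat_lit 8, nat_lit 5, nat_lit 7, nat_lit 2, nat_lit 2, nat_lit 6, nat_lit 4, nat_lit 2, nat_lit 1]))) (.node (nat_lit 0x7fff63226cd7338) (.leaf ((nat_lit 0), [nat_lit 3, nat_lit 9, nat_lit 2, nat_lit 1, nat_lit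 9, nat_lit 7, nat_lit 8, nat_lit 0, nat_lit 8, nat_lit 2, nat_lit 2, nat_lit 6, nat_lit 4, nat_lit 1])) (.node (nat_lit 0x80007a18e09a5b8) (.leaf ((nat_lit 0), [nat_lit 2, nat_lit 7, nat_lit 9, nat_lit 5, nat_lit 9, nat_lit 8, nat_lit 2, nat_lit 6, nat_lit 8, nat_lit 5, nat_lit 1, nat_lit 7, nat_lit 6, nat_lit 2, nat_lit 4, nat_lit 6, nat_lit 2])) (.leaf ((nat_lit 0), [nat_lit 7, nat_lit 0, nat_lit 9, nat_lit 1, nat_lit 9, nat_lit 3, nat_lit 6, nat_lit 3, nat_lit 8, nat_lit 3, nat_lit 6, nat_lit 7, nat_lit 4, nat_lit 3, nat_lit 3, nat_lit 0])))))))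
 (.node (nat_lit 0x8010d30a7ad7ff0) (.node (nat_lit 0x8005ed7ca4a0c68) (.node (nat_lit 0x80041c7a8797fa8) (.node (nat_lit 0x8001ee0be84b2b8) (.leaf ((nat_lit 0), [nat_lit 1, nat_lit 9, nat_lit 5, nat_lit 4, nat_lit 9, nat_lit 0, nat_lit 7, nat_lit 8, nat_lit 7, nat_lit 0, nat_lit 7, nat_lit 4, nat_lit 6, nat_lit 5, nat_lit 3, nat_lit 3])) (.leaf ((nat_lit 0), [nat_lit 7, nat_lit 0, nat_lit 9, nat_lit 1, nat_lit 9, nat_lit 3, nat_lit 6, nat_lit 3, nat_lit 8, nat_lit 3, nat_lit 6, nat_lit 7, nat_lit 2, nat_lit 6, nat_lit 2, nat_lit 1]))) (.node (nat_lit 0x8004d6740b70628) (.leaf ((nat_lit 0), [nat_lit 4, nat_lit 7, nat_lit 9, nat_lit 5, nat_lit 9, nat_lit 6, nat_lit 3, nat_lit 8, nat_lit 1, nat_lit 7, nat_lit 2, nat_lit 4, nat_lit 3, nat_lit 6, nat_lit 2])) (.node (nat_lit 0x8005906dbd47568) (.leaf ((nat_lit 0), [nat_lit 6, nat_lit 9, nat_lit 2, nat_lit 1, nat_lit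 9, nat_lit 4, nat_lit 7, nat_lit 2, nat_lit 6, nat_lit 5, nat_lit 4, nat_lit 1])) (.leaf ((nat_lit 0), [nat_lit 7, nat_lit 0, nat_lit 9, nat_lit 1, nat_lit 9, nat_lit 7, nat_lit 8, nat_lit 7, nat_lit 1, nat_lit 8, nat_lit 5, nat_lit 4, nat_lit 7, nat_lit 3, nat_lit 6, nat_lit 0])))))
 (.node (nat_lit 0x800ea51d09560b0) (.node (nat_lit 0x800deb3f309ddb0) (.leaf ((nat_lit 0), [nat_lit 8, nat_lit 7, nat_lit 9, nat_lit 2, nat_lit 1, nat_lit 9, nat_lit 4, nat_lit 0, nat_lit 7, nat_lit 8, nat_lit 1, nat_lit 7, nat_lit 4, nat_lit 6, nat_lit 3, nat_lit 0])) (.leaf ((nat_lit 0), [nat_lit 9, nat_lit 1, nat_lit 8, nat_lit 7, nat_lit 9, nat_lit 3, nat_lit 3, nat_lit 8, nat_lit 4, nat_lit 7, nat_lit 2, nat_lit 4, nat_lit 2]))) (.node (nat_lit 0x800f02357662770) (.leaf ((nat_lit 2), [nat_lit 7, nat_lit 0, nat_lit 9, nat_lit 1, nat_lit 9, nat_lit 3, nat_lit 1, nat_lit 8, nat_lit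 4, nat_lit 7, nat_lit 5, nat_lit 6, nat_lit 4, nat_lit 2, nat_lit 1])) (.node (nat_lit 0x800fbc13211c1b0) (.leaf ((nat_lit 0), [nat_lit 9, nat_lit 1, nat_lit 8, nat_lit 7, nat_lit 9, nat_lit 5, nat_lit 7, nat_lit 5, nat_lit 8, nat_lit 7, nat_lit 0, nat_lit 7, nat_lit 6, nat_lit 5, nat_lit 3, nat_lit 6, nat_lit 1])) (.leaf ((nat_lit 3), [nat_lit 2, nat_lit 6, nat_lit 3, nat_lit 8, nat_lit 5, nat_lit 6, nat_lit 7, nat_lit 2, nat_lit 6, nat_lit 0]))))))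
 (.node (nat_lit 0x8014d183a340424) (.node (nat_lit 0x80135d6f8c9ad24) (.node (nat_lit 0x8012a375dac3de4) (.leaf ((nat_lit 0), [nat_lit 9, nat_lit 1, nat_lit 8, nat_lit 7, nat_lit 9, nat_lit 1, nat_lit 7, nat_lit 8, nat_lit 6, nat_lit 0, nat_lit 7, nat_lit 6, nat_lit 3, nat_lit 4, nat_lit 6, nat_lit 4, nat_lit 2, nat_lit 1])) (.leaf ((nat_lit 0), [nat_lit 8, nat_lit 6, nat_lit 9, nat_lit 5, nat_lit 9, nat_lit 0, nat_lit 8, nat_lit 4, nat_lit 0, nat_lit 7, nat_lit 6, nat_lit 5, nat_lit 4]))) (.node (nat_lit 0x8013ba6c4e87064) (.leaf ((nat_lit 0), [nat_lit 8, nat_lit 6, nat_lit 9, nat_lit 5, nat_lit 9, nat_lit 2, nat_lit 1, nat_lit 8, nat_lit 6, nat_lit 7, nat_lit 5, nat_lit 6, nat_lit 3, nat_lit 4, nat_lit 3, nat_lit 0])) (.node (nat_lit 0x80141789956c364) (.leaf ((nat_lit 2), [nat_lit 9, nat_lit 5, nat_lit 4, nat_lit 9, nat_lit 7, nat_lit 0, nat_lit 8, nat_lit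 6, nat_lit 5, nat_lit 0, nat_lit 7, nat_lit 2, nat_lit 4, nat_lit 6, nat_lit 3, nat_lit 3])) (.leaf ((nat_lit 0), [nat_lit 9, nat_lit 1, nat_lit 8, nat_lit 7, nat_lit 9, nat_lit 5, nat_lit 7, nat_lit 5, nat_lit 8, nat_lit 6, nat_lit 4, nat_lit 2, nat_lit 6, nat_lit 3, nat_lit 4, nat_lit 3, nat_lit 0])))))
 (.node (nat_lit 0x801bb84dc148d98) (.node (nat_lit 0x801afe574b57bd8) (.leaf ((nat_lit 0), [nat_lit 8, nat_lit 1, nat_lit 9, nat_lit 5, nat_lit 9, nat_lit 7, nat_lit 1, nat_lit 7, nat_lit 8, nat_lit 4, nat_lit 1, nat_lit 7, nat_lit 5, nat_lit 6, nat_lit 5, nat_lit 3, nat_lit 6, nat_lit 4, nat_lit 1])) (.leaf ((nat_lit 5), [nat_lit 8, nat_lit 1, nat_lit 9, nat_lit 5, nat_lit 9, nat_lit 3, nat_lit 5, nat_lit 8, nat_lit 3, nat_lit 6, nat_lit 1, nat_lit 7, nat_lit 5, nat_lit 3, nat_lit 6, nat_lit 5, nat_lit 4, nat_lit 1]))) (.node (nat_lit 0x801c154b0d30b18) (.leaf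 ((nat_lit 0), [nat_lit 9, nat_lit 1, nat_lit 8, nat_lit 7, nat_lit 9, nat_lit 8, nat_lit 5, nat_lit 0, nat_lit 8, nat_lit 6, nat_lit 7, nat_lit 2, nat_lit 4, nat_lit 6, nat_lit 2, nat_lit 2])) (.node (nat_lit 0x801c724a8107198) (.leaf ((nat_lit 0), [nat_lit 8, nat_lit 6, nat_lit 9, nat_lit 5, nat_lit 9, nat_lit 7, nat_lit 5, nat_lit 1, nat_lit 8, nat_lit 6, nat_lit 2, nat_lit 4, nat_lit 7, nat_lit 6, nat_lit 4, nat_lit 2, nat_lit 6, nat_lit 4, nat_lit 2])) (.leaf ((nat_lit 2), [nat_lit 4, nat_lit 7, nat_lit 9, nat_lit 5, nat_lit 9, nat_lit 1, nat_lit 8, nat_lit 7, nat_lit 1, nat_lit 8, nat_lit 1, nat_lit 7, nat_lit 4, nat_lit 2, nat_lit 6, nat_lit 4, nat_lit 2]))))))))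
 (.node (nat_lit 0x803f50e707414c0) (.node (nat_lit 0x80306ceef228d94) (.node (nat_lit 0x8029e29cfe1ce00) (.node (nat_lit 0x8022421643cd418) (.node (nat_lit 0x8021881c91f64d8) (.leaf ((nat_lit 0), [nat_lit 8, nat_lit 1, nat_lit 9, nat_lit 5, nat_lit 9, nat_lit 3, nat_lit 6, nat_lit 8, nat_lit 5, nat_lit 7, nat_lit 5, nat_lit 1, nat_lit 7, nat_lit 4, nat_lit 6, nat_lit 4, nat_lit 3])) (.leaf ((nat_lit 3), [nat_lit 8, nat_lit 5, nat_lit 7, nat_lit 5, nat_lit 7, nat_lit 6, nat_lit 5, nat_lit 6, nat_lit 3, nat_lit 4]))) (.node (nat_lit 0x80229f12d7bae98) (.leaf ((nat_lit 0), [nat_lit 8, nat_lit 1, nat_lit 9, nat_lit 5, nat_lit 9, nat_lit 6, nat_lit 2, nat_lit 8, nat_lit 6, nat_lit 0, nat_lit 7, nat_lit 2, nat_lit 4, nat_lit 3, nat_lit 6, nat_lit 4, nat_lit 1])) (.node (nat_lit 0x802359107d71e58) (.leaf ((nat_lit 0), [nat_lit 8, nat_lit 1, nat_lit 9, nat_lit 5, nat_lit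 9, nat_lit 0, nat_lit 8, nat_lit 7, nat_lit 3, nat_lit 3, nat_lit 6, nat_lit 5, nat_lit 4, nat_lit 3, nat_lit 3, nat_lit 0])) (.leaf ((nat_lit 0), [nat_lit 8, nat_lit 1, nat_lit 9, nat_lit 5, nat_lit 9, nat_lit 5, nat_lit 1, nat_lit 8, nat_lit 6, nat_lit 5, nat_lit 6, nat_lit 7, nat_lit 3, nat_lit 3, nat_lit 6, nat_lit 5])))))
 (.node (nat_lit 0x802a9ca0eda1000) (.node (nat_lit 0x802a3f99360d700) (.leaf ((nat_lit 0), [nat_lit 3, nat_lit 9, nat_lit 2, nat_lit 1, nat_lit 9, nat_lit 8, nat_lit 6, nat_lit 2, nat_lit 8, nat_lit 1, nat_lit 7, nat_lit 2, nat_lit 4, nat_lit 3, nat_lit 6, nat_lit 4, nat_lit 2])) (.leaf ((nat_lit 0), [nat_lit 6, nat_lit 9, nat_lit 2, nat_lit 1, nat_lit 9, nat_lit 4, nat_lit 0, nat_lit 7, nat_lit 3, nat_lit 3, nat_lit 3, nat_lit 6, nat_lit 5, nat_lit 4, nat_lit 3, nat_lit 3, nat_lit 0]))) (.node (nat_lit 0x802b5699e77dc40) (.leaf ((nat_lit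 0), [nat_lit 8, nat_lit 7, nat_lit 9, nat_lit 2, nat_lit 1, nat_lit 9, nat_lit 0, nat_lit 7, nat_lit 8, nat_lit 6, nat_lit 5, nat_lit 0, nat_lit 7, nat_lit 3, nat_lit 6, nat_lit 5, nat_lit 4])) (.node (nat_lit 0x802cca8e0325dc0) (.leaf ((nat_lit 0), [nat_lit 9, nat_lit 5, nat_lit 4, nat_lit 9, nat_lit 6, nat_lit 8, nat_lit 4, nat_lit 7, nat_lit 2, nat_lit 6, nat_lit 2])) (.leaf ((nat_lit 0), [nat_lit 4, nat_lit 7, nat_lit 9, nat_lit 5, nat_lit 9, nat_lit 5, nat_lit 1, nat_lit 8, nat_lit 5, nat_lit 7, nat_lit 6, nat_lit 5, nat_lit 3, nat_lit 6, nat_lit 3]))))))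
 (.node (nat_lit 0x8038c7a8ae3ea54) (.node (nat_lit 0x803183e537ed754) (.node (nat_lit 0x803126e87601414) (.leaf ((nat_lit 0), [nat_lit 9, nat_lit 5, nat_lit 4, nat_lit 9, nat_lit 5, nat_lit 7, nat_lit 0, nat_lit 8, nat_lit 7, nat_lit 3, nat_lit 6, nat_lit 5, nat_lit 3, nat_lit 3])) (.leaf ((nat_lit 0), [nat_lit 2, nat_lit 7, nat_lit 9, nat_lit 5, nat_lit 9, nat_lit 5, nat_lit 8, nat_lit 5, nat_lit 8, nat_lit 7, nat_lit 0, nat_lit 7, nat_lit 6, nat_lit 4, nat_lit 2, nat_lit 6, nat_lit 3, nat_lit 1]))) (.node (nat_lit 0x80323ddbadde914) (.leaf ((nat_lit 0), [nat_lit 8, nat_lit 7, nat_lit 9, nat_lit 2, nat_lit 1, nat_lit 9, nat_lit 1, nat_lit 7, nat_lit 8, nat_lit 5, nat_lit 6, nat_lit 7, nat_lit 3, nat_lit 6, nat_lit 4])) (.node (nat_lit 0x80386aa7f872694) (.leaf ((nat_lit 0), [nat_lit 2, nat_lit 7, nat_lit 9, nat_lit 5, nat_lit 9, nat_lit 8, nat_lit 2, nat_lit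 6, nat_lit 8, nat_lit 2, nat_lit 2, nat_lit 6, nat_lit 5, nat_lit 2, nat_lit 4])) (.leaf ((nat_lit 0), [nat_lit 7, nat_lit 0, nat_lit 9, nat_lit 1, nat_lit 9, nat_lit 7, nat_lit 1, nat_lit 7, nat_lit 8, nat_lit 2, nat_lit 6, nat_lit 3, nat_lit 3, nat_lit 3, nat_lit 0])))))
 (.node (nat_lit 0x8039de9b2e21c54) (.node (nat_lit 0x803981a3180fc94) (.leaf ((nat_lit 0), [nat_lit 4, nat_lit 7, nat_lit 9, nat_lit 5, nat_lit 9, nat_lit 2, nat_lit 7, nat_lit 6, nat_lit 8, nat_lit 7, nat_lit 6, nat_lit 3, nat_lit 3, nat_lit 6, nat_lit 5, nat_lit 1])) (.leaf ((nat_lit 0), [nat_lit 6, nat_lit 9, nat_lit 2, nat_lit 1, nat_lit 9, nat_lit 6, nat_lit 7, nat_lit 3, nat_lit 3, nat_lit 3, nat_lit 6, nat_lit 4, nat_lit 0]))) (.node (nat_lit 0x803af591a1e4ed4) (.leaf ((nat_lit 0), [nat_lit 9, nat_lit 5, nat_lit 4, nat_lit 9, nat_lit 5, nat_lit 2, nat_lit 8, nat_lit 6, nat_lit 5, nat_lit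 7, nat_lit 6, nat_lit 5, nat_lit 1])) (.node (nat_lit 0x803ef3ea4555180) (.leaf ((nat_lit 0), [nat_lit 8, nat_lit 7, nat_lit 9, nat_lit 2, nat_lit 1, nat_lit 9, nat_lit 7, nat_lit 5, nat_lit 8, nat_lit 7, nat_lit 4, nat_lit 2, nat_lit 6, nat_lit 3, nat_lit 4, nat_lit 3])) (.leaf ((nat_lit 0), [nat_lit 9, nat_lit 5, nat_lit 4, nat_lit 9, nat_lit 4, nat_lit 8, nat_lit 0, nat_lit 8, nat_lit 6, nat_lit 2, nat_lit 2, nat_lit 6, nat_lit 3])))))))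
 (.node (nat_lit 0x804fa9c4ddfd744) (.node (nat_lit 0x80497ce2d619e20) (.node (nat_lit 0x804121e1f484380) (.node (nat_lit 0x80400ae0b918400) (.leaf ((nat_lit 0), [nat_lit 4, nat_lit 7, nat_lit 9, nat_lit 5, nat_lit 9, nat_lit 8, nat_lit 7, nat_lit 0, nat_lit 8, nat_lit 0, nat_lit 7, nat_lit 2, nat_lit 4, nat_lit 6, nat_lit 3, nat_lit 3])) (.leaf ((nat_lit 0), [nat_lit 0, nat_lit 7, nat_lit 0, nat_lit 9, nat_lit 1, nat_lit 9, nat_lit 6, nat_lit 2, nat_lit 8, nat_lit 5, nat_lit 4, nat_lit 7, nat_lit 3, nat_lit 6, nat_lit 5, nat_lit 3, nat_lit 1]))) (.node (nat_lit 0x8048c2e952417a0) (.leaf ((nat_lit 0), [nat_lit 0, nat_lit 7, nat_lit 0, nat_lit 9, nat_lit 1, nat_lit 9, nat_lit 2, nat_lit 7, nat_lit 8, nat_lit 5, nat_lit 7, nat_lit 5, nat_lit 7, nat_lit 3, nat_lit 4, nat_lit 6, nat_lit 2, nat_lit 1])) (.node (nat_lit 0x80491fe58a320a0) (.leaf ((nat_lit 0), [nat_lit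 9, nat_lit 5, nat_lit 4, nat_lit 9, nat_lit 4, nat_lit 8, nat_lit 0, nat_lit 8, nat_lit 6, nat_lit 7, nat_lit 6, nat_lit 5, nat_lit 2, nat_lit 4, nat_lit 2, nat_lit 0])) (.leaf ((nat_lit 0), [nat_lit 1, nat_lit 9, nat_lit 5, nat_lit 4, nat_lit 9, nat_lit 7, nat_lit 8, nat_lit 0, nat_lit 8, nat_lit 1, nat_lit 7, nat_lit 2, nat_lit 2, nat_lit 6, nat_lit 5, nat_lit 3, nat_lit 4])))))
 (.node (nat_lit 0x804af0ecdd10b20) (.node (nat_lit 0x804a36f359384a0) (.leaf ((nat_lit 0), [nat_lit 6, nat_lit 9, nat_lit 2, nat_lit 1, nat_lit 9, nat_lit 0, nat_lit 7, nat_lit 2, nat_lit 2, nat_lit 6, nat_lit 4, nat_lit 1])) (.leaf ((nat_lit 0), [nat_lit 7, nat_lit 0, nat_lit 9, nat_lit 1, nat_lit 9, nat_lit 3, nat_lit 6, nat_lit 3, nat_lit 8, nat_lit 3, nat_lit 6, nat_lit 7, nat_lit 3, nat_lit 6, nat_lit 2]))) (.node (nat_lit 0x804baae746e1d60) (.leaf ((nat_lit 0), [nat_lit 8, nat_lit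 7, nat_lit 9, nat_lit 2, nat_lit 1, nat_lit 9, nat_lit 2, nat_lit 7, nat_lit 5, nat_lit 8, nat_lit 7, nat_lit 2, nat_lit 6, nat_lit 5, nat_lit 4])) (.node (nat_lit 0x804c64cd0759a44) (.leaf ((nat_lit 0), [nat_lit 0, nat_lit 7, nat_lit 0, nat_lit 9, nat_lit 1, nat_lit 9, nat_lit 5, nat_lit 7, nat_lit 5, nat_lit 8, nat_lit 5, nat_lit 7, nat_lit 5, nat_lit 7, nat_lit 3, nat_lit 3, nat_lit 6, nat_lit 5, nat_lit 0])) (.leaf ((nat_lit 0), [nat_lit 1, nat_lit 9, nat_lit 5, nat_lit 4, nat_lit 9, nat_lit 5, nat_lit 2, nat_lit 8, nat_lit 6, nat_lit 5, nat_lit 6, nat_lit 7, nat_lit 4, nat_lit 6, nat_lit 2, nat_lit 4]))))))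
 (.node (nat_lit 0x8058be282ab2fe4) (.node (nat_lit 0x805063be61d5dc4) (.node (nat_lit 0x805006c19fe9a84) (.leaf ((nat_lit 0), [nat_lit 3, nat_lit 9, nat_lit 2, nat_lit 1, nat_lit 9, nat_lit 7, nat_lit 8, nat_lit 6, nat_lit 3, nat_lit 8, nat_lit 7, nat_lit 5, nat_lit 0, nat_lit 7, nat_lit 4, nat_lit 2, nat_lit 0])) (.leaf ((nat_lit 0), [nat_lit 4, nat_lit 7, nat_lit 9, nat_lit 5, nat_lit 9, nat_lit 2, nat_lit 1, nat_lit 8, nat_lit 6, nat_lit 5, nat_lit 7, nat_lit 3, nat_lit 3, nat_lit 3, nat_lit 6, nat_lit 3, nat_lit 4, nat_lit 3, nat_lit 3]))) (.node (nat_lit 0x8057a74fb7fd2a4) (.leaf ((nat_lit 0), [nat_lit 2, nat_lit 7, nat_lit 9, nat_lit 5, nat_lit 9, nat_lit 8, nat_lit 5, nat_lit 1, nat_lit 8, nat_lit 7, nat_lit 5, nat_lit 7, nat_lit 4, nat_lit 6, nat_lit 5, nat_lit 2, nat_lit 0])) (.node (nat_lit 0x8058042e1cdef24) (.leaf ((nat_lit 3), [nat_lit 1, nat_lit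 8, nat_lit 1, nat_lit 8, nat_lit 3, nat_lit 4, nat_lit 3, nat_lit 3, nat_lit 6, nat_lit 5, nat_lit 3, nat_lit 0])) (.leaf ((nat_lit 0), [nat_lit 8, nat_lit 6, nat_lit 9, nat_lit 5, nat_lit 9, nat_lit 0, nat_lit 8, nat_lit 7, nat_lit 5, nat_lit 6, nat_lit 7, nat_lit 5, nat_lit 3, nat_lit 4, nat_lit 0])))))
 (.node (nat_lit 0x8059d53c7184ee4) (.node (nat_lit 0x8059783faf98ba4) (.leaf ((nat_lit 0), [nat_lit 8, nat_lit 6, nat_lit 9, nat_lit 5, nat_lit 9, nat_lit 8, nat_lit 1, nat_lit 7, nat_lit 8, nat_lit 1, nat_lit 7, nat_lit 3, nat_lit 4, nat_lit 3, nat_lit 3, nat_lit 6, nat_lit 2, nat_lit 4, nat_lit 2])) (.leaf ((nat_lit 5), [nat_lit 9, nat_lit 5, nat_lit 4, nat_lit 9, nat_lit 2, nat_lit 6, nat_lit 8, nat_lit 5, nat_lit 7, nat_lit 5, nat_lit 7, nat_lit 6, nat_lit 3, nat_lit 3, nat_lit 6, nat_lit 4, nat_lit 3]))) (.node (nat_lit 0x805b499837c6ab0) (.leaf ((nat_lit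 0), [nat_lit 8, nat_lit 1, nat_lit 9, nat_lit 5, nat_lit 9, nat_lit 0, nat_lit 8, nat_lit 6, nat_lit 1, nat_lit 8, nat_lit 4, nat_lit 3, nat_lit 6, nat_lit 5, nat_lit 2, nat_lit 4, nat_lit 2, nat_lit 0])) (.node (nat_lit 0x805dd49d305c4f0) (.leaf ((nat_lit 0), [nat_lit 9, nat_lit 1, nat_lit 8, nat_lit 7, nat_lit 9, nat_lit 2, nat_lit 7, nat_lit 8, nat_lit 6, nat_lit 2, nat_lit 4, nat_lit 7, nat_lit 4, nat_lit 6, nat_lit 4])) (.leaf ((nat_lit 5), [nat_lit 9, nat_lit 5, nat_lit 4, nat_lit 9, nat_lit 8, nat_lit 2, nat_lit 6, nat_lit 8, nat_lit 3, nat_lit 6, nat_lit 7, nat_lit 6, nat_lit 2, nat_lit 2, nat_lit 6, nat_lit 2, nat_lit 2]))))))))))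
 (.node (nat_lit 0x80e26923f2ecef0) (.node (nat_lit 0x80a2d7dc005ac58) (.node (nat_lit 0x80856bc3ebd77f8) (.node (nat_lit 0x8072e588308e984) (.node (nat_lit 0x80685d3de627d68) (.node (nat_lit 0x80662f50d0a2fa8) (.node (nat_lit 0x805f4890660bab0) (.leaf ((nat_lit 0), [nat_lit 8, nat_lit 1, nat_lit 9, nat_lit 5, nat_lit 9, nat_lit 5, nat_lit 8, nat_lit 5, nat_lit 8, nat_lit 6, nat_lit 5, nat_lit 1, nat_lit 7, nat_lit 5, nat_lit 6, nat_lit 3, nat_lit 4, nat_lit 0])) (.leaf ((nat_lit 0), [nat_lit 8, nat_lit 6, nat_lit 9, nat_lit 5, nat_lit 9, nat_lit 3, nat_lit 6, nat_lit 8, nat_lit 1, nat_lit 7, nat_lit 2, nat_lit 2, nat_lit 6, nat_lit 3, nat_lit 4]))) (.node (nat_lit 0x8066e93ab2f9ce8) (.leaf ((nat_lit 0), [nat_lit 9, nat_lit 5, nat_lit 4, nat_lit 9, nat_lit 0, nat_lit 7, nat_lit 8, nat_lit 6, nat_lit 1, nat_lit 7, nat_lit 3, nat_lit 6, nat_lit 3, nat_lit 3, nat_lit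 3, nat_lit 0])) (.node (nat_lit 0x80674647fc60528) (.leaf ((nat_lit 0), [nat_lit 2, nat_lit 7, nat_lit 9, nat_lit 5, nat_lit 9, nat_lit 5, nat_lit 1, nat_lit 8, nat_lit 5, nat_lit 7, nat_lit 2, nat_lit 6, nat_lit 5, nat_lit 2, nat_lit 2, nat_lit 0])) (.leaf ((nat_lit 0), [nat_lit 8, nat_lit 7, nat_lit 9, nat_lit 2, nat_lit 1, nat_lit 9, nat_lit 1, nat_lit 7, nat_lit 8, nat_lit 5, nat_lit 6, nat_lit 7, nat_lit 6, nat_lit 4, nat_lit 2, nat_lit 6, nat_lit 5, nat_lit 2, nat_lit 1])))))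
 (.node (nat_lit 0x806cb895cf6f6b8) (.node (nat_lit 0x806a2d9e7e6b578) (.leaf ((nat_lit 0), [nat_lit 3, nat_lit 9, nat_lit 2, nat_lit 1, nat_lit 9, nat_lit 1, nat_lit 7, nat_lit 8, nat_lit 0, nat_lit 7, nat_lit 4, nat_lit 2, nat_lit 6, nat_lit 5, nat_lit 4, nat_lit 3, nat_lit 0])) (.leaf ((nat_lit 0), [nat_lit 4, nat_lit 7, nat_lit 9, nat_lit 5, nat_lit 9, nat_lit 5, nat_lit 8, nat_lit 0, nat_lit 8, nat_lit 0, nat_lit 7, nat_lit 4, nat_lit 6, nat_lit 3, nat_lit 3, nat_lit 3, nat_lit 0]))) (.node (nat_lit 0x806d728f5347d38) (.leaf ((nat_lit 0), [nat_lit 7, nat_lit 0, nat_lit 9, nat_lit 1, nat_lit 9, nat_lit 5, nat_lit 8, nat_lit 2, nat_lit 1, nat_lit 8, nat_lit 7, nat_lit 5, nat_lit 0, nat_lit 7, nat_lit 2, nat_lit 4, nat_lit 6, nat_lit 2, nat_lit 1])) (.node (nat_lit 0x806dcf8c1534078) (.leaf ((nat_lit 0), [nat_lit 2, nat_lit 7, nat_lit 9, nat_lit 5, nat_lit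 9, nat_lit 6, nat_lit 8, nat_lit 4, nat_lit 0, nat_lit 7, nat_lit 4, nat_lit 3, nat_lit 6, nat_lit 2, nat_lit 4, nat_lit 2])) (.leaf ((nat_lit 0), [nat_lit 1, nat_lit 9, nat_lit 5, nat_lit 4, nat_lit 9, nat_lit 8, nat_lit 4, nat_lit 7, nat_lit 4, nat_lit 3, nat_lit 6, nat_lit 4, nat_lit 2, nat_lit 2, nat_lit 0]))))))
 (.node (nat_lit 0x8077fb5a137fb20) (.node (nat_lit 0x8076e464b3b3604) (.node (nat_lit 0x80739f81e2658c4) (.leaf ((nat_lit 0), [nat_lit 9, nat_lit 5, nat_lit 4, nat_lit 9, nat_lit 6, nat_lit 2, nat_lit 1, nat_lit 8, nat_lit 5, nat_lit 4, nat_lit 7, nat_lit 4, nat_lit 2, nat_lit 6, nat_lit 5, nat_lit 4])) (.leaf ((nat_lit 0), [nat_lit 6, nat_lit 9, nat_lit 2, nat_lit 1, nat_lit 9, nat_lit 8, nat_lit 7, nat_lit 8, nat_lit 5, nat_lit 8, nat_lit 7, nat_lit 2, nat_lit 4, nat_lit 3, nat_lit 6, nat_lit 3, nat_lit 3]))) (.node (nat_lit 0x80774174af04184)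 (.leaf ((nat_lit 0), [nat_lit 9, nat_lit 5, nat_lit 4, nat_lit 9, nat_lit 8, nat_lit 4, nat_lit 3, nat_lit 6, nat_lit 5, nat_lit 2, nat_lit 4, nat_lit 1])) (.node (nat_lit 0x80779e71faebf04) (.leaf ((nat_lit 0), [nat_lit 6, nat_lit 9, nat_lit 2, nat_lit 1, nat_lit 9, nat_lit 1, nat_lit 7, nat_lit 8, nat_lit 7, nat_lit 5, nat_lit 3, nat_lit 6, nat_lit 4, nat_lit 2, nat_lit 2])) (.leaf ((nat_lit 0), [nat_lit 1, nat_lit 9, nat_lit 5, nat_lit 4, nat_lit 9, nat_lit 7, nat_lit 8, nat_lit 6, nat_lit 3, nat_lit 8, nat_lit 7, nat_lit 5, nat_lit 7, nat_lit 6, nat_lit 5, nat_lit 6, nat_lit 3])))))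
 (.node (nat_lit 0x807912508742da0) (.node (nat_lit 0x8078b553c556a60) (.leaf ((nat_lit 0), [nat_lit 9, nat_lit 5, nat_lit 4, nat_lit 9, nat_lit 8, nat_lit 1, nat_lit 8, nat_lit 6, nat_lit 7, nat_lit 6, nat_lit 5, nat_lit 3, nat_lit 6, nat_lit 5, nat_lit 0])) (.leaf ((nat_lit 0), [nat_lit 6, nat_lit 9, nat_lit 2, nat_lit 1, nat_lit 9, nat_lit 8, nat_lit 2, nat_lit 6, nat_lit 0, nat_lit 8, nat_lit 7, nat_lit 4, nat_lit 2, nat_lit 2, nat_lit 6, nat_lit 4, nat_lit 3, nat_lit 0]))) (.node (nat_lit 0x8081c9d7c5032f8) (.leaf ((nat_lit 0), [nat_lit 1, nat_lit 9, nat_lit 5, nat_lit 4, nat_lit 9, nat_lit 5, nat_lit 2, nat_lit 8, nat_lit 6, nat_lit 7, nat_lit 4, nat_lit 2, nat_lit 2, nat_lit 6, nat_lit 3, nat_lit 3, nat_lit 3])) (.node (nat_lit 0x80833dcbb2acbb8) (.leaf ((nat_lit 0), [nat_lit 9, nat_lit 5, nat_lit 4, nat_lit 9, nat_lit 2, nat_lit 6, nat_lit 0, nat_lit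 8, nat_lit 7, nat_lit 4, nat_lit 3, nat_lit 3, nat_lit 6, nat_lit 3])) (.leaf ((nat_lit 0), [nat_lit 0, nat_lit 7, nat_lit 0, nat_lit 9, nat_lit 1, nat_lit 9, nat_lit 3, nat_lit 0, nat_lit 8, nat_lit 6, nat_lit 0, nat_lit 7, nat_lit 2, nat_lit 6, nat_lit 1])))))))
 (.node (nat_lit 0x809396bb80f8e70) (.node (nat_lit 0x8087f722e774c68) (.node (nat_lit 0x808682ae55fc038) (.node (nat_lit 0x8085c8c023c80f8) (.leaf ((nat_lit 0), [nat_lit 9, nat_lit 5, nat_lit 4, nat_lit 9, nat_lit 8, nat_lit 7, nat_lit 5, nat_lit 7, nat_lit 6, nat_lit 5, nat_lit 3, nat_lit 6])) (.leaf ((nat_lit 0), [nat_lit 4, nat_lit 7, nat_lit 9, nat_lit 5, nat_lit 9, nat_lit 6, nat_lit 8, nat_lit 0, nat_lit 7, nat_lit 5, nat_lit 6, nat_lit 5]))) (.node (nat_lit 0x8086e02ca1b02a8) (.leaf ((nat_lit 0), [nat_lit 0, nat_lit 7, nat_lit 0, nat_lit 9, nat_lit 1, nat_lit 9, nat_lit 2, nat_lit 2, nat_lit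 8, nat_lit 4, nat_lit 6, nat_lit 3])) (.node (nat_lit 0x80879a2653871e8) (.leaf ((nat_lit 0), [nat_lit 9, nat_lit 5, nat_lit 4, nat_lit 9, nat_lit 0, nat_lit 7, nat_lit 8, nat_lit 7, nat_lit 4, nat_lit 2, nat_lit 6, nat_lit 2])) (.leaf ((nat_lit 0), [nat_lit 8, nat_lit 7, nat_lit 9, nat_lit 2, nat_lit 1, nat_lit 9, nat_lit 5, nat_lit 7, nat_lit 6, nat_lit 2, nat_lit 4, nat_lit 6, nat_lit 5, nat_lit 4, nat_lit 3, nat_lit 3, nat_lit 1])))))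
 (.node (nat_lit 0x80896b26d29cfe8) (.node (nat_lit 0x8088b12d7cc3228) (.leaf ((nat_lit 0), [nat_lit 2, nat_lit 7, nat_lit 9, nat_lit 5, nat_lit 9, nat_lit 8, nat_lit 5, nat_lit 1, nat_lit 8, nat_lit 4, nat_lit 1, nat_lit 7, nat_lit 6, nat_lit 3, nat_lit 3, nat_lit 6, nat_lit 3, nat_lit 3])) (.leaf ((nat_lit 0), [nat_lit 1, nat_lit 9, nat_lit 5, nat_lit 4, nat_lit 9, nat_lit 6, nat_lit 8, nat_lit 0, nat_lit 8, nat_lit 7, nat_lit 4, nat_lit 3, nat_lit 3, nat_lit 6, nat_lit 5, nat_lit 2, nat_lit 1]))) (.node (nat_lit 0x809051d8afab130) (.leaf ((nat_lit 0), [nat_lit 0, nat_lit 7, nat_lit 0, nat_lit 9, nat_lit 1, nat_lit 9, nat_lit 3, nat_lit 0, nat_lit 8, nat_lit 0, nat_lit 7, nat_lit 3, nat_lit 6, nat_lit 5, nat_lit 4, nat_lit 3, nat_lit 3, nat_lit 0])) (.node (nat_lit 0x809168cf236e3b0) (.leaf ((nat_lit 3), [nat_lit 8, nat_lit 5, nat_lit 3, nat_lit 6, nat_lit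 4, nat_lit 3])) (.leaf ((nat_lit 0), [nat_lit 9, nat_lit 1, nat_lit 8, nat_lit 7, nat_lit 9, nat_lit 2, nat_lit 6, nat_lit 8, nat_lit 1, nat_lit 7, nat_lit 4, nat_lit 6, nat_lit 2, nat_lit 2, nat_lit 1]))))))
 (.node (nat_lit 0x80967e1e689f364) (.node (nat_lit 0x8094adcd15e0a30) (.node (nat_lit 0x809450cf9bfa3f0) (.leaf ((nat_lit 2), [nat_lit 1, nat_lit 9, nat_lit 5, nat_lit 4, nat_lit 9, nat_lit 5, nat_lit 8, nat_lit 1, nat_lit 7, nat_lit 6, nat_lit 3, nat_lit 4, nat_lit 6, nat_lit 4, nat_lit 1])) (.leaf ((nat_lit 0), [nat_lit 9, nat_lit 1, nat_lit 8, nat_lit 7, nat_lit 9, nat_lit 2, nat_lit 8, nat_lit 6, nat_lit 1, nat_lit 7, nat_lit 6, nat_lit 3, nat_lit 4, nat_lit 6, nat_lit 5, nat_lit 4, nat_lit 2, nat_lit 0]))) (.node (nat_lit 0x8095672822da9a4) (.leaf ((nat_lit 0), [nat_lit 9, nat_lit 1, nat_lit 8, nat_lit 7, nat_lit 9, nat_lit 2, nat_lit 7, nat_lit 8,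 nat_lit 6, nat_lit 5, nat_lit 7, nat_lit 6, nat_lit 2, nat_lit 4, nat_lit 6, nat_lit 5, nat_lit 2])) (.node (nat_lit 0x8095c424b6c8424) (.leaf ((nat_lit 2), [nat_lit 9, nat_lit 1, nat_lit 8, nat_lit 7, nat_lit 9, nat_lit 3, nat_lit 8, nat_lit 5, nat_lit 4, nat_lit 7, nat_lit 2, nat_lit 2, nat_lit 6, nat_lit 5, nat_lit 2, nat_lit 4])) (.leaf ((nat_lit 0), [nat_lit 8, nat_lit 6, nat_lit 9, nat_lit 5, nat_lit 9, nat_lit 5, nat_lit 8, nat_lit 5, nat_lit 8, nat_lit 3, nat_lit 6, nat_lit 7, nat_lit 4, nat_lit 3, nat_lit 6, nat_lit 2, nat_lit 2, nat_lit 0])))))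
 (.node (nat_lit 0x80a106ec64bc4d8) (.node (nat_lit 0x809738375d79524) (.leaf ((nat_lit 0), [nat_lit 8, nat_lit 6, nat_lit 9, nat_lit 5, nat_lit 9, nat_lit 8, nat_lit 1, nat_lit 7, nat_lit 8, nat_lit 5, nat_lit 4, nat_lit 7, nat_lit 3, nat_lit 6, nat_lit 3, nat_lit 4, nat_lit 3])) (.leaf ((nat_lit 0), [nat_lit 9, nat_lit 1, nat_lit 8, nat_lit 7, nat_lit 9, nat_lit 1, nat_lit 8, nat_lit 7, nat_lit 5, nat_lit 1, nat_lit 7, nat_lit 2, nat_lit 2, nat_lit 6, nat_lit 2, nat_lit 0]))) (.node (nat_lit 0x80a1c0e5e894b58) (.leaf ((nat_lit 0), [nat_lit 9, nat_lit 1, nat_lit 8, nat_lit 7, nat_lit 9, nat_lit 5, nat_lit 7, nat_lit 5, nat_lit 8, nat_lit 5, nat_lit 1, nat_lit 7, nat_lit 6, nat_lit 3, nat_lit 4])) (.node (nat_lit 0x80a21de19689a18) (.leaf ((nat_lit 0), [nat_lit 8, nat_lit 6, nat_lit 9, nat_lit 5, nat_lit 9, nat_lit 3, nat_lit 6, nat_lit 8, nat_lit 7, nat_lit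 3, nat_lit 4, nat_lit 7, nat_lit 2, nat_lit 6, nat_lit 5, nat_lit 2, nat_lit 4, nat_lit 2])) (.leaf ((nat_lit 5), [nat_lit 8, nat_lit 1, nat_lit 9, nat_lit 5, nat_lit 9, nat_lit 2, nat_lit 2, nat_lit 8, nat_lit 7, nat_lit 6, nat_lit 2, nat_lit 4, nat_lit 6, nat_lit 5, nat_lit 2, nat_lit 1]))))))))
 (.node (nat_lit 0x80c1b79c5f6d480) (.node (nat_lit 0x80b2d3a44a54d54) (.node (nat_lit 0x80a61cc0f997298) (.node (nat_lit 0x80a4a8cb9bf93d8) (.node (nat_lit 0x80a3eed1ea22498) (.leaf ((nat_lit 0), [nat_lit 8, nat_lit 1, nat_lit 9, nat_lit 5, nat_lit 9, nat_lit 3, nat_lit 7, nat_lit 0, nat_lit 8, nat_lit 3, nat_lit 4, nat_lit 7, nat_lit 3, nat_lit 6, nat_lit 5, nat_lit 3, nat_lit 4])) (.leaf ((nat_lit 0), [nat_lit 8, nat_lit 1, nat_lit 9, nat_lit 5, nat_lit 9, nat_lit 7, nat_lit 5, nat_lit 1, nat_lit 8, nat_lit 7, nat_lit 5, nat_lit 7, nat_lit 2, nat_lit 4, nat_lit 6,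 nat_lit 4, nat_lit 0]))) (.node (nat_lit 0x80a505c82fe6e58) (.leaf ((nat_lit 3), [nat_lit 0, nat_lit 7, nat_lit 8, nat_lit 6, nat_lit 5, nat_lit 7, nat_lit 4, nat_lit 2, nat_lit 6, nat_lit 5, nat_lit 4])) (.node (nat_lit 0x80a562c6ebc31d8) (.leaf ((nat_lit 0), [nat_lit 8, nat_lit 1, nat_lit 9, nat_lit 5, nat_lit 9, nat_lit 7, nat_lit 5, nat_lit 1, nat_lit 8, nat_lit 7, nat_lit 4, nat_lit 2, nat_lit 2, nat_lit 6, nat_lit 2, nat_lit 2, nat_lit 0])) (.leaf ((nat_lit 0), [nat_lit 8, nat_lit 1, nat_lit 9, nat_lit 5, nat_lit 9, nat_lit 3, nat_lit 6, nat_lit 8, nat_lit 4, nat_lit 0, nat_lit 7, nat_lit 2, nat_lit 6, nat_lit 3, nat_lit 4, nat_lit 3])))))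
 (.node (nat_lit 0x80b048388d1f2c0) (.node (nat_lit 0x80afeb338775d00) (.leaf ((nat_lit 2), [nat_lit 7, nat_lit 0, nat_lit 9, nat_lit 1, nat_lit 9, nat_lit 7, nat_lit 6, nat_lit 8, nat_lit 2, nat_lit 4, nat_lit 7, nat_lit 3, nat_lit 4, nat_lit 6, nat_lit 5, nat_lit 2, nat_lit 4, nat_lit 3, nat_lit 1])) (.leaf ((nat_lit 0), [nat_lit 2, nat_lit 7, nat_lit 9, nat_lit 5, nat_lit 9, nat_lit 2, nat_lit 7, nat_lit 6, nat_lit 8, nat_lit 7, nat_lit 5, nat_lit 7, nat_lit 5, nat_lit 3, nat_lit 6, nat_lit 4, nat_lit 3]))) (.node (nat_lit 0x80b0a5360705900) (.leaf ((nat_lit 0), [nat_lit 1, nat_lit 9, nat_lit 5, nat_lit 4, nat_lit 9, nat_lit 6, nat_lit 3, nat_lit 1, nat_lit 8, nat_lit 6, nat_lit 0, nat_lit 7, nat_lit 6, nat_lit 5, nat_lit 6, nat_lit 0])) (.node (nat_lit 0x80b27625fea1200) (.leaf ((nat_lit 0), [nat_lit 7, nat_lit 0, nat_lit 9, nat_lit 1, nat_lit 9, nat_lit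 2, nat_lit 8, nat_lit 3, nat_lit 4, nat_lit 3, nat_lit 3, nat_lit 6, nat_lit 4, nat_lit 3, nat_lit 3, nat_lit 3, nat_lit 0])) (.leaf ((nat_lit 0), [nat_lit 3, nat_lit 9, nat_lit 2, nat_lit 1, nat_lit 9, nat_lit 8, nat_lit 2, nat_lit 5, nat_lit 8, nat_lit 6, nat_lit 7, nat_lit 6, nat_lit 2, nat_lit 4, nat_lit 6, nat_lit 5, nat_lit 3, nat_lit 4, nat_lit 1]))))))
 (.node (nat_lit 0x80be733d11d6f94) (.node (nat_lit 0x80b3ea9a9019714) (.node (nat_lit 0x80b38d9dce2d3d4) (.leaf ((nat_lit 0), [nat_lit 1, nat_lit 9, nat_lit 5, nat_lit 4, nat_lit 9, nat_lit 7, nat_lit 5, nat_lit 8, nat_lit 6, nat_lit 5, nat_lit 7, nat_lit 2, nat_lit 6, nat_lit 5, nat_lit 3, nat_lit 0])) (.leaf ((nat_lit 0), [nat_lit 3, nat_lit 9, nat_lit 2, nat_lit 1, nat_lit 9, nat_lit 5, nat_lit 7, nat_lit 2, nat_lit 4, nat_lit 6, nat_lit 5, nat_lit 3, nat_lit 3, nat_lit 3, nat_lit 1]))) (.node (nat_lit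 0x80b447921c2fc94) (.leaf ((nat_lit 0), [nat_lit 0, nat_lit 7, nat_lit 0, nat_lit 9, nat_lit 1, nat_lit 9, nat_lit 1, nat_lit 7, nat_lit 8, nat_lit 5, nat_lit 7, nat_lit 6, nat_lit 5, nat_lit 3, nat_lit 6, nat_lit 4, nat_lit 3, nat_lit 1])) (.node (nat_lit 0x80b5018c2a03d54) (.leaf ((nat_lit 0), [nat_lit 1, nat_lit 9, nat_lit 5, nat_lit 4, nat_lit 9, nat_lit 8, nat_lit 4, nat_lit 7, nat_lit 4, nat_lit 2, nat_lit 6, nat_lit 4, nat_lit 3, nat_lit 3, nat_lit 1])) (.leaf ((nat_lit 0), [nat_lit 3, nat_lit 9, nat_lit 2, nat_lit 1, nat_lit 9, nat_lit 7, nat_lit 2, nat_lit 4, nat_lit 7, nat_lit 2, nat_lit 2])))))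
 (.node (nat_lit 0x80bf8a39a168b94) (.node (nat_lit 0x80bed039a5c4a14) (.leaf ((nat_lit 0), [nat_lit 8, nat_lit 7, nat_lit 9, nat_lit 2, nat_lit 1, nat_lit 9, nat_lit 1, nat_lit 7, nat_lit 8, nat_lit 6, nat_lit 5, nat_lit 6, nat_lit 7, nat_lit 2, nat_lit 6, nat_lit 0])) (.leaf ((nat_lit 0), [nat_lit 2, nat_lit 7, nat_lit 9, nat_lit 5, nat_lit 9, nat_lit 6, nat_lit 8, nat_lit 4, nat_lit 0, nat_lit 7, nat_lit 5, nat_lit 6, nat_lit 5, nat_lit 4, nat_lit 3, nat_lit 3, nat_lit 0]))) (.node (nat_lit 0x80c0a1299d60314) (.leaf ((nat_lit 0), [nat_lit 9, nat_lit 5, nat_lit 4, nat_lit 9, nat_lit 8, nat_lit 0, nat_lit 7, nat_lit 8, nat_lit 7, nat_lit 5, nat_lit 0, nat_lit 7, nat_lit 6, nat_lit 2, nat_lit 2, nat_lit 6, nat_lit 5])) (.node (nat_lit 0x80c15a9f9d81140) (.leaf ((nat_lit 0), [nat_lit 0, nat_lit 7, nat_lit 0, nat_lit 9, nat_lit 1, nat_lit 9, nat_lit 3, nat_lit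 0, nat_lit 8, nat_lit 5, nat_lit 4, nat_lit 7, nat_lit 4, nat_lit 6, nat_lit 5, nat_lit 2, nat_lit 4, nat_lit 0])) (.leaf ((nat_lit 0), [nat_lit 6, nat_lit 9, nat_lit 2, nat_lit 1, nat_lit 9, nat_lit 8, nat_lit 2, nat_lit 5, nat_lit 8, nat_lit 5, nat_lit 0, nat_lit 7, nat_lit 2, nat_lit 2, nat_lit 6, nat_lit 4, nat_lit 2, nat_lit 0])))))))
 (.node (nat_lit 0x80d2ca716414bc4) (.node (nat_lit 0x80cbe3aeff8d520) (.node (nat_lit 0x80c2ce9bcee7c80) (.node (nat_lit 0x80c2719611443c0) (.leaf ((nat_lit 0), [nat_lit 3, nat_lit 9, nat_lit 2, nat_lit 1, nat_lit 9, nat_lit 7, nat_lit 5, nat_lit 6, nat_lit 8, nat_lit 7, nat_lit 5, nat_lit 3, nat_lit 6, nat_lit 5, nat_lit 3, nat_lit 4, nat_lit 1])) (.leaf ((nat_lit 0), [nat_lit 8, nat_lit 7, nat_lit 9, nat_lit 2, nat_lit 1, nat_lit 9, nat_lit 7, nat_lit 5, nat_lit 6, nat_lit 8, nat_lit 6, nat_lit 7, nat_lit 5, nat_lit 3, nat_lit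 6, nat_lit 5, nat_lit 2, nat_lit 4]))) (.node (nat_lit 0x80c3e59270a97c0) (.leaf ((nat_lit 0), [nat_lit 6, nat_lit 9, nat_lit 2, nat_lit 1, nat_lit 9, nat_lit 0, nat_lit 7, nat_lit 8, nat_lit 0, nat_lit 7, nat_lit 2, nat_lit 4, nat_lit 3, nat_lit 6, nat_lit 5, nat_lit 3, nat_lit 4, nat_lit 3, nat_lit 1])) (.node (nat_lit 0x80cb29b57bb4ea0) (.leaf ((nat_lit 0), [nat_lit 8, nat_lit 7, nat_lit 9, nat_lit 2, nat_lit 1, nat_lit 9, nat_lit 6, nat_lit 5, nat_lit 0, nat_lit 7, nat_lit 5, nat_lit 6, nat_lit 4, nat_lit 1])) (.leaf ((nat_lit 0), [nat_lit 1, nat_lit 9, nat_lit 5, nat_lit 4, nat_lit 9, nat_lit 7, nat_lit 2, nat_lit 1, nat_lit 8, nat_lit 5, nat_lit 7, nat_lit 5, nat_lit 0, nat_lit 7, nat_lit 3])))))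
 (.node (nat_lit 0x80cecb7ccdb31e0) (.node (nat_lit 0x80ce119b5d17fe0) (.leaf ((nat_lit 0), [nat_lit 6, nat_lit 9, nat_lit 2, nat_lit 1, nat_lit 9, nat_lit 8, nat_lit 5, nat_lit 1, nat_lit 8, nat_lit 7, nat_lit 5, nat_lit 7, nat_lit 3, nat_lit 4, nat_lit 3, nat_lit 0])) (.leaf ((nat_lit 0), [nat_lit 4, nat_lit 7, nat_lit 9, nat_lit 5, nat_lit 9, nat_lit 8, nat_lit 5, nat_lit 8, nat_lit 7, nat_lit 2, nat_lit 4, nat_lit 7, nat_lit 4, nat_lit 6, nat_lit 3, nat_lit 4]))) (.node (nat_lit 0x80cf85770985b60) (.leaf ((nat_lit 0), [nat_lit 2, nat_lit 7, nat_lit 9, nat_lit 5, nat_lit 9, nat_lit 4, nat_lit 8, nat_lit 6, nat_lit 3, nat_lit 8, nat_lit 5, nat_lit 1, nat_lit 7, nat_lit 4, nat_lit 6, nat_lit 3, nat_lit 3])) (.node (nat_lit 0x80d21077b23dc84) (.leaf ((nat_lit 0), [nat_lit 3, nat_lit 9, nat_lit 2, nat_lit 1, nat_lit 9, nat_lit 7, nat_lit 5, nat_lit 8, nat_lit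 0, nat_lit 8, nat_lit 6, nat_lit 5, nat_lit 7, nat_lit 6, nat_lit 2, nat_lit 4, nat_lit 1])) (.leaf ((nat_lit 0), [nat_lit 0, nat_lit 7, nat_lit 0, nat_lit 9, nat_lit 1, nat_lit 9, nat_lit 3, nat_lit 0, nat_lit 8, nat_lit 0, nat_lit 7, nat_lit 2, nat_lit 6, nat_lit 5, nat_lit 4, nat_lit 1]))))))
 (.node (nat_lit 0x80de69bf1236fa4) (.node (nat_lit 0x80da0e053e27b24) (.node (nat_lit 0x80d3846ae7ed244) (.leaf ((nat_lit 0), [nat_lit 7, nat_lit 0, nat_lit 9, nat_lit 1, nat_lit 9, nat_lit 5, nat_lit 8, nat_lit 2, nat_lit 1, nat_lit 8, nat_lit 5, nat_lit 7, nat_lit 5, nat_lit 1, nat_lit 7, nat_lit 6, nat_lit 4, nat_lit 0])) (.leaf ((nat_lit 0), [nat_lit 8, nat_lit 7, nat_lit 9, nat_lit 2, nat_lit 1, nat_lit 9, nat_lit 4, nat_lit 0, nat_lit 7, nat_lit 8, nat_lit 5, nat_lit 0, nat_lit 7, nat_lit 6, nat_lit 5, nat_lit 0]))) (.node (nat_lit 0x80db81f92bd13e4) (.leaf ((nat_lit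 0), [nat_lit 8, nat_lit 1, nat_lit 9, nat_lit 5, nat_lit 9, nat_lit 2, nat_lit 5, nat_lit 8, nat_lit 7, nat_lit 5, nat_lit 7, nat_lit 3, nat_lit 4, nat_lit 3, nat_lit 3, nat_lit 6, nat_lit 1])) (.node (nat_lit 0x80dd52c8fa70ea4) (.leaf ((nat_lit 5), [nat_lit 8, nat_lit 6, nat_lit 9, nat_lit 5, nat_lit 9, nat_lit 2, nat_lit 1, nat_lit 8, nat_lit 5, nat_lit 6, nat_lit 7, nat_lit 4, nat_lit 3, nat_lit 3, nat_lit 6])) (.leaf ((nat_lit 0), [nat_lit 8, nat_lit 6, nat_lit 9, nat_lit 5, nat_lit 9, nat_lit 8, nat_lit 5, nat_lit 8, nat_lit 7, nat_lit 5, nat_lit 1, nat_lit 7, nat_lit 3, nat_lit 3, nat_lit 6, nat_lit 4])))))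
 (.node (nat_lit 0x80e0f54a1270af0) (.node (nat_lit 0x80dec6dbcf20864) (.leaf ((nat_lit 0), [nat_lit 8, nat_lit 6, nat_lit 9, nat_lit 5, nat_lit 9, nat_lit 6, nat_lit 2, nat_lit 8, nat_lit 0, nat_lit 7, nat_lit 2, nat_lit 2, nat_lit 6, nat_lit 5, nat_lit 4, nat_lit 3, nat_lit 1])) (.leaf ((nat_lit 3), [nat_lit 8, nat_lit 5, nat_lit 7, nat_lit 6, nat_lit 3, nat_lit 4, nat_lit 6]))) (.node (nat_lit 0x80e15246a65e570) (.leaf ((nat_lit 0), [nat_lit 8, nat_lit 6, nat_lit 9, nat_lit 5, nat_lit 9, nat_lit 8, nat_lit 5, nat_lit 8, nat_lit 3, nat_lit 6, nat_lit 1, nat_lit 7, nat_lit 5, nat_lit 3, nat_lit 4, nat_lit 1])) (.node (nat_lit 0x80e1af43684a8b0) (.leaf ((nat_lit 5), [nat_lit 9, nat_lit 1, nat_lit 8, nat_lit 7, nat_lit 9, nat_lit 6, nat_lit 2, nat_lit 8, nat_lit 7, nat_lit 1, nat_lit 7, nat_lit 3, nat_lit 4, nat_lit 6, nat_lit 4, nat_lit 1])) (.leaf ((nat_lit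 0), [nat_lit 8, nat_lit 1, nat_lit 9, nat_lit 5, nat_lit 9, nat_lit 8, nat_lit 5, nat_lit 1, nat_lit 8, nat_lit 3, nat_lit 6, nat_lit 1, nat_lit 7, nat_lit 5, nat_lit 6, nat_lit 2])))))))))
 (.node (nat_lit 0x82b968728461948) (.node (nat_lit 0x81008edaa2483e0) (.node (nat_lit 0x80f14d2af18bcb8) (.node (nat_lit 0x80ecf1ce8a688a8) (.node (nat_lit 0x80e8960656cd828) (.node (nat_lit 0x80e3231d76c5570) (.leaf ((nat_lit 3), [nat_lit 2, nat_lit 5, nat_lit 8, nat_lit 7, nat_lit 5, nat_lit 1, nat_lit 7, nat_lit 3, nat_lit 4])) (.leaf ((nat_lit 0), [nat_lit 9, nat_lit 1, nat_lit 8, nat_lit 7, nat_lit 9, nat_lit 1, nat_lit 8, nat_lit 7, nat_lit 2, nat_lit 4, nat_lit 6, nat_lit 5, nat_lit 4, nat_lit 2, nat_lit 2, nat_lit 0]))) (.node (nat_lit 0x80e9acfcf88f368) (.leaf ((nat_lit 0), [nat_lit 6, nat_lit 9, nat_lit 2, nat_lit 1, nat_lit 9, nat_lit 8, nat_lit 5, nat_lit 0, nat_lit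 8, nat_lit 3, nat_lit 6, nat_lit 7, nat_lit 4, nat_lit 6, nat_lit 5])) (.node (nat_lit 0x80ec37e5ea078a8) (.leaf ((nat_lit 0), [nat_lit 4, nat_lit 7, nat_lit 9, nat_lit 5, nat_lit 9, nat_lit 2, nat_lit 1, nat_lit 8, nat_lit 6, nat_lit 2, nat_lit 4, nat_lit 7, nat_lit 6, nat_lit 5, nat_lit 3, nat_lit 0])) (.leaf ((nat_lit 0), [nat_lit 0, nat_lit 7, nat_lit 0, nat_lit 9, nat_lit 1, nat_lit 9, nat_lit 8, nat_lit 4, nat_lit 6, nat_lit 8, nat_lit 3, nat_lit 6, nat_lit 7, nat_lit 2, nat_lit 6, nat_lit 3, nat_lit 4, nat_lit 1])))))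
 (.node (nat_lit 0x80ef7c45659bf38) (.node (nat_lit 0x80ed4ecc044eee8) (.leaf ((nat_lit 0), [nat_lit 1, nat_lit 9, nat_lit 5, nat_lit 4, nat_lit 9, nat_lit 6, nat_lit 3, nat_lit 1, nat_lit 8, nat_lit 0, nat_lit 7, nat_lit 5, nat_lit 6, nat_lit 4, nat_lit 2, nat_lit 1])) (.leaf ((nat_lit 0), [nat_lit 3, nat_lit 9, nat_lit 2, nat_lit 1, nat_lit 9, nat_lit 7, nat_lit 8, nat_lit 1, nat_lit 8, nat_lit 3, nat_lit 6, nat_lit 7, nat_lit 4, nat_lit 2, nat_lit 6, nat_lit 5, nat_lit 4, nat_lit 3, nat_lit 3]))) (.node (nat_lit 0x80f0363f1772e78) (.leaf ((nat_lit 0), [nat_lit 4, nat_lit 7, nat_lit 9, nat_lit 5, nat_lit 9, nat_lit 0, nat_lit 8, nat_lit 7, nat_lit 1, nat_lit 8, nat_lit 6, nat_lit 5, nat_lit 0, nat_lit 7, nat_lit 6, nat_lit 5])) (.node (nat_lit 0x80f0933bd95f1b8) (.leaf ((nat_lit 0), [nat_lit 9, nat_lit 5, nat_lit 4, nat_lit 9, nat_lit 4, nat_lit 0, nat_lit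 7, nat_lit 8, nat_lit 4, nat_lit 0, nat_lit 7, nat_lit 5, nat_lit 2, nat_lit 2])) (.leaf ((nat_lit 0), [nat_lit 0, nat_lit 7, nat_lit 0, nat_lit 9, nat_lit 1, nat_lit 9, nat_lit 2, nat_lit 8, nat_lit 6, nat_lit 5, nat_lit 6, nat_lit 7, nat_lit 4, nat_lit 6, nat_lit 2, nat_lit 4, nat_lit 3, nat_lit 0]))))))
 (.node (nat_lit 0x80fa0513bdb6504) (.node (nat_lit 0x80f834367583a04) (.node (nat_lit 0x80f77a3d4da8504) (.leaf ((nat_lit 0), [nat_lit 3, nat_lit 9, nat_lit 2, nat_lit 1, nat_lit 9, nat_lit 2, nat_lit 7, nat_lit 8, nat_lit 4, nat_lit 7, nat_lit 3, nat_lit 6, nat_lit 4, nat_lit 1])) (.leaf ((nat_lit 0), [nat_lit 2, nat_lit 7, nat_lit 9, nat_lit 5, nat_lit 9, nat_lit 5, nat_lit 8, nat_lit 5, nat_lit 8, nat_lit 7, nat_lit 3, nat_lit 4, nat_lit 7, nat_lit 3, nat_lit 6, nat_lit 5, nat_lit 4]))) (.node (nat_lit 0x80f89133c16b784) (.leaf ((nat_lit 0), [nat_lit 4,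 nat_lit 7, nat_lit 9, nat_lit 5, nat_lit 9, nat_lit 5, nat_lit 1, nat_lit 8, nat_lit 7, nat_lit 5, nat_lit 6, nat_lit 7, nat_lit 5, nat_lit 3, nat_lit 1])) (.node (nat_lit 0x80f94b1a39dde84) (.leaf ((nat_lit 0), [nat_lit 3, nat_lit 9, nat_lit 2, nat_lit 1, nat_lit 9, nat_lit 7, nat_lit 8, nat_lit 0, nat_lit 8, nat_lit 3, nat_lit 6, nat_lit 5, nat_lit 2, nat_lit 2, nat_lit 1])) (.leaf ((nat_lit 0), [nat_lit 2, nat_lit 7, nat_lit 9, nat_lit 5, nat_lit 9, nat_lit 0, nat_lit 8, nat_lit 6, nat_lit 5, nat_lit 7, nat_lit 3, nat_lit 6, nat_lit 5, nat_lit 2, nat_lit 2])))))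
 (.node (nat_lit 0x80fc90154c68020) (.node (nat_lit 0x80fabf0e5586004) (.leaf ((nat_lit 0), [nat_lit 4, nat_lit 7, nat_lit 9, nat_lit 5, nat_lit 9, nat_lit 2, nat_lit 5, nat_lit 8, nat_lit 6, nat_lit 5, nat_lit 3, nat_lit 4, nat_lit 3, nat_lit 0])) (.leaf ((nat_lit 0), [nat_lit 3, nat_lit 9, nat_lit 2, nat_lit 1, nat_lit 9, nat_lit 8, nat_lit 5, nat_lit 0, nat_lit 8, nat_lit 7, nat_lit 5, nat_lit 1, nat_lit 7, nat_lit 4, nat_lit 2]))) (.node (nat_lit 0x80ff1ae79a976e0) (.leaf ((nat_lit 0), [nat_lit 9, nat_lit 5, nat_lit 4, nat_lit 9, nat_lit 5, nat_lit 6, nat_lit 8, nat_lit 6, nat_lit 5, nat_lit 7, nat_lit 6, nat_lit 4, nat_lit 3, nat_lit 6, nat_lit 5, nat_lit 2])) (.node (nat_lit 0x80ffd4e11e6fd60) (.leaf ((nat_lit 0), [nat_lit 4, nat_lit 7, nat_lit 9, nat_lit 5, nat_lit 9, nat_lit 3, nat_lit 7, nat_lit 5, nat_lit 8, nat_lit 4, nat_lit 7, nat_lit 3, nat_lit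 6, nat_lit 1])) (.leaf ((nat_lit 0), [nat_lit 3, nat_lit 9, nat_lit 2, nat_lit 1, nat_lit 9, nat_lit 6, nat_lit 5, nat_lit 6, nat_lit 7, nat_lit 3, nat_lit 4, nat_lit 6, nat_lit 5, nat_lit 3, nat_lit 3, nat_lit 3, nat_lit 1])))))))
 (.node (nat_lit 0x8114e67a9360470) (.node (nat_lit 0x81088c666240278) (.node (nat_lit 0x8106bb81ea47978) (.node (nat_lit 0x81065e79a8b8638) (.leaf ((nat_lit 0), [nat_lit 2, nat_lit 7, nat_lit 9, nat_lit 5, nat_lit 9, nat_lit 0, nat_lit 8, nat_lit 4, nat_lit 7, nat_lit 6, nat_lit 4, nat_lit 2, nat_lit 6, nat_lit 5, nat_lit 2, nat_lit 4, nat_lit 0])) (.leaf ((nat_lit 0), [nat_lit 8, nat_lit 7, nat_lit 9, nat_lit 2, nat_lit 1, nat_lit 9, nat_lit 4, nat_lit 0, nat_lit 7, nat_lit 8, nat_lit 5, nat_lit 4, nat_lit 7, nat_lit 6, nat_lit 4]))) (.node (nat_lit 0x8107187f0830e38) (.leaf ((nat_lit 0), [nat_lit 6, nat_lit 9, nat_lit 2, nat_lit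 1, nat_lit 9, nat_lit 6, nat_lit 5, nat_lit 0, nat_lit 7, nat_lit 5, nat_lit 2, nat_lit 4, nat_lit 2])) (.node (nat_lit 0x81082f69ce527f8) (.leaf ((nat_lit 0), [nat_lit 3, nat_lit 9, nat_lit 2, nat_lit 1, nat_lit 9, nat_lit 2, nat_lit 7, nat_lit 6, nat_lit 8, nat_lit 7, nat_lit 5, nat_lit 7, nat_lit 6, nat_lit 5, nat_lit 6, nat_lit 2, nat_lit 1])) (.leaf ((nat_lit 0), [nat_lit 8, nat_lit 7, nat_lit 9, nat_lit 2, nat_lit 1, nat_lit 9, nat_lit 7, nat_lit 8, nat_lit 7, nat_lit 3, nat_lit 4, nat_lit 3, nat_lit 3, nat_lit 6, nat_lit 5, nat_lit 2, nat_lit 1])))))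
 (.node (nat_lit 0x810eb9b4089d668) (.node (nat_lit 0x810b74e07cd40e8) (.leaf ((nat_lit 0), [nat_lit 6, nat_lit 9, nat_lit 2, nat_lit 1, nat_lit 9, nat_lit 8, nat_lit 7, nat_lit 8, nat_lit 5, nat_lit 8, nat_lit 2, nat_lit 4, nat_lit 7, nat_lit 6, nat_lit 5, nat_lit 2])) (.leaf ((nat_lit 0), [nat_lit 7, nat_lit 0, nat_lit 9, nat_lit 1, nat_lit 9, nat_lit 3, nat_lit 7, nat_lit 5, nat_lit 8, nat_lit 3, nat_lit 6, nat_lit 7, nat_lit 4, nat_lit 6, nat_lit 4, nat_lit 2]))) (.node (nat_lit 0x810f16b0ca899a8) (.leaf ((nat_lit 0), [nat_lit 0, nat_lit 7, nat_lit 0, nat_lit 9, nat_lit 1, nat_lit 9, nat_lit 2, nat_lit 7, nat_lit 8, nat_lit 6, nat_lit 0, nat_lit 7, nat_lit 6, nat_lit 2, nat_lit 4, nat_lit 6, nat_lit 2, nat_lit 4, nat_lit 3])) (.node (nat_lit 0x810f73ad5e77428) (.leaf ((nat_lit 0), [nat_lit 3, nat_lit 9, nat_lit 2, nat_lit 1, nat_lit 9, nat_lit 4, nat_lit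 7, nat_lit 6, nat_lit 8, nat_lit 5, nat_lit 1, nat_lit 7, nat_lit 6, nat_lit 4, nat_lit 3])) (.leaf ((nat_lit 0), [nat_lit 1, nat_lit 9, nat_lit 5, nat_lit 4, nat_lit 9, nat_lit 0, nat_lit 7, nat_lit 8, nat_lit 4, nat_lit 6]))))))
 (.node (nat_lit 0x811ce3b299dd164) (.node (nat_lit 0x8115fd71bf1d9f0) (.node (nat_lit 0x811543916279c70) (.leaf ((nat_lit 0), [nat_lit 9, nat_lit 1, nat_lit 8, nat_lit 7, nat_lit 9, nat_lit 2, nat_lit 7, nat_lit 8, nat_lit 6, nat_lit 7, nat_lit 6, nat_lit 5, nat_lit 4, nat_lit 2, nat_lit 1])) (.leaf ((nat_lit 0), [nat_lit 9, nat_lit 1, nat_lit 8, nat_lit 7, nat_lit 9, nat_lit 1, nat_lit 7, nat_lit 8, nat_lit 7, nat_lit 0, nat_lit 7, nat_lit 5, nat_lit 3, nat_lit 4, nat_lit 3]))) (.node (nat_lit 0x8116b76ab8fa630) (.leaf ((nat_lit 2), [nat_lit 4, nat_lit 7, nat_lit 9, nat_lit 5, nat_lit 9, nat_lit 1, nat_lit 7, nat_lit 8, nat_lit 3,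 nat_lit 6, nat_lit 7, nat_lit 2, nat_lit 4, nat_lit 3, nat_lit 0])) (.node (nat_lit 0x811a58e6c3795a4) (.leaf ((nat_lit 0), [nat_lit 9, nat_lit 1, nat_lit 8, nat_lit 7, nat_lit 9, nat_lit 3, nat_lit 3, nat_lit 8, nat_lit 6, nat_lit 5, nat_lit 7, nat_lit 3, nat_lit 4, nat_lit 6, nat_lit 3, nat_lit 4])) (.leaf ((nat_lit 0), [nat_lit 9, nat_lit 1, nat_lit 8, nat_lit 7, nat_lit 9, nat_lit 1, nat_lit 8, nat_lit 0, nat_lit 7, nat_lit 6, nat_lit 5, nat_lit 3, nat_lit 6, nat_lit 4, nat_lit 2, nat_lit 2])))))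
 (.node (nat_lit 0x811dfaa8b1a3264) (.node (nat_lit 0x811d9dac4bb40a4) (.leaf ((nat_lit 0), [nat_lit 8, nat_lit 6, nat_lit 9, nat_lit 5, nat_lit 9, nat_lit 2, nat_lit 7, nat_lit 6, nat_lit 8, nat_lit 5, nat_lit 7, nat_lit 5, nat_lit 7, nat_lit 3, nat_lit 4, nat_lit 3, nat_lit 3])) (.leaf ((nat_lit 2), [nat_lit 3, nat_lit 9, nat_lit 2, nat_lit 1, nat_lit 9, nat_lit 6, nat_lit 3, nat_lit 8, nat_lit 7, nat_lit 3, nat_lit 4, nat_lit 7, nat_lit 4, nat_lit 6, nat_lit 5, nat_lit 2, nat_lit 1]))) (.node (nat_lit 0x82b0b0bcec58508) (.leaf ((nat_lit 0), [nat_lit 8, nat_lit 6, nat_lit 9, nat_lit 5, nat_lit 9, nat_lit 2, nat_lit 6, nat_lit 1, nat_lit 8, nat_lit 7, nat_lit 5, nat_lit 7, nat_lit 4, nat_lit 3, nat_lit 6])) (.node (nat_lit 0x82b452b156e9c88) (.leaf ((nat_lit 1), [nat_lit 7, nat_lit 5, nat_lit 6, nat_lit 8, nat_lit 0, nat_lit 7, nat_lit 4, nat_lit 2, nat_lit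 6, nat_lit 5, nat_lit 2])) (.leaf ((nat_lit 0), [nat_lit 2, nat_lit 7, nat_lit 9, nat_lit 5, nat_lit 9, nat_lit 3, nat_lit 6, nat_lit 8, nat_lit 6, nat_lit 2, nat_lit 2, nat_lit 6, nat_lit 3, nat_lit 3, nat_lit 0]))))))))
 (.node (nat_lit 0x831d4b97ca3e500) (.node (nat_lit 0x82ec9f71fd7a4d0) (.node (nat_lit 0x82d2786cb2805a8) (.node (nat_lit 0x82c67b8a15610d8) (.node (nat_lit 0x82c1090b0820ce8) (.leaf ((nat_lit 1), [nat_lit 6, nat_lit 7, nat_lit 3, nat_lit 6, nat_lit 2, nat_lit 4, nat_lit 3])) (.leaf ((nat_lit 0), [nat_lit 0, nat_lit 7, nat_lit 0, nat_lit 9, nat_lit 1, nat_lit 9, nat_lit 3, nat_lit 6, nat_lit 3, nat_lit 8, nat_lit 5, nat_lit 0, nat_lit 7, nat_lit 3, nat_lit 6, nat_lit 4, nat_lit 2]))) (.node (nat_lit 0x82c7927f472e618) (.leaf ((nat_lit 1), [nat_lit 8, nat_lit 2, nat_lit 1, nat_lit 8, nat_lit 5, nat_lit 0, nat_lit 7, nat_lit 4, nat_lit 2, nat_lit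 2, nat_lit 6, nat_lit 2, nat_lit 4, nat_lit 1])) (.node (nat_lit 0x82ced65e689fc98) (.leaf ((nat_lit 1), [nat_lit 2, nat_lit 5, nat_lit 8, nat_lit 7, nat_lit 3, nat_lit 4, nat_lit 7, nat_lit 6, nat_lit 4, nat_lit 3, nat_lit 6, nat_lit 3])) (.leaf ((nat_lit 0), [nat_lit 6, nat_lit 9, nat_lit 2, nat_lit 1, nat_lit 9, nat_lit 3, nat_lit 7, nat_lit 5, nat_lit 8, nat_lit 2, nat_lit 4, nat_lit 7, nat_lit 3, nat_lit 6, nat_lit 4])))))
 (.node (nat_lit 0x82dca4323f0f9b0) (.node (nat_lit 0x82d3ec6ca9c88a8) (.leaf ((nat_lit 1), [nat_lit 7, nat_lit 1, nat_lit 8, nat_lit 5, nat_lit 4, nat_lit 7, nat_lit 3, nat_lit 3, nat_lit 3, nat_lit 6, nat_lit 5])) (.leaf ((nat_lit 1), [nat_lit 5, nat_lit 8, nat_lit 0, nat_lit 8, nat_lit 5, nat_lit 7, nat_lit 5, nat_lit 7, nat_lit 6, nat_lit 2, nat_lit 4, nat_lit 6, nat_lit 2, nat_lit 4]))) (.node (nat_lit 0x82e217319462c1c) (.leaf ((nat_lit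 0), [nat_lit 0, nat_lit 7, nat_lit 0, nat_lit 9, nat_lit 1, nat_lit 9, nat_lit 3, nat_lit 5, nat_lit 8, nat_lit 6, nat_lit 1, nat_lit 7, nat_lit 6, nat_lit 4, nat_lit 2, nat_lit 6, nat_lit 3, nat_lit 3])) (.node (nat_lit 0x82e38b260c07f1c) (.leaf ((nat_lit 0), [nat_lit 6, nat_lit 9, nat_lit 2, nat_lit 1, nat_lit 9, nat_lit 8, nat_lit 7, nat_lit 8, nat_lit 5, nat_lit 8, nat_lit 6, nat_lit 5, nat_lit 3, nat_lit 4])) (.leaf ((nat_lit 1), [nat_lit 1, nat_lit 8, nat_lit 5, nat_lit 7, nat_lit 5, nat_lit 7, nat_lit 2, nat_lit 4, nat_lit 6, nat_lit 5, nat_lit 4, nat_lit 2, nat_lit 2]))))))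
 (.node (nat_lit 0x830b7fbbfbb1e1c) (.node (nat_lit 0x82f329254c89eac) (.node (nat_lit 0x82efe45586c2510) (.leaf ((nat_lit 4), [nat_lit 6, nat_lit 9, nat_lit 2, nat_lit 1, nat_lit 9, nat_lit 5, nat_lit 7, nat_lit 5, nat_lit 8, nat_lit 5, nat_lit 7, nat_lit 3, nat_lit 3, nat_lit 3, nat_lit 6, nat_lit 5, nat_lit 3, nat_lit 3])) (.leaf ((nat_lit 0), [nat_lit 6, nat_lit 9, nat_lit 2, nat_lit 1, nat_lit 9, nat_lit 4, nat_lit 7, nat_lit 8, nat_lit 6, nat_lit 0, nat_lit 7, nat_lit 6, nat_lit 5, nat_lit 3, nat_lit 3]))) (.node (nat_lit 0x82fc3db219af000) (.leaf ((nat_lit 0), [nat_lit 0, nat_lit 7, nat_lit 0, nat_lit 9, nat_lit 1, nat_lit 9, nat_lit 2, nat_lit 8, nat_lit 5, nat_lit 1, nat_lit 7, nat_lit 3, nat_lit 3, nat_lit 0])) (.node (nat_lit 0x8301b0f586fbc3c) (.leaf ((nat_lit 0), [nat_lit 2, nat_lit 7, nat_lit 9, nat_lit 5, nat_lit 9, nat_lit 0, nat_lit 8, nat_lit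 3, nat_lit 6, nat_lit 1, nat_lit 7, nat_lit 4, nat_lit 6, nat_lit 5, nat_lit 3])) (.leaf ((nat_lit 0), [nat_lit 2, nat_lit 7, nat_lit 9, nat_lit 5, nat_lit 9, nat_lit 3, nat_lit 6, nat_lit 8, nat_lit 4, nat_lit 1, nat_lit 7, nat_lit 5, nat_lit 6, nat_lit 2, nat_lit 4, nat_lit 0])))))
 (.node (nat_lit 0x830fdb809769e30) (.node (nat_lit 0x830ec48de988370) (.leaf ((nat_lit 1), [nat_lit 7, nat_lit 2, nat_lit 1, nat_lit 8, nat_lit 0, nat_lit 7, nat_lit 2, nat_lit 6, nat_lit 3, nat_lit 3])) (.leaf ((nat_lit 0), [nat_lit 0, nat_lit 7, nat_lit 0, nat_lit 9, nat_lit 1, nat_lit 9, nat_lit 1, nat_lit 7, nat_lit 8, nat_lit 7, nat_lit 2, nat_lit 6, nat_lit 3, nat_lit 4, nat_lit 3]))) (.node (nat_lit 0x8317d91b40e9cfc) (.leaf ((nat_lit 4), [nat_lit 0, nat_lit 7, nat_lit 0, nat_lit 9, nat_lit 1, nat_lit 9, nat_lit 8, nat_lit 6, nat_lit 1, nat_lit 8, nat_lit 6, nat_lit 0, nat_lit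 7, nat_lit 5, nat_lit 3, nat_lit 6, nat_lit 4, nat_lit 3, nat_lit 1])) (.node (nat_lit 0x8319aa29958fcbc) (.leaf ((nat_lit 1), [nat_lit 0, nat_lit 7, nat_lit 8, nat_lit 4, nat_lit 7, nat_lit 3, nat_lit 3, nat_lit 3, nat_lit 6, nat_lit 5, nat_lit 0])) (.leaf ((nat_lit 1), [nat_lit 6, nat_lit 8, nat_lit 0, nat_lit 8, nat_lit 4, nat_lit 1, nat_lit 7, nat_lit 6, nat_lit 4, nat_lit 3, nat_lit 6, nat_lit 5, nat_lit 3, nat_lit 4, nat_lit 1])))))))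
 (.node (nat_lit 0x83493f7c5392bbc) (.node (nat_lit 0x83348af615d8dac) (.node (nat_lit 0x8325a66c797a3ac) (.node (nat_lit 0x831ebf9035c3880) (.leaf ((nat_lit 0), [nat_lit 2, nat_lit 7, nat_lit 9, nat_lit 5, nat_lit 9, nat_lit 4, nat_lit 8, nat_lit 6, nat_lit 3, nat_lit 8, nat_lit 7, nat_lit 5, nat_lit 3, nat_lit 4, nat_lit 3, nat_lit 3])) (.leaf ((nat_lit 4), [nat_lit 2, nat_lit 7, nat_lit 9, nat_lit 5, nat_lit 9, nat_lit 8, nat_lit 5, nat_lit 8, nat_lit 1, nat_lit 7, nat_lit 3, nat_lit 4, nat_lit 6, nat_lit 4, nat_lit 3, nat_lit 3, nat_lit 1]))) (.node (nat_lit 0x8328eb4fd4c3b2c) (.leaf ((nat_lit 1), [nat_lit 8, nat_lit 2, nat_lit 6, nat_lit 0, nat_lit 8, nat_lit 7, nat_lit 0, nat_lit 7, nat_lit 3, nat_lit 6, nat_lit 5, nat_lit 2, nat_lit 1])) (.node (nat_lit 0x832ebb4c1a21c50) (.leaf ((nat_lit 1), [nat_lit 4, nat_lit 0, nat_lit 7, nat_lit 8, nat_lit 4, nat_lit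 0, nat_lit 7, nat_lit 4, nat_lit 6, nat_lit 4, nat_lit 1])) (.leaf ((nat_lit 0), [nat_lit 6, nat_lit 9, nat_lit 2, nat_lit 1, nat_lit 9, nat_lit 4, nat_lit 0, nat_lit 7, nat_lit 8, nat_lit 3, nat_lit 4, nat_lit 7, nat_lit 5, nat_lit 6, nat_lit 5, nat_lit 4, nat_lit 2, nat_lit 2])))))
 (.node (nat_lit 0x833b14ab8cf74ac) (.node (nat_lit 0x8335fee7db93d6c) (.leaf ((nat_lit 4), [nat_lit 6, nat_lit 9, nat_lit 2, nat_lit 1, nat_lit 9, nat_lit 5, nat_lit 8, nat_lit 0, nat_lit 8, nat_lit 7, nat_lit 6, nat_lit 3, nat_lit 3, nat_lit 6, nat_lit 3, nat_lit 3, nat_lit 0])) (.leaf ((nat_lit 0), [nat_lit 6, nat_lit 9, nat_lit 2, nat_lit 1, nat_lit 9, nat_lit 8, nat_lit 2, nat_lit 5, nat_lit 8, nat_lit 1, nat_lit 7, nat_lit 5, nat_lit 6, nat_lit 4, nat_lit 3, nat_lit 3, nat_lit 3, nat_lit 1]))) (.node (nat_lit 0x834486ec8c1cadc) (.leaf ((nat_lit 0), [nat_lit 6, nat_lit 9, nat_lit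 2, nat_lit 1, nat_lit 9, nat_lit 7, nat_lit 6, nat_lit 8, nat_lit 7, nat_lit 0, nat_lit 7, nat_lit 3, nat_lit 4, nat_lit 3, nat_lit 3, nat_lit 1])) (.node (nat_lit 0x83476ee09f0cf5c) (.leaf ((nat_lit 0), [nat_lit 2, nat_lit 7, nat_lit 9, nat_lit 5, nat_lit 9, nat_lit 5, nat_lit 1, nat_lit 8, nat_lit 4, nat_lit 0, nat_lit 7, nat_lit 3, nat_lit 6, nat_lit 4, nat_lit 3, nat_lit 3, nat_lit 1])) (.leaf ((nat_lit 4), [nat_lit 2, nat_lit 7, nat_lit 9, nat_lit 5, nat_lit 9, nat_lit 8, nat_lit 5, nat_lit 8, nat_lit 5, nat_lit 7, nat_lit 5, nat_lit 7, nat_lit 4, nat_lit 6, nat_lit 5]))))))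
 (.node (nat_lit 0x836537325807a98) (.node (nat_lit 0x8355f611d8a52bc) (.node (nat_lit 0x83542539f446e3c) (.leaf ((nat_lit 0), [nat_lit 0, nat_lit 7, nat_lit 0, nat_lit 9, nat_lit 1, nat_lit 9, nat_lit 6, nat_lit 7, nat_lit 1, nat_lit 8, nat_lit 0, nat_lit 7, nat_lit 6, nat_lit 2, nat_lit 4, nat_lit 6, nat_lit 2, nat_lit 2])) (.leaf ((nat_lit 4), [nat_lit 0, nat_lit 7, nat_lit 0, nat_lit 9, nat_lit 1, nat_lit 9, nat_lit 6, nat_lit 0, nat_lit 8, nat_lit 7, nat_lit 5, nat_lit 1, nat_lit 7, nat_lit 2, nat_lit 2, nat_lit 6, nat_lit 4]))) (.node (nat_lit 0x835a5233e128f1c) (.leaf ((nat_lit 0), [nat_lit 0, nat_lit 7, nat_lit 0, nat_lit 9, nat_lit 1, nat_lit 9, nat_lit 7, nat_lit 8, nat_lit 1, nat_lit 8, nat_lit 0, nat_lit 7, nat_lit 6, nat_lit 3, nat_lit 3, nat_lit 6])) (.node (nat_lit 0x8363094120a4398) (.leaf ((nat_lit 0), [nat_lit 2, nat_lit 7, nat_lit 9, nat_lit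 5, nat_lit 9, nat_lit 0, nat_lit 8, nat_lit 6, nat_lit 1, nat_lit 7, nat_lit 6, nat_lit 2, nat_lit 2, nat_lit 6, nat_lit 5, nat_lit 4, nat_lit 3])) (.leaf ((nat_lit 1), [nat_lit 4, nat_lit 8, nat_lit 2, nat_lit 1, nat_lit 8, nat_lit 3, nat_lit 6, nat_lit 1, nat_lit 7, nat_lit 6, nat_lit 4, nat_lit 3, nat_lit 6, nat_lit 2, nat_lit 0])))))
 (.node (nat_lit 0x83701d5e491f408) (.node (nat_lit 0x8369f034ed9c4c0) (.leaf ((nat_lit 0), [nat_lit 2, nat_lit 7, nat_lit 9, nat_lit 5, nat_lit 9, nat_lit 8, nat_lit 5, nat_lit 8, nat_lit 5, nat_lit 7, nat_lit 5, nat_lit 0, nat_lit 7, nat_lit 4, nat_lit 2, nat_lit 2, nat_lit 6, nat_lit 2])) (.leaf ((nat_lit 0), [nat_lit 0, nat_lit 7, nat_lit 0, nat_lit 9, nat_lit 1, nat_lit 9, nat_lit 5, nat_lit 7, nat_lit 5, nat_lit 8, nat_lit 7, nat_lit 1, nat_lit 7, nat_lit 5, nat_lit 6, nat_lit 5, nat_lit 4]))) (.node (nat_lit 0x8371ee570e739c8)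 (.leaf ((nat_lit 1), [nat_lit 4, nat_lit 8, nat_lit 0, nat_lit 8, nat_lit 3, nat_lit 3, nat_lit 3, nat_lit 6, nat_lit 5, nat_lit 2, nat_lit 4, nat_lit 2, nat_lit 0])) (.node (nat_lit 0x8376a713ee7cc10) (.leaf ((nat_lit 0), [nat_lit 0, nat_lit 7, nat_lit 0, nat_lit 9, nat_lit 1, nat_lit 9, nat_lit 8, nat_lit 1, nat_lit 8, nat_lit 4, nat_lit 2, nat_lit 6, nat_lit 3, nat_lit 3, nat_lit 0])) (.leaf ((nat_lit 0), [nat_lit 2, nat_lit 7, nat_lit 9, nat_lit 5, nat_lit 9, nat_lit 8, nat_lit 5, nat_lit 8, nat_lit 7, nat_lit 5, nat_lit 7, nat_lit 4, nat_lit 6, nat_lit 3, nat_lit 0])))))))))))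
 (.node (nat_lit 0x92f1be434255ff4) (.node (nat_lit 0x926e4111fe677a4) (.node (nat_lit 0x922e52fa627ce94) (.node (nat_lit 0x83ddcf5e514e980) (.node (nat_lit 0x83a40e67718dc68) (.node (nat_lit 0x838474e796cddb0) (.node (nat_lit 0x83818c902942068) (.node (nat_lit 0x837deaa9c23f368) (.leaf ((nat_lit 1), [nat_lit 3, nat_lit 6, nat_lit 2, nat_lit 1, nat_lit 8, nat_lit 6, nat_lit 5, nat_lit 0, nat_lit 7, nat_lit 3, nat_lit 6, nat_lit 3, nat_lit 1])) (.leaf ((nat_lit 0), [nat_lit 6, nat_lit 9, nat_lit 2, nat_lit 1, nat_lit 9, nat_lit 7, nat_lit 5, nat_lit 8, nat_lit 0, nat_lit 8, nat_lit 7, nat_lit 5, nat_lit 7, nat_lit 3, nat_lit 6, nat_lit 4, nat_lit 0]))) (.node (nat_lit 0x838300f31f28ab0) (.leaf ((nat_lit 1), [nat_lit 7, nat_lit 2, nat_lit 8, nat_lit 6, nat_lit 5, nat_lit 0, nat_lit 7, nat_lit 4, nat_lit 3, nat_lit 6, nat_lit 5, nat_lit 2])) (.leaf ((nat_lit 0),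 [nat_lit 6, nat_lit 9, nat_lit 2, nat_lit 1, nat_lit 9, nat_lit 4, nat_lit 0, nat_lit 7, nat_lit 6, nat_lit 5, nat_lit 6, nat_lit 4, nat_lit 2]))))
 (.node (nat_lit 0x8390cdd57d7a5c0) (.node (nat_lit 0x838d2bf50447980) (.leaf ((nat_lit 1), [nat_lit 3, nat_lit 8, nat_lit 7, nat_lit 1, nat_lit 8, nat_lit 3, nat_lit 6, nat_lit 7, nat_lit 6, nat_lit 5, nat_lit 3, nat_lit 4])) (.leaf ((nat_lit 1), [nat_lit 6, nat_lit 5, nat_lit 7, nat_lit 5, nat_lit 3, nat_lit 3, nat_lit 3, nat_lit 1]))) (.node (nat_lit 0x839241b603c1058) (.leaf ((nat_lit 1), [nat_lit 2, nat_lit 6, nat_lit 2, nat_lit 8, nat_lit 5, nat_lit 7, nat_lit 5, nat_lit 1, nat_lit 7, nat_lit 5, nat_lit 6, nat_lit 4, nat_lit 3])) (.node (nat_lit 0x839d27f69e31530) (.leaf ((nat_lit 1), [nat_lit 8, nat_lit 5, nat_lit 0, nat_lit 8, nat_lit 6, nat_lit 1, nat_lit 7, nat_lit 5, nat_lit 6, nat_lit 5, nat_lit 4])) (.leaf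 ((nat_lit 1), [nat_lit 7, nat_lit 2, nat_lit 8, nat_lit 7, nat_lit 5, nat_lit 7, nat_lit 5, nat_lit 6, nat_lit 0]))))))
 (.node (nat_lit 0x83bfa9a23e1ee10) (.node (nat_lit 0x83b17f40dbde548) (.node (nat_lit 0x83ab52471cfaa50) (.leaf ((nat_lit 1), [nat_lit 5, nat_lit 2, nat_lit 8, nat_lit 5, nat_lit 1, nat_lit 7, nat_lit 6, nat_lit 5, nat_lit 6, nat_lit 4, nat_lit 3, nat_lit 3])) (.leaf ((nat_lit 1), [nat_lit 7, nat_lit 5, nat_lit 0, nat_lit 8, nat_lit 6, nat_lit 7, nat_lit 4, nat_lit 2, nat_lit 2, nat_lit 0]))) (.node (nat_lit 0x83bbaac2db11590) (.leaf ((nat_lit 1), [nat_lit 5, nat_lit 1, nat_lit 8, nat_lit 1, nat_lit 7, nat_lit 2, nat_lit 4, nat_lit 2])) (.node (nat_lit 0x83be359abb13b90) (.leaf ((nat_lit 0), [nat_lit 0, nat_lit 7, nat_lit 0, nat_lit 9, nat_lit 1, nat_lit 9, nat_lit 2, nat_lit 7, nat_lit 8, nat_lit 3, nat_lit 4, nat_lit 7, nat_lit 6, nat_lit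 5, nat_lit 4, nat_lit 2])) (.leaf ((nat_lit 1), [nat_lit 2, nat_lit 2, nat_lit 8, nat_lit 7, nat_lit 2, nat_lit 4, nat_lit 3, nat_lit 6, nat_lit 5, nat_lit 4, nat_lit 3, nat_lit 0])))))
 (.node (nat_lit 0x83cfa54f3894af0) (.node (nat_lit 0x83c80421f1e9b00) (.leaf ((nat_lit 1), [nat_lit 6, nat_lit 3, nat_lit 0, nat_lit 8, nat_lit 6, nat_lit 0, nat_lit 7, nat_lit 5, nat_lit 6, nat_lit 5, nat_lit 4])) (.leaf ((nat_lit 0), [nat_lit 6, nat_lit 9, nat_lit 2, nat_lit 1, nat_lit 9, nat_lit 3, nat_lit 7, nat_lit 5, nat_lit 8, nat_lit 0, nat_lit 7, nat_lit 5, nat_lit 3, nat_lit 4, nat_lit 3]))) (.node (nat_lit 0x83d5d21bdf259f0) (.leaf ((nat_lit 1), [nat_lit 7, nat_lit 8, nat_lit 1, nat_lit 8, nat_lit 4, nat_lit 7, nat_lit 4, nat_lit 6, nat_lit 5, nat_lit 2, nat_lit 4, nat_lit 3])) (.node (nat_lit 0x83d97417d57a0f0) (.leaf ((nat_lit 1), [nat_lit 7, nat_lit 5, nat_lit 7,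 nat_lit 6, nat_lit 3, nat_lit 4, nat_lit 6, nat_lit 5, nat_lit 4, nat_lit 2, nat_lit 1])) (.leaf ((nat_lit 0), [nat_lit 2, nat_lit 7, nat_lit 9, nat_lit 5, nat_lit 9, nat_lit 6, nat_lit 8, nat_lit 6, nat_lit 1, nat_lit 7, nat_lit 2, nat_lit 4, nat_lit 2, nat_lit 1])))))))
 (.node (nat_lit 0x840b36f33a4ead8) (.node (nat_lit 0x83f56b75a2f92ac) (.node (nat_lit 0x83e570383adc9fc) (.node (nat_lit 0x83dee653551d600) (.leaf ((nat_lit 1), [nat_lit 6, nat_lit 9, nat_lit 2, nat_lit 1, nat_lit 9, nat_lit 5, nat_lit 0, nat_lit 8, nat_lit 6, nat_lit 7, nat_lit 2, nat_lit 4, nat_lit 6, nat_lit 5, nat_lit 1])) (.leaf ((nat_lit 1), [nat_lit 5, nat_lit 1, nat_lit 7, nat_lit 6, nat_lit 2, nat_lit 2, nat_lit 6, nat_lit 3, nat_lit 4, nat_lit 3, nat_lit 3]))) (.node (nat_lit 0x83e8581f3036fbc) (.leaf ((nat_lit 0), [nat_lit 6, nat_lit 9, nat_lit 2, nat_lit 1, nat_lit 9, nat_lit 6,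 nat_lit 5, nat_lit 6, nat_lit 7, nat_lit 4, nat_lit 2, nat_lit 6, nat_lit 4, nat_lit 3])) (.node (nat_lit 0x83eb9d31cc025e8) (.leaf ((nat_lit 1), [nat_lit 6, nat_lit 9, nat_lit 2, nat_lit 1, nat_lit 9, nat_lit 5, nat_lit 8, nat_lit 2, nat_lit 1, nat_lit 8, nat_lit 5, nat_lit 1, nat_lit 7, nat_lit 2, nat_lit 2, nat_lit 6, nat_lit 1])) (.leaf ((nat_lit 4), [nat_lit 2, nat_lit 7, nat_lit 9, nat_lit 5, nat_lit 9, nat_lit 3, nat_lit 0, nat_lit 8, nat_lit 4, nat_lit 2, nat_lit 2, nat_lit 6, nat_lit 4, nat_lit 2, nat_lit 2, nat_lit 1])))))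
 (.node (nat_lit 0x83f9c8031c38688) (.node (nat_lit 0x83f73c670a891ac) (.leaf ((nat_lit 1), [nat_lit 1, nat_lit 8, nat_lit 6, nat_lit 1, nat_lit 8, nat_lit 2, nat_lit 4, nat_lit 7, nat_lit 5, nat_lit 3, nat_lit 6, nat_lit 5, nat_lit 4, nat_lit 3, nat_lit 3, nat_lit 0])) (.leaf ((nat_lit 0), [nat_lit 2, nat_lit 7, nat_lit 9, nat_lit 5, nat_lit 9, nat_lit 6, nat_lit 8, nat_lit 4, nat_lit 1, nat_lit 7, nat_lit 6, nat_lit 5, nat_lit 6, nat_lit 2, nat_lit 4, nat_lit 3, nat_lit 0]))) (.node (nat_lit 0x8403968a532ea1c) (.leaf ((nat_lit 4), [nat_lit 6, nat_lit 9, nat_lit 2, nat_lit 1, nat_lit 9, nat_lit 8, nat_lit 2, nat_lit 5, nat_lit 8, nat_lit 6, nat_lit 0, nat_lit 7, nat_lit 5, nat_lit 6, nat_lit 2, nat_lit 4])) (.node (nat_lit 0x840567742efb99c) (.leaf ((nat_lit 1), [nat_lit 6, nat_lit 3, nat_lit 1, nat_lit 8, nat_lit 2, nat_lit 4, nat_lit 7, nat_lit 4, nat_lit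 3, nat_lit 3, nat_lit 6, nat_lit 3, nat_lit 4, nat_lit 1])) (.leaf ((nat_lit 0), [nat_lit 0, nat_lit 7, nat_lit 0, nat_lit 9, nat_lit 1, nat_lit 9, nat_lit 2, nat_lit 7, nat_lit 8, nat_lit 4, nat_lit 0, nat_lit 7, nat_lit 1]))))))
 (.node (nat_lit 0x84244701b5888d8) (.node (nat_lit 0x8412d7cd51db2a8) (.node (nat_lit 0x841106de1239ca8) (.leaf ((nat_lit 4), [nat_lit 0, nat_lit 7, nat_lit 0, nat_lit 9, nat_lit 1, nat_lit 9, nat_lit 7, nat_lit 8, nat_lit 5, nat_lit 0, nat_lit 7, nat_lit 6, nat_lit 2, nat_lit 2, nat_lit 6, nat_lit 2, nat_lit 4, nat_lit 2])) (.leaf ((nat_lit 0), [nat_lit 2, nat_lit 7, nat_lit 9, nat_lit 5, nat_lit 9, nat_lit 3, nat_lit 7, nat_lit 0, nat_lit 8, nat_lit 6, nat_lit 0, nat_lit 7, nat_lit 5, nat_lit 2, nat_lit 4, nat_lit 0]))) (.node (nat_lit 0x841a1b7d32caa7c) (.leaf ((nat_lit 0), [nat_lit 2, nat_lit 7, nat_lit 9, nat_lit 5, nat_lit 9,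 nat_lit 4, nat_lit 8, nat_lit 6, nat_lit 3, nat_lit 8, nat_lit 7, nat_lit 4, nat_lit 2, nat_lit 6, nat_lit 4])) (.node (nat_lit 0x8421023c2d4ddd8) (.leaf ((nat_lit 1), [nat_lit 7, nat_lit 5, nat_lit 6, nat_lit 8, nat_lit 6, nat_lit 0, nat_lit 7, nat_lit 3, nat_lit 4, nat_lit 3, nat_lit 1])) (.leaf ((nat_lit 0), [nat_lit 0, nat_lit 7, nat_lit 0, nat_lit 9, nat_lit 1, nat_lit 9, nat_lit 7, nat_lit 2, nat_lit 8, nat_lit 6, nat_lit 1, nat_lit 7, nat_lit 6, nat_lit 2, nat_lit 4, nat_lit 2, nat_lit 1])))))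
 (.node (nat_lit 0x8430a1227a426c8) (.node (nat_lit 0x8426d25c334a11c) (.leaf ((nat_lit 0), [nat_lit 0, nat_lit 7, nat_lit 0, nat_lit 9, nat_lit 1, nat_lit 9, nat_lit 7, nat_lit 8, nat_lit 1, nat_lit 8, nat_lit 1, nat_lit 7, nat_lit 4, nat_lit 2, nat_lit 6, nat_lit 2, nat_lit 1])) (.leaf ((nat_lit 1), [nat_lit 7, nat_lit 8, nat_lit 1, nat_lit 8, nat_lit 5, nat_lit 0, nat_lit 7, nat_lit 6, nat_lit 5, nat_lit 6, nat_lit 2, nat_lit 2, nat_lit 0]))) (.node (nat_lit 0x8431b81a01fcdc8) (.leaf ((nat_lit 0), [nat_lit 6, nat_lit 9, nat_lit 2, nat_lit 1, nat_lit 9, nat_lit 7, nat_lit 8, nat_lit 7, nat_lit 0, nat_lit 8, nat_lit 1, nat_lit 7, nat_lit 4, nat_lit 3, nat_lit 3, nat_lit 3])) (.node (nat_lit 0x84332b77608862c) (.leaf ((nat_lit 0), [nat_lit 6, nat_lit 9, nat_lit 2, nat_lit 1, nat_lit 9, nat_lit 4, nat_lit 7, nat_lit 8, nat_lit 5, nat_lit 7, nat_lit 4, nat_lit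 2])) (.leaf ((nat_lit 1), [nat_lit 7, nat_lit 5, nat_lit 1, nat_lit 8, nat_lit 7, nat_lit 2, nat_lit 4, nat_lit 7, nat_lit 6, nat_lit 2, nat_lit 2, nat_lit 6, nat_lit 2, nat_lit 2]))))))))
 (.node (nat_lit 0x924e49f632e3594) (.node (nat_lit 0x923d94945634478) (.node (nat_lit 0x923368a183081b4) (.node (nat_lit 0x9230de287ff1108) (.node (nat_lit 0x922eb04bf1db964) (.leaf ((nat_lit 0), [nat_lit 3, nat_lit 9, nat_lit 6, nat_lit 3, nat_lit 1, nat_lit 9, nat_lit 8, nat_lit 4, nat_lit 2, nat_lit 6, nat_lit 2, nat_lit 2, nat_lit 1])) (.leaf ((nat_lit 5), [nat_lit 9, nat_lit 2, nat_lit 1, nat_lit 9, nat_lit 8, nat_lit 6, nat_lit 1, nat_lit 8, nat_lit 6, nat_lit 7, nat_lit 3, nat_lit 6, nat_lit 4, nat_lit 2]))) (.node (nat_lit 0x92313ab525885d8) (.leaf ((nat_lit 0), [nat_lit 9, nat_lit 4, nat_lit 6, nat_lit 9, nat_lit 6, nat_lit 3, nat_lit 8, nat_lit 1, nat_lit 7, nat_lit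 4, nat_lit 2, nat_lit 6, nat_lit 5, nat_lit 3, nat_lit 4])) (.node (nat_lit 0x92330bd3a560080) (.leaf ((nat_lit 0), [nat_lit 5, nat_lit 9, nat_lit 6, nat_lit 3, nat_lit 9, nat_lit 0, nat_lit 8, nat_lit 7, nat_lit 1, nat_lit 8, nat_lit 3, nat_lit 3, nat_lit 6, nat_lit 3, nat_lit 4])) (.leaf ((nat_lit 0), [nat_lit 3, nat_lit 3, nat_lit 9, nat_lit 0, nat_lit 9, nat_lit 3, nat_lit 5, nat_lit 8, nat_lit 5, nat_lit 7, nat_lit 5, nat_lit 0, nat_lit 7, nat_lit 4, nat_lit 3, nat_lit 3, nat_lit 3])))))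
 (.node (nat_lit 0x9235f411061fc90) (.node (nat_lit 0x9235967cfd1b760) (.leaf ((nat_lit 0), [nat_lit 3, nat_lit 9, nat_lit 6, nat_lit 3, nat_lit 1, nat_lit 9, nat_lit 7, nat_lit 6, nat_lit 8, nat_lit 1, nat_lit 7, nat_lit 2, nat_lit 6, nat_lit 5, nat_lit 4, nat_lit 2])) (.leaf ((nat_lit 0), [nat_lit 6, nat_lit 9, nat_lit 2, nat_lit 1, nat_lit 9, nat_lit 5, nat_lit 7, nat_lit 6, nat_lit 8, nat_lit 7, nat_lit 2, nat_lit 4, nat_lit 3, nat_lit 6, nat_lit 2, nat_lit 2, nat_lit 1]))) (.node (nat_lit 0x9237c4bf3bb9af8) (.leaf ((nat_lit 0), [nat_lit 9, nat_lit 4, nat_lit 6, nat_lit 9, nat_lit 0, nat_lit 8, nat_lit 6, nat_lit 3, nat_lit 8, nat_lit 7, nat_lit 3, nat_lit 4, nat_lit 7, nat_lit 3, nat_lit 6, nat_lit 2, nat_lit 4, nat_lit 1])) (.node (nat_lit 0x923d3749f6fc858) (.leaf ((nat_lit 0), [nat_lit 6, nat_lit 9, nat_lit 2, nat_lit 1, nat_lit 9, nat_lit 8, nat_lit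 6, nat_lit 2, nat_lit 8, nat_lit 6, nat_lit 5, nat_lit 7, nat_lit 4, nat_lit 3, nat_lit 3, nat_lit 6, nat_lit 3])) (.leaf ((nat_lit 0), [nat_lit 3, nat_lit 9, nat_lit 6, nat_lit 3, nat_lit 1, nat_lit 9, nat_lit 6, nat_lit 8, nat_lit 0, nat_lit 8, nat_lit 6, nat_lit 5, nat_lit 1, nat_lit 7, nat_lit 6, nat_lit 3, nat_lit 3, nat_lit 3]))))))
 (.node (nat_lit 0x92447b47ff334b8) (.node (nat_lit 0x9241932649e9df4) (.node (nat_lit 0x923fc2c49daf2d0) (.leaf ((nat_lit 0), [nat_lit 9, nat_lit 6, nat_lit 8, nat_lit 1, nat_lit 9, nat_lit 2, nat_lit 2, nat_lit 8, nat_lit 3, nat_lit 6, nat_lit 7, nat_lit 2, nat_lit 4, nat_lit 6, nat_lit 3, nat_lit 3])) (.leaf ((nat_lit 0), [nat_lit 9, nat_lit 4, nat_lit 6, nat_lit 9, nat_lit 5, nat_lit 2, nat_lit 8, nat_lit 5, nat_lit 7, nat_lit 5, nat_lit 6, nat_lit 5, nat_lit 2, nat_lit 1]))) (.node (nat_lit 0x9241f0a63390f24) (.leaf ((nat_lit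 0), [nat_lit 2, nat_lit 7, nat_lit 9, nat_lit 5, nat_lit 9, nat_lit 8, nat_lit 1, nat_lit 7, nat_lit 8, nat_lit 5, nat_lit 0, nat_lit 7, nat_lit 4, nat_lit 3, nat_lit 6, nat_lit 4])) (.node (nat_lit 0x92424d73e2d99c0) (.leaf ((nat_lit 0), [nat_lit 8, nat_lit 0, nat_lit 9, nat_lit 1, nat_lit 9, nat_lit 3, nat_lit 6, nat_lit 3, nat_lit 8, nat_lit 5, nat_lit 7, nat_lit 5, nat_lit 6, nat_lit 5, nat_lit 3, nat_lit 4])) (.leaf ((nat_lit 0), [nat_lit 3, nat_lit 9, nat_lit 6, nat_lit 3, nat_lit 1, nat_lit 9, nat_lit 2, nat_lit 5, nat_lit 8, nat_lit 5, nat_lit 7, nat_lit 6, nat_lit 3, nat_lit 3, nat_lit 3, nat_lit 1])))))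
 (.node (nat_lit 0x9246a9919be1364) (.node (nat_lit 0x9244d81f0691598) (.leaf ((nat_lit 0), [nat_lit 5, nat_lit 9, nat_lit 6, nat_lit 3, nat_lit 9, nat_lit 7, nat_lit 0, nat_lit 8, nat_lit 2, nat_lit 2, nat_lit 6, nat_lit 5, nat_lit 2, nat_lit 4])) (.leaf ((nat_lit 0), [nat_lit 2, nat_lit 7, nat_lit 9, nat_lit 5, nat_lit 9, nat_lit 8, nat_lit 5, nat_lit 8, nat_lit 5, nat_lit 4, nat_lit 7, nat_lit 3, nat_lit 3, nat_lit 3, nat_lit 6, nat_lit 3, nat_lit 3, nat_lit 3]))) (.node (nat_lit 0x924bbf4b0f97950) (.leaf ((nat_lit 0), [nat_lit 9, nat_lit 6, nat_lit 4, nat_lit 9, nat_lit 5, nat_lit 7, nat_lit 6, nat_lit 8, nat_lit 5, nat_lit 7, nat_lit 4, nat_lit 3, nat_lit 3])) (.node (nat_lit 0x924c1bdf9ceef20) (.leaf ((nat_lit 2), [nat_lit 9, nat_lit 6, nat_lit 4, nat_lit 9, nat_lit 2, nat_lit 6, nat_lit 0, nat_lit 8, nat_lit 6, nat_lit 1, nat_lit 7, nat_lit 3, nat_lit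 6, nat_lit 5, nat_lit 4, nat_lit 2, nat_lit 0])) (.leaf ((nat_lit 0), [nat_lit 9, nat_lit 2, nat_lit 6, nat_lit 3, nat_lit 9, nat_lit 4, nat_lit 7, nat_lit 8, nat_lit 4, nat_lit 1, nat_lit 7, nat_lit 2, nat_lit 2, nat_lit 6, nat_lit 5, nat_lit 2, nat_lit 4, nat_lit 3])))))))
 (.node (nat_lit 0x925eff09ba57b20) (.node (nat_lit 0x9254d3c66f295c0) (.node (nat_lit 0x9250783ffda5ac8) (.node (nat_lit 0x924ea6b1eb1e474) (.leaf ((nat_lit 0), [nat_lit 0, nat_lit 7, nat_lit 0, nat_lit 9, nat_lit 1, nat_lit 9, nat_lit 5, nat_lit 0, nat_lit 8, nat_lit 6, nat_lit 0, nat_lit 7, nat_lit 3, nat_lit 6, nat_lit 2])) (.leaf ((nat_lit 0), [nat_lit 5, nat_lit 9, nat_lit 6, nat_lit 3, nat_lit 9, nat_lit 6, nat_lit 2, nat_lit 1, nat_lit 8, nat_lit 6, nat_lit 5, nat_lit 7, nat_lit 3, nat_lit 3, nat_lit 6, nat_lit 4, nat_lit 1]))) (.node (nat_lit 0x9250d53395dbfc8) (.leaf ((nat_lit 0),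 [nat_lit 9, nat_lit 4, nat_lit 6, nat_lit 9, nat_lit 7, nat_lit 2, nat_lit 8, nat_lit 0, nat_lit 7, nat_lit 3, nat_lit 6, nat_lit 3, nat_lit 3, nat_lit 3])) (.node (nat_lit 0x925302e1f730b54) (.leaf ((nat_lit 3), [nat_lit 8, nat_lit 6, nat_lit 0, nat_lit 7, nat_lit 4, nat_lit 6, nat_lit 5, nat_lit 2, nat_lit 4, nat_lit 3, nat_lit 0])) (.leaf ((nat_lit 0), [nat_lit 3, nat_lit 3, nat_lit 9, nat_lit 0, nat_lit 9, nat_lit 7, nat_lit 5, nat_lit 0, nat_lit 8, nat_lit 0, nat_lit 7, nat_lit 6, nat_lit 5, nat_lit 4, nat_lit 2])))))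
 (.node (nat_lit 0x925aa32d675f534) (.node (nat_lit 0x9255308d4b0a320) (.leaf ((nat_lit 0), [nat_lit 0, nat_lit 7, nat_lit 0, nat_lit 9, nat_lit 1, nat_lit 9, nat_lit 7, nat_lit 2, nat_lit 8, nat_lit 7, nat_lit 5, nat_lit 1, nat_lit 7, nat_lit 4, nat_lit 6, nat_lit 4, nat_lit 2, nat_lit 2, nat_lit 0])) (.leaf ((nat_lit 0), [nat_lit 3, nat_lit 3, nat_lit 9, nat_lit 0, nat_lit 9, nat_lit 2, nat_lit 8, nat_lit 7, nat_lit 5, nat_lit 0, nat_lit 7, nat_lit 3, nat_lit 3, nat_lit 6, nat_lit 2, nat_lit 0]))) (.node (nat_lit 0x925b0069390cc94) (.leaf ((nat_lit 0), [nat_lit 3, nat_lit 9, nat_lit 6, nat_lit 3, nat_lit 1, nat_lit 9, nat_lit 7, nat_lit 6, nat_lit 8, nat_lit 5, nat_lit 7, nat_lit 6, nat_lit 4, nat_lit 3, nat_lit 6, nat_lit 5, nat_lit 0])) (.node (nat_lit 0x925cd19c90b2b48) (.leaf ((nat_lit 5), [nat_lit 0, nat_lit 7, nat_lit 0, nat_lit 9, nat_lit 1, nat_lit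 9, nat_lit 7, nat_lit 2, nat_lit 1, nat_lit 8, nat_lit 5, nat_lit 6, nat_lit 7, nat_lit 2, nat_lit 6, nat_lit 5, nat_lit 0])) (.leaf ((nat_lit 0), [nat_lit 9, nat_lit 2, nat_lit 1, nat_lit 9, nat_lit 8, nat_lit 6, nat_lit 3, nat_lit 1, nat_lit 8, nat_lit 5, nat_lit 4, nat_lit 7, nat_lit 6, nat_lit 4, nat_lit 2, nat_lit 6]))))))
 (.node (nat_lit 0x926415750c59e08) (.node (nat_lit 0x925fb9578145cd4) (.node (nat_lit 0x925f5c89a3fec50) (.leaf ((nat_lit 0), [nat_lit 5, nat_lit 9, nat_lit 6, nat_lit 3, nat_lit 9, nat_lit 5, nat_lit 8, nat_lit 7, nat_lit 5, nat_lit 7, nat_lit 6, nat_lit 5, nat_lit 4, nat_lit 2, nat_lit 2, nat_lit 0])) (.leaf ((nat_lit 0), [nat_lit 0, nat_lit 7, nat_lit 0, nat_lit 9, nat_lit 1, nat_lit 9, nat_lit 3, nat_lit 8, nat_lit 7, nat_lit 1, nat_lit 8, nat_lit 6, nat_lit 7, nat_lit 6, nat_lit 3, nat_lit 4, nat_lit 3]))) (.node (nat_lit 0x9261e75e19fc680)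 (.leaf ((nat_lit 0), [nat_lit 3, nat_lit 9, nat_lit 6, nat_lit 3, nat_lit 1, nat_lit 9, nat_lit 7, nat_lit 1, nat_lit 8, nat_lit 7, nat_lit 6, nat_lit 2, nat_lit 4, nat_lit 6, nat_lit 5, nat_lit 2, nat_lit 4, nat_lit 2, nat_lit 0])) (.node (nat_lit 0x92624402a4f2ca0) (.leaf ((nat_lit 0), [nat_lit 2, nat_lit 7, nat_lit 9, nat_lit 5, nat_lit 9, nat_lit 6, nat_lit 2, nat_lit 8, nat_lit 7, nat_lit 6, nat_lit 3, nat_lit 3, nat_lit 6, nat_lit 4, nat_lit 3, nat_lit 3, nat_lit 1])) (.leaf ((nat_lit 0), [nat_lit 9, nat_lit 6, nat_lit 4, nat_lit 9, nat_lit 5, nat_lit 6, nat_lit 8, nat_lit 2, nat_lit 4, nat_lit 7, nat_lit 3, nat_lit 4, nat_lit 6, nat_lit 4, nat_lit 2, nat_lit 1])))))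
 (.node (nat_lit 0x9269e4b19dc6858) (.node (nat_lit 0x926988412d4b148) (.leaf ((nat_lit 0), [nat_lit 2, nat_lit 7, nat_lit 9, nat_lit 5, nat_lit 9, nat_lit 7, nat_lit 5, nat_lit 1, nat_lit 8, nat_lit 1, nat_lit 7, nat_lit 5, nat_lit 3])) (.leaf ((nat_lit 0), [nat_lit 3, nat_lit 9, nat_lit 6, nat_lit 3, nat_lit 1, nat_lit 9, nat_lit 8, nat_lit 7, nat_lit 0, nat_lit 8, nat_lit 0, nat_lit 7, nat_lit 6, nat_lit 3, nat_lit 4, nat_lit 6, nat_lit 2, nat_lit 4, nat_lit 1]))) (.node (nat_lit 0x926bb5ef60a1580) (.leaf ((nat_lit 0), [nat_lit 9, nat_lit 6, nat_lit 8, nat_lit 1, nat_lit 9, nat_lit 4, nat_lit 6, nat_lit 8, nat_lit 5, nat_lit 4, nat_lit 7, nat_lit 5, nat_lit 3, nat_lit 6, nat_lit 5])) (.node (nat_lit 0x926c12ab18dc460) (.leaf ((nat_lit 0), [nat_lit 8, nat_lit 0, nat_lit 9, nat_lit 1, nat_lit 9, nat_lit 8, nat_lit 1, nat_lit 8, nat_lit 3, nat_lit 4, nat_lit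 7, nat_lit 6, nat_lit 2, nat_lit 2, nat_lit 6, nat_lit 3, nat_lit 4])) (.leaf ((nat_lit 0), [nat_lit 2, nat_lit 7, nat_lit 9, nat_lit 5, nat_lit 9, nat_lit 8, nat_lit 5, nat_lit 8, nat_lit 7, nat_lit 5, nat_lit 0, nat_lit 7, nat_lit 5, nat_lit 4, nat_lit 2])))))))))
 (.node (nat_lit 0x92ad74fbfbfec90) (.node (nat_lit 0x928d7dc1d3703c0) (.node (nat_lit 0x927d252562ad898) (.node (nat_lit 0x92780f7e1418f40) (.node (nat_lit 0x9270cbd842e2d78) (.node (nat_lit 0x926e9e29e178590) (.leaf ((nat_lit 0), [nat_lit 6, nat_lit 9, nat_lit 2, nat_lit 1, nat_lit 9, nat_lit 7, nat_lit 5, nat_lit 8, nat_lit 1, nat_lit 7, nat_lit 6, nat_lit 2, nat_lit 4, nat_lit 6, nat_lit 4, nat_lit 1])) (.leaf ((nat_lit 0), [nat_lit 3, nat_lit 9, nat_lit 6, nat_lit 3, nat_lit 1, nat_lit 9, nat_lit 4, nat_lit 0, nat_lit 7, nat_lit 3, nat_lit 3, nat_lit 3, nat_lit 6, nat_lit 3, nat_lit 4, nat_lit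 3]))) (.node (nat_lit 0x92729cd9d5e5114) (.leaf ((nat_lit 0), [nat_lit 0, nat_lit 7, nat_lit 0, nat_lit 9, nat_lit 1, nat_lit 9, nat_lit 2, nat_lit 7, nat_lit 8, nat_lit 7, nat_lit 0, nat_lit 7, nat_lit 4, nat_lit 2, nat_lit 1])) (.node (nat_lit 0x9272f98368b2c34) (.leaf ((nat_lit 0), [nat_lit 3, nat_lit 3, nat_lit 9, nat_lit 0, nat_lit 9, nat_lit 3, nat_lit 8, nat_lit 6, nat_lit 1, nat_lit 8, nat_lit 6, nat_lit 3, nat_lit 4, nat_lit 7, nat_lit 6, nat_lit 5, nat_lit 4])) (.leaf ((nat_lit 0), [nat_lit 8, nat_lit 0, nat_lit 9, nat_lit 1, nat_lit 9, nat_lit 3, nat_lit 5, nat_lit 6, nat_lit 8, nat_lit 6, nat_lit 3, nat_lit 4, nat_lit 7, nat_lit 4])))))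
 (.node (nat_lit 0x927a3daf4197564) (.node (nat_lit 0x92786cc115ed550) (.leaf ((nat_lit 2), [nat_lit 9, nat_lit 4, nat_lit 6, nat_lit 9, nat_lit 8, nat_lit 1, nat_lit 7, nat_lit 8, nat_lit 1, nat_lit 7, nat_lit 2, nat_lit 4, nat_lit 6, nat_lit 4, nat_lit 2, nat_lit 2, nat_lit 0])) (.leaf ((nat_lit 0), [nat_lit 9, nat_lit 2, nat_lit 6, nat_lit 3, nat_lit 9, nat_lit 2, nat_lit 5, nat_lit 8, nat_lit 7, nat_lit 5, nat_lit 4, nat_lit 1]))) (.node (nat_lit 0x927a9a2d59a4574) (.leaf ((nat_lit 0), [nat_lit 9, nat_lit 2, nat_lit 1, nat_lit 9, nat_lit 8, nat_lit 2, nat_lit 5, nat_lit 8, nat_lit 5, nat_lit 1, nat_lit 7, nat_lit 2, nat_lit 6, nat_lit 5, nat_lit 3, nat_lit 4])) (.node (nat_lit 0x927cc8575706d38) (.leaf ((nat_lit 0), [nat_lit 2, nat_lit 7, nat_lit 9, nat_lit 5, nat_lit 9, nat_lit 5, nat_lit 1, nat_lit 8, nat_lit 1, nat_lit 7, nat_lit 2, nat_lit 4, nat_lit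 6, nat_lit 2])) (.leaf ((nat_lit 0), [nat_lit 8, nat_lit 0, nat_lit 9, nat_lit 1, nat_lit 9, nat_lit 2, nat_lit 7, nat_lit 8, nat_lit 6, nat_lit 5, nat_lit 7, nat_lit 2, nat_lit 4, nat_lit 3, nat_lit 6, nat_lit 5, nat_lit 3, nat_lit 0]))))))
 (.node (nat_lit 0x9286f3cb24a1e34) (.node (nat_lit 0x927fb094e5ba324) (.node (nat_lit 0x927f5333591d8b4) (.leaf ((nat_lit 3), [nat_lit 3, nat_lit 7, nat_lit 0, nat_lit 8, nat_lit 5, nat_lit 7, nat_lit 5, nat_lit 7, nat_lit 2, nat_lit 2])) (.leaf ((nat_lit 0), [nat_lit 9, nat_lit 4, nat_lit 6, nat_lit 9, nat_lit 7, nat_lit 8, nat_lit 6, nat_lit 5, nat_lit 0, nat_lit 7, nat_lit 3, nat_lit 4, nat_lit 6, nat_lit 2]))) (.node (nat_lit 0x92818142ed4acc0) (.leaf ((nat_lit 0), [nat_lit 9, nat_lit 2, nat_lit 1, nat_lit 9, nat_lit 0, nat_lit 7, nat_lit 8, nat_lit 4, nat_lit 7, nat_lit 4, nat_lit 2, nat_lit 2, nat_lit 6, nat_lit 3,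 nat_lit 1])) (.node (nat_lit 0x9286976941b0be4) (.leaf ((nat_lit 0), [nat_lit 9, nat_lit 2, nat_lit 1, nat_lit 9, nat_lit 3, nat_lit 7, nat_lit 8, nat_lit 6, nat_lit 1, nat_lit 7, nat_lit 6, nat_lit 4, nat_lit 0])) (.leaf ((nat_lit 0), [nat_lit 3, nat_lit 9, nat_lit 6, nat_lit 3, nat_lit 1, nat_lit 9, nat_lit 7, nat_lit 1, nat_lit 8, nat_lit 7, nat_lit 4, nat_lit 2, nat_lit 6, nat_lit 2, nat_lit 2])))))
 (.node (nat_lit 0x92897ed01d42758) (.node (nat_lit 0x928922146507878) (.leaf ((nat_lit 5), [nat_lit 9, nat_lit 6, nat_lit 4, nat_lit 9, nat_lit 7, nat_lit 8, nat_lit 3, nat_lit 6, nat_lit 7, nat_lit 3, nat_lit 4, nat_lit 1])) (.leaf ((nat_lit 0), [nat_lit 3, nat_lit 3, nat_lit 9, nat_lit 0, nat_lit 9, nat_lit 8, nat_lit 7, nat_lit 1, nat_lit 8, nat_lit 5, nat_lit 6, nat_lit 7, nat_lit 6, nat_lit 5, nat_lit 0]))) (.node (nat_lit 0x928b502b854ddd0) (.leaf ((nat_lit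 0), [nat_lit 9, nat_lit 6, nat_lit 4, nat_lit 9, nat_lit 6, nat_lit 3, nat_lit 8, nat_lit 5, nat_lit 6, nat_lit 7, nat_lit 6, nat_lit 2, nat_lit 4, nat_lit 6, nat_lit 3])) (.node (nat_lit 0x928bad1061fb3e4) (.leaf ((nat_lit 0), [nat_lit 9, nat_lit 2, nat_lit 1, nat_lit 9, nat_lit 0, nat_lit 7, nat_lit 8, nat_lit 2, nat_lit 4, nat_lit 7, nat_lit 4, nat_lit 3, nat_lit 0])) (.leaf ((nat_lit 0), [nat_lit 3, nat_lit 9, nat_lit 6, nat_lit 3, nat_lit 1, nat_lit 9, nat_lit 7, nat_lit 1, nat_lit 8, nat_lit 3, nat_lit 6, nat_lit 7, nat_lit 2, nat_lit 6, nat_lit 5, nat_lit 3, nat_lit 3, nat_lit 3, nat_lit 1])))))))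
 (.node (nat_lit 0x929cbf912398488) (.node (nat_lit 0x929806e6f32db10) (.node (nat_lit 0x9290086a173f398) (.node (nat_lit 0x928fabb1c8e8af8) (.leaf ((nat_lit 0), [nat_lit 8, nat_lit 0, nat_lit 9, nat_lit 1, nat_lit 9, nat_lit 6, nat_lit 1, nat_lit 8, nat_lit 7, nat_lit 4, nat_lit 3, nat_lit 3, nat_lit 6, nat_lit 5, nat_lit 2, nat_lit 4, nat_lit 2])) (.leaf ((nat_lit 0), [nat_lit 8, nat_lit 0, nat_lit 9, nat_lit 1, nat_lit 9, nat_lit 5, nat_lit 7, nat_lit 5, nat_lit 8, nat_lit 3, nat_lit 4, nat_lit 6, nat_lit 5, nat_lit 2, nat_lit 4, nat_lit 0]))) (.node (nat_lit 0x92957bb8d5cf4f8) (.leaf ((nat_lit 0), [nat_lit 0, nat_lit 7, nat_lit 0, nat_lit 9, nat_lit 1, nat_lit 9, nat_lit 8, nat_lit 2, nat_lit 6, nat_lit 3, nat_lit 8, nat_lit 7, nat_lit 2, nat_lit 4, nat_lit 7, nat_lit 5, nat_lit 3, nat_lit 6])) (.node (nat_lit 0x9295d8d7bac7c48) (.leaf ((nat_lit 0), [nat_lit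 3, nat_lit 9, nat_lit 6, nat_lit 3, nat_lit 1, nat_lit 9, nat_lit 6, nat_lit 8, nat_lit 0, nat_lit 8, nat_lit 6, nat_lit 5, nat_lit 7, nat_lit 6, nat_lit 3])) (.leaf ((nat_lit 0), [nat_lit 9, nat_lit 6, nat_lit 8, nat_lit 1, nat_lit 9, nat_lit 3, nat_lit 0, nat_lit 8, nat_lit 3, nat_lit 6, nat_lit 7, nat_lit 2, nat_lit 6, nat_lit 2])))))
 (.node (nat_lit 0x929a3491eaa8dd4) (.node (nat_lit 0x92986340c0603a0) (.leaf ((nat_lit 0), [nat_lit 6, nat_lit 9, nat_lit 2, nat_lit 1, nat_lit 9, nat_lit 8, nat_lit 6, nat_lit 2, nat_lit 8, nat_lit 6, nat_lit 3, nat_lit 4, nat_lit 7, nat_lit 3, nat_lit 6, nat_lit 5, nat_lit 4, nat_lit 1])) (.leaf ((nat_lit 0), [nat_lit 9, nat_lit 6, nat_lit 4, nat_lit 9, nat_lit 0, nat_lit 8, nat_lit 4, nat_lit 2, nat_lit 2, nat_lit 6, nat_lit 5, nat_lit 4, nat_lit 2, nat_lit 1]))) (.node (nat_lit 0x929a911e90609a0) (.leaf ((nat_lit 0), [nat_lit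 0, nat_lit 7, nat_lit 0, nat_lit 9, nat_lit 1, nat_lit 9, nat_lit 8, nat_lit 1, nat_lit 7, nat_lit 8, nat_lit 5, nat_lit 4, nat_lit 7, nat_lit 5, nat_lit 3, nat_lit 3])) (.node (nat_lit 0x929c620ba81e418) (.leaf ((nat_lit 0), [nat_lit 3, nat_lit 9, nat_lit 6, nat_lit 3, nat_lit 1, nat_lit 9, nat_lit 3, nat_lit 6, nat_lit 1, nat_lit 7, nat_lit 5, nat_lit 3, nat_lit 6, nat_lit 5, nat_lit 2, nat_lit 4, nat_lit 1])) (.leaf ((nat_lit 0), [nat_lit 9, nat_lit 2, nat_lit 1, nat_lit 9, nat_lit 7, nat_lit 8, nat_lit 0, nat_lit 7, nat_lit 3, nat_lit 4, nat_lit 6, nat_lit 3, nat_lit 0]))))))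
 (.node (nat_lit 0x92a85ed1e202cd8) (.node (nat_lit 0x92a402f5bcfe3a0) (.node (nat_lit 0x929eed3c4907294) (.leaf ((nat_lit 0), [nat_lit 6, nat_lit 9, nat_lit 2, nat_lit 1, nat_lit 9, nat_lit 7, nat_lit 8, nat_lit 5, nat_lit 0, nat_lit 7, nat_lit 6, nat_lit 1])) (.leaf ((nat_lit 0), [nat_lit 9, nat_lit 4, nat_lit 6, nat_lit 9, nat_lit 2, nat_lit 6, nat_lit 1, nat_lit 8, nat_lit 5, nat_lit 4, nat_lit 7, nat_lit 4, nat_lit 3, nat_lit 1]))) (.node (nat_lit 0x92a460230121640) (.leaf ((nat_lit 2), [nat_lit 2, nat_lit 7, nat_lit 9, nat_lit 5, nat_lit 9, nat_lit 3, nat_lit 6, nat_lit 3, nat_lit 8, nat_lit 5, nat_lit 7, nat_lit 3, nat_lit 6, nat_lit 5, nat_lit 1])) (.node (nat_lit 0x92a68e531aa87e4) (.leaf ((nat_lit 0), [nat_lit 9, nat_lit 2, nat_lit 6, nat_lit 3, nat_lit 9, nat_lit 2, nat_lit 5, nat_lit 8, nat_lit 7, nat_lit 3, nat_lit 6, nat_lit 5, nat_lit 3, nat_lit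 1])) (.leaf ((nat_lit 0), [nat_lit 6, nat_lit 9, nat_lit 2, nat_lit 1, nat_lit 9, nat_lit 5, nat_lit 0, nat_lit 7, nat_lit 8, nat_lit 6, nat_lit 5, nat_lit 6, nat_lit 7, nat_lit 5, nat_lit 6])))))
 (.node (nat_lit 0x92a918de4301ef8) (.node (nat_lit 0x92a8bc51cba9e08) (.leaf ((nat_lit 0), [nat_lit 9, nat_lit 6, nat_lit 4, nat_lit 9, nat_lit 3, nat_lit 8, nat_lit 7, nat_lit 1, nat_lit 8, nat_lit 5, nat_lit 7, nat_lit 2, nat_lit 4, nat_lit 3, nat_lit 6, nat_lit 4, nat_lit 0])) (.leaf ((nat_lit 0), [nat_lit 3, nat_lit 3, nat_lit 9, nat_lit 0, nat_lit 9, nat_lit 2, nat_lit 8, nat_lit 7, nat_lit 2, nat_lit 4, nat_lit 3, nat_lit 6, nat_lit 3, nat_lit 3, nat_lit 1]))) (.node (nat_lit 0x92aae9d98c37054) (.leaf ((nat_lit 3), [nat_lit 8, nat_lit 1, nat_lit 8, nat_lit 4, nat_lit 7, nat_lit 4, nat_lit 2, nat_lit 2, nat_lit 6, nat_lit 4, nat_lit 2, nat_lit 0])) (.node (nat_lit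 0x92ab468c76b9274) (.leaf ((nat_lit 0), [nat_lit 9, nat_lit 6, nat_lit 4, nat_lit 9, nat_lit 5, nat_lit 7, nat_lit 0, nat_lit 8, nat_lit 5, nat_lit 7, nat_lit 5, nat_lit 0, nat_lit 7, nat_lit 4, nat_lit 2, nat_lit 6])) (.leaf ((nat_lit 0), [nat_lit 5, nat_lit 9, nat_lit 6, nat_lit 3, nat_lit 9, nat_lit 2, nat_lit 7, nat_lit 5, nat_lit 8, nat_lit 1, nat_lit 7, nat_lit 6, nat_lit 5, nat_lit 6, nat_lit 2, nat_lit 0]))))))))
 (.node (nat_lit 0x92d1c7e250ea9e4) (.node (nat_lit 0x92c285f2aa1e998) (.node (nat_lit 0x92b6e63acd8d020) (.node (nat_lit 0x92b45b91ffd80f8) (.node (nat_lit 0x92b3fe9371ef754) (.leaf ((nat_lit 0), [nat_lit 5, nat_lit 9, nat_lit 6, nat_lit 3, nat_lit 9, nat_lit 7, nat_lit 2, nat_lit 1, nat_lit 8, nat_lit 3, nat_lit 4, nat_lit 7, nat_lit 4, nat_lit 1])) (.leaf ((nat_lit 0), [nat_lit 9, nat_lit 6, nat_lit 8, nat_lit 1, nat_lit 9, nat_lit 1, nat_lit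 8, nat_lit 6, nat_lit 5, nat_lit 7, nat_lit 2, nat_lit 4, nat_lit 6, nat_lit 2]))) (.node (nat_lit 0x92b4b8e2d73c8c8) (.leaf ((nat_lit 0), [nat_lit 6, nat_lit 9, nat_lit 2, nat_lit 1, nat_lit 9, nat_lit 7, nat_lit 8, nat_lit 6, nat_lit 5, nat_lit 7, nat_lit 3, nat_lit 6, nat_lit 5])) (.node (nat_lit 0x92b689c0d75e950) (.leaf ((nat_lit 0), [nat_lit 9, nat_lit 6, nat_lit 4, nat_lit 9, nat_lit 0, nat_lit 7, nat_lit 8, nat_lit 4, nat_lit 0, nat_lit 7, nat_lit 6, nat_lit 2, nat_lit 4, nat_lit 6, nat_lit 5])) (.leaf ((nat_lit 0), [nat_lit 9, nat_lit 4, nat_lit 6, nat_lit 9, nat_lit 1, nat_lit 8, nat_lit 7, nat_lit 1, nat_lit 8, nat_lit 5, nat_lit 3, nat_lit 6])))))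
 (.node (nat_lit 0x92b85ac3da60064) (.node (nat_lit 0x92b7fd308955e34) (.leaf ((nat_lit 0), [nat_lit 0, nat_lit 7, nat_lit 0, nat_lit 9, nat_lit 1, nat_lit 9, nat_lit 5, nat_lit 0, nat_lit 7, nat_lit 8, nat_lit 6, nat_lit 5, nat_lit 3, nat_lit 3, nat_lit 1])) (.leaf ((nat_lit 0), [nat_lit 3, nat_lit 9, nat_lit 6, nat_lit 3, nat_lit 1, nat_lit 9, nat_lit 5, nat_lit 7, nat_lit 5, nat_lit 1, nat_lit 7, nat_lit 4, nat_lit 6, nat_lit 5, nat_lit 4, nat_lit 3, nat_lit 3, nat_lit 3]))) (.node (nat_lit 0x92ba887183c5940) (.leaf ((nat_lit 2), [nat_lit 9, nat_lit 4, nat_lit 6, nat_lit 9, nat_lit 8, nat_lit 6, nat_lit 3, nat_lit 8, nat_lit 6, nat_lit 4, nat_lit 3, nat_lit 6, nat_lit 5, nat_lit 1])) (.node (nat_lit 0x92bae52bcc16f98) (.leaf ((nat_lit 0), [nat_lit 9, nat_lit 2, nat_lit 1, nat_lit 9, nat_lit 4, nat_lit 0, nat_lit 7, nat_lit 8, nat_lit 6, nat_lit 2, nat_lit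 4, nat_lit 7, nat_lit 4, nat_lit 3, nat_lit 1])) (.leaf ((nat_lit 0), [nat_lit 9, nat_lit 2, nat_lit 1, nat_lit 9, nat_lit 4, nat_lit 7, nat_lit 8, nat_lit 2, nat_lit 4, nat_lit 7, nat_lit 4, nat_lit 3, nat_lit 3, nat_lit 6, nat_lit 5, nat_lit 2, nat_lit 1]))))))
 (.node (nat_lit 0x92c6e1fbb961840) (.node (nat_lit 0x92c33fe166435a0) (.node (nat_lit 0x92c2e365d22cd88) (.leaf ((nat_lit 0), [nat_lit 9, nat_lit 6, nat_lit 8, nat_lit 1, nat_lit 9, nat_lit 3, nat_lit 7, nat_lit 8, nat_lit 6, nat_lit 5, nat_lit 6, nat_lit 7, nat_lit 4, nat_lit 6, nat_lit 2, nat_lit 1])) (.leaf ((nat_lit 5), [nat_lit 3, nat_lit 3, nat_lit 9, nat_lit 0, nat_lit 9, nat_lit 5, nat_lit 0, nat_lit 8, nat_lit 5, nat_lit 6, nat_lit 5, nat_lit 3, nat_lit 6, nat_lit 4, nat_lit 2, nat_lit 0]))) (.node (nat_lit 0x92c39d2b3b7f780) (.leaf ((nat_lit 0), [nat_lit 9, nat_lit 2, nat_lit 1, nat_lit 9,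 nat_lit 1, nat_lit 7, nat_lit 5, nat_lit 8, nat_lit 7, nat_lit 5, nat_lit 6, nat_lit 5, nat_lit 4, nat_lit 1])) (.node (nat_lit 0x92c56e5e651bd24) (.leaf ((nat_lit 0), [nat_lit 2, nat_lit 7, nat_lit 9, nat_lit 5, nat_lit 9, nat_lit 3, nat_lit 1, nat_lit 8, nat_lit 7, nat_lit 6, nat_lit 5, nat_lit 3, nat_lit 4])) (.leaf ((nat_lit 0), [nat_lit 9, nat_lit 4, nat_lit 6, nat_lit 9, nat_lit 4, nat_lit 8, nat_lit 1, nat_lit 8, nat_lit 1, nat_lit 7, nat_lit 5, nat_lit 3, nat_lit 1])))))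
 (.node (nat_lit 0x92c96d43b604548) (.node (nat_lit 0x92c73ed208c5620) (.leaf ((nat_lit 0), [nat_lit 9, nat_lit 2, nat_lit 6, nat_lit 3, nat_lit 9, nat_lit 3, nat_lit 6, nat_lit 8, nat_lit 4, nat_lit 7, nat_lit 6, nat_lit 4, nat_lit 2, nat_lit 6, nat_lit 5, nat_lit 2])) (.leaf ((nat_lit 0), [nat_lit 9, nat_lit 6, nat_lit 8, nat_lit 1, nat_lit 9, nat_lit 1, nat_lit 8, nat_lit 5, nat_lit 7, nat_lit 6, nat_lit 5]))) (.node (nat_lit 0x92c9c9fe2bdd754) (.leaf ((nat_lit 0), [nat_lit 8, nat_lit 0, nat_lit 9, nat_lit 1, nat_lit 9, nat_lit 8, nat_lit 1, nat_lit 8, nat_lit 0, nat_lit 7, nat_lit 2, nat_lit 4, nat_lit 3, nat_lit 6, nat_lit 5, nat_lit 3, nat_lit 3])) (.node (nat_lit 0x92d16ae41f0a210) (.leaf ((nat_lit 0), [nat_lit 6, nat_lit 9, nat_lit 2, nat_lit 1, nat_lit 9, nat_lit 1, nat_lit 7, nat_lit 8, nat_lit 6, nat_lit 5, nat_lit 7, nat_lit 3, nat_lit 3, nat_lit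 6, nat_lit 5, nat_lit 4])) (.leaf ((nat_lit 3), [nat_lit 4, nat_lit 8, nat_lit 0, nat_lit 8, nat_lit 6, nat_lit 7, nat_lit 4, nat_lit 3, nat_lit 6, nat_lit 2, nat_lit 4, nat_lit 1])))))))
 (.node (nat_lit 0x92e27d362a160d0) (.node (nat_lit 0x92d79777194d154) (.node (nat_lit 0x92d3f5a94f8e1f8) (.node (nat_lit 0x92d224768244e34) (.leaf ((nat_lit 0), [nat_lit 9, nat_lit 4, nat_lit 6, nat_lit 9, nat_lit 5, nat_lit 2, nat_lit 8, nat_lit 7, nat_lit 2, nat_lit 4, nat_lit 7, nat_lit 6, nat_lit 5, nat_lit 3, nat_lit 1])) (.leaf ((nat_lit 0), [nat_lit 5, nat_lit 9, nat_lit 6, nat_lit 3, nat_lit 9, nat_lit 4, nat_lit 8, nat_lit 6, nat_lit 3, nat_lit 8, nat_lit 5, nat_lit 7, nat_lit 6, nat_lit 4, nat_lit 2]))) (.node (nat_lit 0x92d45249e6a4798) (.leaf ((nat_lit 0), [nat_lit 5, nat_lit 9, nat_lit 6, nat_lit 3, nat_lit 9, nat_lit 6, nat_lit 2, nat_lit 1, nat_lit 8, nat_lit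 6, nat_lit 7, nat_lit 5, nat_lit 3, nat_lit 6, nat_lit 5, nat_lit 3, nat_lit 3])) (.node (nat_lit 0x92d569949d7d6b8) (.leaf ((nat_lit 0), [nat_lit 0, nat_lit 7, nat_lit 0, nat_lit 9, nat_lit 1, nat_lit 9, nat_lit 7, nat_lit 8, nat_lit 1, nat_lit 8, nat_lit 5, nat_lit 7, nat_lit 5, nat_lit 0, nat_lit 7, nat_lit 5, nat_lit 6, nat_lit 2])) (.leaf ((nat_lit 0), [nat_lit 9, nat_lit 6, nat_lit 8, nat_lit 1, nat_lit 9, nat_lit 8, nat_lit 4, nat_lit 6, nat_lit 8, nat_lit 5, nat_lit 6, nat_lit 7, nat_lit 3, nat_lit 4, nat_lit 6])))))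
 (.node (nat_lit 0x92d851bdded5150) (.node (nat_lit 0x92d7f43f3723bf4) (.leaf ((nat_lit 0), [nat_lit 5, nat_lit 9, nat_lit 6, nat_lit 3, nat_lit 9, nat_lit 5, nat_lit 8, nat_lit 7, nat_lit 1, nat_lit 7, nat_lit 3, nat_lit 4, nat_lit 3, nat_lit 3, nat_lit 6, nat_lit 2, nat_lit 0])) (.leaf ((nat_lit 0), [nat_lit 2, nat_lit 7, nat_lit 9, nat_lit 5, nat_lit 9, nat_lit 2, nat_lit 5, nat_lit 8, nat_lit 7, nat_lit 1, nat_lit 7, nat_lit 2, nat_lit 4, nat_lit 6, nat_lit 4, nat_lit 1]))) (.node (nat_lit 0x92e04ec676d1df4) (.leaf ((nat_lit 0), [nat_lit 9, nat_lit 4, nat_lit 6, nat_lit 9, nat_lit 0, nat_lit 8, nat_lit 7, nat_lit 0, nat_lit 7, nat_lit 3, nat_lit 6, nat_lit 5, nat_lit 2, nat_lit 1])) (.node (nat_lit 0x92e0ac030084738) (.leaf ((nat_lit 0), [nat_lit 9, nat_lit 6, nat_lit 8, nat_lit 1, nat_lit 9, nat_lit 1, nat_lit 8, nat_lit 5, nat_lit 6, nat_lit 7, nat_lit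 2, nat_lit 4, nat_lit 6, nat_lit 2])) (.leaf ((nat_lit 0), [nat_lit 9, nat_lit 4, nat_lit 6, nat_lit 9, nat_lit 3, nat_lit 8, nat_lit 6, nat_lit 2, nat_lit 4, nat_lit 7, nat_lit 6, nat_lit 3, nat_lit 1]))))))
 (.node (nat_lit 0x92e736241651f90) (.node (nat_lit 0x92e44e120233ed4) (.node (nat_lit 0x92e2d9f3ade1680) (.leaf ((nat_lit 0), [nat_lit 2, nat_lit 7, nat_lit 9, nat_lit 5, nat_lit 9, nat_lit 2, nat_lit 1, nat_lit 8, nat_lit 7, nat_lit 0, nat_lit 7, nat_lit 5, nat_lit 6, nat_lit 2, nat_lit 4, nat_lit 0])) (.leaf ((nat_lit 0), [nat_lit 8, nat_lit 0, nat_lit 9, nat_lit 1, nat_lit 9, nat_lit 5, nat_lit 8, nat_lit 0, nat_lit 8, nat_lit 5, nat_lit 7, nat_lit 6, nat_lit 5, nat_lit 6, nat_lit 3, nat_lit 3]))) (.node (nat_lit 0x92e4aab5a731934) (.leaf ((nat_lit 0), [nat_lit 3, nat_lit 9, nat_lit 6, nat_lit 3, nat_lit 1, nat_lit 9, nat_lit 6, nat_lit 2, nat_lit 1,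 nat_lit 8, nat_lit 4, nat_lit 1, nat_lit 7, nat_lit 6, nat_lit 5, nat_lit 4, nat_lit 2, nat_lit 2])) (.node (nat_lit 0x92e6d8bbe3eb160) (.leaf ((nat_lit 2), [nat_lit 6, nat_lit 9, nat_lit 2, nat_lit 1, nat_lit 9, nat_lit 3, nat_lit 1, nat_lit 8, nat_lit 4, nat_lit 2, nat_lit 2, nat_lit 6])) (.leaf ((nat_lit 0), [nat_lit 9, nat_lit 6, nat_lit 4, nat_lit 9, nat_lit 0, nat_lit 8, nat_lit 7, nat_lit 3, nat_lit 4, nat_lit 7, nat_lit 6, nat_lit 4, nat_lit 3, nat_lit 6, nat_lit 0])))))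
 (.node (nat_lit 0x92eed6d4231cfc8) (.node (nat_lit 0x92e792deba3f6b8) (.leaf ((nat_lit 0), [nat_lit 5, nat_lit 9, nat_lit 6, nat_lit 3, nat_lit 9, nat_lit 8, nat_lit 2, nat_lit 5, nat_lit 8, nat_lit 3, nat_lit 4, nat_lit 6, nat_lit 4, nat_lit 2, nat_lit 2, nat_lit 0])) (.leaf ((nat_lit 0), [nat_lit 5, nat_lit 9, nat_lit 6, nat_lit 3, nat_lit 9, nat_lit 4, nat_lit 3, nat_lit 8, nat_lit 5, nat_lit 6, nat_lit 7, nat_lit 5, nat_lit 4, nat_lit 3]))) (.node (nat_lit 0x92ef3398d6ae378) (.leaf ((nat_lit 0), [nat_lit 9, nat_lit 6, nat_lit 8, nat_lit 1, nat_lit 9, nat_lit 7, nat_lit 1, nat_lit 7, nat_lit 8, nat_lit 7, nat_lit 2, nat_lit 4, nat_lit 7, nat_lit 2, nat_lit 4, nat_lit 2, nat_lit 1])) (.node (nat_lit 0x92ef904b65286a0) (.leaf ((nat_lit 5), [nat_lit 5, nat_lit 9, nat_lit 6, nat_lit 3, nat_lit 9, nat_lit 1, nat_lit 8, nat_lit 6, nat_lit 1, nat_lit 8, nat_lit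 5, nat_lit 0, nat_lit 7, nat_lit 6, nat_lit 5, nat_lit 6, nat_lit 4, nat_lit 2])) (.leaf ((nat_lit 0), [nat_lit 6, nat_lit 9, nat_lit 2, nat_lit 1, nat_lit 9, nat_lit 7, nat_lit 5, nat_lit 8, nat_lit 7, nat_lit 5, nat_lit 6, nat_lit 2, nat_lit 2]))))))))))
 (.node (nat_lit 0x93f71c08b088a4c) (.node (nat_lit 0x933038b76dcb690) (.node (nat_lit 0x9312cc9de91de88) (.node (nat_lit 0x930444f5635ffd4) (.node (nat_lit 0x92f5bdb73a91724) (.node (nat_lit 0x92f332dd32a0990) (.node (nat_lit 0x92f21b8169f0914) (.leaf ((nat_lit 0), [nat_lit 9, nat_lit 2, nat_lit 1, nat_lit 9, nat_lit 7, nat_lit 5, nat_lit 8, nat_lit 3, nat_lit 6, nat_lit 7, nat_lit 6, nat_lit 5, nat_lit 6, nat_lit 4, nat_lit 3, nat_lit 3, nat_lit 3])) (.leaf ((nat_lit 0), [nat_lit 8, nat_lit 0, nat_lit 9, nat_lit 1, nat_lit 9, nat_lit 6, nat_lit 1, nat_lit 8, nat_lit 2, nat_lit 4, nat_lit 3, nat_lit 6, nat_lit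 5, nat_lit 3, nat_lit 1]))) (.node (nat_lit 0x92f38f880703140) (.leaf ((nat_lit 0), [nat_lit 9, nat_lit 2, nat_lit 6, nat_lit 3, nat_lit 9, nat_lit 0, nat_lit 8, nat_lit 4, nat_lit 1, nat_lit 7, nat_lit 6, nat_lit 4, nat_lit 2, nat_lit 6, nat_lit 4, nat_lit 2, nat_lit 2, nat_lit 0])) (.node (nat_lit 0x92f56038c0e9ad8) (.leaf ((nat_lit 0), [nat_lit 9, nat_lit 6, nat_lit 8, nat_lit 1, nat_lit 9, nat_lit 8, nat_lit 5, nat_lit 7, nat_lit 8, nat_lit 3, nat_lit 6, nat_lit 2, nat_lit 4, nat_lit 3, nat_lit 0])) (.leaf ((nat_lit 0), [nat_lit 9, nat_lit 4, nat_lit 6, nat_lit 9, nat_lit 0, nat_lit 7, nat_lit 8, nat_lit 4, nat_lit 7, nat_lit 4, nat_lit 2, nat_lit 2, nat_lit 6, nat_lit 3, nat_lit 3, nat_lit 3])))))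
 (.node (nat_lit 0x92fe185add59fa4) (.node (nat_lit 0x92fdbb17238b800) (.leaf ((nat_lit 0), [nat_lit 2, nat_lit 7, nat_lit 9, nat_lit 5, nat_lit 9, nat_lit 2, nat_lit 1, nat_lit 8, nat_lit 7, nat_lit 5, nat_lit 7, nat_lit 5, nat_lit 6, nat_lit 5, nat_lit 3, nat_lit 6, nat_lit 5, nat_lit 4, nat_lit 2])) (.leaf ((nat_lit 3), [nat_lit 6, nat_lit 1, nat_lit 8, nat_lit 6, nat_lit 0, nat_lit 7, nat_lit 3, nat_lit 3, nat_lit 6, nat_lit 4, nat_lit 2, nat_lit 1]))) (.node (nat_lit 0x9300a2c3e308358) (.leaf ((nat_lit 0), [nat_lit 9, nat_lit 2, nat_lit 1, nat_lit 9, nat_lit 7, nat_lit 8, nat_lit 5, nat_lit 6, nat_lit 7, nat_lit 6, nat_lit 3, nat_lit 3, nat_lit 1])) (.node (nat_lit 0x9301ba4a9c1c288) (.leaf ((nat_lit 0), [nat_lit 9, nat_lit 2, nat_lit 1, nat_lit 9, nat_lit 4, nat_lit 7, nat_lit 6, nat_lit 8, nat_lit 5, nat_lit 6, nat_lit 7, nat_lit 6, nat_lit 4, nat_lit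 3, nat_lit 0])) (.leaf ((nat_lit 0), [nat_lit 9, nat_lit 6, nat_lit 8, nat_lit 1, nat_lit 9, nat_lit 7, nat_lit 1, nat_lit 7, nat_lit 8, nat_lit 7, nat_lit 5, nat_lit 1, nat_lit 7, nat_lit 4, nat_lit 2, nat_lit 2, nat_lit 6, nat_lit 2]))))))
 (.node (nat_lit 0x930f2a91f51f9c0) (.node (nat_lit 0x930c430251234a4) (.node (nat_lit 0x9304a1afaba6a20) (.leaf ((nat_lit 0), [nat_lit 0, nat_lit 7, nat_lit 0, nat_lit 9, nat_lit 1, nat_lit 9, nat_lit 2, nat_lit 8, nat_lit 2, nat_lit 2, nat_lit 6, nat_lit 5, nat_lit 3, nat_lit 4, nat_lit 0])) (.leaf ((nat_lit 0), [nat_lit 9, nat_lit 6, nat_lit 4, nat_lit 9, nat_lit 0, nat_lit 8, nat_lit 4, nat_lit 0, nat_lit 7, nat_lit 6, nat_lit 5, nat_lit 6, nat_lit 3]))) (.node (nat_lit 0x930c9f7d8952798) (.leaf ((nat_lit 0), [nat_lit 9, nat_lit 6, nat_lit 8, nat_lit 1, nat_lit 9, nat_lit 7, nat_lit 1, nat_lit 8, nat_lit 4, nat_lit 2,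 nat_lit 6, nat_lit 5, nat_lit 4, nat_lit 1])) (.node (nat_lit 0x930cfcfd72f98c8) (.leaf ((nat_lit 0), [nat_lit 8, nat_lit 0, nat_lit 9, nat_lit 1, nat_lit 9, nat_lit 5, nat_lit 0, nat_lit 8, nat_lit 6, nat_lit 7, nat_lit 2, nat_lit 4, nat_lit 3, nat_lit 6, nat_lit 4, nat_lit 1])) (.leaf ((nat_lit 0), [nat_lit 2, nat_lit 7, nat_lit 9, nat_lit 5, nat_lit 9, nat_lit 0, nat_lit 8, nat_lit 3, nat_lit 4, nat_lit 7, nat_lit 2, nat_lit 4, nat_lit 6, nat_lit 3, nat_lit 4, nat_lit 0])))))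
 (.node (nat_lit 0x93109e6e8785f94) (.node (nat_lit 0x931041b52599324) (.leaf ((nat_lit 0), [nat_lit 6, nat_lit 9, nat_lit 2, nat_lit 1, nat_lit 9, nat_lit 4, nat_lit 7, nat_lit 8, nat_lit 5, nat_lit 1, nat_lit 7, nat_lit 6, nat_lit 5, nat_lit 3, nat_lit 6, nat_lit 5, nat_lit 3, nat_lit 0])) (.leaf ((nat_lit 0), [nat_lit 3, nat_lit 9, nat_lit 6, nat_lit 3, nat_lit 1, nat_lit 9, nat_lit 4, nat_lit 7, nat_lit 8, nat_lit 5, nat_lit 6, nat_lit 2, nat_lit 4, nat_lit 3]))) (.node (nat_lit 0x931212225177120) (.leaf ((nat_lit 2), [nat_lit 9, nat_lit 2, nat_lit 1, nat_lit 9, nat_lit 4, nat_lit 3, nat_lit 8, nat_lit 7, nat_lit 0, nat_lit 7, nat_lit 2, nat_lit 2, nat_lit 6, nat_lit 3, nat_lit 4, nat_lit 0])) (.node (nat_lit 0x93126f213b5cad8) (.leaf ((nat_lit 0), [nat_lit 3, nat_lit 3, nat_lit 9, nat_lit 0, nat_lit 9, nat_lit 5, nat_lit 8, nat_lit 0, nat_lit 8, nat_lit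 7, nat_lit 1, nat_lit 7, nat_lit 4, nat_lit 6, nat_lit 4, nat_lit 0])) (.leaf ((nat_lit 0), [nat_lit 0, nat_lit 7, nat_lit 0, nat_lit 9, nat_lit 1, nat_lit 9, nat_lit 3, nat_lit 5, nat_lit 6, nat_lit 8, nat_lit 4, nat_lit 0, nat_lit 7, nat_lit 3, nat_lit 1])))))))
 (.node (nat_lit 0x9321b0ee632a478) (.node (nat_lit 0x931db1dd69e3934) (.node (nat_lit 0x931b27107f937d8) (.node (nat_lit 0x931aca360e510b8) (.leaf ((nat_lit 0), [nat_lit 3, nat_lit 3, nat_lit 9, nat_lit 0, nat_lit 9, nat_lit 2, nat_lit 8, nat_lit 6, nat_lit 0, nat_lit 7, nat_lit 2, nat_lit 4, nat_lit 6, nat_lit 5])) (.leaf ((nat_lit 0), [nat_lit 9, nat_lit 6, nat_lit 8, nat_lit 1, nat_lit 9, nat_lit 8, nat_lit 4, nat_lit 6, nat_lit 8, nat_lit 7, nat_lit 2, nat_lit 6, nat_lit 3, nat_lit 4, nat_lit 1]))) (.node (nat_lit 0x931b84917d27010) (.leaf ((nat_lit 5), [nat_lit 9, nat_lit 6, nat_lit 4, nat_lit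 9, nat_lit 2, nat_lit 2, nat_lit 8, nat_lit 6, nat_lit 1, nat_lit 7, nat_lit 6, nat_lit 5, nat_lit 3, nat_lit 6, nat_lit 2, nat_lit 1])) (.node (nat_lit 0x931be14d3500e40) (.leaf ((nat_lit 0), [nat_lit 0, nat_lit 7, nat_lit 0, nat_lit 9, nat_lit 1, nat_lit 9, nat_lit 4, nat_lit 7, nat_lit 8, nat_lit 3, nat_lit 6, nat_lit 7, nat_lit 4, nat_lit 2, nat_lit 6, nat_lit 3, nat_lit 1])) (.leaf ((nat_lit 0), [nat_lit 5, nat_lit 9, nat_lit 6, nat_lit 3, nat_lit 9, nat_lit 5, nat_lit 8, nat_lit 7, nat_lit 5, nat_lit 1, nat_lit 7, nat_lit 6, nat_lit 3, nat_lit 3, nat_lit 6, nat_lit 4, nat_lit 2])))))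
 (.node (nat_lit 0x931f25bc2438ae0) (.node (nat_lit 0x931e0f7bde939e4) (.leaf ((nat_lit 0), [nat_lit 9, nat_lit 6, nat_lit 4, nat_lit 9, nat_lit 5, nat_lit 6, nat_lit 8, nat_lit 6, nat_lit 4, nat_lit 3, nat_lit 6, nat_lit 4])) (.leaf ((nat_lit 0), [nat_lit 3, nat_lit 3, nat_lit 9, nat_lit 0, nat_lit 9, nat_lit 8, nat_lit 7, nat_lit 1, nat_lit 8, nat_lit 6, nat_lit 2, nat_lit 4, nat_lit 7, nat_lit 5, nat_lit 2, nat_lit 4, nat_lit 3]))) (.node (nat_lit 0x931f8340e7b8850) (.leaf ((nat_lit 0), [nat_lit 9, nat_lit 2, nat_lit 6, nat_lit 3, nat_lit 9, nat_lit 1, nat_lit 7, nat_lit 8, nat_lit 5, nat_lit 1, nat_lit 7, nat_lit 2, nat_lit 4, nat_lit 3, nat_lit 6, nat_lit 5])) (.node (nat_lit 0x9321542da379148) (.leaf ((nat_lit 0), [nat_lit 9, nat_lit 6, nat_lit 8, nat_lit 1, nat_lit 9, nat_lit 2, nat_lit 6, nat_lit 3, nat_lit 8, nat_lit 6, nat_lit 7, nat_lit 4, nat_lit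 2, nat_lit 1])) (.leaf ((nat_lit 0), [nat_lit 2, nat_lit 7, nat_lit 9, nat_lit 5, nat_lit 9, nat_lit 6, nat_lit 3, nat_lit 8, nat_lit 1, nat_lit 7, nat_lit 4, nat_lit 3, nat_lit 6, nat_lit 5]))))))
 (.node (nat_lit 0x932a688a4a391b4) (.node (nat_lit 0x93226aa5f74dbf4) (.node (nat_lit 0x93220de64b32c94) (.leaf ((nat_lit 0), [nat_lit 9, nat_lit 6, nat_lit 4, nat_lit 9, nat_lit 1, nat_lit 7, nat_lit 5, nat_lit 8, nat_lit 5, nat_lit 7, nat_lit 6, nat_lit 5, nat_lit 4, nat_lit 0])) (.leaf ((nat_lit 0), [nat_lit 8, nat_lit 0, nat_lit 9, nat_lit 1, nat_lit 9, nat_lit 8, nat_lit 1, nat_lit 8, nat_lit 5, nat_lit 7, nat_lit 4, nat_lit 2, nat_lit 6, nat_lit 5, nat_lit 3]))) (.node (nat_lit 0x9329ae8ecc70c60) (.leaf ((nat_lit 0), [nat_lit 0, nat_lit 7, nat_lit 0, nat_lit 9, nat_lit 1, nat_lit 9, nat_lit 3, nat_lit 0, nat_lit 8, nat_lit 0, nat_lit 7, nat_lit 4, nat_lit 3,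 nat_lit 6, nat_lit 4, nat_lit 3, nat_lit 0])) (.node (nat_lit 0x932a0bce91fe2d4) (.leaf ((nat_lit 3), [nat_lit 7, nat_lit 8, nat_lit 7, nat_lit 3, nat_lit 4, nat_lit 7, nat_lit 2, nat_lit 2, nat_lit 6])) (.leaf ((nat_lit 0), [nat_lit 3, nat_lit 3, nat_lit 9, nat_lit 0, nat_lit 9, nat_lit 6, nat_lit 1, nat_lit 8, nat_lit 7, nat_lit 0, nat_lit 7, nat_lit 3, nat_lit 4, nat_lit 6, nat_lit 3, nat_lit 4, nat_lit 3])))))
 (.node (nat_lit 0x932c39fd3b9bec8) (.node (nat_lit 0x932bdcbf13a04f8) (.leaf ((nat_lit 0), [nat_lit 9, nat_lit 6, nat_lit 4, nat_lit 9, nat_lit 0, nat_lit 8, nat_lit 5, nat_lit 7, nat_lit 3, nat_lit 3, nat_lit 3, nat_lit 6, nat_lit 4, nat_lit 2])) (.leaf ((nat_lit 0), [nat_lit 6, nat_lit 9, nat_lit 2, nat_lit 1, nat_lit 9, nat_lit 7, nat_lit 6, nat_lit 8, nat_lit 6, nat_lit 5, nat_lit 6, nat_lit 7, nat_lit 6, nat_lit 2, nat_lit 2, nat_lit 6, nat_lit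 5, nat_lit 0]))) (.node (nat_lit 0x932dad3f4b04698) (.leaf ((nat_lit 0), [nat_lit 3, nat_lit 3, nat_lit 9, nat_lit 0, nat_lit 9, nat_lit 2, nat_lit 8, nat_lit 5, nat_lit 6, nat_lit 7, nat_lit 5, nat_lit 4, nat_lit 3, nat_lit 3, nat_lit 0])) (.node (nat_lit 0x932fdbb1262c224) (.leaf ((nat_lit 0), [nat_lit 9, nat_lit 6, nat_lit 8, nat_lit 1, nat_lit 9, nat_lit 7, nat_lit 5, nat_lit 6, nat_lit 8, nat_lit 3, nat_lit 4, nat_lit 7, nat_lit 5, nat_lit 6, nat_lit 3, nat_lit 4])) (.leaf ((nat_lit 0), [nat_lit 6, nat_lit 9, nat_lit 2, nat_lit 1, nat_lit 9, nat_lit 4, nat_lit 0, nat_lit 7, nat_lit 8, nat_lit 7, nat_lit 5, nat_lit 4, nat_lit 3, nat_lit 3, nat_lit 3, nat_lit 0]))))))))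
 (.node (nat_lit 0x93873be2427fd20) (.node (nat_lit 0x935aeb2c1643940) (.node (nat_lit 0x934807e39bd0680) (.node (nat_lit 0x933a3aa14c666cc) (.node (nat_lit 0x93309568b9f9940) (.leaf ((nat_lit 0), [nat_lit 3, nat_lit 3, nat_lit 9, nat_lit 0, nat_lit 9, nat_lit 3, nat_lit 8, nat_lit 6, nat_lit 1, nat_lit 8, nat_lit 5, nat_lit 7, nat_lit 2, nat_lit 4, nat_lit 3, nat_lit 0])) (.leaf ((nat_lit 0), [nat_lit 8, nat_lit 0, nat_lit 9, nat_lit 1, nat_lit 9, nat_lit 6, nat_lit 2, nat_lit 8, nat_lit 7, nat_lit 5, nat_lit 1, nat_lit 7, nat_lit 6, nat_lit 4, nat_lit 0]))) (.node (nat_lit 0x933cc58a0fe034c) (.leaf ((nat_lit 0), [nat_lit 6, nat_lit 8, nat_lit 1, nat_lit 8, nat_lit 0, nat_lit 7, nat_lit 3, nat_lit 3, nat_lit 3, nat_lit 6, nat_lit 4])) (.node (nat_lit 0x933e396ee603d0c) (.leaf ((nat_lit 2), [nat_lit 9, nat_lit 4, nat_lit 6, nat_lit 9, nat_lit 8, nat_lit 2, nat_lit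 1, nat_lit 8, nat_lit 6, nat_lit 1, nat_lit 7, nat_lit 4, nat_lit 3, nat_lit 6, nat_lit 5, nat_lit 3, nat_lit 4])) (.leaf ((nat_lit 3), [nat_lit 2, nat_lit 7, nat_lit 9, nat_lit 5, nat_lit 9, nat_lit 7, nat_lit 8, nat_lit 7, nat_lit 0, nat_lit 8, nat_lit 6, nat_lit 7, nat_lit 5, nat_lit 6, nat_lit 5, nat_lit 3, nat_lit 0])))))
 (.node (nat_lit 0x9356ecf819af0fc) (.node (nat_lit 0x934c0752303b17c) (.leaf ((nat_lit 0), [nat_lit 6, nat_lit 1, nat_lit 8, nat_lit 5, nat_lit 6, nat_lit 7, nat_lit 4, nat_lit 6, nat_lit 2, nat_lit 2])) (.leaf ((nat_lit 2), [nat_lit 9, nat_lit 4, nat_lit 6, nat_lit 9, nat_lit 1, nat_lit 8, nat_lit 6, nat_lit 5, nat_lit 0, nat_lit 7, nat_lit 4, nat_lit 3, nat_lit 6, nat_lit 5, nat_lit 1]))) (.node (nat_lit 0x9358bdc958431bc) (.leaf ((nat_lit 0), [nat_lit 8, nat_lit 6, nat_lit 1, nat_lit 8, nat_lit 7, nat_lit 5, nat_lit 0, nat_lit 7, nat_lit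 5, nat_lit 6])) (.node (nat_lit 0x93597736e6a4340) (.leaf ((nat_lit 3), [nat_lit 6, nat_lit 9, nat_lit 2, nat_lit 1, nat_lit 9, nat_lit 8, nat_lit 6, nat_lit 1, nat_lit 8, nat_lit 2, nat_lit 4, nat_lit 7, nat_lit 6, nat_lit 5, nat_lit 4, nat_lit 1])) (.leaf ((nat_lit 2), [nat_lit 9, nat_lit 4, nat_lit 6, nat_lit 9, nat_lit 2, nat_lit 5, nat_lit 8, nat_lit 5, nat_lit 7, nat_lit 5, nat_lit 7, nat_lit 2, nat_lit 2, nat_lit 6, nat_lit 3, nat_lit 4]))))))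
 (.node (nat_lit 0x9373fbde6c2fdb0) (.node (nat_lit 0x9367fee2d61b52c) (.node (nat_lit 0x9365d0da717356c) (.leaf ((nat_lit 3), [nat_lit 0, nat_lit 7, nat_lit 0, nat_lit 9, nat_lit 1, nat_lit 9, nat_lit 4, nat_lit 6, nat_lit 8, nat_lit 7, nat_lit 0, nat_lit 7, nat_lit 2, nat_lit 4, nat_lit 3, nat_lit 6])) (.leaf ((nat_lit 2), [nat_lit 9, nat_lit 8, nat_lit 2, nat_lit 1, nat_lit 9, nat_lit 5, nat_lit 8, nat_lit 6, nat_lit 0, nat_lit 7, nat_lit 3, nat_lit 4, nat_lit 6, nat_lit 5]))) (.node (nat_lit 0x9369162a233039c) (.leaf ((nat_lit 0), [nat_lit 8, nat_lit 3, nat_lit 1, nat_lit 8, nat_lit 7, nat_lit 0, nat_lit 7, nat_lit 4, nat_lit 6, nat_lit 2, nat_lit 0])) (.node (nat_lit 0x936a8a24b6a401c) (.leaf ((nat_lit 6), [nat_lit 8, nat_lit 2, nat_lit 0, nat_lit 9, nat_lit 5, nat_lit 7, nat_lit 8, nat_lit 6, nat_lit 0, nat_lit 7, nat_lit 4, nat_lit 6, nat_lit 5, nat_lit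 2, nat_lit 2, nat_lit 0])) (.leaf ((nat_lit 1), [nat_lit 6, nat_lit 9, nat_lit 2, nat_lit 1, nat_lit 9, nat_lit 6, nat_lit 3, nat_lit 1, nat_lit 8, nat_lit 7, nat_lit 5, nat_lit 6, nat_lit 7, nat_lit 2, nat_lit 4, nat_lit 2])))))
 (.node (nat_lit 0x9378572e11bdecc) (.node (nat_lit 0x9375cce28328ab0) (.leaf ((nat_lit 2), [nat_lit 9, nat_lit 0, nat_lit 7, nat_lit 2, nat_lit 9, nat_lit 5, nat_lit 2, nat_lit 8, nat_lit 1, nat_lit 7, nat_lit 3, nat_lit 3, nat_lit 6, nat_lit 4, nat_lit 2, nat_lit 2])) (.leaf ((nat_lit 0), [nat_lit 7, nat_lit 1, nat_lit 7, nat_lit 8, nat_lit 6, nat_lit 2, nat_lit 4, nat_lit 7, nat_lit 3]))) (.node (nat_lit 0x93833d2b4c2efac) (.leaf ((nat_lit 6), [nat_lit 7, nat_lit 8, nat_lit 4, nat_lit 9, nat_lit 7, nat_lit 8, nat_lit 1, nat_lit 8, nat_lit 1, nat_lit 7, nat_lit 2, nat_lit 4, nat_lit 6, nat_lit 2, nat_lit 4, nat_lit 3, nat_lit 0]))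 (.node (nat_lit 0x9385c7ecb6e35a0) (.leaf ((nat_lit 2), [nat_lit 9, nat_lit 2, nat_lit 9, nat_lit 3, nat_lit 9, nat_lit 6, nat_lit 8, nat_lit 1, nat_lit 8, nat_lit 7, nat_lit 5, nat_lit 0, nat_lit 7, nat_lit 3, nat_lit 6, nat_lit 3, nat_lit 3, nat_lit 0])) (.leaf ((nat_lit 6), [nat_lit 1, nat_lit 7, nat_lit 9, nat_lit 6, nat_lit 7, nat_lit 2, nat_lit 1, nat_lit 8, nat_lit 7, nat_lit 4, nat_lit 3, nat_lit 3, nat_lit 6, nat_lit 5, nat_lit 1])))))))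
 (.node (nat_lit 0x93bcfe81ef26830) (.node (nat_lit 0x93a5bf142fec52c) (.node (nat_lit 0x9395094aa8b5eac) (.node (nat_lit 0x93927ecec5ab31c) (.leaf ((nat_lit 1), [nat_lit 6, nat_lit 9, nat_lit 2, nat_lit 1, nat_lit 9, nat_lit 2, nat_lit 2, nat_lit 8, nat_lit 4, nat_lit 1, nat_lit 7, nat_lit 4, nat_lit 3, nat_lit 3, nat_lit 6, nat_lit 1])) (.leaf ((nat_lit 1), [nat_lit 6, nat_lit 9, nat_lit 2, nat_lit 1, nat_lit 9, nat_lit 7, nat_lit 2, nat_lit 8, nat_lit 5, nat_lit 0, nat_lit 7, nat_lit 3, nat_lit 3, nat_lit 6, nat_lit 4, nat_lit 3, nat_lit 0]))) (.node (nat_lit 0x939fef1452c7ee0) (.leaf ((nat_lit 3), [nat_lit 2, nat_lit 7, nat_lit 9, nat_lit 5, nat_lit 9, nat_lit 5, nat_lit 0, nat_lit 8, nat_lit 7, nat_lit 1, nat_lit 7, nat_lit 6, nat_lit 5, nat_lit 6, nat_lit 2, nat_lit 4, nat_lit 0])) (.node (nat_lit 0x93a44b12c8afc2c) (.leaf ((nat_lit 1), [nat_lit 2, nat_lit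 7, nat_lit 9, nat_lit 5, nat_lit 9, nat_lit 3, nat_lit 8, nat_lit 6, nat_lit 0, nat_lit 7, nat_lit 6, nat_lit 4, nat_lit 2, nat_lit 6, nat_lit 5, nat_lit 4, nat_lit 3])) (.leaf ((nat_lit 3), [nat_lit 6, nat_lit 9, nat_lit 2, nat_lit 1, nat_lit 9, nat_lit 7, nat_lit 0, nat_lit 8, nat_lit 2, nat_lit 4, nat_lit 7, nat_lit 5, nat_lit 3, nat_lit 4, nat_lit 3, nat_lit 3])))))
 (.node (nat_lit 0x93b0474e4f36d0c) (.node (nat_lit 0x93af30616126a4c) (.leaf ((nat_lit 0), [nat_lit 6, nat_lit 8, nat_lit 1, nat_lit 8, nat_lit 6, nat_lit 5, nat_lit 7, nat_lit 2, nat_lit 4, nat_lit 2, nat_lit 1])) (.leaf ((nat_lit 1), [nat_lit 2, nat_lit 7, nat_lit 9, nat_lit 5, nat_lit 9, nat_lit 7, nat_lit 8, nat_lit 7, nat_lit 1, nat_lit 7, nat_lit 6, nat_lit 2, nat_lit 2, nat_lit 6, nat_lit 3, nat_lit 3]))) (.node (nat_lit 0x93b1bbe72b86670) (.leaf ((nat_lit 1), [nat_lit 0, nat_lit 7, nat_lit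 0, nat_lit 9, nat_lit 1, nat_lit 9, nat_lit 8, nat_lit 0, nat_lit 7, nat_lit 2, nat_lit 4, nat_lit 6, nat_lit 3, nat_lit 1])) (.node (nat_lit 0x93bb8a9e5af8bb0) (.leaf ((nat_lit 3), [nat_lit 0, nat_lit 7, nat_lit 0, nat_lit 9, nat_lit 1, nat_lit 9, nat_lit 2, nat_lit 6, nat_lit 8, nat_lit 7, nat_lit 1, nat_lit 7, nat_lit 3, nat_lit 6, nat_lit 5, nat_lit 1])) (.leaf ((nat_lit 6), [nat_lit 9, nat_lit 4, nat_lit 6, nat_lit 9, nat_lit 7, nat_lit 1, nat_lit 8, nat_lit 5, nat_lit 7, nat_lit 5, nat_lit 1, nat_lit 7, nat_lit 5, nat_lit 6, nat_lit 3, nat_lit 1]))))))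
 (.node (nat_lit 0x93da0d21a60676c) (.node (nat_lit 0x93cacbd57da7aec) (.node (nat_lit 0x93c2145821f44b0) (.leaf ((nat_lit 1), [nat_lit 2, nat_lit 7, nat_lit 9, nat_lit 5, nat_lit 9, nat_lit 4, nat_lit 0, nat_lit 7, nat_lit 8, nat_lit 3, nat_lit 4, nat_lit 3, nat_lit 3, nat_lit 6, nat_lit 3, nat_lit 4, nat_lit 1])) (.leaf ((nat_lit 1), [nat_lit 2, nat_lit 7, nat_lit 9, nat_lit 5, nat_lit 9, nat_lit 7, nat_lit 5, nat_lit 8, nat_lit 4, nat_lit 7, nat_lit 5, nat_lit 3, nat_lit 6, nat_lit 5, nat_lit 3, nat_lit 4]))) (.node (nat_lit 0x93d1b268cfe966c) (.leaf ((nat_lit 6), [nat_lit 4, nat_lit 9, nat_lit 7, nat_lit 9, nat_lit 6, nat_lit 5, nat_lit 8, nat_lit 0, nat_lit 8, nat_lit 1, nat_lit 7, nat_lit 6, nat_lit 5, nat_lit 6, nat_lit 5, nat_lit 3])) (.node (nat_lit 0x93d2c940b8a396c) (.leaf ((nat_lit 1), [nat_lit 6, nat_lit 9, nat_lit 2, nat_lit 1, nat_lit 9, nat_lit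 6, nat_lit 5, nat_lit 2, nat_lit 8, nat_lit 2, nat_lit 4, nat_lit 7, nat_lit 4, nat_lit 6, nat_lit 0])) (.leaf ((nat_lit 1), [nat_lit 2, nat_lit 7, nat_lit 9, nat_lit 5, nat_lit 9, nat_lit 3, nat_lit 8, nat_lit 6, nat_lit 1, nat_lit 8, nat_lit 7, nat_lit 5, nat_lit 7, nat_lit 6, nat_lit 5])))))
 (.node (nat_lit 0x93e1adfcd12cbec) (.node (nat_lit 0x93e09706e7653ac) (.leaf ((nat_lit 6), [nat_lit 7, nat_lit 9, nat_lit 7, nat_lit 8, nat_lit 7, nat_lit 0, nat_lit 8, nat_lit 5, nat_lit 7, nat_lit 6, nat_lit 5, nat_lit 6, nat_lit 5, nat_lit 4, nat_lit 2])) (.leaf ((nat_lit 1), [nat_lit 6, nat_lit 9, nat_lit 2, nat_lit 1, nat_lit 9, nat_lit 5, nat_lit 8, nat_lit 4, nat_lit 7, nat_lit 6, nat_lit 3, nat_lit 3, nat_lit 6, nat_lit 5, nat_lit 1]))) (.node (nat_lit 0x93e7dad18d78a60) (.leaf ((nat_lit 1), [nat_lit 6, nat_lit 9, nat_lit 2, nat_lit 1, nat_lit 9, nat_lit 3, nat_lit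 8, nat_lit 6, nat_lit 1, nat_lit 8, nat_lit 7, nat_lit 5, nat_lit 7, nat_lit 5, nat_lit 2])) (.node (nat_lit 0x93ee6443d2f7400) (.leaf ((nat_lit 2), [nat_lit 8, nat_lit 2, nat_lit 6, nat_lit 3, nat_lit 8, nat_lit 2, nat_lit 4, nat_lit 6, nat_lit 5, nat_lit 3, nat_lit 4, nat_lit 3, nat_lit 1])) (.leaf ((nat_lit 0), [nat_lit 8, nat_lit 6, nat_lit 1, nat_lit 8, nat_lit 5, nat_lit 4, nat_lit 7, nat_lit 3, nat_lit 4, nat_lit 6])))))))))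
 (.node (nat_lit 0x94b515383365fb0) (.node (nat_lit 0x9452a59dc0a521c) (.node (nat_lit 0x941b123d00e7860) (.node (nat_lit 0x94082f17337c55c) (.node (nat_lit 0x93fda603af3078c) (.node (nat_lit 0x93f8ed0d517d18c) (.leaf ((nat_lit 2), [nat_lit 4, nat_lit 0, nat_lit 7, nat_lit 8, nat_lit 5, nat_lit 4, nat_lit 7, nat_lit 2, nat_lit 4, nat_lit 6, nat_lit 3, nat_lit 4, nat_lit 0])) (.leaf ((nat_lit 0), [nat_lit 6, nat_lit 8, nat_lit 6, nat_lit 7, nat_lit 4, nat_lit 2, nat_lit 2, nat_lit 6, nat_lit 4, nat_lit 0]))) (.node (nat_lit 0x93febcf998f7fcc) (.leaf ((nat_lit 0), [nat_lit 7, nat_lit 1, nat_lit 7, nat_lit 8, nat_lit 7, nat_lit 5, nat_lit 7, nat_lit 5, nat_lit 6, nat_lit 3])) (.node (nat_lit 0x94065e190a5391c) (.leaf ((nat_lit 2), [nat_lit 6, nat_lit 5, nat_lit 2, nat_lit 8, nat_lit 3, nat_lit 4, nat_lit 7, nat_lit 6, nat_lit 2, nat_lit 2, nat_lit 6, nat_lit 5,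 nat_lit 2, nat_lit 4, nat_lit 1])) (.leaf ((nat_lit 2), [nat_lit 9, nat_lit 6, nat_lit 8, nat_lit 1, nat_lit 9, nat_lit 8, nat_lit 7, nat_lit 0, nat_lit 8, nat_lit 0, nat_lit 7, nat_lit 2, nat_lit 4, nat_lit 6, nat_lit 5, nat_lit 3, nat_lit 0])))))
 (.node (nat_lit 0x9413ce07a270500) (.node (nat_lit 0x940ce7bcb8056bc) (.leaf ((nat_lit 0), [nat_lit 3, nat_lit 0, nat_lit 8, nat_lit 7, nat_lit 5, nat_lit 7, nat_lit 6, nat_lit 4, nat_lit 2, nat_lit 6, nat_lit 3, nat_lit 0])) (.leaf ((nat_lit 0), [nat_lit 6, nat_lit 1, nat_lit 8, nat_lit 3, nat_lit 3, nat_lit 6, nat_lit 4, nat_lit 3, nat_lit 3, nat_lit 1]))) (.node (nat_lit 0x94159efe11d7900) (.leaf ((nat_lit 3), [nat_lit 6, nat_lit 9, nat_lit 2, nat_lit 1, nat_lit 9, nat_lit 7, nat_lit 8, nat_lit 5, nat_lit 8, nat_lit 6, nat_lit 1, nat_lit 7, nat_lit 5, nat_lit 6, nat_lit 5, nat_lit 4, nat_lit 2, nat_lit 0])) (.node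 (nat_lit 0x9419fb2b99fe560) (.leaf ((nat_lit 2), [nat_lit 9, nat_lit 2, nat_lit 9, nat_lit 3, nat_lit 9, nat_lit 3, nat_lit 1, nat_lit 8, nat_lit 1, nat_lit 7, nat_lit 4, nat_lit 3, nat_lit 3, nat_lit 6, nat_lit 1])) (.leaf ((nat_lit 3), [nat_lit 6, nat_lit 9, nat_lit 2, nat_lit 1, nat_lit 9, nat_lit 0, nat_lit 8, nat_lit 7, nat_lit 4, nat_lit 6, nat_lit 5, nat_lit 3, nat_lit 3, nat_lit 3, nat_lit 0]))))))
 (.node (nat_lit 0x94387de2479060c) (.node (nat_lit 0x9424e0f2088f47c) (.node (nat_lit 0x94231002f6ec73c) (.leaf ((nat_lit 0), [nat_lit 7, nat_lit 0, nat_lit 8, nat_lit 4, nat_lit 2, nat_lit 2, nat_lit 6, nat_lit 4, nat_lit 3])) (.leaf ((nat_lit 3), [nat_lit 2, nat_lit 7, nat_lit 9, nat_lit 5, nat_lit 9, nat_lit 5, nat_lit 7, nat_lit 5, nat_lit 8, nat_lit 3, nat_lit 3, nat_lit 6, nat_lit 5, nat_lit 2, nat_lit 2, nat_lit 0]))) (.node (nat_lit 0x942999f0d83f0dc)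 (.leaf ((nat_lit 2), [nat_lit 6, nat_lit 9, nat_lit 2, nat_lit 1, nat_lit 9, nat_lit 5, nat_lit 8, nat_lit 2, nat_lit 1, nat_lit 8, nat_lit 6, nat_lit 5, nat_lit 6, nat_lit 7])) (.node (nat_lit 0x9432514f1eea30c) (.leaf ((nat_lit 3), [nat_lit 0, nat_lit 7, nat_lit 0, nat_lit 9, nat_lit 1, nat_lit 9, nat_lit 8, nat_lit 5, nat_lit 8, nat_lit 4, nat_lit 0, nat_lit 7, nat_lit 6, nat_lit 2, nat_lit 4, nat_lit 3, nat_lit 0])) (.leaf ((nat_lit 3), [nat_lit 0, nat_lit 7, nat_lit 0, nat_lit 9, nat_lit 1, nat_lit 9, nat_lit 2, nat_lit 8, nat_lit 5, nat_lit 6, nat_lit 7, nat_lit 2, nat_lit 4, nat_lit 3, nat_lit 6, nat_lit 3, nat_lit 4, nat_lit 0])))))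
 (.node (nat_lit 0x9443c0a0701238c) (.node (nat_lit 0x94401eaceb797cc) (.leaf ((nat_lit 3), [nat_lit 2, nat_lit 7, nat_lit 9, nat_lit 5, nat_lit 9, nat_lit 3, nat_lit 6, nat_lit 8, nat_lit 7, nat_lit 1, nat_lit 7, nat_lit 4, nat_lit 6, nat_lit 5, nat_lit 2, nat_lit 2])) (.leaf ((nat_lit 3), [nat_lit 0, nat_lit 7, nat_lit 0, nat_lit 9, nat_lit 1, nat_lit 9, nat_lit 8, nat_lit 0, nat_lit 8, nat_lit 7, nat_lit 4, nat_lit 2, nat_lit 6, nat_lit 5, nat_lit 3, nat_lit 0]))) (.node (nat_lit 0x9448d6642175acc) (.leaf ((nat_lit 0), [nat_lit 6, nat_lit 8, nat_lit 3, nat_lit 6, nat_lit 7, nat_lit 4, nat_lit 3, nat_lit 6, nat_lit 5, nat_lit 3, nat_lit 3])) (.node (nat_lit 0x944fbd9dd214c1c) (.leaf ((nat_lit 2), [nat_lit 2, nat_lit 7, nat_lit 9, nat_lit 5, nat_lit 9, nat_lit 7, nat_lit 2, nat_lit 8, nat_lit 4, nat_lit 7, nat_lit 2, nat_lit 6, nat_lit 5, nat_lit 4, nat_lit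 1])) (.leaf ((nat_lit 3), [nat_lit 6, nat_lit 9, nat_lit 2, nat_lit 1, nat_lit 9, nat_lit 8, nat_lit 7, nat_lit 0, nat_lit 7, nat_lit 4, nat_lit 3, nat_lit 3, nat_lit 6, nat_lit 3])))))))
 (.node (nat_lit 0x948297e2a6e9eb0) (.node (nat_lit 0x946c6fcfca66efc) (.node (nat_lit 0x945cd0f4fcd10a0) (.node (nat_lit 0x9456a449c131d20) (.leaf ((nat_lit 0), [nat_lit 8, nat_lit 6, nat_lit 1, nat_lit 8, nat_lit 4, nat_lit 1, nat_lit 7, nat_lit 5, nat_lit 3, nat_lit 6, nat_lit 3, nat_lit 0])) (.leaf ((nat_lit 2), [nat_lit 9, nat_lit 0, nat_lit 7, nat_lit 2, nat_lit 9, nat_lit 3, nat_lit 1, nat_lit 8, nat_lit 4, nat_lit 1, nat_lit 7, nat_lit 6, nat_lit 5, nat_lit 6, nat_lit 0]))) (.node (nat_lit 0x946072f656f9e20) (.leaf ((nat_lit 3), [nat_lit 2, nat_lit 7, nat_lit 9, nat_lit 5, nat_lit 9, nat_lit 7, nat_lit 8, nat_lit 6, nat_lit 5, nat_lit 6, nat_lit 7, nat_lit 6, nat_lit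 5, nat_lit 4, nat_lit 2, nat_lit 2, nat_lit 0])) (.node (nat_lit 0x946588ff344e51c) (.leaf ((nat_lit 0), [nat_lit 6, nat_lit 5, nat_lit 8, nat_lit 0, nat_lit 8, nat_lit 7, nat_lit 3, nat_lit 4, nat_lit 6, nat_lit 2])) (.leaf ((nat_lit 2), [nat_lit 0, nat_lit 9, nat_lit 5, nat_lit 3, nat_lit 9, nat_lit 4, nat_lit 6, nat_lit 8, nat_lit 2, nat_lit 4, nat_lit 7, nat_lit 3, nat_lit 3, nat_lit 6, nat_lit 4, nat_lit 2, nat_lit 2])))))
 (.node (nat_lit 0x9475271a4db1eac) (.node (nat_lit 0x946f579dc68b47c) (.leaf ((nat_lit 6), [nat_lit 7, nat_lit 2, nat_lit 9, nat_lit 3, nat_lit 7, nat_lit 8, nat_lit 4, nat_lit 1, nat_lit 7, nat_lit 3, nat_lit 3, nat_lit 3, nat_lit 6, nat_lit 5, nat_lit 2, nat_lit 2, nat_lit 0])) (.leaf ((nat_lit 1), [nat_lit 2, nat_lit 7, nat_lit 9, nat_lit 5, nat_lit 9, nat_lit 5, nat_lit 7, nat_lit 2, nat_lit 6, nat_lit 5, nat_lit 3, nat_lit 4, nat_lit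 3]))) (.node (nat_lit 0x947c0dfc7f3504c) (.leaf ((nat_lit 0), [nat_lit 8, nat_lit 3, nat_lit 1, nat_lit 8, nat_lit 7, nat_lit 5, nat_lit 7, nat_lit 2, nat_lit 6, nat_lit 3, nat_lit 3, nat_lit 1])) (.node (nat_lit 0x947f52ce3f0ce4c) (.leaf ((nat_lit 6), [nat_lit 3, nat_lit 8, nat_lit 2, nat_lit 9, nat_lit 7, nat_lit 6, nat_lit 8, nat_lit 4, nat_lit 7, nat_lit 5, nat_lit 3, nat_lit 4, nat_lit 1])) (.leaf ((nat_lit 1), [nat_lit 2, nat_lit 7, nat_lit 9, nat_lit 5, nat_lit 9, nat_lit 5, nat_lit 0, nat_lit 7, nat_lit 8, nat_lit 5, nat_lit 1, nat_lit 7, nat_lit 5, nat_lit 6, nat_lit 5]))))))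
 (.node (nat_lit 0x949c04cde8f5f2c) (.node (nat_lit 0x948cc329b7d9640) (.node (nat_lit 0x94892153aa52580) (.leaf ((nat_lit 0), [nat_lit 6, nat_lit 8, nat_lit 3, nat_lit 6, nat_lit 1, nat_lit 7, nat_lit 4, nat_lit 6, nat_lit 1])) (.leaf ((nat_lit 6), [nat_lit 5, nat_lit 9, nat_lit 2, nat_lit 1, nat_lit 8, nat_lit 7, nat_lit 3, nat_lit 4, nat_lit 7, nat_lit 5, nat_lit 2, nat_lit 4, nat_lit 0]))) (.node (nat_lit 0x949235d833ba72c) (.leaf ((nat_lit 1), [nat_lit 0, nat_lit 7, nat_lit 0, nat_lit 9, nat_lit 1, nat_lit 9, nat_lit 4, nat_lit 3, nat_lit 8, nat_lit 5, nat_lit 1, nat_lit 7, nat_lit 5, nat_lit 6, nat_lit 5, nat_lit 4, nat_lit 3, nat_lit 0])) (.node (nat_lit 0x949862f021ad62c) (.leaf ((nat_lit 0), [nat_lit 8, nat_lit 7, nat_lit 0, nat_lit 8, nat_lit 6, nat_lit 4, nat_lit 3, nat_lit 6, nat_lit 5, nat_lit 4, nat_lit 3])) (.leaf ((nat_lit 2), [nat_lit 8, nat_lit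 5, nat_lit 2, nat_lit 8, nat_lit 6, nat_lit 5, nat_lit 7, nat_lit 6, nat_lit 5, nat_lit 6, nat_lit 5, nat_lit 3, nat_lit 1])))))
 (.node (nat_lit 0x94a8011cd6dc82c) (.node (nat_lit 0x94a11afae32637c) (.leaf ((nat_lit 3), [nat_lit 0, nat_lit 7, nat_lit 0, nat_lit 9, nat_lit 1, nat_lit 9, nat_lit 5, nat_lit 7, nat_lit 6, nat_lit 8, nat_lit 3, nat_lit 6, nat_lit 7, nat_lit 5, nat_lit 6, nat_lit 3, nat_lit 3])) (.leaf ((nat_lit 1), [nat_lit 6, nat_lit 9, nat_lit 2, nat_lit 1, nat_lit 9, nat_lit 6, nat_lit 3, nat_lit 0, nat_lit 8, nat_lit 1, nat_lit 7, nat_lit 5, nat_lit 1]))) (.node (nat_lit 0x94ab460454048ec) (.leaf ((nat_lit 2), [nat_lit 0, nat_lit 7, nat_lit 0, nat_lit 9, nat_lit 1, nat_lit 9, nat_lit 1, nat_lit 7, nat_lit 5, nat_lit 8, nat_lit 1, nat_lit 7, nat_lit 6, nat_lit 2, nat_lit 2, nat_lit 1])) (.node (nat_lit 0x94af4512f793d40) (.leaf ((nat_lit 3), [nat_lit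 6, nat_lit 9, nat_lit 2, nat_lit 1, nat_lit 9, nat_lit 4, nat_lit 6, nat_lit 8, nat_lit 0, nat_lit 7, nat_lit 6, nat_lit 3, nat_lit 4, nat_lit 6, nat_lit 4, nat_lit 2, nat_lit 0])) (.leaf ((nat_lit 1), [nat_lit 6, nat_lit 9, nat_lit 2, nat_lit 1, nat_lit 9, nat_lit 5, nat_lit 0, nat_lit 8, nat_lit 2, nat_lit 6, nat_lit 4, nat_lit 2]))))))))
 (.node (nat_lit 0x94da9373cfad6a0) (.node (nat_lit 0x94cb536f8b0f790) (.node (nat_lit 0x94c5e09ebe440d0) (.node (nat_lit 0x94be29d02410ccc) (.node (nat_lit 0x94b85a270e52730) (.leaf ((nat_lit 2), [nat_lit 8, nat_lit 7, nat_lit 8, nat_lit 5, nat_lit 8, nat_lit 6, nat_lit 5, nat_lit 6, nat_lit 7, nat_lit 6, nat_lit 4, nat_lit 3, nat_lit 6, nat_lit 5, nat_lit 3])) (.leaf ((nat_lit 3), [nat_lit 2, nat_lit 7, nat_lit 9, nat_lit 5, nat_lit 9, nat_lit 6, nat_lit 8, nat_lit 0, nat_lit 8, nat_lit 4, nat_lit 2, nat_lit 6, nat_lit 4])))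 (.node (nat_lit 0x94c355b542d0150) (.leaf ((nat_lit 1), [nat_lit 2, nat_lit 7, nat_lit 9, nat_lit 5, nat_lit 9, nat_lit 8, nat_lit 5, nat_lit 7, nat_lit 8, nat_lit 4, nat_lit 0, nat_lit 7, nat_lit 2, nat_lit 4, nat_lit 3, nat_lit 6, nat_lit 3, nat_lit 4, nat_lit 1])) (.node (nat_lit 0x94c46cabb6933d0) (.leaf ((nat_lit 0), [nat_lit 8, nat_lit 1, nat_lit 9, nat_lit 5, nat_lit 9, nat_lit 8, nat_lit 1, nat_lit 8, nat_lit 5, nat_lit 7, nat_lit 2, nat_lit 4, nat_lit 6, nat_lit 2, nat_lit 4, nat_lit 1])) (.leaf ((nat_lit 0), [nat_lit 8, nat_lit 6, nat_lit 9, nat_lit 5, nat_lit 9, nat_lit 7, nat_lit 8, nat_lit 7, nat_lit 1, nat_lit 8, nat_lit 1, nat_lit 7, nat_lit 2, nat_lit 4, nat_lit 6])))))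
 (.node (nat_lit 0x94c6f793f011610) (.node (nat_lit 0x94c69a95be30cd0) (.leaf ((nat_lit 0), [nat_lit 8, nat_lit 1, nat_lit 9, nat_lit 5, nat_lit 9, nat_lit 3, nat_lit 1, nat_lit 8, nat_lit 4, nat_lit 7, nat_lit 6, nat_lit 4, nat_lit 2, nat_lit 6, nat_lit 0])) (.leaf ((nat_lit 5), [nat_lit 7, nat_lit 0, nat_lit 9, nat_lit 1, nat_lit 9, nat_lit 2, nat_lit 8, nat_lit 3, nat_lit 6, nat_lit 7, nat_lit 3, nat_lit 6, nat_lit 5, nat_lit 3, nat_lit 3]))) (.node (nat_lit 0x94c92582198d850) (.leaf ((nat_lit 0), [nat_lit 9, nat_lit 1, nat_lit 8, nat_lit 7, nat_lit 9, nat_lit 2, nat_lit 7, nat_lit 8, nat_lit 7, nat_lit 1, nat_lit 7, nat_lit 6, nat_lit 2, nat_lit 2, nat_lit 6, nat_lit 5, nat_lit 2])) (.node (nat_lit 0x94ca99782f25a10) (.leaf ((nat_lit 2), [nat_lit 6, nat_lit 9, nat_lit 2, nat_lit 1, nat_lit 9, nat_lit 2, nat_lit 8, nat_lit 5, nat_lit 3, nat_lit 6, nat_lit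 4, nat_lit 3, nat_lit 3])) (.leaf ((nat_lit 3), [nat_lit 5, nat_lit 8, nat_lit 0, nat_lit 8, nat_lit 7, nat_lit 1, nat_lit 7, nat_lit 5, nat_lit 4, nat_lit 3]))))))
 (.node (nat_lit 0x94d5dae129310b0) (.node (nat_lit 0x94d238ff4009e70) (.node (nat_lit 0x94cbb06b6702f10) (.leaf ((nat_lit 0), [nat_lit 8, nat_lit 1, nat_lit 9, nat_lit 5, nat_lit 9, nat_lit 6, nat_lit 3, nat_lit 8, nat_lit 1, nat_lit 7, nat_lit 3, nat_lit 0])) (.leaf ((nat_lit 0), [nat_lit 8, nat_lit 1, nat_lit 9, nat_lit 5, nat_lit 9, nat_lit 3, nat_lit 5, nat_lit 8, nat_lit 5, nat_lit 7, nat_lit 5, nat_lit 7, nat_lit 2, nat_lit 4, nat_lit 1]))) (.node (nat_lit 0x94d2f2f052269b0) (.leaf ((nat_lit 0), [nat_lit 1, nat_lit 9, nat_lit 5, nat_lit 4, nat_lit 9, nat_lit 7, nat_lit 5, nat_lit 8, nat_lit 7, nat_lit 5, nat_lit 6, nat_lit 5, nat_lit 4, nat_lit 2, nat_lit 1])) (.node (nat_lit 0x94d520db9bb9ff0)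 (.leaf ((nat_lit 0), [nat_lit 6, nat_lit 9, nat_lit 2, nat_lit 1, nat_lit 9, nat_lit 7, nat_lit 8, nat_lit 1, nat_lit 8, nat_lit 6, nat_lit 7, nat_lit 4, nat_lit 3, nat_lit 6, nat_lit 4, nat_lit 0])) (.leaf ((nat_lit 0), [nat_lit 3, nat_lit 9, nat_lit 2, nat_lit 1, nat_lit 9, nat_lit 1, nat_lit 7, nat_lit 5, nat_lit 8, nat_lit 1, nat_lit 7, nat_lit 3, nat_lit 6, nat_lit 5])))))
 (.node (nat_lit 0x94d8088ab0368a0) (.node (nat_lit 0x94d6f1d79cf4330) (.leaf ((nat_lit 0), [nat_lit 8, nat_lit 7, nat_lit 9, nat_lit 2, nat_lit 1, nat_lit 9, nat_lit 1, nat_lit 7, nat_lit 8, nat_lit 5, nat_lit 1, nat_lit 7, nat_lit 2, nat_lit 2, nat_lit 6, nat_lit 2, nat_lit 2])) (.leaf ((nat_lit 0), [nat_lit 7, nat_lit 0, nat_lit 9, nat_lit 1, nat_lit 9, nat_lit 5, nat_lit 8, nat_lit 0, nat_lit 8, nat_lit 7, nat_lit 5, nat_lit 4, nat_lit 0]))) (.node (nat_lit 0x94d97c799608c60) (.leaf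 ((nat_lit 0), [nat_lit 7, nat_lit 0, nat_lit 9, nat_lit 1, nat_lit 9, nat_lit 3, nat_lit 0, nat_lit 8, nat_lit 6, nat_lit 0, nat_lit 7, nat_lit 2, nat_lit 2, nat_lit 6, nat_lit 5, nat_lit 2, nat_lit 2])) (.node (nat_lit 0x94da367821b87e0) (.leaf ((nat_lit 0), [nat_lit 7, nat_lit 0, nat_lit 9, nat_lit 1, nat_lit 9, nat_lit 3, nat_lit 5, nat_lit 8, nat_lit 6, nat_lit 0, nat_lit 7, nat_lit 4, nat_lit 2, nat_lit 6, nat_lit 5, nat_lit 1])) (.leaf ((nat_lit 0), [nat_lit 4, nat_lit 7, nat_lit 9, nat_lit 5, nat_lit 9, nat_lit 2, nat_lit 6, nat_lit 1, nat_lit 8, nat_lit 3, nat_lit 3, nat_lit 6, nat_lit 3, nat_lit 3, nat_lit 3, nat_lit 0])))))))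
 (.node (nat_lit 0x94f002097d1040c) (.node (nat_lit 0x94e462223166f20) (.node (nat_lit 0x94e17a35aa39a20) (.node (nat_lit 0x94e0c03c26613a0) (.leaf ((nat_lit 0), [nat_lit 6, nat_lit 9, nat_lit 2, nat_lit 1, nat_lit 9, nat_lit 1, nat_lit 7, nat_lit 8, nat_lit 4, nat_lit 7, nat_lit 4, nat_lit 3, nat_lit 6, nat_lit 5, nat_lit 4, nat_lit 2, nat_lit 1])) (.leaf ((nat_lit 0), [nat_lit 6, nat_lit 9, nat_lit 2, nat_lit 1, nat_lit 9, nat_lit 2, nat_lit 7, nat_lit 5, nat_lit 8, nat_lit 7, nat_lit 6, nat_lit 2, nat_lit 2, nat_lit 6, nat_lit 3, nat_lit 4, nat_lit 3, nat_lit 1]))) (.node (nat_lit 0x94e3a82291bff20) (.leaf ((nat_lit 0), [nat_lit 8, nat_lit 7, nat_lit 9, nat_lit 2, nat_lit 1, nat_lit 9, nat_lit 1, nat_lit 7, nat_lit 5, nat_lit 8, nat_lit 0, nat_lit 7, nat_lit 5, nat_lit 6, nat_lit 1])) (.node (nat_lit 0x94e40523d187d20) (.leaf ((nat_lit 0), [nat_lit 4, nat_lit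 7, nat_lit 9, nat_lit 5, nat_lit 9, nat_lit 6, nat_lit 8, nat_lit 6, nat_lit 1, nat_lit 7, nat_lit 5, nat_lit 2, nat_lit 4, nat_lit 2, nat_lit 0])) (.leaf ((nat_lit 0), [nat_lit 9, nat_lit 5, nat_lit 4, nat_lit 9, nat_lit 7, nat_lit 5, nat_lit 8, nat_lit 7, nat_lit 1, nat_lit 7, nat_lit 3, nat_lit 6, nat_lit 5, nat_lit 3, nat_lit 4, nat_lit 3, nat_lit 0])))))
 (.node (nat_lit 0x94e8be37a732df0) (.node (nat_lit 0x94e6334d73c4b70) (.leaf ((nat_lit 0), [nat_lit 2, nat_lit 7, nat_lit 9, nat_lit 5, nat_lit 9, nat_lit 7, nat_lit 1, nat_lit 7, nat_lit 8, nat_lit 3, nat_lit 4, nat_lit 7, nat_lit 2, nat_lit 4, nat_lit 6, nat_lit 3, nat_lit 3, nat_lit 1])) (.leaf ((nat_lit 0), [nat_lit 7, nat_lit 0, nat_lit 9, nat_lit 1, nat_lit 9, nat_lit 7, nat_lit 5, nat_lit 8, nat_lit 0, nat_lit 8, nat_lit 6, nat_lit 7, nat_lit 6, nat_lit 5, nat_lit 3, nat_lit 6, nat_lit 5, nat_lit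 4]))) (.node (nat_lit 0x94e91b338326570) (.leaf ((nat_lit 0), [nat_lit 2, nat_lit 7, nat_lit 9, nat_lit 5, nat_lit 9, nat_lit 8, nat_lit 1, nat_lit 8, nat_lit 6, nat_lit 7, nat_lit 6, nat_lit 5, nat_lit 3, nat_lit 3, nat_lit 0])) (.node (nat_lit 0x94e9d536e8aed30) (.leaf ((nat_lit 0), [nat_lit 1, nat_lit 9, nat_lit 5, nat_lit 4, nat_lit 9, nat_lit 2, nat_lit 7, nat_lit 8, nat_lit 4, nat_lit 7, nat_lit 5, nat_lit 6, nat_lit 5, nat_lit 4, nat_lit 2, nat_lit 0])) (.leaf ((nat_lit 0), [nat_lit 2, nat_lit 7, nat_lit 9, nat_lit 5, nat_lit 9, nat_lit 3, nat_lit 5, nat_lit 8, nat_lit 0, nat_lit 7, nat_lit 6, nat_lit 3, nat_lit 3, nat_lit 6, nat_lit 4, nat_lit 0]))))))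
 (.node (nat_lit 0x94f62e96b7000cc) (.node (nat_lit 0x94f3a402ef7908c) (.node (nat_lit 0x94f1d310a1f05cc) (.leaf ((nat_lit 0), [nat_lit 2, nat_lit 7, nat_lit 9, nat_lit 5, nat_lit 9, nat_lit 6, nat_lit 2, nat_lit 8, nat_lit 5, nat_lit 6, nat_lit 7, nat_lit 3, nat_lit 6, nat_lit 5, nat_lit 3, nat_lit 0])) (.leaf ((nat_lit 0), [nat_lit 1, nat_lit 9, nat_lit 5, nat_lit 4, nat_lit 9, nat_lit 8, nat_lit 5, nat_lit 7, nat_lit 5, nat_lit 0, nat_lit 7, nat_lit 6, nat_lit 4, nat_lit 3, nat_lit 6, nat_lit 5, nat_lit 4, nat_lit 2]))) (.node (nat_lit 0x94f400ff556824c) (.leaf ((nat_lit 0), [nat_lit 4, nat_lit 7, nat_lit 9, nat_lit 5, nat_lit 9, nat_lit 6, nat_lit 7, nat_lit 2, nat_lit 1, nat_lit 8, nat_lit 4, nat_lit 7, nat_lit 4, nat_lit 6, nat_lit 5, nat_lit 2])) (.node (nat_lit 0x94f4bab630b990c) (.leaf ((nat_lit 0), [nat_lit 7, nat_lit 0, nat_lit 9, nat_lit 1, nat_lit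 9, nat_lit 1, nat_lit 7, nat_lit 8, nat_lit 4, nat_lit 7, nat_lit 3, nat_lit 4, nat_lit 6, nat_lit 5, nat_lit 4, nat_lit 3, nat_lit 3, nat_lit 3])) (.leaf ((nat_lit 0), [nat_lit 1, nat_lit 9, nat_lit 5, nat_lit 4, nat_lit 9, nat_lit 4, nat_lit 0, nat_lit 7, nat_lit 8, nat_lit 5, nat_lit 4, nat_lit 7, nat_lit 3, nat_lit 4, nat_lit 6, nat_lit 1])))))
 (.node (nat_lit 0x94f9168fffc630c) (.node (nat_lit 0x94f7459f7e2efcc) (.leaf ((nat_lit 0), [nat_lit 4, nat_lit 7, nat_lit 9, nat_lit 5, nat_lit 9, nat_lit 6, nat_lit 8, nat_lit 3, nat_lit 4, nat_lit 7, nat_lit 6, nat_lit 2, nat_lit 4, nat_lit 6, nat_lit 1])) (.leaf ((nat_lit 0), [nat_lit 3, nat_lit 9, nat_lit 2, nat_lit 1, nat_lit 9, nat_lit 7, nat_lit 5, nat_lit 8, nat_lit 3, nat_lit 6, nat_lit 1, nat_lit 7, nat_lit 6, nat_lit 5, nat_lit 4]))) (.node (nat_lit 0x94fee651e0dc9fc) (.leaf ((nat_lit 0), [nat_lit 0, nat_lit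 7, nat_lit 0, nat_lit 9, nat_lit 1, nat_lit 9, nat_lit 3, nat_lit 0, nat_lit 8, nat_lit 3, nat_lit 6, nat_lit 7, nat_lit 6, nat_lit 4, nat_lit 3, nat_lit 3, nat_lit 0])) (.node (nat_lit 0x94fffd66dfa8bfc) (.leaf ((nat_lit 0), [nat_lit 9, nat_lit 1, nat_lit 8, nat_lit 7, nat_lit 9, nat_lit 5, nat_lit 7, nat_lit 5, nat_lit 8, nat_lit 7, nat_lit 1, nat_lit 7, nat_lit 5, nat_lit 6, nat_lit 3, nat_lit 4, nat_lit 3, nat_lit 0])) (.leaf ((nat_lit 5), [nat_lit 4, nat_lit 7, nat_lit 9, nat_lit 5, nat_lit 9, nat_lit 2, nat_lit 5, nat_lit 8, nat_lit 6, nat_lit 5, nat_lit 6, nat_lit 7, nat_lit 6, nat_lit 2, nat_lit 2, nat_lit 6, nat_lit 4]))))))))))))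
 (.node (nat_lit 0x9703bebc99255b4) (.node (nat_lit 0x95fefaf03de894c) (.node (nat_lit 0x957c943b13bb24c) (.node (nat_lit 0x953d0389b129e1c) (.node (nat_lit 0x951d695d5b7c18c) (.node (nat_lit 0x950f9d63d5cf82c) (.node (nat_lit 0x95051361e7ee05c) (.node (nat_lit 0x9503424c06e3afc) (.node (nat_lit 0x95028852b109d3c) (.leaf ((nat_lit 0), [nat_lit 9, nat_lit 1, nat_lit 8, nat_lit 7, nat_lit 9, nat_lit 0, nat_lit 8, nat_lit 6, nat_lit 3, nat_lit 8, nat_lit 2, nat_lit 4, nat_lit 7, nat_lit 3, nat_lit 6, nat_lit 4, nat_lit 0])) (.leaf ((nat_lit 0), [nat_lit 8, nat_lit 1, nat_lit 9, nat_lit 5, nat_lit 9, nat_lit 6, nat_lit 8, nat_lit 3, nat_lit 6, nat_lit 1, nat_lit 7, nat_lit 6, nat_lit 4, nat_lit 3, nat_lit 6, nat_lit 2]))) (.node (nat_lit 0x95039f88636eddc) (.leaf ((nat_lit 2), [nat_lit 1, nat_lit 9, nat_lit 5, nat_lit 4, nat_lit 9, nat_lit 8, nat_lit 6, nat_lit 2,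 nat_lit 8, nat_lit 3, nat_lit 6, nat_lit 7, nat_lit 2, nat_lit 2, nat_lit 6])) (.leaf ((nat_lit 0), [nat_lit 8, nat_lit 1, nat_lit 9, nat_lit 5, nat_lit 9, nat_lit 8, nat_lit 7, nat_lit 0, nat_lit 8, nat_lit 4, nat_lit 2, nat_lit 6, nat_lit 2, nat_lit 2]))))
 (.node (nat_lit 0x9506e4506f9535c) (.node (nat_lit 0x9505cd74eef815c) (.leaf ((nat_lit 0), [nat_lit 8, nat_lit 6, nat_lit 9, nat_lit 5, nat_lit 9, nat_lit 3, nat_lit 7, nat_lit 5, nat_lit 8, nat_lit 5, nat_lit 1, nat_lit 7, nat_lit 2, nat_lit 4, nat_lit 6, nat_lit 2, nat_lit 0])) (.leaf ((nat_lit 5), [nat_lit 7, nat_lit 0, nat_lit 9, nat_lit 1, nat_lit 9, nat_lit 5, nat_lit 8, nat_lit 5, nat_lit 7, nat_lit 5, nat_lit 1, nat_lit 7, nat_lit 4, nat_lit 6, nat_lit 4, nat_lit 1]))) (.node (nat_lit 0x9507fb62607a09c) (.leaf ((nat_lit 2), [nat_lit 7, nat_lit 0, nat_lit 9, nat_lit 1, nat_lit 9, nat_lit 8, nat_lit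 7, nat_lit 0, nat_lit 8, nat_lit 7, nat_lit 3, nat_lit 3, nat_lit 6, nat_lit 5, nat_lit 2, nat_lit 4, nat_lit 1])) (.node (nat_lit 0x950d6f774a464ac) (.leaf ((nat_lit 0), [nat_lit 9, nat_lit 1, nat_lit 8, nat_lit 7, nat_lit 9, nat_lit 1, nat_lit 8, nat_lit 5, nat_lit 6, nat_lit 5, nat_lit 3, nat_lit 6, nat_lit 5, nat_lit 4, nat_lit 3])) (.leaf ((nat_lit 0), [nat_lit 8, nat_lit 7, nat_lit 9, nat_lit 2, nat_lit 1, nat_lit 9, nat_lit 7, nat_lit 8, nat_lit 5, nat_lit 1, nat_lit 7, nat_lit 6, nat_lit 4, nat_lit 2, nat_lit 6, nat_lit 2, nat_lit 1]))))))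
 (.node (nat_lit 0x9514b33728b42fc) (.node (nat_lit 0x9512284dad4037c) (.node (nat_lit 0x9511cb52e54462c) (.leaf ((nat_lit 0), [nat_lit 0, nat_lit 7, nat_lit 0, nat_lit 9, nat_lit 1, nat_lit 9, nat_lit 8, nat_lit 1, nat_lit 7, nat_lit 8, nat_lit 7, nat_lit 5, nat_lit 6, nat_lit 7, nat_lit 6, nat_lit 2, nat_lit 4, nat_lit 6, nat_lit 5, nat_lit 4, nat_lit 0])) (.leaf ((nat_lit 0), [nat_lit 7, nat_lit 0, nat_lit 9, nat_lit 1, nat_lit 9, nat_lit 8, nat_lit 1, nat_lit 8, nat_lit 7, nat_lit 5, nat_lit 1, nat_lit 7, nat_lit 3, nat_lit 3, nat_lit 6, nat_lit 5, nat_lit 2, nat_lit 4, nat_lit 0]))) (.node (nat_lit 0x9512e23acb7ce3c) (.leaf ((nat_lit 0), [nat_lit 6, nat_lit 9, nat_lit 2, nat_lit 1, nat_lit 9, nat_lit 6, nat_lit 3, nat_lit 4, nat_lit 7, nat_lit 6, nat_lit 5, nat_lit 3, nat_lit 6, nat_lit 3, nat_lit 3, nat_lit 3])) (.node (nat_lit 0x95139c35914b1fc) (.leaf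 ((nat_lit 0), [nat_lit 8, nat_lit 7, nat_lit 9, nat_lit 2, nat_lit 1, nat_lit 9, nat_lit 1, nat_lit 7, nat_lit 8, nat_lit 5, nat_lit 0, nat_lit 7, nat_lit 6, nat_lit 5, nat_lit 3, nat_lit 6, nat_lit 3, nat_lit 4, nat_lit 0])) (.leaf ((nat_lit 0), [nat_lit 0, nat_lit 7, nat_lit 0, nat_lit 9, nat_lit 1, nat_lit 9, nat_lit 8, nat_lit 1, nat_lit 8, nat_lit 2, nat_lit 4, nat_lit 7, nat_lit 5, nat_lit 6, nat_lit 2, nat_lit 4, nat_lit 0])))))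
 (.node (nat_lit 0x951684277c4cd7c) (.node (nat_lit 0x9515ca2108dd0fc) (.leaf ((nat_lit 0), [nat_lit 9, nat_lit 5, nat_lit 4, nat_lit 9, nat_lit 6, nat_lit 3, nat_lit 1, nat_lit 8, nat_lit 6, nat_lit 7, nat_lit 5, nat_lit 6, nat_lit 4, nat_lit 2, nat_lit 0])) (.leaf ((nat_lit 0), [nat_lit 7, nat_lit 0, nat_lit 9, nat_lit 1, nat_lit 9, nat_lit 5, nat_lit 0, nat_lit 7, nat_lit 8, nat_lit 5, nat_lit 6, nat_lit 4, nat_lit 3, nat_lit 3]))) (.node (nat_lit 0x951c5254385010c) (.leaf ((nat_lit 0), [nat_lit 1, nat_lit 9, nat_lit 5, nat_lit 4, nat_lit 9, nat_lit 3, nat_lit 3, nat_lit 8, nat_lit 0, nat_lit 7, nat_lit 6, nat_lit 2, nat_lit 2, nat_lit 6, nat_lit 3, nat_lit 3, nat_lit 1])) (.node (nat_lit 0x951d0c4d8e29ecc) (.leaf ((nat_lit 0), [nat_lit 6, nat_lit 9, nat_lit 2, nat_lit 1, nat_lit 9, nat_lit 4, nat_lit 7, nat_lit 6, nat_lit 8, nat_lit 6, nat_lit 1, nat_lit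 7, nat_lit 6, nat_lit 5, nat_lit 6, nat_lit 5, nat_lit 4])) (.leaf ((nat_lit 0), [nat_lit 7, nat_lit 0, nat_lit 9, nat_lit 1, nat_lit 9, nat_lit 7, nat_lit 2, nat_lit 8, nat_lit 0, nat_lit 7, nat_lit 2, nat_lit 2, nat_lit 6, nat_lit 5, nat_lit 2, nat_lit 4, nat_lit 2])))))))
 (.node (nat_lit 0x952e7d528f2987c) (.node (nat_lit 0x95222261eba304c) (.node (nat_lit 0x951ff4495adbb8c) (.node (nat_lit 0x951f3a3a75b03cc) (.leaf ((nat_lit 0), [nat_lit 4, nat_lit 7, nat_lit 9, nat_lit 5, nat_lit 9, nat_lit 0, nat_lit 8, nat_lit 1, nat_lit 7, nat_lit 3, nat_lit 6, nat_lit 5, nat_lit 1])) (.leaf ((nat_lit 0), [nat_lit 7, nat_lit 0, nat_lit 9, nat_lit 1, nat_lit 9, nat_lit 3, nat_lit 5, nat_lit 8, nat_lit 4, nat_lit 6, nat_lit 3, nat_lit 4, nat_lit 1]))) (.node (nat_lit 0x95210b83012180c) (.leaf ((nat_lit 0), [nat_lit 6, nat_lit 9, nat_lit 2, nat_lit 1, nat_lit 9, nat_lit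 2, nat_lit 4, nat_lit 7, nat_lit 6, nat_lit 5, nat_lit 3, nat_lit 6, nat_lit 5, nat_lit 3, nat_lit 4, nat_lit 0])) (.node (nat_lit 0x9521c5660faf8cc) (.leaf ((nat_lit 0), [nat_lit 9, nat_lit 5, nat_lit 4, nat_lit 9, nat_lit 7, nat_lit 5, nat_lit 8, nat_lit 6, nat_lit 3, nat_lit 4, nat_lit 7, nat_lit 5, nat_lit 3, nat_lit 4, nat_lit 3, nat_lit 3, nat_lit 1])) (.leaf ((nat_lit 0), [nat_lit 1, nat_lit 9, nat_lit 5, nat_lit 4, nat_lit 9, nat_lit 4, nat_lit 8, nat_lit 6, nat_lit 3, nat_lit 8, nat_lit 5, nat_lit 6, nat_lit 7, nat_lit 6, nat_lit 5, nat_lit 0])))))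
 (.node (nat_lit 0x9524504ea52ac8c) (.node (nat_lit 0x9523397072a374c) (.leaf ((nat_lit 0), [nat_lit 2, nat_lit 7, nat_lit 9, nat_lit 5, nat_lit 9, nat_lit 2, nat_lit 7, nat_lit 6, nat_lit 8, nat_lit 6, nat_lit 4, nat_lit 3, nat_lit 6, nat_lit 4, nat_lit 1])) (.leaf ((nat_lit 0), [nat_lit 0, nat_lit 7, nat_lit 0, nat_lit 9, nat_lit 1, nat_lit 9, nat_lit 7, nat_lit 5, nat_lit 0, nat_lit 8, nat_lit 6, nat_lit 5, nat_lit 6, nat_lit 7, nat_lit 6, nat_lit 4, nat_lit 2, nat_lit 1]))) (.node (nat_lit 0x952b9569fbdc3fc) (.leaf ((nat_lit 0), [nat_lit 7, nat_lit 0, nat_lit 9, nat_lit 1, nat_lit 9, nat_lit 2, nat_lit 7, nat_lit 8, nat_lit 6, nat_lit 5, nat_lit 1, nat_lit 7, nat_lit 5, nat_lit 3, nat_lit 4, nat_lit 3, nat_lit 3, nat_lit 1])) (.node (nat_lit 0x952c4f637fb4a7c) (.leaf ((nat_lit 0), [nat_lit 7, nat_lit 0, nat_lit 9, nat_lit 1, nat_lit 9, nat_lit 8, nat_lit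 2, nat_lit 6, nat_lit 8, nat_lit 5, nat_lit 4, nat_lit 7, nat_lit 4, nat_lit 3, nat_lit 6, nat_lit 4])) (.leaf ((nat_lit 0), [nat_lit 0, nat_lit 7, nat_lit 0, nat_lit 9, nat_lit 1, nat_lit 9, nat_lit 8, nat_lit 2, nat_lit 6, nat_lit 8, nat_lit 6, nat_lit 3, nat_lit 4, nat_lit 7, nat_lit 6, nat_lit 2, nat_lit 2, nat_lit 6, nat_lit 5]))))))
 (.node (nat_lit 0x9532d93b19bf5ac) (.node (nat_lit 0x9530ab3e34ba5ec) (.node (nat_lit 0x952ff153c867e6c) (.leaf ((nat_lit 0), [nat_lit 8, nat_lit 7, nat_lit 9, nat_lit 2, nat_lit 1, nat_lit 9, nat_lit 1, nat_lit 7, nat_lit 8, nat_lit 2, nat_lit 4, nat_lit 7, nat_lit 4, nat_lit 6, nat_lit 3, nat_lit 3, nat_lit 3])) (.leaf ((nat_lit 0), [nat_lit 3, nat_lit 9, nat_lit 2, nat_lit 1, nat_lit 9, nat_lit 7, nat_lit 8, nat_lit 6, nat_lit 3, nat_lit 4, nat_lit 7, nat_lit 3, nat_lit 6, nat_lit 4, nat_lit 1]))) (.node (nat_lit 0x9531083a10add6c)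 (.leaf ((nat_lit 0), [nat_lit 0, nat_lit 7, nat_lit 0, nat_lit 9, nat_lit 1, nat_lit 9, nat_lit 8, nat_lit 1, nat_lit 8, nat_lit 5, nat_lit 6, nat_lit 7, nat_lit 2, nat_lit 6, nat_lit 5, nat_lit 3, nat_lit 4])) (.node (nat_lit 0x95321f42a9de3ac) (.leaf ((nat_lit 0), [nat_lit 8, nat_lit 7, nat_lit 9, nat_lit 2, nat_lit 1, nat_lit 9, nat_lit 4, nat_lit 0, nat_lit 7, nat_lit 8, nat_lit 6, nat_lit 7, nat_lit 5, nat_lit 2, nat_lit 4, nat_lit 3, nat_lit 0])) (.leaf ((nat_lit 0), [nat_lit 2, nat_lit 7, nat_lit 9, nat_lit 5, nat_lit 9, nat_lit 7, nat_lit 1, nat_lit 8, nat_lit 1, nat_lit 8, nat_lit 3, nat_lit 6, nat_lit 2, nat_lit 4, nat_lit 1])))))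
 (.node (nat_lit 0x953a1ba1a7d83dc) (.node (nat_lit 0x953393238c21cec) (.leaf ((nat_lit 0), [nat_lit 4, nat_lit 7, nat_lit 9, nat_lit 5, nat_lit 9, nat_lit 2, nat_lit 1, nat_lit 8, nat_lit 7, nat_lit 5, nat_lit 1, nat_lit 7, nat_lit 5, nat_lit 3, nat_lit 6, nat_lit 4, nat_lit 3, nat_lit 0])) (.leaf ((nat_lit 0), [nat_lit 7, nat_lit 0, nat_lit 9, nat_lit 1, nat_lit 9, nat_lit 3, nat_lit 6, nat_lit 3, nat_lit 8, nat_lit 3, nat_lit 6, nat_lit 7, nat_lit 2, nat_lit 6, nat_lit 2, nat_lit 4, nat_lit 0]))) (.node (nat_lit 0x953a789e3bc5e5c) (.leaf ((nat_lit 0), [nat_lit 8, nat_lit 6, nat_lit 9, nat_lit 5, nat_lit 9, nat_lit 8, nat_lit 1, nat_lit 8, nat_lit 6, nat_lit 7, nat_lit 3, nat_lit 3, nat_lit 6, nat_lit 5, nat_lit 2, nat_lit 2])) (.node (nat_lit 0x953ad5b566dc7dc) (.leaf ((nat_lit 3), [nat_lit 8, nat_lit 6, nat_lit 3, nat_lit 8, nat_lit 5, nat_lit 7, nat_lit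 5, nat_lit 0, nat_lit 7, nat_lit 6, nat_lit 4])) (.leaf ((nat_lit 0), [nat_lit 8, nat_lit 6, nat_lit 9, nat_lit 5, nat_lit 9, nat_lit 7, nat_lit 2, nat_lit 5, nat_lit 8, nat_lit 7, nat_lit 0, nat_lit 7, nat_lit 3, nat_lit 6, nat_lit 0]))))))))
 (.node (nat_lit 0x955c9d2d4be5ee0) (.node (nat_lit 0x954d002be95eb10) (.node (nat_lit 0x9547ea555a93d10) (.node (nat_lit 0x953f8e2fcc1d63c) (.node (nat_lit 0x953f31341e2877c) (.leaf ((nat_lit 0), [nat_lit 8, nat_lit 6, nat_lit 9, nat_lit 5, nat_lit 9, nat_lit 2, nat_lit 7, nat_lit 6, nat_lit 8, nat_lit 5, nat_lit 1, nat_lit 7, nat_lit 2, nat_lit 4, nat_lit 3, nat_lit 6, nat_lit 4, nat_lit 1])) (.leaf ((nat_lit 0), [nat_lit 9, nat_lit 1, nat_lit 8, nat_lit 7, nat_lit 9, nat_lit 1, nat_lit 8, nat_lit 5, nat_lit 0, nat_lit 7, nat_lit 3, nat_lit 3, nat_lit 3, nat_lit 6, nat_lit 2, nat_lit 1]))) (.node (nat_lit 0x9541024272ce73c)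 (.leaf ((nat_lit 0), [nat_lit 9, nat_lit 1, nat_lit 8, nat_lit 7, nat_lit 9, nat_lit 4, nat_lit 7, nat_lit 8, nat_lit 7, nat_lit 5, nat_lit 1, nat_lit 7, nat_lit 4, nat_lit 6, nat_lit 5, nat_lit 4, nat_lit 3, nat_lit 3, nat_lit 1])) (.node (nat_lit 0x95421919758fe7c) (.leaf ((nat_lit 0), [nat_lit 8, nat_lit 6, nat_lit 9, nat_lit 5, nat_lit 9, nat_lit 5, nat_lit 8, nat_lit 5, nat_lit 8, nat_lit 5, nat_lit 6, nat_lit 7, nat_lit 5, nat_lit 6, nat_lit 5, nat_lit 3, nat_lit 6, nat_lit 4, nat_lit 2])) (.leaf ((nat_lit 3), [nat_lit 8, nat_lit 2, nat_lit 1, nat_lit 8, nat_lit 1, nat_lit 7, nat_lit 6, nat_lit 4, nat_lit 2])))))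
 (.node (nat_lit 0x954a7540a1f9410) (.node (nat_lit 0x95495e4a2e36190) (.leaf ((nat_lit 5), [nat_lit 6, nat_lit 9, nat_lit 2, nat_lit 1, nat_lit 9, nat_lit 6, nat_lit 2, nat_lit 1, nat_lit 8, nat_lit 5, nat_lit 6, nat_lit 3, nat_lit 3, nat_lit 3])) (.leaf ((nat_lit 3), [nat_lit 4, nat_lit 7, nat_lit 8, nat_lit 6, nat_lit 5, nat_lit 0, nat_lit 7, nat_lit 4, nat_lit 2, nat_lit 2, nat_lit 1]))) (.node (nat_lit 0x954b8c393daaf90) (.leaf ((nat_lit 0), [nat_lit 9, nat_lit 1, nat_lit 8, nat_lit 7, nat_lit 9, nat_lit 1, nat_lit 8, nat_lit 2, nat_lit 4, nat_lit 7, nat_lit 3, nat_lit 3, nat_lit 3, nat_lit 0])) (.node (nat_lit 0x954c462f859d890) (.leaf ((nat_lit 0), [nat_lit 8, nat_lit 1, nat_lit 9, nat_lit 5, nat_lit 9, nat_lit 5, nat_lit 8, nat_lit 0, nat_lit 8, nat_lit 5, nat_lit 7, nat_lit 6, nat_lit 5, nat_lit 1])) (.leaf ((nat_lit 0), [nat_lit 8, nat_lit 6, nat_lit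 9, nat_lit 5, nat_lit 9, nat_lit 2, nat_lit 5, nat_lit 8, nat_lit 7, nat_lit 5, nat_lit 7, nat_lit 5, nat_lit 3, nat_lit 6, nat_lit 3]))))))
 (.node (nat_lit 0x9557e4979782430) (.node (nat_lit 0x954e741daf19ad0) (.node (nat_lit 0x954dba24b53ce90) (.leaf ((nat_lit 0), [nat_lit 8, nat_lit 1, nat_lit 9, nat_lit 5, nat_lit 9, nat_lit 6, nat_lit 2, nat_lit 8, nat_lit 5, nat_lit 7, nat_lit 4, nat_lit 2, nat_lit 6, nat_lit 5, nat_lit 2, nat_lit 4])) (.leaf ((nat_lit 0), [nat_lit 8, nat_lit 1, nat_lit 9, nat_lit 5, nat_lit 9, nat_lit 4, nat_lit 8, nat_lit 0, nat_lit 8, nat_lit 5, nat_lit 7, nat_lit 2, nat_lit 6, nat_lit 1]))) (.node (nat_lit 0x9550a20a0ca4590) (.leaf ((nat_lit 2), [nat_lit 6, nat_lit 9, nat_lit 2, nat_lit 1, nat_lit 9, nat_lit 2, nat_lit 6, nat_lit 3, nat_lit 8, nat_lit 6, nat_lit 5, nat_lit 3, nat_lit 6, nat_lit 2, nat_lit 4, nat_lit 0])) (.node (nat_lit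 0x9556cda123bf1b0) (.leaf ((nat_lit 0), [nat_lit 8, nat_lit 1, nat_lit 9, nat_lit 5, nat_lit 9, nat_lit 3, nat_lit 8, nat_lit 7, nat_lit 1, nat_lit 8, nat_lit 2, nat_lit 4, nat_lit 3, nat_lit 6, nat_lit 5, nat_lit 4, nat_lit 2])) (.leaf ((nat_lit 0), [nat_lit 7, nat_lit 0, nat_lit 9, nat_lit 1, nat_lit 9, nat_lit 8, nat_lit 7, nat_lit 1, nat_lit 8, nat_lit 6, nat_lit 5, nat_lit 7, nat_lit 5, nat_lit 3, nat_lit 6, nat_lit 4])))))
 (.node (nat_lit 0x9558fb8485926f0) (.node (nat_lit 0x955841942b6feb0) (.leaf ((nat_lit 0), [nat_lit 0, nat_lit 7, nat_lit 0, nat_lit 9, nat_lit 1, nat_lit 9, nat_lit 1, nat_lit 7, nat_lit 8, nat_lit 4, nat_lit 0, nat_lit 7, nat_lit 6, nat_lit 5, nat_lit 3, nat_lit 6, nat_lit 5, nat_lit 4, nat_lit 2])) (.leaf ((nat_lit 0), [nat_lit 9, nat_lit 5, nat_lit 4, nat_lit 9, nat_lit 2, nat_lit 6, nat_lit 0, nat_lit 8, nat_lit 6, nat_lit 5, nat_lit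 7, nat_lit 2, nat_lit 6, nat_lit 5, nat_lit 4, nat_lit 2, nat_lit 2]))) (.node (nat_lit 0x955acc756326bb0) (.leaf ((nat_lit 0), [nat_lit 1, nat_lit 9, nat_lit 5, nat_lit 4, nat_lit 9, nat_lit 3, nat_lit 3, nat_lit 8, nat_lit 6, nat_lit 5, nat_lit 6, nat_lit 7, nat_lit 4, nat_lit 2, nat_lit 6, nat_lit 2])) (.node (nat_lit 0x955be32d5041d60) (.leaf ((nat_lit 0), [nat_lit 2, nat_lit 7, nat_lit 9, nat_lit 5, nat_lit 9, nat_lit 7, nat_lit 8, nat_lit 7, nat_lit 1, nat_lit 8, nat_lit 7, nat_lit 2, nat_lit 4, nat_lit 6, nat_lit 3, nat_lit 3])) (.leaf ((nat_lit 0), [nat_lit 8, nat_lit 7, nat_lit 9, nat_lit 2, nat_lit 1, nat_lit 9, nat_lit 7, nat_lit 8, nat_lit 6, nat_lit 0, nat_lit 7, nat_lit 2, nat_lit 4, nat_lit 6, nat_lit 2])))))))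
 (.node (nat_lit 0x956c98e9e8bfbf0) (.node (nat_lit 0x956782ca959fa60) (.node (nat_lit 0x955f8512a34d5e0) (.node (nat_lit 0x955d572617c4260) (.leaf ((nat_lit 0), [nat_lit 2, nat_lit 7, nat_lit 9, nat_lit 5, nat_lit 9, nat_lit 8, nat_lit 5, nat_lit 1, nat_lit 8, nat_lit 7, nat_lit 2, nat_lit 4, nat_lit 7, nat_lit 2, nat_lit 6, nat_lit 2, nat_lit 2, nat_lit 0])) (.leaf ((nat_lit 0), [nat_lit 9, nat_lit 5, nat_lit 4, nat_lit 9, nat_lit 4, nat_lit 0, nat_lit 7, nat_lit 8, nat_lit 6, nat_lit 5, nat_lit 7, nat_lit 4, nat_lit 6, nat_lit 5, nat_lit 4, nat_lit 0]))) (.node (nat_lit 0x956554e39be9620) (.leaf ((nat_lit 0), [nat_lit 8, nat_lit 7, nat_lit 9, nat_lit 2, nat_lit 1, nat_lit 9, nat_lit 4, nat_lit 7, nat_lit 8, nat_lit 4, nat_lit 7, nat_lit 4, nat_lit 3, nat_lit 3, nat_lit 6, nat_lit 2, nat_lit 1])) (.node (nat_lit 0x9566c8d111c73e0) (.leaf ((nat_lit 0), [nat_lit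 3, nat_lit 9, nat_lit 2, nat_lit 1, nat_lit 9, nat_lit 8, nat_lit 7, nat_lit 8, nat_lit 5, nat_lit 8, nat_lit 5, nat_lit 7, nat_lit 5, nat_lit 7, nat_lit 4, nat_lit 3, nat_lit 6])) (.leaf ((nat_lit 0), [nat_lit 9, nat_lit 5, nat_lit 4, nat_lit 9, nat_lit 5, nat_lit 2, nat_lit 8, nat_lit 4, nat_lit 1, nat_lit 7, nat_lit 3, nat_lit 3, nat_lit 3, nat_lit 6, nat_lit 5, nat_lit 2, nat_lit 2, nat_lit 1])))))
 (.node (nat_lit 0x9569b0bd98f48e0) (.node (nat_lit 0x956953bd1126de0) (.leaf ((nat_lit 0), [nat_lit 0, nat_lit 7, nat_lit 0, nat_lit 9, nat_lit 1, nat_lit 9, nat_lit 2, nat_lit 8, nat_lit 6, nat_lit 2, nat_lit 4, nat_lit 7, nat_lit 2, nat_lit 2, nat_lit 6, nat_lit 2, nat_lit 4, nat_lit 1])) (.leaf ((nat_lit 0), [nat_lit 2, nat_lit 7, nat_lit 9, nat_lit 5, nat_lit 9, nat_lit 0, nat_lit 8, nat_lit 6, nat_lit 5, nat_lit 7, nat_lit 3, nat_lit 3, nat_lit 3, nat_lit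 6, nat_lit 5, nat_lit 4, nat_lit 0]))) (.node (nat_lit 0x956b24ecd1604f0) (.leaf ((nat_lit 0), [nat_lit 1, nat_lit 9, nat_lit 5, nat_lit 4, nat_lit 9, nat_lit 8, nat_lit 0, nat_lit 7, nat_lit 8, nat_lit 7, nat_lit 5, nat_lit 6, nat_lit 2, nat_lit 4])) (.node (nat_lit 0x956bdee5cb3d130) (.leaf ((nat_lit 0), [nat_lit 4, nat_lit 7, nat_lit 9, nat_lit 5, nat_lit 9, nat_lit 2, nat_lit 7, nat_lit 6, nat_lit 8, nat_lit 1, nat_lit 7, nat_lit 5, nat_lit 3, nat_lit 6, nat_lit 3, nat_lit 1])) (.leaf ((nat_lit 0), [nat_lit 9, nat_lit 5, nat_lit 4, nat_lit 9, nat_lit 0, nat_lit 7, nat_lit 8, nat_lit 7, nat_lit 5, nat_lit 4, nat_lit 3, nat_lit 3, nat_lit 1]))))))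
 (.node (nat_lit 0x957721ae8d69a0c) (.node (nat_lit 0x957496c2bc088cc) (.node (nat_lit 0x956dafd566db8b0) (.leaf ((nat_lit 0), [nat_lit 4, nat_lit 7, nat_lit 9, nat_lit 5, nat_lit 9, nat_lit 5, nat_lit 8, nat_lit 0, nat_lit 8, nat_lit 1, nat_lit 7, nat_lit 6, nat_lit 2, nat_lit 2, nat_lit 6, nat_lit 4, nat_lit 2])) (.leaf ((nat_lit 0), [nat_lit 0, nat_lit 7, nat_lit 0, nat_lit 9, nat_lit 1, nat_lit 9, nat_lit 2, nat_lit 2, nat_lit 8, nat_lit 6, nat_lit 1, nat_lit 7, nat_lit 2, nat_lit 2, nat_lit 6, nat_lit 2, nat_lit 4, nat_lit 1]))) (.node (nat_lit 0x957550a5129c68c) (.leaf ((nat_lit 0), [nat_lit 6, nat_lit 9, nat_lit 2, nat_lit 1, nat_lit 9, nat_lit 8, nat_lit 5, nat_lit 1, nat_lit 8, nat_lit 5, nat_lit 7, nat_lit 5, nat_lit 1, nat_lit 7, nat_lit 2, nat_lit 6, nat_lit 0])) (.node (nat_lit 0x9575ada0c09154c) (.leaf ((nat_lit 0), [nat_lit 4, nat_lit 7, nat_lit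 9, nat_lit 5, nat_lit 9, nat_lit 7, nat_lit 2, nat_lit 5, nat_lit 8, nat_lit 4, nat_lit 1, nat_lit 7, nat_lit 3, nat_lit 6, nat_lit 3])) (.leaf ((nat_lit 0), [nat_lit 9, nat_lit 5, nat_lit 4, nat_lit 9, nat_lit 4, nat_lit 8, nat_lit 0, nat_lit 8, nat_lit 0, nat_lit 7, nat_lit 6, nat_lit 3, nat_lit 4, nat_lit 6, nat_lit 2, nat_lit 4])))))
 (.node (nat_lit 0x9579ac55045984c) (.node (nat_lit 0x95777eaaf358bcc) (.leaf ((nat_lit 0), [nat_lit 3, nat_lit 9, nat_lit 2, nat_lit 1, nat_lit 9, nat_lit 7, nat_lit 3, nat_lit 3, nat_lit 6, nat_lit 5, nat_lit 1])) (.leaf ((nat_lit 0), [nat_lit 0, nat_lit 7, nat_lit 0, nat_lit 9, nat_lit 1, nat_lit 9, nat_lit 2, nat_lit 7, nat_lit 8, nat_lit 5, nat_lit 6, nat_lit 7, nat_lit 6, nat_lit 4, nat_lit 3, nat_lit 6, nat_lit 5, nat_lit 0]))) (.node (nat_lit 0x957b20355ca174c) (.leaf ((nat_lit 0), [nat_lit 6, nat_lit 9, nat_lit 2, nat_lit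 1, nat_lit 9, nat_lit 7, nat_lit 5, nat_lit 8, nat_lit 0, nat_lit 8, nat_lit 6, nat_lit 5, nat_lit 0, nat_lit 7, nat_lit 6, nat_lit 3, nat_lit 1])) (.node (nat_lit 0x957c373f37c7acc) (.leaf ((nat_lit 0), [nat_lit 2, nat_lit 7, nat_lit 9, nat_lit 5, nat_lit 9, nat_lit 5, nat_lit 1, nat_lit 8, nat_lit 7, nat_lit 2, nat_lit 4, nat_lit 7, nat_lit 5, nat_lit 3, nat_lit 6, nat_lit 3, nat_lit 0])) (.leaf ((nat_lit 0), [nat_lit 4, nat_lit 7, nat_lit 9, nat_lit 5, nat_lit 9, nat_lit 6, nat_lit 7, nat_lit 2, nat_lit 1, nat_lit 8, nat_lit 3, nat_lit 6, nat_lit 1, nat_lit 7, nat_lit 4, nat_lit 6, nat_lit 3, nat_lit 4])))))))))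
 (.node (nat_lit 0x95c1f52884c9d5c) (.node (nat_lit 0x95a0e6f61c0544c) (.node (nat_lit 0x9592be02e253c6c) (.node (nat_lit 0x95889127091045c) (.node (nat_lit 0x95849208955f67c) (.node (nat_lit 0x9583d7f0b47c93c) (.leaf ((nat_lit 0), [nat_lit 7, nat_lit 0, nat_lit 9, nat_lit 1, nat_lit 9, nat_lit 8, nat_lit 2, nat_lit 6, nat_lit 8, nat_lit 7, nat_lit 0, nat_lit 7, nat_lit 4, nat_lit 0])) (.leaf ((nat_lit 0), [nat_lit 9, nat_lit 1, nat_lit 8, nat_lit 7, nat_lit 9, nat_lit 1, nat_lit 8, nat_lit 0, nat_lit 7, nat_lit 6, nat_lit 5, nat_lit 3, nat_lit 6, nat_lit 0]))) (.node (nat_lit 0x958662fb10e69fc) (.leaf ((nat_lit 2), [nat_lit 2, nat_lit 7, nat_lit 9, nat_lit 5, nat_lit 9, nat_lit 2, nat_lit 8, nat_lit 7, nat_lit 1, nat_lit 7, nat_lit 4, nat_lit 6, nat_lit 4, nat_lit 1])) (.node (nat_lit 0x95871cf494bf07c) (.leaf ((nat_lit 5), [nat_lit 9, nat_lit 5, nat_lit 4,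 nat_lit 9, nat_lit 3, nat_lit 5, nat_lit 8, nat_lit 2, nat_lit 4, nat_lit 6, nat_lit 5, nat_lit 1])) (.leaf ((nat_lit 0), [nat_lit 9, nat_lit 1, nat_lit 8, nat_lit 7, nat_lit 9, nat_lit 2, nat_lit 8, nat_lit 4, nat_lit 0, nat_lit 7, nat_lit 6, nat_lit 5, nat_lit 6, nat_lit 4, nat_lit 3, nat_lit 3, nat_lit 1])))))
 (.node (nat_lit 0x958abf13669af1c) (.node (nat_lit 0x958a62178aa779c) (.leaf ((nat_lit 0), [nat_lit 9, nat_lit 1, nat_lit 8, nat_lit 7, nat_lit 9, nat_lit 3, nat_lit 5, nat_lit 8, nat_lit 5, nat_lit 7, nat_lit 4, nat_lit 2, nat_lit 6, nat_lit 3, nat_lit 3, nat_lit 3, nat_lit 1])) (.leaf ((nat_lit 0), [nat_lit 8, nat_lit 1, nat_lit 9, nat_lit 5, nat_lit 9, nat_lit 8, nat_lit 7, nat_lit 0, nat_lit 8, nat_lit 6, nat_lit 1, nat_lit 7, nat_lit 6, nat_lit 2, nat_lit 2, nat_lit 6]))) (.node (nat_lit 0x958bd5efcd30cdc) (.leaf ((nat_lit 5), [nat_lit 8, nat_lit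 6, nat_lit 9, nat_lit 5, nat_lit 9, nat_lit 6, nat_lit 3, nat_lit 4, nat_lit 7, nat_lit 4, nat_lit 2, nat_lit 6, nat_lit 5, nat_lit 4, nat_lit 3, nat_lit 3])) (.node (nat_lit 0x959261161de63ec) (.leaf ((nat_lit 0), [nat_lit 8, nat_lit 6, nat_lit 9, nat_lit 5, nat_lit 9, nat_lit 6, nat_lit 2, nat_lit 8, nat_lit 7, nat_lit 5, nat_lit 7, nat_lit 6, nat_lit 5, nat_lit 6, nat_lit 3, nat_lit 4])) (.leaf ((nat_lit 0), [nat_lit 8, nat_lit 7, nat_lit 9, nat_lit 2, nat_lit 1, nat_lit 9, nat_lit 5, nat_lit 7, nat_lit 6, nat_lit 8, nat_lit 5, nat_lit 0, nat_lit 7, nat_lit 5, nat_lit 3, nat_lit 3]))))))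
 (.node (nat_lit 0x9596bcef90f56bc) (.node (nat_lit 0x95948f02a96f76c) (.node (nat_lit 0x95931afe624a26c) (.leaf ((nat_lit 0), [nat_lit 6, nat_lit 9, nat_lit 2, nat_lit 1, nat_lit 9, nat_lit 7, nat_lit 8, nat_lit 6, nat_lit 3, nat_lit 8, nat_lit 3, nat_lit 3, nat_lit 6, nat_lit 0])) (.leaf ((nat_lit 0), [nat_lit 9, nat_lit 5, nat_lit 4, nat_lit 9, nat_lit 2, nat_lit 7, nat_lit 8, nat_lit 2, nat_lit 4, nat_lit 7, nat_lit 6, nat_lit 4, nat_lit 3, nat_lit 6, nat_lit 4, nat_lit 3, nat_lit 0]))) (.node (nat_lit 0x959548feb13386c) (.leaf ((nat_lit 0), [nat_lit 0, nat_lit 7, nat_lit 0, nat_lit 9, nat_lit 1, nat_lit 9, nat_lit 2, nat_lit 7, nat_lit 8, nat_lit 6, nat_lit 5, nat_lit 0, nat_lit 7, nat_lit 6, nat_lit 2, nat_lit 0])) (.node (nat_lit 0x9595a5ea05acaec) (.leaf ((nat_lit 0), [nat_lit 7, nat_lit 0, nat_lit 9, nat_lit 1, nat_lit 9, nat_lit 7, nat_lit 1, nat_lit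 7, nat_lit 8, nat_lit 7, nat_lit 5, nat_lit 7, nat_lit 6, nat_lit 5, nat_lit 6, nat_lit 2, nat_lit 2, nat_lit 0])) (.leaf ((nat_lit 0), [nat_lit 1, nat_lit 9, nat_lit 5, nat_lit 4, nat_lit 9, nat_lit 8, nat_lit 2, nat_lit 6, nat_lit 8, nat_lit 0, nat_lit 7, nat_lit 3, nat_lit 0])))))
 (.node (nat_lit 0x959947d9f2621fc) (.node (nat_lit 0x95988dd408edfbc) (.leaf ((nat_lit 0), [nat_lit 4, nat_lit 7, nat_lit 9, nat_lit 5, nat_lit 9, nat_lit 7, nat_lit 1, nat_lit 7, nat_lit 8, nat_lit 7, nat_lit 5, nat_lit 7, nat_lit 5, nat_lit 3, nat_lit 6, nat_lit 4, nat_lit 1])) (.leaf ((nat_lit 0), [nat_lit 1, nat_lit 9, nat_lit 5, nat_lit 4, nat_lit 9, nat_lit 4, nat_lit 0, nat_lit 7, nat_lit 8, nat_lit 2, nat_lit 4, nat_lit 7, nat_lit 2, nat_lit 6, nat_lit 2, nat_lit 4, nat_lit 0]))) (.node (nat_lit 0x9599a4d5a0570bc) (.leaf ((nat_lit 0), [nat_lit 2, nat_lit 7, nat_lit 9, nat_lit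 5, nat_lit 9, nat_lit 3, nat_lit 6, nat_lit 8, nat_lit 5, nat_lit 7, nat_lit 5, nat_lit 1, nat_lit 7, nat_lit 3, nat_lit 6, nat_lit 3, nat_lit 4, nat_lit 1])) (.node (nat_lit 0x959fcfffd640a8c) (.leaf ((nat_lit 0), [nat_lit 3, nat_lit 9, nat_lit 2, nat_lit 1, nat_lit 9, nat_lit 5, nat_lit 7, nat_lit 6, nat_lit 8, nat_lit 1, nat_lit 7, nat_lit 4, nat_lit 6, nat_lit 2, nat_lit 4, nat_lit 2, nat_lit 1])) (.leaf ((nat_lit 0), [nat_lit 9, nat_lit 5, nat_lit 4, nat_lit 9, nat_lit 4, nat_lit 8, nat_lit 6, nat_lit 3, nat_lit 8, nat_lit 7, nat_lit 6, nat_lit 3, nat_lit 3, nat_lit 6, nat_lit 5, nat_lit 4, nat_lit 3])))))))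
 (.node (nat_lit 0x95b1410253549bc) (.node (nat_lit 0x95a6b703cf5838c) (.node (nat_lit 0x95a314f5e0f300c) (.node (nat_lit 0x95a2b7e613a0d4c) (.leaf ((nat_lit 0), [nat_lit 8, nat_lit 7, nat_lit 9, nat_lit 2, nat_lit 1, nat_lit 9, nat_lit 5, nat_lit 7, nat_lit 6, nat_lit 8, nat_lit 6, nat_lit 1, nat_lit 7, nat_lit 2, nat_lit 4, nat_lit 6, nat_lit 2, nat_lit 2])) (.leaf ((nat_lit 0), [nat_lit 8, nat_lit 7, nat_lit 9, nat_lit 2, nat_lit 1, nat_lit 9, nat_lit 4, nat_lit 0, nat_lit 7, nat_lit 8, nat_lit 6, nat_lit 5, nat_lit 6, nat_lit 7, nat_lit 6, nat_lit 4, nat_lit 2, nat_lit 2, nat_lit 1]))) (.node (nat_lit 0x95a3cef130bce0c) (.leaf ((nat_lit 0), [nat_lit 2, nat_lit 7, nat_lit 9, nat_lit 5, nat_lit 9, nat_lit 8, nat_lit 1, nat_lit 7, nat_lit 8, nat_lit 7, nat_lit 1, nat_lit 7, nat_lit 6, nat_lit 5, nat_lit 6, nat_lit 5, nat_lit 4, nat_lit 1])) (.node (nat_lit 0x95a4e61405bb34c)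 (.leaf ((nat_lit 0), [nat_lit 9, nat_lit 5, nat_lit 4, nat_lit 9, nat_lit 0, nat_lit 7, nat_lit 8, nat_lit 7, nat_lit 1, nat_lit 7, nat_lit 4, nat_lit 2, nat_lit 6, nat_lit 5, nat_lit 3, nat_lit 3])) (.leaf ((nat_lit 0), [nat_lit 9, nat_lit 5, nat_lit 4, nat_lit 9, nat_lit 8, nat_lit 5, nat_lit 1, nat_lit 7, nat_lit 6, nat_lit 4, nat_lit 3, nat_lit 6, nat_lit 0])))))
 (.node (nat_lit 0x95a941ee30c4ecc) (.node (nat_lit 0x95a82b0eea4650c) (.leaf ((nat_lit 0), [nat_lit 4, nat_lit 7, nat_lit 9, nat_lit 5, nat_lit 9, nat_lit 2, nat_lit 5, nat_lit 8, nat_lit 5, nat_lit 1, nat_lit 7, nat_lit 3, nat_lit 4, nat_lit 6, nat_lit 4, nat_lit 3])) (.leaf ((nat_lit 0), [nat_lit 8, nat_lit 7, nat_lit 9, nat_lit 2, nat_lit 1, nat_lit 9, nat_lit 8, nat_lit 2, nat_lit 5, nat_lit 8, nat_lit 2, nat_lit 2, nat_lit 6, nat_lit 5, nat_lit 3, nat_lit 4, nat_lit 0]))) (.node (nat_lit 0x95aeb61905df2fc)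 (.leaf ((nat_lit 0), [nat_lit 0, nat_lit 7, nat_lit 0, nat_lit 9, nat_lit 1, nat_lit 9, nat_lit 8, nat_lit 2, nat_lit 6, nat_lit 8, nat_lit 0, nat_lit 7, nat_lit 4, nat_lit 3, nat_lit 6, nat_lit 5, nat_lit 1])) (.node (nat_lit 0x95af701289b797c) (.leaf ((nat_lit 0), [nat_lit 9, nat_lit 5, nat_lit 4, nat_lit 9, nat_lit 2, nat_lit 6, nat_lit 0, nat_lit 8, nat_lit 5, nat_lit 0, nat_lit 7, nat_lit 2, nat_lit 6, nat_lit 2, nat_lit 2])) (.leaf ((nat_lit 0), [nat_lit 6, nat_lit 9, nat_lit 2, nat_lit 1, nat_lit 9, nat_lit 7, nat_lit 8, nat_lit 0, nat_lit 8, nat_lit 4, nat_lit 1, nat_lit 7, nat_lit 4, nat_lit 2, nat_lit 6, nat_lit 5, nat_lit 2]))))))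
 (.node (nat_lit 0x95b827c627d132c) (.node (nat_lit 0x95b2580640aac7c) (.node (nat_lit 0x95b1fb080eca33c) (.leaf ((nat_lit 0), [nat_lit 6, nat_lit 9, nat_lit 2, nat_lit 1, nat_lit 9, nat_lit 0, nat_lit 7, nat_lit 6, nat_lit 5, nat_lit 2, nat_lit 2])) (.leaf ((nat_lit 0), [nat_lit 1, nat_lit 9, nat_lit 5, nat_lit 4, nat_lit 9, nat_lit 8, nat_lit 1, nat_lit 8, nat_lit 7, nat_lit 0, nat_lit 7, nat_lit 5, nat_lit 3]))) (.node (nat_lit 0x95b3cbec58c492c) (.leaf ((nat_lit 0), [nat_lit 9, nat_lit 5, nat_lit 4, nat_lit 9, nat_lit 8, nat_lit 7, nat_lit 5, nat_lit 6, nat_lit 7, nat_lit 3, nat_lit 4, nat_lit 6, nat_lit 3, nat_lit 3])) (.node (nat_lit 0x95b5f9d8b64f3ec) (.leaf ((nat_lit 0), [nat_lit 9, nat_lit 5, nat_lit 4, nat_lit 9, nat_lit 8, nat_lit 0, nat_lit 7, nat_lit 4, nat_lit 3, nat_lit 6, nat_lit 4, nat_lit 1])) (.leaf ((nat_lit 0), [nat_lit 6, nat_lit 9, nat_lit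 2, nat_lit 1, nat_lit 9, nat_lit 8, nat_lit 6, nat_lit 2, nat_lit 8, nat_lit 3, nat_lit 4, nat_lit 7, nat_lit 4, nat_lit 6, nat_lit 5, nat_lit 2, nat_lit 1])))))
 (.node (nat_lit 0x95bdf66584d6b5c) (.node (nat_lit 0x95bd3c5027df89c) (.leaf ((nat_lit 0), [nat_lit 1, nat_lit 9, nat_lit 5, nat_lit 4, nat_lit 9, nat_lit 3, nat_lit 8, nat_lit 7, nat_lit 0, nat_lit 7, nat_lit 3, nat_lit 6, nat_lit 3, nat_lit 3])) (.leaf ((nat_lit 2), [nat_lit 8, nat_lit 1, nat_lit 9, nat_lit 5, nat_lit 9, nat_lit 2, nat_lit 6, nat_lit 3, nat_lit 8, nat_lit 7, nat_lit 3, nat_lit 3, nat_lit 6, nat_lit 3, nat_lit 4, nat_lit 3, nat_lit 1]))) (.node (nat_lit 0x95c02450ce6a19c) (.leaf ((nat_lit 0), [nat_lit 8, nat_lit 6, nat_lit 9, nat_lit 5, nat_lit 9, nat_lit 5, nat_lit 1, nat_lit 8, nat_lit 3, nat_lit 6, nat_lit 1, nat_lit 7, nat_lit 4, nat_lit 2, nat_lit 2, nat_lit 6, nat_lit 2])) (.node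 (nat_lit 0x95c081354f1a79c) (.leaf ((nat_lit 0), [nat_lit 8, nat_lit 6, nat_lit 9, nat_lit 5, nat_lit 9, nat_lit 2, nat_lit 7, nat_lit 6, nat_lit 8, nat_lit 7, nat_lit 5, nat_lit 1, nat_lit 7, nat_lit 4, nat_lit 6, nat_lit 4])) (.leaf ((nat_lit 3), [nat_lit 3, nat_lit 6, nat_lit 8, nat_lit 7, nat_lit 5, nat_lit 0, nat_lit 7, nat_lit 3, nat_lit 3, nat_lit 6, nat_lit 1]))))))))
 (.node (nat_lit 0x95e131ca83c0ea0) (.node (nat_lit 0x95d0dad2d9471d0) (.node (nat_lit 0x95c6adbbe340bfc) (.node (nat_lit 0x95c30bfa7f1297c) (.node (nat_lit 0x95c251e24232abc) (.leaf ((nat_lit 0), [nat_lit 8, nat_lit 6, nat_lit 9, nat_lit 5, nat_lit 9, nat_lit 3, nat_lit 7, nat_lit 0, nat_lit 8, nat_lit 6, nat_lit 3, nat_lit 3, nat_lit 6, nat_lit 4, nat_lit 2])) (.leaf ((nat_lit 3), [nat_lit 1, nat_lit 7, nat_lit 8, nat_lit 5, nat_lit 7, nat_lit 5, nat_lit 7, nat_lit 3, nat_lit 4, nat_lit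 6, nat_lit 5]))) (.node (nat_lit 0x95c47fce9fbd57c) (.leaf ((nat_lit 0), [nat_lit 8, nat_lit 6, nat_lit 9, nat_lit 5, nat_lit 9, nat_lit 8, nat_lit 5, nat_lit 8, nat_lit 6, nat_lit 0, nat_lit 7, nat_lit 5, nat_lit 2, nat_lit 4, nat_lit 1])) (.node (nat_lit 0x95c5f3e0ea714fc) (.leaf ((nat_lit 0), [nat_lit 9, nat_lit 1, nat_lit 8, nat_lit 7, nat_lit 9, nat_lit 2, nat_lit 6, nat_lit 8, nat_lit 7, nat_lit 4, nat_lit 2, nat_lit 2, nat_lit 6, nat_lit 5, nat_lit 4])) (.leaf ((nat_lit 0), [nat_lit 8, nat_lit 1, nat_lit 9, nat_lit 5, nat_lit 9, nat_lit 8, nat_lit 5, nat_lit 1, nat_lit 8, nat_lit 5, nat_lit 6, nat_lit 7, nat_lit 5, nat_lit 6, nat_lit 5, nat_lit 2])))))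
 (.node (nat_lit 0x95cd38f28e12e50) (.node (nat_lit 0x95cc7ef93839090) (.leaf ((nat_lit 0), [nat_lit 9, nat_lit 1, nat_lit 8, nat_lit 7, nat_lit 9, nat_lit 5, nat_lit 7, nat_lit 5, nat_lit 8, nat_lit 7, nat_lit 5, nat_lit 0, nat_lit 7, nat_lit 4, nat_lit 3, nat_lit 6, nat_lit 3, nat_lit 1])) (.leaf ((nat_lit 3), [nat_lit 8, nat_lit 0, nat_lit 7, nat_lit 8, nat_lit 0, nat_lit 7, nat_lit 4, nat_lit 6, nat_lit 5, nat_lit 2, nat_lit 4, nat_lit 2]))) (.node (nat_lit 0x95cdf2e98dffa50) (.leaf ((nat_lit 0), [nat_lit 9, nat_lit 1, nat_lit 8, nat_lit 7, nat_lit 9, nat_lit 4, nat_lit 8, nat_lit 6, nat_lit 3, nat_lit 8, nat_lit 4, nat_lit 1])) (.node (nat_lit 0x95d020db21602d0) (.leaf ((nat_lit 0), [nat_lit 8, nat_lit 6, nat_lit 9, nat_lit 5, nat_lit 9, nat_lit 7, nat_lit 1, nat_lit 8, nat_lit 1, nat_lit 8, nat_lit 7, nat_lit 5, nat_lit 7, nat_lit 3, nat_lit 4, nat_lit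 6, nat_lit 5, nat_lit 4])) (.leaf ((nat_lit 5), [nat_lit 3, nat_lit 9, nat_lit 2, nat_lit 1, nat_lit 9, nat_lit 2, nat_lit 7, nat_lit 6, nat_lit 8, nat_lit 7, nat_lit 5, nat_lit 0, nat_lit 7, nat_lit 5, nat_lit 3, nat_lit 6, nat_lit 1]))))))
 (.node (nat_lit 0x95dbbf3f9b61f70) (.node (nat_lit 0x95d365bc54bb150) (.node (nat_lit 0x95d24ec91cddc50) (.leaf ((nat_lit 0), [nat_lit 8, nat_lit 1, nat_lit 9, nat_lit 5, nat_lit 9, nat_lit 5, nat_lit 1, nat_lit 8, nat_lit 7, nat_lit 3, nat_lit 4, nat_lit 6, nat_lit 3, nat_lit 1])) (.leaf ((nat_lit 0), [nat_lit 8, nat_lit 1, nat_lit 9, nat_lit 5, nat_lit 9, nat_lit 6, nat_lit 8, nat_lit 5, nat_lit 7, nat_lit 5, nat_lit 2, nat_lit 4, nat_lit 3]))) (.node (nat_lit 0x95d47cb4946fb50) (.leaf ((nat_lit 0), [nat_lit 8, nat_lit 1, nat_lit 9, nat_lit 5, nat_lit 9, nat_lit 2, nat_lit 1, nat_lit 8, nat_lit 5, nat_lit 7, nat_lit 5,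 nat_lit 1, nat_lit 7, nat_lit 3, nat_lit 1])) (.node (nat_lit 0x95d536aca853bd0) (.leaf ((nat_lit 0), [nat_lit 8, nat_lit 1, nat_lit 9, nat_lit 5, nat_lit 9, nat_lit 8, nat_lit 2, nat_lit 6, nat_lit 8, nat_lit 1, nat_lit 7, nat_lit 3, nat_lit 3, nat_lit 6, nat_lit 5, nat_lit 4, nat_lit 3])) (.leaf ((nat_lit 2), [nat_lit 8, nat_lit 1, nat_lit 9, nat_lit 5, nat_lit 9, nat_lit 5, nat_lit 8, nat_lit 2, nat_lit 1, nat_lit 8, nat_lit 1, nat_lit 7, nat_lit 6, nat_lit 5, nat_lit 6, nat_lit 3, nat_lit 4, nat_lit 0])))))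
 (.node (nat_lit 0x95dded2c82e8470) (.node (nat_lit 0x95dcd6360f251f0) (.leaf ((nat_lit 0), [nat_lit 4, nat_lit 7, nat_lit 9, nat_lit 5, nat_lit 9, nat_lit 2, nat_lit 7, nat_lit 6, nat_lit 8, nat_lit 6, nat_lit 7, nat_lit 5, nat_lit 0])) (.leaf ((nat_lit 0), [nat_lit 0, nat_lit 7, nat_lit 0, nat_lit 9, nat_lit 1, nat_lit 9, nat_lit 3, nat_lit 0, nat_lit 8, nat_lit 4, nat_lit 7, nat_lit 6, nat_lit 2, nat_lit 2, nat_lit 1]))) (.node (nat_lit 0x95dea71e4cff2b0) (.leaf ((nat_lit 0), [nat_lit 8, nat_lit 7, nat_lit 9, nat_lit 2, nat_lit 1, nat_lit 9, nat_lit 5, nat_lit 7, nat_lit 6, nat_lit 4, nat_lit 3, nat_lit 6, nat_lit 3, nat_lit 4, nat_lit 1])) (.node (nat_lit 0x95dfbddb41f1960) (.leaf ((nat_lit 0), [nat_lit 9, nat_lit 5, nat_lit 4, nat_lit 9, nat_lit 8, nat_lit 7, nat_lit 2, nat_lit 4, nat_lit 7, nat_lit 6, nat_lit 2, nat_lit 4, nat_lit 6, nat_lit 4, nat_lit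 2, nat_lit 1])) (.leaf ((nat_lit 0), [nat_lit 1, nat_lit 9, nat_lit 5, nat_lit 4, nat_lit 9, nat_lit 6, nat_lit 0, nat_lit 8, nat_lit 7, nat_lit 5, nat_lit 7, nat_lit 3, nat_lit 3, nat_lit 6, nat_lit 4, nat_lit 3, nat_lit 3, nat_lit 1])))))))
 (.node (nat_lit 0x95efb99896c5970) (.node (nat_lit 0x95eaa37971a40a0) (.node (nat_lit 0x95e35fb5fb52da0) (.node (nat_lit 0x95e248c4eb641a0) (.leaf ((nat_lit 0), [nat_lit 1, nat_lit 9, nat_lit 5, nat_lit 4, nat_lit 9, nat_lit 8, nat_lit 5, nat_lit 4, nat_lit 7, nat_lit 4, nat_lit 2, nat_lit 6])) (.leaf ((nat_lit 0), [nat_lit 0, nat_lit 7, nat_lit 0, nat_lit 9, nat_lit 1, nat_lit 9, nat_lit 3, nat_lit 0, nat_lit 8, nat_lit 6, nat_lit 1, nat_lit 7, nat_lit 3, nat_lit 3, nat_lit 3, nat_lit 6, nat_lit 5, nat_lit 4, nat_lit 1]))) (.node (nat_lit 0x95e419b53efcc20) (.leaf ((nat_lit 0), [nat_lit 0, nat_lit 7, nat_lit 0, nat_lit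 9, nat_lit 1, nat_lit 9, nat_lit 6, nat_lit 1, nat_lit 8, nat_lit 6, nat_lit 1, nat_lit 7, nat_lit 2, nat_lit 2, nat_lit 6, nat_lit 5, nat_lit 4, nat_lit 3])) (.node (nat_lit 0x95ea467d0bb4ee0) (.leaf ((nat_lit 0), [nat_lit 3, nat_lit 9, nat_lit 2, nat_lit 1, nat_lit 9, nat_lit 7, nat_lit 8, nat_lit 0, nat_lit 8, nat_lit 3, nat_lit 4, nat_lit 7, nat_lit 5, nat_lit 4, nat_lit 2, nat_lit 2])) (.leaf ((nat_lit 0), [nat_lit 3, nat_lit 9, nat_lit 2, nat_lit 1, nat_lit 9, nat_lit 7, nat_lit 1, nat_lit 7, nat_lit 8, nat_lit 6, nat_lit 5, nat_lit 0, nat_lit 7, nat_lit 2, nat_lit 0])))))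
 (.node (nat_lit 0x95ed2e651506920) (.node (nat_lit 0x95eb5d77cf55360) (.leaf ((nat_lit 0), [nat_lit 6, nat_lit 9, nat_lit 2, nat_lit 1, nat_lit 9, nat_lit 7, nat_lit 8, nat_lit 1, nat_lit 8, nat_lit 6, nat_lit 4, nat_lit 2, nat_lit 6, nat_lit 5, nat_lit 3])) (.leaf ((nat_lit 0), [nat_lit 4, nat_lit 7, nat_lit 9, nat_lit 5, nat_lit 9, nat_lit 7, nat_lit 2, nat_lit 1, nat_lit 8, nat_lit 6, nat_lit 3, nat_lit 4, nat_lit 7, nat_lit 6, nat_lit 5, nat_lit 6, nat_lit 4, nat_lit 2]))) (.node (nat_lit 0x95ee459af56a830) (.leaf ((nat_lit 0), [nat_lit 7, nat_lit 0, nat_lit 9, nat_lit 1, nat_lit 9, nat_lit 8, nat_lit 7, nat_lit 1, nat_lit 8, nat_lit 5, nat_lit 7, nat_lit 3, nat_lit 6, nat_lit 2, nat_lit 2, nat_lit 0])) (.node (nat_lit 0x95eeff9da2f8cf0) (.leaf ((nat_lit 0), [nat_lit 6, nat_lit 9, nat_lit 2, nat_lit 1, nat_lit 9, nat_lit 2, nat_lit 7, nat_lit 8, nat_lit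 4, nat_lit 7, nat_lit 3, nat_lit 6, nat_lit 0])) (.leaf ((nat_lit 0), [nat_lit 3, nat_lit 9, nat_lit 2, nat_lit 1, nat_lit 9, nat_lit 3, nat_lit 6, nat_lit 1, nat_lit 7, nat_lit 2, nat_lit 2, nat_lit 6, nat_lit 3, nat_lit 3]))))))
 (.node (nat_lit 0x95fa9f3f6632bcc) (.node (nat_lit 0x95f2a174c477230) (.node (nat_lit 0x95f07387aef2470) (.leaf ((nat_lit 0), [nat_lit 6, nat_lit 9, nat_lit 2, nat_lit 1, nat_lit 9, nat_lit 3, nat_lit 6, nat_lit 7, nat_lit 6, nat_lit 4, nat_lit 3, nat_lit 6, nat_lit 3, nat_lit 0])) (.leaf ((nat_lit 0), [nat_lit 8, nat_lit 7, nat_lit 9, nat_lit 2, nat_lit 1, nat_lit 9, nat_lit 8, nat_lit 5, nat_lit 0, nat_lit 8, nat_lit 7, nat_lit 0, nat_lit 7, nat_lit 4, nat_lit 2, nat_lit 1]))) (.node (nat_lit 0x95f8146e2bfa98c) (.leaf ((nat_lit 0), [nat_lit 3, nat_lit 9, nat_lit 2, nat_lit 1, nat_lit 9, nat_lit 7, nat_lit 1, nat_lit 7, nat_lit 8,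 nat_lit 5, nat_lit 7, nat_lit 5, nat_lit 7, nat_lit 5, nat_lit 3, nat_lit 6, nat_lit 5, nat_lit 0])) (.node (nat_lit 0x95f92b4dfc74d8c) (.leaf ((nat_lit 0), [nat_lit 1, nat_lit 9, nat_lit 5, nat_lit 4, nat_lit 9, nat_lit 8, nat_lit 5, nat_lit 1, nat_lit 8, nat_lit 5, nat_lit 1, nat_lit 7, nat_lit 5, nat_lit 4, nat_lit 2, nat_lit 2, nat_lit 1])) (.leaf ((nat_lit 0), [nat_lit 3, nat_lit 9, nat_lit 2, nat_lit 1, nat_lit 9, nat_lit 2, nat_lit 7, nat_lit 8, nat_lit 5, nat_lit 0, nat_lit 7, nat_lit 4, nat_lit 3, nat_lit 6, nat_lit 4, nat_lit 2])))))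
 (.node (nat_lit 0x95fccd46b6e370c) (.node (nat_lit 0x95fafc56914954c) (.leaf ((nat_lit 0), [nat_lit 6, nat_lit 9, nat_lit 2, nat_lit 1, nat_lit 9, nat_lit 4, nat_lit 7, nat_lit 8, nat_lit 1, nat_lit 7, nat_lit 5, nat_lit 6, nat_lit 3, nat_lit 3, nat_lit 0])) (.leaf ((nat_lit 0), [nat_lit 8, nat_lit 7, nat_lit 9, nat_lit 2, nat_lit 1, nat_lit 9, nat_lit 5, nat_lit 7, nat_lit 6, nat_lit 8, nat_lit 6, nat_lit 5, nat_lit 0, nat_lit 7, nat_lit 4]))) (.node (nat_lit 0x95fd86e8e8dbf8c) (.leaf ((nat_lit 0), [nat_lit 2, nat_lit 7, nat_lit 9, nat_lit 5, nat_lit 9, nat_lit 6, nat_lit 8, nat_lit 6, nat_lit 5, nat_lit 7, nat_lit 2, nat_lit 2, nat_lit 6, nat_lit 2, nat_lit 2])) (.node (nat_lit 0x95fe40f7720a5cc) (.leaf ((nat_lit 0), [nat_lit 1, nat_lit 9, nat_lit 5, nat_lit 4, nat_lit 9, nat_lit 8, nat_lit 1, nat_lit 8, nat_lit 3, nat_lit 4, nat_lit 7, nat_lit 6, nat_lit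 2, nat_lit 2, nat_lit 6, nat_lit 2])) (.leaf ((nat_lit 0), [nat_lit 9, nat_lit 5, nat_lit 4, nat_lit 9, nat_lit 6, nat_lit 3, nat_lit 1, nat_lit 8, nat_lit 3, nat_lit 4, nat_lit 7, nat_lit 6, nat_lit 5, nat_lit 6, nat_lit 5, nat_lit 3, nat_lit 4]))))))))))
 (.node (nat_lit 0x968c14082f74e74) (.node (nat_lit 0x9643fedec51c81c) (.node (nat_lit 0x962464a1b9f5dcc) (.node (nat_lit 0x960ddfc29e9c6dc) (.node (nat_lit 0x960983a768ff5bc) (.node (nat_lit 0x960128dcc971ccc) (.node (nat_lit 0x960011d48c3e80c) (.leaf ((nat_lit 0), [nat_lit 2, nat_lit 7, nat_lit 9, nat_lit 5, nat_lit 9, nat_lit 8, nat_lit 5, nat_lit 8, nat_lit 2, nat_lit 4, nat_lit 7, nat_lit 6, nat_lit 3, nat_lit 4, nat_lit 6, nat_lit 3])) (.leaf ((nat_lit 0), [nat_lit 3, nat_lit 9, nat_lit 2, nat_lit 1, nat_lit 9, nat_lit 7, nat_lit 8, nat_lit 1, nat_lit 8, nat_lit 6, nat_lit 7, nat_lit 4, nat_lit 2, nat_lit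 6, nat_lit 4, nat_lit 3, nat_lit 3]))) (.node (nat_lit 0x9606f8bded8b63c) (.leaf ((nat_lit 0), [nat_lit 8, nat_lit 7, nat_lit 9, nat_lit 2, nat_lit 1, nat_lit 9, nat_lit 5, nat_lit 7, nat_lit 5, nat_lit 8, nat_lit 6, nat_lit 0, nat_lit 7, nat_lit 6, nat_lit 3, nat_lit 4, nat_lit 6])) (.node (nat_lit 0x9607b2b77163cbc) (.leaf ((nat_lit 0), [nat_lit 8, nat_lit 1, nat_lit 9, nat_lit 5, nat_lit 9, nat_lit 6, nat_lit 8, nat_lit 3, nat_lit 6, nat_lit 1, nat_lit 7, nat_lit 3, nat_lit 6, nat_lit 4, nat_lit 3, nat_lit 3, nat_lit 0])) (.leaf ((nat_lit 2), [nat_lit 9, nat_lit 5, nat_lit 4, nat_lit 9, nat_lit 5, nat_lit 8, nat_lit 2, nat_lit 4, nat_lit 7, nat_lit 4, nat_lit 6, nat_lit 5, nat_lit 3, nat_lit 3, nat_lit 3])))))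
 (.node (nat_lit 0x960a3d82ebca6fc) (.node (nat_lit 0x9609e084b9e9dbc) (.leaf ((nat_lit 5), [nat_lit 9, nat_lit 1, nat_lit 8, nat_lit 7, nat_lit 9, nat_lit 3, nat_lit 5, nat_lit 6, nat_lit 8, nat_lit 7, nat_lit 0, nat_lit 7, nat_lit 4, nat_lit 3, nat_lit 6, nat_lit 4])) (.leaf ((nat_lit 0), [nat_lit 9, nat_lit 1, nat_lit 8, nat_lit 7, nat_lit 9, nat_lit 2, nat_lit 8, nat_lit 5, nat_lit 7, nat_lit 5, nat_lit 0, nat_lit 7, nat_lit 3, nat_lit 4, nat_lit 6, nat_lit 5, nat_lit 2]))) (.node (nat_lit 0x960c6bb419c9f1c) (.leaf ((nat_lit 0), [nat_lit 9, nat_lit 1, nat_lit 8, nat_lit 7, nat_lit 9, nat_lit 1, nat_lit 7, nat_lit 8, nat_lit 7, nat_lit 5, nat_lit 7, nat_lit 3, nat_lit 6, nat_lit 3, nat_lit 3])) (.node (nat_lit 0x960d25c9a4bfa9c) (.leaf ((nat_lit 0), [nat_lit 8, nat_lit 6, nat_lit 9, nat_lit 5, nat_lit 9, nat_lit 7, nat_lit 2, nat_lit 1, nat_lit 8, nat_lit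 7, nat_lit 4, nat_lit 3, nat_lit 6, nat_lit 5, nat_lit 4, nat_lit 3, nat_lit 1])) (.leaf ((nat_lit 5), [nat_lit 8, nat_lit 6, nat_lit 9, nat_lit 5, nat_lit 9, nat_lit 7, nat_lit 8, nat_lit 1, nat_lit 8, nat_lit 4, nat_lit 0, nat_lit 7, nat_lit 5, nat_lit 2, nat_lit 4, nat_lit 2, nat_lit 1]))))))
 (.node (nat_lit 0x96186999c9d7c2c) (.node (nat_lit 0x961581c4cbec16c) (.node (nat_lit 0x960fb0b23a3ae5c) (.leaf ((nat_lit 0), [nat_lit 9, nat_lit 1, nat_lit 8, nat_lit 7, nat_lit 9, nat_lit 2, nat_lit 6, nat_lit 8, nat_lit 5, nat_lit 3, nat_lit 6, nat_lit 2, nat_lit 0])) (.leaf ((nat_lit 0), [nat_lit 8, nat_lit 1, nat_lit 9, nat_lit 5, nat_lit 9, nat_lit 2, nat_lit 5, nat_lit 8, nat_lit 0, nat_lit 7, nat_lit 4, nat_lit 2, nat_lit 2, nat_lit 6, nat_lit 5, nat_lit 3, nat_lit 3, nat_lit 0]))) (.node (nat_lit 0x96163bbe21c5f2c) (.leaf ((nat_lit 0), [nat_lit 6, nat_lit 9,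 nat_lit 2, nat_lit 1, nat_lit 9, nat_lit 8, nat_lit 5, nat_lit 1, nat_lit 8, nat_lit 2, nat_lit 6, nat_lit 5, nat_lit 1])) (.node (nat_lit 0x9617afb157754ec) (.leaf ((nat_lit 0), [nat_lit 3, nat_lit 9, nat_lit 2, nat_lit 1, nat_lit 9, nat_lit 3, nat_lit 7, nat_lit 8, nat_lit 5, nat_lit 0, nat_lit 7, nat_lit 4, nat_lit 6, nat_lit 5, nat_lit 2, nat_lit 0])) (.leaf ((nat_lit 0), [nat_lit 9, nat_lit 5, nat_lit 4, nat_lit 9, nat_lit 3, nat_lit 3, nat_lit 8, nat_lit 7, nat_lit 5, nat_lit 7, nat_lit 5, nat_lit 6, nat_lit 5, nat_lit 3, nat_lit 1])))))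
 (.node (nat_lit 0x961bae8f1c8f8fc) (.node (nat_lit 0x96192394bda48ac) (.leaf ((nat_lit 0), [nat_lit 4, nat_lit 7, nat_lit 9, nat_lit 5, nat_lit 9, nat_lit 8, nat_lit 5, nat_lit 8, nat_lit 3, nat_lit 4, nat_lit 7, nat_lit 2, nat_lit 2, nat_lit 6, nat_lit 4, nat_lit 2])) (.leaf ((nat_lit 0), [nat_lit 2, nat_lit 7, nat_lit 9, nat_lit 5, nat_lit 9, nat_lit 0, nat_lit 8, nat_lit 5, nat_lit 1, nat_lit 7, nat_lit 6, nat_lit 2, nat_lit 2, nat_lit 6, nat_lit 4, nat_lit 2, nat_lit 0]))) (.node (nat_lit 0x961c6888166c53c) (.leaf ((nat_lit 0), [nat_lit 7, nat_lit 0, nat_lit 9, nat_lit 1, nat_lit 9, nat_lit 5, nat_lit 7, nat_lit 5, nat_lit 8, nat_lit 4, nat_lit 7, nat_lit 3, nat_lit 3, nat_lit 6, nat_lit 4, nat_lit 3])) (.node (nat_lit 0x961e967473f6ffc) (.leaf ((nat_lit 0), [nat_lit 8, nat_lit 7, nat_lit 9, nat_lit 2, nat_lit 1, nat_lit 9, nat_lit 2, nat_lit 7, nat_lit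 8, nat_lit 3, nat_lit 4, nat_lit 7, nat_lit 6, nat_lit 5, nat_lit 6, nat_lit 4, nat_lit 3, nat_lit 3, nat_lit 3])) (.leaf ((nat_lit 0), [nat_lit 0, nat_lit 7, nat_lit 0, nat_lit 9, nat_lit 1, nat_lit 9, nat_lit 6, nat_lit 1, nat_lit 8, nat_lit 2, nat_lit 4, nat_lit 7, nat_lit 4, nat_lit 2, nat_lit 2, nat_lit 6, nat_lit 5, nat_lit 0])))))))
 (.node (nat_lit 0x96351baae12ff3c) (.node (nat_lit 0x962b4ba63d0910c) (.node (nat_lit 0x9626928e178088c) (.node (nat_lit 0x962635918392e0c) (.leaf ((nat_lit 0), [nat_lit 0, nat_lit 7, nat_lit 0, nat_lit 9, nat_lit 1, nat_lit 9, nat_lit 8, nat_lit 1, nat_lit 8, nat_lit 6, nat_lit 5, nat_lit 7, nat_lit 3, nat_lit 6, nat_lit 5, nat_lit 2, nat_lit 4, nat_lit 1])) (.leaf ((nat_lit 0), [nat_lit 0, nat_lit 7, nat_lit 0, nat_lit 9, nat_lit 1, nat_lit 9, nat_lit 2, nat_lit 7, nat_lit 8, nat_lit 6, nat_lit 5, nat_lit 1, nat_lit 7, nat_lit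 6, nat_lit 2]))) (.node (nat_lit 0x9628c08fd65e48c) (.leaf ((nat_lit 0), [nat_lit 3, nat_lit 9, nat_lit 2, nat_lit 1, nat_lit 9, nat_lit 2, nat_lit 7, nat_lit 8, nat_lit 5, nat_lit 4, nat_lit 7, nat_lit 5, nat_lit 4, nat_lit 3, nat_lit 3, nat_lit 3, nat_lit 0])) (.node (nat_lit 0x9629d7b2ab5c9cc) (.leaf ((nat_lit 0), [nat_lit 1, nat_lit 9, nat_lit 5, nat_lit 4, nat_lit 9, nat_lit 7, nat_lit 8, nat_lit 0, nat_lit 8, nat_lit 7, nat_lit 5, nat_lit 2, nat_lit 4, nat_lit 0])) (.leaf ((nat_lit 0), [nat_lit 6, nat_lit 9, nat_lit 2, nat_lit 1, nat_lit 9, nat_lit 4, nat_lit 7, nat_lit 6, nat_lit 8, nat_lit 5, nat_lit 6, nat_lit 2, nat_lit 1])))))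
 (.node (nat_lit 0x962d1cae47e1e8c) (.node (nat_lit 0x962c059f64e460c) (.leaf ((nat_lit 0), [nat_lit 3, nat_lit 9, nat_lit 2, nat_lit 1, nat_lit 9, nat_lit 6, nat_lit 5, nat_lit 6, nat_lit 7, nat_lit 4, nat_lit 2, nat_lit 2, nat_lit 6, nat_lit 2, nat_lit 1])) (.leaf ((nat_lit 0), [nat_lit 8, nat_lit 7, nat_lit 9, nat_lit 2, nat_lit 1, nat_lit 9, nat_lit 7, nat_lit 1, nat_lit 7, nat_lit 8, nat_lit 7, nat_lit 5, nat_lit 7, nat_lit 6, nat_lit 3, nat_lit 4, nat_lit 6, nat_lit 4, nat_lit 1]))) (.node (nat_lit 0x96334ac7d92bc3c) (.leaf ((nat_lit 0), [nat_lit 7, nat_lit 0, nat_lit 9, nat_lit 1, nat_lit 9, nat_lit 8, nat_lit 1, nat_lit 8, nat_lit 7, nat_lit 6, nat_lit 5, nat_lit 3, nat_lit 6, nat_lit 2, nat_lit 2])) (.node (nat_lit 0x963461b15d578bc) (.leaf ((nat_lit 0), [nat_lit 4, nat_lit 7, nat_lit 9, nat_lit 5, nat_lit 9, nat_lit 8, nat_lit 7, nat_lit 0, nat_lit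 8, nat_lit 7, nat_lit 0, nat_lit 7, nat_lit 2, nat_lit 6, nat_lit 4, nat_lit 2])) (.leaf ((nat_lit 0), [nat_lit 2, nat_lit 7, nat_lit 9, nat_lit 5, nat_lit 9, nat_lit 8, nat_lit 5, nat_lit 8, nat_lit 6, nat_lit 0, nat_lit 7, nat_lit 5, nat_lit 6, nat_lit 3, nat_lit 1]))))))
 (.node (nat_lit 0x9639d492df9c2ec) (.node (nat_lit 0x96374999f0a4d3c) (.node (nat_lit 0x9635d5b0f8a2a3c) (.leaf ((nat_lit 0), [nat_lit 4, nat_lit 7, nat_lit 9, nat_lit 5, nat_lit 9, nat_lit 8, nat_lit 5, nat_lit 8, nat_lit 5, nat_lit 7, nat_lit 5, nat_lit 7, nat_lit 6, nat_lit 5, nat_lit 0])) (.leaf ((nat_lit 0), [nat_lit 3, nat_lit 9, nat_lit 2, nat_lit 1, nat_lit 9, nat_lit 7, nat_lit 8, nat_lit 1, nat_lit 8, nat_lit 5, nat_lit 4, nat_lit 7, nat_lit 6, nat_lit 5, nat_lit 6, nat_lit 5, nat_lit 2, nat_lit 2]))) (.node (nat_lit 0x9637a6a204357bc) (.leaf ((nat_lit 0), [nat_lit 3, nat_lit 9,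 nat_lit 2, nat_lit 1, nat_lit 9, nat_lit 7, nat_lit 8, nat_lit 1, nat_lit 8, nat_lit 6, nat_lit 7, nat_lit 5, nat_lit 3, nat_lit 6, nat_lit 4, nat_lit 3, nat_lit 0])) (.node (nat_lit 0x9638bd8afe65fac) (.leaf ((nat_lit 0), [nat_lit 2, nat_lit 7, nat_lit 9, nat_lit 5, nat_lit 9, nat_lit 5, nat_lit 8, nat_lit 0, nat_lit 8, nat_lit 0, nat_lit 7, nat_lit 6, nat_lit 5, nat_lit 4, nat_lit 3, nat_lit 3])) (.leaf ((nat_lit 0), [nat_lit 4, nat_lit 7, nat_lit 9, nat_lit 5, nat_lit 9, nat_lit 5, nat_lit 8, nat_lit 5, nat_lit 8, nat_lit 4, nat_lit 7, nat_lit 6, nat_lit 3, nat_lit 3, nat_lit 6, nat_lit 4])))))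
 (.node (nat_lit 0x963ba5710dc79ac) (.node (nat_lit 0x963aeb7841e962c) (.leaf ((nat_lit 0), [nat_lit 1, nat_lit 9, nat_lit 5, nat_lit 4, nat_lit 9, nat_lit 8, nat_lit 4, nat_lit 1, nat_lit 7, nat_lit 4, nat_lit 6, nat_lit 4, nat_lit 2, nat_lit 2])) (.leaf ((nat_lit 0), [nat_lit 3, nat_lit 9, nat_lit 2, nat_lit 1, nat_lit 9, nat_lit 7, nat_lit 5, nat_lit 8, nat_lit 0, nat_lit 8, nat_lit 4, nat_lit 2, nat_lit 6, nat_lit 5, nat_lit 4, nat_lit 3]))) (.node (nat_lit 0x9641d10d2cb951c) (.leaf ((nat_lit 0), [nat_lit 2, nat_lit 7, nat_lit 9, nat_lit 5, nat_lit 9, nat_lit 5, nat_lit 8, nat_lit 5, nat_lit 8, nat_lit 3, nat_lit 4, nat_lit 7, nat_lit 4, nat_lit 3, nat_lit 6, nat_lit 2, nat_lit 0])) (.node (nat_lit 0x9643a1e2312ed9c) (.leaf ((nat_lit 0), [nat_lit 8, nat_lit 6, nat_lit 9, nat_lit 5, nat_lit 9, nat_lit 2, nat_lit 7, nat_lit 6, nat_lit 8, nat_lit 5, nat_lit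 1, nat_lit 7, nat_lit 6, nat_lit 4, nat_lit 3, nat_lit 6, nat_lit 3, nat_lit 4, nat_lit 3])) (.leaf ((nat_lit 0), [nat_lit 8, nat_lit 6, nat_lit 9, nat_lit 5, nat_lit 9, nat_lit 8, nat_lit 1, nat_lit 8, nat_lit 4, nat_lit 0, nat_lit 7, nat_lit 2, nat_lit 2, nat_lit 6, nat_lit 5, nat_lit 1]))))))))
 (.node (nat_lit 0x9661613adf134f4) (.node (nat_lit 0x9652d9801fa96c0) (.node (nat_lit 0x964914713b6cbbc) (.node (nat_lit 0x9645cfeac3d561c) (.node (nat_lit 0x964515d732cfadc) (.leaf ((nat_lit 3), [nat_lit 8, nat_lit 5, nat_lit 0, nat_lit 7, nat_lit 3, nat_lit 4, nat_lit 6, nat_lit 2, nat_lit 2, nat_lit 0])) (.leaf ((nat_lit 2), [nat_lit 2, nat_lit 7, nat_lit 9, nat_lit 5, nat_lit 9, nat_lit 8, nat_lit 0, nat_lit 8, nat_lit 3, nat_lit 4, nat_lit 7, nat_lit 2, nat_lit 4, nat_lit 6, nat_lit 5, nat_lit 2, nat_lit 0]))) (.node (nat_lit 0x9646e683c9eac7c) (.leaf ((nat_lit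 0), [nat_lit 8, nat_lit 6, nat_lit 9, nat_lit 5, nat_lit 9, nat_lit 2, nat_lit 6, nat_lit 1, nat_lit 8, nat_lit 1, nat_lit 7, nat_lit 4, nat_lit 6, nat_lit 4, nat_lit 3, nat_lit 1])) (.node (nat_lit 0x96485a96fa977bc) (.leaf ((nat_lit 0), [nat_lit 9, nat_lit 1, nat_lit 8, nat_lit 7, nat_lit 9, nat_lit 1, nat_lit 8, nat_lit 7, nat_lit 5, nat_lit 0, nat_lit 7, nat_lit 6, nat_lit 5, nat_lit 3, nat_lit 4, nat_lit 1])) (.leaf ((nat_lit 0), [nat_lit 8, nat_lit 6, nat_lit 9, nat_lit 5, nat_lit 9, nat_lit 8, nat_lit 5, nat_lit 1, nat_lit 8, nat_lit 3, nat_lit 4, nat_lit 7])))))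
 (.node (nat_lit 0x9650abb79767ae0) (.node (nat_lit 0x9649ce6a074af3c) (.leaf ((nat_lit 3), [nat_lit 8, nat_lit 5, nat_lit 8, nat_lit 5, nat_lit 0, nat_lit 7, nat_lit 4, nat_lit 3, nat_lit 6, nat_lit 3])) (.leaf ((nat_lit 0), [nat_lit 9, nat_lit 1, nat_lit 8, nat_lit 7, nat_lit 9, nat_lit 2, nat_lit 7, nat_lit 8, nat_lit 7, nat_lit 6, nat_lit 3, nat_lit 4, nat_lit 6, nat_lit 3]))) (.node (nat_lit 0x9650abbfad2dee8) (.leaf ((nat_lit 6), [nat_lit 5, nat_lit 6, nat_lit 9, nat_lit 6, nat_lit 8, nat_lit 0, nat_lit 8, nat_lit 4, nat_lit 1, nat_lit 7, nat_lit 2, nat_lit 4, nat_lit 0])) (.node (nat_lit 0x9650abc7c2f31e0) (.leaf ((nat_lit 6), [nat_lit 7, nat_lit 5, nat_lit 1, nat_lit 9, nat_lit 8, nat_lit 1, nat_lit 8, nat_lit 6, nat_lit 7, nat_lit 6, nat_lit 4, nat_lit 2, nat_lit 6, nat_lit 4, nat_lit 2, nat_lit 2, nat_lit 0])) (.leaf ((nat_lit 6), [nat_lit 5, nat_lit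 8, nat_lit 7, nat_lit 9, nat_lit 7, nat_lit 1, nat_lit 7, nat_lit 8, nat_lit 6, nat_lit 5, nat_lit 7, nat_lit 2, nat_lit 2, nat_lit 6, nat_lit 5, nat_lit 0]))))))
 (.node (nat_lit 0x9659c0308cbc1b4) (.node (nat_lit 0x9654ddef4b4ed84) (.node (nat_lit 0x965336621c6002c) (.leaf ((nat_lit 3), [nat_lit 6, nat_lit 9, nat_lit 5, nat_lit 3, nat_lit 1, nat_lit 9, nat_lit 6, nat_lit 0, nat_lit 8, nat_lit 1, nat_lit 7, nat_lit 4, nat_lit 6, nat_lit 3, nat_lit 3, nat_lit 1])) (.leaf ((nat_lit 0), [nat_lit 2, nat_lit 6, nat_lit 3, nat_lit 8, nat_lit 4, nat_lit 7, nat_lit 6, nat_lit 3, nat_lit 4, nat_lit 6, nat_lit 3, nat_lit 4, nat_lit 3]))) (.node (nat_lit 0x965768fba1be974) (.leaf ((nat_lit 0), [nat_lit 7, nat_lit 8, nat_lit 1, nat_lit 8, nat_lit 2, nat_lit 4, nat_lit 7, nat_lit 4, nat_lit 3, nat_lit 3, nat_lit 6, nat_lit 2, nat_lit 4])) (.node (nat_lit 0x9657c5f07be35b0)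 (.leaf ((nat_lit 2), [nat_lit 6, nat_lit 9, nat_lit 2, nat_lit 1, nat_lit 9, nat_lit 2, nat_lit 8, nat_lit 6, nat_lit 7, nat_lit 2, nat_lit 4, nat_lit 3, nat_lit 6, nat_lit 3, nat_lit 4, nat_lit 1])) (.leaf ((nat_lit 2), [nat_lit 5, nat_lit 2, nat_lit 8, nat_lit 4, nat_lit 7, nat_lit 3, nat_lit 4, nat_lit 3, nat_lit 3, nat_lit 6, nat_lit 1])))))
 (.node (nat_lit 0x96607da1960a5f8) (.node (nat_lit 0x9660209e004dd5c) (.leaf ((nat_lit 3), [nat_lit 2, nat_lit 7, nat_lit 9, nat_lit 5, nat_lit 9, nat_lit 3, nat_lit 6, nat_lit 3, nat_lit 8, nat_lit 7, nat_lit 0, nat_lit 7, nat_lit 3, nat_lit 6, nat_lit 5, nat_lit 3, nat_lit 1])) (.leaf ((nat_lit 1), [nat_lit 2, nat_lit 2, nat_lit 9, nat_lit 1, nat_lit 9, nat_lit 5, nat_lit 8, nat_lit 5, nat_lit 8, nat_lit 5, nat_lit 3, nat_lit 6, nat_lit 5, nat_lit 2, nat_lit 4, nat_lit 1]))) (.node (nat_lit 0x9661612ab39de94) (.leaf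 ((nat_lit 0), [nat_lit 6, nat_lit 2, nat_lit 8, nat_lit 7, nat_lit 3, nat_lit 4, nat_lit 7, nat_lit 6, nat_lit 5, nat_lit 3])) (.node (nat_lit 0x96616132c96318c) (.leaf ((nat_lit 3), [nat_lit 6, nat_lit 9, nat_lit 2, nat_lit 1, nat_lit 9, nat_lit 7, nat_lit 2, nat_lit 5, nat_lit 8, nat_lit 3, nat_lit 6, nat_lit 7, nat_lit 3, nat_lit 6, nat_lit 5])) (.leaf ((nat_lit 3), [nat_lit 2, nat_lit 9, nat_lit 3, nat_lit 5, nat_lit 9, nat_lit 7, nat_lit 5, nat_lit 8, nat_lit 4, nat_lit 6, nat_lit 5, nat_lit 4, nat_lit 3])))))))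
 (.node (nat_lit 0x96715cb41b81fe4) (.node (nat_lit 0x966e748225f7954) (.node (nat_lit 0x96655fd69fd2a08) (.node (nat_lit 0x966331e92e49080) (.leaf ((nat_lit 3), [nat_lit 7, nat_lit 9, nat_lit 2, nat_lit 1, nat_lit 9, nat_lit 8, nat_lit 7, nat_lit 1, nat_lit 8, nat_lit 5, nat_lit 7, nat_lit 5, nat_lit 7, nat_lit 2, nat_lit 6, nat_lit 2, nat_lit 4, nat_lit 1])) (.leaf ((nat_lit 3), [nat_lit 2, nat_lit 2, nat_lit 9, nat_lit 1, nat_lit 9, nat_lit 3, nat_lit 5, nat_lit 8, nat_lit 6, nat_lit 0, nat_lit 7, nat_lit 3, nat_lit 4, nat_lit 6, nat_lit 2]))) (.node (nat_lit 0x9667c169e6346a4) (.leaf ((nat_lit 0), [nat_lit 7, nat_lit 6, nat_lit 8, nat_lit 7, nat_lit 5, nat_lit 7, nat_lit 2, nat_lit 6, nat_lit 4])) (.node (nat_lit 0x96681e4cc8f8444) (.leaf ((nat_lit 1), [nat_lit 2, nat_lit 7, nat_lit 9, nat_lit 5, nat_lit 9, nat_lit 5, nat_lit 2, nat_lit 8, nat_lit 2, nat_lit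 6, nat_lit 5, nat_lit 4, nat_lit 3, nat_lit 0])) (.leaf ((nat_lit 1), [nat_lit 6, nat_lit 9, nat_lit 5, nat_lit 3, nat_lit 1, nat_lit 9, nat_lit 8, nat_lit 5, nat_lit 8, nat_lit 4, nat_lit 7, nat_lit 3, nat_lit 4, nat_lit 6, nat_lit 3, nat_lit 4])))))
 (.node (nat_lit 0x9670d60b5caabf0) (.node (nat_lit 0x966ed18c3386794) (.leaf ((nat_lit 1), [nat_lit 7, nat_lit 9, nat_lit 2, nat_lit 1, nat_lit 9, nat_lit 7, nat_lit 8, nat_lit 7, nat_lit 1, nat_lit 8, nat_lit 7, nat_lit 6, nat_lit 5, nat_lit 3, nat_lit 6, nat_lit 5, nat_lit 2, nat_lit 2])) (.leaf ((nat_lit 0), [nat_lit 7, nat_lit 4, nat_lit 2, nat_lit 6, nat_lit 3, nat_lit 3, nat_lit 1]))) (.node (nat_lit 0x96715ca3effd4f4) (.leaf ((nat_lit 2), [nat_lit 7, nat_lit 9, nat_lit 2, nat_lit 1, nat_lit 9, nat_lit 8, nat_lit 5, nat_lit 0, nat_lit 7, nat_lit 5, nat_lit 6, nat_lit 4, nat_lit 2])) (.node (nat_lit 0x96715cac05ade0c)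 (.leaf ((nat_lit 2), [nat_lit 7, nat_lit 9, nat_lit 2, nat_lit 1, nat_lit 9, nat_lit 6, nat_lit 0, nat_lit 8, nat_lit 7, nat_lit 5, nat_lit 1, nat_lit 7, nat_lit 4, nat_lit 2, nat_lit 6, nat_lit 3, nat_lit 4])) (.leaf ((nat_lit 2), [nat_lit 6, nat_lit 7, nat_lit 1, nat_lit 8, nat_lit 6, nat_lit 1, nat_lit 7, nat_lit 6, nat_lit 5, nat_lit 6, nat_lit 5, nat_lit 3, nat_lit 4, nat_lit 1]))))))
 (.node (nat_lit 0x9680177557e2e64) (.node (nat_lit 0x96755b62b999b6c) (.node (nat_lit 0x967304130966d9c) (.leaf ((nat_lit 2), [nat_lit 6, nat_lit 9, nat_lit 5, nat_lit 9, nat_lit 0, nat_lit 7, nat_lit 8, nat_lit 5, nat_lit 7, nat_lit 2, nat_lit 4, nat_lit 6, nat_lit 3, nat_lit 1])) (.leaf ((nat_lit 0), [nat_lit 1, nat_lit 8, nat_lit 6, nat_lit 5, nat_lit 6, nat_lit 7, nat_lit 4, nat_lit 3, nat_lit 3]))) (.node (nat_lit 0x9675b8522ff8bc4) (.leaf ((nat_lit 1), [nat_lit 2, nat_lit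 9, nat_lit 3, nat_lit 5, nat_lit 9, nat_lit 3, nat_lit 0, nat_lit 8, nat_lit 7, nat_lit 0, nat_lit 7, nat_lit 5, nat_lit 6, nat_lit 3, nat_lit 4, nat_lit 3, nat_lit 3, nat_lit 0])) (.node (nat_lit 0x967e6fedbacd540) (.leaf ((nat_lit 1), [nat_lit 0, nat_lit 7, nat_lit 0, nat_lit 9, nat_lit 1, nat_lit 9, nat_lit 8, nat_lit 5, nat_lit 2, nat_lit 8, nat_lit 7, nat_lit 2, nat_lit 4, nat_lit 7, nat_lit 5, nat_lit 3, nat_lit 6])) (.leaf ((nat_lit 1), [nat_lit 6, nat_lit 9, nat_lit 5, nat_lit 3, nat_lit 1, nat_lit 9, nat_lit 7, nat_lit 8, nat_lit 0, nat_lit 8, nat_lit 7, nat_lit 6, nat_lit 2, nat_lit 4, nat_lit 6, nat_lit 5, nat_lit 1])))))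
 (.node (nat_lit 0x9682ff68b2d1430) (.node (nat_lit 0x9680746e53f41b0) (.leaf ((nat_lit 1), [nat_lit 6, nat_lit 9, nat_lit 2, nat_lit 1, nat_lit 9, nat_lit 2, nat_lit 2, nat_lit 8, nat_lit 7, nat_lit 5, nat_lit 6, nat_lit 7, nat_lit 4, nat_lit 3, nat_lit 6, nat_lit 5, nat_lit 2, nat_lit 0])) (.leaf ((nat_lit 0), [nat_lit 6, nat_lit 8, nat_lit 0, nat_lit 8, nat_lit 7, nat_lit 3, nat_lit 4, nat_lit 7, nat_lit 2, nat_lit 6, nat_lit 0]))) (.node (nat_lit 0x96835c737853c38) (.leaf ((nat_lit 0), [nat_lit 7, nat_lit 8, nat_lit 3, nat_lit 6, nat_lit 1, nat_lit 7, nat_lit 2, nat_lit 2, nat_lit 6, nat_lit 2, nat_lit 4])) (.node (nat_lit 0x9685b3bd0cbe9c0) (.leaf ((nat_lit 0), [nat_lit 8, nat_lit 0, nat_lit 8, nat_lit 7, nat_lit 1, nat_lit 7, nat_lit 6, nat_lit 5, nat_lit 6, nat_lit 3, nat_lit 3])) (.leaf ((nat_lit 0), [nat_lit 2, nat_lit 1, nat_lit 8, nat_lit 0, nat_lit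 7, nat_lit 4, nat_lit 2, nat_lit 6, nat_lit 3, nat_lit 3, nat_lit 1])))))))))
 (.node (nat_lit 0x96c9a0c16b9c928) (.node (nat_lit 0x96ae6290ac928a0) (.node (nat_lit 0x969ef77d0a734a4) (.node (nat_lit 0x969358043dfc5b4) (.node (nat_lit 0x968f254fc57f634) (.node (nat_lit 0x968ec85bd1528ec) (.leaf ((nat_lit 2), [nat_lit 8, nat_lit 5, nat_lit 0, nat_lit 8, nat_lit 5, nat_lit 0, nat_lit 7, nat_lit 5, nat_lit 6, nat_lit 5, nat_lit 3, nat_lit 6, nat_lit 2, nat_lit 4, nat_lit 3])) (.leaf ((nat_lit 0), [nat_lit 8, nat_lit 6, nat_lit 3, nat_lit 1, nat_lit 8, nat_lit 5, nat_lit 6, nat_lit 5, nat_lit 2, nat_lit 4, nat_lit 0]))) (.node (nat_lit 0x9690f663abf0980) (.leaf ((nat_lit 3), [nat_lit 6, nat_lit 9, nat_lit 2, nat_lit 1, nat_lit 9, nat_lit 6, nat_lit 0, nat_lit 8, nat_lit 7, nat_lit 5, nat_lit 7, nat_lit 6, nat_lit 5, nat_lit 6, nat_lit 3, nat_lit 0])) (.node (nat_lit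 0x9691536b6392494) (.leaf ((nat_lit 1), [nat_lit 2, nat_lit 2, nat_lit 9, nat_lit 1, nat_lit 9, nat_lit 1, nat_lit 8, nat_lit 7, nat_lit 1, nat_lit 8, nat_lit 7, nat_lit 5, nat_lit 3, nat_lit 6, nat_lit 5, nat_lit 2, nat_lit 4, nat_lit 0])) (.leaf ((nat_lit 1), [nat_lit 6, nat_lit 9, nat_lit 5, nat_lit 3, nat_lit 1, nat_lit 9, nat_lit 5, nat_lit 7, nat_lit 8, nat_lit 5, nat_lit 1, nat_lit 7, nat_lit 3, nat_lit 3, nat_lit 6, nat_lit 5, nat_lit 4, nat_lit 0])))))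
 (.node (nat_lit 0x969a67f40ed8e14) (.node (nat_lit 0x969a0afbcacfd04) (.leaf ((nat_lit 2), [nat_lit 0, nat_lit 7, nat_lit 0, nat_lit 9, nat_lit 1, nat_lit 9, nat_lit 6, nat_lit 8, nat_lit 2, nat_lit 2, nat_lit 6])) (.leaf ((nat_lit 1), [nat_lit 0, nat_lit 7, nat_lit 0, nat_lit 9, nat_lit 1, nat_lit 9, nat_lit 6, nat_lit 0, nat_lit 8, nat_lit 3, nat_lit 3, nat_lit 6, nat_lit 3]))) (.node (nat_lit 0x969c0f7ffbd2104) (.leaf ((nat_lit 3), [nat_lit 2, nat_lit 9, nat_lit 3, nat_lit 5, nat_lit 9, nat_lit 8, nat_lit 5, nat_lit 0, nat_lit 8, nat_lit 6, nat_lit 3, nat_lit 3, nat_lit 6, nat_lit 3, nat_lit 3, nat_lit 1])) (.node (nat_lit 0x969c6c8bd53db78) (.leaf ((nat_lit 2), [nat_lit 6, nat_lit 9, nat_lit 6, nat_lit 0, nat_lit 9, nat_lit 5, nat_lit 6, nat_lit 8, nat_lit 6, nat_lit 7, nat_lit 6, nat_lit 2, nat_lit 0])) (.leaf ((nat_lit 0), [nat_lit 5, nat_lit 7, nat_lit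 8, nat_lit 6, nat_lit 0, nat_lit 7, nat_lit 3, nat_lit 6, nat_lit 5, nat_lit 4, nat_lit 2]))))))
 (.node (nat_lit 0x96a94cda18be854) (.node (nat_lit 0x96a1abd69a2edac) (.node (nat_lit 0x96a14ed41862eec) (.leaf ((nat_lit 1), [nat_lit 2, nat_lit 7, nat_lit 9, nat_lit 5, nat_lit 9, nat_lit 5, nat_lit 6, nat_lit 8, nat_lit 3, nat_lit 6, nat_lit 7, nat_lit 3, nat_lit 6, nat_lit 5, nat_lit 3, nat_lit 3, nat_lit 0])) (.leaf ((nat_lit 3), [nat_lit 2, nat_lit 2, nat_lit 9, nat_lit 0, nat_lit 9, nat_lit 8, nat_lit 7, nat_lit 8, nat_lit 5, nat_lit 8, nat_lit 7, nat_lit 5, nat_lit 0, nat_lit 7, nat_lit 4, nat_lit 2, nat_lit 6, nat_lit 5]))) (.node (nat_lit 0x96a94cc9ed39a8c) (.leaf ((nat_lit 3), [nat_lit 9, nat_lit 7, nat_lit 5, nat_lit 0, nat_lit 9, nat_lit 2, nat_lit 7, nat_lit 6, nat_lit 8, nat_lit 5, nat_lit 0, nat_lit 7, nat_lit 5, nat_lit 0])) (.node (nat_lit 0x96a94cd20306660)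 (.leaf ((nat_lit 6), [nat_lit 2, nat_lit 1, nat_lit 7, nat_lit 9, nat_lit 2, nat_lit 5, nat_lit 8, nat_lit 5, nat_lit 0, nat_lit 7, nat_lit 6, nat_lit 5, nat_lit 4, nat_lit 0])) (.leaf ((nat_lit 2), [nat_lit 2, nat_lit 2, nat_lit 9, nat_lit 0, nat_lit 9, nat_lit 7, nat_lit 5, nat_lit 0, nat_lit 8, nat_lit 5, nat_lit 7, nat_lit 5, nat_lit 1, nat_lit 7, nat_lit 5, nat_lit 2])))))
 (.node (nat_lit 0x96ac34702026a54) (.node (nat_lit 0x96abd791e959184) (.leaf ((nat_lit 3), [nat_lit 2, nat_lit 7, nat_lit 9, nat_lit 5, nat_lit 9, nat_lit 6, nat_lit 1, nat_lit 8, nat_lit 7, nat_lit 5, nat_lit 7, nat_lit 3, nat_lit 6, nat_lit 2, nat_lit 4, nat_lit 0])) (.leaf ((nat_lit 1), [nat_lit 2, nat_lit 7, nat_lit 9, nat_lit 5, nat_lit 9, nat_lit 2, nat_lit 6, nat_lit 8, nat_lit 7, nat_lit 5, nat_lit 1, nat_lit 7, nat_lit 4, nat_lit 3, nat_lit 6, nat_lit 4, nat_lit 2]))) (.node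 (nat_lit 0x96ac68311639470) (.leaf ((nat_lit 0), [nat_lit 2, nat_lit 6, nat_lit 3, nat_lit 8, nat_lit 7, nat_lit 0, nat_lit 7, nat_lit 3, nat_lit 6, nat_lit 2, nat_lit 4, nat_lit 0])) (.node (nat_lit 0x96ae628868c7134) (.leaf ((nat_lit 1), [nat_lit 9, nat_lit 7, nat_lit 5, nat_lit 0, nat_lit 9, nat_lit 3, nat_lit 6, nat_lit 8, nat_lit 6, nat_lit 3, nat_lit 3, nat_lit 6, nat_lit 3, nat_lit 0])) (.leaf ((nat_lit 6), [nat_lit 2, nat_lit 7, nat_lit 9, nat_lit 5, nat_lit 9, nat_lit 2, nat_lit 6, nat_lit 2, nat_lit 8, nat_lit 4, nat_lit 0, nat_lit 7, nat_lit 5, nat_lit 6, nat_lit 5, nat_lit 4, nat_lit 3, nat_lit 3])))))))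
 (.node (nat_lit 0x96bc300227bed88) (.node (nat_lit 0x96b74db594ad384) (.node (nat_lit 0x96afacdbd93e59c) (.node (nat_lit 0x96ae62930287064) (.leaf ((nat_lit 3), [nat_lit 9, nat_lit 7, nat_lit 5, nat_lit 0, nat_lit 9, nat_lit 5, nat_lit 8, nat_lit 7, nat_lit 0, nat_lit 7, nat_lit 6, nat_lit 3, nat_lit 3, nat_lit 6, nat_lit 5, nat_lit 2, nat_lit 0])) (.leaf ((nat_lit 2), [nat_lit 6, nat_lit 9, nat_lit 5, nat_lit 9, nat_lit 6, nat_lit 8, nat_lit 1, nat_lit 8, nat_lit 4, nat_lit 7, nat_lit 4, nat_lit 2, nat_lit 0]))) (.node (nat_lit 0x96b033468784908) (.leaf ((nat_lit 0), [nat_lit 3, nat_lit 3, nat_lit 8, nat_lit 7, nat_lit 1, nat_lit 7, nat_lit 4, nat_lit 3, nat_lit 6, nat_lit 5, nat_lit 4, nat_lit 2, nat_lit 1])) (.node (nat_lit 0x96b09035cfd61c0) (.leaf ((nat_lit 0), [nat_lit 8, nat_lit 6, nat_lit 3, nat_lit 8, nat_lit 7, nat_lit 4, nat_lit 2, nat_lit 2])) (.leaf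 ((nat_lit 0), [nat_lit 7, nat_lit 8, nat_lit 6, nat_lit 3, nat_lit 4, nat_lit 6, nat_lit 5, nat_lit 3, nat_lit 3, nat_lit 1])))))
 (.node (nat_lit 0x96ba023d097daa4) (.node (nat_lit 0x96b7aacc91d3a9c) (.leaf ((nat_lit 1), [nat_lit 2, nat_lit 2, nat_lit 9, nat_lit 0, nat_lit 9, nat_lit 6, nat_lit 8, nat_lit 6, nat_lit 3, nat_lit 4, nat_lit 7, nat_lit 5, nat_lit 6, nat_lit 5, nat_lit 3, nat_lit 6, nat_lit 4, nat_lit 0])) (.leaf ((nat_lit 2), [nat_lit 1, nat_lit 9, nat_lit 0, nat_lit 9, nat_lit 7, nat_lit 8, nat_lit 0, nat_lit 8, nat_lit 3, nat_lit 3, nat_lit 6, nat_lit 3, nat_lit 4]))) (.node (nat_lit 0x96ba02451f26ae0) (.leaf ((nat_lit 2), [nat_lit 4, nat_lit 1, nat_lit 9, nat_lit 5, nat_lit 9, nat_lit 7, nat_lit 8, nat_lit 1, nat_lit 8, nat_lit 1, nat_lit 7, nat_lit 5, nat_lit 6])) (.node (nat_lit 0x96ba024d34f398c) (.leaf ((nat_lit 3), [nat_lit 2, nat_lit 2,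 nat_lit 9, nat_lit 1, nat_lit 9, nat_lit 7, nat_lit 6, nat_lit 8, nat_lit 4, nat_lit 1, nat_lit 7, nat_lit 6, nat_lit 5, nat_lit 3, nat_lit 6])) (.leaf ((nat_lit 6), [nat_lit 5, nat_lit 8, nat_lit 4, nat_lit 9, nat_lit 6, nat_lit 0, nat_lit 7, nat_lit 5, nat_lit 6, nat_lit 3, nat_lit 4, nat_lit 0]))))))
 (.node (nat_lit 0x96c0bf53fb16084) (.node (nat_lit 0x96bebafe95190b4) (.node (nat_lit 0x96bc8cde92a90ec) (.leaf ((nat_lit 0), [nat_lit 4, nat_lit 8, nat_lit 1, nat_lit 8, nat_lit 5, nat_lit 1, nat_lit 7, nat_lit 4, nat_lit 6, nat_lit 0])) (.leaf ((nat_lit 1), [nat_lit 2, nat_lit 2, nat_lit 9, nat_lit 0, nat_lit 9, nat_lit 8, nat_lit 7, nat_lit 0, nat_lit 8, nat_lit 7, nat_lit 2, nat_lit 6, nat_lit 0]))) (.node (nat_lit 0x96bebb06d8cfcd4) (.leaf ((nat_lit 6), [nat_lit 8, nat_lit 6, nat_lit 1, nat_lit 9, nat_lit 8, nat_lit 5, nat_lit 7, nat_lit 6, nat_lit 5, nat_lit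 2, nat_lit 4, nat_lit 1])) (.node (nat_lit 0x96bebb092eb52e0) (.leaf ((nat_lit 3), [nat_lit 0, nat_lit 7, nat_lit 0, nat_lit 9, nat_lit 1, nat_lit 9, nat_lit 7, nat_lit 8, nat_lit 0, nat_lit 8, nat_lit 1, nat_lit 7, nat_lit 5, nat_lit 6, nat_lit 5, nat_lit 3, nat_lit 6, nat_lit 4, nat_lit 3])) (.leaf ((nat_lit 2), [nat_lit 7, nat_lit 9, nat_lit 2, nat_lit 1, nat_lit 9, nat_lit 6, nat_lit 1, nat_lit 8, nat_lit 2, nat_lit 4, nat_lit 3, nat_lit 6, nat_lit 3, nat_lit 3])))))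
 (.node (nat_lit 0x96c7a63d5c70c84) (.node (nat_lit 0x96c772b10abc4b4) (.leaf ((nat_lit 2), [nat_lit 6, nat_lit 7, nat_lit 2, nat_lit 1, nat_lit 8, nat_lit 7, nat_lit 0, nat_lit 7, nat_lit 2, nat_lit 4, nat_lit 6, nat_lit 3, nat_lit 4, nat_lit 3, nat_lit 0])) (.leaf ((nat_lit 3), [nat_lit 0, nat_lit 7, nat_lit 0, nat_lit 9, nat_lit 1, nat_lit 9, nat_lit 4, nat_lit 7, nat_lit 8, nat_lit 7, nat_lit 3, nat_lit 4, nat_lit 7, nat_lit 2, nat_lit 4, nat_lit 6]))) (.node (nat_lit 0x96c80330c69a81c) (.leaf ((nat_lit 0), [nat_lit 1, nat_lit 8, nat_lit 6, nat_lit 5, nat_lit 0, nat_lit 7, nat_lit 4, nat_lit 2, nat_lit 2, nat_lit 6, nat_lit 4, nat_lit 2, nat_lit 0])) (.node (nat_lit 0x96c9a0b955e4734) (.leaf ((nat_lit 2), [nat_lit 5, nat_lit 9, nat_lit 6, nat_lit 4, nat_lit 9, nat_lit 4, nat_lit 0, nat_lit 7, nat_lit 8, nat_lit 1, nat_lit 7, nat_lit 4, nat_lit 6, nat_lit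 2, nat_lit 0])) (.leaf ((nat_lit 3), [nat_lit 6, nat_lit 9, nat_lit 5, nat_lit 3, nat_lit 1, nat_lit 9, nat_lit 4, nat_lit 3, nat_lit 8, nat_lit 7, nat_lit 1, nat_lit 7, nat_lit 3, nat_lit 4, nat_lit 6, nat_lit 5, nat_lit 2, nat_lit 2, nat_lit 1]))))))))
 (.node (nat_lit 0x96eaae8654b44d4) (.node (nat_lit 0x96d62dc898f05f0) (.node (nat_lit 0x96cf1374c1564e8) (.node (nat_lit 0x96cba4fc968299c) (.node (nat_lit 0x96c9a0c98153734) (.leaf ((nat_lit 6), [nat_lit 2, nat_lit 8, nat_lit 3, nat_lit 1, nat_lit 9, nat_lit 5, nat_lit 2, nat_lit 8, nat_lit 5, nat_lit 4, nat_lit 7, nat_lit 2, nat_lit 6, nat_lit 5, nat_lit 2, nat_lit 1])) (.leaf ((nat_lit 2), [nat_lit 7, nat_lit 9, nat_lit 2, nat_lit 1, nat_lit 9, nat_lit 2, nat_lit 5, nat_lit 8, nat_lit 5, nat_lit 1, nat_lit 7, nat_lit 6, nat_lit 3, nat_lit 3, nat_lit 1]))) (.node (nat_lit 0x96cc01f170a06f0) (.leaf ((nat_lit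 1), [nat_lit 9, nat_lit 7, nat_lit 5, nat_lit 0, nat_lit 9, nat_lit 6, nat_lit 3, nat_lit 0, nat_lit 8, nat_lit 2, nat_lit 4, nat_lit 7, nat_lit 4, nat_lit 2, nat_lit 6, nat_lit 5, nat_lit 0])) (.node (nat_lit 0x96cc885b0ae7b94) (.leaf ((nat_lit 1), [nat_lit 2, nat_lit 2, nat_lit 9, nat_lit 0, nat_lit 9, nat_lit 6, nat_lit 3, nat_lit 1, nat_lit 8, nat_lit 0, nat_lit 7, nat_lit 5, nat_lit 2, nat_lit 0])) (.leaf ((nat_lit 3), [nat_lit 7, nat_lit 9, nat_lit 2, nat_lit 1, nat_lit 9, nat_lit 5, nat_lit 6, nat_lit 8, nat_lit 5, nat_lit 7, nat_lit 5, nat_lit 7, nat_lit 4, nat_lit 2, nat_lit 2, nat_lit 6, nat_lit 5])))))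
 (.node (nat_lit 0x96cf137f5b073cc) (.node (nat_lit 0x96cf137d050be8c) (.leaf ((nat_lit 6), [nat_lit 2, nat_lit 9, nat_lit 2, nat_lit 7, nat_lit 6, nat_lit 8, nat_lit 5, nat_lit 0, nat_lit 7, nat_lit 2, nat_lit 2, nat_lit 6, nat_lit 5, nat_lit 4, nat_lit 2, nat_lit 1])) (.leaf ((nat_lit 3), [nat_lit 2, nat_lit 2, nat_lit 9, nat_lit 0, nat_lit 9, nat_lit 8, nat_lit 5, nat_lit 3, nat_lit 6, nat_lit 2, nat_lit 2, nat_lit 0]))) (.node (nat_lit 0x96d5fa21b019580) (.leaf ((nat_lit 2), [nat_lit 6, nat_lit 9, nat_lit 2, nat_lit 1, nat_lit 9, nat_lit 6, nat_lit 3, nat_lit 1, nat_lit 8, nat_lit 1, nat_lit 7, nat_lit 4, nat_lit 3, nat_lit 6, nat_lit 4])) (.node (nat_lit 0x96d62dc08323744) (.leaf ((nat_lit 0), [nat_lit 1, nat_lit 8, nat_lit 0, nat_lit 7, nat_lit 2, nat_lit 6, nat_lit 5, nat_lit 2])) (.leaf ((nat_lit 2), [nat_lit 8, nat_lit 5, nat_lit 2, nat_lit 8, nat_lit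 6, nat_lit 5, nat_lit 0, nat_lit 7, nat_lit 3, nat_lit 3, nat_lit 6, nat_lit 5, nat_lit 1]))))))
 (.node (nat_lit 0x96da55f4d9553f4) (.node (nat_lit 0x96d885531db22a0) (.node (nat_lit 0x96d62dce2acab34) (.leaf ((nat_lit 3), [nat_lit 9, nat_lit 7, nat_lit 5, nat_lit 0, nat_lit 9, nat_lit 7, nat_lit 1, nat_lit 7, nat_lit 8, nat_lit 5, nat_lit 7, nat_lit 4, nat_lit 6, nat_lit 3, nat_lit 4, nat_lit 0])) (.leaf ((nat_lit 6), [nat_lit 4, nat_lit 7, nat_lit 9, nat_lit 5, nat_lit 9, nat_lit 1, nat_lit 8, nat_lit 6, nat_lit 0, nat_lit 7, nat_lit 2, nat_lit 2, nat_lit 6, nat_lit 5]))) (.node (nat_lit 0x96d8e243a808d28) (.leaf ((nat_lit 1), [nat_lit 2, nat_lit 2, nat_lit 9, nat_lit 0, nat_lit 9, nat_lit 4, nat_lit 8, nat_lit 2, nat_lit 1, nat_lit 8, nat_lit 0, nat_lit 7, nat_lit 5, nat_lit 6, nat_lit 4, nat_lit 2, nat_lit 0])) (.node (nat_lit 0x96d9f9033b074ec) (.leaf ((nat_lit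 3), [nat_lit 6, nat_lit 9, nat_lit 2, nat_lit 1, nat_lit 9, nat_lit 6, nat_lit 3, nat_lit 8, nat_lit 4, nat_lit 0, nat_lit 7, nat_lit 6, nat_lit 3, nat_lit 4, nat_lit 6, nat_lit 4, nat_lit 3, nat_lit 3, nat_lit 1])) (.leaf ((nat_lit 2), [nat_lit 9, nat_lit 6, nat_lit 3, nat_lit 9, nat_lit 6, nat_lit 5, nat_lit 8, nat_lit 0, nat_lit 8, nat_lit 6, nat_lit 0, nat_lit 7, nat_lit 3, nat_lit 6, nat_lit 3, nat_lit 3])))))
 (.node (nat_lit 0x96e424dccdb6194) (.node (nat_lit 0x96dc84372ca8220) (.leaf ((nat_lit 2), [nat_lit 8, nat_lit 2, nat_lit 5, nat_lit 8, nat_lit 3, nat_lit 4, nat_lit 7, nat_lit 2, nat_lit 2, nat_lit 6, nat_lit 5, nat_lit 4, nat_lit 2, nat_lit 0])) (.leaf ((nat_lit 1), [nat_lit 9, nat_lit 7, nat_lit 5, nat_lit 0, nat_lit 9, nat_lit 3, nat_lit 5, nat_lit 8, nat_lit 7, nat_lit 2, nat_lit 4, nat_lit 7, nat_lit 3, nat_lit 6, nat_lit 5, nat_lit 3, nat_lit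 4, nat_lit 1]))) (.node (nat_lit 0x96e6528ff49d1ec) (.leaf ((nat_lit 1), [nat_lit 2, nat_lit 7, nat_lit 9, nat_lit 5, nat_lit 9, nat_lit 7, nat_lit 8, nat_lit 4, nat_lit 6, nat_lit 3, nat_lit 1])) (.node (nat_lit 0x96e6afa01dde140) (.leaf ((nat_lit 1), [nat_lit 9, nat_lit 7, nat_lit 5, nat_lit 0, nat_lit 9, nat_lit 8, nat_lit 6, nat_lit 3, nat_lit 1, nat_lit 8, nat_lit 4, nat_lit 7, nat_lit 4, nat_lit 3, nat_lit 3, nat_lit 6, nat_lit 3, nat_lit 3])) (.leaf ((nat_lit 0), [nat_lit 7, nat_lit 1, nat_lit 8, nat_lit 7, nat_lit 5, nat_lit 7, nat_lit 6, nat_lit 4, nat_lit 3, nat_lit 3])))))))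
 (.node (nat_lit 0x96f81f3c12ed70c) (.node (nat_lit 0x96f1c8e564661b0) (.node (nat_lit 0x96ecdc931dbff34) (.node (nat_lit 0x96eb0b7b8ae5448) (.leaf ((nat_lit 1), [nat_lit 7, nat_lit 9, nat_lit 2, nat_lit 1, nat_lit 9, nat_lit 8, nat_lit 7, nat_lit 0, nat_lit 8, nat_lit 6, nat_lit 7, nat_lit 2, nat_lit 4, nat_lit 6, nat_lit 3])) (.leaf ((nat_lit 1), [nat_lit 6, nat_lit 9, nat_lit 2, nat_lit 1, nat_lit 9, nat_lit 8, nat_lit 7, nat_lit 3, nat_lit 4, nat_lit 7, nat_lit 2, nat_lit 6, nat_lit 5, nat_lit 4, nat_lit 2, nat_lit 2]))) (.node (nat_lit 0x96f1c8d7bce2ac4) (.leaf ((nat_lit 3), [nat_lit 2, nat_lit 9, nat_lit 3, nat_lit 5, nat_lit 9, nat_lit 2, nat_lit 6, nat_lit 8, nat_lit 3, nat_lit 4, nat_lit 7, nat_lit 4, nat_lit 3, nat_lit 6, nat_lit 2, nat_lit 2, nat_lit 0])) (.node (nat_lit 0x96f1c8dfd29ae24) (.leaf ((nat_lit 6), [nat_lit 1, nat_lit 8, nat_lit 7, nat_lit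 5, nat_lit 0, nat_lit 7, nat_lit 6, nat_lit 3, nat_lit 3, nat_lit 6, nat_lit 2])) (.leaf ((nat_lit 2), [nat_lit 6, nat_lit 9, nat_lit 2, nat_lit 1, nat_lit 9, nat_lit 5, nat_lit 8, nat_lit 3, nat_lit 6, nat_lit 1, nat_lit 7, nat_lit 3, nat_lit 4, nat_lit 3])))))
 (.node (nat_lit 0x96f4da71deca50c) (.node (nat_lit 0x96f47d60739aba4) (.leaf ((nat_lit 3), [nat_lit 2, nat_lit 2, nat_lit 9, nat_lit 0, nat_lit 9, nat_lit 7, nat_lit 8, nat_lit 5, nat_lit 8, nat_lit 3, nat_lit 3, nat_lit 6, nat_lit 3, nat_lit 4, nat_lit 3])) (.leaf ((nat_lit 0), [nat_lit 2, nat_lit 6, nat_lit 1, nat_lit 8, nat_lit 5, nat_lit 7, nat_lit 4, nat_lit 6, nat_lit 2]))) (.node (nat_lit 0x96f6aafddd23894) (.leaf ((nat_lit 3), [nat_lit 7, nat_lit 9, nat_lit 2, nat_lit 1, nat_lit 9, nat_lit 7, nat_lit 5, nat_lit 8, nat_lit 6, nat_lit 7, nat_lit 3, nat_lit 4, nat_lit 6, nat_lit 4, nat_lit 3, nat_lit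 0])) (.node (nat_lit 0x96f7c2514861874) (.leaf ((nat_lit 2), [nat_lit 7, nat_lit 1, nat_lit 8, nat_lit 5, nat_lit 7, nat_lit 6, nat_lit 2, nat_lit 4, nat_lit 6, nat_lit 3, nat_lit 4, nat_lit 0])) (.leaf ((nat_lit 0), [nat_lit 5, nat_lit 6, nat_lit 8, nat_lit 3, nat_lit 4, nat_lit 3, nat_lit 3, nat_lit 6, nat_lit 5, nat_lit 2, nat_lit 4, nat_lit 1]))))))
 (.node (nat_lit 0x9701909a6edc948) (.node (nat_lit 0x96f852a8b114bdc) (.node (nat_lit 0x96f852a09b5daf8) (.leaf ((nat_lit 0), [nat_lit 5, nat_lit 0, nat_lit 7, nat_lit 8, nat_lit 2, nat_lit 6, nat_lit 5, nat_lit 2, nat_lit 4])) (.leaf ((nat_lit 3), [nat_lit 0, nat_lit 7, nat_lit 0, nat_lit 9, nat_lit 1, nat_lit 9, nat_lit 2, nat_lit 1, nat_lit 8, nat_lit 7, nat_lit 0, nat_lit 7, nat_lit 6, nat_lit 3, nat_lit 3, nat_lit 6, nat_lit 5, nat_lit 2]))) (.node (nat_lit 0x96f852ae42f5e9c) (.leaf ((nat_lit 6), [nat_lit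 4, nat_lit 8, nat_lit 2, nat_lit 9, nat_lit 2, nat_lit 6, nat_lit 3, nat_lit 8, nat_lit 6, nat_lit 7, nat_lit 6, nat_lit 5, nat_lit 6, nat_lit 4, nat_lit 3, nat_lit 0])) (.node (nat_lit 0x96faa9ef65a5c44) (.leaf ((nat_lit 2), [nat_lit 2, nat_lit 7, nat_lit 9, nat_lit 5, nat_lit 9, nat_lit 5, nat_lit 1, nat_lit 8, nat_lit 3, nat_lit 6, nat_lit 7, nat_lit 4, nat_lit 3, nat_lit 1])) (.leaf ((nat_lit 0), [nat_lit 4, nat_lit 8, nat_lit 1, nat_lit 8, nat_lit 1, nat_lit 7, nat_lit 6, nat_lit 3, nat_lit 3, nat_lit 6, nat_lit 2, nat_lit 1])))))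
 (.node (nat_lit 0x9703381bf0227dc) (.node (nat_lit 0x9701ed895b31080) (.leaf ((nat_lit 1), [nat_lit 2, nat_lit 7, nat_lit 9, nat_lit 5, nat_lit 9, nat_lit 3, nat_lit 8, nat_lit 5, nat_lit 7, nat_lit 5, nat_lit 0, nat_lit 7, nat_lit 2, nat_lit 6, nat_lit 3, nat_lit 4, nat_lit 3, nat_lit 3])) (.leaf ((nat_lit 2), [nat_lit 0, nat_lit 9, nat_lit 3, nat_lit 5, nat_lit 9, nat_lit 3, nat_lit 5, nat_lit 8, nat_lit 7, nat_lit 5, nat_lit 1, nat_lit 7, nat_lit 5, nat_lit 3, nat_lit 6, nat_lit 2]))) (.node (nat_lit 0x97033821affba24) (.leaf ((nat_lit 2), [nat_lit 6, nat_lit 9, nat_lit 5, nat_lit 3, nat_lit 1, nat_lit 9, nat_lit 2, nat_lit 1, nat_lit 8, nat_lit 4, nat_lit 3, nat_lit 6, nat_lit 4, nat_lit 2, nat_lit 2, nat_lit 0])) (.node (nat_lit 0x97033829c5c0bb0) (.leaf ((nat_lit 2), [nat_lit 2, nat_lit 2, nat_lit 9, nat_lit 0, nat_lit 9, nat_lit 2, nat_lit 1, nat_lit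 8, nat_lit 4, nat_lit 1, nat_lit 7, nat_lit 3, nat_lit 3, nat_lit 6, nat_lit 4])) (.leaf ((nat_lit 2), [nat_lit 6, nat_lit 9, nat_lit 2, nat_lit 1, nat_lit 9, nat_lit 6, nat_lit 0, nat_lit 8, nat_lit 4, nat_lit 1, nat_lit 7, nat_lit 6, nat_lit 3, nat_lit 4, nat_lit 6, nat_lit 4, nat_lit 0])))))))))))
 (.node (nat_lit 0xab7d7ebf16d4e9c) (.node (nat_lit 0xa78be997a6f4cbc) (.node (nat_lit 0x973d7fbee4391c8) (.node (nat_lit 0x9716a20eb2d1d40) (.node (nat_lit 0x971018621de498c) (.node (nat_lit 0x970877a85d72e4c) (.node (nat_lit 0x9705ec7b11aa414) (.node (nat_lit 0x97041bbd4effe60) (.leaf ((nat_lit 1), [nat_lit 2, nat_lit 2, nat_lit 9, nat_lit 1, nat_lit 9, nat_lit 5, nat_lit 8, nat_lit 1, nat_lit 8, nat_lit 3, nat_lit 6, nat_lit 4])) (.leaf ((nat_lit 0), [nat_lit 1, nat_lit 8, nat_lit 6, nat_lit 2, nat_lit 4, nat_lit 7, nat_lit 4, nat_lit 3, nat_lit 6, nat_lit 0])))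 (.node (nat_lit 0x97081ab9431fe54) (.leaf ((nat_lit 2), [nat_lit 7, nat_lit 8, nat_lit 5, nat_lit 8, nat_lit 3, nat_lit 6, nat_lit 1, nat_lit 7, nat_lit 4, nat_lit 6, nat_lit 5, nat_lit 2, nat_lit 4, nat_lit 3, nat_lit 1])) (.leaf ((nat_lit 1), [nat_lit 6, nat_lit 9, nat_lit 2, nat_lit 1, nat_lit 9, nat_lit 2, nat_lit 6, nat_lit 0, nat_lit 8, nat_lit 5, nat_lit 1, nat_lit 7, nat_lit 2, nat_lit 6, nat_lit 5]))))
 (.node (nat_lit 0x970a1f1355053b8) (.node (nat_lit 0x970a1f0d672d8b0) (.leaf ((nat_lit 1), [nat_lit 2, nat_lit 2, nat_lit 9, nat_lit 0, nat_lit 9, nat_lit 8, nat_lit 4, nat_lit 7, nat_lit 4, nat_lit 2, nat_lit 2, nat_lit 6, nat_lit 5, nat_lit 2, nat_lit 4, nat_lit 3])) (.leaf ((nat_lit 2), [nat_lit 2, nat_lit 2, nat_lit 9, nat_lit 0, nat_lit 9, nat_lit 4, nat_lit 0, nat_lit 7, nat_lit 8, nat_lit 5, nat_lit 7, nat_lit 6, nat_lit 2, nat_lit 2, nat_lit 0])))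 (.node (nat_lit 0x970a1f1b3ccbdf0) (.leaf ((nat_lit 3), [nat_lit 6, nat_lit 9, nat_lit 2, nat_lit 1, nat_lit 9, nat_lit 6, nat_lit 0, nat_lit 8, nat_lit 0, nat_lit 7, nat_lit 2, nat_lit 4, nat_lit 6, nat_lit 4, nat_lit 3, nat_lit 3])) (.node (nat_lit 0x970fbb63621698c) (.leaf ((nat_lit 6), [nat_lit 5, nat_lit 7, nat_lit 5, nat_lit 8, nat_lit 6, nat_lit 2, nat_lit 4, nat_lit 7, nat_lit 2, nat_lit 2, nat_lit 6, nat_lit 4, nat_lit 2, nat_lit 1])) (.leaf ((nat_lit 3), [nat_lit 9, nat_lit 7, nat_lit 5, nat_lit 0, nat_lit 9, nat_lit 6, nat_lit 3, nat_lit 8, nat_lit 4, nat_lit 7, nat_lit 4, nat_lit 2, nat_lit 2, nat_lit 6, nat_lit 2, nat_lit 4, nat_lit 2, nat_lit 0]))))))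
 (.node (nat_lit 0x97144a99d1cbc30) (.node (nat_lit 0x971245fd5f8df34) (.node (nat_lit 0x9711e91295089d4) (.leaf ((nat_lit 0), [nat_lit 7, nat_lit 8, nat_lit 7, nat_lit 5, nat_lit 1, nat_lit 7, nat_lit 4, nat_lit 2, nat_lit 1])) (.leaf ((nat_lit 0), [nat_lit 2, nat_lit 5, nat_lit 8, nat_lit 3, nat_lit 4, nat_lit 7, nat_lit 3, nat_lit 6, nat_lit 5, nat_lit 2, nat_lit 0]))) (.node (nat_lit 0x97144a8bfc513f4) (.leaf ((nat_lit 2), [nat_lit 3, nat_lit 9, nat_lit 2, nat_lit 1, nat_lit 9, nat_lit 5, nat_lit 6, nat_lit 8, nat_lit 7, nat_lit 0, nat_lit 7, nat_lit 2, nat_lit 4, nat_lit 6, nat_lit 5, nat_lit 2, nat_lit 4, nat_lit 1])) (.node (nat_lit 0x97144a91bc1b75c) (.leaf ((nat_lit 6), [nat_lit 7, nat_lit 3, nat_lit 9, nat_lit 3, nat_lit 5, nat_lit 6, nat_lit 8, nat_lit 5, nat_lit 7, nat_lit 6, nat_lit 4, nat_lit 2, nat_lit 6, nat_lit 2, nat_lit 1])) (.leaf ((nat_lit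 6), [nat_lit 6, nat_lit 9, nat_lit 2, nat_lit 1, nat_lit 9, nat_lit 4, nat_lit 8, nat_lit 0, nat_lit 8, nat_lit 5, nat_lit 7, nat_lit 2, nat_lit 6, nat_lit 5, nat_lit 0])))))
 (.node (nat_lit 0x9715beb15255adc) (.node (nat_lit 0x9715beab6493ac4) (.leaf ((nat_lit 6), [nat_lit 5, nat_lit 4, nat_lit 9, nat_lit 6, nat_lit 3, nat_lit 8, nat_lit 5, nat_lit 6, nat_lit 7, nat_lit 3, nat_lit 6, nat_lit 5, nat_lit 2, nat_lit 4, nat_lit 2])) (.leaf ((nat_lit 2), [nat_lit 2, nat_lit 6, nat_lit 2, nat_lit 8, nat_lit 5, nat_lit 7, nat_lit 3, nat_lit 3, nat_lit 3, nat_lit 6, nat_lit 4, nat_lit 3, nat_lit 1]))) (.node (nat_lit 0x9715beb93a2b3f4) (.leaf ((nat_lit 3), [nat_lit 7, nat_lit 9, nat_lit 2, nat_lit 1, nat_lit 9, nat_lit 6, nat_lit 1, nat_lit 8, nat_lit 6, nat_lit 3, nat_lit 4, nat_lit 7, nat_lit 5, nat_lit 6, nat_lit 3, nat_lit 3])) (.node (nat_lit 0x971644f16bfac54)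 (.leaf ((nat_lit 6), [nat_lit 5, nat_lit 6, nat_lit 7, nat_lit 9, nat_lit 3, nat_lit 5, nat_lit 8, nat_lit 2, nat_lit 4, nat_lit 7, nat_lit 6, nat_lit 5, nat_lit 6, nat_lit 5, nat_lit 4, nat_lit 3, nat_lit 1])) (.leaf ((nat_lit 1), [nat_lit 2, nat_lit 9, nat_lit 3, nat_lit 5, nat_lit 9, nat_lit 4, nat_lit 8, nat_lit 0, nat_lit 8, nat_lit 7, nat_lit 5, nat_lit 7, nat_lit 0])))))))
 (.node (nat_lit 0x972617277ea7a5c) (.node (nat_lit 0x971f8d3adf40a78) (.node (nat_lit 0x9718734138cbf74) (.node (nat_lit 0x9718162a97b8be8) (.leaf ((nat_lit 1), [nat_lit 2, nat_lit 2, nat_lit 9, nat_lit 1, nat_lit 9, nat_lit 7, nat_lit 8, nat_lit 0, nat_lit 8, nat_lit 6, nat_lit 7, nat_lit 2, nat_lit 2, nat_lit 6, nat_lit 5])) (.leaf ((nat_lit 3), [nat_lit 2, nat_lit 7, nat_lit 9, nat_lit 5, nat_lit 9, nat_lit 8, nat_lit 5, nat_lit 2, nat_lit 8, nat_lit 7, nat_lit 5, nat_lit 7, nat_lit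 6, nat_lit 5, nat_lit 2, nat_lit 2, nat_lit 1]))) (.node (nat_lit 0x971f8d2d09b7084) (.leaf ((nat_lit 3), [nat_lit 2, nat_lit 2, nat_lit 9, nat_lit 1, nat_lit 9, nat_lit 8, nat_lit 0, nat_lit 7, nat_lit 8, nat_lit 5, nat_lit 3, nat_lit 6, nat_lit 3, nat_lit 4, nat_lit 0])) (.node (nat_lit 0x971f8d32c97a504) (.leaf ((nat_lit 3), [nat_lit 6, nat_lit 9, nat_lit 5, nat_lit 3, nat_lit 1, nat_lit 9, nat_lit 1, nat_lit 8, nat_lit 6, nat_lit 1, nat_lit 8, nat_lit 5, nat_lit 0, nat_lit 7, nat_lit 6, nat_lit 5, nat_lit 1])) (.leaf ((nat_lit 3), [nat_lit 2, nat_lit 2, nat_lit 9, nat_lit 1, nat_lit 9, nat_lit 5, nat_lit 0, nat_lit 7, nat_lit 8, nat_lit 6, nat_lit 3, nat_lit 4])))))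
 (.node (nat_lit 0x97229e7df775c6c) (.node (nat_lit 0x972013d5c86a8e0) (.leaf ((nat_lit 3), [nat_lit 2, nat_lit 7, nat_lit 9, nat_lit 5, nat_lit 9, nat_lit 5, nat_lit 8, nat_lit 2, nat_lit 1, nat_lit 8, nat_lit 4, nat_lit 7, nat_lit 3, nat_lit 4, nat_lit 6, nat_lit 5, nat_lit 3])) (.leaf ((nat_lit 3), [nat_lit 2, nat_lit 2, nat_lit 9, nat_lit 0, nat_lit 9, nat_lit 7, nat_lit 1, nat_lit 8, nat_lit 1, nat_lit 7, nat_lit 6, nat_lit 5, nat_lit 3, nat_lit 6, nat_lit 5, nat_lit 4]))) (.node (nat_lit 0x9723b5c8670a8e0) (.leaf ((nat_lit 1), [nat_lit 2, nat_lit 2, nat_lit 9, nat_lit 0, nat_lit 9, nat_lit 5, nat_lit 8, nat_lit 5, nat_lit 8, nat_lit 7, nat_lit 0, nat_lit 7, nat_lit 4, nat_lit 2, nat_lit 6, nat_lit 5, nat_lit 2])) (.node (nat_lit 0x9726172190d1064) (.leaf ((nat_lit 0), [nat_lit 1, nat_lit 7, nat_lit 5, nat_lit 8, nat_lit 7, nat_lit 5, nat_lit 7, nat_lit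 6, nat_lit 5, nat_lit 4, nat_lit 1])) (.leaf ((nat_lit 2), [nat_lit 2, nat_lit 7, nat_lit 8, nat_lit 5, nat_lit 1, nat_lit 7, nat_lit 2, nat_lit 2, nat_lit 6, nat_lit 2, nat_lit 4, nat_lit 3]))))))
 (.node (nat_lit 0x9731837374f2fa0) (.node (nat_lit 0x97269d6fadef16c) (.node (nat_lit 0x9726172f6659504) (.leaf ((nat_lit 3), [nat_lit 2, nat_lit 9, nat_lit 3, nat_lit 5, nat_lit 9, nat_lit 2, nat_lit 7, nat_lit 8, nat_lit 4, nat_lit 0, nat_lit 7, nat_lit 4, nat_lit 2, nat_lit 6, nat_lit 3, nat_lit 3, nat_lit 3])) (.leaf ((nat_lit 6), [nat_lit 7, nat_lit 5, nat_lit 1, nat_lit 8, nat_lit 0, nat_lit 7, nat_lit 4, nat_lit 3, nat_lit 6, nat_lit 4, nat_lit 2, nat_lit 1]))) (.node (nat_lit 0x972cca3b6e956c0) (.leaf ((nat_lit 0), [nat_lit 3, nat_lit 3, nat_lit 8, nat_lit 3, nat_lit 6, nat_lit 7, nat_lit 6, nat_lit 5, nat_lit 6, nat_lit 3, nat_lit 0])) (.node (nat_lit 0x972d2750fbc0784)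 (.leaf ((nat_lit 2), [nat_lit 7, nat_lit 1, nat_lit 8, nat_lit 1, nat_lit 8, nat_lit 2, nat_lit 4, nat_lit 7, nat_lit 4, nat_lit 2, nat_lit 6, nat_lit 5, nat_lit 4, nat_lit 2])) (.leaf ((nat_lit 0), [nat_lit 4, nat_lit 8, nat_lit 1, nat_lit 8, nat_lit 5, nat_lit 4, nat_lit 7, nat_lit 6, nat_lit 5, nat_lit 3, nat_lit 1])))))
 (.node (nat_lit 0x9733543767f9ee4) (.node (nat_lit 0x9732f6f1fbd9180) (.leaf ((nat_lit 3), [nat_lit 6, nat_lit 9, nat_lit 5, nat_lit 3, nat_lit 1, nat_lit 9, nat_lit 3, nat_lit 0, nat_lit 8, nat_lit 6, nat_lit 2, nat_lit 4, nat_lit 7, nat_lit 3, nat_lit 6, nat_lit 3, nat_lit 4, nat_lit 3])) (.leaf ((nat_lit 1), [nat_lit 6, nat_lit 9, nat_lit 5, nat_lit 3, nat_lit 1, nat_lit 9, nat_lit 2, nat_lit 6, nat_lit 8, nat_lit 4, nat_lit 3, nat_lit 3, nat_lit 6, nat_lit 2, nat_lit 4]))) (.node (nat_lit 0x973cc60f1e8be8c) (.leaf ((nat_lit 0), [nat_lit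 8, nat_lit 0, nat_lit 8, nat_lit 5, nat_lit 7, nat_lit 5, nat_lit 1, nat_lit 7, nat_lit 3, nat_lit 4, nat_lit 3, nat_lit 3, nat_lit 6, nat_lit 2, nat_lit 2])) (.node (nat_lit 0x973d22ec13809a4) (.leaf ((nat_lit 1), [nat_lit 9, nat_lit 7, nat_lit 5, nat_lit 0, nat_lit 9, nat_lit 7, nat_lit 1, nat_lit 8, nat_lit 1, nat_lit 8, nat_lit 6, nat_lit 5, nat_lit 6, nat_lit 7, nat_lit 3, nat_lit 3, nat_lit 6, nat_lit 3])) (.leaf ((nat_lit 0), [nat_lit 2, nat_lit 6, nat_lit 1, nat_lit 8, nat_lit 5, nat_lit 4, nat_lit 7, nat_lit 2, nat_lit 6, nat_lit 1]))))))))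
 (.node (nat_lit 0xa76bf30b6932e40) (.node (nat_lit 0xa75bf7412548e70) (.node (nat_lit 0x974466a8e3f9b14) (.node (nat_lit 0x97434f67fa25ac4) (.node (nat_lit 0x973ddcb3be6beac) (.leaf ((nat_lit 1), [nat_lit 2, nat_lit 7, nat_lit 9, nat_lit 5, nat_lit 9, nat_lit 5, nat_lit 7, nat_lit 8, nat_lit 5, nat_lit 7, nat_lit 3, nat_lit 6, nat_lit 5, nat_lit 2, nat_lit 4, nat_lit 3, nat_lit 0])) (.leaf ((nat_lit 0), [nat_lit 6, nat_lit 5, nat_lit 2, nat_lit 8, nat_lit 3, nat_lit 4, nat_lit 7, nat_lit 3, nat_lit 3, nat_lit 3, nat_lit 6, nat_lit 4]))) (.node (nat_lit 0x9743ac5ece3a5d4) (.leaf ((nat_lit 0), [nat_lit 1, nat_lit 7, nat_lit 8, nat_lit 6, nat_lit 5, nat_lit 7, nat_lit 1])) (.node (nat_lit 0x9744099cae90db4) (.leaf ((nat_lit 0), [nat_lit 8, nat_lit 6, nat_lit 3, nat_lit 1, nat_lit 8, nat_lit 7, nat_lit 5, nat_lit 7, nat_lit 6, nat_lit 3])) (.leaf ((nat_lit 1), [nat_lit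 2, nat_lit 9, nat_lit 3, nat_lit 5, nat_lit 9, nat_lit 7, nat_lit 0, nat_lit 8, nat_lit 6, nat_lit 7, nat_lit 6, nat_lit 5, nat_lit 3, nat_lit 6, nat_lit 4, nat_lit 2, nat_lit 1])))))
 (.node (nat_lit 0x974d7b484c0f6b4) (.node (nat_lit 0x974d1e7cd913c74) (.leaf ((nat_lit 1), [nat_lit 6, nat_lit 9, nat_lit 2, nat_lit 1, nat_lit 9, nat_lit 8, nat_lit 4, nat_lit 6, nat_lit 8, nat_lit 3, nat_lit 6, nat_lit 7, nat_lit 6, nat_lit 5, nat_lit 4])) (.leaf ((nat_lit 0), [nat_lit 5, nat_lit 1, nat_lit 7, nat_lit 4, nat_lit 3, nat_lit 6, nat_lit 5, nat_lit 3, nat_lit 3]))) (.node (nat_lit 0x974f4c3d8df9128) (.leaf ((nat_lit 2), [nat_lit 8, nat_lit 6, nat_lit 9, nat_lit 5, nat_lit 9, nat_lit 4, nat_lit 7, nat_lit 8, nat_lit 6, nat_lit 7, nat_lit 5, nat_lit 4, nat_lit 3, nat_lit 3, nat_lit 3])) (.node (nat_lit 0x9753a7e04e50b2c) (.leaf ((nat_lit 3), [nat_lit 0, nat_lit 7,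 nat_lit 0, nat_lit 9, nat_lit 1, nat_lit 9, nat_lit 2, nat_lit 6, nat_lit 3, nat_lit 8, nat_lit 5, nat_lit 4, nat_lit 7, nat_lit 4, nat_lit 2, nat_lit 6, nat_lit 3, nat_lit 4, nat_lit 1])) (.leaf ((nat_lit 2), [nat_lit 6, nat_lit 2, nat_lit 1, nat_lit 8, nat_lit 3, nat_lit 6, nat_lit 1, nat_lit 7, nat_lit 3, nat_lit 4, nat_lit 6, nat_lit 5, nat_lit 2, nat_lit 4, nat_lit 2, nat_lit 0]))))))
 (.node (nat_lit 0xa7616a7dbe8c1a0) (.node (nat_lit 0xa75d0ebba6bfc0c) (.node (nat_lit 0xa75c54670c08b00) (.leaf ((nat_lit 2), [nat_lit 9, nat_lit 2, nat_lit 6, nat_lit 3, nat_lit 9, nat_lit 8, nat_lit 5, nat_lit 0, nat_lit 8, nat_lit 6, nat_lit 3, nat_lit 4, nat_lit 7, nat_lit 4, nat_lit 6, nat_lit 2, nat_lit 0])) (.leaf ((nat_lit 0), [nat_lit 9, nat_lit 6, nat_lit 8, nat_lit 1, nat_lit 9, nat_lit 1, nat_lit 8, nat_lit 6, nat_lit 5, nat_lit 6, nat_lit 7, nat_lit 4, nat_lit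 2, nat_lit 1]))) (.node (nat_lit 0xa75d6b359cee2dc) (.leaf ((nat_lit 0), [nat_lit 6, nat_lit 9, nat_lit 2, nat_lit 1, nat_lit 9, nat_lit 7, nat_lit 6, nat_lit 8, nat_lit 5, nat_lit 6, nat_lit 7, nat_lit 3, nat_lit 6, nat_lit 5, nat_lit 2, nat_lit 4, nat_lit 1])) (.node (nat_lit 0xa75ff68bcac7fec) (.leaf ((nat_lit 0), [nat_lit 8, nat_lit 0, nat_lit 9, nat_lit 1, nat_lit 9, nat_lit 6, nat_lit 1, nat_lit 8, nat_lit 6, nat_lit 5, nat_lit 6, nat_lit 2, nat_lit 4, nat_lit 0])) (.leaf ((nat_lit 0), [nat_lit 5, nat_lit 9, nat_lit 6, nat_lit 3, nat_lit 9, nat_lit 7, nat_lit 8, nat_lit 6, nat_lit 3, nat_lit 8, nat_lit 0, nat_lit 7, nat_lit 3, nat_lit 4, nat_lit 6, nat_lit 5, nat_lit 3])))))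
 (.node (nat_lit 0xa762ddf05061abc) (.node (nat_lit 0xa762814bc5cc54c) (.leaf ((nat_lit 0), [nat_lit 3, nat_lit 9, nat_lit 6, nat_lit 3, nat_lit 1, nat_lit 9, nat_lit 7, nat_lit 2, nat_lit 8, nat_lit 6, nat_lit 5, nat_lit 0, nat_lit 7, nat_lit 2, nat_lit 4, nat_lit 3, nat_lit 6, nat_lit 1])) (.leaf ((nat_lit 0), [nat_lit 6, nat_lit 9, nat_lit 2, nat_lit 1, nat_lit 9, nat_lit 7, nat_lit 8, nat_lit 5, nat_lit 4, nat_lit 7, nat_lit 3, nat_lit 6, nat_lit 5, nat_lit 4]))) (.node (nat_lit 0xa763982a545b6ac) (.leaf ((nat_lit 0), [nat_lit 9, nat_lit 4, nat_lit 6, nat_lit 9, nat_lit 6, nat_lit 3, nat_lit 8, nat_lit 6, nat_lit 7, nat_lit 5, nat_lit 3, nat_lit 6, nat_lit 2, nat_lit 0])) (.node (nat_lit 0xa76adbd1f162d3c) (.leaf ((nat_lit 0), [nat_lit 9, nat_lit 2, nat_lit 1, nat_lit 9, nat_lit 0, nat_lit 7, nat_lit 8, nat_lit 1, nat_lit 7, nat_lit 4, nat_lit 3, nat_lit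 3, nat_lit 6, nat_lit 2])) (.leaf ((nat_lit 3), [nat_lit 8, nat_lit 6, nat_lit 7, nat_lit 2, nat_lit 6, nat_lit 5])))))))
 (.node (nat_lit 0xa77a7a487dff93c) (.node (nat_lit 0xa771661723e0fe0) (.node (nat_lit 0xa76e7df540a40ac) (.node (nat_lit 0xa76c504990cd760) (.leaf ((nat_lit 0), [nat_lit 9, nat_lit 2, nat_lit 1, nat_lit 9, nat_lit 5, nat_lit 7, nat_lit 6, nat_lit 8, nat_lit 5, nat_lit 7, nat_lit 3, nat_lit 6, nat_lit 2, nat_lit 4, nat_lit 1])) (.leaf ((nat_lit 0), [nat_lit 0, nat_lit 7, nat_lit 0, nat_lit 9, nat_lit 1, nat_lit 9, nat_lit 7, nat_lit 1, nat_lit 7, nat_lit 8, nat_lit 1, nat_lit 7, nat_lit 4, nat_lit 6, nat_lit 2, nat_lit 2, nat_lit 1]))) (.node (nat_lit 0xa76edab0f87dedc) (.leaf ((nat_lit 0), [nat_lit 0, nat_lit 7, nat_lit 0, nat_lit 9, nat_lit 1, nat_lit 9, nat_lit 3, nat_lit 5, nat_lit 6, nat_lit 8, nat_lit 1, nat_lit 7, nat_lit 6, nat_lit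 5, nat_lit 6, nat_lit 5, nat_lit 2])) (.node (nat_lit 0xa7704e8bbef2e9c) (.leaf ((nat_lit 0), [nat_lit 9, nat_lit 6, nat_lit 4, nat_lit 9, nat_lit 4, nat_lit 0, nat_lit 7, nat_lit 8, nat_lit 0, nat_lit 7, nat_lit 6, nat_lit 5, nat_lit 3, nat_lit 3])) (.leaf ((nat_lit 5), [nat_lit 3, nat_lit 3, nat_lit 9, nat_lit 0, nat_lit 9, nat_lit 3, nat_lit 5, nat_lit 8, nat_lit 6, nat_lit 1, nat_lit 7, nat_lit 5, nat_lit 4, nat_lit 2, nat_lit 1])))))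
 (.node (nat_lit 0xa7727cfcb4222ac) (.node (nat_lit 0xa771c2c2de9d400) (.leaf ((nat_lit 0), [nat_lit 3, nat_lit 3, nat_lit 9, nat_lit 0, nat_lit 9, nat_lit 8, nat_lit 1, nat_lit 8, nat_lit 0, nat_lit 7, nat_lit 4, nat_lit 2, nat_lit 6, nat_lit 3, nat_lit 3, nat_lit 3, nat_lit 0])) (.leaf ((nat_lit 0), [nat_lit 0, nat_lit 7, nat_lit 0, nat_lit 9, nat_lit 1, nat_lit 9, nat_lit 2, nat_lit 7, nat_lit 8, nat_lit 3, nat_lit 6, nat_lit 5, nat_lit 4, nat_lit 2, nat_lit 2, nat_lit 0]))) (.node (nat_lit 0xa77963c2269bfcc) (.leaf ((nat_lit 0), [nat_lit 6, nat_lit 9, nat_lit 2, nat_lit 1, nat_lit 9, nat_lit 8, nat_lit 6, nat_lit 2, nat_lit 8, nat_lit 6, nat_lit 7, nat_lit 3, nat_lit 3, nat_lit 6, nat_lit 4, nat_lit 1])) (.node (nat_lit 0xa779c08ec24e52c) (.leaf ((nat_lit 0), [nat_lit 9, nat_lit 6, nat_lit 8, nat_lit 1, nat_lit 9, nat_lit 3, nat_lit 7, nat_lit 8, nat_lit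 4, nat_lit 1, nat_lit 7, nat_lit 2, nat_lit 2, nat_lit 6, nat_lit 5])) (.leaf ((nat_lit 0), [nat_lit 9, nat_lit 6, nat_lit 8, nat_lit 1, nat_lit 9, nat_lit 3, nat_lit 7, nat_lit 8, nat_lit 1, nat_lit 7, nat_lit 3, nat_lit 4, nat_lit 6, nat_lit 3, nat_lit 3, nat_lit 3, nat_lit 0]))))))
 (.node (nat_lit 0xa77fed85a14914c) (.node (nat_lit 0xa77d622f17676b0) (.node (nat_lit 0xa77ad786a5fb30c) (.leaf ((nat_lit 0), [nat_lit 9, nat_lit 4, nat_lit 6, nat_lit 9, nat_lit 3, nat_lit 8, nat_lit 7, nat_lit 3, nat_lit 4, nat_lit 6, nat_lit 5, nat_lit 4, nat_lit 2, nat_lit 2])) (.leaf ((nat_lit 0), [nat_lit 3, nat_lit 3, nat_lit 9, nat_lit 0, nat_lit 9, nat_lit 3, nat_lit 7, nat_lit 5, nat_lit 8, nat_lit 5, nat_lit 3, nat_lit 6, nat_lit 5, nat_lit 2, nat_lit 4, nat_lit 1]))) (.node (nat_lit 0xa77e79af86a3a6c) (.leaf ((nat_lit 0), [nat_lit 9, nat_lit 4, nat_lit 6, nat_lit 9,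 nat_lit 6, nat_lit 2, nat_lit 1, nat_lit 8, nat_lit 2, nat_lit 4, nat_lit 7, nat_lit 5, nat_lit 3, nat_lit 6, nat_lit 5])) (.node (nat_lit 0xa77ed64b71dfc8c) (.leaf ((nat_lit 0), [nat_lit 9, nat_lit 6, nat_lit 8, nat_lit 1, nat_lit 9, nat_lit 8, nat_lit 0, nat_lit 8, nat_lit 3, nat_lit 6, nat_lit 1, nat_lit 7, nat_lit 2, nat_lit 6, nat_lit 5, nat_lit 4, nat_lit 2, nat_lit 2])) (.leaf ((nat_lit 0), [nat_lit 9, nat_lit 2, nat_lit 6, nat_lit 3, nat_lit 9, nat_lit 3, nat_lit 6, nat_lit 8, nat_lit 2, nat_lit 4, nat_lit 7, nat_lit 6, nat_lit 5])))))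
 (.node (nat_lit 0xa78847f723e7a40) (.node (nat_lit 0xa78103f83557170) (.leaf ((nat_lit 0), [nat_lit 5, nat_lit 9, nat_lit 6, nat_lit 3, nat_lit 9, nat_lit 4, nat_lit 7, nat_lit 6, nat_lit 8, nat_lit 6, nat_lit 5, nat_lit 7, nat_lit 3, nat_lit 4, nat_lit 1])) (.leaf ((nat_lit 0), [nat_lit 9, nat_lit 4, nat_lit 6, nat_lit 9, nat_lit 6, nat_lit 0, nat_lit 8, nat_lit 4, nat_lit 7, nat_lit 2, nat_lit 4, nat_lit 6, nat_lit 5, nat_lit 4, nat_lit 2, nat_lit 1]))) (.node (nat_lit 0xa788a54884e6ba0) (.leaf ((nat_lit 2), [nat_lit 9, nat_lit 2, nat_lit 6, nat_lit 3, nat_lit 9, nat_lit 8, nat_lit 2, nat_lit 6, nat_lit 8, nat_lit 4, nat_lit 6, nat_lit 5, nat_lit 0])) (.node (nat_lit 0xa7895f01b70822c) (.leaf ((nat_lit 0), [nat_lit 9, nat_lit 6, nat_lit 8, nat_lit 1, nat_lit 9, nat_lit 3, nat_lit 6, nat_lit 2, nat_lit 1, nat_lit 8, nat_lit 6, nat_lit 1, nat_lit 7, nat_lit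 6, nat_lit 5])) (.leaf ((nat_lit 0), [nat_lit 9, nat_lit 4, nat_lit 6, nat_lit 9, nat_lit 5, nat_lit 7, nat_lit 0, nat_lit 8, nat_lit 2, nat_lit 4, nat_lit 7, nat_lit 4, nat_lit 2, nat_lit 6, nat_lit 1])))))))))
 (.node (nat_lit 0xa7d204396f7445c) (.node (nat_lit 0xa7ad54ef99a4320) (.node (nat_lit 0xa79db5f8f333df0) (.node (nat_lit 0xa790455a76c615c) (.node (nat_lit 0xa78dbab0c36e840) (.node (nat_lit 0xa78c4717909bdec) (.leaf ((nat_lit 0), [nat_lit 3, nat_lit 3, nat_lit 9, nat_lit 0, nat_lit 9, nat_lit 2, nat_lit 8, nat_lit 6, nat_lit 3, nat_lit 4, nat_lit 7, nat_lit 5, nat_lit 3, nat_lit 4])) (.leaf ((nat_lit 0), [nat_lit 2, nat_lit 7, nat_lit 9, nat_lit 5, nat_lit 9, nat_lit 2, nat_lit 5, nat_lit 8, nat_lit 4, nat_lit 0, nat_lit 7, nat_lit 6, nat_lit 5, nat_lit 6, nat_lit 2, nat_lit 4, nat_lit 1]))) (.node (nat_lit 0xa78ed16968fa9fc) (.leaf ((nat_lit 0), [nat_lit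 3, nat_lit 9, nat_lit 6, nat_lit 3, nat_lit 1, nat_lit 9, nat_lit 8, nat_lit 2, nat_lit 1, nat_lit 8, nat_lit 6, nat_lit 3, nat_lit 4, nat_lit 7, nat_lit 3, nat_lit 3, nat_lit 3])) (.node (nat_lit 0xa78f2ee7b4aec6c) (.leaf ((nat_lit 0), [nat_lit 0, nat_lit 7, nat_lit 0, nat_lit 9, nat_lit 1, nat_lit 9, nat_lit 7, nat_lit 2, nat_lit 8, nat_lit 6, nat_lit 5, nat_lit 7, nat_lit 3, nat_lit 4, nat_lit 6, nat_lit 1])) (.leaf ((nat_lit 0), [nat_lit 8, nat_lit 0, nat_lit 9, nat_lit 1, nat_lit 9, nat_lit 8, nat_lit 4, nat_lit 6, nat_lit 8, nat_lit 5, nat_lit 7, nat_lit 5, nat_lit 0, nat_lit 7, nat_lit 5, nat_lit 4, nat_lit 0])))))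
 (.node (nat_lit 0xa798434a1b55cf0) (.node (nat_lit 0xa7972c87f00190c) (.leaf ((nat_lit 0), [nat_lit 3, nat_lit 3, nat_lit 9, nat_lit 0, nat_lit 9, nat_lit 3, nat_lit 5, nat_lit 6, nat_lit 8, nat_lit 7, nat_lit 0, nat_lit 7, nat_lit 6, nat_lit 2, nat_lit 4, nat_lit 2, nat_lit 0])) (.leaf ((nat_lit 3), [nat_lit 7, nat_lit 5, nat_lit 1, nat_lit 7, nat_lit 3, nat_lit 6, nat_lit 2, nat_lit 1]))) (.node (nat_lit 0xa79b2ba85ccb08c) (.leaf ((nat_lit 0), [nat_lit 6, nat_lit 9, nat_lit 2, nat_lit 1, nat_lit 9, nat_lit 5, nat_lit 7, nat_lit 6, nat_lit 8, nat_lit 3, nat_lit 4, nat_lit 3, nat_lit 3, nat_lit 6, nat_lit 4, nat_lit 3, nat_lit 0])) (.node (nat_lit 0xa79c9f82f54178c) (.leaf ((nat_lit 0), [nat_lit 6, nat_lit 9, nat_lit 2, nat_lit 1, nat_lit 9, nat_lit 1, nat_lit 7, nat_lit 8, nat_lit 6, nat_lit 1, nat_lit 7, nat_lit 2, nat_lit 4, nat_lit 3])) (.leaf ((nat_lit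 5), [nat_lit 9, nat_lit 6, nat_lit 8, nat_lit 1, nat_lit 9, nat_lit 5, nat_lit 4, nat_lit 7, nat_lit 5, nat_lit 6, nat_lit 5, nat_lit 2, nat_lit 0]))))))
 (.node (nat_lit 0xa7a9b300ef24ec0) (.node (nat_lit 0xa7a5b3df6e0de1c) (.node (nat_lit 0xa79e7032f71860c) (.leaf ((nat_lit 0), [nat_lit 2, nat_lit 7, nat_lit 9, nat_lit 5, nat_lit 9, nat_lit 7, nat_lit 1, nat_lit 7, nat_lit 8, nat_lit 7, nat_lit 0, nat_lit 7, nat_lit 6, nat_lit 5, nat_lit 0])) (.leaf ((nat_lit 0), [nat_lit 0, nat_lit 7, nat_lit 0, nat_lit 9, nat_lit 1, nat_lit 9, nat_lit 8, nat_lit 2, nat_lit 6, nat_lit 8, nat_lit 5, nat_lit 1, nat_lit 7, nat_lit 2, nat_lit 4, nat_lit 6, nat_lit 4, nat_lit 2]))) (.node (nat_lit 0xa7a61144c08c04c) (.leaf ((nat_lit 0), [nat_lit 9, nat_lit 6, nat_lit 8, nat_lit 1, nat_lit 9, nat_lit 8, nat_lit 5, nat_lit 0, nat_lit 8, nat_lit 2, nat_lit 4, nat_lit 7, nat_lit 6,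 nat_lit 5, nat_lit 6, nat_lit 0])) (.node (nat_lit 0xa7a6cb59937ce2c) (.leaf ((nat_lit 0), [nat_lit 9, nat_lit 6, nat_lit 8, nat_lit 1, nat_lit 9, nat_lit 7, nat_lit 1, nat_lit 7, nat_lit 8, nat_lit 3, nat_lit 3, nat_lit 3, nat_lit 6, nat_lit 5, nat_lit 3, nat_lit 3, nat_lit 1])) (.leaf ((nat_lit 0), [nat_lit 9, nat_lit 2, nat_lit 1, nat_lit 9, nat_lit 8, nat_lit 6, nat_lit 2, nat_lit 8, nat_lit 5, nat_lit 6, nat_lit 7, nat_lit 4, nat_lit 3, nat_lit 3, nat_lit 6, nat_lit 3])))))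
 (.node (nat_lit 0xa7ab267e766127c) (.node (nat_lit 0xa7aac9ccce35e4c) (.leaf ((nat_lit 0), [nat_lit 9, nat_lit 6, nat_lit 4, nat_lit 9, nat_lit 8, nat_lit 5, nat_lit 7, nat_lit 8, nat_lit 2, nat_lit 4, nat_lit 7, nat_lit 6, nat_lit 5, nat_lit 6, nat_lit 5, nat_lit 4, nat_lit 2, nat_lit 2])) (.leaf ((nat_lit 0), [nat_lit 9, nat_lit 6, nat_lit 8, nat_lit 1, nat_lit 9, nat_lit 8, nat_lit 0, nat_lit 8, nat_lit 6, nat_lit 5, nat_lit 7, nat_lit 4, nat_lit 3]))) (.node (nat_lit 0xa7ac3e027d9590c) (.leaf ((nat_lit 0), [nat_lit 9, nat_lit 2, nat_lit 6, nat_lit 3, nat_lit 9, nat_lit 5, nat_lit 0, nat_lit 7, nat_lit 8, nat_lit 0, nat_lit 7, nat_lit 5, nat_lit 3, nat_lit 6, nat_lit 5, nat_lit 2])) (.node (nat_lit 0xa7ac9ab56817b2c) (.leaf ((nat_lit 0), [nat_lit 9, nat_lit 4, nat_lit 6, nat_lit 9, nat_lit 7, nat_lit 8, nat_lit 6, nat_lit 5, nat_lit 7, nat_lit 3, nat_lit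 6, nat_lit 5, nat_lit 4, nat_lit 0])) (.leaf ((nat_lit 0), [nat_lit 9, nat_lit 2, nat_lit 1, nat_lit 9, nat_lit 8, nat_lit 2, nat_lit 5, nat_lit 8, nat_lit 2, nat_lit 6, nat_lit 2, nat_lit 4, nat_lit 3, nat_lit 1])))))))
 (.node (nat_lit 0xa7c32040d055f6c) (.node (nat_lit 0xa7b83a4d7794fcc) (.node (nat_lit 0xa7b49827767ecf0) (.node (nat_lit 0xa7b43bb0043c0a0) (.leaf ((nat_lit 0), [nat_lit 8, nat_lit 0, nat_lit 9, nat_lit 1, nat_lit 9, nat_lit 5, nat_lit 8, nat_lit 0, nat_lit 8, nat_lit 7, nat_lit 1, nat_lit 7, nat_lit 4, nat_lit 3, nat_lit 6, nat_lit 0])) (.leaf ((nat_lit 2), [nat_lit 9, nat_lit 2, nat_lit 6, nat_lit 3, nat_lit 9, nat_lit 2, nat_lit 7, nat_lit 5, nat_lit 8, nat_lit 5, nat_lit 1, nat_lit 7, nat_lit 6, nat_lit 3, nat_lit 3, nat_lit 6, nat_lit 1]))) (.node (nat_lit 0xa7b552a4ac0dd0c) (.leaf ((nat_lit 0), [nat_lit 9, nat_lit 6, nat_lit 8, nat_lit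 1, nat_lit 9, nat_lit 5, nat_lit 8, nat_lit 1, nat_lit 8, nat_lit 5, nat_lit 6, nat_lit 7, nat_lit 4, nat_lit 2, nat_lit 0])) (.node (nat_lit 0xa7b5af6372300ac) (.leaf ((nat_lit 0), [nat_lit 9, nat_lit 6, nat_lit 4, nat_lit 9, nat_lit 5, nat_lit 8, nat_lit 5, nat_lit 8, nat_lit 4, nat_lit 7, nat_lit 4, nat_lit 6, nat_lit 5])) (.leaf ((nat_lit 0), [nat_lit 0, nat_lit 7, nat_lit 0, nat_lit 9, nat_lit 1, nat_lit 9, nat_lit 7, nat_lit 8, nat_lit 7, nat_lit 1, nat_lit 8, nat_lit 3, nat_lit 6, nat_lit 1, nat_lit 7, nat_lit 2, nat_lit 6, nat_lit 5, nat_lit 1])))))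
 (.node (nat_lit 0xa7ba68657dbe8cc) (.node (nat_lit 0xa7b9ae286bf2bf0) (.leaf ((nat_lit 0), [nat_lit 9, nat_lit 2, nat_lit 1, nat_lit 9, nat_lit 7, nat_lit 5, nat_lit 8, nat_lit 7, nat_lit 2, nat_lit 4, nat_lit 7, nat_lit 2, nat_lit 4, nat_lit 3, nat_lit 6, nat_lit 4, nat_lit 3, nat_lit 3])) (.leaf ((nat_lit 0), [nat_lit 3, nat_lit 9, nat_lit 6, nat_lit 3, nat_lit 1, nat_lit 9, nat_lit 7, nat_lit 2, nat_lit 8, nat_lit 5, nat_lit 7, nat_lit 5, nat_lit 1, nat_lit 7, nat_lit 5, nat_lit 2, nat_lit 0]))) (.node (nat_lit 0xa7bb220a342f25c) (.leaf ((nat_lit 0), [nat_lit 9, nat_lit 6, nat_lit 4, nat_lit 9, nat_lit 3, nat_lit 8, nat_lit 7, nat_lit 6, nat_lit 4, nat_lit 3, nat_lit 0])) (.node (nat_lit 0xa7bb7f9c434374c) (.leaf ((nat_lit 0), [nat_lit 2, nat_lit 7, nat_lit 9, nat_lit 5, nat_lit 9, nat_lit 8, nat_lit 1, nat_lit 8, nat_lit 5, nat_lit 7, nat_lit 2, nat_lit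 4, nat_lit 6, nat_lit 3, nat_lit 3, nat_lit 3, nat_lit 1])) (.leaf ((nat_lit 0), [nat_lit 5, nat_lit 9, nat_lit 6, nat_lit 3, nat_lit 9, nat_lit 8, nat_lit 2, nat_lit 1, nat_lit 8, nat_lit 5, nat_lit 3, nat_lit 4, nat_lit 0]))))))
 (.node (nat_lit 0xa7c94c9966bc8b0) (.node (nat_lit 0xa7c493b30643970) (.node (nat_lit 0xa7c436ed10bc880) (.leaf ((nat_lit 3), [nat_lit 6, nat_lit 1, nat_lit 8, nat_lit 7, nat_lit 1, nat_lit 7, nat_lit 2, nat_lit 6, nat_lit 5, nat_lit 2, nat_lit 4, nat_lit 0])) (.leaf ((nat_lit 0), [nat_lit 2, nat_lit 7, nat_lit 9, nat_lit 5, nat_lit 9, nat_lit 3, nat_lit 1, nat_lit 8, nat_lit 4, nat_lit 0, nat_lit 7, nat_lit 3, nat_lit 4, nat_lit 6, nat_lit 4, nat_lit 2]))) (.node (nat_lit 0xa7c71e9499f795c) (.leaf ((nat_lit 0), [nat_lit 3, nat_lit 3, nat_lit 9, nat_lit 0, nat_lit 9, nat_lit 8, nat_lit 4, nat_lit 6, nat_lit 8, nat_lit 6, nat_lit 2,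 nat_lit 2, nat_lit 6, nat_lit 5, nat_lit 3, nat_lit 3, nat_lit 1])) (.node (nat_lit 0xa7c892fa9e26bec) (.leaf ((nat_lit 0), [nat_lit 2, nat_lit 7, nat_lit 9, nat_lit 5, nat_lit 9, nat_lit 0, nat_lit 8, nat_lit 5, nat_lit 1, nat_lit 7, nat_lit 3, nat_lit 6, nat_lit 5, nat_lit 2, nat_lit 2, nat_lit 0])) (.leaf ((nat_lit 5), [nat_lit 9, nat_lit 6, nat_lit 8, nat_lit 1, nat_lit 9, nat_lit 8, nat_lit 0, nat_lit 8, nat_lit 4, nat_lit 7, nat_lit 6, nat_lit 5, nat_lit 2, nat_lit 4, nat_lit 3])))))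
 (.node (nat_lit 0xa7cac0cee86978c) (.node (nat_lit 0xa7c9aa349f86be0) (.leaf ((nat_lit 0), [nat_lit 9, nat_lit 2, nat_lit 1, nat_lit 9, nat_lit 3, nat_lit 7, nat_lit 5, nat_lit 8, nat_lit 0, nat_lit 7, nat_lit 6, nat_lit 5, nat_lit 3, nat_lit 6, nat_lit 2, nat_lit 0])) (.leaf ((nat_lit 0), [nat_lit 6, nat_lit 9, nat_lit 2, nat_lit 1, nat_lit 9, nat_lit 4, nat_lit 7, nat_lit 8, nat_lit 5, nat_lit 6, nat_lit 7, nat_lit 3, nat_lit 3, nat_lit 6, nat_lit 5, nat_lit 4]))) (.node (nat_lit 0xa7cb1da451738fc) (.leaf ((nat_lit 0), [nat_lit 9, nat_lit 6, nat_lit 4, nat_lit 9, nat_lit 0, nat_lit 8, nat_lit 4, nat_lit 7, nat_lit 2, nat_lit 4, nat_lit 1])) (.node (nat_lit 0xa7d1a782917326c) (.leaf ((nat_lit 0), [nat_lit 2, nat_lit 7, nat_lit 9, nat_lit 5, nat_lit 9, nat_lit 2, nat_lit 1, nat_lit 8, nat_lit 7, nat_lit 5, nat_lit 1, nat_lit 7, nat_lit 3, nat_lit 4, nat_lit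 6, nat_lit 3, nat_lit 4, nat_lit 3, nat_lit 0])) (.leaf ((nat_lit 0), [nat_lit 9, nat_lit 6, nat_lit 8, nat_lit 1, nat_lit 9, nat_lit 7, nat_lit 1, nat_lit 7, nat_lit 8, nat_lit 7, nat_lit 5, nat_lit 1, nat_lit 7, nat_lit 3, nat_lit 6, nat_lit 5, nat_lit 1]))))))))
 (.node (nat_lit 0xab34d0e51c06fbc) (.node (nat_lit 0xa7d94867148aec0) (.node (nat_lit 0xa7d6bd2eb969f3c) (.node (nat_lit 0xa7d31bb41edeeac) (.node (nat_lit 0xa7d2be3857166bc) (.leaf ((nat_lit 0), [nat_lit 9, nat_lit 6, nat_lit 8, nat_lit 1, nat_lit 9, nat_lit 2, nat_lit 7, nat_lit 6, nat_lit 8, nat_lit 5, nat_lit 6, nat_lit 7, nat_lit 2, nat_lit 4, nat_lit 3, nat_lit 6, nat_lit 4])) (.leaf ((nat_lit 0), [nat_lit 5, nat_lit 9, nat_lit 6, nat_lit 3, nat_lit 9, nat_lit 1, nat_lit 8, nat_lit 6, nat_lit 5, nat_lit 7, nat_lit 4, nat_lit 3, nat_lit 6, nat_lit 5, nat_lit 4, nat_lit 2]))) (.node (nat_lit 0xa7d549a1346e5a0)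 (.leaf ((nat_lit 0), [nat_lit 8, nat_lit 0, nat_lit 9, nat_lit 1, nat_lit 9, nat_lit 3, nat_lit 6, nat_lit 3, nat_lit 8, nat_lit 5, nat_lit 4, nat_lit 7, nat_lit 2, nat_lit 1])) (.node (nat_lit 0xa7d5a65ceca9480) (.leaf ((nat_lit 0), [nat_lit 8, nat_lit 0, nat_lit 9, nat_lit 1, nat_lit 9, nat_lit 8, nat_lit 7, nat_lit 1, nat_lit 8, nat_lit 4, nat_lit 7, nat_lit 5, nat_lit 6, nat_lit 5, nat_lit 0])) (.leaf ((nat_lit 0), [nat_lit 5, nat_lit 9, nat_lit 6, nat_lit 3, nat_lit 9, nat_lit 8, nat_lit 5, nat_lit 1, nat_lit 8, nat_lit 6, nat_lit 5, nat_lit 7, nat_lit 3, nat_lit 3, nat_lit 3, nat_lit 6, nat_lit 0])))))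
 (.node (nat_lit 0xa7d7d467a73e76c) (.node (nat_lit 0xa7d71aba50b292c) (.leaf ((nat_lit 0), [nat_lit 9, nat_lit 6, nat_lit 8, nat_lit 1, nat_lit 9, nat_lit 7, nat_lit 1, nat_lit 8, nat_lit 5, nat_lit 7, nat_lit 5, nat_lit 7, nat_lit 2])) (.leaf ((nat_lit 0), [nat_lit 9, nat_lit 2, nat_lit 6, nat_lit 3, nat_lit 9, nat_lit 3, nat_lit 6, nat_lit 8, nat_lit 0, nat_lit 7, nat_lit 3, nat_lit 3, nat_lit 6, nat_lit 5]))) (.node (nat_lit 0xa7d831304eafb9c) (.leaf ((nat_lit 0), [nat_lit 8, nat_lit 0, nat_lit 9, nat_lit 1, nat_lit 9, nat_lit 5, nat_lit 7, nat_lit 5, nat_lit 8, nat_lit 6, nat_lit 2, nat_lit 2, nat_lit 6, nat_lit 5, nat_lit 4, nat_lit 3, nat_lit 1])) (.node (nat_lit 0xa7d8eba038aa160) (.leaf ((nat_lit 0), [nat_lit 3, nat_lit 3, nat_lit 9, nat_lit 0, nat_lit 9, nat_lit 4, nat_lit 7, nat_lit 8, nat_lit 5, nat_lit 7, nat_lit 5, nat_lit 1, nat_lit 7, nat_lit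 5, nat_lit 0])) (.leaf ((nat_lit 0), [nat_lit 5, nat_lit 9, nat_lit 6, nat_lit 3, nat_lit 9, nat_lit 7, nat_lit 0, nat_lit 8, nat_lit 6, nat_lit 5, nat_lit 0, nat_lit 7, nat_lit 6, nat_lit 4, nat_lit 2]))))))
 (.node (nat_lit 0xab18d90288fa574) (.node (nat_lit 0xaafab280780bf84) (.node (nat_lit 0xaaf99c0cfe053a0) (.leaf ((nat_lit 0), [nat_lit 9, nat_lit 6, nat_lit 4, nat_lit 9, nat_lit 2, nat_lit 1, nat_lit 8, nat_lit 7, nat_lit 3, nat_lit 4, nat_lit 7, nat_lit 2, nat_lit 6, nat_lit 3, nat_lit 0])) (.leaf ((nat_lit 0), [nat_lit 6, nat_lit 9, nat_lit 2, nat_lit 1, nat_lit 9, nat_lit 2, nat_lit 7, nat_lit 8, nat_lit 6, nat_lit 3, nat_lit 4, nat_lit 7, nat_lit 6, nat_lit 5, nat_lit 4, nat_lit 1]))) (.node (nat_lit 0xab002599da4bcfc) (.leaf ((nat_lit 1), [nat_lit 1, nat_lit 8, nat_lit 6, nat_lit 3, nat_lit 4, nat_lit 7, nat_lit 2, nat_lit 2, nat_lit 6, nat_lit 3]))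 (.node (nat_lit 0xab17c1cc1f1c3d0) (.leaf ((nat_lit 1), [nat_lit 5, nat_lit 8, nat_lit 2, nat_lit 1, nat_lit 8, nat_lit 0, nat_lit 7, nat_lit 6, nat_lit 3, nat_lit 3, nat_lit 6, nat_lit 4, nat_lit 2])) (.leaf ((nat_lit 1), [nat_lit 2, nat_lit 1, nat_lit 8, nat_lit 6, nat_lit 5, nat_lit 3, nat_lit 6, nat_lit 5, nat_lit 4, nat_lit 2, nat_lit 2])))))
 (.node (nat_lit 0xab1b636686c66b0) (.node (nat_lit 0xab19ef77cef2d1c) (.leaf ((nat_lit 1), [nat_lit 3, nat_lit 6, nat_lit 2, nat_lit 1, nat_lit 8, nat_lit 5, nat_lit 7, nat_lit 5, nat_lit 1, nat_lit 7, nat_lit 5, nat_lit 3, nat_lit 3, nat_lit 3])) (.leaf ((nat_lit 0), [nat_lit 2, nat_lit 7, nat_lit 9, nat_lit 5, nat_lit 9, nat_lit 3, nat_lit 8, nat_lit 7, nat_lit 1, nat_lit 8, nat_lit 6, nat_lit 7, nat_lit 5, nat_lit 6, nat_lit 2, nat_lit 1]))) (.node (nat_lit 0xab1e4bd12dd760c) (.leaf ((nat_lit 1), [nat_lit 0, nat_lit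 7, nat_lit 8, nat_lit 7, nat_lit 5, nat_lit 0, nat_lit 7, nat_lit 6, nat_lit 2, nat_lit 4, nat_lit 6])) (.node (nat_lit 0xab1f058893a6024) (.leaf ((nat_lit 1), [nat_lit 3, nat_lit 6, nat_lit 8, nat_lit 7, nat_lit 5, nat_lit 7, nat_lit 6, nat_lit 2, nat_lit 4, nat_lit 6, nat_lit 5, nat_lit 4, nat_lit 1])) (.leaf ((nat_lit 0), [nat_lit 0, nat_lit 7, nat_lit 0, nat_lit 9, nat_lit 1, nat_lit 9, nat_lit 7, nat_lit 8, nat_lit 1, nat_lit 8, nat_lit 4, nat_lit 6, nat_lit 4, nat_lit 3, nat_lit 3, nat_lit 0])))))))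
 (.node (nat_lit 0xab546b3f41c0d4c) (.node (nat_lit 0xab3c14b7a9de1bc) (.node (nat_lit 0xab38cf81a971984) (.node (nat_lit 0xab35e81c99dc5e0) (.leaf ((nat_lit 0), [nat_lit 6, nat_lit 9, nat_lit 2, nat_lit 1, nat_lit 9, nat_lit 7, nat_lit 6, nat_lit 8, nat_lit 7, nat_lit 5, nat_lit 6, nat_lit 5, nat_lit 3, nat_lit 6, nat_lit 1])) (.leaf ((nat_lit 1), [nat_lit 6, nat_lit 8, nat_lit 0, nat_lit 8, nat_lit 4, nat_lit 0, nat_lit 7, nat_lit 5, nat_lit 6, nat_lit 5, nat_lit 3, nat_lit 1]))) (.node (nat_lit 0xab3a43864c94004) (.leaf ((nat_lit 1), [nat_lit 4, nat_lit 8, nat_lit 2, nat_lit 1, nat_lit 8, nat_lit 6, nat_lit 2, nat_lit 4, nat_lit 7, nat_lit 3, nat_lit 4, nat_lit 6, nat_lit 1])) (.node (nat_lit 0xab3b5b012a07f20) (.leaf ((nat_lit 4), [nat_lit 6, nat_lit 9, nat_lit 2, nat_lit 1, nat_lit 9, nat_lit 3, nat_lit 8, nat_lit 6, nat_lit 7, nat_lit 6, nat_lit 5, nat_lit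 3, nat_lit 6, nat_lit 4, nat_lit 3, nat_lit 0])) (.leaf ((nat_lit 0), [nat_lit 0, nat_lit 7, nat_lit 0, nat_lit 9, nat_lit 1, nat_lit 9, nat_lit 7, nat_lit 2, nat_lit 8, nat_lit 7, nat_lit 3, nat_lit 4, nat_lit 6, nat_lit 5, nat_lit 1])))))
 (.node (nat_lit 0xab45e3397d409f0) (.node (nat_lit 0xab429ed863b960c) (.leaf ((nat_lit 0), [nat_lit 2, nat_lit 7, nat_lit 9, nat_lit 5, nat_lit 9, nat_lit 3, nat_lit 5, nat_lit 8, nat_lit 0, nat_lit 7, nat_lit 5, nat_lit 3, nat_lit 6, nat_lit 2, nat_lit 4])) (.leaf ((nat_lit 1), [nat_lit 5, nat_lit 1, nat_lit 8, nat_lit 0, nat_lit 7, nat_lit 2, nat_lit 2, nat_lit 6, nat_lit 5, nat_lit 2, nat_lit 4]))) (.node (nat_lit 0xab49284fb0ae290) (.leaf ((nat_lit 0), [nat_lit 0, nat_lit 7, nat_lit 0, nat_lit 9, nat_lit 1, nat_lit 9, nat_lit 6, nat_lit 7, nat_lit 1, nat_lit 8, nat_lit 5, nat_lit 0, nat_lit 7, nat_lit 5, nat_lit 6, nat_lit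 2, nat_lit 2])) (.node (nat_lit 0xab518318284cb64) (.leaf ((nat_lit 4), [nat_lit 2, nat_lit 7, nat_lit 9, nat_lit 5, nat_lit 9, nat_lit 8, nat_lit 5, nat_lit 4, nat_lit 7, nat_lit 4, nat_lit 3, nat_lit 3, nat_lit 6, nat_lit 2, nat_lit 4, nat_lit 2, nat_lit 0])) (.leaf ((nat_lit 0), [nat_lit 2, nat_lit 7, nat_lit 9, nat_lit 5, nat_lit 9, nat_lit 2, nat_lit 1, nat_lit 8, nat_lit 6, nat_lit 5, nat_lit 7, nat_lit 4, nat_lit 2, nat_lit 6, nat_lit 5, nat_lit 3, nat_lit 1]))))))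
 (.node (nat_lit 0xab617eb04bcc1f4) (.node (nat_lit 0xab56f5a36d8b5dc) (.node (nat_lit 0xab5581b3cfbedb0) (.leaf ((nat_lit 4), [nat_lit 0, nat_lit 7, nat_lit 0, nat_lit 9, nat_lit 1, nat_lit 9, nat_lit 6, nat_lit 8, nat_lit 1, nat_lit 8, nat_lit 0, nat_lit 7, nat_lit 2, nat_lit 4, nat_lit 6, nat_lit 3, nat_lit 4, nat_lit 3])) (.leaf ((nat_lit 0), [nat_lit 6, nat_lit 9, nat_lit 2, nat_lit 1, nat_lit 9, nat_lit 0, nat_lit 7, nat_lit 8, nat_lit 6, nat_lit 5, nat_lit 0, nat_lit 7, nat_lit 4, nat_lit 3, nat_lit 0]))) (.node (nat_lit 0xab57b020a31a1b4) (.leaf ((nat_lit 1), [nat_lit 5, nat_lit 8, nat_lit 6, nat_lit 2, nat_lit 4, nat_lit 7, nat_lit 3, nat_lit 6, nat_lit 4, nat_lit 3, nat_lit 3, nat_lit 1])) (.node (nat_lit 0xab5a97c4c270c50) (.leaf ((nat_lit 0), [nat_lit 2, nat_lit 7, nat_lit 9, nat_lit 5, nat_lit 9, nat_lit 8, nat_lit 2, nat_lit 6, nat_lit 8, nat_lit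 3, nat_lit 4, nat_lit 7, nat_lit 6, nat_lit 5, nat_lit 6, nat_lit 3, nat_lit 4])) (.leaf ((nat_lit 1), [nat_lit 4, nat_lit 0, nat_lit 7, nat_lit 8, nat_lit 7, nat_lit 2, nat_lit 2, nat_lit 6, nat_lit 2, nat_lit 4, nat_lit 3, nat_lit 0])))))
 (.node (nat_lit 0xab67ab5f1f2dee4) (.node (nat_lit 0xab629536193ee9c) (.leaf ((nat_lit 0), [nat_lit 0, nat_lit 7, nat_lit 0, nat_lit 9, nat_lit 1, nat_lit 9, nat_lit 0, nat_lit 8, nat_lit 6, nat_lit 1, nat_lit 8, nat_lit 3, nat_lit 4, nat_lit 7, nat_lit 5, nat_lit 3, nat_lit 6, nat_lit 1])) (.leaf ((nat_lit 0), [nat_lit 6, nat_lit 9, nat_lit 2, nat_lit 1, nat_lit 9, nat_lit 7, nat_lit 3, nat_lit 4, nat_lit 7, nat_lit 4, nat_lit 2, nat_lit 2, nat_lit 6, nat_lit 4, nat_lit 2]))) (.node (nat_lit 0xab7d7eaeeb44dac) (.leaf ((nat_lit 1), [nat_lit 2, nat_lit 6, nat_lit 3, nat_lit 8, nat_lit 4, nat_lit 1, nat_lit 7, nat_lit 5, nat_lit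 3, nat_lit 6, nat_lit 5])) (.node (nat_lit 0xab7d7eb701124e0) (.leaf ((nat_lit 6), [nat_lit 3, nat_lit 9, nat_lit 0, nat_lit 8, nat_lit 7, nat_lit 0, nat_lit 7, nat_lit 4, nat_lit 2, nat_lit 6, nat_lit 3, nat_lit 4, nat_lit 3])) (.leaf ((nat_lit 6), [nat_lit 9, nat_lit 8, nat_lit 5, nat_lit 1, nat_lit 8, nat_lit 5, nat_lit 0, nat_lit 7, nat_lit 4, nat_lit 3, nat_lit 3, nat_lit 6, nat_lit 5, nat_lit 3, nat_lit 1]))))))))))
 (.node (nat_lit 0xac02704dbee4cec) (.node (nat_lit 0xabc8aeec1768004) (.node (nat_lit 0xab9e2fa3598b0d8) (.node (nat_lit 0xab8e343232f0c04) (.node (nat_lit 0xab85bad446ce8fc) (.node (nat_lit 0xab812071826e384) (.node (nat_lit 0xab8047fd8c46058) (.leaf ((nat_lit 6), [nat_lit 5, nat_lit 6, nat_lit 3, nat_lit 1, nat_lit 9, nat_lit 2, nat_lit 6, nat_lit 8, nat_lit 5, nat_lit 6, nat_lit 7, nat_lit 2, nat_lit 4, nat_lit 6, nat_lit 4, nat_lit 2, nat_lit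 2])) (.leaf ((nat_lit 0), [nat_lit 0, nat_lit 8, nat_lit 4, nat_lit 1, nat_lit 7, nat_lit 2, nat_lit 2, nat_lit 6, nat_lit 5, nat_lit 3, nat_lit 4, nat_lit 0]))) (.node (nat_lit 0xab817d59f702a00) (.leaf ((nat_lit 3), [nat_lit 2, nat_lit 2, nat_lit 9, nat_lit 1, nat_lit 9, nat_lit 5, nat_lit 8, nat_lit 5, nat_lit 8, nat_lit 5, nat_lit 6, nat_lit 7, nat_lit 3, nat_lit 6, nat_lit 5, nat_lit 4, nat_lit 2])) (.node (nat_lit 0xab851f2dae89cfc) (.leaf ((nat_lit 0), [nat_lit 6, nat_lit 3, nat_lit 8, nat_lit 6, nat_lit 5, nat_lit 6, nat_lit 5, nat_lit 3, nat_lit 1])) (.leaf ((nat_lit 3), [nat_lit 6, nat_lit 9, nat_lit 5, nat_lit 3, nat_lit 1, nat_lit 9, nat_lit 4, nat_lit 6, nat_lit 8, nat_lit 7, nat_lit 1, nat_lit 7, nat_lit 6, nat_lit 5, nat_lit 3, nat_lit 6, nat_lit 4])))))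
 (.node (nat_lit 0xab8cbff5729d198) (.node (nat_lit 0xab8617dede59cdc) (.leaf ((nat_lit 2), [nat_lit 5, nat_lit 2, nat_lit 8, nat_lit 7, nat_lit 3, nat_lit 4, nat_lit 7, nat_lit 4, nat_lit 2, nat_lit 6, nat_lit 4, nat_lit 2, nat_lit 2, nat_lit 0])) (.leaf ((nat_lit 2), [nat_lit 7, nat_lit 8, nat_lit 0, nat_lit 8, nat_lit 3, nat_lit 4, nat_lit 7, nat_lit 5, nat_lit 3, nat_lit 6, nat_lit 4, nat_lit 1]))) (.node (nat_lit 0xab8e3422078248c) (.leaf ((nat_lit 3), [nat_lit 2, nat_lit 7, nat_lit 9, nat_lit 5, nat_lit 9, nat_lit 1, nat_lit 7, nat_lit 8, nat_lit 7, nat_lit 5, nat_lit 0, nat_lit 7, nat_lit 3, nat_lit 6, nat_lit 1])) (.node (nat_lit 0xab8e342a1d44b70) (.leaf ((nat_lit 3), [nat_lit 7, nat_lit 9, nat_lit 2, nat_lit 1, nat_lit 9, nat_lit 6, nat_lit 1, nat_lit 8, nat_lit 4, nat_lit 7, nat_lit 2, nat_lit 6, nat_lit 5, nat_lit 3])) (.leaf ((nat_lit 3), [nat_lit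 6, nat_lit 9, nat_lit 2, nat_lit 1, nat_lit 9, nat_lit 3, nat_lit 6, nat_lit 8, nat_lit 1, nat_lit 7, nat_lit 4, nat_lit 6, nat_lit 5, nat_lit 3, nat_lit 4]))))))
 (.node (nat_lit 0xab9577abc28db68) (.node (nat_lit 0xab90a080a80e654) (.node (nat_lit 0xab90436eb2e052c) (.leaf ((nat_lit 3), [nat_lit 2, nat_lit 9, nat_lit 3, nat_lit 5, nat_lit 9, nat_lit 5, nat_lit 7, nat_lit 5, nat_lit 8, nat_lit 0, nat_lit 7, nat_lit 5, nat_lit 2, nat_lit 1])) (.leaf ((nat_lit 1), [nat_lit 6, nat_lit 9, nat_lit 2, nat_lit 1, nat_lit 9, nat_lit 4, nat_lit 8, nat_lit 0, nat_lit 8, nat_lit 7, nat_lit 2, nat_lit 4, nat_lit 7, nat_lit 5, nat_lit 3, nat_lit 6, nat_lit 2]))) (.node (nat_lit 0xab915a8019b6c28) (.leaf ((nat_lit 0), [nat_lit 2, nat_lit 2, nat_lit 8, nat_lit 6, nat_lit 5, nat_lit 0, nat_lit 7, nat_lit 6, nat_lit 2, nat_lit 2, nat_lit 6])) (.node (nat_lit 0xab91b76a5a47630)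 (.leaf ((nat_lit 1), [nat_lit 2, nat_lit 9, nat_lit 3, nat_lit 5, nat_lit 9, nat_lit 6, nat_lit 0, nat_lit 8, nat_lit 4, nat_lit 6, nat_lit 5, nat_lit 3, nat_lit 0])) (.leaf ((nat_lit 1), [nat_lit 2, nat_lit 2, nat_lit 9, nat_lit 1, nat_lit 9, nat_lit 3, nat_lit 6, nat_lit 1, nat_lit 7, nat_lit 5, nat_lit 4, nat_lit 2, nat_lit 2, nat_lit 0])))))
 (.node (nat_lit 0xab9d1863b720b2c) (.node (nat_lit 0xab9be3071e65480) (.leaf ((nat_lit 0), [nat_lit 2, nat_lit 1, nat_lit 8, nat_lit 7, nat_lit 3, nat_lit 6, nat_lit 5, nat_lit 3, nat_lit 4, nat_lit 3])) (.leaf ((nat_lit 2), [nat_lit 0, nat_lit 9, nat_lit 5, nat_lit 3, nat_lit 9, nat_lit 2, nat_lit 5, nat_lit 8, nat_lit 7, nat_lit 3, nat_lit 4, nat_lit 6, nat_lit 3, nat_lit 3, nat_lit 0]))) (.node (nat_lit 0xab9d757a863649c) (.leaf ((nat_lit 1), [nat_lit 6, nat_lit 9, nat_lit 2, nat_lit 1, nat_lit 9, nat_lit 2, nat_lit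 6, nat_lit 0, nat_lit 8, nat_lit 3, nat_lit 6, nat_lit 1, nat_lit 7, nat_lit 5, nat_lit 3, nat_lit 6])) (.node (nat_lit 0xab9e2f9b43df488) (.leaf ((nat_lit 0), [nat_lit 5, nat_lit 6, nat_lit 8, nat_lit 2, nat_lit 4, nat_lit 7, nat_lit 4, nat_lit 6, nat_lit 3, nat_lit 4, nat_lit 3])) (.leaf ((nat_lit 2), [nat_lit 7, nat_lit 9, nat_lit 2, nat_lit 1, nat_lit 9, nat_lit 8, nat_lit 5, nat_lit 7, nat_lit 5, nat_lit 1, nat_lit 7, nat_lit 3, nat_lit 4, nat_lit 6])))))))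
 (.node (nat_lit 0xabb20b623490ffc) (.node (nat_lit 0xabab816dad709bc) (.node (nat_lit 0xaba05d5c73b93f0) (.node (nat_lit 0xab9e2fab6f58534) (.leaf ((nat_lit 2), [nat_lit 6, nat_lit 9, nat_lit 5, nat_lit 9, nat_lit 6, nat_lit 7, nat_lit 1, nat_lit 8, nat_lit 7, nat_lit 0, nat_lit 7, nat_lit 2, nat_lit 6, nat_lit 5, nat_lit 4, nat_lit 2, nat_lit 1])) (.leaf ((nat_lit 2), [nat_lit 6, nat_lit 9, nat_lit 5, nat_lit 9, nat_lit 7, nat_lit 2, nat_lit 4, nat_lit 7, nat_lit 6, nat_lit 3, nat_lit 3, nat_lit 6, nat_lit 4, nat_lit 2, nat_lit 2, nat_lit 1]))) (.node (nat_lit 0xaba0ba5f2366d54) (.leaf ((nat_lit 1), [nat_lit 2, nat_lit 2, nat_lit 9, nat_lit 0, nat_lit 9, nat_lit 7, nat_lit 2, nat_lit 1, nat_lit 8, nat_lit 7, nat_lit 2, nat_lit 4, nat_lit 6, nat_lit 3, nat_lit 1])) (.node (nat_lit 0xaba1b2e89e779c4) (.leaf ((nat_lit 1), [nat_lit 2, nat_lit 9, nat_lit 3, nat_lit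 5, nat_lit 9, nat_lit 5, nat_lit 6, nat_lit 8, nat_lit 4, nat_lit 0, nat_lit 7, nat_lit 4, nat_lit 3, nat_lit 6, nat_lit 4, nat_lit 3, nat_lit 3])) (.leaf ((nat_lit 0), [nat_lit 5, nat_lit 6, nat_lit 8, nat_lit 6, nat_lit 5, nat_lit 7, nat_lit 4, nat_lit 3, nat_lit 6, nat_lit 1])))))
 (.node (nat_lit 0xabacb6c87a3a77c) (.node (nat_lit 0xabac59d56c0ea30) (.leaf ((nat_lit 2), [nat_lit 9, nat_lit 2, nat_lit 5, nat_lit 6, nat_lit 9, nat_lit 8, nat_lit 5, nat_lit 8, nat_lit 1, nat_lit 7, nat_lit 6, nat_lit 5, nat_lit 2, nat_lit 0])) (.leaf ((nat_lit 0), [nat_lit 5, nat_lit 6, nat_lit 8, nat_lit 3, nat_lit 3, nat_lit 3, nat_lit 6, nat_lit 4, nat_lit 3, nat_lit 3, nat_lit 0]))) (.node (nat_lit 0xabb0b5c21886c58) (.leaf ((nat_lit 3), [nat_lit 2, nat_lit 9, nat_lit 3, nat_lit 5, nat_lit 9, nat_lit 8, nat_lit 6, nat_lit 3, nat_lit 8, nat_lit 6, nat_lit 7, nat_lit 6, nat_lit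 3, nat_lit 4, nat_lit 3])) (.node (nat_lit 0xabb112d8b99db9c) (.leaf ((nat_lit 1), [nat_lit 6, nat_lit 9, nat_lit 2, nat_lit 1, nat_lit 9, nat_lit 0, nat_lit 8, nat_lit 7, nat_lit 3, nat_lit 4, nat_lit 7, nat_lit 6, nat_lit 5, nat_lit 6, nat_lit 3, nat_lit 0])) (.leaf ((nat_lit 1), [nat_lit 2, nat_lit 2, nat_lit 9, nat_lit 1, nat_lit 9, nat_lit 4, nat_lit 0, nat_lit 7, nat_lit 8, nat_lit 5, nat_lit 7, nat_lit 2, nat_lit 6, nat_lit 3, nat_lit 3, nat_lit 3]))))))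
 (.node (nat_lit 0xabbd4df81e586e8) (.node (nat_lit 0xabb8b365337d9dc) (.node (nat_lit 0xabb8566c0965994) (.leaf ((nat_lit 2), [nat_lit 1, nat_lit 8, nat_lit 7, nat_lit 1, nat_lit 8, nat_lit 5, nat_lit 7, nat_lit 6, nat_lit 3, nat_lit 4, nat_lit 6, nat_lit 5, nat_lit 2, nat_lit 4, nat_lit 3, nat_lit 1])) (.leaf ((nat_lit 1), [nat_lit 6, nat_lit 9, nat_lit 5, nat_lit 3, nat_lit 1, nat_lit 9, nat_lit 3, nat_lit 1, nat_lit 8, nat_lit 3, nat_lit 4, nat_lit 7, nat_lit 3, nat_lit 3, nat_lit 6]))) (.node (nat_lit 0xabbc36dde9c5330) (.leaf ((nat_lit 3), [nat_lit 7, nat_lit 9, nat_lit 2, nat_lit 1, nat_lit 9, nat_lit 6, nat_lit 8, nat_lit 5, nat_lit 6, nat_lit 7, nat_lit 3, nat_lit 3, nat_lit 3, nat_lit 6, nat_lit 5, nat_lit 3, nat_lit 1])) (.node (nat_lit 0xabbc93eb611b994) (.leaf ((nat_lit 2), [nat_lit 0, nat_lit 9, nat_lit 2, nat_lit 7, nat_lit 9, nat_lit 7, nat_lit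 6, nat_lit 8, nat_lit 1, nat_lit 7, nat_lit 3, nat_lit 3, nat_lit 6, nat_lit 4, nat_lit 1])) (.leaf ((nat_lit 0), [nat_lit 5, nat_lit 1, nat_lit 8, nat_lit 0, nat_lit 7, nat_lit 4, nat_lit 1])))))
 (.node (nat_lit 0xabc10e3816c7e30) (.node (nat_lit 0xabc0b1353911000) (.leaf ((nat_lit 1), [nat_lit 9, nat_lit 7, nat_lit 5, nat_lit 0, nat_lit 9, nat_lit 8, nat_lit 2, nat_lit 1, nat_lit 8, nat_lit 6, nat_lit 5, nat_lit 7, nat_lit 5, nat_lit 6, nat_lit 5, nat_lit 2, nat_lit 1])) (.leaf ((nat_lit 3), [nat_lit 0, nat_lit 7, nat_lit 0, nat_lit 9, nat_lit 1, nat_lit 9, nat_lit 2, nat_lit 5, nat_lit 8, nat_lit 7, nat_lit 5, nat_lit 7, nat_lit 4, nat_lit 3, nat_lit 3, nat_lit 6, nat_lit 5, nat_lit 4, nat_lit 2]))) (.node (nat_lit 0xabc7798796ddf28) (.leaf ((nat_lit 3), [nat_lit 2, nat_lit 2, nat_lit 9, nat_lit 0, nat_lit 9, nat_lit 1, nat_lit 8, nat_lit 6, nat_lit 1, nat_lit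 8, nat_lit 4, nat_lit 0, nat_lit 7, nat_lit 4, nat_lit 3, nat_lit 6, nat_lit 4])) (.node (nat_lit 0xabc7d683cedd59c) (.leaf ((nat_lit 1), [nat_lit 9, nat_lit 7, nat_lit 5, nat_lit 0, nat_lit 9, nat_lit 3, nat_lit 8, nat_lit 4, nat_lit 0, nat_lit 7, nat_lit 3, nat_lit 6, nat_lit 5, nat_lit 3, nat_lit 4])) (.leaf ((nat_lit 0), [nat_lit 5, nat_lit 6, nat_lit 8, nat_lit 4, nat_lit 0, nat_lit 7, nat_lit 6, nat_lit 5, nat_lit 3, nat_lit 6, nat_lit 1]))))))))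
 (.node (nat_lit 0xabe6d54488d5648) (.node (nat_lit 0xabdb357fbca456c) (.node (nat_lit 0xabd61fc956e81b0) (.node (nat_lit 0xabcd49712cc58c0) (.node (nat_lit 0xabcc50d364638c4) (.leaf ((nat_lit 1), [nat_lit 2, nat_lit 2, nat_lit 9, nat_lit 1, nat_lit 9, nat_lit 6, nat_lit 3, nat_lit 8, nat_lit 6, nat_lit 0, nat_lit 7, nat_lit 6, nat_lit 5, nat_lit 6, nat_lit 2, nat_lit 0])) (.leaf ((nat_lit 0), [nat_lit 2, nat_lit 5, nat_lit 8, nat_lit 6, nat_lit 7, nat_lit 5, nat_lit 6, nat_lit 3, nat_lit 4]))) (.node (nat_lit 0xabcda6688acac54) (.leaf ((nat_lit 0), [nat_lit 6, nat_lit 8, nat_lit 4, nat_lit 0, nat_lit 7, nat_lit 3, nat_lit 4, nat_lit 6, nat_lit 5, nat_lit 3, nat_lit 3, nat_lit 0])) (.node (nat_lit 0xabd61fc14116bec) (.leaf ((nat_lit 0), [nat_lit 1, nat_lit 8, nat_lit 7, nat_lit 4, nat_lit 2, nat_lit 2, nat_lit 1])) (.leaf ((nat_lit 6), [nat_lit 6, nat_lit 8,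 nat_lit 3, nat_lit 9, nat_lit 3, nat_lit 8, nat_lit 5, nat_lit 6, nat_lit 4, nat_lit 3, nat_lit 3, nat_lit 3, nat_lit 1])))))
 (.node (nat_lit 0xabd7182fb9f8630) (.node (nat_lit 0xabd61fd16ca2b74) (.leaf ((nat_lit 2), [nat_lit 7, nat_lit 5, nat_lit 8, nat_lit 0, nat_lit 8, nat_lit 4, nat_lit 7, nat_lit 6, nat_lit 3, nat_lit 4, nat_lit 6, nat_lit 4, nat_lit 3, nat_lit 3])) (.leaf ((nat_lit 3), [nat_lit 2, nat_lit 2, nat_lit 9, nat_lit 1, nat_lit 9, nat_lit 7, nat_lit 1, nat_lit 8, nat_lit 2, nat_lit 4, nat_lit 6, nat_lit 5, nat_lit 2, nat_lit 4, nat_lit 0]))) (.node (nat_lit 0xabd77516069e3ac) (.leaf ((nat_lit 0), [nat_lit 4, nat_lit 8, nat_lit 0, nat_lit 8, nat_lit 4, nat_lit 7, nat_lit 6, nat_lit 5, nat_lit 6, nat_lit 5, nat_lit 2, nat_lit 4, nat_lit 1])) (.node (nat_lit 0xabda1e765c7063c) (.leaf ((nat_lit 2), [nat_lit 2, nat_lit 7, nat_lit 5, nat_lit 8, nat_lit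 6, nat_lit 5, nat_lit 7, nat_lit 6, nat_lit 5, nat_lit 3, nat_lit 3])) (.leaf ((nat_lit 3), [nat_lit 9, nat_lit 7, nat_lit 5, nat_lit 0, nat_lit 9, nat_lit 6, nat_lit 3, nat_lit 8, nat_lit 4, nat_lit 1, nat_lit 7, nat_lit 4, nat_lit 6, nat_lit 5, nat_lit 1]))))))
 (.node (nat_lit 0xabdeb8c307a4f80) (.node (nat_lit 0xabdb358a565d88c) (.node (nat_lit 0xabdb358800746c8) (.leaf ((nat_lit 6), [nat_lit 2, nat_lit 2, nat_lit 9, nat_lit 1, nat_lit 9, nat_lit 8, nat_lit 3, nat_lit 1, nat_lit 8, nat_lit 6, nat_lit 5, nat_lit 6, nat_lit 7, nat_lit 4, nat_lit 2, nat_lit 6])) (.leaf ((nat_lit 3), [nat_lit 0, nat_lit 7, nat_lit 0, nat_lit 9, nat_lit 1, nat_lit 9, nat_lit 3, nat_lit 8, nat_lit 4, nat_lit 0, nat_lit 7, nat_lit 3, nat_lit 4, nat_lit 6]))) (.node (nat_lit 0xabdbef4995074ac) (.leaf ((nat_lit 2), [nat_lit 2, nat_lit 9, nat_lit 3, nat_lit 5, nat_lit 9, nat_lit 7,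 nat_lit 5, nat_lit 1, nat_lit 8, nat_lit 6, nat_lit 2, nat_lit 2, nat_lit 6, nat_lit 4, nat_lit 3])) (.node (nat_lit 0xabde5bcba9892c4) (.leaf ((nat_lit 3), [nat_lit 6, nat_lit 9, nat_lit 2, nat_lit 1, nat_lit 9, nat_lit 5, nat_lit 0, nat_lit 8, nat_lit 0, nat_lit 7, nat_lit 6, nat_lit 2, nat_lit 2, nat_lit 6, nat_lit 4, nat_lit 2, nat_lit 2])) (.leaf ((nat_lit 1), [nat_lit 2, nat_lit 2, nat_lit 9, nat_lit 0, nat_lit 9, nat_lit 3, nat_lit 6, nat_lit 1, nat_lit 7, nat_lit 4, nat_lit 3, nat_lit 3, nat_lit 6, nat_lit 3, nat_lit 3])))))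
 (.node (nat_lit 0xabe5be0ad4283ec) (.node (nat_lit 0xabe561253f6ded4) (.leaf ((nat_lit 1), [nat_lit 0, nat_lit 7, nat_lit 0, nat_lit 9, nat_lit 1, nat_lit 9, nat_lit 8, nat_lit 3, nat_lit 4, nat_lit 7, nat_lit 2, nat_lit 4, nat_lit 6, nat_lit 4, nat_lit 3, nat_lit 3])) (.leaf ((nat_lit 1), [nat_lit 2, nat_lit 9, nat_lit 3, nat_lit 5, nat_lit 9, nat_lit 3, nat_lit 0, nat_lit 8, nat_lit 0, nat_lit 7, nat_lit 6, nat_lit 3, nat_lit 3, nat_lit 6, nat_lit 1]))) (.node (nat_lit 0xabe6d5345d54160) (.leaf ((nat_lit 0), [nat_lit 8, nat_lit 6, nat_lit 2, nat_lit 8, nat_lit 7, nat_lit 3, nat_lit 4, nat_lit 7, nat_lit 4, nat_lit 3, nat_lit 6, nat_lit 3, nat_lit 3])) (.node (nat_lit 0xabe6d53c7304084) (.leaf ((nat_lit 2), [nat_lit 6, nat_lit 9, nat_lit 2, nat_lit 1, nat_lit 9, nat_lit 8, nat_lit 2, nat_lit 5, nat_lit 8, nat_lit 2, nat_lit 4, nat_lit 7, nat_lit 4, nat_lit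 3, nat_lit 6, nat_lit 4, nat_lit 1])) (.leaf ((nat_lit 3), [nat_lit 6, nat_lit 9, nat_lit 5, nat_lit 3, nat_lit 1, nat_lit 9, nat_lit 6, nat_lit 2, nat_lit 1, nat_lit 8, nat_lit 4, nat_lit 0, nat_lit 7, nat_lit 6, nat_lit 5, nat_lit 6, nat_lit 5, nat_lit 4])))))))
 (.node (nat_lit 0xabf5b99607dd2e8) (.node (nat_lit 0xabeb8e008292718) (.node (nat_lit 0xabea585ba128a6c) (.node (nat_lit 0xabe7cd9d165579c) (.leaf ((nat_lit 6), [nat_lit 6, nat_lit 2, nat_lit 9, nat_lit 8, nat_lit 1, nat_lit 8, nat_lit 6, nat_lit 3, nat_lit 4, nat_lit 7, nat_lit 6, nat_lit 5, nat_lit 6, nat_lit 5, nat_lit 2, nat_lit 4, nat_lit 1])) (.leaf ((nat_lit 1), [nat_lit 2, nat_lit 2, nat_lit 9, nat_lit 1, nat_lit 9, nat_lit 8, nat_lit 5, nat_lit 0, nat_lit 8, nat_lit 0, nat_lit 7, nat_lit 4, nat_lit 3, nat_lit 6, nat_lit 3, nat_lit 4, nat_lit 3, nat_lit 0]))) (.node (nat_lit 0xabeb8df5e8fad70)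 (.leaf ((nat_lit 0), [nat_lit 6, nat_lit 8, nat_lit 6, nat_lit 7, nat_lit 6, nat_lit 3, nat_lit 3, nat_lit 6, nat_lit 5, nat_lit 2, nat_lit 0])) (.node (nat_lit 0xabeb8dfe2cb4160) (.leaf ((nat_lit 6), [nat_lit 2, nat_lit 2, nat_lit 9, nat_lit 1, nat_lit 9, nat_lit 8, nat_lit 7, nat_lit 5, nat_lit 7, nat_lit 6, nat_lit 5, nat_lit 3, nat_lit 6, nat_lit 5, nat_lit 4, nat_lit 3])) (.leaf ((nat_lit 3), [nat_lit 2, nat_lit 2, nat_lit 9, nat_lit 0, nat_lit 9, nat_lit 2, nat_lit 6, nat_lit 0, nat_lit 8, nat_lit 5, nat_lit 4, nat_lit 7, nat_lit 2, nat_lit 4, nat_lit 6, nat_lit 3, nat_lit 3])))))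
 (.node (nat_lit 0xabed01aa2d9d998) (.node (nat_lit 0xabeca4bb13301e8) (.leaf ((nat_lit 2), [nat_lit 6, nat_lit 9, nat_lit 2, nat_lit 1, nat_lit 9, nat_lit 8, nat_lit 1, nat_lit 8, nat_lit 5, nat_lit 6, nat_lit 7, nat_lit 3, nat_lit 6, nat_lit 2, nat_lit 2])) (.leaf ((nat_lit 0), [nat_lit 2, nat_lit 1, nat_lit 8, nat_lit 4, nat_lit 7, nat_lit 4, nat_lit 2, nat_lit 2, nat_lit 6, nat_lit 5, nat_lit 0]))) (.node (nat_lit 0xabf2b327dea8dd8) (.leaf ((nat_lit 0), [nat_lit 6, nat_lit 8, nat_lit 5, nat_lit 7, nat_lit 5, nat_lit 7, nat_lit 6, nat_lit 4, nat_lit 2, nat_lit 6, nat_lit 3, nat_lit 0])) (.node (nat_lit 0xabf3104bcb541c4) (.leaf ((nat_lit 1), [nat_lit 0, nat_lit 7, nat_lit 0, nat_lit 9, nat_lit 1, nat_lit 9, nat_lit 8, nat_lit 2, nat_lit 6, nat_lit 0, nat_lit 8, nat_lit 7, nat_lit 1, nat_lit 7, nat_lit 4, nat_lit 6])) (.leaf ((nat_lit 2), [nat_lit 3, nat_lit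 9, nat_lit 0, nat_lit 9, nat_lit 8, nat_lit 6, nat_lit 2, nat_lit 8, nat_lit 5, nat_lit 7, nat_lit 6, nat_lit 2, nat_lit 4, nat_lit 6, nat_lit 3, nat_lit 4]))))))
 (.node (nat_lit 0xabfa53da9d533d8) (.node (nat_lit 0xabf673b8bf8108c) (.node (nat_lit 0xabf673b0a9c655c) (.leaf ((nat_lit 0), [nat_lit 1, nat_lit 8, nat_lit 3, nat_lit 4, nat_lit 6, nat_lit 5, nat_lit 3, nat_lit 4, nat_lit 3, nat_lit 1])) (.leaf ((nat_lit 3), [nat_lit 2, nat_lit 7, nat_lit 9, nat_lit 5, nat_lit 9, nat_lit 3, nat_lit 8, nat_lit 5, nat_lit 7, nat_lit 5, nat_lit 7, nat_lit 2, nat_lit 1]))) (.node (nat_lit 0xabf673c0d530cd8) (.leaf ((nat_lit 6), [nat_lit 8, nat_lit 0, nat_lit 9, nat_lit 2, nat_lit 1, nat_lit 9, nat_lit 1, nat_lit 8, nat_lit 7, nat_lit 0, nat_lit 7, nat_lit 2, nat_lit 6, nat_lit 3, nat_lit 0])) (.node (nat_lit 0xabf7e75c4eae940) (.leaf ((nat_lit 2), [nat_lit 6, nat_lit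 9, nat_lit 5, nat_lit 9, nat_lit 8, nat_lit 5, nat_lit 7, nat_lit 8, nat_lit 7, nat_lit 2, nat_lit 6, nat_lit 5, nat_lit 3, nat_lit 4, nat_lit 0])) (.leaf ((nat_lit 1), [nat_lit 0, nat_lit 7, nat_lit 0, nat_lit 9, nat_lit 1, nat_lit 9, nat_lit 5, nat_lit 8, nat_lit 5, nat_lit 8, nat_lit 5, nat_lit 0, nat_lit 7, nat_lit 5, nat_lit 6, nat_lit 5, nat_lit 2])))))
 (.node (nat_lit 0xabfbe67458e92c4) (.node (nat_lit 0xabfbe66c153a974) (.leaf ((nat_lit 2), [nat_lit 5, nat_lit 9, nat_lit 6, nat_lit 0, nat_lit 9, nat_lit 8, nat_lit 6, nat_lit 5, nat_lit 0, nat_lit 7, nat_lit 3, nat_lit 3, nat_lit 6, nat_lit 4, nat_lit 2, nat_lit 0])) (.leaf ((nat_lit 6), [nat_lit 1, nat_lit 7, nat_lit 0, nat_lit 9, nat_lit 8, nat_lit 5, nat_lit 2, nat_lit 8, nat_lit 5, nat_lit 0, nat_lit 7, nat_lit 6, nat_lit 4, nat_lit 2, nat_lit 6, nat_lit 5]))) (.node (nat_lit 0xabfbe676aee8f1c) (.leaf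 ((nat_lit 3), [nat_lit 9, nat_lit 7, nat_lit 5, nat_lit 0, nat_lit 9, nat_lit 8, nat_lit 2, nat_lit 1, nat_lit 8, nat_lit 7, nat_lit 5, nat_lit 0, nat_lit 7, nat_lit 6, nat_lit 5, nat_lit 2, nat_lit 4, nat_lit 3])) (.node (nat_lit 0xac02136ca82ba9c) (.leaf ((nat_lit 2), [nat_lit 5, nat_lit 8, nat_lit 5, nat_lit 8, nat_lit 4, nat_lit 7, nat_lit 4, nat_lit 2, nat_lit 6, nat_lit 3, nat_lit 4])) (.leaf ((nat_lit 1), [nat_lit 0, nat_lit 7, nat_lit 0, nat_lit 9, nat_lit 1, nat_lit 9, nat_lit 2, nat_lit 5, nat_lit 8, nat_lit 7, nat_lit 1, nat_lit 7, nat_lit 3, nat_lit 6, nat_lit 2, nat_lit 1])))))))))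
 (.node (nat_lit 0xac3d480f2cf5400) (.node (nat_lit 0xac243809ad60254) (.node (nat_lit 0xac12c8d416a5f44) (.node (nat_lit 0xac0786469ea8fa0) (.node (nat_lit 0xac030bbc0bf9f18) (.node (nat_lit 0xac030bb3f62867c) (.leaf ((nat_lit 3), [nat_lit 2, nat_lit 9, nat_lit 3, nat_lit 5, nat_lit 9, nat_lit 8, nat_lit 3, nat_lit 1, nat_lit 8, nat_lit 7, nat_lit 2, nat_lit 2, nat_lit 6, nat_lit 5])) (.leaf ((nat_lit 6), [nat_lit 3, nat_lit 3, nat_lit 3, nat_lit 9, nat_lit 3, nat_lit 8, nat_lit 3, nat_lit 6, nat_lit 1, nat_lit 7, nat_lit 4, nat_lit 6, nat_lit 5, nat_lit 2, nat_lit 0]))) (.node (nat_lit 0xac030bc19dc8e5c) (.leaf ((nat_lit 2), [nat_lit 5, nat_lit 7, nat_lit 5, nat_lit 8, nat_lit 7, nat_lit 0, nat_lit 7, nat_lit 3, nat_lit 3, nat_lit 3, nat_lit 6, nat_lit 5, nat_lit 3, nat_lit 1])) (.node (nat_lit 0xac0611f61ae2544) (.leaf ((nat_lit 3), [nat_lit 2, nat_lit 2,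 nat_lit 9, nat_lit 0, nat_lit 9, nat_lit 2, nat_lit 8, nat_lit 1, nat_lit 7, nat_lit 4, nat_lit 3, nat_lit 3, nat_lit 6, nat_lit 5, nat_lit 3, nat_lit 3, nat_lit 3, nat_lit 0])) (.leaf ((nat_lit 0), [nat_lit 5, nat_lit 0, nat_lit 8, nat_lit 2, nat_lit 4, nat_lit 6, nat_lit 5, nat_lit 4, nat_lit 0])))))
 (.node (nat_lit 0xac08f9d5846af7c) (.node (nat_lit 0xac089cf2a1c0440) (.leaf ((nat_lit 1), [nat_lit 2, nat_lit 2, nat_lit 9, nat_lit 1, nat_lit 9, nat_lit 2, nat_lit 6, nat_lit 8, nat_lit 3, nat_lit 4, nat_lit 7, nat_lit 2, nat_lit 4, nat_lit 6, nat_lit 5, nat_lit 4, nat_lit 2, nat_lit 2])) (.leaf ((nat_lit 2), [nat_lit 0, nat_lit 9, nat_lit 1, nat_lit 9, nat_lit 7, nat_lit 5, nat_lit 1, nat_lit 7, nat_lit 2, nat_lit 4, nat_lit 6, nat_lit 3, nat_lit 1]))) (.node (nat_lit 0xac11548f408f9b0) (.leaf ((nat_lit 2), [nat_lit 9, nat_lit 4, nat_lit 7, nat_lit 3, nat_lit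 9, nat_lit 2, nat_lit 1, nat_lit 8, nat_lit 5, nat_lit 3, nat_lit 6, nat_lit 3, nat_lit 4, nat_lit 1])) (.node (nat_lit 0xac11b1adf76d418) (.leaf ((nat_lit 1), [nat_lit 7, nat_lit 9, nat_lit 2, nat_lit 1, nat_lit 9, nat_lit 1, nat_lit 8, nat_lit 1, nat_lit 8, nat_lit 7, nat_lit 1, nat_lit 7, nat_lit 2, nat_lit 4, nat_lit 6, nat_lit 3, nat_lit 4, nat_lit 0])) (.leaf ((nat_lit 0), [nat_lit 6, nat_lit 1, nat_lit 8, nat_lit 6]))))))
 (.node (nat_lit 0xac1ea6d345a6db0) (.node (nat_lit 0xac18f5633c3126c) (.node (nat_lit 0xac183ba5f7773b4) (.leaf ((nat_lit 1), [nat_lit 6, nat_lit 9, nat_lit 5, nat_lit 3, nat_lit 1, nat_lit 9, nat_lit 8, nat_lit 7, nat_lit 1, nat_lit 8, nat_lit 0, nat_lit 7, nat_lit 3, nat_lit 6, nat_lit 5, nat_lit 2, nat_lit 2])) (.leaf ((nat_lit 3), [nat_lit 7, nat_lit 9, nat_lit 2, nat_lit 1, nat_lit 9, nat_lit 4, nat_lit 7, nat_lit 8, nat_lit 7,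 nat_lit 3, nat_lit 4, nat_lit 7, nat_lit 2, nat_lit 4, nat_lit 6, nat_lit 5, nat_lit 2, nat_lit 4]))) (.node (nat_lit 0xac19526dd39ab68) (.leaf ((nat_lit 1), [nat_lit 0, nat_lit 7, nat_lit 0, nat_lit 9, nat_lit 1, nat_lit 9, nat_lit 2, nat_lit 5, nat_lit 8, nat_lit 2, nat_lit 4, nat_lit 7, nat_lit 3, nat_lit 4, nat_lit 3, nat_lit 1])) (.node (nat_lit 0xac1ea6cb2fec280) (.leaf ((nat_lit 1), [nat_lit 9, nat_lit 7, nat_lit 5, nat_lit 0, nat_lit 9, nat_lit 1, nat_lit 8, nat_lit 6, nat_lit 1, nat_lit 8, nat_lit 4, nat_lit 2, nat_lit 2, nat_lit 6, nat_lit 3, nat_lit 4, nat_lit 3])) (.leaf ((nat_lit 3), [nat_lit 0, nat_lit 7, nat_lit 0, nat_lit 9, nat_lit 1, nat_lit 9, nat_lit 6, nat_lit 1, nat_lit 8, nat_lit 6, nat_lit 3, nat_lit 3, nat_lit 6, nat_lit 5, nat_lit 4])))))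
 (.node (nat_lit 0xac220a10044fc1c) (.node (nat_lit 0xac1ea6d8d76b0e8) (.leaf ((nat_lit 6), [nat_lit 5, nat_lit 6, nat_lit 8, nat_lit 6, nat_lit 5, nat_lit 7, nat_lit 5, nat_lit 3, nat_lit 4])) (.leaf ((nat_lit 2), [nat_lit 6, nat_lit 9, nat_lit 5, nat_lit 9, nat_lit 7, nat_lit 8, nat_lit 0, nat_lit 8, nat_lit 3, nat_lit 6, nat_lit 5, nat_lit 3, nat_lit 3]))) (.node (nat_lit 0xac22c4453d40418) (.leaf ((nat_lit 2), [nat_lit 3, nat_lit 9, nat_lit 1, nat_lit 9, nat_lit 7, nat_lit 0, nat_lit 7, nat_lit 4, nat_lit 2, nat_lit 2, nat_lit 6, nat_lit 3, nat_lit 3, nat_lit 3, nat_lit 1])) (.node (nat_lit 0xac23214dace0d88) (.leaf ((nat_lit 0), [nat_lit 0, nat_lit 7, nat_lit 8, nat_lit 6, nat_lit 3, nat_lit 4, nat_lit 7, nat_lit 2, nat_lit 6, nat_lit 3])) (.leaf ((nat_lit 3), [nat_lit 6, nat_lit 9, nat_lit 2, nat_lit 1, nat_lit 9, nat_lit 6, nat_lit 8, nat_lit 0, nat_lit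 7, nat_lit 3, nat_lit 4, nat_lit 6, nat_lit 2, nat_lit 4, nat_lit 0])))))))
 (.node (nat_lit 0xac30161d38ca200) (.node (nat_lit 0xac28370f085330c) (.node (nat_lit 0xac25309c2419b14) (.node (nat_lit 0xac2530940e69a84) (.leaf ((nat_lit 0), [nat_lit 1, nat_lit 8, nat_lit 5, nat_lit 7, nat_lit 5, nat_lit 4])) (.leaf ((nat_lit 2), [nat_lit 5, nat_lit 8, nat_lit 1, nat_lit 8, nat_lit 7, nat_lit 6, nat_lit 5, nat_lit 3, nat_lit 1]))) (.node (nat_lit 0xac2530a1b5ff4ec) (.leaf ((nat_lit 3), [nat_lit 9, nat_lit 7, nat_lit 5, nat_lit 0, nat_lit 9, nat_lit 4, nat_lit 3, nat_lit 8, nat_lit 6, nat_lit 5, nat_lit 7, nat_lit 5, nat_lit 3, nat_lit 4])) (.node (nat_lit 0xac27da35d94b170) (.leaf ((nat_lit 6), [nat_lit 7, nat_lit 4, nat_lit 8, nat_lit 2, nat_lit 9, nat_lit 2, nat_lit 6, nat_lit 8, nat_lit 6, nat_lit 1, nat_lit 7, nat_lit 3, nat_lit 6, nat_lit 5, nat_lit 2, nat_lit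 4])) (.leaf ((nat_lit 0), [nat_lit 8, nat_lit 7, nat_lit 0, nat_lit 8, nat_lit 7, nat_lit 5, nat_lit 6, nat_lit 7, nat_lit 2, nat_lit 2, nat_lit 1])))))
 (.node (nat_lit 0xac2e06d8a32ec88) (.node (nat_lit 0xac2da9d90155d4c) (.leaf ((nat_lit 0), [nat_lit 5, nat_lit 6, nat_lit 8, nat_lit 3, nat_lit 6, nat_lit 1, nat_lit 7, nat_lit 4, nat_lit 3, nat_lit 6, nat_lit 0])) (.leaf ((nat_lit 3), [nat_lit 2, nat_lit 2, nat_lit 9, nat_lit 0, nat_lit 9, nat_lit 8, nat_lit 3, nat_lit 1, nat_lit 8, nat_lit 6, nat_lit 5, nat_lit 7, nat_lit 4, nat_lit 2, nat_lit 2, nat_lit 6, nat_lit 3]))) (.node (nat_lit 0xac30160f632743c) (.leaf ((nat_lit 0), [nat_lit 1, nat_lit 7, nat_lit 8, nat_lit 4, nat_lit 2, nat_lit 6, nat_lit 5, nat_lit 4, nat_lit 2, nat_lit 2, nat_lit 0])) (.node (nat_lit 0xac3016152307844) (.leaf ((nat_lit 6), [nat_lit 9, nat_lit 6, nat_lit 3, nat_lit 1, nat_lit 9,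 nat_lit 5, nat_lit 8, nat_lit 1, nat_lit 8, nat_lit 6, nat_lit 7, nat_lit 4, nat_lit 6, nat_lit 4, nat_lit 3, nat_lit 1])) (.leaf ((nat_lit 6), [nat_lit 4, nat_lit 6, nat_lit 8, nat_lit 3, nat_lit 6, nat_lit 1, nat_lit 7, nat_lit 5, nat_lit 3, nat_lit 6, nat_lit 5, nat_lit 2, nat_lit 4, nat_lit 3, nat_lit 1]))))))
 (.node (nat_lit 0xac3433759e336dc) (.node (nat_lit 0xac31a867a9d783c) (.node (nat_lit 0xac314b79a386fec) (.leaf ((nat_lit 6), [nat_lit 6, nat_lit 2, nat_lit 0, nat_lit 9, nat_lit 3, nat_lit 6, nat_lit 3, nat_lit 8, nat_lit 6, nat_lit 3, nat_lit 4, nat_lit 7, nat_lit 4, nat_lit 2, nat_lit 2, nat_lit 1])) (.leaf ((nat_lit 0), [nat_lit 6, nat_lit 8, nat_lit 5, nat_lit 6, nat_lit 7, nat_lit 4, nat_lit 3, nat_lit 6, nat_lit 2, nat_lit 2, nat_lit 0]))) (.node (nat_lit 0xac331cb0a1db1ac) (.leaf ((nat_lit 2), [nat_lit 8, nat_lit 0, nat_lit 8, nat_lit 5, nat_lit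 6, nat_lit 7, nat_lit 2, nat_lit 4, nat_lit 6, nat_lit 5, nat_lit 2, nat_lit 4, nat_lit 2, nat_lit 0])) (.node (nat_lit 0xac3379d5a2948f0) (.leaf ((nat_lit 3), [nat_lit 6, nat_lit 9, nat_lit 5, nat_lit 3, nat_lit 1, nat_lit 9, nat_lit 8, nat_lit 2, nat_lit 5, nat_lit 8, nat_lit 4, nat_lit 6, nat_lit 3, nat_lit 1])) (.leaf ((nat_lit 3), [nat_lit 2, nat_lit 7, nat_lit 9, nat_lit 5, nat_lit 9, nat_lit 7, nat_lit 5, nat_lit 0, nat_lit 8, nat_lit 5, nat_lit 1, nat_lit 7, nat_lit 2, nat_lit 4, nat_lit 6, nat_lit 2, nat_lit 2])))))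
 (.node (nat_lit 0xac36fd00da3267c) (.node (nat_lit 0xac349089e965458) (.leaf ((nat_lit 1), [nat_lit 7, nat_lit 9, nat_lit 2, nat_lit 1, nat_lit 9, nat_lit 4, nat_lit 8, nat_lit 0, nat_lit 8, nat_lit 6, nat_lit 1, nat_lit 7, nat_lit 4, nat_lit 3, nat_lit 3, nat_lit 6, nat_lit 5, nat_lit 2, nat_lit 2])) (.leaf ((nat_lit 1), [nat_lit 2, nat_lit 7, nat_lit 9, nat_lit 5, nat_lit 9, nat_lit 2, nat_lit 6, nat_lit 2, nat_lit 8, nat_lit 3, nat_lit 4, nat_lit 7, nat_lit 4, nat_lit 6, nat_lit 3, nat_lit 1]))) (.node (nat_lit 0xac36fd06c8114b0) (.leaf ((nat_lit 6), [nat_lit 7, nat_lit 3, nat_lit 1, nat_lit 9, nat_lit 5, nat_lit 6, nat_lit 8, nat_lit 4, nat_lit 0, nat_lit 7, nat_lit 6, nat_lit 2, nat_lit 4, nat_lit 6, nat_lit 4, nat_lit 0])) (.node (nat_lit 0xac36fd0eafd55ac) (.leaf ((nat_lit 2), [nat_lit 8, nat_lit 2, nat_lit 6, nat_lit 3, nat_lit 8, nat_lit 2, nat_lit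 4, nat_lit 7, nat_lit 4, nat_lit 3, nat_lit 6, nat_lit 5, nat_lit 2, nat_lit 4, nat_lit 0])) (.leaf ((nat_lit 3), [nat_lit 6, nat_lit 9, nat_lit 2, nat_lit 1, nat_lit 9, nat_lit 2, nat_lit 5, nat_lit 8, nat_lit 4, nat_lit 7, nat_lit 5, nat_lit 6, nat_lit 5, nat_lit 4, nat_lit 3, nat_lit 3, nat_lit 1]))))))))
 (.node (nat_lit 0xac52f522d95e714) (.node (nat_lit 0xac4c6b207cc09ac) (.node (nat_lit 0xac429c9ed79d558) (.node (nat_lit 0xac41287f6f4f5b0) (.node (nat_lit 0xac3e5f46e7b261c) (.leaf ((nat_lit 1), [nat_lit 0, nat_lit 7, nat_lit 0, nat_lit 9, nat_lit 1, nat_lit 9, nat_lit 6, nat_lit 5, nat_lit 2, nat_lit 8, nat_lit 6, nat_lit 5, nat_lit 6, nat_lit 5, nat_lit 4, nat_lit 2, nat_lit 0])) (.leaf ((nat_lit 3), [nat_lit 0, nat_lit 7, nat_lit 0, nat_lit 9, nat_lit 1, nat_lit 9, nat_lit 5, nat_lit 6, nat_lit 8, nat_lit 7, nat_lit 0, nat_lit 7, nat_lit 3, nat_lit 4,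 nat_lit 6, nat_lit 4, nat_lit 0]))) (.node (nat_lit 0xac4128852f24f18) (.leaf ((nat_lit 3), [nat_lit 2, nat_lit 2, nat_lit 9, nat_lit 1, nat_lit 9, nat_lit 5, nat_lit 7, nat_lit 6, nat_lit 8, nat_lit 6, nat_lit 5, nat_lit 0, nat_lit 7, nat_lit 3, nat_lit 4, nat_lit 0])) (.node (nat_lit 0xac41288d44d0cd4) (.leaf ((nat_lit 3), [nat_lit 2, nat_lit 7, nat_lit 9, nat_lit 5, nat_lit 9, nat_lit 5, nat_lit 8, nat_lit 5, nat_lit 0, nat_lit 7, nat_lit 2, nat_lit 4, nat_lit 6, nat_lit 5])) (.leaf ((nat_lit 3), [nat_lit 6, nat_lit 9, nat_lit 5, nat_lit 3, nat_lit 1, nat_lit 9, nat_lit 1, nat_lit 8, nat_lit 1, nat_lit 8, nat_lit 6, nat_lit 7, nat_lit 2, nat_lit 4, nat_lit 6, nat_lit 3, nat_lit 3, nat_lit 0])))))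
 (.node (nat_lit 0xac429cacad29444) (.node (nat_lit 0xac429ca4c55a8a8) (.leaf ((nat_lit 6), [nat_lit 2, nat_lit 2, nat_lit 9, nat_lit 1, nat_lit 9, nat_lit 7, nat_lit 8, nat_lit 6, nat_lit 3, nat_lit 8, nat_lit 5, nat_lit 6, nat_lit 7, nat_lit 2, nat_lit 4, nat_lit 6, nat_lit 2, nat_lit 0])) (.leaf ((nat_lit 2), [nat_lit 7, nat_lit 2, nat_lit 1, nat_lit 8, nat_lit 3, nat_lit 6, nat_lit 7, nat_lit 2, nat_lit 4, nat_lit 6, nat_lit 5, nat_lit 3, nat_lit 4, nat_lit 1]))) (.node (nat_lit 0xac43d223901de5c) (.leaf ((nat_lit 3), [nat_lit 7, nat_lit 9, nat_lit 2, nat_lit 1, nat_lit 9, nat_lit 5, nat_lit 7, nat_lit 8, nat_lit 5, nat_lit 7, nat_lit 4, nat_lit 6, nat_lit 4, nat_lit 3, nat_lit 3, nat_lit 3])) (.node (nat_lit 0xac448bddf4eae40) (.leaf ((nat_lit 0), [nat_lit 3, nat_lit 0, nat_lit 8, nat_lit 6, nat_lit 1, nat_lit 7, nat_lit 4, nat_lit 3, nat_lit 6, nat_lit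 5, nat_lit 0])) (.leaf ((nat_lit 0), [nat_lit 3, nat_lit 1, nat_lit 8, nat_lit 2, nat_lit 4, nat_lit 6, nat_lit 5, nat_lit 3, nat_lit 0]))))))
 (.node (nat_lit 0xac4eb7b4d038e30) (.node (nat_lit 0xac4c6b2e524ccdc) (.node (nat_lit 0xac4c6b263c7f5a8) (.leaf ((nat_lit 2), [nat_lit 6, nat_lit 9, nat_lit 5, nat_lit 3, nat_lit 1, nat_lit 9, nat_lit 5, nat_lit 2, nat_lit 8, nat_lit 0, nat_lit 7, nat_lit 5, nat_lit 2, nat_lit 4, nat_lit 3])) (.leaf ((nat_lit 2), [nat_lit 4, nat_lit 7, nat_lit 6, nat_lit 8, nat_lit 2, nat_lit 4, nat_lit 7, nat_lit 2, nat_lit 2, nat_lit 6, nat_lit 5, nat_lit 2, nat_lit 4, nat_lit 3, nat_lit 0]))) (.node (nat_lit 0xac4d438cb918b68) (.leaf ((nat_lit 2), [nat_lit 4, nat_lit 1, nat_lit 9, nat_lit 5, nat_lit 9, nat_lit 7, nat_lit 8, nat_lit 0, nat_lit 8, nat_lit 5, nat_lit 2, nat_lit 2])) (.node (nat_lit 0xac4da07d437a918) (.leaf ((nat_lit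 1), [nat_lit 9, nat_lit 7, nat_lit 5, nat_lit 0, nat_lit 9, nat_lit 6, nat_lit 3, nat_lit 8, nat_lit 4, nat_lit 0, nat_lit 7, nat_lit 5, nat_lit 6, nat_lit 2, nat_lit 4, nat_lit 3, nat_lit 1])) (.leaf ((nat_lit 2), [nat_lit 9, nat_lit 0, nat_lit 7, nat_lit 2, nat_lit 9, nat_lit 1, nat_lit 7, nat_lit 8, nat_lit 3, nat_lit 4, nat_lit 7, nat_lit 2, nat_lit 2, nat_lit 6, nat_lit 3, nat_lit 3, nat_lit 0])))))
 (.node (nat_lit 0xac502b8999d48ac) (.node (nat_lit 0xac4f14b751f2ae0) (.leaf ((nat_lit 1), [nat_lit 2, nat_lit 7, nat_lit 9, nat_lit 5, nat_lit 9, nat_lit 6, nat_lit 3, nat_lit 0, nat_lit 8, nat_lit 7, nat_lit 4, nat_lit 6, nat_lit 4, nat_lit 3, nat_lit 3])) (.leaf ((nat_lit 0), [nat_lit 3, nat_lit 3, nat_lit 8, nat_lit 5, nat_lit 4, nat_lit 3, nat_lit 3, nat_lit 3]))) (.node (nat_lit 0xac52f51503dd15c) (.leaf ((nat_lit 2), [nat_lit 9, nat_lit 2, nat_lit 9,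 nat_lit 3, nat_lit 9, nat_lit 0, nat_lit 8, nat_lit 2, nat_lit 4, nat_lit 7, nat_lit 3, nat_lit 6, nat_lit 2, nat_lit 4, nat_lit 1])) (.node (nat_lit 0xac52f51af1b0f40) (.leaf ((nat_lit 6), [nat_lit 1, nat_lit 8, nat_lit 0, nat_lit 9, nat_lit 2, nat_lit 7, nat_lit 8, nat_lit 7, nat_lit 5, nat_lit 6, nat_lit 7, nat_lit 3, nat_lit 6, nat_lit 3, nat_lit 3, nat_lit 3])) (.leaf ((nat_lit 2), [nat_lit 2, nat_lit 2, nat_lit 9, nat_lit 0, nat_lit 9, nat_lit 2, nat_lit 6, nat_lit 0, nat_lit 8, nat_lit 7, nat_lit 5, nat_lit 7, nat_lit 3, nat_lit 3])))))))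
 (.node (nat_lit 0xac6f0bb1e054898) (.node (nat_lit 0xac5eb32b5a94eec) (.node (nat_lit 0xac542aaa43dc0c8) (.node (nat_lit 0xac53cda51021644) (.leaf ((nat_lit 3), [nat_lit 2, nat_lit 9, nat_lit 3, nat_lit 5, nat_lit 9, nat_lit 5, nat_lit 7, nat_lit 8, nat_lit 5, nat_lit 1, nat_lit 7, nat_lit 4, nat_lit 6, nat_lit 5, nat_lit 4, nat_lit 2, nat_lit 2])) (.leaf ((nat_lit 1), [nat_lit 9, nat_lit 7, nat_lit 5, nat_lit 0, nat_lit 9, nat_lit 8, nat_lit 6, nat_lit 3, nat_lit 8, nat_lit 3, nat_lit 6, nat_lit 7, nat_lit 6, nat_lit 3, nat_lit 4, nat_lit 6, nat_lit 5, nat_lit 3]))) (.node (nat_lit 0xac5b117fe1c43f4) (.leaf ((nat_lit 1), [nat_lit 6, nat_lit 9, nat_lit 2, nat_lit 1, nat_lit 9, nat_lit 1, nat_lit 8, nat_lit 4, nat_lit 7, nat_lit 6, nat_lit 3, nat_lit 4, nat_lit 6, nat_lit 3])) (.node (nat_lit 0xac5d9c21fa60fbc) (.leaf ((nat_lit 0), [nat_lit 4, nat_lit 8, nat_lit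 0, nat_lit 8, nat_lit 1, nat_lit 7, nat_lit 4, nat_lit 6, nat_lit 5, nat_lit 2, nat_lit 2])) (.leaf ((nat_lit 2), [nat_lit 7, nat_lit 5, nat_lit 8, nat_lit 0, nat_lit 8, nat_lit 5, nat_lit 7, nat_lit 5, nat_lit 0, nat_lit 7, nat_lit 3, nat_lit 4, nat_lit 6, nat_lit 3, nat_lit 4, nat_lit 1])))))
 (.node (nat_lit 0xac6881ae8eb0984) (.node (nat_lit 0xac60e0e2d6d04b0) (.leaf ((nat_lit 3), [nat_lit 9, nat_lit 7, nat_lit 5, nat_lit 0, nat_lit 9, nat_lit 8, nat_lit 5, nat_lit 0, nat_lit 8, nat_lit 5, nat_lit 7, nat_lit 6, nat_lit 3, nat_lit 4, nat_lit 6, nat_lit 1])) (.leaf ((nat_lit 2), [nat_lit 8, nat_lit 0, nat_lit 9, nat_lit 2, nat_lit 1, nat_lit 9, nat_lit 7, nat_lit 3, nat_lit 3, nat_lit 3, nat_lit 6, nat_lit 5, nat_lit 4, nat_lit 1]))) (.node (nat_lit 0xac68ded10b5d114) (.leaf ((nat_lit 2), [nat_lit 8, nat_lit 2, nat_lit 6, nat_lit 3, nat_lit 8, nat_lit 0, nat_lit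 7, nat_lit 4, nat_lit 2, nat_lit 2, nat_lit 6, nat_lit 2, nat_lit 2, nat_lit 1])) (.node (nat_lit 0xac6bc6eae8343a0) (.leaf ((nat_lit 0), [nat_lit 0, nat_lit 7, nat_lit 8, nat_lit 5, nat_lit 1, nat_lit 7, nat_lit 3, nat_lit 3, nat_lit 3])) (.leaf ((nat_lit 3), [nat_lit 2, nat_lit 2, nat_lit 9, nat_lit 1, nat_lit 9, nat_lit 1, nat_lit 8, nat_lit 6, nat_lit 7, nat_lit 4, nat_lit 6, nat_lit 3, nat_lit 3, nat_lit 1]))))))
 (.node (nat_lit 0xac7bc25c3cbe698) (.node (nat_lit 0xac78da44b5e3068) (.node (nat_lit 0xac71f34f4b06844) (.leaf ((nat_lit 0), [nat_lit 4, nat_lit 0, nat_lit 7, nat_lit 8, nat_lit 4, nat_lit 7, nat_lit 3, nat_lit 4, nat_lit 0])) (.leaf ((nat_lit 1), [nat_lit 2, nat_lit 2, nat_lit 9, nat_lit 1, nat_lit 9, nat_lit 7, nat_lit 2, nat_lit 4, nat_lit 7, nat_lit 6, nat_lit 2, nat_lit 2, nat_lit 6, nat_lit 5, nat_lit 4, nat_lit 2, nat_lit 0]))) (.node (nat_lit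 0xac79372798af3b0) (.leaf ((nat_lit 1), [nat_lit 6, nat_lit 9, nat_lit 5, nat_lit 3, nat_lit 1, nat_lit 9, nat_lit 3, nat_lit 5, nat_lit 6, nat_lit 8, nat_lit 6, nat_lit 5, nat_lit 7, nat_lit 2, nat_lit 4, nat_lit 6, nat_lit 2, nat_lit 0])) (.node (nat_lit 0xac7b6577601fc8c) (.leaf ((nat_lit 0), [nat_lit 4, nat_lit 6, nat_lit 8, nat_lit 7, nat_lit 0, nat_lit 7, nat_lit 4, nat_lit 3, nat_lit 6, nat_lit 4, nat_lit 2])) (.leaf ((nat_lit 1), [nat_lit 7, nat_lit 9, nat_lit 2, nat_lit 1, nat_lit 9, nat_lit 3, nat_lit 0, nat_lit 8, nat_lit 0, nat_lit 7, nat_lit 5, nat_lit 3, nat_lit 6, nat_lit 5])))))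
 (.node (nat_lit 0xac7d35ebda9845c) (.node (nat_lit 0xac7cd8f33a7be54) (.leaf ((nat_lit 0), [nat_lit 6, nat_lit 7, nat_lit 1, nat_lit 8, nat_lit 4, nat_lit 7, nat_lit 6, nat_lit 3, nat_lit 3, nat_lit 6, nat_lit 0])) (.leaf ((nat_lit 0), [nat_lit 8, nat_lit 4, nat_lit 6, nat_lit 8, nat_lit 0, nat_lit 7, nat_lit 3, nat_lit 6, nat_lit 2, nat_lit 2]))) (.node (nat_lit 0xac7f071af13efb4) (.leaf ((nat_lit 0), [nat_lit 4, nat_lit 7, nat_lit 6, nat_lit 8, nat_lit 4, nat_lit 0, nat_lit 7, nat_lit 5, nat_lit 6, nat_lit 2, nat_lit 4, nat_lit 3])) (.node (nat_lit 0xac7f642a62857c4) (.leaf ((nat_lit 1), [nat_lit 7, nat_lit 9, nat_lit 2, nat_lit 1, nat_lit 9, nat_lit 3, nat_lit 1, nat_lit 8, nat_lit 5, nat_lit 1, nat_lit 7, nat_lit 5, nat_lit 6, nat_lit 5, nat_lit 3, nat_lit 4, nat_lit 0])) (.leaf ((nat_lit 1), [nat_lit 2, nat_lit 9, nat_lit 3, nat_lit 5, nat_lit 9, nat_lit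 1, nat_lit 7, nat_lit 5, nat_lit 8, nat_lit 5, nat_lit 7, nat_lit 6, nat_lit 4, nat_lit 3, nat_lit 6, nat_lit 3])))))))))))))))
theorem k3_0 : allR 0 1 (refu 364 (nat_lit 9) (nat_lit 511) y3T ⟨fun _ _ => 0, fun _ _ _ => true, leafK 364 (nat_lit 9) (nat_lit 511) (O73.L.map Lev.b) O73.T 3 k3Z k3W⟩ y3L0 [y3L1, y3L2] []) = true := by decide +kernel
theorem k3_1 : allR 1 1 (refu 364 (nat_lit 9) (nat_lit 511) y3T ⟨fun _ _ => 0, fun _ _ _ => true, leafK 364 (nat_lit 9) (nat_lit 511) (O73.L.map Lev.b) O73.T 3 k3Z k3W⟩ y3L0 [y3L1, y3L2] []) = true := by decide +kernel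
theorem k3_2 : allR 2 1 (refu 364 (nat_lit 9) (nat_lit 511) y3T ⟨fun _ _ => 0, fun _ _ _ => true, leafK 364 (nat_lit 9) (nat_lit 511) (O73.L.map Lev.b) O73.T 3 k3Z k3W⟩ y3L0 [y3L1, y3L2] []) = true := by decide +kernel
theorem k3_3 : allR 3 1 (refu 364 (nat_lit 9) (nat_lit 511) y3T ⟨fun _ _ => 0, fun _ _ _ => true, leafK 364 (nat_lit 9) (nat_lit 511) (O73.L.map Lev.b) O73.T 3 k3Z k3W⟩ y3L0 [y3L1, y3L2] []) = true := by decide +kernel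
theorem k3_4 : allR 4 1 (refu 364 (nat_lit 9) (nat_lit 511) y3T ⟨fun _ _ => 0, fun _ _ _ => true, leafK 364 (nat_lit 9) (nat_lit 511) (O73.L.map Lev.b) O73.T 3 k3Z k3W⟩ y3L0 [y3L1, y3L2] []) = true := by decide +kernel
theorem k3_5 : allR 5 1 (refu 364 (nat_lit 9) (nat_lit 511) y3T ⟨fun _ _ => 0, fun _ _ _ => true, leafK 364 (nat_lit 9) (nat_lit 511) (O73.L.map Lev.b) O73.T 3 k3Z k3W⟩ y3L0 [y3L1, y3L2] []) = true := by decide +kernel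
theorem k3_6 : allR 6 1 (refu 364 (nat_lit 9) (nat_lit 511) y3T ⟨fun _ _ => 0, fun _ _ _ => true, leafK 364 (nat_lit 9) (nat_lit 511) (O73.L.map Lev.b) O73.T 3 k3Z k3W⟩ y3L0 [y3L1, y3L2] []) = true := by decide +kernel
theorem k3_7 : allR 7 1 (refu 364 (nat_lit 9) (nat_lit 511) y3T ⟨fun _ _ => 0, fun _ _ _ => true, leafK 364 (nat_lit 9) (nat_lit 511) (O73.L.map Lev.b) O73.T 3 k3Z k3W⟩ y3L0 [y3L1, y3L2] []) = true := by decide +kernel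
theorem k3_8 : allR 8 1 (refu 364 (nat_lit 9) (nat_lit 511) y3T ⟨fun _ _ => 0, fun _ _ _ => true, leafK 364 (nat_lit 9) (nat_lit 511) (O73.L.map Lev.b) O73.T 3 k3Z k3W⟩ y3L0 [y3L1, y3L2] []) = true := by decide +kernel
theorem k3_9 : allR 9 1 (refu 364 (nat_lit 9) (nat_lit 511) y3T ⟨fun _ _ => 0, fun _ _ _ => true, leafK 364 (nat_lit 9) (nat_lit 511) (O73.L.map Lev.b) O73.T 3 k3Z k3W⟩ y3L0 [y3L1, y3L2] []) = true := by decide +kernel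
theorem k3_10 : allR 10 2 (refu 364 (nat_lit 9) (nat_lit 511) y3T ⟨fun _ _ => 0, fun _ _ _ => true, leafK 364 (nat_lit 9) (nat_lit 511) (O73.L.map Lev.b) O73.T 3 k3Z k3W⟩ y3L0 [y3L1, y3L2] []) = true := by decide +kernel
theorem k3_11 : allR 12 1 (refu 364 (nat_lit 9) (nat_lit 511) y3T ⟨fun _ _ => 0, fun _ _ _ => true, leafK 364 (nat_lit 9) (nat_lit 511) (O73.L.map Lev.b) O73.T 3 k3Z k3W⟩ y3L0 [y3L1, y3L2] []) = true := by decide +kernel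
theorem k3_12 : allR 13 27 (refu 364 (nat_lit 9) (nat_lit 511) y3T ⟨fun _ _ => 0, fun _ _ _ => true, leafK 364 (nat_lit 9) (nat_lit 511) (O73.L.map Lev.b) O73.T 3 k3Z k3W⟩ y3L0 [y3L1, y3L2] []) = true := by decide +kernel
theorem k3_13 : allR 40 1 (refu 364 (nat_lit 9) (nat_lit 511) y3T ⟨fun _ _ => 0, fun _ _ _ => true, leafK 364 (nat_lit 9) (nat_lit 511) (O73.L.map Lev.b) O73.T 3 k3Z k3W⟩ y3L0 [y3L1, y3L2] []) = true := by decide +kernel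
theorem k3_14 : allR 41 1 (refu 364 (nat_lit 9) (nat_lit 511) y3T ⟨fun _ _ => 0, fun _ _ _ => true, leafK 364 (nat_lit 9) (nat_lit 511) (O73.L.map Lev.b) O73.T 3 k3Z k3W⟩ y3L0 [y3L1, y3L2] []) = true := by decide +kernel
theorem k3_15 : allR 42 1 (refu 364 (nat_lit 9) (nat_lit 511) y3T ⟨fun _ _ => 0, fun _ _ _ => true, leafK 364 (nat_lit 9) (nat_lit 511) (O73.L.map Lev.b) O73.T 3 k3Z k3W⟩ y3L0 [y3L1, y3L2] []) = true := by decide +kernel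
theorem k3_16 : allR 43 1 (refu 364 (nat_lit 9) (nat_lit 511) y3T ⟨fun _ _ => 0, fun _ _ _ => true, leafK 364 (nat_lit 9) (nat_lit 511) (O73.L.map Lev.b) O73.T 3 k3Z k3W⟩ y3L0 [y3L1, y3L2] []) = true := by decide +kernel
theorem k3_17 : allR 44 1 (refu 364 (nat_lit 9) (nat_lit 511) y3T ⟨fun _ _ => 0, fun _ _ _ => true, leafK 364 (nat_lit 9) (nat_lit 511) (O73.L.map Lev.b) O73.T 3 k3Z k3W⟩ y3L0 [y3L1, y3L2] []) = true := by decide +kernel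
theorem k3_18 : allR 45 5 (refu 364 (nat_lit 9) (nat_lit 511) y3T ⟨fun _ _ => 0, fun _ _ _ => true, leafK 364 (nat_lit 9) (nat_lit 511) (O73.L.map Lev.b) O73.T 3 k3Z k3W⟩ y3L0 [y3L1, y3L2] []) = true := by decide +kernel
theorem k3_19 : allR 50 1 (refu 364 (nat_lit 9) (nat_lit 511) y3T ⟨fun _ _ => 0, fun _ _ _ => true, leafK 364 (nat_lit 9) (nat_lit 511) (O73.L.map Lev.b) O73.T 3 k3Z k3W⟩ y3L0 [y3L1, y3L2] []) = true := by decide +kernel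
theorem k3_20 : allR 51 1 (refu 364 (nat_lit 9) (nat_lit 511) y3T ⟨fun _ _ => 0, fun _ _ _ => true, leafK 364 (nat_lit 9) (nat_lit 511) (O73.L.map Lev.b) O73.T 3 k3Z k3W⟩ y3L0 [y3L1, y3L2] []) = true := by decide +kernel
theorem k3_21 : allR 52 1 (refu 364 (nat_lit 9) (nat_lit 511) y3T ⟨fun _ _ => 0, fun _ _ _ => true, leafK 364 (nat_lit 9) (nat_lit 511) (O73.L.map Lev.b) O73.T 3 k3Z k3W⟩ y3L0 [y3L1, y3L2] []) = true := by decide +kernel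
theorem k3_22 : allR 53 1 (refu 364 (nat_lit 9) (nat_lit 511) y3T ⟨fun _ _ => 0, fun _ _ _ => true, leafK 364 (nat_lit 9) (nat_lit 511) (O73.L.map Lev.b) O73.T 3 k3Z k3W⟩ y3L0 [y3L1, y3L2] []) = true := by decide +kernel
theorem k3_23 : allR 54 27 (refu 364 (nat_lit 9) (nat_lit 511) y3T ⟨fun _ _ => 0, fun _ _ _ => true, leafK 364 (nat_lit 9) (nat_lit 511) (O73.L.map Lev.b) O73.T 3 k3Z k3W⟩ y3L0 [y3L1, y3L2] []) = true := by decide +kernel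
theorem k3_24 : allR 81 1 (refu 364 (nat_lit 9) (nat_lit 511) y3T ⟨fun _ _ => 0, fun _ _ _ => true, leafK 364 (nat_lit 9) (nat_lit 511) (O73.L.map Lev.b) O73.T 3 k3Z k3W⟩ y3L0 [y3L1, y3L2] []) = true := by decide +kernel
theorem k3_25 : allR 82 3 (refu 364 (nat_lit 9) (nat_lit 511) y3T ⟨fun _ _ => 0, fun _ _ _ => true, leafK 364 (nat_lit 9) (nat_lit 511) (O73.L.map Lev.b) O73.T 3 k3Z k3W⟩ y3L0 [y3L1, y3L2] []) = true := by decide +kernel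
theorem k3_26 : allR 85 1 (refu 364 (nat_lit 9) (nat_lit 511) y3T ⟨fun _ _ => 0, fun _ _ _ => true, leafK 364 (nat_lit 9) (nat_lit 511) (O73.L.map Lev.b) O73.T 3 k3Z k3W⟩ y3L0 [y3L1, y3L2] []) = true := by decide +kernel
theorem k3_27 : allR 86 1 (refu 364 (nat_lit 9) (nat_lit 511) y3T ⟨fun _ _ => 0, fun _ _ _ => true, leafK 364 (nat_lit 9) (nat_lit 511) (O73.L.map Lev.b) O73.T 3 k3Z k3W⟩ y3L0 [y3L1, y3L2] []) = true := by decide +kernel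
theorem k3_28 : allR 87 1 (refu 364 (nat_lit 9) (nat_lit 511) y3T ⟨fun _ _ => 0, fun _ _ _ => true, leafK 364 (nat_lit 9) (nat_lit 511) (O73.L.map Lev.b) O73.T 3 k3Z k3W⟩ y3L0 [y3L1, y3L2] []) = true := by decide +kernel
theorem k3_29 : allR 88 1 (refu 364 (nat_lit 9) (nat_lit 511) y3T ⟨fun _ _ => 0, fun _ _ _ => true, leafK 364 (nat_lit 9) (nat_lit 511) (O73.L.map Lev.b) O73.T 3 k3Z k3W⟩ y3L0 [y3L1, y3L2] []) = true := by decide +kernel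
theorem k3_30 : allR 89 1 (refu 364 (nat_lit 9) (nat_lit 511) y3T ⟨fun _ _ => 0, fun _ _ _ => true, leafK 364 (nat_lit 9) (nat_lit 511) (O73.L.map Lev.b) O73.T 3 k3Z k3W⟩ y3L0 [y3L1, y3L2] []) = true := by decide +kernel
theorem k3_31 : allR 90 1 (refu 364 (nat_lit 9) (nat_lit 511) y3T ⟨fun _ _ => 0, fun _ _ _ => true, leafK 364 (nat_lit 9) (nat_lit 511) (O73.L.map Lev.b) O73.T 3 k3Z k3W⟩ y3L0 [y3L1, y3L2] []) = true := by decide +kernel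
theorem k3_32 : allR 91 1 (refu 364 (nat_lit 9) (nat_lit 511) y3T ⟨fun _ _ => 0, fun _ _ _ => true, leafK 364 (nat_lit 9) (nat_lit 511) (O73.L.map Lev.b) O73.T 3 k3Z k3W⟩ y3L0 [y3L1, y3L2] []) = true := by decide +kernel
theorem k3_33 : allR 92 1 (refu 364 (nat_lit 9) (nat_lit 511) y3T ⟨fun _ _ => 0, fun _ _ _ => true, leafK 364 (nat_lit 9) (nat_lit 511) (O73.L.map Lev.b) O73.T 3 k3Z k3W⟩ y3L0 [y3L1, y3L2] []) = true := by decide +kernel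
theorem k3_34 : allR 93 1 (refu 364 (nat_lit 9) (nat_lit 511) y3T ⟨fun _ _ => 0, fun _ _ _ => true, leafK 364 (nat_lit 9) (nat_lit 511) (O73.L.map Lev.b) O73.T 3 k3Z k3W⟩ y3L0 [y3L1, y3L2] []) = true := by decide +kernel
theorem k3_35 : allR 94 29 (refu 364 (nat_lit 9) (nat_lit 511) y3T ⟨fun _ _ => 0, fun _ _ _ => true, leafK 364 (nat_lit 9) (nat_lit 511) (O73.L.map Lev.b) O73.T 3 k3Z k3W⟩ y3L0 [y3L1, y3L2] []) = true := by decide +kernel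
theorem k3_36 : allR 123 1 (refu 364 (nat_lit 9) (nat_lit 511) y3T ⟨fun _ _ => 0, fun _ _ _ => true, leafK 364 (nat_lit 9) (nat_lit 511) (O73.L.map Lev.b) O73.T 3 k3Z k3W⟩ y3L0 [y3L1, y3L2] []) = true := by decide +kernel
theorem k3_37 : allR 124 1 (refu 364 (nat_lit 9) (nat_lit 511) y3T ⟨fun _ _ => 0, fun _ _ _ => true, leafK 364 (nat_lit 9) (nat_lit 511) (O73.L.map Lev.b) O73.T 3 k3Z k3W⟩ y3L0 [y3L1, y3L2] []) = true := by decide +kernel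
theorem k3_38 : allR 125 1 (refu 364 (nat_lit 9) (nat_lit 511) y3T ⟨fun _ _ => 0, fun _ _ _ => true, leafK 364 (nat_lit 9) (nat_lit 511) (O73.L.map Lev.b) O73.T 3 k3Z k3W⟩ y3L0 [y3L1, y3L2] []) = true := by decide +kernel
theorem k3_39 : allR 126 3 (refu 364 (nat_lit 9) (nat_lit 511) y3T ⟨fun _ _ => 0, fun _ _ _ => true, leafK 364 (nat_lit 9) (nat_lit 511) (O73.L.map Lev.b) O73.T 3 k3Z k3W⟩ y3L0 [y3L1, y3L2] []) = true := by decide +kernel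
theorem k3_40 : allR 129 1 (refu 364 (nat_lit 9) (nat_lit 511) y3T ⟨fun _ _ => 0, fun _ _ _ => true, leafK 364 (nat_lit 9) (nat_lit 511) (O73.L.map Lev.b) O73.T 3 k3Z k3W⟩ y3L0 [y3L1, y3L2] []) = true := by decide +kernel
theorem k3_41 : allR 130 1 (refu 364 (nat_lit 9) (nat_lit 511) y3T ⟨fun _ _ => 0, fun _ _ _ => true, leafK 364 (nat_lit 9) (nat_lit 511) (O73.L.map Lev.b) O73.T 3 k3Z k3W⟩ y3L0 [y3L1, y3L2] []) = true := by decide +kernel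
theorem k3_42 : allR 131 1 (refu 364 (nat_lit 9) (nat_lit 511) y3T ⟨fun _ _ => 0, fun _ _ _ => true, leafK 364 (nat_lit 9) (nat_lit 511) (O73.L.map Lev.b) O73.T 3 k3Z k3W⟩ y3L0 [y3L1, y3L2] []) = true := by decide +kernel
theorem k3_43 : allR 132 1 (refu 364 (nat_lit 9) (nat_lit 511) y3T ⟨fun _ _ => 0, fun _ _ _ => true, leafK 364 (nat_lit 9) (nat_lit 511) (O73.L.map Lev.b) O73.T 3 k3Z k3W⟩ y3L0 [y3L1, y3L2] []) = true := by decide +kernel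
theorem k3_44 : allR 133 1 (refu 364 (nat_lit 9) (nat_lit 511) y3T ⟨fun _ _ => 0, fun _ _ _ => true, leafK 364 (nat_lit 9) (nat_lit 511) (O73.L.map Lev.b) O73.T 3 k3Z k3W⟩ y3L0 [y3L1, y3L2] []) = true := by decide +kernel
theorem k3_45 : allR 134 1 (refu 364 (nat_lit 9) (nat_lit 511) y3T ⟨fun _ _ => 0, fun _ _ _ => true, leafK 364 (nat_lit 9) (nat_lit 511) (O73.L.map Lev.b) O73.T 3 k3Z k3W⟩ y3L0 [y3L1, y3L2] []) = true := by decide +kernel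
theorem k3_46 : allR 135 27 (refu 364 (nat_lit 9) (nat_lit 511) y3T ⟨fun _ _ => 0, fun _ _ _ => true, leafK 364 (nat_lit 9) (nat_lit 511) (O73.L.map Lev.b) O73.T 3 k3Z k3W⟩ y3L0 [y3L1, y3L2] []) = true := by decide +kernel
theorem k3_47 : allR 162 1 (refu 364 (nat_lit 9) (nat_lit 511) y3T ⟨fun _ _ => 0, fun _ _ _ => true, leafK 364 (nat_lit 9) (nat_lit 511) (O73.L.map Lev.b) O73.T 3 k3Z k3W⟩ y3L0 [y3L1, y3L2] []) = true := by decide +kernel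
theorem k3_48 : allR 163 1 (refu 364 (nat_lit 9) (nat_lit 511) y3T ⟨fun _ _ => 0, fun _ _ _ => true, leafK 364 (nat_lit 9) (nat_lit 511) (O73.L.map Lev.b) O73.T 3 k3Z k3W⟩ y3L0 [y3L1, y3L2] []) = true := by decide +kernel
theorem k3_49 : allR 164 1 (refu 364 (nat_lit 9) (nat_lit 511) y3T ⟨fun _ _ => 0, fun _ _ _ => true, leafK 364 (nat_lit 9) (nat_lit 511) (O73.L.map Lev.b) O73.T 3 k3Z k3W⟩ y3L0 [y3L1, y3L2] []) = true := by decide +kernel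
theorem k3_50 : allR 165 1 (refu 364 (nat_lit 9) (nat_lit 511) y3T ⟨fun _ _ => 0, fun _ _ _ => true, leafK 364 (nat_lit 9) (nat_lit 511) (O73.L.map Lev.b) O73.T 3 k3Z k3W⟩ y3L0 [y3L1, y3L2] []) = true := by decide +kernel
theorem k3_51 : allR 166 1 (refu 364 (nat_lit 9) (nat_lit 511) y3T ⟨fun _ _ => 0, fun _ _ _ => true, leafK 364 (nat_lit 9) (nat_lit 511) (O73.L.map Lev.b) O73.T 3 k3Z k3W⟩ y3L0 [y3L1, y3L2] []) = true := by decide +kernel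
theorem k3_52 : allR 167 1 (refu 364 (nat_lit 9) (nat_lit 511) y3T ⟨fun _ _ => 0, fun _ _ _ => true, leafK 364 (nat_lit 9) (nat_lit 511) (O73.L.map Lev.b) O73.T 3 k3Z k3W⟩ y3L0 [y3L1, y3L2] []) = true := by decide +kernel
theorem k3_53 : allR 168 1 (refu 364 (nat_lit 9) (nat_lit 511) y3T ⟨fun _ _ => 0, fun _ _ _ => true, leafK 364 (nat_lit 9) (nat_lit 511) (O73.L.map Lev.b) O73.T 3 k3Z k3W⟩ y3L0 [y3L1, y3L2] []) = true := by decide +kernel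
theorem k3_54 : allR 169 1 (refu 364 (nat_lit 9) (nat_lit 511) y3T ⟨fun _ _ => 0, fun _ _ _ => true, leafK 364 (nat_lit 9) (nat_lit 511) (O73.L.map Lev.b) O73.T 3 k3Z k3W⟩ y3L0 [y3L1, y3L2] []) = true := by decide +kernel
theorem k3_55 : allR 170 1 (refu 364 (nat_lit 9) (nat_lit 511) y3T ⟨fun _ _ => 0, fun _ _ _ => true, leafK 364 (nat_lit 9) (nat_lit 511) (O73.L.map Lev.b) O73.T 3 k3Z k3W⟩ y3L0 [y3L1, y3L2] []) = true := by decide +kernel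
theorem k3_56 : allR 171 1 (refu 364 (nat_lit 9) (nat_lit 511) y3T ⟨fun _ _ => 0, fun _ _ _ => true, leafK 364 (nat_lit 9) (nat_lit 511) (O73.L.map Lev.b) O73.T 3 k3Z k3W⟩ y3L0 [y3L1, y3L2] []) = true := by decide +kernel
theorem k3_57 : allR 172 1 (refu 364 (nat_lit 9) (nat_lit 511) y3T ⟨fun _ _ => 0, fun _ _ _ => true, leafK 364 (nat_lit 9) (nat_lit 511) (O73.L.map Lev.b) O73.T 3 k3Z k3W⟩ y3L0 [y3L1, y3L2] []) = true := by decide +kernel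
theorem k3_58 : allR 173 1 (refu 364 (nat_lit 9) (nat_lit 511) y3T ⟨fun _ _ => 0, fun _ _ _ => true, leafK 364 (nat_lit 9) (nat_lit 511) (O73.L.map Lev.b) O73.T 3 k3Z k3W⟩ y3L0 [y3L1, y3L2] []) = true := by decide +kernel
theorem k3_59 : allR 174 1 (refu 364 (nat_lit 9) (nat_lit 511) y3T ⟨fun _ _ => 0, fun _ _ _ => true, leafK 364 (nat_lit 9) (nat_lit 511) (O73.L.map Lev.b) O73.T 3 k3Z k3W⟩ y3L0 [y3L1, y3L2] []) = true := by decide +kernel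
theorem k3_60 : allR 175 1 (refu 364 (nat_lit 9) (nat_lit 511) y3T ⟨fun _ _ => 0, fun _ _ _ => true, leafK 364 (nat_lit 9) (nat_lit 511) (O73.L.map Lev.b) O73.T 3 k3Z k3W⟩ y3L0 [y3L1, y3L2] []) = true := by decide +kernel
theorem k3_61 : allR 176 27 (refu 364 (nat_lit 9) (nat_lit 511) y3T ⟨fun _ _ => 0, fun _ _ _ => true, leafK 364 (nat_lit 9) (nat_lit 511) (O73.L.map Lev.b) O73.T 3 k3Z k3W⟩ y3L0 [y3L1, y3L2] []) = true := by decide +kernel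
theorem k3_62 : allR 203 1 (refu 364 (nat_lit 9) (nat_lit 511) y3T ⟨fun _ _ => 0, fun _ _ _ => true, leafK 364 (nat_lit 9) (nat_lit 511) (O73.L.map Lev.b) O73.T 3 k3Z k3W⟩ y3L0 [y3L1, y3L2] []) = true := by decide +kernel
theorem k3_63 : allR 204 5 (refu 364 (nat_lit 9) (nat_lit 511) y3T ⟨fun _ _ => 0, fun _ _ _ => true, leafK 364 (nat_lit 9) (nat_lit 511) (O73.L.map Lev.b) O73.T 3 k3Z k3W⟩ y3L0 [y3L1, y3L2] []) = true := by decide +kernel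
theorem k3_64 : allR 209 1 (refu 364 (nat_lit 9) (nat_lit 511) y3T ⟨fun _ _ => 0, fun _ _ _ => true, leafK 364 (nat_lit 9) (nat_lit 511) (O73.L.map Lev.b) O73.T 3 k3Z k3W⟩ y3L0 [y3L1, y3L2] []) = true := by decide +kernel
theorem k3_65 : allR 210 1 (refu 364 (nat_lit 9) (nat_lit 511) y3T ⟨fun _ _ => 0, fun _ _ _ => true, leafK 364 (nat_lit 9) (nat_lit 511) (O73.L.map Lev.b) O73.T 3 k3Z k3W⟩ y3L0 [y3L1, y3L2] []) = true := by decide +kernel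
theorem k3_66 : allR 211 1 (refu 364 (nat_lit 9) (nat_lit 511) y3T ⟨fun _ _ => 0, fun _ _ _ => true, leafK 364 (nat_lit 9) (nat_lit 511) (O73.L.map Lev.b) O73.T 3 k3Z k3W⟩ y3L0 [y3L1, y3L2] []) = true := by decide +kernel
theorem k3_67 : allR 212 1 (refu 364 (nat_lit 9) (nat_lit 511) y3T ⟨fun _ _ => 0, fun _ _ _ => true, leafK 364 (nat_lit 9) (nat_lit 511) (O73.L.map Lev.b) O73.T 3 k3Z k3W⟩ y3L0 [y3L1, y3L2] []) = true := by decide +kernel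
theorem k3_68 : allR 213 1 (refu 364 (nat_lit 9) (nat_lit 511) y3T ⟨fun _ _ => 0, fun _ _ _ => true, leafK 364 (nat_lit 9) (nat_lit 511) (O73.L.map Lev.b) O73.T 3 k3Z k3W⟩ y3L0 [y3L1, y3L2] []) = true := by decide +kernel
theorem k3_69 : allR 214 1 (refu 364 (nat_lit 9) (nat_lit 511) y3T ⟨fun _ _ => 0, fun _ _ _ => true, leafK 364 (nat_lit 9) (nat_lit 511) (O73.L.map Lev.b) O73.T 3 k3Z k3W⟩ y3L0 [y3L1, y3L2] []) = true := by decide +kernel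
theorem k3_70 : allR 215 1 (refu 364 (nat_lit 9) (nat_lit 511) y3T ⟨fun _ _ => 0, fun _ _ _ => true, leafK 364 (nat_lit 9) (nat_lit 511) (O73.L.map Lev.b) O73.T 3 k3Z k3W⟩ y3L0 [y3L1, y3L2] []) = true := by decide +kernel
theorem k3_71 : allR 216 28 (refu 364 (nat_lit 9) (nat_lit 511) y3T ⟨fun _ _ => 0, fun _ _ _ => true, leafK 364 (nat_lit 9) (nat_lit 511) (O73.L.map Lev.b) O73.T 3 k3Z k3W⟩ y3L0 [y3L1, y3L2] []) = true := by decide +kernel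
theorem k3_72 : allR 244 1 (refu 364 (nat_lit 9) (nat_lit 511) y3T ⟨fun _ _ => 0, fun _ _ _ => true, leafK 364 (nat_lit 9) (nat_lit 511) (O73.L.map Lev.b) O73.T 3 k3Z k3W⟩ y3L0 [y3L1, y3L2] []) = true := by decide +kernel
theorem k3_73 : allR 245 1 (refu 364 (nat_lit 9) (nat_lit 511) y3T ⟨fun _ _ => 0, fun _ _ _ => true, leafK 364 (nat_lit 9) (nat_lit 511) (O73.L.map Lev.b) O73.T 3 k3Z k3W⟩ y3L0 [y3L1, y3L2] []) = true := by decide +kernel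
theorem k3_74 : allR 246 1 (refu 364 (nat_lit 9) (nat_lit 511) y3T ⟨fun _ _ => 0, fun _ _ _ => true, leafK 364 (nat_lit 9) (nat_lit 511) (O73.L.map Lev.b) O73.T 3 k3Z k3W⟩ y3L0 [y3L1, y3L2] []) = true := by decide +kernel
theorem k3_75 : allR 247 1 (refu 364 (nat_lit 9) (nat_lit 511) y3T ⟨fun _ _ => 0, fun _ _ _ => true, leafK 364 (nat_lit 9) (nat_lit 511) (O73.L.map Lev.b) O73.T 3 k3Z k3W⟩ y3L0 [y3L1, y3L2] []) = true := by decide +kernel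
theorem k3_76 : allR 248 1 (refu 364 (nat_lit 9) (nat_lit 511) y3T ⟨fun _ _ => 0, fun _ _ _ => true, leafK 364 (nat_lit 9) (nat_lit 511) (O73.L.map Lev.b) O73.T 3 k3Z k3W⟩ y3L0 [y3L1, y3L2] []) = true := by decide +kernel
theorem k3_77 : allR 249 1 (refu 364 (nat_lit 9) (nat_lit 511) y3T ⟨fun _ _ => 0, fun _ _ _ => true, leafK 364 (nat_lit 9) (nat_lit 511) (O73.L.map Lev.b) O73.T 3 k3Z k3W⟩ y3L0 [y3L1, y3L2] []) = true := by decide +kernel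
theorem k3_78 : allR 250 3 (refu 364 (nat_lit 9) (nat_lit 511) y3T ⟨fun _ _ => 0, fun _ _ _ => true, leafK 364 (nat_lit 9) (nat_lit 511) (O73.L.map Lev.b) O73.T 3 k3Z k3W⟩ y3L0 [y3L1, y3L2] []) = true := by decide +kernel
theorem k3_79 : allR 253 1 (refu 364 (nat_lit 9) (nat_lit 511) y3T ⟨fun _ _ => 0, fun _ _ _ => true, leafK 364 (nat_lit 9) (nat_lit 511) (O73.L.map Lev.b) O73.T 3 k3Z k3W⟩ y3L0 [y3L1, y3L2] []) = true := by decide +kernel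
theorem k3_80 : allR 254 1 (refu 364 (nat_lit 9) (nat_lit 511) y3T ⟨fun _ _ => 0, fun _ _ _ => true, leafK 364 (nat_lit 9) (nat_lit 511) (O73.L.map Lev.b) O73.T 3 k3Z k3W⟩ y3L0 [y3L1, y3L2] []) = true := by decide +kernel
theorem k3_81 : allR 255 1 (refu 364 (nat_lit 9) (nat_lit 511) y3T ⟨fun _ _ => 0, fun _ _ _ => true, leafK 364 (nat_lit 9) (nat_lit 511) (O73.L.map Lev.b) O73.T 3 k3Z k3W⟩ y3L0 [y3L1, y3L2] []) = true := by decide +kernel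
theorem k3_82 : allR 256 27 (refu 364 (nat_lit 9) (nat_lit 511) y3T ⟨fun _ _ => 0, fun _ _ _ => true, leafK 364 (nat_lit 9) (nat_lit 511) (O73.L.map Lev.b) O73.T 3 k3Z k3W⟩ y3L0 [y3L1, y3L2] []) = true := by decide +kernel
theorem k3_83 : allR 283 1 (refu 364 (nat_lit 9) (nat_lit 511) y3T ⟨fun _ _ => 0, fun _ _ _ => true, leafK 364 (nat_lit 9) (nat_lit 511) (O73.L.map Lev.b) O73.T 3 k3Z k3W⟩ y3L0 [y3L1, y3L2] []) = true := by decide +kernel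
theorem k3_84 : allR 284 1 (refu 364 (nat_lit 9) (nat_lit 511) y3T ⟨fun _ _ => 0, fun _ _ _ => true, leafK 364 (nat_lit 9) (nat_lit 511) (O73.L.map Lev.b) O73.T 3 k3Z k3W⟩ y3L0 [y3L1, y3L2] []) = true := by decide +kernel
theorem k3_85 : allR 285 1 (refu 364 (nat_lit 9) (nat_lit 511) y3T ⟨fun _ _ => 0, fun _ _ _ => true, leafK 364 (nat_lit 9) (nat_lit 511) (O73.L.map Lev.b) O73.T 3 k3Z k3W⟩ y3L0 [y3L1, y3L2] []) = true := by decide +kernel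
theorem k3_86 : allR 286 1 (refu 364 (nat_lit 9) (nat_lit 511) y3T ⟨fun _ _ => 0, fun _ _ _ => true, leafK 364 (nat_lit 9) (nat_lit 511) (O73.L.map Lev.b) O73.T 3 k3Z k3W⟩ y3L0 [y3L1, y3L2] []) = true := by decide +kernel
theorem k3_87 : allR 287 1 (refu 364 (nat_lit 9) (nat_lit 511) y3T ⟨fun _ _ => 0, fun _ _ _ => true, leafK 364 (nat_lit 9) (nat_lit 511) (O73.L.map Lev.b) O73.T 3 k3Z k3W⟩ y3L0 [y3L1, y3L2] []) = true := by decide +kernel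
theorem k3_88 : allR 288 1 (refu 364 (nat_lit 9) (nat_lit 511) y3T ⟨fun _ _ => 0, fun _ _ _ => true, leafK 364 (nat_lit 9) (nat_lit 511) (O73.L.map Lev.b) O73.T 3 k3Z k3W⟩ y3L0 [y3L1, y3L2] []) = true := by decide +kernel
theorem k3_89 : allR 289 1 (refu 364 (nat_lit 9) (nat_lit 511) y3T ⟨fun _ _ => 0, fun _ _ _ => true, leafK 364 (nat_lit 9) (nat_lit 511) (O73.L.map Lev.b) O73.T 3 k3Z k3W⟩ y3L0 [y3L1, y3L2] []) = true := by decide +kernel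
theorem k3_90 : allR 290 1 (refu 364 (nat_lit 9) (nat_lit 511) y3T ⟨fun _ _ => 0, fun _ _ _ => true, leafK 364 (nat_lit 9) (nat_lit 511) (O73.L.map Lev.b) O73.T 3 k3Z k3W⟩ y3L0 [y3L1, y3L2] []) = true := by decide +kernel
theorem k3_91 : allR 291 1 (refu 364 (nat_lit 9) (nat_lit 511) y3T ⟨fun _ _ => 0, fun _ _ _ => true, leafK 364 (nat_lit 9) (nat_lit 511) (O73.L.map Lev.b) O73.T 3 k3Z k3W⟩ y3L0 [y3L1, y3L2] []) = true := by decide +kernel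
theorem k3_92 : allR 292 1 (refu 364 (nat_lit 9) (nat_lit 511) y3T ⟨fun _ _ => 0, fun _ _ _ => true, leafK 364 (nat_lit 9) (nat_lit 511) (O73.L.map Lev.b) O73.T 3 k3Z k3W⟩ y3L0 [y3L1, y3L2] []) = true := by decide +kernel
theorem k3_93 : allR 293 31 (refu 364 (nat_lit 9) (nat_lit 511) y3T ⟨fun _ _ => 0, fun _ _ _ => true, leafK 364 (nat_lit 9) (nat_lit 511) (O73.L.map Lev.b) O73.T 3 k3Z k3W⟩ y3L0 [y3L1, y3L2] []) = true := by decide +kernel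
theorem k3_94 : allR 324 1 (refu 364 (nat_lit 9) (nat_lit 511) y3T ⟨fun _ _ => 0, fun _ _ _ => true, leafK 364 (nat_lit 9) (nat_lit 511) (O73.L.map Lev.b) O73.T 3 k3Z k3W⟩ y3L0 [y3L1, y3L2] []) = true := by decide +kernel
theorem k3_95 : allR 325 6 (refu 364 (nat_lit 9) (nat_lit 511) y3T ⟨fun _ _ => 0, fun _ _ _ => true, leafK 364 (nat_lit 9) (nat_lit 511) (O73.L.map Lev.b) O73.T 3 k3Z k3W⟩ y3L0 [y3L1, y3L2] []) = true := by decide +kernel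
theorem k3_96 : allR 331 1 (refu 364 (nat_lit 9) (nat_lit 511) y3T ⟨fun _ _ => 0, fun _ _ _ => true, leafK 364 (nat_lit 9) (nat_lit 511) (O73.L.map Lev.b) O73.T 3 k3Z k3W⟩ y3L0 [y3L1, y3L2] []) = true := by decide +kernel
theorem k3_97 : allR 332 1 (refu 364 (nat_lit 9) (nat_lit 511) y3T ⟨fun _ _ => 0, fun _ _ _ => true, leafK 364 (nat_lit 9) (nat_lit 511) (O73.L.map Lev.b) O73.T 3 k3Z k3W⟩ y3L0 [y3L1, y3L2] []) = true := by decide +kernel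
theorem k3_98 : allR 333 1 (refu 364 (nat_lit 9) (nat_lit 511) y3T ⟨fun _ _ => 0, fun _ _ _ => true, leafK 364 (nat_lit 9) (nat_lit 511) (O73.L.map Lev.b) O73.T 3 k3Z k3W⟩ y3L0 [y3L1, y3L2] []) = true := by decide +kernel
theorem k3_99 : allR 334 30 (refu 364 (nat_lit 9) (nat_lit 511) y3T ⟨fun _ _ => 0, fun _ _ _ => true, leafK 364 (nat_lit 9) (nat_lit 511) (O73.L.map Lev.b) O73.T 3 k3Z k3W⟩ y3L0 [y3L1, y3L2] []) = true := by decide +kernel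
theorem k3 : allR 0 364 (refu 364 (nat_lit 9) (nat_lit 511) y3T ⟨fun _ _ => 0, fun _ _ _ => true, leafK 364 (nat_lit 9) (nat_lit 511) (O73.L.map Lev.b) O73.T 3 k3Z k3W⟩ y3L0 [y3L1, y3L2] []) = true := (allR_add (allR_add (allR_add (allR_add (allR_add (allR_add (allR_add (allR_add (allR_add (allR_add (allR_add (allR_add (allR_add (allR_add (allR_add (allR_add (allR_add (allR_add (allR_add (allR_add (allR_add (allR_add (allR_add (allR_add (allR_add (allR_add (allR_add (allR_add (allR_add (allR_add (allR_add (allR_add (allR_add (allR_add (allR_add (allR_add (allR_add (allR_add (allR_add (allR_add (allR_add (allR_add (allR_add (allR_add (allR_add (allR_add (allR_add (allR_add (allR_add (allR_add (allR_add (allR_add (allR_add (allR_add (allR_add (allR_add (allR_add (allR_add (allR_add (allR_add (allR_add (allR_add (allR_add (allR_add (allR_add (allR_add (allR_add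 (allR_add (allR_add (allR_add (allR_add (allR_add (allR_add (allR_add (allR_add (allR_add (allR_add (allR_add (allR_add (allR_add (allR_add (allR_add (allR_add (allR_add (allR_add (allR_add (allR_add (allR_add (allR_add (allR_add (allR_add (allR_add (allR_add (allR_add (allR_add (allR_add (allR_add (allR_add (allR_add k3_0 k3_1) k3_2) k3_3) k3_4) k3_5) k3_6) k3_7) k3_8) k3_9) k3_10) k3_11) k3_12) k3_13) k3_14) k3_15) k3_16) k3_17) k3_18) k3_19) k3_20) k3_21) k3_22) k3_23) k3_24) k3_25) k3_26) k3_27) k3_28) k3_29) k3_30) k3_31) k3_32) k3_33) k3_34) k3_35) k3_36) k3_37) k3_38) k3_39) k3_40) k3_41) k3_42) k3_43) k3_44) k3_45) k3_46) k3_47) k3_48) k3_49) k3_50) k3_51) k3_52) k3_53) k3_54) k3_55) k3_56) k3_57) k3_58) k3_59) k3_60) k3_61) k3_62) k3_63) k3_64) k3_65) k3_66) k3_67) k3_68) k3_69) k3_70) k3_71) k3_72) k3_73) k3_74) k3_75) k3_76) k3_77) k3_78) k3_79) k3_80)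 k3_81) k3_82) k3_83) k3_84) k3_85) k3_86) k3_87) k3_88) k3_89) k3_90) k3_91) k3_92) k3_93) k3_94) k3_95) k3_96) k3_97) k3_98) k3_99)
noncomputable def k3lE : Tr (List ℕ) := (.node (nat_lit 3) (.node (nat_lit 1) (.leaf [nat_lit 7, nat_lit 8, nat_lit 7, nat_lit 1, nat_lit 8, nat_lit 7, nat_lit 5, nat_lit 0, nat_lit 7, nat_lit 6, nat_lit 5, nat_lit 6, nat_lit 5, nat_lit 4, nat_lit 0]) (.node (nat_lit 2) (.leaf [nat_lit 8, nat_lit 2, nat_lit 1, nat_lit 8, nat_lit 6, nat_lit 0, nat_lit 7, nat_lit 5, nat_lit 3, nat_lit 6, nat_lit 3, nat_lit 4, nat_lit 3]) (.leaf [nat_lit 2, nat_lit 1, nat_lit 8, nat_lit 5, nat_lit 0, nat_lit 7, nat_lit 3, nat_lit 4])))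
 (.node (nat_lit 5) (.node (nat_lit 4) (.leaf [nat_lit 1, nat_lit 8, nat_lit 1, nat_lit 8, nat_lit 7, nat_lit 2, nat_lit 4, nat_lit 7, nat_lit 3, nat_lit 4, nat_lit 6, nat_lit 4, nat_lit 2, nat_lit 2, nat_lit 0]) (.leaf [nat_lit 8, nat_lit 2, nat_lit 6, nat_lit 0, nat_lit 8, nat_lit 5, nat_lit 4, nat_lit 7, nat_lit 5, nat_lit 6, nat_lit 2, nat_lit 2, nat_lit 1])) (.node (nat_lit 6) (.leaf [nat_lit 8, nat_lit 2, nat_lit 6, nat_lit 0, nat_lit 8, nat_lit 4, nat_lit 7, nat_lit 4, nat_lit 3, nat_lit 3, nat_lit 6, nat_lit 3, nat_lit 3, nat_lit 3, nat_lit 1]) (.leaf [nat_lit 3, nat_lit 8, nat_lit 7, nat_lit 1, nat_lit 8, nat_lit 5, nat_lit 4, nat_lit 7, nat_lit 6, nat_lit 2, nat_lit 4, nat_lit 6, nat_lit 5, nat_lit 4, nat_lit 2]))))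
theorem k3lw_0 : k3Z.all2 (fun c w => isProd 364 (nat_lit 9) (nat_lit 511) O73.T c w) k3lE = true := by decide +kernel
theorem k3lw : k3Z.all2 (fun c w => isProd 364 (nat_lit 9) (nat_lit 511) O73.T c w) k3lE = true := k3lw_0
theorem zl : Lets P 364 (nat_lit 9) (nat_lit 511) (Fin.ofNat 364) k3Z := lets_words lets k3lE k3lw
noncomputable def n0at0 : ℕ := (nat_lit 0x5eae6c6bcb32cd635f592e2d4b55b2faa2bf60551855e62d6eaec863b25954ea853e98aa575229549a2d1e8ca272b89c93f6e4e5b3376d381bb416fca5cf2d743a9d8ed774d5df2f784c1e528934964f2491c8641228f4763f1c8da4e268f89246288b442291c8c8b236009681269329c4da793b068528210a17fbf9fafc7dbe9f2f87b9f0faf53d4da66eb9a4b254e695ba664f1974c5b1389d36e76e39e4f67d40a1385bd436bb55a8d669345a6d067b3598ce65d75895a61d72ab52a9b06b3566356160b4b058ac2bab2d917768b3da56f6ba5abd5aac55d3552a853a994aa4a228e1b0b864112f014ac0d310982a7e0f0e43c421f1144a4128928ac5e31198d2110c8540a0d047e401fde87b7b1e5e642391008239368dc706f1f1d8783d2f1188a612412c946a2618c9e4e33140ba5c2d8b8b2582b8c8ac5429948526b34124d2622f910c047339909a65360d8746e389c086733a1d4763f3b9e066351a1545e31180b4b42a160ac50510d05c40190883836100f05826240a834381d0787c42220c08c2425130504e0c058281208038180a04018080200)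
noncomputable def n0at1 : ℕ := (nat_lit 0x5858564b459d9d6eb6b4ae972bbb256194c6ab32182beaab018b5a61b12bb4fa7541554d57d26914aa35168ea36c36e70dca0375bcdf70b8e7ce49e3ca5cef78ba5cd2a9639e68ee75bb66d2892c9e4d2491c8245218ec7e3d1c8da1d10894543d17158cc5d209248a51429f5040d31014ac112e9e4d42d390d7fbf9fafc7dbe9f2f87b9ede87d3cca5d12b96cbe6131784c9d5339abb2874170509b53a9bb66733f714ee7ae56bb51acd568b4da4d067b319ccd65d46a554a9afeaec963d65855bae57ad7685aae2d56258d7ec0bcb358ecabd5752d5aac55d3152a853a994aa45151201024b41a0b0883c2a12994ec31368d8d2322c8e8c4461d108a4491f1349a15088641205067f3f201eaf63e3ccf4361b9b8743b1e1dc7e3e38100e643281909a4f2397c884631130d049259acba5c2d8b4b2582b954645429948505e309808a63331949c67241a8d24a1e9e0ea761c1bcd86d1c904e8713910868331a958602f189685c2b150b0a2290683c201c090502a250b07c30191089c481313078360e0e84446200b888340c058281208038180a04018080200)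
noncomputable def n0at2 : ℕ := (nat_lit 0xb5daacf685bd9acabab1d896960afd5994c6acb2182bea9b018b5d61b12b9445128d4ca454d3698aaa5ab95ead6c36e70d9a037dbce070b8e7ce59e4d9d53499cca632f784b9d12c95caa5b206a355ad1d8fb319ace68b49a72593a4e248f8a246268b442291c8c8d236009681271329e4da693b0685286109f7fbf9fafc7dbe9f2f87b9f4f4f33e3c5df30793b5d735773b1cf29733a683426ed0db9379cb6a753b724f67ee28f471971b9235e4721914a1a0cf93552aabfa954592c7abd62b75ead30978b9b22ed7ab6b4ad570b0592c567615429ea14ea7a968f45a352a9149562ae170c86c0531034bc112b0583a82131187c39131043a5124908bc662d158c20506823f200fe8443214f2f47a9edec753b9e0ec71399d0e470361b8de6d27990a04d2317c8e443112cd04c249ac5029288a85a2e2d0bc60551915866452f180c24e31994cc6725120d26a2190084411f8f07c3d1d8e86e391c0d8b85d2d8c4a654290b056582c95c6a340c868401708044360e0f0542c240983c1a1d0e0603e221088c2812130944e0c058281208038180a04018080200)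
noncomputable def n0at3 : ℕ := (nat_lit 0xb5da96f68b4d9acabbb1d896160afb02a95160afeb6c261d7992caabb1d8cad55ab29549a3a9948a554a9d515071391cb3f6cce5b5376e375bf41704d9d93499cca62f0984ba532c95ca9d0ce8db2e38d368b3da12891b5e48d66a43d148745a2511178ac65289049a493ea050c0d2b014bc11309a4e42d3d0d7fbf9fafc7dbe9f2f87b9e4f67c7a3bde52f78baddcea76cd5cd2d74b9e70db9d362773c9f4f5c6e1a137a8143694964d278ec7a3ecd6648243226ad758b5a62572ab52a9afab3566456172bd5d59178b5b3ae16d6158acd64b4a2d1a88a35152296af57535554ca753e0496804220b0a83c1a129d4dc31328e8d2362c8c8c4461d108a4492313479fcfc8042a110c8240a0decf33d3d4fa763b9d4f072399c4e870369b8d86f2f1108a6124124946a2598c9a4e3313c68351995c562c15148a830188bcb66935930d0603111cbe463299ca0642190480421f8f4783e1d8e870371c8d852282894c64552b160b22e16968b85d0683c1c1c0905026250a87c3017108984e16120743c110d84044230d080320c058281208038180a04018080200)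
noncomputable def n0at4 : ℕ := (nat_lit 0x5caf16ebdb48e86c71373ca56f177d62a951ab2fcd669221a2833ca150e7d4fa75414aa6168d06a338dc7196d225120d45060d71815d5f375bedb700e4f0381bd8ecab4b0d9a693097bc26c512c95cb0ab56d35554c8ec7e3cd66a27a0e9c84a6a0a884522c4a120d8521d1088c0d3b014cc1136160a88c26207fbf9fafc7dbe9f2f87b814100a03ae16ab05b1cc8676381d5cd3374b9d8ec9ad55c9a5f3113cc13f6c4ee7b385651a8b47180c45e2814b3e50d06a9988e4e2318d86c562565b8d971b68783e391d07b62b3d7ec12c764d5d52a2d0b8a85229a9296af57482452169b453ea15024e2e8f8aa46320f0e0881a928d2422c948c25a05000b8683a190f1f5e8f53e1edec7a3cbcc1609020300cb25dacd623b361dc7e6d76cc9d6ee61556bd5b32924c86725ce5bd3a9bd029348a52a0562c1515465239235d9a5e309308ac863549955372395c2e2379048042b25aad7685d4ba532d744c4ba5b2e15a88a35129d532593c999ccc4ba56169846a3a1e8c4387c302710c4e28898941a150d84430200e120444c804321506843f1fd0282018080200)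
noncomputable def n0at5 : ℕ := (nat_lit 0x1e8face3c5bcba623f992e25eb55b1a6793e3438d855e7156cd55d2412ab94ea853e45205496cba5c6a359aa31a954eaa5e6e545b3546d180c4d82fca5652d741b86d2c958e870b4b0ac072cd158a858532a29548a68f4763f46a3a4d328f4ea4536190d05e170c10c342812128562e138c85a2b0685236108c7fbf9fafc7dbe9f2f87ba0508853f58ac12aaf9b0deb336ac5ce37733a48c475f9108b379c98674c19c2f980db29471971b51d1144cc670a4a228a2925c84c7292d88c3629ae7f3dad4eed16a3b8eed6f2b4bbde3303b1e0eaf05429e46d7924845a5a175329aaa180bd409f50c6a131882c5a0e2413a384c904f25134924e08846208944c31140f82c1408048100a0c0301d0c8341200ff35393b1d4ba772eec8eb21d8ce073acd06b15632328ce656337c9edd701406a331a2be4f25930c8acad55ab251406f321c24e31d0ccd4264b1c9b5776900844138af172bd3a59a6d3499d96934aa4155a4d368aba96582c95d9ed00e036220f8125837000f21d129787a29101d45c12070e80c401c114c0412a7a3ebd0f8f5799e5ec7b018080200)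
noncomputable def n0at6 : ℕ := (nat_lit 0x51d114ca2520a0522b28b2e3f1b8e379bee070b76b35664d60c8663299c9c3e1e0f4ec7578cca5d315c2d56d6a61b118ac29dcf27b3e9f924966a2616468572c52a90ac55d264ed368b4a4ae996ba2526d378d8746eb0ac1695fb008032220b88c351289c51349c85a790e8987844380e068401f024b41201017dbe5faf87fbe9fcfc7b8180808052be96ad570c8ac352a8ce51266833dc8e571b8ab75caed7ab469251acd048360dc7039964aa56e7732c966b1b132aaec663b228342a1d009e5031934a453150b0a94752d168d1d66b39991e793bde130979e07e771dda56f67b5da03a1e0dc3915104444516984ac0d2e8f4824524934a07c30214ca76189b869f90a834220900813fa18180b028240eaa54536985a188b45c3091c8248d76d4e1b8d9a9552a7555f988bc5f301848242201d26d339a3b5d6b95e2f6c6c060d457d379cb6e74d8239108a4617970ba5b54d429d4f53c85a8d56b489d935753b8e670219c4e4bab22eecb66138902a268b461191a4728143094fc56328d8b8504a160904e150682c220e7d3e3ccf4f43cbd8f6f5000080203)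
noncomputable def n0at7 : ℕ := (nat_lit 0xad28e90b9b3aa96764ac2dac35557d65595458daebd63a9296c15c5455d7950652c148c253d298169a3b0d76ab7247268e9973adb93c9449258f16eb59a14194bb19d2b6bcfd97399834e673b6dc99df3a6938642e771c79dd426abd1f6797c1edfc8a45a2203045040cfc8142239368c4ea353310873da22f54c455fa958cbe92f177bc0a011a4b3ca70e092c75db329f36a80e290399a9438fba244f068b7a6f3d93ba998d897cda36e59548dbf3566cc59ed996d3d5cb45c31974c4a35318349512dd5b51a2b16d0c75f58952c8b2a9ab74eafb257b5da25996b53a5acaad4db52fd0f0f44a7a0e9c84a6a0aff7cbcdf8943fa490a904142a0d0889c513f12509f5230b3e23e187a49c350c838b202305c158e8a058180fc8e66298d0864c288ecd2412d1c0ca382a1586c601e974bc781a99c9074161887c63378c4d6752292c666c271185e59389289e2a368a0d04039154be3c351d85a641b984b66e268c8a473248b872573b910524207870440d0a0943a120d86042260f800041e018140e2304080120b13830480e0802822130a8182c040b864021a)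
noncomputable def n0at8 : ℕ := (nat_lit 0x9d2f5b0315d50d7140154fc64b31a2be584b94ab153339a91c9a4e524c5443c64475931b9430e4c39911058243b316db364b1158b13c715aca8e16eb3aae76ac1c6a52339b51a15d691beb74b74d24d2669851cceef2fbb69ceaa646801160146007148944e230e03440361d0f1f2127d829ea0e834308500180ba5dfa194c3dc34957d3d9e6147aaf880bf900fa3c3b654724e3a620e06ab25a4ee702f5e0b66e2b14ada83695193d4b2e56cac992d244d888a722bae9b4f2f180d6e7a51aa8a64783cad4df1459ca5652d368b8e3b0390b2b0af0d9a75a369deb275661d1ab536bd453ea050845320e4d8413afb7f07df00847815220749a311a8e44228088b0540c467e82081030111212110a094184a46554d150a697942646395129564962b0a4a3790c9084c0380f47ec68fb1c58b5a12dd633d19cf8ab39182e45c726b552aad1ae1b8d8cfab1e196cda21968cf130bb8c550763a290e6342b9cb5f2bd86d05370145bc5d6e58db6bb1309cf224429fe04824b42e180f86be5f9007f8542cf4099ed3c9a0e2701a0b0621c12944843d24898ac5c0319)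
noncomputable def n0at9 : ℕ := (nat_lit 0x911209368b3d9a4ad3271848f608f0beba5a794cab255abcdaaae914cb2a33ba78fdcb4c211ce8748a38da7344a4d0886729fcf87675a81ba8aa69bd59945699d685cc52dcba5b52144a8a7289398ecab891dae426a22d7e3a60593dd00fa433f5071489c481e0d0d870140403268189e04a7016020026006977f8862cfc0fc61f2188d22116f44556de2f018b25daec19966a8c1738ae9a3d53b89c2406fab15cdc37a8c72d834131aab7b2135a2b933b39604665cd5dc581a31a605d61b09d052162f97a655d93da1246a2d8d6b42fc6d62cd57b755ade3a0f0eca871ce0d8a46d0e13a994dc2143064fc294102802552c9409a482a900b2391a8c7abcc3cf60ec5c40848a8890319119f81c113d840f2783baa678aba5500e2706dce8daa55ac80d2d76799978649318ac51c59979885c97d71d4c82bcd2b05494b00a2505d58da4d62592ad36ab0b323e44a0d2c82e0a70f9c8aa9e8e9b2a21bd186ac7758c9de30af4c45abf730aaa72b138984a243fa09fc857da250f0e8786832f80ba3d221449848f87a889f6210982c360e0803c2c0b0c80c100303)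
noncomputable def n0at10 : ℕ := (nat_lit 0x6128dc2ba6b96cdb4a32cc4553993d7a1a6c0737a64499d226aa64122ee292e840b10f2686590234837c4a48262cc71f41e9a0c08d218ad5ec06b0ccd9253f8fd66c4db685417f048d3fd5f07afd3047450abe2786299c08694227cac6a798b8e277510ed18a7100d362bb4b09b1e134f94080d12c7b4786e44952745e7d2850473224a40cc0e3659c050f024034089b091f0c6b7168d95a087a292d2e04d568dc4398285b30eb3b587493441cda32f2a30c18c179a9c8000852a50232675ad985696a0cfe95a95a1188e742610a4210804304c94971ca7e229058c02651850ce2b5289b45145245fc2e7637ceab604a5978f76a4d53c78332e00eb92527eacd3a6a956a145f0298a1c5eab1f8ea2b9da3090079e93269691c8a4f2a3b76cb5c9c1a8e9050b23ec75474c814cf51882c36aeb316a864d3db000acf889c540fb8d938b0b01122eb0ef1ecf557006e2d154c9128f88e3303355f31680b9a331d1e310bf3e7ea71cf4e0bd8452f1085107f539292d670601d0226802ec3e6eb11599e468485bae92273bd6ddccd2f2092ee4468ecaaed0faa164c8)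
noncomputable def n0aT : Tr ℕ := (.node (nat_lit 5) (.node (nat_lit 2) (.node (nat_lit 1) (.leaf n0at0) (.leaf n0at1)) (.node (nat_lit 3) (.leaf n0at2) (.node (nat_lit 4) (.leaf n0at3) (.leaf n0at4))))
 (.node (nat_lit 8) (.node (nat_lit 6) (.leaf n0at5) (.node (nat_lit 7) (.leaf n0at6) (.leaf n0at7))) (.node (nat_lit 9) (.leaf n0at8) (.node (nat_lit 10) (.leaf n0at9) (.leaf n0at10)))))
noncomputable def n0aL0 : Lev := ⟨(nat_lit 1), (nat_lit 11), (nat_lit 0x60202010401080b010b0b090902020a080a0b08090708090708070b080703050a040208050a02060804010808020b0a020a0b0a060906090905080b0b0109080a06090404060a080308030309040b090a040b0208020b0b0b0b0204060b0504020608060b09050708090509090a0b070b0b0b0a0b080507010a0605090a03060906010b0202070905040b0509060b04030108090b0808030403090806070707040a0605050902090b030b020301030a07090a090309020b030b040a09090b090a070a09090807070909060b05070b0b0b070b0a04030b06070b070b0b0107070b0b06070b0b0b060b040b050806070b0b0b0205090505090a0309080a060b090801060505040b060b0b0b010a0704080303090804020a0b070b07080b0a060308090a07050905080a02020109040a0a090609070601070704010b0408090401020905010601070b0b0b0b050408080a020b0b0b0b03010603070b0a0b0b0a0b0909070b090b0909080b000b),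 (nat_lit 0x4050205030303040204040304040405030404030304040404040404040403030403040303040405030303050405040404040403040302040403030404030405050504030304040505040403040504040205050505050505050504040404050505050505040505050504050406040505050405040505040405040405040405030403040403040302050403040504040403040403040403030505050303020303040303040405040403040404050405040404040403050404020102040504040504030404040204040505050405050505040504050505050404030403050404040506040504050504050505050505050405040502040303030404040504030404040404040404030405040304030404030404030404050404050503040303040404040304030304040403040404040304040404040503040304050405040404040403030406060505050503050504040504050503050404050405050505040504050505030405040506050005),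
 (.leaf 0),
 (.leaf 0)⟩
noncomputable def n0aL1 : Lev := ⟨(nat_lit 253), (nat_lit 10), (nat_lit 0x406090a0a08050108070201040907070101010503080402050809080a00070a0a070a0a02040803000000000000000000000000000000000000000000000000000000000000000000000000000000000000000000000000000000000000000000000000000000000000000000000000000000000000000000030808050a060a060a0a09030a0503070207010806070a0a030a03020808040508020a0304010803080000000000000000000000000000000000000000000000000000000000000000000000000000000000000000000000000000000000000000000000000000000000000000000000000000000000000000000802050607070507080a060a0608080501090a080a0102090a060a060805080608090709070a000a), (nat_lit 0x3050205010505050503040204040303030504050305030303040405040005050305040403030404000000000000000000000000000000000000000000000000000000000000000000000000000000000000000000000000000000000000000000000000000000000000000000000000000000000000000000040303040503040204040504050403030204030403040405020403040304040304040304040302030300000000000000000000000000000000000000000000000000000000000000000000000000000000000000000000000000000000000000000000000000000000000000000000000000000000000000000005050405020303040403030503050503050403030403030304040504040404040403030305040004),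
 (.leaf 0),
 (.leaf 0)⟩
noncomputable def n0aL2 : Lev := ⟨(nat_lit 247), (nat_lit 9), (nat_lit 0x900000000000000000000000000000000000000000000000000000000000000000000000000000000000000000000000000000000000000000000000000000000000000000000000000000000000000000000000000000000000000000000000000000000000000000000000000000000000000000000000000000000000000000000000000000000000000000000000000000000000000000000000000000000000000000000000000000000000000000000000000000000000000000000000000000000000000000000000000000000000000000000000000000000000000000000000000000000000000000000000000000000000000000000), (nat_lit 0x100000000000000000000000000000000000000000000000000000000000000000000000000000000000000000000000000000000000000000000000000000000000000000000000000000000000000000000000000000000000000000000000000000000000000000000000000000000000000000000000000000000000000000000000000000000000000000000000000000000000000000000000000000000000000000000000000000000000000000000000000000000000000000000000000000000000000000000000000000000000000000000000000000000000000000000000000000000000000000000000000000000000000000000),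
 (.leaf 0),
 (.leaf 0)⟩
noncomputable def n0aL3 : Lev := ⟨(nat_lit 2), (nat_lit 8), (nat_lit 0x70003000406010800000000000000000700070007000000000008080008080008080000000000000000000000000000000000000000000000000000000000000000000000000000000000000000000000000000000000000000000000000000000000000000000000000000000000000000000000000000000000000300070005060500050000000000000000000208000500000000000000000000000000000000000000000000000000000000000000000000000000000000000000000000000000000000000000000000000000000000000000000000000000000000000000000000000000000000000000000000000003070001000000000000000200020800040000000000000005000400000000000000000008000008), (nat_lit 0x20003000302030300000000000000000300030004000000000004040004030004040000000000000000000000000000000000000000000000000000000000000000000000000000000000000000000000000000000000000000000000000000000000000000000000000000000000000000000000000000000000000400030003030300030000000000000000000303000200000000000000000000000000000000000000000000000000000000000000000000000000000000000000000000000000000000000000000000000000000000000000000000000000000000000000000000000000000000000000000000000002030002000000000000000200030100030000000000000003000200000000000000000004000004),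
 (.leaf 0),
 (.leaf 0)⟩
noncomputable def n0aL4 : Lev := ⟨(nat_lit 254), (nat_lit 7), (nat_lit 0x7000000000000000000000000000000000000000000000000000000000000000000000000000000000000000000000000000000000000000000000000000000000000000000000000000000000000000000000000000000000000000000000000000000000000000000000000000000000000000000000000000000000000000000000000000000000000000000000000000000000000000000000000000000000000000000000000000000000000000000000000000000000000000000000000000000000000000000000000000000000000000000000000000000000000000000000000000000000000000000000000000000000000000000), (nat_lit 0x1000000000000000000000000000000000000000000000000000000000000000000000000000000000000000000000000000000000000000000000000000000000000000000000000000000000000000000000000000000000000000000000000000000000000000000000000000000000000000000000000000000000000000000000000000000000000000000000000000000000000000000000000000000000000000000000000000000000000000000000000000000000000000000000000000000000000000000000000000000000000000000000000000000000000000000000000000000000000000000000000000000000000000000),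
 (.leaf 0),
 (.leaf 0)⟩
noncomputable def n0aL5 : Lev := ⟨(nat_lit 249), (nat_lit 6), (nat_lit 0x0), (nat_lit 0x0),
 (.leaf 0),
 (.leaf 0)⟩
noncomputable def n0aL6 : Lev := ⟨(nat_lit 4), (nat_lit 6), (nat_lit 0x2040403000000000000000000000000000000000000000000000000000000000000000000000000000000000000000000000000000000000000000000000000000000000000000000000000000000000000000000000000000000000000000000000000000000000000000000000000030303020601040404040105030300000000000000000000000000000000000000000000000000000000000000000000000000000000000000000000000000000000000000000000000000000000000000000000000000000000000000000000000000000000000000000000000000000000000000000000000006060606060606060000000000), (nat_lit 0x2020303000000000000000000000000000000000000000000000000000000000000000000000000000000000000000000000000000000000000000000000000000000000000000000000000000000000000000000000000000000000000000000000000000000000000000000000000030302020102020303030201020300000000000000000000000000000000000000000000000000000000000000000000000000000000000000000000000000000000000000000000000000000000000000000000000000000000000000000000000000000000000000000000000000000000000000000000000003040403030404030000000000),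
 (.leaf 0),
 (.leaf 0)⟩
noncomputable def n0aL7 : Lev := ⟨(nat_lit 291), (nat_lit 4), (nat_lit 0x400000000040201000000000000000000000000000000000000000000000000000000000000000000000000000000000000000000000000000000000000000000000000000000000000000000040000000201030000000000000000000000000000000000000000000000000000000000000000000000000000000000000000000000000000000000000000000000000000000000000000000000000000000000000000000000000000000000000000000000000000000000000000000000000000000000000000000000000000000000000000000000000000000000000000000000000000000000000000000000000000000000000000000000000000000000000000000000000000000000000000000000000000000000000000000000000000000000), (nat_lit 0x300000000010202000000000000000000000000000000000000000000000000000000000000000000000000000000000000000000000000000000000000000000000000000000000000000000030000000202010000000000000000000000000000000000000000000000000000000000000000000000000000000000000000000000000000000000000000000000000000000000000000000000000000000000000000000000000000000000000000000000000000000000000000000000000000000000000000000000000000000000000000000000000000000000000000000000000000000000000000000000000000000000000000000000000000000000000000000000000000000000000000000000000000000000000000000000000000000000),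
 (.leaf 0),
 (.leaf 0)⟩
noncomputable def n0aL8 : Lev := ⟨(nat_lit 166), (nat_lit 2), (nat_lit 0x0), (nat_lit 0x0),
 (.leaf 0),
 (.leaf 0)⟩
noncomputable def n0aL9 : Lev := ⟨(nat_lit 13), (nat_lit 2), (nat_lit 0x2000000000000000000000000010000000000000000000000000000000000000000000000000000), (nat_lit 0x1000000000000000000000000010000000000000000000000000000000000000000000000000000),
 (.leaf 0),
 (.leaf 0)⟩
noncomputable def n0aL : List Lev := [n0aL0, n0aL1, n0aL2, n0aL3, n0aL4, n0aL5, n0aL6, n0aL7, n0aL8, n0aL9]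
noncomputable def n0aE : Tr (List ℕ) := (.node (nat_lit 5) (.node (nat_lit 2) (.node (nat_lit 1) (.leaf [nat_lit 3, nat_lit 6, nat_lit 2, nat_lit 4, nat_lit 1]) (.leaf [nat_lit 4, nat_lit 3, nat_lit 6, nat_lit 2, nat_lit 0])) (.node (nat_lit 3) (.leaf [nat_lit 3, nat_lit 6, nat_lit 3, nat_lit 4, nat_lit 3, nat_lit 3, nat_lit 1]) (.node (nat_lit 4) (.leaf [nat_lit 5, nat_lit 3, nat_lit 6, nat_lit 5, nat_lit 3, nat_lit 4, nat_lit 3, nat_lit 3, nat_lit 1]) (.leaf [nat_lit 5, nat_lit 1, nat_lit 7, nat_lit 4, nat_lit 3, nat_lit 6, nat_lit 5, nat_lit 4, nat_lit 3, nat_lit 3, nat_lit 0]))))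
 (.node (nat_lit 8) (.node (nat_lit 6) (.leaf [nat_lit 7, nat_lit 5, nat_lit 6, nat_lit 7, nat_lit 3, nat_lit 4, nat_lit 6, nat_lit 5, nat_lit 3, nat_lit 3, nat_lit 0]) (.node (nat_lit 7) (.leaf [nat_lit 8, nat_lit 1, nat_lit 9, nat_lit 2, nat_lit 1, nat_lit 9, nat_lit 5, nat_lit 8, nat_lit 5, nat_lit 8, nat_lit 3, nat_lit 6, nat_lit 1, nat_lit 7, nat_lit 6, nat_lit 5, nat_lit 6, nat_lit 2, nat_lit 2]) (.leaf [nat_lit 2, nat_lit 8, nat_lit 3, nat_lit 9, nat_lit 2, nat_lit 8, nat_lit 7, nat_lit 0, nat_lit 7, nat_lit 4, nat_lit 3, nat_lit 6, nat_lit 5, nat_lit 4, nat_lit 3, nat_lit 1]))) (.node (nat_lit 9) (.leaf [nat_lit 7, nat_lit 9, nat_lit 2, nat_lit 9, nat_lit 7, nat_lit 0, nat_lit 8, nat_lit 2, nat_lit 4, nat_lit 7, nat_lit 3, nat_lit 3, nat_lit 3, nat_lit 6, nat_lit 5, nat_lit 2, nat_lit 4, nat_lit 2, nat_lit 0]) (.node (nat_lit 10) (.leaf [nat_lit 1, nat_lit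 9, nat_lit 6, nat_lit 1, nat_lit 9, nat_lit 8, nat_lit 6, nat_lit 3, nat_lit 8, nat_lit 5, nat_lit 6, nat_lit 7, nat_lit 3, nat_lit 3, nat_lit 6, nat_lit 5, nat_lit 4, nat_lit 2, nat_lit 2, nat_lit 0]) (.leaf [nat_lit 2, nat_lit 7, nat_lit 1, nat_lit 9, nat_lit 2, nat_lit 6, nat_lit 2, nat_lit 8, nat_lit 5, nat_lit 7, nat_lit 2, nat_lit 6, nat_lit 3, nat_lit 4, nat_lit 3])))))
theorem n0aw_0 : n0aT.all2 (fun c w => isProd 364 (nat_lit 9) (nat_lit 511) O73.T c w) n0aE = true := by decide +kernel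
theorem n0aw : n0aT.all2 (fun c w => isProd 364 (nat_lit 9) (nat_lit 511) O73.T c w) n0aE = true := n0aw_0
theorem n0ac : band (tchainChk 364 (nat_lit 9) (nat_lit 511) n0aT n0aL) (Nat.ble (chainOrd 364 O73.L) (chainOrd 364 n0aL)) = true := by decide +kernel
noncomputable def n0ht0 : ℕ := (nat_lit 0x58acac4b3b02d56d6b5c2e6c6bc5eb2993576331ea951602feb6c3615798950a7d39554d57d2a9348a3d1a8aa36cb69b9396ed05bf4370389c93f72cc1df2f783a252e673cb5dd35753b1db28934964f2491c8641228f4763f1c8da221c8a88a2e208c46a391e918a24e11068526204958025d2c9d4ca69369c7ebfdfcfa7e3edeef97c1ede87d3ccaa56e9964ba62f2993c666eb9a4d9bd40a138674db6c4de713e9db8e793d6bb55a8d669345a6d067b3598ce65d497d5360d56ad58acb22b55c62d756f67b45aad361afac169665daeac9655752d56ad565314ea9542914ca5515120303824153f0750c25410b8627a1b1a8cc5a2b188ba250f0f49242249489a190a8441a0902803f9f9eaf63e3ccf437360e0723c3a8f47c76201c4824233134c64e30910bc45231a892482512cb65d2e0b4ae592c15464522a14c505f3011cc46432940ce4f341a4986b3c1dc763f379b86c3a369d0e670219c86a34199586230179685c2c158a8a229070403c11098544e161305c32230d05024241283c1a1b0e074301f10084440c058281208038180a04018080200)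
noncomputable def n0ht1 : ℕ := (nat_lit 0xb22e972bb5e2d160b1b0da571675bd497cc0aab0586c4ae3158d596432ab150a7d3a98aa5752a9348a3d1a8aa29e38e7ce49c371b0d96db8680dd6f39a58e774baddb369a3ba5cef78bca632892c9e4d2491c8245218ec7e3d1c8da51269047a49230f43a262f15464652a974c42d350d4e4313c9f5042543077f3f5fefb7d3f1f0f77c9f0faf53d3b1d5339acb6532a744ade13297cc26f396d4e9c53b9eb967f417050a86df6bb51acd568b4da4d067b319ccd65d7abac2ad56d7f51aa54d8f57ab326bf6059acac5635ed96ccb5b45aad6b6a5abd58ab56d3550a754a9548a6a228d36994ea5a090080c0a070a8341610888722e208a88c4a27148b4611d1a46a190a8441a0902803f9f9e87b7b1e5e643211c0e63a1c8d8dc381f8f87677221888c47249ac964c34934ce4f28194b85b2e8b8b0572c8c8ac5329150524a241a0d4452f17cc2602718cc8661b9b0da6f201c4e474208f0ea763c0f46a34199546230178b4b42c158a850511087c2e180e0341c0f0809424130a06c3a110f080441a1186448260b09c2a0c058281208038180a04018080200)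
noncomputable def n0ht2 : ℕ := (nat_lit 0x43daa76e445c56cb376d242c3606fd7a015c973c533584f39e0d33a9bb5427a799e64320a5b359ccca3d1a8a86a1a3d69409fc4110b6b4ce918bcb24d9809faa4c92ac497d6e192c4d32652fb3fa00fca953aaa9b4c8fc7a3b1c8daf5b2db8bc5accb36f449713e87c39952d85bad8308765560ac57840a035d52a9948d09433df2f87bb59eaf4a7bcab5034b3baa507853a9d2c8ab26dcb6871a2564e0afc4d24dc8c58e32d8543d8f87b69b49a2fc7d526954865c3654e863b1a093061a6213355fafa35385da3973115bcf16b418a385629357ab95aac55c8a48d791bf9fefd42a12a2a09a55d3a9c734aeb2c24bbbe6294583752362a12e91b39b3a29c53db5d1146a241a09032693c94fad56a5429c6b0703cea6209850e2473385c306c3c1a838683799842641c9d0c2252f9080403008c00e0c030ac540b04028683627880323b2586c203e3811848152197882261f9207a1d260e8c638111405251140b05c5a168c45e322b1546a3313900c045118dcca4e0f8787869250689a6d3705888723984822493b1dc1a582a14812532c95c0a042e174b600)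
noncomputable def n0ht3 : ℕ := (nat_lit 0x1623a87402885aaea35298e371d8485148b6093187a4d840ae83198fcc60c53671e8cd326f330a479a3d1800c99cc8a6c6f57086b61c58269145d4357d8607b2b4d332b7c989b0698135126cf7d0b64b049bce06e986285ec8bc61226787240b448f5c06555ac6c99a4020bda5c8e2439902446c85234f67cff85cfc862e7dc9e544588836c618a420a5a732003abcaa5407628332ace956b302310d0db75165af0c2fbfa1c74371add6923021dce2f3f02e954f110fdec298a93944c7b4805c2f07ab2ed4036509ed07c8d1d5e2a1779d9e8504f8f8774283c5a5e4f46d9d9015122e1dc962bd495a055d568365c4d985d2b40d2a56423a6979ef3b1acd602972b27082e37422c883068202bb53b002a9d243512d2a1960551582096211fa705383d72c14f3491083720e9da3225370e2e54e96a00da36a3dd94904541630d7c39a214ca887d76061c125aa3457d98136281961b2949090a1ee22dca669132413250313fbf24c11b0af97e1e32b80547bac8096f58131f5bf183384d6aa6a24b850a082cc2388c3b8f23d1766bccf0547919214ddb5896ad45)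
noncomputable def n0ht4 : ℕ := (nat_lit 0x1af586b95310a671d7a900567b9b3b4fb149ea684620b280624723e2789652661e51e4c85b34a8f3a3d180017b4ab2ab687f40605194639a872291d05143587d32a41254859e26f983e46c317d0b64a78855087707a9836c011b0adea81c062a98ee91a425ee4d1cb64a0dc7f816bf5755d4427241fcad125980368da2e7dc9e5e4f46b257eb10501d6ac059a84c2556ab7d2a8368938b863420e182260ed2c085e701607b2d6ec448b2a9919a2c7f9453c174a5f2ee88a56256a3ee29ac6cd073148aa191c24a6cd2a210d70329472244a33b21cfd3a7172bb124eb35862c75db231568145799cb6864bcea632044280ea3c94b520d0e2b5a94e10414e63465694de086e323ca2e7e17b3c3cb81253a900907ac96cd878460ba6ca035caf106b1de58e10dd344e06b14b92cd36da3a70981b969bc3e4fa1dce08a8526ceb05431ab0323b17c8c338ac0df0817e8e90aef652bab20e5698a104790c151644741806080683f24d6bab09590155d07c04a34832e7c70250a1d53c4ca4ce8f48f599495e0d56c590d353b9ed13671e882539a12138e35e0898545)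
noncomputable def n0hT : Tr ℕ := (.node (nat_lit 2) (.node (nat_lit 1) (.leaf n0ht0) (.leaf n0ht1)) (.node (nat_lit 3) (.leaf n0ht2) (.node (nat_lit 4) (.leaf n0ht3) (.leaf n0ht4))))
noncomputable def n0hL0 : Lev := ⟨(nat_lit 4), (nat_lit 5), (nat_lit 0x5000000020000040300010100000500000000000002000005000000000005010200000000000002000200000100000000000002020000050002000005000000000400000000000303050201040405040500000002020000040001000000000005030000050000030000000502050100000004050403040200040000000000040400000105000400040000000004050000010000050201040201050000000000040005050000040000050000040200030000000200000000000004000105020401030503020305010103000004000402000000050000000000030000030005000100000004030304040405000000010503000004000000000000040000040500050000000005000500000002000005010200020401040200000005000500000500000003000004050500020000040000050000000500050404010000000000030403030400000205000400000001000000000004030005000000040000000403000004000303040005030300),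 (nat_lit 0x5000000040000050300040400000600000000000005000006000000000004050400000000000004000200000200000000000002060000050005000004000000000400000000000405030404050505040500000004030000050004000000000005050000050000050000000504030400000005050505040500050000000000050400000505000500010000000005010000020000020404030505040000000000060005050000040000060000050600030000000400000000000006000403040304040303040404050403000005000506000000050000000000020000030005000300000005050502060405000000050504000005000000000000040000030500050000000005000600000005000003040400040304040500000005000400000600000005000005060500060000040000050000000500040606050000000000060506050600000505000500000005000000000005040006000000050000000604000006000505060004040500),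
 (.leaf 0),
 (.leaf 0)⟩
noncomputable def n0hL1 : Lev := ⟨(nat_lit 1), (nat_lit 3), (nat_lit 0x1020300000000000000000000000000000000000000000000000000000000000000000000000000000000000000000000000000000000000000000000000000000000000000000000000000000000000000000000000000000003030000), (nat_lit 0x2020100000000000000000000000000000000000000000000000000000000000000000000000000000000000000000000000000000000000000000000000000000000000000000000000000000000000000000000000000000003030000),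
 (.leaf 0),
 (.leaf 0)⟩
noncomputable def n0hL2 : Lev := ⟨(nat_lit 13), (nat_lit 2), (nat_lit 0x200000000000000000000000001000000000000000000000000000000000000000000), (nat_lit 0x100000000000000000000000001000000000000000000000000000000000000000000),
 (.leaf 0),
 (.leaf 0)⟩
noncomputable def n0hL : List Lev := [n0hL0, n0hL1, n0hL2]
noncomputable def n0hE : Tr (List ℕ) := (.node (nat_lit 2) (.node (nat_lit 1) (.leaf [nat_lit 4, nat_lit 6, nat_lit 4, nat_lit 3, nat_lit 3, nat_lit 3]) (.leaf [nat_lit 3, nat_lit 4, nat_lit 3, nat_lit 3, nat_lit 6, nat_lit 4, nat_lit 0])) (.node (nat_lit 3) (.leaf [nat_lit 1, nat_lit 7, nat_lit 5, nat_lit 8, nat_lit 5, nat_lit 7, nat_lit 5, nat_lit 0, nat_lit 7, nat_lit 3, nat_lit 3, nat_lit 3, nat_lit 6, nat_lit 2, nat_lit 4, nat_lit 0]) (.node (nat_lit 4) (.leaf [nat_lit 0, nat_lit 7, nat_lit 0, nat_lit 9, nat_lit 1, nat_lit 9,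 nat_lit 1, nat_lit 8, nat_lit 7, nat_lit 1, nat_lit 8, nat_lit 6, nat_lit 2, nat_lit 4, nat_lit 7, nat_lit 4, nat_lit 3, nat_lit 6, nat_lit 2]) (.leaf [nat_lit 0, nat_lit 7, nat_lit 0, nat_lit 9, nat_lit 1, nat_lit 9, nat_lit 1, nat_lit 8, nat_lit 7, nat_lit 1, nat_lit 7, nat_lit 5, nat_lit 0]))))
theorem n0hw_0 : n0hT.all2 (fun c w => isProd 364 (nat_lit 9) (nat_lit 511) O73.T c w) n0hE = true := by decide +kernel
theorem n0hw : n0hT.all2 (fun c w => isProd 364 (nat_lit 9) (nat_lit 511) O73.T c w) n0hE = true := n0hw_0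
theorem n0m : n0hT.all (fun c => eqB (n0aL.map Lev.b) (fun a => ap (nat_lit 9) (nat_lit 511) c (ap (nat_lit 9) (nat_lit 511) (k3Z.get 1) a)) fun a => ap (nat_lit 9) (nat_lit 511) (k3Z.get 1) (ap (nat_lit 9) (nat_lit 511) c a)) = true := by decide +kernel
noncomputable def n0fa : ℕ := (nat_lit 0x304040004030403040400040000030402020004000100020403020204020204030302ffffff0300030404000404030404040204010402020104020401ff0100010301020201000303000401030403040302040304040204020300040301010204010300040104030203010400010402000101030000000303040300040000040400ff040002030301020401000301030004020403000402030403ff0201000203020104010102010102000303000404010403040401030302030300030303000100020304040002020103000302030100020104000403030004040103010101020303020302030204030402030401010400040402020302040303030101ff010201010004040401000403030103030303010001030100020402030301040002030004030104000204030100030304040004000004000302030302020403020302020304000002010002010001030101040300020303040302040004010401020303040302020404030402ff)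
noncomputable def n0fd : ℕ := (nat_lit 0x4040403030202040405050404040302010303030305020205030303020203030402030000000104040403040304020403050304040403030104020304000104030503030203030405030203050505030604030404050301040305030204020203040402040304030203030302020101020205040504030201040201030103050503000504040403040505040303040304030402050504040505050003020201050304040402040403050402040403040304040504030303020403030304020303040505050203020304020302040304030403040304010404050405040405020404040305050205040505040104030403020103030302020203040304040004040204040504040304010404040405050403020201040404040304030403020204040403040303040203010403030403010203040304040504030304010202030505050403040502040403020404030404040301050103040302020302020403030202050302050505050500)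
theorem n0f : forR (nat_lit 9) (nat_lit 511) n0hT (fun _ => true) (fun p => bor (bnot (n0aL0.inD p)) (band (Nat.beq (ap 8 255 n0fa p) 255) (refu 364 (nat_lit 9) (nat_lit 511) n0aT (prC (n0aL.map Lev.b) [((ap (nat_lit 9) (nat_lit 511) (k3Z.get 0)), (ap (nat_lit 9) (nat_lit 511) (k3Z.get 1)))]) n0aL0 [n0aL1, n0aL2, n0aL3, n0aL4, n0aL5, n0aL6, n0aL7, n0aL8, n0aL9] [] p))) n0fa n0fd 0 364 = true := by decide +kernel
theorem n0 : ¬ IsConj (zl.e 0) (zl.e 1) := (std.ch (lets_words std.lets n0aE n0aw) n0ac).nconj (zl.rep 0) (zl.rep 1) (lets_words lets n0hE n0hw) n0m n0f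
noncomputable def n2at0 : ℕ := (nat_lit 0xb057d6162b0daad167b5d96c963b355ead5963d62a555aa54eb55eaed72b750a7d3a9b4ca5d2a9348a3d1a8b449ccde74dba13868340a1cf676e39fcb9e13298caa592d744add5339b4d26ad092c9e4cd79248245218ec7e3ccb8e4421f0e43c4513188b46a2712484520b0983c0202968240a070b86a6e189d7f3f5fefb7d3f1f0f77c9ede87d3cb9dcd2974bc5df2f794c1daec75bb9bae06f37db0d96e4e1b4e29e395c93e91b55a8d669345a6cf9433598ce8db017ebea8b0590c66532588c3613156ab8b4add6cb15a2cd64ba5caf578bb57ab95aac55aa952a853a994aa451a892e954c282149f83286109c4d2653d154645d1d1946a21168a47a4d2891492110c8540a0d047e401fdeaf63e3ccf46d1d1b0de761f9d4f0773910ce27432138ce652f914c460309a0946b349a8b65d2e0b8ae592c0c8ac522a14c5246221788e4f2698ca06625924904c1d8f07c3d1b0dc7238371c08042209cc68331a954602f188b4b42b150b050510e86c1a1e1309024270a088401f1184c2c250a838221c0803c2e1a10864300c058281208038180a04018080200)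
noncomputable def n2at1 : ℕ := (nat_lit 0xb1d997765b257ec561b05a2cf6bb5552a752a8d56b95aaf576b157ab5658f50a7d3a9b4ca5d2a9348a3d1a8b449dcfe7b3c9bb6274db9cd0686dea14ae532a964d266ea764da6131974c9e0cf934964f236bc8641228f4763f1b65c4921144944d290e88c422d1a8cc62070182276189985a6e1b0782c1a130a7ebfdfcfa7e3edeef97c1f0faf53d3addd3576b99d2e873cb5df2f793c5b4d99c3727ce47138dcadfa0375c0e192351acd568b4da528683319ccd8e30d84c5adb117cc1602fd8cca64b2164b1582d166bc5d2e57ab75b2d5716957ab95aac55aa952a853a994aa451a89349e4e25600988125d2c9f50c2140894521d110f45a451e9346a322a8e8ba15088641205067f3f201e87b7b1e5e671381d0e46c1b1bcda3a3a8ecf07630178be6234920d06b25194c66433938b85b2e8b4b0572c9546453291505049261a89644239848c4526940cc4f370e06e39399048042219dc7a3c1f0fc66351a1585e31181685c2a160aca2291008c30220d8781e1d0e0904e14130401c0d088642e1f0d0842a13090584a0c058281208038180a04018080200)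
noncomputable def n2at2 : ℕ := (nat_lit 0x60afab8c0ad32195556330eb0c462ae56f695e59d61615b2d2c8b35d2ed634aa452546a257d429d4fa3d168caa1c8e06e731e1b87c361e904807721190926533988be4f269808869359a08c52168b8b45b2e9546456140a4a2572ca1e290f8922627198ac5d28928c241409f50c1931084bc292a9a4f40139027cbe1eefc7dbe9fefe7ea1504833f9a8905025114c24b2f130c64727198e8721d1c486753c1c0ec6d1f9b0de3b2e0b0562a1a8d066532a0c4602f2c5956b665c58ebf60b12f6d768595a9855ba954ebcc7aed5d9356aa2fea359a5ab94ca452d1152a7542b556aca6d32170d8640d37014ec11330983a5a0b1149c411f0e48a351c8c4422a2c8b8d1edec7c7a3d4fa79799e90284431f900df9c375c0e5a0391c4de6ccf9b8da95bca592a99b9a693674cc9db2e98bae46d79249636cb8e48244cf684a23af09839e5eea763be6af1744a5dd2d70cde75396dcf6773f6c38e8742a0cf1a6d268c859ccd6649a4ed66ab523d1f120981c27118802a22098743c1a0d8701a160786042100f84424140b8943209058281808028100e060100c0200)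
noncomputable def n2at3 : ℕ := (nat_lit 0x608aab92c2ecd994e71a8c2b13262c98916926c8cc3615b32c9c465d4a16272a4381473838390eb4fa3b64dee39ca986f40539b87cdb9d906874c5659892d233d81984f5e1823b686b1a1675278578b4f2ad155d8c75f8a65a57773d628f3893da27198ac5c4a123f8521b0c85832020b8202607078280a1203473e0448c7d88d1afe1045a34838c4916f272546d61212f2d5a047b2198e94aa237c874e712bcecdc9e1b28c3b2e4ac56be634d066e92a0c58731ab59498649034ebe6266af6d6698fb51852f2954c5c5678d5dd458948a2a2ed6f2b87137528e9523c9fd095642a69dd42a04fa5408980325c149c4d0013c0e498451e1048bfdf2fc0f06d0a1d411ed120d7a21c1e79878702e194306900715137692e539d40f14ba2cf8dada1616d812a99b9868c829b12b32e17baeced7354948ab48e2e244cf31aec882d98556b6c9193be6b5d74550b25170a9274391b4f47aa86c2a880ada08fec6656892d9d622fae4a06b6adaa3cb21209a22277d3f42af709a2d107e451e8f8163e860430e0fc41249040a51090a842660c0802a6c0e9d804080296)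
noncomputable def n2at4 : ℕ := (nat_lit 0x60b5a50731bb219ad71db0eb0d11d0b56e526e506776170164b8b39baecac4994d24c92e95cd69c46a3941e0aa678e2b4c065b487c36acc908077a9a8e94659898a664f97d30892ca59a29f695cb64b53a2eb8864b1142d5ba575a44a1f1443c4d13188b46a23108cc3828121289106264309d009a4f3dd38fd103e200237da5844fe8121504983f9a9574574aa1dae82f131deec272997e7262c8887573c3523b5b671b24cc6b25a856de1acfac053a1b6eca2f9f8c053665c361c633b12f6d740728b1846da910a4ec7ae9d63d1baa1d2403d35ab8cca478d1152ee22b9890ac9b1801c1008c0d37014ec1132f43dbe8f294052480890030080600028222a078bc1dec1684bd42b057984c42184b87d2adf9c1456cb2b4390aa2a170d178da57bc8d32a2fab6694d254c8c2a233bae475520c96ac3c8e544e23968570ed469839c9aea2398ea0a525d214f2d70ae8b73918cf56058b1d7ca942b3cf1a66e624847eca661bebcbe6a9c1931f83422170a7e3e4faff3d0743c1a0d8701a7c07a11030d3f4313ea00ba84320905a4c188a4423d169146a38028c)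
noncomputable def n2at5 : ℕ := (nat_lit 0x9338e76e796928d83619d8ac2adadaaebb4bafaca512c93b906e3434154da492b9b8d632ae31292b49fb4e52e2a1bc1991fa3a9194c9b48fca62b280f4766528c6e62cd97b7ecf5851ada8b59abdad4a671f18cf02ca03ca3ae0990703a0f0f034371489c49f4fd41bdd108b45080182305888129347c0923003f26e20844cc45029d87028081a03479c342779d454542713d8ec8b42996b56b5511e31c97379ba643b0a0786614948ee4da32dd8ca25c33a614165cf678e874b45614a61b08b04c350e8d2562596470cf694a9cb4859d695ec558abac0acaf0e4de352439a4b3e95b40301f109fdf0827f215f6984ba592a948224a02908181c0a088642d0d0d4022534fc87a71f2874f3fc220e0c8402f216ab6ddc2f2e914e27054d3aa365a6afd7b539236268dc910b4c2402f8c0e6442d90974c1a7af2a4ec9cb5a6737753ada8c05dd9aa0a72390ce45c2316882609d48e6cd99aaf954b9aad915154b1d30625e3a0b8c5209c3b5aeda090944c14844193f0a5045e331a8abd0f6a13c80006240109cfa7a8c1f22d0983bda0a8c473cd1af50a84c0216)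
noncomputable def n2at6 : ℕ := (nat_lit 0x23c9cbcb5682f093648ec84ccb327ba854c5144d860caabcb06a5660ccaa2a8a08e5c236a58f55b3a9e901487337b829e3a7228e8e7039520eb386cd6852ee2a549e4555f95e5b56749718e45b517da2b431b56c46535b3ac71c5d87a321b8b8762a9149a3df2fc093fd389e4d02d4009508313e974c0112a0a87059031009a1222153f241281f494c57cf019cd186ec15d7a565a630c54b3f7190a9b421c379523c3baae6eae6baca4450222e24b6767c7896b9355605c5d94b9eb85276b0aa65897bc4d1668d92998d25b982d124b0358ceb01fb6292786d2a9bb50369c5cb459f28a0f0982c30010d01c2c05038201a02f589bce28f6890382011429fc28821289116fa13221fa27453dcfa7c109e830ac6d8fa7241a24ed4d3ca19b94e378fb2c98bd58d86404d91918c2b6935a5912a17ba068c097552613316310a2d4af938c86966aeaca48b598a50d321b88e946579da94dc1dd029cdf36532aa59778c9cd592db245a5375d766b5b4020d0e860c868f6177a46a2c1c8c0884679103f9f0897dc3d188d07a381b0685402100803a580b024da64029d)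
noncomputable def n2at7 : ℕ := (nat_lit 0xabc18b52f04d1238e379849b0631d8b09d10924d8aed1b59ec3c8e64af25a6960b78674c45bedfe02601adc36623a46600a69844b0c83e43672151fd695b0b99b2d4741b41eaa28f712e652a64bc5c355b283f5f4018ca6033651d3963e1d933c00e2f53bd2235c4e1de74149a411504a18da9eb0a2308d7ae8a49464429a5485f2f80017a0b12b1838bf161b99026d61e200ab0016812346ab24ae8ae04b538e42b62b5d07616d3b0ecb39f986b0d02e33868aa99282a73c0c0e5b69e1ea0a9f47258220352482ea544919080e2876a2acfcb01326e6a7859330390989ca14a5d989b924ca1c310a50f570f9091e93b7c186010a8684bb965511a74a5950ce855a09110996cb089aea3aac41b3bab4b86cac87354fe8c223756a6c242883e70a3392a00b44894caeeb0189a49478bd948cf2dda48b3dac905d28a13a75fd231557502225fc21706fa1c0cb2730d8b8ac059ba6986ebafc6d8c9f779e46acda6ade0e0f8a109cf5e6e13df80329abccc868113126b636d5630a921c963ac70305a710c76d8a7c10183c8fa9534502cebe8a85c80e61452240f7)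
noncomputable def n2aT : Tr ℕ := (.node (nat_lit 4) (.node (nat_lit 2) (.node (nat_lit 1) (.leaf n2at0) (.leaf n2at1)) (.node (nat_lit 3) (.leaf n2at2) (.leaf n2at3)))
 (.node (nat_lit 6) (.node (nat_lit 5) (.leaf n2at4) (.leaf n2at5)) (.node (nat_lit 7) (.leaf n2at6) (.leaf n2at7))))
noncomputable def n2aL0 : Lev := ⟨(nat_lit 1), (nat_lit 8), (nat_lit 0x1040301060702080207020806080702010401020102060706060505050806060308080508080606050608060305030708030606030202030303030702060804080307040604010807010208070104080801080108010102020206060708080508010508070605010805080502010802010803030302040601040701010702040707060106020304040508050204030107060401010307020107050406010807080308010402020403030803080507060305030408030802030705040608060706030805070703040604060608060206060806070205050305030108070803040808080207010207010207010208030501030706060808070708050504050202040401010708070206020201020603080506070106030306070605080808040804010804010403030607080607020807080605070107010402030104020805060201080708080202040401050801020401070708060305070508030604070107080707080607060704050008),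 (nat_lit 0x5040604050404060503060404030405030505060405050304040305040504040405050506040404050505050605050505040404050504030404050404050405040403050504050404020201040505050505050605050506050504040505050504050605050505050505050404040304040305050405060605050404040404030404030405050506050305050404050405050506050303040504050404050405050505040205040404050505050304030505040304050505040402050306050404050505050505050505040606050506050505060504050506050506060405050505040505050504050504040403050405040403040405040506040405040405030504030305020403030404040505050405040505020304030405050405040504040405050405050504030504040505050405050405040304030504050504020303050404040405040405050505050405050503050405050404050505050406040506040505060605050005),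
 (.leaf 0),
 (.leaf 0)⟩
noncomputable def n2aL1 : Lev := ⟨(nat_lit 174), (nat_lit 7), (nat_lit 0x2030506010407040502070103060405050706030101070407040305050607050505070506060706030605070402060607070706040506040602070103020404060101070406070404050606070207020400000000000000000000000000000000000000000000000000000000000000000000000000000000010602070102060207070607030704050701040705050605070407060401040405060206030504030705010305020102010207040707010401060704050702070602060500050305040605060505060705000000000000000000000000000000000000000000000000000000000000000000000000000000000007010506030506070204030703060304020706040503040402070304060106040601040101020703010103070201070301070602070304020705010602030607040506040506020702010206050707070200000000000000000000000000000000000000000000000000000000000000000000000000000000), (nat_lit 0x40505040405050403050304060504050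60505040605050504050605050403060504040506040406060506060502060605060606050403040605050606050505040504040505040506060606050504060500000000000000000000000000000000000000000000000000000000000000000000000000000000040304050406060406050603030505060502050506050506050501050506050303030505050606050505050502050306060305060406050505050404060505050605060500030404060605040404030306000000000000000000000000000000000000000000000000000000000000000000000000000000000005060605060504050605030506040506050602050406040605060505050605040405050605050405050504050506060403050403040304060505060505020505040505040404060405050605050505040500000000000000000000000000000000000000000000000000000000000000000000000000000000),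
 (.leaf 0),
 (.leaf 0)⟩
noncomputable def n2aL2 : Lev := ⟨(nat_lit 169), (nat_lit 6), (nat_lit 0x6000000000000000100000200040100000000000506000202000004050400000004040506040400000600000303000000000000060001020001000000000000000606000205010000000000000000060400000000000000000000000000000000000000000000000000000000000000000000000000000000000205000600000000000000010003000006030000000000000306000000000602010000000000020000000004000600000300000000000006040004050005020000000000050405000005050505040000000000000000000000000000000000000000000000000000000000000000000000000000000000000000000001000002000006060000000000030001010000060000000000000001040503000000000000050000000000000502000306000601000000000006060000020000060501000000000502000000000000000000000000000000000000000000000000000000000000000000000000000000000000000000), (nat_lit 0x40000000000000005000005000405000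00000000404000505000003040400000004030505030200000400000406000000000000050004050005000000000000000403000403040000000000000000040400000000000000000000000000000000000000000000000000000000000000000000000000000000000403000300000000000000040003000005030000000000000205000000000405050000000000050000000005000500000500000000000005030005030005040000000000050605000004040505050000000000000000000000000000000000000000000000000000000000000000000000000000000000000000000002000002000001050000000000050004050000040000000000000003040405000000000000040000000000000404000403000504000000000003050000040000050606000000000203000000000000000000000000000000000000000000000000000000000000000000000000000000000000000000),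
 (.leaf 0),
 (.leaf 0)⟩
noncomputable def n2aL3 : Lev := ⟨(nat_lit 8), (nat_lit 5), (nat_lit 0x5000000000000000000000004020100000000000000000000000000000000000000000000000000000000000000000000000000000000000000000000000000000000000000000000000000000000000000000000000000000000000000000000000000000000000000000000000004000004000002000000000000010005000000000000000000000000000000000000000000000000000000000000000000000000000000000000000000000000000000000000000000000000000000000000000000000000000000000000000000000000000000000000000000000000000000010000020000000000000004000000000000000000000000000000040500000000000000000005), (nat_lit 0x4000000000000000000000003040400000000000000000000000000000000000000000000000000000000000000000000000000000000000000000000000000000000000000000000000000000000000000000000000000000000000000000000000000000000000000000000000004000004000002000000000000020001000000000000000000000000000000000000000000000000000000000000000000000000000000000000000000000000000000000000000000000000000000000000000000000000000000000000000000000000000000000000000000000000000000030000030000000000000002000000000000000000000000000000050300000000000000000003),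
 (.leaf 0),
 (.leaf 0)⟩
noncomputable def n2aL4 : Lev := ⟨(nat_lit 10), (nat_lit 4), (nat_lit 0x2000000000000000000000000000000000000000000000000000000000000000000000000000000000000000000000000000000000000000000000000000000000000000000000000000000000000000000000000000000000000000000000000000000000000000000000000000004000001000000000000000000000000000000000000000000000000000000000000000000000000000000000000000000000000000000000000000000000000000000000000000000000000000000000000000000000000000000000000000000000000000000000000000000000000000000000000000000000000000000000000000000000000000000000000040000000000000000000004), (nat_lit 0x2000000000000000000000000000000000000000000000000000000000000000000000000000000000000000000000000000000000000000000000000000000000000000000000000000000000000000000000000000000000000000000000000000000000000000000000000000001000002000000000000000000000000000000000000000000000000000000000000000000000000000000000000000000000000000000000000000000000000000000000000000000000000000000000000000000000000000000000000000000000000000000000000000000000000000000000000000000000000000000000000000000000000000000000000030000000000000000000003),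
 (.leaf 0),
 (.leaf 0)⟩
noncomputable def n2aL5 : Lev := ⟨(nat_lit 11), (nat_lit 3), (nat_lit 0x0), (nat_lit 0x0),
 (.leaf 0),
 (.leaf 0)⟩
noncomputable def n2aL6 : Lev := ⟨(nat_lit 2), (nat_lit 3), (nat_lit 0x3000000), (nat_lit 0x1000000),
 (.leaf 0),
 (.leaf 0)⟩
noncomputable def n2aL7 : Lev := ⟨(nat_lit 331), (nat_lit 2), (nat_lit 0x0), (nat_lit 0x0),
 (.leaf 0),
 (.leaf 0)⟩
noncomputable def n2aL8 : Lev := ⟨(nat_lit 168), (nat_lit 2), (nat_lit 0x0), (nat_lit 0x0),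
 (.leaf 0),
 (.leaf 0)⟩
noncomputable def n2aL9 : Lev := ⟨(nat_lit 13), (nat_lit 2), (nat_lit 0x100000000000000000000000002000000000000000000000000000000000000000000000000), (nat_lit 0x100000000000000000000000001000000000000000000000000000000000000000000000000),
 (.leaf 0),
 (.leaf 0)⟩
noncomputable def n2aL : List Lev := [n2aL0, n2aL1, n2aL2, n2aL3, n2aL4, n2aL5, n2aL6, n2aL7, n2aL8, n2aL9]
noncomputable def n2aE : Tr (List ℕ) := (.node (nat_lit 4) (.node (nat_lit 2) (.node (nat_lit 1) (.leaf [nat_lit 6, nat_lit 4, nat_lit 2, nat_lit 6, nat_lit 4, nat_lit 3, nat_lit 1]) (.leaf [nat_lit 6, nat_lit 3, nat_lit 4, nat_lit 6, nat_lit 2, nat_lit 4, nat_lit 0])) (.node (nat_lit 3) (.leaf [nat_lit 7, nat_lit 0, nat_lit 7, nat_lit 5, nat_lit 3, nat_lit 6, nat_lit 5, nat_lit 3, nat_lit 3, nat_lit 3]) (.leaf [nat_lit 2, nat_lit 8, nat_lit 3, nat_lit 1, nat_lit 9, nat_lit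 7, nat_lit 1, nat_lit 7, nat_lit 8, nat_lit 6, nat_lit 3, nat_lit 4, nat_lit 7, nat_lit 6, nat_lit 3, nat_lit 3, nat_lit 6, nat_lit 5, nat_lit 4, nat_lit 3, nat_lit 3, nat_lit 3])))
 (.node (nat_lit 6) (.node (nat_lit 5) (.leaf [nat_lit 4, nat_lit 6, nat_lit 8, nat_lit 1, nat_lit 9, nat_lit 2, nat_lit 7, nat_lit 5, nat_lit 8, nat_lit 5, nat_lit 1, nat_lit 7, nat_lit 5, nat_lit 3, nat_lit 6, nat_lit 5, nat_lit 2, nat_lit 4, nat_lit 2, nat_lit 1]) (.leaf [nat_lit 4, nat_lit 6, nat_lit 8, nat_lit 3, nat_lit 9, nat_lit 2, nat_lit 8, nat_lit 6, nat_lit 7, nat_lit 2, nat_lit 2, nat_lit 6, nat_lit 5, nat_lit 2, nat_lit 1])) (.node (nat_lit 7) (.leaf [nat_lit 9, nat_lit 7, nat_lit 2, nat_lit 9, nat_lit 7, nat_lit 0, nat_lit 8, nat_lit 4, nat_lit 7, nat_lit 6, nat_lit 2, nat_lit 2, nat_lit 6, nat_lit 5, nat_lit 4, nat_lit 3, nat_lit 3, nat_lit 3, nat_lit 0]) (.leaf [nat_lit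 0, nat_lit 9, nat_lit 6, nat_lit 3, nat_lit 1, nat_lit 9, nat_lit 7, nat_lit 6, nat_lit 8, nat_lit 4, nat_lit 1, nat_lit 7, nat_lit 6, nat_lit 2, nat_lit 4, nat_lit 1]))))
theorem n2aw_0 : n2aT.all2 (fun c w => isProd 364 (nat_lit 9) (nat_lit 511) O73.T c w) n2aE = true := by decide +kernel
theorem n2aw : n2aT.all2 (fun c w => isProd 364 (nat_lit 9) (nat_lit 511) O73.T c w) n2aE = true := n2aw_0
theorem n2ac : band (tchainChk 364 (nat_lit 9) (nat_lit 511) n2aT n2aL) (Nat.ble (chainOrd 364 O73.L) (chainOrd 364 n2aL)) = true := by decide +kernel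
noncomputable def n2ht0 : ℕ := (nat_lit 0x44cfad6b788c65b7665da4a86deb0cc92cf0aed79372d86b1e1555762fe127c7b1ee9f4e8f2be96ae684a19efeafc4a82b1b42221ce29dd8e2cd99bd49d70599d6a02ef61cb9355685ca98c807cbe1eed66a48a4320a552690ad55b72c8bd8ba3a70e059a4dcab887a2dd2ca4f551dd0860cd542f262c0931306934da2a5532910a8642535eaf49230a5e9580545d49f832faaee694a66cee35aa1dbab0a023d20ba463622ab96abccf479a228d447f3f471971b56272b2c89639d2ec478c1140c09b3b51abc9d469b48a9fad9c96248ac9bf148fc759ccd6654152a853a0d04817fbf66907a9cad3b0c64d61d13181d6eb894a12d226e1b04e631659ec42d36a9e49a4f257dbf1f546a3d14faaaa635e463f0e8709443130948a721d088424e350f41e77330e0306e32984821439980060200970100b05160ae0c03818a65037864464c3c0403c69239d02a2723108c416258f8d6113b13c72670d1b46a3419964623017974b62c158a8a8520997ce0400b9906c370f838d03b1e080d86326890e25e220483675241241a292b1541232288a00a04171685a00)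
noncomputable def n2ht1 : ℕ := (nat_lit 0xb4a21133f72d9119199d2d2be8fa1d6ab6954b4c9929a74cb2a90a4fcd9dcaaa6d31ec7ba4c7e3d1d3fa00fcd3b0a4e82df5bda916879daed1d159bafe0ca199d79310078cbab0c74f4a9cf4642a1908f33cc8a432057d2d5cce662eacc8d8bce5b2b048d0ace8a87cf6ae9c95d56a308503ae68c24bc0a62ef51d11448241a064f2692d3deaf46b411875c984257d539abb61a99633a222b5724f1211458d81c31ab2ae670da3d491af237f3fdfb47a2ab558ab66c3136c8ab4a606c497bca0ec0a93aa30bcb1b71b110b42d9c69289aca80e0a552238cb8d9f152a853bedf8fa693460ac17642d3acaaccb5cd0162d75e0948958966dd6f4597adb872e2d73e713e1f2f75329549286833cfb50a7355a84b340ec20462f9c02a25279906c191e9ac901d1c19cc6220c104c45e130505c5a1680864562a82c1429288a00e501d1b02e4c1f9d41c0f2390ce2133a108c2243c0f8d41b0e1bc7266100846a341982062301780c022c158a81806221cce416269b8da1a0f924ee76088dc9c65119008a6013848784a348781a542c15c1259299480a042e970b600)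
noncomputable def n2ht2 : ℕ := (nat_lit 0x9d2faa24622d99d6ea3946a329f134b658b1580e2b2dd331961a9047864311f8f47546a2a5964b057401fcfc0ba1b189e4eb1585cd2936c513499114d974b920d55b2d830982150946054292856ab156cb8d950a6527fbf9fa07034fe7cc36112c956b779da22958007664b51ed7abae3711a8d3044421c200fa853e9cd66ab50ba5c2dbd8f479014dd80bf23d8ddaec3a1ce2d155009e54b21d0e6af566fb78cf0b4924434218e0b0562aa552690d067a0d04810650680c863942bee7379ba249c4d88e66bc5d90c85526db68c50682a342c2557ab86a3419d119ccd663e5f0f70402a76c4265a2cef1781e0ef0e4ba583d2f972dd6c3f1f569c86b80a2912110e48a432054aa14e31180bde67c3d80c03399c3048965b23b8e2708c45d422495ad16637ac385c06431c3128930b87d4ca5520a5a6d268958aa8642a101342653249b6074ba0d83689a793a209acd17a40aa54db85f2f4220e8e0984a4f26928ca8f46a294450fc7dbe80a049eb16b649b53ca60751dc4131020dcc571691e571cb3c34122068b878381b24555305d4d6bc8cb42d7a9f5e800)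
noncomputable def n2ht3 : ℕ := (nat_lit 0x8a08c309e4ed98e873774fe7c4c62c2a121612a3ab26770b82643f1f2e2d2ff7f3f4100aa5b4da4d1188c05eaaa194194c98d4644e1450dacf077794d886425ec3434214a24ebd5d35b9679281a8d0660c032190a84a853e9cd791d8ac26f373a5d13a23b06221e07a62aa626e4b6583a1cad1670408871170f8fc7a3a2c158a94ca5523d806013e889389b899c9daecb2d90964a624f42a8d8441ccc656fb7ab03d5bada633003bf1f6fa2c960aed067aa550a79213c9cc863d084ca08c45cecf1785a882bc5dcd6681949246186a34b92b95b57aba4f269282d068240974b85ba6d30dae7b01188ac05fce6701d4ba5a20613036db554a98e1652b08229130381150a652673359947a3514047c3dbd5e89a4cc4840eb7558ce27061b0a76494641a0a136ed5eac6431ad65f2e1e0edf2f87b8169549a4158ab2290c805cc6a0d009a9f8b454481277da2ce755d2e666404823e16170fb8dc55a341215aac558c9007f3f02408d66ab50b42d7357d606c5f4ddb0442f2561c870db66a5512fac655291b8d91101800381acba2288a2a38e46c52283d3ccf200)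
noncomputable def n2ht4 : ℕ := (nat_lit 0xb45a9716b5b3c5e531779e07a753b2363317474544a120a8520d078442a12542914ca2298db359ccca2d1a8ea30f06c3a1187222208b88a5d31034abaa6935762eec8bd5cae88443381cc832892c9a4e322b0cc683555ab15aafa5b12bac5ae30eb44c2492e773d72cfc8a5e30d4aa353aa5557edb9c371b0d97f3fdfafa7dbf1f2f77c0300a0905596ccbcb1bb9d73376cd8e240391d21e87452241c0d0784039028225a01012a960b2576934da2cf6852695485709026260b09e311a8b231429f82a8260f0994ba5f695ad9d6e3c1d9dc7e3e8e32e3b1e8f8a0582a15a954ca4a228982be60110be463111cc1399d36a6e68241a4d46b2556ebcc29e38dc53e722150c8440a0906803f1fc08070302c11625957ec0e69539dd32b368e4de6c4824524940c068421f0ba6e16994ec30b65c2e8b9aad66a48daf50a753e9a221186441148923e26934d2721a9e964b652e858ac2c2b4598e0dc3a1b0de4121914906031179685aa953aa298aa63322b2ca27940ca4d3250e82dda11989c6731b1eaf5664d6280de6fb85c0f63d3cde8793e1edea7d018040400)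
noncomputable def n2hT : Tr ℕ := (.node (nat_lit 2) (.node (nat_lit 1) (.leaf n2ht0) (.leaf n2ht1)) (.node (nat_lit 3) (.leaf n2ht2) (.node (nat_lit 4) (.leaf n2ht3) (.leaf n2ht4))))
noncomputable def n2hL0 : Lev := ⟨(nat_lit 13), (nat_lit 5), (nat_lit 0x4040105050104020204030404010204030405040304040104040300000000000000000000000000010203040104020403030205050104020505010405030201050503000000000000000000000000000003050505010501030105010305030501030405030101050203050100000000000000000000000000050304050302010304030405050205040504050202030104050503000000000000000000000000000501050202010305050505030305050103020502030505050303020000000000000000000000000000040403030505020405050501010504030402030502040502020401000000000000000000000000000003040205010201050205050103030502030502030501050101030200000000000000000000000000040503020504050403040405050504050105050404030504030502000000000000000000000000000005030402010105030403040501050302050505050504030501050000000000000000000000000000),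 (nat_lit 0x3060404070606060406060406060405030504050602060704060400000000000000000000000000070607060506060405030506070705060605060406050603050704000000000000000000000000000006050606050602060606060606060506070405060606070506050500000000000000000000000000070606050507050607060605060706060506010605050606050604000000000000000000000000000605070305050606070605060605070405050505060606060705020000000000000000000000000000050604050606050605060404060705060606040406060506040605000000000000000000000000000006060605050604070405070406060706060405020603060604050400000000000000000000000000060606050306050605060507060406050506030705050606050504000000000000000000000000000006060305050703060507070606060603040407030605060606070000000000000000000000000000),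
 (.leaf 0),
 (.leaf 0)⟩
noncomputable def n2hL1 : Lev := ⟨(nat_lit 4), (nat_lit 4), (nat_lit 0x20004000003000000000300000000000000000000000000000000000000000000000000000000000000000100000300000400000000000000000000000000000000000000000000000000000000000000020000000000000001000000000000000000000000000000000000000000000000000000000000000002000000030000040000000000000000000000000000000000000000000000000000000000000004000002000000000000000300000000000000000000000000000000000000000000000000000000000200000000000000000200000000000000000000000000000000000000000000000000000000000004000000000004000004000300000000000000000000000000000000000000000000000000000000000000000001000000000100), (nat_lit 0x40003000003000000000300000000000000000000000000000000000000000000000000000000000000000400000300000300000000000000000000000000000000000000000000000000000000000000040000000000000004000000000000000000000000000000000000000000000000000000000000000004000000050000030000000000000000000000000000000000000000000000000000000000000003000004000000000000000300000000000000000000000000000000000000000000000000000000000200000000000000000200000000000000000000000000000000000000000000000000000000000005000000000001000005000100000000000000000000000000000000000000000000000000000000000000000002000000000200),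
 (.leaf 0),
 (.leaf 0)⟩
noncomputable def n2hL2 : Lev := ⟨(nat_lit 1), (nat_lit 2), (nat_lit 0x100000000000000000000000000000000000000000000000000000000000000000000000000000000000000000002000000000000000000000000000000000000000000000000000000000000000000000000000000000000000000), (nat_lit 0x100000000000000000000000000000000000000000000000000000000000000000000000000000000000000000001000000000000000000000000000000000000000000000000000000000000000000000000000000000000000000),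
 (.leaf 0),
 (.leaf 0)⟩
noncomputable def n2hL : List Lev := [n2hL0, n2hL1, n2hL2]
noncomputable def n2hE : Tr (List ℕ) := (.node (nat_lit 2) (.node (nat_lit 1) (.leaf [nat_lit 3, nat_lit 7, nat_lit 5, nat_lit 8, nat_lit 5, nat_lit 7, nat_lit 5, nat_lit 0, nat_lit 7, nat_lit 3, nat_lit 3, nat_lit 3, nat_lit 6, nat_lit 3, nat_lit 3, nat_lit 1]) (.leaf [nat_lit 1, nat_lit 7, nat_lit 5, nat_lit 8, nat_lit 5, nat_lit 7, nat_lit 5, nat_lit 0, nat_lit 7, nat_lit 3, nat_lit 3, nat_lit 3, nat_lit 6, nat_lit 4, nat_lit 2, nat_lit 2, nat_lit 1])) (.node (nat_lit 3) (.leaf [nat_lit 8, nat_lit 2, nat_lit 6, nat_lit 3, nat_lit 8, nat_lit 6, nat_lit 3, nat_lit 4, nat_lit 7, nat_lit 4, nat_lit 2, nat_lit 6, nat_lit 2, nat_lit 1]) (.node (nat_lit 4) (.leaf [nat_lit 8, nat_lit 5, nat_lit 7, nat_lit 8, nat_lit 7, nat_lit 3, nat_lit 4, nat_lit 7, nat_lit 6, nat_lit 3, nat_lit 3,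 nat_lit 6, nat_lit 5, nat_lit 0]) (.leaf [nat_lit 8, nat_lit 6, nat_lit 3, nat_lit 1, nat_lit 8, nat_lit 5, nat_lit 3, nat_lit 3, nat_lit 3, nat_lit 1]))))
theorem n2hw_0 : n2hT.all2 (fun c w => isProd 364 (nat_lit 9) (nat_lit 511) O73.T c w) n2hE = true := by decide +kernel
theorem n2hw : n2hT.all2 (fun c w => isProd 364 (nat_lit 9) (nat_lit 511) O73.T c w) n2hE = true := n2hw_0
theorem n2m : n2hT.all (fun c => eqB (n2aL.map Lev.b) (fun a => ap (nat_lit 9) (nat_lit 511) c (ap (nat_lit 9) (nat_lit 511) (k3Z.get 3) a)) fun a => ap (nat_lit 9) (nat_lit 511) (k3Z.get 3) (ap (nat_lit 9) (nat_lit 511) c a)) = true := by decide +kernel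
noncomputable def n2fa : ℕ := (nat_lit 0x1030404020104020103000201030301040201000302000104030303030402040103030402000404040202020402040402030402040004000302000402020202010403ff02020200040202020200040104020301040403020402040103010302040401020404040003020301000403020104010001000202010203000300000102040100010302000404040100040204030203040104040004ff0200040404010301030404040204020304020101000400000300040301010203030000040004040002020200010101020104000204000301010204010303000200030303020100ff0002040304000300040103040201040404000404010403020400000204010403030104000001010301040004010000020202040004040104040401000004010000000203040001040001020204000103030402000303030103020302020303030004020304030403040303020303010402020402040201040402040104010104030304020303030303ff)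
noncomputable def n2fd : ℕ := (nat_lit 0x3050204070605050505040504040503050405050505040403020302030502050202010502010302030504040405020405040505030306050505050505060405060605000404040303040505020204030305050404050504040606010703050305030402050504050604040601020503040405050503040403040503050405040504060405030702010404050505050504060605040203040100060304020304040404060504050604050605030504040506060103060205050304050305030303030304050404050105050604050704040504040506020506040505040403050300030603040505030404010203040305030306040505040505070603050403060605050404040504030405060405050505020105020503040403050303050506050306050506040505040505040506050205030505040404030202040405030405040403050604040405050502040406050203050406050406050406030604020404020404050504040400)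
theorem n2f : forR (nat_lit 9) (nat_lit 511) n2hT (fun _ => true) (fun p => bor (bnot (n2aL0.inD p)) (band (Nat.beq (ap 8 255 n2fa p) 255) (refu 364 (nat_lit 9) (nat_lit 511) n2aT (prC (n2aL.map Lev.b) [((ap (nat_lit 9) (nat_lit 511) (k3Z.get 2)), (ap (nat_lit 9) (nat_lit 511) (k3Z.get 3)))]) n2aL0 [n2aL1, n2aL2, n2aL3, n2aL4, n2aL5, n2aL6, n2aL7, n2aL8, n2aL9] [] p))) n2fa n2fd 0 364 = true := by decide +kernel
theorem n2 : ¬ IsConj (zl.e 2) (zl.e 3) := (std.ch (lets_words std.lets n2aE n2aw) n2ac).nconj (zl.rep 2) (zl.rep 3) (lets_words lets n2hE n2hw) n2m n2f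
noncomputable def rW : Tr (List ℕ) := (.node (nat_lit 3) (.node (nat_lit 1) (.leaf [nat_lit 4, nat_lit 0, nat_lit 7, nat_lit 8, nat_lit 5, nat_lit 7, nat_lit 5, nat_lit 7, nat_lit 6, nat_lit 2, nat_lit 4, nat_lit 6, nat_lit 3, nat_lit 0]) (.node (nat_lit 2) (.leaf [nat_lit 0, nat_lit 7, nat_lit 0, nat_lit 9, nat_lit 1, nat_lit 9, nat_lit 5, nat_lit 8, nat_lit 5, nat_lit 8, nat_lit 3, nat_lit 4, nat_lit 7, nat_lit 3, nat_lit 4, nat_lit 6, nat_lit 4]) (.leaf [nat_lit 1, nat_lit 9, nat_lit 5, nat_lit 9, nat_lit 7, nat_lit 2, nat_lit 5, nat_lit 8, nat_lit 6, nat_lit 5, nat_lit 7, nat_lit 3, nat_lit 3, nat_lit 6, nat_lit 5, nat_lit 3, nat_lit 4, nat_lit 3, nat_lit 3, nat_lit 1])))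
 (.node (nat_lit 5) (.node (nat_lit 4) (.leaf [nat_lit 8, nat_lit 6, nat_lit 1, nat_lit 8, nat_lit 6, nat_lit 5, nat_lit 3, nat_lit 6, nat_lit 5, nat_lit 4, nat_lit 3, nat_lit 3, nat_lit 0]) (.leaf [nat_lit 6, nat_lit 8, nat_lit 0, nat_lit 8, nat_lit 6, nat_lit 5, nat_lit 1, nat_lit 7, nat_lit 5, nat_lit 6, nat_lit 2, nat_lit 2, nat_lit 1])) (.node (nat_lit 6) (.leaf [nat_lit 7, nat_lit 8, nat_lit 7, nat_lit 0, nat_lit 8, nat_lit 5, nat_lit 1, nat_lit 7, nat_lit 6, nat_lit 5, nat_lit 3, nat_lit 6, nat_lit 4]) (.leaf [nat_lit 4, nat_lit 6, nat_lit 8, nat_lit 3, nat_lit 9, nat_lit 8, nat_lit 2, nat_lit 1, nat_lit 8, nat_lit 4, nat_lit 7, nat_lit 6, nat_lit 3, nat_lit 3, nat_lit 6, nat_lit 4, nat_lit 3, nat_lit 3, nat_lit 0]))))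
theorem cls : ∃ z : Fin 7 → P, Cls 3 z ∧ ∀ i, IsConj (z i) (z i ^ 2) := by
  refine ⟨fun i => zl.e i, ⟨fun i => (ordF_spec ch.inj ch.base (zl.rep i) (fuel := 4) (by revert i; decide +kernel)).trans (by revert i; decide +kernel),
    fun i j c => ?_, fun x hx => ?_⟩, fun i => isConj_iff.2 ⟨ev lets.e (rW.get i), mul_inv_eq_iff_eq_mul.2 ((eqB_iff ch.base ch.inj
      ((apL_rep lets.rep _).comp (zl.rep i)) ((itF_rep (zl.rep i) 2).comp (apL_rep lets.rep _))).1 (by revert i; decide +kernel))⟩⟩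
  · have := fixN_conj (zl.rep i) (zl.rep j) c
    rcases (show ∀ i j : Fin 7, fixN 364 (ap (nat_lit 9) (nat_lit 511) (k3Z.get i)) = fixN 364 (ap (nat_lit 9) (nat_lit 511) (k3Z.get j)) → i = j ∨ (i = 0 ∧ j = 1) ∨ (i = 1 ∧ j = 0) ∨
      (i = 2 ∧ j = 3) ∨ (i = 3 ∧ j = 2) by decide +kernel) i j this with h | ⟨rfl, rfl⟩ | ⟨rfl, rfl⟩ | ⟨rfl, rfl⟩ | ⟨rfl, rfl⟩
    exacts [h, (n0 c).elim, (n0 c.symm).elim, (n2 c).elim, (n2 c.symm).elim]
  · obtain ⟨N, C, -⟩ := (ch.gen (lets_words ch.lets y3E y3w) y3chain y3sd y3tc)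
    obtain ⟨j, h⟩ := ch.conjK C (by norm_num) (by decide +kernel) zl k3 hx
    obtain ⟨i, hi, e⟩ := selChk_spec (T := k3Z) (T' := k3Z) (N := 7) (by decide +kernel) j
    exact ⟨⟨i, hi⟩, by rwa [(eqB_iff ch.base ch.inj (zl.rep j) (zl.rep i)).1 (by rw [e]; exact (eqB_iff ch.base ch.inj (zl.rep i) (zl.rep i)).2 rfl)] at h⟩

end H8.O73
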