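import Cfsg.Agent.H8.XT3

/-! H8.YT3: the 2-elements of 3D4(2) (generated certificate) -/

set_option autoImplicit false
set_option maxRecDepth 200000

set_option linter.all false
open Subgroup 

namespace H8.T3

noncomputable def at0 : ℕ := (nat_lit 0x322c8720c7f1ec771cc6f1ac6718c5f16c5714c4f32cc730cbf2ecb72ccaf2aca728c9f26c9724c8f02c0700bfefebf6fcbeefabe6f8bdef6bd6f4bcf12c4710c3f0ec370cc2f0ac2708c1f06c1704c0ee2b86e0b7edeb76dcb6edab66d8b5ed6b56d4b4ef2bc6f0bbeeebb6ecbaeeaba6e8b9ee6b96e4b8ec2b06c0afebeaf6bcaeebaae6b8adeb6ad6b4aced2b46d0b3eceb36ccb2ecab26c8b1ec6b16c4b0ea2a86a0a7e9ea769ca6e9aa6698a5e96a5694a4eb2ac6b0abeaeab6acaaeaaaa6a8a9ea6a96a4a8e82a06809fe7e9f67c9ee7a9e6789de769d6749ce92a4690a3e8ea368ca2e8aa2688a1e86a1684a0e629866097e5e9765c96e5a9665895e569565494e729c6709be6e9b66c9ae6a9a66899e669966498e42906408fe3e8f63c8ee3a8e6388de368d6348ce529465093e4e9364c92e4a9264891e469164490e22886208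7e1e8761c86e1a8661885e168561484e328c6308be2e8b62c8ae2a8a62889e268962488e02806007fdfe7f5fc7edfa7e5f87ddf67d5f47ce128461083e0e8360c82e0a8260881e068160480de2785e077dde775dc76dda765d875dd6755d474df27c5f07bdee7b5ec7adea7a5e879de6795e478dc2705c06fdbe6f5bc6edba6e5b86ddb66d5b46cdd2745d073dce735cc72dca725c871dc6715c470da2685a067d9e6759c66d9a6659865d966559464db26c5b06bdae6b5ac6adaa6a5a869da6695a468d816097f6017d5f97b5f1795e9775e1755d9735d1916498f6418d6398b63189629876218561983611625856057d5e5755c56d5a5655855d565555454d725c5705bd6e5b56c5ad6a5a56859d665956458d42505404fd3e4f53c4ed3a4e5384dd364d5344cd525455053d4e5354c52d4a5254851d465154450d224852047d1e4751c46d1a4651845d164551444d324c5304bd2e4b52c4ad2a4a52849d264952448d02405003fcfe3f4fc3ecfa3e4f83dcf63d4f43cd124451043d0e4350c42d0a4250841d064150440ce2384e037cde374dc36cda364d835cd6354d434cf23c4f03bcee3b4ec3acea3a4e839ce6394e438cc2304c02fcbe2f4bc2ecba2e4b82dc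b62d4b42ccd2344d033cce334cc32cca324c831cc6314c430ca2284a027c9e2749c26c9a2649825c962549424cb22c4b02bcae2b4ac2acaa2a4a829ca6294a428c801fc822047c1ec7e1f4781dc7a1e4741cc761d49023c922448c22c8e2348821c8a2248420c86214621846017c5e1745c16c5a1645815c561545414c721c4701bc6e1b46c1ac6a1a46819c661946418c42104400fc3e0f43c0ec3a0e4380dc360d4340cc521445013c4e1344c12c4a1244811c461144410c310c82f0c02d0b82b0b0290a8270a02509823090220842007c1e0741c06c1a0641805c160541404c110480f0400d0380b0300a0240801c060140400c0200400)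
noncomputable def at1 : ℕ := (nat_lit 0x314c4f16c5718c5f1ac671cc6f1ec7720c7f22c8724c8f26c9728c9f2aca72ccaf2ecb730cbf32cc6f4bcef6bd6f8bdefabe6fcbeefebf700bff02c0704c0f06c1708c1f0ac270cc2f0ec3710c3f12c46d4b4ed6b56d8b5edab66dcb6edeb76e0b7ee2b86e4b8ee6b96e8b9eeaba6ecbaeeebb6f0bbef2bc6b4aceb6ad6b8adebaae6bcaeebeaf6c0afec2b06c4b0ec6b16c8b1ecab26ccb2eceb36d0b3ed2b4694a4e96a5698a5e9aa669ca6e9ea76a0a7ea2a86a4a8ea6a96a8a9eaaaa6acaaeaeab6b0abeb2ac6749ce769d6789de7a9e67c9ee7e9f6809fe82a0684a0e86a1688a1e8aa268ca2e8ea3690a3e92a465494e569565895e5a9665c96e5e9766097e629866498e669966899e6a9a66c9ae6e9b6709be729c6348ce368d6388de3a8e63c8ee3e8f6408fe429064490e469164891e4a9264c92e4e9365093e52946138521585a178621986a1b8721d87a1f8822188a238922589a278a2298aa2b8b22d8ba2f8c2318c9f37d1f57d9f77e1f97e9fb7f1fd7f9ff8020180a038120581a078220982a0b8320d83a0f84211849d474dd6755d875dda765dc76dde775e077de2785e478de6795e879dea7a5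ec7adee7b5f07bdf27c5b46cdb66d5b86ddba6e5bc6edbe6f5c06fdc2705c470dc6715c871dca725cc72dce735d073dd2745936519565997661996699b6719d6799f681a1689a3691a5699a76a1a96a9ab6b1ad6b9af6c1b16c9745cd765d5785dd7a5e57c5ed7e5f5805fd826058460d866158861d8a6258c62d8e6359063d926455454d565555855d5a5655c56d5e5756057d625856458d665956859d6a5a56c5ad6e5b5705bd725c5344cd364d5384dd3a4e53c4ed3e4f5404fd425054450d465154851d4a5254c52d4e5355053d52545164551444d1a4651845d1e4751c46d224852047d264952448d2a4a52849d2e4b52c4ad324c5304bcf63d4f43ccfa3e4f83dcfe3f4fc3ed02405003fd064150440d0a4250841d0e4350c42d124451043cd434cd6354d835cda364dc36cde374e037ce2384e438ce6394e839cea3a4ec3acee3b4f03bcf23c4b42ccb62d4b82dcba2e4bc2ecbe2f4c02fcc2304c430cc6314c831cca324cc32cce334d033cd2344962549424c9a2649825c9e2749c26ca2284a027ca6294a428caa2a4a829cae2b4ac2acb22c4b02bc741cc761d4781dc7a1e47c1ec7e1f4801fc822048420c862148821c8a2248c22c8e2349023c922445414c561545815c5a1645c16c5e1746017c621846418c661946819c6a1a46c1ac6e1b4701bc721c4350d8330d0390e8370e03d0f83b0f0411083f100451184311049128471204d1384b130511484f140310c8300bc2e0b42b0b02a0a4270a0250982408c210882007c1e0741b0701a06417060150581404c110481003c0e0340b030090280801c06014030100200400)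
noncomputable def at2 : ℕ := (nat_lit 0x328c9f2aca724c8f26c9730cbf32cc72ccaf2ecb718c5f1ac6714c4f16c5720c7f22c871cc6f1ec7708c1f0ac2704c0f06c1710c3f12c470cc2f0ec36f8bdefabe6f4bcef6bd700bff02c06fcbeefebf6e8b9eeaba6e4b8ee6b96f0bbef2bc6ecbaeeebb6d8b5edab66d4b4ed6b56e0b7ee2b86dcb6edeb76c8b1ecab26c4b0ec6b16d0b3ed2b46ccb2eceb36b8adebaae6b4aceb6ad6c0afec2b06bcaeebeaf6a8a9eaaaa6a4a8ea6a96b0abeb2ac6acaaeaeab698a5e9aa6694a4e96a56a0a7ea2a869ca6e9ea7688a1e8aa2684a0e86a1690a3e92a468ca2e8ea36789de7a9e6749ce769d6809fe82a067c9ee7e9f66899e6a9a66498e66996709be729c66c9ae6e9b65895e5a9665494e569566097e629865c96e5e9764891e4a9264490e469165093e529464c92e4e936388de3a8e6348ce368d6408fe429063c8ee3e8f62889e2a8a62488e26896308be328c62c8ae2e8b61885e1a8661484e168562087e228861c86e1e876078220982a038120581a0f8421184a0b8320d839f77e1f97e9f37d1f57d9ff80201809fb7f1fd7f9e879dea7a5e478de6795f07bdf27c5ec7adee7b5d875dda765d474dd6755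e077de2785dc76dde775c7721c9729c3711c5719cf741d1749cb731cd739b76e1b96e9b36d1b56d9bf701c1709bb6f1bd6f9a869daa6a5a468da6695b06bdb26c5ac6adae6b59865d9a6659464d96655a067da26859c66d9e675876218962983611856198f641916498b6318d639775e1795e9735d1755d97f601816097b5f17d5f96859d6a5a56458d66595705bd725c56c5ad6e5b55855d5a5655454d565556057d625855c56d5e5754851d4a5254450d465155053d525454c52d4e535384dd3a4e5344cd364d5404fd425053c4ed3e4f52849d2a4a52448d26495304bd324c52c4ad2e4b51845d1a4651444d164552047d224851c46d1e4750a4250841d064150440d124451043d0e4350c42cfa3e4f83dcf63d4f43cd02405003fcfe3f4fc3ece839cea3a4e438ce6394f03bcf23c4ec3acee3b4d835cda364d434cd6354e037ce2384dc36cde374ca324c831cc6314c430cd2344d033cce334cc32cba2e4b82dcb62d4b42ccc2304c02fcbe2f4bc2eca829caa2a4a428ca6294b02bcb22c4ac2acae2b49825c9a2649424c96254a027ca22849c26c9e2748a2248821c862148420c922449023c8e2348c22c7a1e4781dc761d4741cc82204801fc7e1f47c1ec6819c6a1a46418c66194701bc721c46c1ac6e1b45815c5a1645414c561546017c621845c16c5e17449128471204511843110511484f1404d1384b130390e8370e0350d8330d0411083f1003d0f83b0f0310c8300bc2d0b82c0ac2a0a4270a02609423090220841f0801e0741b070190681805c150581404c110480f0400e0340c02c0a0240801c05018030100200400)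
noncomputable def at3 : ℕ := (nat_lit 0x31cc6f1ec7720c7f22c8714c4f16c5718c5f1ac672ccaf2ecb730cbf32cc724c8f26c9728c9f2aca6fcbeefebf700bff02c06f4bcef6bd6f8bdefabe70cc2f0ec3710c3f12c4704c0f06c1708c1f0ac26dcb6edeb76e0b7ee2b86d4b4ed6b56d8b5edab66ecbaeeebb6f0bbef2bc6e4b8ee6b96e8b9eeaba6bcaeebeaf6c0afec2b06b4aceb6ad6b8adebaae6ccb2eceb36d0b3ed2b46c4b0ec6b16c8b1ecab269ca6e9ea76a0a7ea2a8694a4e96a5698a5e9aa66acaaeaeab6b0abeb2ac6a4a8ea6a96a8a9eaaaa67c9ee7e9f6809fe82a06749ce769d6789de7a9e68ca2e8ea3690a3e92a4684a0e86a1688a1e8aa265c96e5e9766097e629865494e569565895e5a9666c9ae6e9b6709be729c66498e669966899e6a9a63c8ee3e8f6408fe42906348ce368d6388de3a8e64c92e4e9365093e529464490e469164891e4a9261b8721d87a1f8822188a138521585a178621986a2b8b22d8ba2f8c2318ca238922589a278a2298a9fc7edfe7f6007fe02805f47cdf67d5f87ddfa7e60c82e0e8361083e128460480e068160881e0a825dc76dde775e077de2785d474dd6755d875dda765ec7adee7b5f07bdf27c5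e478de6795e879dea7a5bb6f1bd6f9bf701c1709b36d1b56d9b76e1b96e9cb731cd739cf741d1749c3711c5719c7721c97299b6719d6799f681a168993651956599766199669ab6b1ad6b9af6c1b16c9a3691a5699a76a1a96a97b5f17d5f97f60181609735d1755d9775e1795e98b6318d6398f64191649836118561987621896295c56d5e5756057d625855454d565555855d5a5656c5ad6e5b5705bd725c56458d665956859d6a5a53c4ed3e4f5404fd42505344cd364d5384dd3a4e54c52d4e5355053d525454450d465154851d4a5251e4751c46d224852047d164551444d1a4651845d2e4b52c4ad324c5304bd264952448d2a4a52849cfc3ecfe3f5003fd02404f43ccf63d4f83dcfa3e50c42d0e4351043d124450440d064150841d0a424dc36cde374e037ce2384d434cd6354d835cda364ec3acee3b4f03bcf23c4e438ce6394e839cea3a4be2f4bc2ecc2304c02fcb62d4b42ccba2e4b82dcce334cc32cd2344d033cc6314c430cca324c831c9e2749c26ca2284a027c962549424c9a2649825cae2b4ac2acb22c4b02bca6294a428caa2a4a829c7e1f47c1ec82204801fc761d4741cc7a1e4781dc8e2348c22c922449023c862148420c8a2248821c5c16c5e1746017c621845414c561545815c5a1646c1ac6e1b4701bc721c46418c661946819c6a1a43d0f83b0f0411083f100350d8330d0390e8370e04d1384b130511484f14045118431104912847120310c8300bc2e0b42b0b0290a82809c2609423090220841f0801d0781c06c1a06417060150581404c110481003c0d0380c02c0a0240702006014030100200400)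
noncomputable def at4 : ℕ := (nat_lit 0x24b931c972a98a5e1e875df782569560480e91a49866170fc4162586d4b4f1ac659b672ceb3547521966571fc815154ac4b0f0ac258c62edeb755855e5b971da76687a220d839cf742469161484ea2a861885e9da79cc72e4a92683a121184a6097dd575ae1b895355306c159063d4d53ac8b1d9a6671cc6ed1b494450f16c55a067d5e576d8b5d8962b0cc2e078228ea35db7725a96694a4e2188a5093dc5719bd6fa378e2298aaacaae719c9e478e769d6007fef4bcd8160aefbc165599a869f2ecb53b4f2baae723c91b16cac0afd354d9775e2fdbf96b5b2e9ba9ed7ba6899df97ea7c9ee42905b36d2a6a962f8c2a9aaa2b8b23e8f5b86ddf57da809fdf27c663991705bee6b95735d301c0abcaed394eb28c9dad6b93f502b6ad5a468f31ccaecbad6a5a6f8bdd7d5fa7a9e5fc7ee6e9b5e77a22589aafac1c2706338d202806739d1e579a6f9c2adaba278a2398e9bc6eeb7ae13d4fb2ccada96a963592f2bc5805fef6bd6e7ba16e5b6fbbf17a5e5334d2c1b09af6c326c96328c6a4a8db66d6408fe7d9f9f77e2699a9eb7b266995f07be81a09f37d1ba6e63b8f22d8baa8a9dab6b329ca9374e2bdafb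00bfd755dae3b91725c57b5f2f9be9675a2eebb72fcc1a569ab3ad14150a368d5c06feb1aca2488dea7a66c9adfe7f6779e28fa420581a53951e178a1b8729aa65c77224e9354a526ccb2d9d67b17c62d6b555f58312c458460d5956adcb6d8d63b08c1ec5b194f54322c859464e9fa821685643911d174a0c82e89a29d77625d979d474e629861083e85a1a4891dcd73a9ba721986b1ec7597662cab254c52d9164b04c0d56556dfb830dc3987622d9b695c56da268713c5146516d0b3dc37125194a1f88295a5a57961dd77a8ba3209828d3350d835ce73a0e3390da364d6354e6394e93a8e2384dd378ee3b4f23c4dc36ce037cf03bceb3b04911c4e1303d0ec3a0e040108350cc461104f1445014843114360d0410fc390dc3c0f84d12c481291c46d164551e47513451234912d4b9264952b4b1224851845d1f4811a4652a4a5304bd2849d314c82e0b41c06c1805c2a0a4320c41f0801404c250982408c16054210882f0c02809c190681d0782c0ac9825cb02bc9424cab2b0aa2a4a2284a62949d278a829c9f280a32909b27099268b22c496254ae2b46a1a4571606c1ac5d178621846f1c053150661946e1b45c16c6819c5a16455158631906017c721c4741cc87220822048e234922447e1f48420c771e08a224761d48b230801fc7c1ec8f240791e8852190140d02411103d90f3d4f3448f4445063fd05401093f10a3ecf7438f84350c3e90b3e4fe420fd41cca324bb2f0d2344b42cccc32cba2e4c3310c2304bd2f8c7320b52d8d033cb72e0ce334c02fcc63140e0340301012044020040a024060140801c0f0400c02c00)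
noncomputable def at5 : ℕ := (nat_lit 0x266995fb7f1364d72bcb298a5dd174987622e2b855d57b04c0e4e93613851af6c2baae6809fde97aaa4a8dbe6f5735d2edbba5a9660f8414952b20c7d9c66ec6b168ba31d6755715caf8bde4190a278a21c86e4591b0bc3156555f17ca789dec2b05a76a324c8d3d4f9f37d26d9badab659063dca726a0a7ddd77a84a0ecdb39936522f8c2398eb00bfd695aae6b957b5f1b66d6abab318c5d5154a0881e62986759d9ec7ada569abbaf24891e228855756312c458e636d4b4e9ea75c37113f5032aca66f9c1f97ea348ce2d8b96458efdbfa89a29e077d9966ad0b3d4b53316c565c96e068158160ae8b9eb1ac9b76e1cb73295a5adbb718661602806679a332cc5374e2b4acdae6b5e37927e9f70ac255f5821a8665093e0d83a5494f1ec7543511bf702aaaa6efbc1795eaf5bd96c5ae2589a3c8eec7b21a2685d776292a459f682c9b2a8fa41d97696d5baf3bd23d8fa23892a8a9dc2705775e2f2bc6569560c82d4551b1bc716158b07c225194a1885dab6b2b6ad67c9ede67966a9a6007fd394eb2fcc293a51ce73583612ddb7ae9ba97f601b96eab0abf13c514d53a0480e5d979e278688a1ed1b4997662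2b8b2358dafcbed6659727ca141509f87de719cad6b558b631c571a9ba722087e4992b10c3d5a565ed7ba739d2beaf5a36914f54319c6a6097e098297d5fae3b92adab9b36d2388de318c96859f02c0685a19db77196656cbb319164ad8b5ea2a85c77213b4f325c9a6c9adf57da799e9ef7c1a96aabfb02439121d879535530dc3af9be96f5c2298aa408fec3b119e675d474e8ea361184a5796321c8947521bc6eea5a9aecbad755dab7ae1b16c9e77a281a0b05c195b5721585a4b931cf74299a6adfb8189629fd7fa639932ecb5344cc2007c26094270a01e074170602e0b42f0c01505822084230902a0a41c06c1a0642c0ac310c81404c6017c6c1ac6e1b461188721c45e1745b170701bc6418c5815c591686619455158691a8671a05414cbb2f0b52d8c02fcba2e4cc32cc5318cf340ca324d2344c831cce334c430cc1308b82dcbd2f8b42cce2384e5398de374ea3a4e438ce037ce73a0dc36cd9368ee3b4d5358f13c8ec3acd835cef3c0d434cb12c8a6294ad2b8aa2a4ac2aca829cb02bca428ca1288952589e2749a2649c26c972609f2809424c390dc5214047124421003b0f4461104b134340d83a0e04f1444a120410fc3e0f04510c4c138350cd0a4250440d0e4351043cf73e0f53d8fc3ed024050b431124450841d05418fd3f9003fcf93e8f43cc901fc8f20075214762187e2347d238881e0871dc8c1f08b1ec7a224792288224881244831d0841cd15459254992849d1845d1e4752d4b9304bd1f48122485324c52c4ad1c46d1a465294a9234911444c02004060140c02c0e0340a0240400c1003c0801c1204400)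
noncomputable def at6 : ℕ := (nat_lit 0x2fbbf1c972b2ecb5d875d8460e42905966566f9c2beaf60881eebbb2198694551a809fd5454eb2ac60480ec2b061585af0bbe7c9ed4952aadab957561c6716ffc01d375331cca3e8f58861e6c9ad9a665ba6e70cc2de77a31dc7a52945735d25f981a6695f77e2cdb3a2a8a6dcb6e90a3d354daa2a856458ed1b49f37d2dfb8226895394ea8ca2d675a29da7b10c3db56db22c85e478d775e24e935aa6a65c96f14c4df27c705c19c06fdab6b25a9657d5fa47922d6b56308bec3b12028056e5b698a5d3b4f28aa262b8b2dab65fd7fac8b1e94a4d725c685a19404fdee7b718c5dbc6ef0ac2656955b06be4490d82605e178b23c91cf742f6bd66a9a59b672378e18e6361f882e5b9a1184ab4acea8a9d5e5767a9e54b532eaba61b872b8ade0d8396158aa3a914f542769d728c9dde776fabe5cc72d9f6826599992646338d16559aa0a7d334d291a4adeb76278a2ccb2df97e9a369261989755da4f9431bc71ea7a70dc39b86de5d979a869e4b931795e9e579b20c7db46cf12c469ca6d695aa8da39374e223892e1b89f67d6cfb42b0abd5555a82a054450e1885eedbba0982abcaee719c993652408fd85619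d976b2ccadc871efdbf99865e6d9b98962a3c8ef2fcc1d675702c05c470d5956aacaad4851e7e9f6f2bc61484ebfb02068154e536789dd5c56ea9aaab6ad61083ee4b8e218898b632398e99d67a679a2f4bcdd274726c95df782368d59063e6498da1689cd73af8bdddb7732aca6749cd52546a5a996057e0b832b9aea1d87ae7ba288a1d3e4f69aa656b5b1ff802c5b1a318cad4b4e499297c5ee5895dae6b5c170b03c11ef7c316c55805fe45919b26c65395307c21be6f719c69ec7ad4250684a0d705be95a5ac9b29fb7f2d7b622d8b8441183f10450148350cc3c0f84911c3a0e04d12c43114421005113c360d03d0ec4a120390dc4c138d6354ec3acdc36ce6394de374e3390d434ced3b8e73a0e2384f23c4d7360f03bcda364e93a8df380fe3f4fa3e5034111043cf53d9014090c42d07421003fcf33d10a4250e434f83dcfb3f11244506414701bc6a1a4591685f180661946c1ac5c16c5615462184571606819c711c8531505e1746e1b463190ae2b4af2c0b22c4ac2aca92a8a428ca6294a829c9d278a027ca12889b270992689424c962549825c1c06c160541f0801a0642408c2d0b82809c320c41d0781404c2108817060260942c0ac290a8300bcbb2f0d2344b62d4c831cd033cbe2f4ca324b32d0c2304cb330b82dcc6314cd338bf300c430cb92e92d4792e475134911448d184a11749d3148532489204bd1f4c1294692a46526459254551c4b11b4ac8420c741cc87220781dc751d8862147a1e48a2247d1f88d23881208922448c22c7b1f09023c801fc030100e0341003c060140a024020040c02c110480801c00)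
noncomputable def aT : Tr ℕ := (.node (nat_lit 3) (.node (nat_lit 1) (.leaf at0) (.node (nat_lit 2) (.leaf at1) (.leaf at2)))
 (.node (nat_lit 5) (.node (nat_lit 4) (.leaf at3) (.leaf at4)) (.node (nat_lit 6) (.leaf at5) (.leaf at6))))
noncomputable def aR : Tr (List ℕ) := (.node (nat_lit 19) (.node (nat_lit 9) (.node (nat_lit 4) (.node (nat_lit 2) (.node (nat_lit 1) (.leaf [nat_lit 0, nat_lit 5, nat_lit 0, nat_lit 5, nat_lit 0, nat_lit 5, nat_lit 0, nat_lit 5]) (.leaf [nat_lit 4, nat_lit 0, nat_lit 4, nat_lit 2, nat_lit 4, nat_lit 0, nat_lit 4, nat_lit 2])) (.node (nat_lit 3) (.leaf [nat_lit 4, nat_lit 0, nat_lit 4, nat_lit 0, nat_lit 4, nat_lit 0, nat_lit 4, nat_lit 0]) (.leaf [nat_lit 1, nat_lit 0, nat_lit 1, nat_lit 0])))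
 (.node (nat_lit 6) (.node (nat_lit 5) (.leaf [nat_lit 6, nat_lit 0, nat_lit 6, nat_lit 3, nat_lit 6, nat_lit 0, nat_lit 6, nat_lit 3]) (.leaf [nat_lit 4, nat_lit 0, nat_lit 4, nat_lit 1, nat_lit 4, nat_lit 0, nat_lit 4, nat_lit 1])) (.node (nat_lit 7) (.leaf [nat_lit 0, nat_lit 6, nat_lit 0, nat_lit 6, nat_lit 0, nat_lit 6, nat_lit 0, nat_lit 6]) (.node (nat_lit 8) (.leaf [nat_lit 3, nat_lit 0, nat_lit 3, nat_lit 0]) (.leaf [nat_lit 0, nat_lit 0])))))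
 (.node (nat_lit 14) (.node (nat_lit 11) (.node (nat_lit 10) (.leaf [nat_lit 0, nat_lit 1, nat_lit 6, nat_lit 1, nat_lit 4, nat_lit 6, nat_lit 3, nat_lit 4]) (.leaf [nat_lit 2, nat_lit 0, nat_lit 2, nat_lit 0])) (.node (nat_lit 12) (.leaf [nat_lit 0, nat_lit 5, nat_lit 0, nat_lit 6, nat_lit 3, nat_lit 5, nat_lit 3, nat_lit 6]) (.node (nat_lit 13) (.leaf [nat_lit 4, nat_lit 0, nat_lit 5, nat_lit 2, nat_lit 4, nat_lit 0, nat_lit 5, nat_lit 2]) (.leaf [nat_lit 1, nat_lit 3, nat_lit 5, nat_lit 4, nat_lit 1, nat_lit 0, nat_lit 4, nat_lit 0, nat_lit 5]))))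
 (.node (nat_lit 16) (.node (nat_lit 15) (.leaf [nat_lit 0, nat_lit 2, nat_lit 5, nat_lit 0, nat_lit 2, nat_lit 4, nat_lit 5, nat_lit 4]) (.leaf [nat_lit 4, nat_lit 1, nat_lit 5, nat_lit 1, nat_lit 4, nat_lit 1, nat_lit 5, nat_lit 1])) (.node (nat_lit 17) (.leaf [nat_lit 1, nat_lit 1]) (.node (nat_lit 18) (.leaf [nat_lit 1, nat_lit 2, nat_lit 5, nat_lit 1, nat_lit 3, nat_lit 5, nat_lit 6, nat_lit 0, nat_lit 6]) (.leaf [nat_lit 0, nat_lit 1, nat_lit 5, nat_lit 2, nat_lit 4, nat_lit 5, nat_lit 1, nat_lit 4]))))))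
 (.node (nat_lit 28) (.node (nat_lit 23) (.node (nat_lit 21) (.node (nat_lit 20) (.leaf [nat_lit 3, nat_lit 1, nat_lit 3, nat_lit 1]) (.leaf [nat_lit 5, nat_lit 1, nat_lit 5, nat_lit 2, nat_lit 5, nat_lit 1, nat_lit 5, nat_lit 2])) (.node (nat_lit 22) (.leaf [nat_lit 5, nat_lit 1, nat_lit 5, nat_lit 3, nat_lit 5, nat_lit 1, nat_lit 5, nat_lit 3]) (.leaf [nat_lit 2, nat_lit 1, nat_lit 2, nat_lit 1])))
 (.node (nat_lit 25) (.node (nat_lit 24) (.leaf [nat_lit 2, nat_lit 2]) (.leaf [nat_lit 4, nat_lit 2, nat_lit 4, nat_lit 2, nat_lit 4, nat_lit 2, nat_lit 4, nat_lit 2])) (.node (nat_lit 26) (.leaf [nat_lit 3, nat_lit 2, nat_lit 3, nat_lit 2]) (.node (nat_lit 27) (.leaf [nat_lit 2, nat_lit 5, nat_lit 2, nat_lit 5, nat_lit 2, nat_lit 5, nat_lit 2, nat_lit 5]) (.leaf [nat_lit 2, nat_lit 6, nat_lit 2, nat_lit 6, nat_lit 2, nat_lit 6, nat_lit 2, nat_lit 6])))))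
 (.node (nat_lit 33) (.node (nat_lit 30) (.node (nat_lit 29) (.leaf [nat_lit 4, nat_lit 2, nat_lit 6, nat_lit 3, nat_lit 4, nat_lit 2, nat_lit 6, nat_lit 3]) (.leaf [nat_lit 4, nat_lit 3, nat_lit 4, nat_lit 3, nat_lit 4, nat_lit 3, nat_lit 4, nat_lit 3])) (.node (nat_lit 31) (.leaf [nat_lit 3, nat_lit 3]) (.node (nat_lit 32) (.leaf [nat_lit 3, nat_lit 6, nat_lit 3, nat_lit 6, nat_lit 3, nat_lit 6, nat_lit 3, nat_lit 6]) (.leaf [nat_lit 3, nat_lit 5, nat_lit 3, nat_lit 5, nat_lit 3, nat_lit 5, nat_lit 3, nat_lit 5]))))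
 (.node (nat_lit 35) (.node (nat_lit 34) (.leaf [nat_lit 5, nat_lit 3, nat_lit 0, nat_lit 6, nat_lit 5, nat_lit 3, nat_lit 0, nat_lit 6]) (.leaf [nat_lit 4, nat_lit 4])) (.node (nat_lit 36) (.leaf [nat_lit 4, nat_lit 6, nat_lit 4, nat_lit 6]) (.node (nat_lit 37) (.leaf [nat_lit 5, nat_lit 5]) (.leaf [nat_lit 6, nat_lit 6])))))))
noncomputable def aL0 : Lev := ⟨(nat_lit 19), (nat_lit 7), (nat_lit 0x4040502060506040603050405050601050405020703050405020704050405060701070703060704070703060602070502070605070607070703060501070605030506040206050605060602030304060404010402060101020201050405030306040702060306040104060304050504030405020603070406040603050107070000000000000000000000000000000000000000000000000000000000000000060107070603050405030704060205040707060706040703050406030706030202040403020702010102010704070503030707040501020707020702050307040706030707060207030207070503030603070601010604010302020602030706010505070106010701060105010606050502070605040207050702050605060000000000000000000000000000000000000000),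 (nat_lit 0x4030402040304040403040204050402040404030302040304040403040404010404030404040404040404050304040304030404040404040404040404040404030403040403020303040204030404040304040403030304030403030303040404040503040204030403050404010404040304020403040403020403050205040000000000000000000000000000000000000000000000000000000000000000040204040403050205030404040205030504040104030404040304020403050304030404040304030403040404040304040404040304050203040304040303040402040302030403030404030403040304030304030404040403040303040404050405040403040304030403040304040405040403040403040304030303050000000000000000000000000000000000000000),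
 (.node (nat_lit 3) (.node (nat_lit 1) (.leaf (nat_lit 0x320007000700030083000400030004000c000700410003000400830088000000310006000800020084000500040003000b000600400002000300840087000100740000006c008b006f008a003d005600400044006e0091000100090026004000730001006d008a006e0089003e0057003f0043006d00920000000a0025003f002e007c0001000c0003000900010001000200430001000c002d0083002d007f002d007d0000000b0002000a00000000000300420000000b002c0082002c007e003300050024000300500002007400040000000300020005007a00010076003d0034000400230002004f0003007500030001000200030004007900000075003e000000000000000000000000000000000000000000000000000000000000000000000000000000000000000000000000000000000000000000000000000000000023000000400041001d000300410003006f0003007a0004008e00030071007d003f00400024000100400002001c0004007b0003006e00020070007e008f00020007003b003f0041000200010003000000000003000000220044001f003c003c0008003a004000400003000000020001000100020001002100450020003b003b00510004005500010001003b00660001000600030065000300710003005c003c00500005005600000000003c00650000000500020064000200700002005b003d00000001003b003a0000000100000001000000010000000100000001007a0079000300040006001f0002000300030002000700020005000400020008008900000000000000000000000000000000000000000000000000000000000000000000000000000000))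
 (.node (nat_lit 2) (.leaf (nat_lit 0x31000500860000008500010041000400310002002a00030032008500150001003300860014000000300003002b0002008600000042000500300004008500010072000b0006008b006f0085006e004b0040008a003d009300010000006e004400000001006f0045003f008b003e009400700084006f004a0071000c0007008c00030036002b004100000003000100010004004100010000000500830003002f000200300006008400000001000500400000000000010002002a0040000200350076003f0026000000160005000e000400760003004e0002007a0001000e0008000f0007007b0000004d000300770002000d000500170006002500010077004000000000000000000000000000000000000000000000000000000000000000000000000000000000000000000000000000000000000000000000000000000000004800010071007f006f000500210004004a0002007c000300900000003e0043003f004400910001007d0002004b00030020000500700006007200800049000000000003004600030000000100000001000100000004002000430041003c0019003d001a004200420005001f000000010001000000010000004700020001000200510001006a006100010073000000010072000000630064007100020060006b00030072006c006100010073006300640074000000000001000000520062006900460045003c000600030002004200410010000f00070006000f0010000d003c00010000002100040002000300000001000c000c0000000100090008008c00000000000000000000000000000000000000000000000000000000000000000000000000000000))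
 (.leaf (nat_lit 0x2f000200050001008900020006008600060000002e0003000500850088000300410008000a00070084000000040005000b0008004200090005000600830001000a00430001009400000085002f0045000b004200000093000100860030004600750001004800490070008b003c005500760000004900480071008c003d00540000003600030080002e008000010001000200810001003700000000002d007f002f007b0004008200010001002d0081000500830030007a002e0082000000000031000200260001007b0000000600090032000300250000007a00010005000a0000000600030001004f0000003f003f000100070004000000500001003e00400000000000000000000000000000000000000000000000000000000000000000000000000000000000000000000000000000000000000000000000000000000000440001007d001700910000001f000200430000007c00180090000100200003003d0042006f0001006f007f00010000003c00430070000000700080000000010005003d003d0000003d000100440022003e00010006003c00450021003c000000000018001b00420003003c00460001001c004300010019004700000002003d005300010000002400010040006c00010000005200230001003f00000000006b000000010054006500010071006a005a0000000100660053007200000059006b00480047004100060050004f0003000200030002007e007d00030002007a007900040005004e004f000200030005000400150014000300020009000a008c00000000000000000000000000000000000000000000000000000000000000000000000000000000))))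
 (.node (nat_lit 5) (.node (nat_lit 4) (.leaf (nat_lit 0x3300010085000100340000003100010088000000320085004300010086000000350001000100010032000000330086004400000032000000890001000c005800260040004b008500740000003e000c006e00930045004b0024004400750001004a00860027003f000d0059002500450046004c006f0094003f000b002e007e00290000002a000100010001002b007f00010041002d00830000003100000000002b0000002a0001002f007f00010032002e008400000042002c008000780000003f00010079000100760000007800000041003f0000000100760000007a00000077000100790001004000000001000000770001007900010042004000000000000000000000000000000000000000000000000000000000000000000000000000000000000000000000000000000000000000000000000000000000004700010019001900400041004800000072007f007e00000090000100710000004100420049000100480000001a0018009100000072000100730080007f0001003d00000000003f00410001003e003b003c000100460040000000410002003c003f003c004200000001003e003e00010003003d0001004200470041003d000000740003005700010006007500660003000300040068000800710006005c006700760007000200670002007500000058000700720066005d0005000400090069004800470038000600030002004e004d0040003f0003000200030002007a007b003f0040001f00200001000000030002000d000200060005000b000c008c00000000000000000000000000000000000000000000000000000000000000000000000000000000))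
 (.leaf (nat_lit 0xd003f000000010085000000800034000c00840000000100000000008a00010000007e000000070032000300000001000000820042003e0000004100000001000a000d0002008b001b0083003d00650009004f004600930001005f0004000000750002004a00000027008b0002005300270052006f0000005d000200090000000100000001004000310002000000010000008900010084000100010033007f0001007d0041003f0006000100010083000d008500010000000100000040000c00420077003500370014000100060073007c0001004c003c008b00000000007700050001000000010051000100050001007a00010015000100000001004100020000000000000000000000000000000000000000000000000000000000000000000000000000000000000000000000000000000000000000000000000000000000440038000d0002004b003b000000010000000700780006009000030000003b00020002004900020042003d0002001a00000001007000010072007e00470004004600050007007900030003004a003a004500390041003e0001003c00000071000100060073007f0000000100480003000300190003000e000000010002009100030001007600050003005e008c00030001000b0008000c00000001005e004900500003000a00540001001a006e0084003e00260066005300280047008c0094007d000000000006004100780042000300050074007b0000007600010004000000000052003d004d0000000100360036000000160013000000010000008a00010000000000000000000000000000000000000000000000000000000000000000000000000000)))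
 (.node (nat_lit 6) (.leaf (nat_lit 0x3e0001000e0001000000820000004300000012004400010076003e0000000100330053007c00010032000100370003000b000a008400840086008600010000005900550072008b005b0000003b004700420044007100000000008c00460042007500550000008000720000004d00570056004f00000092003d008c0000000600740086000000410018000000010000000100000000007b000b0083002f00000001002e00010042000100000008003e0089007700010012002e0001007800800000002f0084000c0000000100000001002e000100000041007c00010007003f00760088001700010000002d008700750000000100000013004200010077007f0000000000000000000000000000000000000000000000000000000000000000000000000000000000000000000000000000000000000000000000000000000000000001005200580000000500440001008d0001007c00890000000100870071004100670000000100000003001a0021007d006b0000000100690000009100010041004500450041005c00010071008c00930001008d003e004c0058007600560048003c005a005400700001008b00010001007100010081004e005500010005005300000057000100010000006800010001000400040001007b0001008a00000043001b00000022007c0000006c008c0040000100660000007200900088000000850087003d007500430000008500830031000000810001000f00000000007b00320052003f00000001004400380002000c000b0011000100000001000000010000000000000000000000000000000000000000000000000000000000000000000000000000))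
 (.leaf (nat_lit 0x5f007200530001008500010057006200270008000c0001003f0085008c000100640025005100070000000100290001008e000a0000000100290006008d00010000000f0000000000910042000000880000000000820095007300610000003400880000006700800000008d00000000000000540071008600470000004000440001008c000100530033000100010001000100460001008700010087009400810066007f0043003f000100010090004300700085000100010001000e00720060007e002300000004001c000100800001007e00010047001c007c000100840015007e0001000f00010051000100000006008500010017001e0004000100000000000000000000000000000000000000000000000000000000000000000000000000000000000000000000000000000000000000000000000000000000000000000046000100000000001d0001001f0001007b000900000081009200050047003d00000000008d00000054003f000000050079008300720001000000400049000100050001007f0024000300000046001b0001000300520000007d000000010001007d00000000007f0016001d007b00000000001b0000000e008300160000008400000001008600000000008b008c00000001000b0000000000710024005e006500500000000800520009008f00260009003e00280086000700280056000000630046003c004800000080000100710000004100010091000400780082007c0008003e00530000001e0001000100450000001e00000004000100010001008c00010000000000000000000000000000000000000000000000000000000000000000000000000000))))),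
 (.node (nat_lit 3) (.node (nat_lit 1) (.leaf (nat_lit 0x800000800000e00000800000006000a01000c05000800000800000800000800000800000800000205000800000000000101000701000801000301000801000801000801000703000a03000303000602000701000101000801000303000801000800000000000505000800000800000800000a01000a01000800000800000800000c01000800000900000800000800000301000801000801000701000703000c01000801000801000701000a03000a03000801000000000801000c01000205000800000a01000800000800000800000203000800000800000d05000800000800000800000800000800000800000800000301000801000000000701000301000801000000000000000801000303000000000303000303000a03000703000303000a01000800000800000800000800000a01000205000800000000000800000004000800000800000800000800000602000801000701000606000301000301000801000801000703000801000701000801000a03000703000000000a030008010000000000000000000000000000000000000000000000000000000000000000000000000000000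00000000000000000000000000000000000000000000000000000000000000000000000000000000000000000000000000000000000000000000006000000000800000800000800000a01000800000800000800000800000101000800000c05000800000800000006000201000505000801000801000c05000703000002000801000801000701000c05000a03000a03000801000801000303000a01000800000a01000800000900000800000800000000000000000800000000000800000101000405000800000800000801000101000801000701000801000000000301000801000801000303000801000303000801000801000207000303000800000b00000a01000800000800000c05000800000800000800000800000800000800000800000800000800000000000c05000801000801000000000000000801000301000000000a03000303000303000b00000207000a03000a03000801000000000801000800000900000000000801000000000801000000000801000000000801000000000801000800000207000105000303000604000604000203000703000301000604000501000405000301000207000004000105000000000000000000000000000000000000000000000000000000000000000000000000000000000000000000000000000000000000000000000000000000))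
 (.node (nat_lit 2) (.leaf (nat_lit 0x1000001000001000000000000300001000000300000300001000001601000903001000000302000302001000001000001001001001001206000000000901001001001001001301001001000000001001001001001603001303001603001001001000000300001206000300000300001000000300001000001000000302001601000302001000000000000302000f01000000001001001001001001001301001001001001001001001001000503001001001603001603001001001001001001001000001000001000001000000000001000001000001000000302001000001000000000001601000302001000001505001301001001001001001001000000001001001001001505000000000000001001000f03001303000901001603000507000300000300001000000000000f01000300001000000300000302001000001000001601000302001000001601001000001001001301001001000000000f010010010010010013010014050010010010010010010009010010010010010010010000000000000000000000000000000000000000000000000000000000000000000000000000000000000000000000000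00000000000000000000000000000000000000000000000000000000000000000000000000000000000000000000000000f05001000000300000300000300000300001000000300001601001601000302001000000302000000001601001601001001001001001001001001001001001301001001001001000903001001001001001001001001001001001001000000000000001000000300001000000000001000000000001000001000000000000302001000001000000302000302001601001001001001001301001001001001000903000000001001001001000000001001000000001001001603001001001303000300001000001000000300001000000300000000001000001601000000001601001000000302001601000f07000302001001001001001001001001001001001001001301001001001001000000000000001001000000001001001001001303001000000901000302000903000302001505001000000901000302001201001000000901000d00001001001405000903001000000000001301001405000503001303000000001001001201001103000000001001001000000f07000507000000000000000000000000000000000000000000000000000000000000000000000000000000000000000000000000000000000000000000000000))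
 (.leaf (nat_lit 0x1700001901000c03001700001700000e04001700001700001701000000001801001701000a02000a02000a02001701000a00000a00000103000a00001700000000001805001600001701001701001701001701001701001701000107001701001c01001700001700001700000000001602001c01001901001701001c01000000000a02001701001701001701001701000a00001700001a06001700000a00000a00000c03001700001701000000001701000107001701001701001701000107000000001602001700001901001700001700001700001700000c03001701001701001701000000000000000a02000a02000a00001700000a00000a00001700001700000a00001600001701001701001701000c03001701001701000000000000001a04001901001700001700001700000000001700001602001701001701000a02000000000a02001701001203001701000000000a00000c07001700001600000000001700000a00001701001701001701000000001701001701001c0100170100000000000000000000000000000000000000000000000000000000000000000000000000000000000000000000000000000000000000000000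0000000000000000000000000000000000000000000000000000000000000000000000000000001700001700001700001c05001700000000001c05001901000c07000000000a02001701000a02001701001701001701001700000a00000a00001700000c07000a00001700000000000107001701001701000000001701001701000000001701001602001700001901000000001700001700001602001700001701001701001701000a02001701000a02000a02000000000000001b04001c01000a00001700000a00000a00001700001701001701001701001701001701000000001c01001701001700001700000000001700001700001700001700001700000000000a02000e04001701000c07000000000000000a02000000001700001700000a00001700000a00001600001700000000001701001701000107001701000000001903001701001700001b04001803001b04001700001a04000a02001b04000a02001a04001700000107000a02001403001700000107000103001600000103001701000103001903001700001101001700000e01001602001803000e01001701000107000000000000000000000000000000000000000000000000000000000000000000000000000000000000000000000000000000000000000000000000))))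
 (.node (nat_lit 5) (.node (nat_lit 4) (.leaf (nat_lit 0x1e00001e00000702001e00000702000000001300001e00000700000000000702000702001300001e00001e01000000001e01001e01001e01001e01001902000000001e01001e01001e01000000001e01000000001e01001e01000906000700001c07001e00001e00001302000702000000001900001e00000700000700002002001300001c07000702001e01001e01001902001e01001e01000b04001e01001e01001e01001e01001e01001e01001e01001e01001e01000b04000700000700001c03000000000702001e00001e00001e00001900000700001e00001300000702000702000000001300000000000000001e01000000001e01001e01001e01001e01001e01001e01001e01001e01000000001e01001e01001e01001302000000001c03001e00000702001e00000702000000001300000000001900000700000000001e00000702000000001e01000000001e01001e01001e01001e01001e01000000001e01000000001e01001e01001e01001e01001e01001e01000000000000000000000000000000000000000000000000000000000000000000000000000000000000000000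000000000000000000000000000000000000000000000000000000000000000000000000000000000000000000000000000000001d05001e00001c07001e00000702000702000702000000000700000700001300000000000702001e00001300000000001e01001e01001e01001e01001e01000000001e01001902001e01000000001e01001e01001e01001e01001e01001e01001302000000000000001e00000702001e00000702000702000700001e00000700001300000000000702001c03000702001e01001e01001e01000000001e01001902001e01001e01001e01001e01001e01001e01001e01001e01001e01000000001302001e00000700001e00000702000702000702001e00001900001300000700001f00000702000702000702001e00001e01001e01000b04001e01002101001e01000000001e01001e01001e01001c07001e01001e01001e01001e01001e01001e00001c07001d03000403000702002004001e00001d03001e00002004000702001d03000702001503001d03001e01000906001300000403001e01001e00000000001302000403000d01001f04001e00001c07001104001e01001d07000000000000000000000000000000000000000000000000000000000000000000000000000000000000000000000000000000000000000000000000))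
 (.leaf (nat_lit 0x2200001d00000000002200002200000000002200002200000200000104000000002200000000000000002200002200000000002200000000002200002200002200000000002200000000001804002200001c04000000002200000000002200000904002200002300000204002200002300001800000200002300000c00000506000200002200002200002300000000000204002300002200000000001d00000200002300002300002200000200002200000000000e07002300002200000000002201000000002201000500000500001204000000002201000000000206002201000206002201002201001d06000206002201000202000202002201000502002201002201002201002201002201002201000000002201000000002201001c04002200000506000c0000220000220000220000220000230000020400220000230000230000220000000000000000220000220000220000000000220000050400220000230000220000010200220000180400220000000000220000010200230000000000000000000000000000000000000000000000000000000000000000000000000000000000000000000000000000000000000000000000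0000000000000000000000000000000000000000000000000000000000000000000000000000001804002302000904002302002200002200000000002200000000002200002302001d04000200002200000000001804000904002302002200002302002200000104002302002200000000002200000104002200000204000204002200000907000100002201002201002201002201002201000202000202002201002201000206002201002201002201000000002201002201000904002201002201000000002201000106002201002201000907002201002201000000002201000904002201002201002201002201002201002201002201002201002201002201002201000904000904000000002201001d06000c04002201002201002201002201002201001204000502002201002201000907002201002201002201002201002201002201002201000000000000002201000c00002201002201002201000e07002201002201000000000206002201001204000000000000002201002201002201000000002201002201000102000000002201000e07000000002201000000000c00002201000000000000000000000000000000000000000000000000000000000000000000000000000000000000000000000000000000000000000000)))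
 (.node (nat_lit 6) (.leaf (nat_lit 0xc02002400000c02002400000000002400000000000e02000000002400002400002400002400002400000000002400002400002400002400002400002400002400000c02002400000c02000b01000001002400000005002400002400000000000c02002400002400000005002005000000000c02000c02002400000c02002400000000000000002400002400002400000001000001000000000c02002400000000002400000001002400002400000000000001000e02000001000000002400000c02000c02000000000f02002400000000002400000000002400000000000000000001000c02000005002400000000002400002005002400002400002400000000002400000e02002400002400002400000f02002400002400002400002400000000002401002401002401000000002401000000002401000e02002401000000000c06002401002401000c06002401000003000003000c0600240100000000000700240100240100000000240100000000240100240100240100000700000700000000000000000000000000000000000000000000000000000000000000000000000000000000000000000000000000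0000000000000000000000000000000000000000000000000000000000000000000000000000000000000000000000000000002400000005002400000000002400002400002400002400002400002400000001000000002400000c06000c06002400002400000000002400000000002104000b05000b01002400001a01000000002400002400000000002400002400000f02002401000c02000c02002401002401000c02002401002401002401002401002401000c02002401002401002401002401002401002401000c02000c02002401000c02002401002401000007002401002401000007000c02002401001205002401000000000c06002401002401000000002100002401002401001102002401002401000c06002401002401000000000c06002401000000002401000c06000000002401000c06000c06002401000007000000002401000007002401000000000c06002401001205000c06000e06000000002401000c06000f06000000000c06002401002401000000000000000007000c06000c06002401000000002401002401002401001105002401002401001400002401000000002401000000002401000000000000000000000000000000000000000000000000000000000000000000000000000000000000000000000000000000000000000000))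
 (.leaf (nat_lit 0x2500002500002500002500000601002500002500001106002500000402002500002500002500000605002500002500000601002500002500000400000000002500002500002500000605002500000000002500002500001108002500002500000000002500000000000000002500002103000000002500000000000000002500002500002500002500000000002500002500000000002500002500000000002500000000000000000000002500002500002500002500000000002500002500002501002301002501002301002301002501002501002501002501002103002501002301002501002301002301002301002301002301002301002301002501002501002301002501002301002301002501002501002501002301002301002301000601001b05000000002500002500002500002500002500002500002500002500002500002500002500002500001c0200250000250000250000250000060100250000000000250000250000250000250000250000250000250000000000000000000000000000000000000000000000000000000000000000000000000000000000000000000000000000000000000000000000000000000000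0000000000000000000000000000000000000000000000000000000000000000000000000000002500002500000000000000001106002500002500002500000601002500000000002500002500002500002500002500000000000000002500000000002500002500000000002500002500002500002500002500000000002107002500002500000902002501002501002501002301000000001c02000902002501000902002501000000002301000000002501002501002301000000000000002301002301000603000607000000000000002301000000002301002301002501000000000607000000002501002501000000000000002303002303000000002501002303000000000000000603001b07001c06002501002303000000002501000607002501002501000905000607002303002303002501002501002303001c06000000002501000902002303002303000000002303002501002303000000002501002501002303002303002303000607002501002303002303002303000000002501002501002501002303000000002303000000000902002501002501002501002303002501000000000000000000000000000000000000000000000000000000000000000000000000000000000000000000000000000000000000000000)))))⟩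
noncomputable def aL1 : Lev := ⟨(nat_lit 7), (nat_lit 4), (nat_lit 0x40000000000000000), (nat_lit 0x10000000000000000),
 (.node (nat_lit 2) (.node (nat_lit 1) (.leaf (nat_lit 0x200000000000000000000000000000000))
 (.leaf (nat_lit 0x200000000000000000000000000000000)))
 (.node (nat_lit 3) (.leaf (nat_lit 0x200000000000000000000000000000000))
 (.leaf (nat_lit 0x10000000000000000000000000000)))),
 (.node (nat_lit 2) (.node (nat_lit 1) (.leaf (nat_lit 0x701000000000000000000000000000000000000000000000000))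
 (.leaf (nat_lit 0x1301000000000000000000000000000000000000000000000000)))
 (.node (nat_lit 3) (.leaf (nat_lit 0x1901000000000000000000000000000000000000000000000000))
 (.leaf (nat_lit 0x1e01000000000000000000000000000000000000000000))))⟩
noncomputable def aL2 : Lev := ⟨(nat_lit 5), (nat_lit 3), (nat_lit 0x3000000000000), (nat_lit 0x1000000000000),
 (.node (nat_lit 1) (.leaf (nat_lit 0x2000000000000000000000000))
 (.node (nat_lit 2) (.leaf (nat_lit 0x2000000000000000000000000))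
 (.leaf (nat_lit 0x100000000000000000000)))),
 (.node (nat_lit 1) (.leaf (nat_lit 0xa01000000000000000000000000000000000000))
 (.node (nat_lit 2) (.leaf (nat_lit 0x1601000000000000000000000000000000000000))
 (.leaf (nat_lit 0x1701000000000000000000000000000000))))⟩
noncomputable def aL3 : Lev := ⟨(nat_lit 3), (nat_lit 2), (nat_lit 0x200000000), (nat_lit 0x100000000),
 (.node (nat_lit 1) (.leaf (nat_lit 0x20000000000000000))
 (.leaf (nat_lit 0x1000000000000))),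
 (.node (nat_lit 1) (.leaf (nat_lit 0x301000000000000000000000000))
 (.leaf (nat_lit 0x1001000000000000000000)))⟩
noncomputable def aL4 : Lev := ⟨(nat_lit 11), (nat_lit 1), (nat_lit 0x1000000000000000000000000), (nat_lit 0x1000000000000000000000000),
 (.leaf (nat_lit 0x100000000000000000000000000000000000000000000)),
 (.leaf (nat_lit 0x801000000000000000000000000000000000000000000000000000000000000000000))⟩
noncomputable def aL : List Lev := [aL0, aL1, aL2, aL3, aL4]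
noncomputable def aE : Tr (List ℕ) := (.node (nat_lit 3) (.node (nat_lit 1) (.leaf [nat_lit 6]) (.node (nat_lit 2) (.leaf [nat_lit 9, nat_lit 7, nat_lit 3, nat_lit 8, nat_lit 9, nat_lit 4, nat_lit 0]) (.leaf [nat_lit 9, nat_lit 7, nat_lit 3, nat_lit 8, nat_lit 9, nat_lit 7, nat_lit 3, nat_lit 8])))
 (.node (nat_lit 5) (.node (nat_lit 4) (.leaf [nat_lit 9, nat_lit 7, nat_lit 3, nat_lit 8, nat_lit 9, nat_lit 5, nat_lit 3, nat_lit 0]) (.leaf [nat_lit 11, nat_lit 7, nat_lit 11, nat_lit 8, nat_lit 9, nat_lit 8, nat_lit 9, nat_lit 7, nat_lit 7, nat_lit 1, nat_lit 7, nat_lit 6, nat_lit 5, nat_lit 3, nat_lit 0])) (.node (nat_lit 6) (.leaf [nat_lit 8, nat_lit 4, nat_lit 11, nat_lit 8, nat_lit 9, nat_lit 3, nat_lit 8, nat_lit 6, nat_lit 4, nat_lit 1, nat_lit 1]) (.leaf [nat_lit 7, nat_lit 11, nat_lit 7, nat_lit 9, nat_lit 8, nat_lit 8, nat_lit 8, nat_lit 6, nat_lit 5]))))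
theorem aw_0 : aT.all2 (fun c w => isProd 819 (nat_lit 10) (nat_lit 1023) fT c w) aE = true := by decide +kernel
theorem aw : aT.all2 (fun c w => isProd 819 (nat_lit 10) (nat_lit 1023) fT c w) aE = true := aw_0
theorem alev0 : levChk 819 (nat_lit 10) (nat_lit 1023) aT aR aL0 aL1.N = true := by decide +kernel
theorem alev1 : levChk 819 (nat_lit 10) (nat_lit 1023) aT aR aL1 aL2.N = true := by decide +kernel
theorem alev2 : levChk 819 (nat_lit 10) (nat_lit 1023) aT aR aL2 aL3.N = true := by decide +kernel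
theorem alev3 : levChk 819 (nat_lit 10) (nat_lit 1023) aT aR aL3 aL4.N = true := by decide +kernel
theorem alev4 : levChk 819 (nat_lit 10) (nat_lit 1023) aT aR aL4 0 = true := by decide +kernel
theorem achain : Chain 819 (nat_lit 10) (nat_lit 1023) aT aR aL := chain_cons alev0 <| chain_cons alev1 <| chain_cons alev2 <| chain_cons alev3 <| chain_one alev4
theorem asd : band (selChk aT aT (topN aL)) (aR.all fun w => eqB (fL.map Lev.b) (apL (nat_lit 10) (nat_lit 1023) aT w) fun a => a) = true := by decide +kernel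
theorem atc : tchainChk 819 (nat_lit 10) (nat_lit 1023) aT aL = true := by decide +kernel
noncomputable def bWT_0 : Tr (List ℕ) := (.node (nat_lit 128) (.node (nat_lit 64) (.node (nat_lit 32) (.node (nat_lit 16) (.node (nat_lit 8) (.node (nat_lit 4) (.node (nat_lit 2) (.node (nat_lit 1) (.leaf []) (.leaf [nat_lit 5, nat_lit 4, nat_lit 5, nat_lit 3, nat_lit 4, nat_lit 3])) (.node (nat_lit 3) (.leaf [nat_lit 1, nat_lit 4, nat_lit 2, nat_lit 0, nat_lit 4, nat_lit 2, nat_lit 1, nat_lit 0]) (.leaf [nat_lit 0, nat_lit 5, nat_lit 3, nat_lit 5, nat_lit 3, nat_lit 0])))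
 (.node (nat_lit 6) (.node (nat_lit 5) (.leaf [nat_lit 6, nat_lit 2, nat_lit 1, nat_lit 6, nat_lit 3, nat_lit 2, nat_lit 1, nat_lit 0]) (.leaf [nat_lit 0, nat_lit 5, nat_lit 2, nat_lit 5, nat_lit 2, nat_lit 0])) (.node (nat_lit 7) (.leaf [nat_lit 4, nat_lit 2, nat_lit 4, nat_lit 2]) (.leaf [nat_lit 5, nat_lit 1, nat_lit 5, nat_lit 3, nat_lit 2, nat_lit 1, nat_lit 0]))))
 (.node (nat_lit 12) (.node (nat_lit 10) (.node (nat_lit 9) (.leaf [nat_lit 4, nat_lit 3, nat_lit 0, nat_lit 4, nat_lit 3, nat_lit 0]) (.leaf [nat_lit 5, nat_lit 4, nat_lit 0, nat_lit 5, nat_lit 3, nat_lit 2, nat_lit 0])) (.node (nat_lit 11) (.leaf [nat_lit 6, nat_lit 0, nat_lit 6, nat_lit 0]) (.leaf [nat_lit 4, nat_lit 5, nat_lit 4, nat_lit 3, nat_lit 0])))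
 (.node (nat_lit 14) (.node (nat_lit 13) (.leaf [nat_lit 6, nat_lit 4, nat_lit 2, nat_lit 4, nat_lit 0]) (.leaf [nat_lit 1, nat_lit 5, nat_lit 2, nat_lit 4, nat_lit 3, nat_lit 0])) (.node (nat_lit 15) (.leaf [nat_lit 4, nat_lit 1, nat_lit 5, nat_lit 3]) (.leaf [nat_lit 5, nat_lit 2, nat_lit 4, nat_lit 3, nat_lit 1, nat_lit 0])))))
 (.node (nat_lit 24) (.node (nat_lit 20) (.node (nat_lit 18) (.node (nat_lit 17) (.leaf [nat_lit 4, nat_lit 3, nat_lit 1, nat_lit 5]) (.leaf [nat_lit 4, nat_lit 3, nat_lit 5, nat_lit 3, nat_lit 2, nat_lit 1, nat_lit 0])) (.node (nat_lit 19) (.leaf [nat_lit 2, nat_lit 1, nat_lit 5, nat_lit 4, nat_lit 3, nat_lit 2]) (.leaf [nat_lit 0, nat_lit 4, nat_lit 5, nat_lit 3, nat_lit 1, nat_lit 0])))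
 (.node (nat_lit 22) (.node (nat_lit 21) (.leaf [nat_lit 4, nat_lit 3, nat_lit 1, nat_lit 5, nat_lit 3, nat_lit 0]) (.leaf [nat_lit 5, nat_lit 1, nat_lit 4, nat_lit 3])) (.node (nat_lit 23) (.leaf [nat_lit 3, nat_lit 5, nat_lit 3, nat_lit 4, nat_lit 2, nat_lit 1, nat_lit 0]) (.leaf [nat_lit 2, nat_lit 5, nat_lit 3, nat_lit 4, nat_lit 3, nat_lit 1, nat_lit 0]))))
 (.node (nat_lit 28) (.node (nat_lit 26) (.node (nat_lit 25) (.leaf [nat_lit 1, nat_lit 5, nat_lit 3, nat_lit 4]) (.leaf [nat_lit 3, nat_lit 5, nat_lit 3, nat_lit 4, nat_lit 3, nat_lit 1])) (.node (nat_lit 27) (.leaf [nat_lit 3, nat_lit 4, nat_lit 5, nat_lit 2, nat_lit 1]) (.leaf [nat_lit 2, nat_lit 5, nat_lit 2, nat_lit 4, nat_lit 3, nat_lit 2, nat_lit 1, nat_lit 0])))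
 (.node (nat_lit 30) (.node (nat_lit 29) (.leaf [nat_lit 3, nat_lit 5, nat_lit 2, nat_lit 4, nat_lit 1, nat_lit 0]) (.leaf [nat_lit 2, nat_lit 5, nat_lit 3, nat_lit 4, nat_lit 2, nat_lit 1])) (.node (nat_lit 31) (.leaf [nat_lit 1, nat_lit 0, nat_lit 5, nat_lit 4, nat_lit 3, nat_lit 0]) (.leaf [nat_lit 1, nat_lit 5, nat_lit 3, nat_lit 4, nat_lit 2]))))))
 (.node (nat_lit 48) (.node (nat_lit 40) (.node (nat_lit 36) (.node (nat_lit 34) (.node (nat_lit 33) (.leaf [nat_lit 0, nat_lit 5, nat_lit 3, nat_lit 4, nat_lit 3, nat_lit 2, nat_lit 1]) (.leaf [nat_lit 5, nat_lit 0, nat_lit 4, nat_lit 1, nat_lit 0])) (.node (nat_lit 35) (.leaf [nat_lit 5, nat_lit 4, nat_lit 3, nat_lit 1]) (.leaf [nat_lit 3, nat_lit 5, nat_lit 4, nat_lit 2, nat_lit 1])))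
 (.node (nat_lit 38) (.node (nat_lit 37) (.leaf [nat_lit 5, nat_lit 3, nat_lit 1, nat_lit 4, nat_lit 3, nat_lit 2, nat_lit 0]) (.leaf [nat_lit 2, nat_lit 5, nat_lit 4, nat_lit 3, nat_lit 2, nat_lit 1])) (.node (nat_lit 39) (.leaf [nat_lit 0, nat_lit 5, nat_lit 3, nat_lit 4, nat_lit 2, nat_lit 1, nat_lit 0]) (.leaf [nat_lit 3, nat_lit 1, nat_lit 4, nat_lit 5]))))
 (.node (nat_lit 44) (.node (nat_lit 42) (.node (nat_lit 41) (.leaf [nat_lit 1, nat_lit 5, nat_lit 4, nat_lit 3]) (.leaf [nat_lit 4, nat_lit 0, nat_lit 5, nat_lit 1, nat_lit 0])) (.node (nat_lit 43) (.leaf [nat_lit 3, nat_lit 1, nat_lit 4, nat_lit 5, nat_lit 3, nat_lit 2, nat_lit 0]) (.leaf [nat_lit 5, nat_lit 3, nat_lit 4, nat_lit 1, nat_lit 0])))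
 (.node (nat_lit 46) (.node (nat_lit 45) (.leaf [nat_lit 4, nat_lit 5, nat_lit 3, nat_lit 1]) (.leaf [nat_lit 3, nat_lit 5, nat_lit 4, nat_lit 1])) (.node (nat_lit 47) (.leaf [nat_lit 5, nat_lit 3, nat_lit 0, nat_lit 4, nat_lit 2, nat_lit 1]) (.leaf [nat_lit 4, nat_lit 0, nat_lit 5, nat_lit 1])))))
 (.node (nat_lit 56) (.node (nat_lit 52) (.node (nat_lit 50) (.node (nat_lit 49) (.leaf [nat_lit 3, nat_lit 5, nat_lit 3, nat_lit 4, nat_lit 3, nat_lit 2, nat_lit 1]) (.leaf [nat_lit 2, nat_lit 5, nat_lit 2, nat_lit 4, nat_lit 2, nat_lit 1])) (.node (nat_lit 51) (.leaf [nat_lit 1, nat_lit 5, nat_lit 2, nat_lit 4]) (.leaf [nat_lit 2, nat_lit 5, nat_lit 2, nat_lit 4, nat_lit 1, nat_lit 0])))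
 (.node (nat_lit 54) (.node (nat_lit 53) (.leaf [nat_lit 3, nat_lit 5, nat_lit 1, nat_lit 4]) (.leaf [nat_lit 3, nat_lit 5, nat_lit 2, nat_lit 4, nat_lit 3, nat_lit 2, nat_lit 1])) (.node (nat_lit 55) (.leaf [nat_lit 4, nat_lit 0, nat_lit 5, nat_lit 2, nat_lit 1, nat_lit 0]) (.leaf [nat_lit 5, nat_lit 3, nat_lit 4, nat_lit 3, nat_lit 2, nat_lit 1, nat_lit 0]))))
 (.node (nat_lit 60) (.node (nat_lit 58) (.node (nat_lit 57) (.leaf [nat_lit 5, nat_lit 1, nat_lit 4, nat_lit 2, nat_lit 0]) (.leaf [nat_lit 2, nat_lit 5, nat_lit 3, nat_lit 4, nat_lit 1])) (.node (nat_lit 59) (.leaf [nat_lit 5, nat_lit 3, nat_lit 4, nat_lit 1]) (.leaf [nat_lit 4, nat_lit 5, nat_lit 3, nat_lit 2, nat_lit 1])))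
 (.node (nat_lit 62) (.node (nat_lit 61) (.leaf [nat_lit 3, nat_lit 5, nat_lit 1, nat_lit 4, nat_lit 3, nat_lit 2, nat_lit 0]) (.leaf [nat_lit 5, nat_lit 3, nat_lit 0, nat_lit 4, nat_lit 3, nat_lit 1, nat_lit 0])) (.node (nat_lit 63) (.leaf [nat_lit 2, nat_lit 1, nat_lit 5, nat_lit 4, nat_lit 0]) (.leaf [nat_lit 4, nat_lit 3, nat_lit 1, nat_lit 5, nat_lit 3, nat_lit 2])))))))
 (.node (nat_lit 96) (.node (nat_lit 80) (.node (nat_lit 72) (.node (nat_lit 68) (.node (nat_lit 66) (.node (nat_lit 65) (.leaf [nat_lit 4, nat_lit 3, nat_lit 1, nat_lit 5, nat_lit 3, nat_lit 2, nat_lit 0]) (.leaf [nat_lit 4, nat_lit 1, nat_lit 5, nat_lit 2, nat_lit 0])) (.node (nat_lit 67) (.leaf [nat_lit 3, nat_lit 1, nat_lit 4, nat_lit 5, nat_lit 0]) (.leaf [nat_lit 2, nat_lit 5, nat_lit 4, nat_lit 3, nat_lit 1])))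
 (.node (nat_lit 70) (.node (nat_lit 69) (.leaf [nat_lit 3, nat_lit 1, nat_lit 4, nat_lit 5, nat_lit 2]) (.leaf [nat_lit 0, nat_lit 5, nat_lit 4, nat_lit 3, nat_lit 2, nat_lit 1, nat_lit 0])) (.node (nat_lit 71) (.leaf [nat_lit 1, nat_lit 5, nat_lit 3, nat_lit 4, nat_lit 0]) (.leaf [nat_lit 5, nat_lit 3, nat_lit 1, nat_lit 4]))))
 (.node (nat_lit 76) (.node (nat_lit 74) (.node (nat_lit 73) (.leaf [nat_lit 1, nat_lit 4, nat_lit 5, nat_lit 3]) (.leaf [nat_lit 1, nat_lit 0, nat_lit 5, nat_lit 4, nat_lit 3, nat_lit 2, nat_lit 0])) (.node (nat_lit 75) (.leaf [nat_lit 0, nat_lit 5, nat_lit 4, nat_lit 3, nat_lit 1, nat_lit 0]) (.leaf [nat_lit 0, nat_lit 5, nat_lit 0, nat_lit 4, nat_lit 1])))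
 (.node (nat_lit 78) (.node (nat_lit 77) (.leaf [nat_lit 5, nat_lit 3, nat_lit 0, nat_lit 4, nat_lit 3, nat_lit 2, nat_lit 1, nat_lit 0]) (.leaf [nat_lit 4, nat_lit 3, nat_lit 5, nat_lit 1])) (.node (nat_lit 79) (.leaf [nat_lit 5, nat_lit 1, nat_lit 4, nat_lit 2]) (.leaf [nat_lit 3, nat_lit 4, nat_lit 5, nat_lit 3, nat_lit 2, nat_lit 1, nat_lit 0])))))
 (.node (nat_lit 88) (.node (nat_lit 84) (.node (nat_lit 82) (.node (nat_lit 81) (.leaf [nat_lit 1, nat_lit 5, nat_lit 2, nat_lit 4, nat_lit 2, nat_lit 0]) (.leaf [nat_lit 5, nat_lit 3, nat_lit 1, nat_lit 4, nat_lit 3, nat_lit 0])) (.node (nat_lit 83) (.leaf [nat_lit 5, nat_lit 3, nat_lit 4, nat_lit 2, nat_lit 1]) (.leaf [nat_lit 3, nat_lit 5, nat_lit 1, nat_lit 4, nat_lit 3, nat_lit 0])))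
 (.node (nat_lit 86) (.node (nat_lit 85) (.leaf [nat_lit 3, nat_lit 5, nat_lit 4, nat_lit 1, nat_lit 0]) (.leaf [nat_lit 5, nat_lit 2, nat_lit 4, nat_lit 2, nat_lit 1])) (.node (nat_lit 87) (.leaf [nat_lit 5, nat_lit 4, nat_lit 3, nat_lit 2, nat_lit 1]) (.leaf [nat_lit 1, nat_lit 0, nat_lit 5, nat_lit 4, nat_lit 2]))))
 (.node (nat_lit 92) (.node (nat_lit 90) (.node (nat_lit 89) (.leaf [nat_lit 2, nat_lit 4, nat_lit 5, nat_lit 3, nat_lit 2, nat_lit 1, nat_lit 0]) (.leaf [nat_lit 3, nat_lit 5, nat_lit 2, nat_lit 4, nat_lit 3, nat_lit 2, nat_lit 1, nat_lit 0])) (.node (nat_lit 91) (.leaf [nat_lit 2, nat_lit 4, nat_lit 5, nat_lit 3, nat_lit 1]) (.leaf [nat_lit 5, nat_lit 0, nat_lit 4, nat_lit 2, nat_lit 1, nat_lit 0])))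
 (.node (nat_lit 94) (.node (nat_lit 93) (.leaf [nat_lit 0, nat_lit 4, nat_lit 5, nat_lit 3, nat_lit 2, nat_lit 1, nat_lit 0]) (.leaf [nat_lit 1, nat_lit 5, nat_lit 4, nat_lit 3, nat_lit 0])) (.node (nat_lit 95) (.leaf [nat_lit 0, nat_lit 5, nat_lit 3, nat_lit 4, nat_lit 1, nat_lit 0]) (.leaf [nat_lit 2, nat_lit 5, nat_lit 2, nat_lit 4, nat_lit 1]))))))
 (.node (nat_lit 112) (.node (nat_lit 104) (.node (nat_lit 100) (.node (nat_lit 98) (.node (nat_lit 97) (.leaf [nat_lit 1, nat_lit 5, nat_lit 3, nat_lit 4, nat_lit 3, nat_lit 2, nat_lit 0]) (.leaf [nat_lit 3, nat_lit 5, nat_lit 3, nat_lit 4, nat_lit 3, nat_lit 1, nat_lit 0])) (.node (nat_lit 99) (.leaf [nat_lit 3, nat_lit 4, nat_lit 5, nat_lit 1]) (.leaf [nat_lit 1, nat_lit 4, nat_lit 5, nat_lit 2, nat_lit 0])))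
 (.node (nat_lit 102) (.node (nat_lit 101) (.leaf [nat_lit 4, nat_lit 3, nat_lit 5, nat_lit 2, nat_lit 1]) (.leaf [nat_lit 0, nat_lit 5, nat_lit 3, nat_lit 4, nat_lit 1])) (.node (nat_lit 103) (.leaf [nat_lit 0, nat_lit 4, nat_lit 5, nat_lit 2, nat_lit 1]) (.leaf [nat_lit 0, nat_lit 5, nat_lit 0, nat_lit 4, nat_lit 3, nat_lit 2, nat_lit 1, nat_lit 0]))))
 (.node (nat_lit 108) (.node (nat_lit 106) (.node (nat_lit 105) (.leaf [nat_lit 4, nat_lit 1, nat_lit 5, nat_lit 2]) (.leaf [nat_lit 3, nat_lit 5, nat_lit 4, nat_lit 3, nat_lit 2, nat_lit 1, nat_lit 0])) (.node (nat_lit 107) (.leaf [nat_lit 3, nat_lit 4, nat_lit 5, nat_lit 1, nat_lit 0]) (.leaf [nat_lit 1, nat_lit 5, nat_lit 4, nat_lit 3, nat_lit 2])))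
 (.node (nat_lit 110) (.node (nat_lit 109) (.leaf [nat_lit 2, nat_lit 5, nat_lit 3, nat_lit 4, nat_lit 2, nat_lit 1, nat_lit 0]) (.leaf [nat_lit 2, nat_lit 4, nat_lit 5, nat_lit 3, nat_lit 2, nat_lit 1])) (.node (nat_lit 111) (.leaf [nat_lit 2, nat_lit 4, nat_lit 5, nat_lit 1, nat_lit 0]) (.leaf [nat_lit 1, nat_lit 4, nat_lit 5, nat_lit 3, nat_lit 0])))))
 (.node (nat_lit 120) (.node (nat_lit 116) (.node (nat_lit 114) (.node (nat_lit 113) (.leaf [nat_lit 5, nat_lit 2, nat_lit 4, nat_lit 1]) (.leaf [nat_lit 0, nat_lit 4, nat_lit 5, nat_lit 3, nat_lit 1])) (.node (nat_lit 115) (.leaf [nat_lit 5, nat_lit 0, nat_lit 4, nat_lit 1]) (.leaf [nat_lit 2, nat_lit 1, nat_lit 5, nat_lit 4, nat_lit 3, nat_lit 2, nat_lit 0])))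
 (.node (nat_lit 118) (.node (nat_lit 117) (.leaf [nat_lit 4, nat_lit 1, nat_lit 5, nat_lit 0]) (.leaf [nat_lit 2, nat_lit 5, nat_lit 4, nat_lit 3, nat_lit 2, nat_lit 1, nat_lit 0])) (.node (nat_lit 119) (.leaf [nat_lit 0, nat_lit 5, nat_lit 4, nat_lit 2, nat_lit 1]) (.leaf [nat_lit 5, nat_lit 3, nat_lit 0, nat_lit 4, nat_lit 3, nat_lit 1]))))
 (.node (nat_lit 124) (.node (nat_lit 122) (.node (nat_lit 121) (.leaf [nat_lit 5, nat_lit 2, nat_lit 4, nat_lit 2, nat_lit 1, nat_lit 0]) (.leaf [nat_lit 5, nat_lit 3, nat_lit 1, nat_lit 4, nat_lit 3, nat_lit 2])) (.node (nat_lit 123) (.leaf [nat_lit 2, nat_lit 1, nat_lit 5, nat_lit 4, nat_lit 3]) (.leaf [nat_lit 2, nat_lit 5, nat_lit 4, nat_lit 1, nat_lit 0])))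
 (.node (nat_lit 126) (.node (nat_lit 125) (.leaf [nat_lit 1, nat_lit 4, nat_lit 5, nat_lit 3, nat_lit 2]) (.leaf [nat_lit 0, nat_lit 5, nat_lit 4, nat_lit 3, nat_lit 1])) (.node (nat_lit 127) (.leaf [nat_lit 1, nat_lit 5, nat_lit 4, nat_lit 2, nat_lit 0]) (.leaf [nat_lit 5, nat_lit 4, nat_lit 3, nat_lit 1, nat_lit 0]))))))))
 (.node (nat_lit 192) (.node (nat_lit 160) (.node (nat_lit 144) (.node (nat_lit 136) (.node (nat_lit 132) (.node (nat_lit 130) (.node (nat_lit 129) (.leaf [nat_lit 0, nat_lit 5, nat_lit 0, nat_lit 4, nat_lit 1, nat_lit 0]) (.leaf [nat_lit 4, nat_lit 0, nat_lit 5, nat_lit 3, nat_lit 2, nat_lit 1])) (.node (nat_lit 131) (.leaf [nat_lit 4, nat_lit 5, nat_lit 2, nat_lit 1, nat_lit 0]) (.leaf [nat_lit 5, nat_lit 0, nat_lit 4, nat_lit 3, nat_lit 2, nat_lit 1])))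
 (.node (nat_lit 134) (.node (nat_lit 133) (.leaf [nat_lit 4, nat_lit 3, nat_lit 5, nat_lit 1, nat_lit 0]) (.leaf [nat_lit 5, nat_lit 1, nat_lit 4, nat_lit 0])) (.node (nat_lit 135) (.leaf [nat_lit 1, nat_lit 5, nat_lit 2, nat_lit 4, nat_lit 2]) (.leaf [nat_lit 1, nat_lit 0, nat_lit 5, nat_lit 4, nat_lit 3]))))
 (.node (nat_lit 140) (.node (nat_lit 138) (.node (nat_lit 137) (.leaf [nat_lit 4, nat_lit 5, nat_lit 3, nat_lit 1, nat_lit 0]) (.leaf [nat_lit 5, nat_lit 4, nat_lit 2, nat_lit 1, nat_lit 0])) (.node (nat_lit 139) (.leaf [nat_lit 3, nat_lit 5, nat_lit 1, nat_lit 4, nat_lit 3, nat_lit 2]) (.leaf [nat_lit 0, nat_lit 5, nat_lit 0, nat_lit 4, nat_lit 2, nat_lit 1])))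
 (.node (nat_lit 142) (.node (nat_lit 141) (.leaf [nat_lit 3, nat_lit 5, nat_lit 2, nat_lit 4, nat_lit 3, nat_lit 1]) (.leaf [nat_lit 6, nat_lit 2, nat_lit 6, nat_lit 0, nat_lit 4, nat_lit 2])) (.node (nat_lit 143) (.leaf [nat_lit 4, nat_lit 2, nat_lit 0, nat_lit 4, nat_lit 2, nat_lit 0]) (.leaf [nat_lit 5, nat_lit 3, nat_lit 5, nat_lit 3])))))
 (.node (nat_lit 152) (.node (nat_lit 148) (.node (nat_lit 146) (.node (nat_lit 145) (.leaf [nat_lit 5, nat_lit 3, nat_lit 2, nat_lit 5, nat_lit 3, nat_lit 2]) (.leaf [nat_lit 5, nat_lit 2, nat_lit 5, nat_lit 2])) (.node (nat_lit 147) (.leaf [nat_lit 1, nat_lit 4, nat_lit 2, nat_lit 4, nat_lit 2, nat_lit 1]) (.leaf [nat_lit 0, nat_lit 5, nat_lit 1, nat_lit 5, nat_lit 3, nat_lit 2, nat_lit 1])))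
 (.node (nat_lit 150) (.node (nat_lit 149) (.leaf [nat_lit 0, nat_lit 4, nat_lit 3, nat_lit 0, nat_lit 4, nat_lit 3]) (.leaf [nat_lit 3, nat_lit 1, nat_lit 4, nat_lit 1, nat_lit 0])) (.node (nat_lit 151) (.leaf [nat_lit 1, nat_lit 6, nat_lit 0, nat_lit 6, nat_lit 1, nat_lit 0]) (.leaf [nat_lit 5, nat_lit 4, nat_lit 3, nat_lit 4, nat_lit 0]))))
 (.node (nat_lit 156) (.node (nat_lit 154) (.node (nat_lit 153) (.leaf [nat_lit 2, nat_lit 1, nat_lit 0, nat_lit 6, nat_lit 3, nat_lit 1, nat_lit 0]) (.leaf [nat_lit 6, nat_lit 4, nat_lit 2, nat_lit 6, nat_lit 2, nat_lit 0])) (.node (nat_lit 155) (.leaf [nat_lit 4, nat_lit 3, nat_lit 4, nat_lit 3]) (.leaf [nat_lit 4, nat_lit 1, nat_lit 4, nat_lit 2, nat_lit 1, nat_lit 0])))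
 (.node (nat_lit 158) (.node (nat_lit 157) (.leaf [nat_lit 0, nat_lit 6, nat_lit 2, nat_lit 6, nat_lit 2, nat_lit 0]) (.leaf [nat_lit 3, nat_lit 4, nat_lit 0, nat_lit 4, nat_lit 3, nat_lit 0])) (.node (nat_lit 159) (.leaf [nat_lit 6, nat_lit 1, nat_lit 0, nat_lit 6, nat_lit 3, nat_lit 1]) (.leaf [nat_lit 5, nat_lit 1, nat_lit 0, nat_lit 5, nat_lit 3, nat_lit 2, nat_lit 1]))))))
 (.node (nat_lit 176) (.node (nat_lit 168) (.node (nat_lit 164) (.node (nat_lit 162) (.node (nat_lit 161) (.leaf [nat_lit 6, nat_lit 2, nat_lit 6, nat_lit 0, nat_lit 4, nat_lit 3, nat_lit 0]) (.leaf [nat_lit 4, nat_lit 2, nat_lit 1, nat_lit 4, nat_lit 1, nat_lit 0])) (.node (nat_lit 163) (.leaf [nat_lit 3, nat_lit 5, nat_lit 0]) (.leaf [nat_lit 6, nat_lit 3, nat_lit 4, nat_lit 0, nat_lit 4, nat_lit 3, nat_lit 2])))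
 (.node (nat_lit 166) (.node (nat_lit 165) (.leaf [nat_lit 5, nat_lit 4, nat_lit 0, nat_lit 5]) (.leaf [nat_lit 2, nat_lit 1, nat_lit 0, nat_lit 4, nat_lit 3, nat_lit 2, nat_lit 1])) (.node (nat_lit 167) (.leaf [nat_lit 4, nat_lit 3, nat_lit 4, nat_lit 5, nat_lit 0]) (.leaf [nat_lit 4, nat_lit 2, nat_lit 6, nat_lit 1, nat_lit 4, nat_lit 2, nat_lit 1]))))
 (.node (nat_lit 172) (.node (nat_lit 170) (.node (nat_lit 169) (.leaf [nat_lit 1, nat_lit 4, nat_lit 2, nat_lit 1]) (.leaf [nat_lit 3, nat_lit 4, nat_lit 2])) (.node (nat_lit 171) (.leaf [nat_lit 3, nat_lit 0, nat_lit 5]) (.leaf [nat_lit 3, nat_lit 6, nat_lit 3, nat_lit 2, nat_lit 0])))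
 (.node (nat_lit 174) (.node (nat_lit 173) (.leaf [nat_lit 2, nat_lit 4, nat_lit 5, nat_lit 2, nat_lit 1]) (.leaf [nat_lit 3, nat_lit 5, nat_lit 4, nat_lit 3, nat_lit 1])) (.node (nat_lit 175) (.leaf [nat_lit 0, nat_lit 5, nat_lit 0, nat_lit 4, nat_lit 3, nat_lit 1]) (.leaf [nat_lit 4, nat_lit 5, nat_lit 1])))))
 (.node (nat_lit 184) (.node (nat_lit 180) (.node (nat_lit 178) (.node (nat_lit 177) (.leaf [nat_lit 0, nat_lit 5, nat_lit 4, nat_lit 1, nat_lit 0]) (.leaf [nat_lit 1, nat_lit 5, nat_lit 3, nat_lit 4, nat_lit 2, nat_lit 0])) (.node (nat_lit 179) (.leaf [nat_lit 1, nat_lit 5, nat_lit 2, nat_lit 4, nat_lit 0]) (.leaf [nat_lit 1, nat_lit 5, nat_lit 4, nat_lit 0])))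
 (.node (nat_lit 182) (.node (nat_lit 181) (.leaf [nat_lit 5, nat_lit 0, nat_lit 4, nat_lit 3, nat_lit 1, nat_lit 0]) (.leaf [nat_lit 0, nat_lit 4, nat_lit 5, nat_lit 1, nat_lit 0])) (.node (nat_lit 183) (.leaf [nat_lit 5, nat_lit 4, nat_lit 1]) (.leaf [nat_lit 2, nat_lit 1, nat_lit 5, nat_lit 4, nat_lit 3, nat_lit 0]))))
 (.node (nat_lit 188) (.node (nat_lit 186) (.node (nat_lit 185) (.leaf [nat_lit 2, nat_lit 5, nat_lit 3, nat_lit 4, nat_lit 1, nat_lit 0]) (.leaf [nat_lit 1, nat_lit 0, nat_lit 5, nat_lit 4])) (.node (nat_lit 187) (.leaf [nat_lit 1, nat_lit 4, nat_lit 5]) (.leaf [nat_lit 1, nat_lit 0, nat_lit 5, nat_lit 4, nat_lit 0])))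
 (.node (nat_lit 190) (.node (nat_lit 189) (.leaf [nat_lit 1, nat_lit 4, nat_lit 5, nat_lit 3, nat_lit 2, nat_lit 0]) (.leaf [nat_lit 2, nat_lit 4, nat_lit 5, nat_lit 2, nat_lit 1, nat_lit 0])) (.node (nat_lit 191) (.leaf [nat_lit 3, nat_lit 4, nat_lit 5, nat_lit 3, nat_lit 1]) (.leaf [nat_lit 5, nat_lit 1, nat_lit 4])))))))
 (.node (nat_lit 224) (.node (nat_lit 208) (.node (nat_lit 200) (.node (nat_lit 196) (.node (nat_lit 194) (.node (nat_lit 193) (.leaf [nat_lit 0, nat_lit 4, nat_lit 5, nat_lit 3, nat_lit 2, nat_lit 1]) (.leaf [nat_lit 5, nat_lit 3, nat_lit 1, nat_lit 4, nat_lit 2])) (.node (nat_lit 195) (.leaf [nat_lit 3, nat_lit 1, nat_lit 4, nat_lit 5, nat_lit 2, nat_lit 0]) (.leaf [nat_lit 4, nat_lit 3, nat_lit 5, nat_lit 2, nat_lit 1, nat_lit 0])))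
 (.node (nat_lit 198) (.node (nat_lit 197) (.leaf [nat_lit 3, nat_lit 5, nat_lit 2, nat_lit 4, nat_lit 2, nat_lit 1, nat_lit 0]) (.leaf [nat_lit 5, nat_lit 3, nat_lit 1, nat_lit 4, nat_lit 3])) (.node (nat_lit 199) (.leaf [nat_lit 5, nat_lit 3, nat_lit 4, nat_lit 2, nat_lit 1, nat_lit 0]) (.leaf [nat_lit 3, nat_lit 5, nat_lit 1, nat_lit 4, nat_lit 3]))))
 (.node (nat_lit 204) (.node (nat_lit 202) (.node (nat_lit 201) (.leaf [nat_lit 5, nat_lit 3, nat_lit 0, nat_lit 4, nat_lit 3, nat_lit 2, nat_lit 1]) (.leaf [nat_lit 3, nat_lit 5, nat_lit 1, nat_lit 4, nat_lit 2, nat_lit 0])) (.node (nat_lit 203) (.leaf [nat_lit 0, nat_lit 5, nat_lit 0, nat_lit 4, nat_lit 3, nat_lit 2, nat_lit 1]) (.leaf [nat_lit 4, nat_lit 1, nat_lit 5])))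
 (.node (nat_lit 206) (.node (nat_lit 205) (.leaf [nat_lit 5, nat_lit 2, nat_lit 4, nat_lit 1, nat_lit 0]) (.leaf [nat_lit 4, nat_lit 3, nat_lit 1, nat_lit 5, nat_lit 3])) (.node (nat_lit 207) (.leaf [nat_lit 3, nat_lit 5, nat_lit 3, nat_lit 4, nat_lit 2, nat_lit 1]) (.leaf [nat_lit 5, nat_lit 4, nat_lit 1, nat_lit 0])))))
 (.node (nat_lit 216) (.node (nat_lit 212) (.node (nat_lit 210) (.node (nat_lit 209) (.leaf [nat_lit 2, nat_lit 1, nat_lit 5, nat_lit 4, nat_lit 2, nat_lit 0]) (.leaf [nat_lit 5, nat_lit 0, nat_lit 4, nat_lit 3, nat_lit 1])) (.node (nat_lit 211) (.leaf [nat_lit 4, nat_lit 5, nat_lit 2, nat_lit 1]) (.leaf [nat_lit 4, nat_lit 0, nat_lit 5, nat_lit 3, nat_lit 1, nat_lit 0])))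
 (.node (nat_lit 214) (.node (nat_lit 213) (.leaf [nat_lit 1, nat_lit 5, nat_lit 4]) (.leaf [nat_lit 2, nat_lit 4, nat_lit 5, nat_lit 3, nat_lit 1, nat_lit 0])) (.node (nat_lit 215) (.leaf [nat_lit 3, nat_lit 5, nat_lit 4, nat_lit 3, nat_lit 1, nat_lit 0]) (.leaf [nat_lit 2, nat_lit 5, nat_lit 4, nat_lit 2, nat_lit 1]))))
 (.node (nat_lit 220) (.node (nat_lit 218) (.node (nat_lit 217) (.leaf [nat_lit 5, nat_lit 0, nat_lit 4, nat_lit 2, nat_lit 1]) (.leaf [nat_lit 3, nat_lit 4, nat_lit 5, nat_lit 2, nat_lit 1, nat_lit 0])) (.node (nat_lit 219) (.leaf [nat_lit 1, nat_lit 5, nat_lit 3, nat_lit 4, nat_lit 3, nat_lit 0]) (.leaf [nat_lit 3, nat_lit 5, nat_lit 1, nat_lit 4, nat_lit 2])))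
 (.node (nat_lit 222) (.node (nat_lit 221) (.leaf [nat_lit 2, nat_lit 5, nat_lit 4, nat_lit 3, nat_lit 1, nat_lit 0]) (.leaf [nat_lit 1, nat_lit 5, nat_lit 4, nat_lit 3, nat_lit 2, nat_lit 0])) (.node (nat_lit 223) (.leaf [nat_lit 4, nat_lit 0, nat_lit 5, nat_lit 2, nat_lit 1]) (.leaf [nat_lit 1, nat_lit 5, nat_lit 4, nat_lit 2]))))))
 (.node (nat_lit 240) (.node (nat_lit 232) (.node (nat_lit 228) (.node (nat_lit 226) (.node (nat_lit 225) (.leaf [nat_lit 3, nat_lit 5, nat_lit 2, nat_lit 4, nat_lit 2, nat_lit 1]) (.leaf [nat_lit 0, nat_lit 4, nat_lit 5, nat_lit 2, nat_lit 1, nat_lit 0])) (.node (nat_lit 227) (.leaf [nat_lit 0, nat_lit 5, nat_lit 4, nat_lit 1]) (.leaf [nat_lit 3, nat_lit 1, nat_lit 4, nat_lit 5, nat_lit 3, nat_lit 0])))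
 (.node (nat_lit 230) (.node (nat_lit 229) (.leaf [nat_lit 0, nat_lit 5, nat_lit 0, nat_lit 4, nat_lit 3, nat_lit 1, nat_lit 0]) (.leaf [nat_lit 4, nat_lit 3, nat_lit 1, nat_lit 5, nat_lit 0])) (.node (nat_lit 231) (.leaf [nat_lit 3, nat_lit 1, nat_lit 4, nat_lit 5, nat_lit 3]) (.leaf [nat_lit 0, nat_lit 5, nat_lit 3, nat_lit 4, nat_lit 2, nat_lit 1]))))
 (.node (nat_lit 236) (.node (nat_lit 234) (.node (nat_lit 233) (.leaf [nat_lit 3, nat_lit 5, nat_lit 3, nat_lit 4, nat_lit 1, nat_lit 0]) (.leaf [nat_lit 3, nat_lit 5, nat_lit 4, nat_lit 2, nat_lit 1, nat_lit 0])) (.node (nat_lit 235) (.leaf [nat_lit 4, nat_lit 1, nat_lit 5, nat_lit 3, nat_lit 2]) (.leaf [nat_lit 4, nat_lit 5, nat_lit 3, nat_lit 2, nat_lit 1, nat_lit 0])))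
 (.node (nat_lit 238) (.node (nat_lit 237) (.leaf [nat_lit 0, nat_lit 5, nat_lit 0, nat_lit 4, nat_lit 2, nat_lit 1, nat_lit 0]) (.leaf [nat_lit 2, nat_lit 5, nat_lit 3, nat_lit 4, nat_lit 3, nat_lit 2, nat_lit 1])) (.node (nat_lit 239) (.leaf [nat_lit 3, nat_lit 5, nat_lit 1, nat_lit 4, nat_lit 0]) (.leaf [nat_lit 4, nat_lit 5, nat_lit 1, nat_lit 0])))))
 (.node (nat_lit 248) (.node (nat_lit 244) (.node (nat_lit 242) (.node (nat_lit 241) (.leaf [nat_lit 1, nat_lit 0, nat_lit 5, nat_lit 4, nat_lit 2, nat_lit 0]) (.leaf [nat_lit 1, nat_lit 4, nat_lit 5, nat_lit 2])) (.node (nat_lit 243) (.leaf [nat_lit 1, nat_lit 5, nat_lit 3, nat_lit 4, nat_lit 3]) (.leaf [nat_lit 0, nat_lit 5, nat_lit 4, nat_lit 2, nat_lit 1, nat_lit 0])))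
 (.node (nat_lit 246) (.node (nat_lit 245) (.leaf [nat_lit 0, nat_lit 5, nat_lit 3, nat_lit 4, nat_lit 3, nat_lit 1]) (.leaf [nat_lit 2, nat_lit 5, nat_lit 2, nat_lit 4, nat_lit 3, nat_lit 1, nat_lit 0])) (.node (nat_lit 247) (.leaf [nat_lit 2, nat_lit 5, nat_lit 3, nat_lit 4, nat_lit 3, nat_lit 1]) (.leaf [nat_lit 1, nat_lit 0, nat_lit 5, nat_lit 4, nat_lit 3, nat_lit 2]))))
 (.node (nat_lit 252) (.node (nat_lit 250) (.node (nat_lit 249) (.leaf [nat_lit 5, nat_lit 1, nat_lit 4, nat_lit 3, nat_lit 0]) (.leaf [nat_lit 3, nat_lit 5, nat_lit 2, nat_lit 4, nat_lit 3, nat_lit 1, nat_lit 0])) (.node (nat_lit 251) (.leaf [nat_lit 5, nat_lit 1, nat_lit 4, nat_lit 3, nat_lit 2, nat_lit 0]) (.leaf [nat_lit 5, nat_lit 3, nat_lit 4, nat_lit 3, nat_lit 2, nat_lit 1])))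
 (.node (nat_lit 254) (.node (nat_lit 253) (.leaf [nat_lit 4, nat_lit 3, nat_lit 5, nat_lit 3, nat_lit 1, nat_lit 0]) (.leaf [nat_lit 5, nat_lit 2, nat_lit 4, nat_lit 3, nat_lit 2, nat_lit 1, nat_lit 0])) (.node (nat_lit 255) (.leaf [nat_lit 3, nat_lit 4, nat_lit 5, nat_lit 3, nat_lit 2, nat_lit 1]) (.leaf [nat_lit 2, nat_lit 5, nat_lit 2, nat_lit 4, nat_lit 2, nat_lit 1, nat_lit 0])))))))))
noncomputable def bWT_1 : Tr (List ℕ) := (.node (nat_lit 384) (.node (nat_lit 320) (.node (nat_lit 288) (.node (nat_lit 272) (.node (nat_lit 264) (.node (nat_lit 260) (.node (nat_lit 258) (.node (nat_lit 257) (.leaf [nat_lit 5, nat_lit 2, nat_lit 4, nat_lit 3, nat_lit 2, nat_lit 1]) (.leaf [nat_lit 3, nat_lit 5, nat_lit 2, nat_lit 4, nat_lit 1])) (.node (nat_lit 259) (.leaf [nat_lit 3, nat_lit 5, nat_lit 3, nat_lit 4, nat_lit 3, nat_lit 2, nat_lit 1, nat_lit 0]) (.leaf [nat_lit 2, nat_lit 1, nat_lit 5,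 nat_lit 4, nat_lit 2])))
 (.node (nat_lit 262) (.node (nat_lit 261) (.leaf [nat_lit 4, nat_lit 3, nat_lit 1, nat_lit 5, nat_lit 2, nat_lit 0]) (.leaf [nat_lit 5, nat_lit 4, nat_lit 2, nat_lit 1])) (.node (nat_lit 263) (.leaf [nat_lit 3, nat_lit 5, nat_lit 3, nat_lit 4, nat_lit 1]) (.leaf [nat_lit 3, nat_lit 1, nat_lit 4, nat_lit 5, nat_lit 3, nat_lit 2]))))
 (.node (nat_lit 268) (.node (nat_lit 266) (.node (nat_lit 265) (.leaf [nat_lit 4, nat_lit 1, nat_lit 5, nat_lit 3, nat_lit 2, nat_lit 0]) (.leaf [nat_lit 5, nat_lit 4, nat_lit 3, nat_lit 2, nat_lit 1, nat_lit 0])) (.node (nat_lit 267) (.leaf [nat_lit 2, nat_lit 5, nat_lit 3, nat_lit 4, nat_lit 3, nat_lit 2, nat_lit 1, nat_lit 0]) (.leaf [nat_lit 5, nat_lit 0, nat_lit 4, nat_lit 3, nat_lit 2, nat_lit 1, nat_lit 0])))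
 (.node (nat_lit 270) (.node (nat_lit 269) (.leaf [nat_lit 2, nat_lit 4, nat_lit 5, nat_lit 1]) (.leaf [nat_lit 2, nat_lit 5, nat_lit 4, nat_lit 1])) (.node (nat_lit 271) (.leaf [nat_lit 5, nat_lit 3, nat_lit 1, nat_lit 4, nat_lit 0]) (.leaf [nat_lit 5, nat_lit 3, nat_lit 0, nat_lit 4, nat_lit 1, nat_lit 0])))))
 (.node (nat_lit 280) (.node (nat_lit 276) (.node (nat_lit 274) (.node (nat_lit 273) (.leaf [nat_lit 5, nat_lit 3, nat_lit 0, nat_lit 4, nat_lit 2, nat_lit 1, nat_lit 0]) (.leaf [nat_lit 4, nat_lit 1, nat_lit 5, nat_lit 3, nat_lit 0])) (.node (nat_lit 275) (.leaf [nat_lit 2, nat_lit 5, nat_lit 4, nat_lit 2, nat_lit 1, nat_lit 0]) (.leaf [nat_lit 4, nat_lit 0, nat_lit 5, nat_lit 3, nat_lit 1])))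
 (.node (nat_lit 278) (.node (nat_lit 277) (.leaf [nat_lit 4, nat_lit 3, nat_lit 1, nat_lit 5, nat_lit 2]) (.leaf [nat_lit 1, nat_lit 5, nat_lit 2, nat_lit 4, nat_lit 3, nat_lit 2, nat_lit 0])) (.node (nat_lit 279) (.leaf [nat_lit 0, nat_lit 5, nat_lit 4, nat_lit 3, nat_lit 2, nat_lit 1]) (.leaf [nat_lit 4, nat_lit 3, nat_lit 5, nat_lit 3, nat_lit 1]))))
 (.node (nat_lit 284) (.node (nat_lit 282) (.node (nat_lit 281) (.leaf [nat_lit 0, nat_lit 5, nat_lit 3, nat_lit 4, nat_lit 3, nat_lit 2, nat_lit 1, nat_lit 0]) (.leaf [nat_lit 0, nat_lit 4, nat_lit 5, nat_lit 1])) (.node (nat_lit 283) (.leaf [nat_lit 5, nat_lit 3, nat_lit 1, nat_lit 4, nat_lit 2, nat_lit 0]) (.leaf [nat_lit 2, nat_lit 1, nat_lit 5, nat_lit 4])))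
 (.node (nat_lit 286) (.node (nat_lit 285) (.leaf [nat_lit 4, nat_lit 3, nat_lit 5, nat_lit 3, nat_lit 2, nat_lit 1]) (.leaf [nat_lit 5, nat_lit 3, nat_lit 4, nat_lit 3, nat_lit 1, nat_lit 0])) (.node (nat_lit 287) (.leaf [nat_lit 5, nat_lit 3, nat_lit 0, nat_lit 4, nat_lit 1]) (.leaf [nat_lit 5, nat_lit 1, nat_lit 4, nat_lit 3, nat_lit 2]))))))
 (.node (nat_lit 304) (.node (nat_lit 296) (.node (nat_lit 292) (.node (nat_lit 290) (.node (nat_lit 289) (.leaf [nat_lit 2, nat_lit 5, nat_lit 2, nat_lit 4, nat_lit 3, nat_lit 1]) (.leaf [nat_lit 4, nat_lit 0, nat_lit 5, nat_lit 3, nat_lit 2, nat_lit 1, nat_lit 0])) (.node (nat_lit 291) (.leaf [nat_lit 1, nat_lit 5, nat_lit 2, nat_lit 4, nat_lit 3, nat_lit 2]) (.leaf [nat_lit 3, nat_lit 5, nat_lit 4, nat_lit 3, nat_lit 2, nat_lit 1])))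
 (.node (nat_lit 294) (.node (nat_lit 293) (.leaf [nat_lit 3, nat_lit 4, nat_lit 5, nat_lit 3, nat_lit 1, nat_lit 0]) (.leaf [nat_lit 1, nat_lit 4, nat_lit 5, nat_lit 0])) (.node (nat_lit 295) (.leaf [nat_lit 2, nat_lit 5, nat_lit 2, nat_lit 4, nat_lit 3, nat_lit 2, nat_lit 1]) (.leaf [nat_lit 1, nat_lit 5, nat_lit 2, nat_lit 4, nat_lit 3]))))
 (.node (nat_lit 300) (.node (nat_lit 298) (.node (nat_lit 297) (.leaf [nat_lit 5, nat_lit 3, nat_lit 4, nat_lit 3, nat_lit 1]) (.leaf [nat_lit 1, nat_lit 5, nat_lit 3, nat_lit 4, nat_lit 3, nat_lit 2])) (.node (nat_lit 299) (.leaf [nat_lit 5, nat_lit 2, nat_lit 4, nat_lit 3, nat_lit 1]) (.leaf [nat_lit 0, nat_lit 5, nat_lit 3, nat_lit 4, nat_lit 3, nat_lit 1, nat_lit 0])))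
 (.node (nat_lit 302) (.node (nat_lit 301) (.leaf [nat_lit 5, nat_lit 3, nat_lit 4, nat_lit 5, nat_lit 3, nat_lit 0]) (.leaf [nat_lit 5, nat_lit 4, nat_lit 3, nat_lit 5, nat_lit 2])) (.node (nat_lit 303) (.leaf [nat_lit 0, nat_lit 5, nat_lit 3]) (.leaf [nat_lit 3, nat_lit 1, nat_lit 6, nat_lit 2, nat_lit 1])))))
 (.node (nat_lit 312) (.node (nat_lit 308) (.node (nat_lit 306) (.node (nat_lit 305) (.leaf [nat_lit 4, nat_lit 0]) (.leaf [nat_lit 4, nat_lit 5, nat_lit 1, nat_lit 5, nat_lit 1, nat_lit 0])) (.node (nat_lit 307) (.leaf [nat_lit 4, nat_lit 5, nat_lit 0, nat_lit 4, nat_lit 3]) (.leaf [nat_lit 5, nat_lit 2, nat_lit 5, nat_lit 6, nat_lit 0])))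
 (.node (nat_lit 310) (.node (nat_lit 309) (.leaf [nat_lit 6, nat_lit 3, nat_lit 6, nat_lit 4, nat_lit 3, nat_lit 0]) (.leaf [nat_lit 4, nat_lit 3, nat_lit 4, nat_lit 0, nat_lit 4, nat_lit 2, nat_lit 0])) (.node (nat_lit 311) (.leaf [nat_lit 4, nat_lit 2, nat_lit 5, nat_lit 4, nat_lit 3, nat_lit 2, nat_lit 0]) (.leaf [nat_lit 5, nat_lit 2, nat_lit 6, nat_lit 5, nat_lit 0]))))
 (.node (nat_lit 316) (.node (nat_lit 314) (.node (nat_lit 313) (.leaf [nat_lit 2, nat_lit 4, nat_lit 2, nat_lit 0]) (.leaf [nat_lit 6, nat_lit 0, nat_lit 6, nat_lit 2, nat_lit 4, nat_lit 3, nat_lit 0])) (.node (nat_lit 315) (.leaf [nat_lit 5, nat_lit 4, nat_lit 2, nat_lit 4, nat_lit 3, nat_lit 2, nat_lit 0]) (.leaf [nat_lit 3, nat_lit 1, nat_lit 0, nat_lit 6, nat_lit 2, nat_lit 1, nat_lit 0])))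
 (.node (nat_lit 318) (.node (nat_lit 317) (.leaf [nat_lit 5, nat_lit 0, nat_lit 5, nat_lit 4]) (.leaf [nat_lit 5, nat_lit 0, nat_lit 5, nat_lit 0, nat_lit 4, nat_lit 3, nat_lit 2])) (.node (nat_lit 319) (.leaf [nat_lit 5, nat_lit 3, nat_lit 4, nat_lit 5, nat_lit 2]) (.leaf [nat_lit 3, nat_lit 5, nat_lit 4, nat_lit 5, nat_lit 2])))))))
 (.node (nat_lit 352) (.node (nat_lit 336) (.node (nat_lit 328) (.node (nat_lit 324) (.node (nat_lit 322) (.node (nat_lit 321) (.leaf [nat_lit 3, nat_lit 2, nat_lit 1, nat_lit 4, nat_lit 2, nat_lit 1, nat_lit 0]) (.leaf [nat_lit 2, nat_lit 4, nat_lit 3])) (.node (nat_lit 323) (.leaf [nat_lit 3, nat_lit 0, nat_lit 4, nat_lit 2, nat_lit 0]) (.leaf [nat_lit 3, nat_lit 4, nat_lit 5, nat_lit 3, nat_lit 2, nat_lit 0])))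
 (.node (nat_lit 326) (.node (nat_lit 325) (.leaf [nat_lit 1, nat_lit 6, nat_lit 2, nat_lit 4, nat_lit 1, nat_lit 0]) (.leaf [nat_lit 2, nat_lit 5, nat_lit 3, nat_lit 2, nat_lit 1, nat_lit 0])) (.node (nat_lit 327) (.leaf [nat_lit 4, nat_lit 5, nat_lit 4, nat_lit 3, nat_lit 1, nat_lit 0]) (.leaf [nat_lit 2, nat_lit 1, nat_lit 5, nat_lit 3, nat_lit 2, nat_lit 0]))))
 (.node (nat_lit 332) (.node (nat_lit 330) (.node (nat_lit 329) (.leaf [nat_lit 5, nat_lit 3, nat_lit 1, nat_lit 0]) (.leaf [nat_lit 3, nat_lit 2, nat_lit 5, nat_lit 2, nat_lit 1, nat_lit 0])) (.node (nat_lit 331) (.leaf [nat_lit 4, nat_lit 5, nat_lit 2, nat_lit 4, nat_lit 3, nat_lit 1]) (.leaf [nat_lit 4, nat_lit 2, nat_lit 5, nat_lit 3, nat_lit 4, nat_lit 3, nat_lit 1])))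
 (.node (nat_lit 334) (.node (nat_lit 333) (.leaf [nat_lit 3, nat_lit 5, nat_lit 3, nat_lit 1]) (.leaf [nat_lit 1, nat_lit 4, nat_lit 5, nat_lit 4, nat_lit 3, nat_lit 0])) (.node (nat_lit 335) (.leaf [nat_lit 0, nat_lit 5, nat_lit 3, nat_lit 1]) (.leaf [nat_lit 3, nat_lit 4, nat_lit 5, nat_lit 4, nat_lit 1, nat_lit 0])))))
 (.node (nat_lit 344) (.node (nat_lit 340) (.node (nat_lit 338) (.node (nat_lit 337) (.leaf [nat_lit 4, nat_lit 2, nat_lit 5, nat_lit 3, nat_lit 4, nat_lit 1]) (.leaf [nat_lit 3, nat_lit 2, nat_lit 1, nat_lit 5, nat_lit 2, nat_lit 0])) (.node (nat_lit 339) (.leaf [nat_lit 2, nat_lit 5, nat_lit 2, nat_lit 1]) (.leaf [nat_lit 1, nat_lit 5, nat_lit 3, nat_lit 0])))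
 (.node (nat_lit 342) (.node (nat_lit 341) (.leaf [nat_lit 2, nat_lit 5, nat_lit 2, nat_lit 1, nat_lit 0]) (.leaf [nat_lit 4, nat_lit 3, nat_lit 4, nat_lit 5, nat_lit 1, nat_lit 0])) (.node (nat_lit 343) (.leaf [nat_lit 4, nat_lit 5, nat_lit 2, nat_lit 4, nat_lit 3, nat_lit 1, nat_lit 0]) (.leaf [nat_lit 3, nat_lit 5, nat_lit 1, nat_lit 0]))))
 (.node (nat_lit 348) (.node (nat_lit 346) (.node (nat_lit 345) (.leaf [nat_lit 4, nat_lit 2, nat_lit 5, nat_lit 4, nat_lit 3, nat_lit 1]) (.leaf [nat_lit 3, nat_lit 1, nat_lit 0, nat_lit 5])) (.node (nat_lit 347) (.leaf [nat_lit 3, nat_lit 6, nat_lit 5, nat_lit 6, nat_lit 3, nat_lit 1]) (.leaf [nat_lit 5, nat_lit 4, nat_lit 0, nat_lit 4, nat_lit 3, nat_lit 2, nat_lit 1, nat_lit 0])))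
 (.node (nat_lit 350) (.node (nat_lit 349) (.leaf [nat_lit 4, nat_lit 0, nat_lit 4, nat_lit 5, nat_lit 2, nat_lit 1, nat_lit 0]) (.leaf [nat_lit 4, nat_lit 3, nat_lit 4, nat_lit 5, nat_lit 3, nat_lit 1])) (.node (nat_lit 351) (.leaf [nat_lit 4, nat_lit 0, nat_lit 5, nat_lit 4, nat_lit 3, nat_lit 2, nat_lit 1, nat_lit 0]) (.leaf [nat_lit 5, nat_lit 4, nat_lit 1, nat_lit 4, nat_lit 2]))))))
 (.node (nat_lit 368) (.node (nat_lit 360) (.node (nat_lit 356) (.node (nat_lit 354) (.node (nat_lit 353) (.leaf [nat_lit 4, nat_lit 0, nat_lit 4, nat_lit 5, nat_lit 3, nat_lit 2, nat_lit 1, nat_lit 0]) (.leaf [nat_lit 4, nat_lit 5, nat_lit 3, nat_lit 4, nat_lit 3, nat_lit 1, nat_lit 0])) (.node (nat_lit 355) (.leaf [nat_lit 3, nat_lit 6, nat_lit 5, nat_lit 6, nat_lit 3, nat_lit 2, nat_lit 1, nat_lit 0]) (.leaf [nat_lit 3, nat_lit 1, nat_lit 5, nat_lit 3])))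
 (.node (nat_lit 358) (.node (nat_lit 357) (.leaf [nat_lit 3, nat_lit 0, nat_lit 5, nat_lit 3, nat_lit 1, nat_lit 0]) (.leaf [nat_lit 3, nat_lit 2, nat_lit 5, nat_lit 3, nat_lit 2, nat_lit 1])) (.node (nat_lit 359) (.leaf [nat_lit 5, nat_lit 1]) (.leaf [nat_lit 1, nat_lit 0, nat_lit 5, nat_lit 3]))))
 (.node (nat_lit 364) (.node (nat_lit 362) (.node (nat_lit 361) (.leaf [nat_lit 4, nat_lit 3, nat_lit 5, nat_lit 4, nat_lit 3, nat_lit 1, nat_lit 0]) (.leaf [nat_lit 3, nat_lit 6, nat_lit 5, nat_lit 6, nat_lit 1, nat_lit 0])) (.node (nat_lit 363) (.leaf [nat_lit 4, nat_lit 2, nat_lit 4, nat_lit 5, nat_lit 3, nat_lit 1, nat_lit 0]) (.leaf [nat_lit 3, nat_lit 0, nat_lit 5, nat_lit 1])))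
 (.node (nat_lit 366) (.node (nat_lit 365) (.leaf [nat_lit 2, nat_lit 1, nat_lit 5, nat_lit 2, nat_lit 0]) (.leaf [nat_lit 3, nat_lit 1, nat_lit 5, nat_lit 0])) (.node (nat_lit 367) (.leaf [nat_lit 4, nat_lit 5, nat_lit 3, nat_lit 4, nat_lit 3, nat_lit 1]) (.leaf [nat_lit 1, nat_lit 4, nat_lit 5, nat_lit 4, nat_lit 0])))))
 (.node (nat_lit 376) (.node (nat_lit 372) (.node (nat_lit 370) (.node (nat_lit 369) (.leaf [nat_lit 5, nat_lit 4, nat_lit 2, nat_lit 4, nat_lit 1]) (.leaf [nat_lit 5, nat_lit 4, nat_lit 1, nat_lit 4, nat_lit 2, nat_lit 0])) (.node (nat_lit 371) (.leaf [nat_lit 3, nat_lit 2, nat_lit 1, nat_lit 5, nat_lit 3, nat_lit 2, nat_lit 0]) (.leaf [nat_lit 3, nat_lit 4, nat_lit 5, nat_lit 4, nat_lit 3, nat_lit 1, nat_lit 0])))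
 (.node (nat_lit 374) (.node (nat_lit 373) (.leaf [nat_lit 3, nat_lit 1, nat_lit 0, nat_lit 5, nat_lit 3]) (.leaf [nat_lit 3, nat_lit 2, nat_lit 5, nat_lit 3, nat_lit 2, nat_lit 1, nat_lit 0])) (.node (nat_lit 375) (.leaf [nat_lit 3, nat_lit 4, nat_lit 5, nat_lit 4, nat_lit 3, nat_lit 2, nat_lit 1, nat_lit 0]) (.leaf [nat_lit 2, nat_lit 1, nat_lit 5, nat_lit 2]))))
 (.node (nat_lit 380) (.node (nat_lit 378) (.node (nat_lit 377) (.leaf [nat_lit 4, nat_lit 5, nat_lit 4, nat_lit 1]) (.leaf [nat_lit 6, nat_lit 2, nat_lit 5, nat_lit 6, nat_lit 3, nat_lit 2, nat_lit 1, nat_lit 0])) (.node (nat_lit 379) (.leaf [nat_lit 1, nat_lit 4, nat_lit 5, nat_lit 4]) (.leaf [nat_lit 4, nat_lit 5, nat_lit 4, nat_lit 1, nat_lit 0])))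
 (.node (nat_lit 382) (.node (nat_lit 381) (.leaf [nat_lit 5, nat_lit 1, nat_lit 0]) (.leaf [nat_lit 4, nat_lit 2, nat_lit 5, nat_lit 3, nat_lit 4, nat_lit 2, nat_lit 1])) (.node (nat_lit 383) (.leaf [nat_lit 4, nat_lit 2, nat_lit 4, nat_lit 5, nat_lit 1]) (.leaf [nat_lit 5, nat_lit 4, nat_lit 3, nat_lit 4, nat_lit 1, nat_lit 0]))))))))
 (.node (nat_lit 448) (.node (nat_lit 416) (.node (nat_lit 400) (.node (nat_lit 392) (.node (nat_lit 388) (.node (nat_lit 386) (.node (nat_lit 385) (.leaf [nat_lit 0, nat_lit 5, nat_lit 1, nat_lit 0]) (.leaf [nat_lit 4, nat_lit 0, nat_lit 5, nat_lit 4, nat_lit 3, nat_lit 2, nat_lit 1])) (.node (nat_lit 387) (.leaf [nat_lit 4, nat_lit 0, nat_lit 4, nat_lit 5, nat_lit 3, nat_lit 2, nat_lit 1]) (.leaf [nat_lit 5, nat_lit 4, nat_lit 0, nat_lit 4, nat_lit 3, nat_lit 2, nat_lit 1])))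
 (.node (nat_lit 390) (.node (nat_lit 389) (.leaf [nat_lit 4, nat_lit 5, nat_lit 2, nat_lit 4, nat_lit 1]) (.leaf [nat_lit 4, nat_lit 5, nat_lit 0, nat_lit 4, nat_lit 3, nat_lit 2, nat_lit 1, nat_lit 0])) (.node (nat_lit 391) (.leaf [nat_lit 6, nat_lit 2, nat_lit 5, nat_lit 6, nat_lit 2, nat_lit 1, nat_lit 0]) (.leaf [nat_lit 4, nat_lit 5, nat_lit 4, nat_lit 2, nat_lit 1, nat_lit 0]))))
 (.node (nat_lit 396) (.node (nat_lit 394) (.node (nat_lit 393) (.leaf [nat_lit 4, nat_lit 5, nat_lit 0, nat_lit 4, nat_lit 3, nat_lit 2, nat_lit 1]) (.leaf [nat_lit 4, nat_lit 3, nat_lit 5, nat_lit 4, nat_lit 3, nat_lit 1])) (.node (nat_lit 395) (.leaf [nat_lit 6, nat_lit 5, nat_lit 6, nat_lit 1]) (.leaf [nat_lit 4, nat_lit 2, nat_lit 4, nat_lit 5, nat_lit 3, nat_lit 1])))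
 (.node (nat_lit 398) (.node (nat_lit 397) (.leaf [nat_lit 3, nat_lit 5, nat_lit 3, nat_lit 1, nat_lit 0]) (.leaf [nat_lit 6, nat_lit 2, nat_lit 5, nat_lit 6, nat_lit 1, nat_lit 0])) (.node (nat_lit 399) (.leaf [nat_lit 4, nat_lit 2, nat_lit 5, nat_lit 3, nat_lit 4, nat_lit 1, nat_lit 0]) (.leaf [nat_lit 6, nat_lit 2, nat_lit 5, nat_lit 6, nat_lit 2, nat_lit 1])))))
 (.node (nat_lit 408) (.node (nat_lit 404) (.node (nat_lit 402) (.node (nat_lit 401) (.leaf [nat_lit 5, nat_lit 4, nat_lit 3, nat_lit 4, nat_lit 3, nat_lit 1]) (.leaf [nat_lit 5, nat_lit 4, nat_lit 2, nat_lit 4, nat_lit 3, nat_lit 1])) (.node (nat_lit 403) (.leaf [nat_lit 0, nat_lit 5, nat_lit 1]) (.leaf [nat_lit 5, nat_lit 2, nat_lit 1, nat_lit 0])))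
 (.node (nat_lit 406) (.node (nat_lit 405) (.leaf [nat_lit 5, nat_lit 4, nat_lit 3, nat_lit 4, nat_lit 3, nat_lit 1, nat_lit 0]) (.leaf [nat_lit 1, nat_lit 5, nat_lit 0])) (.node (nat_lit 407) (.leaf [nat_lit 1, nat_lit 4, nat_lit 5, nat_lit 4, nat_lit 2, nat_lit 0]) (.leaf [nat_lit 4, nat_lit 3, nat_lit 5, nat_lit 4, nat_lit 3, nat_lit 2, nat_lit 1, nat_lit 0]))))
 (.node (nat_lit 412) (.node (nat_lit 410) (.node (nat_lit 409) (.leaf [nat_lit 6, nat_lit 5, nat_lit 6, nat_lit 1, nat_lit 0]) (.leaf [nat_lit 5, nat_lit 4, nat_lit 0, nat_lit 4, nat_lit 3, nat_lit 1, nat_lit 0])) (.node (nat_lit 411) (.leaf [nat_lit 4, nat_lit 3, nat_lit 4, nat_lit 5, nat_lit 3, nat_lit 2, nat_lit 1, nat_lit 0]) (.leaf [nat_lit 4, nat_lit 5, nat_lit 0, nat_lit 4, nat_lit 3, nat_lit 1, nat_lit 0])))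
 (.node (nat_lit 414) (.node (nat_lit 413) (.leaf [nat_lit 6, nat_lit 5, nat_lit 6, nat_lit 2, nat_lit 1, nat_lit 0]) (.leaf [nat_lit 3, nat_lit 1, nat_lit 0, nat_lit 5, nat_lit 3, nat_lit 2])) (.node (nat_lit 415) (.leaf [nat_lit 3, nat_lit 1, nat_lit 0, nat_lit 5, nat_lit 3, nat_lit 0]) (.leaf [nat_lit 3, nat_lit 2, nat_lit 1, nat_lit 5, nat_lit 3, nat_lit 2]))))))
 (.node (nat_lit 432) (.node (nat_lit 424) (.node (nat_lit 420) (.node (nat_lit 418) (.node (nat_lit 417) (.leaf [nat_lit 1, nat_lit 5]) (.leaf [nat_lit 3, nat_lit 4, nat_lit 5, nat_lit 4, nat_lit 3, nat_lit 1])) (.node (nat_lit 419) (.leaf [nat_lit 5, nat_lit 4, nat_lit 3, nat_lit 4, nat_lit 3, nat_lit 2, nat_lit 1, nat_lit 0]) (.leaf [nat_lit 4, nat_lit 5, nat_lit 3, nat_lit 4, nat_lit 1, nat_lit 0])))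
 (.node (nat_lit 422) (.node (nat_lit 421) (.leaf [nat_lit 2, nat_lit 5, nat_lit 1, nat_lit 0]) (.leaf [nat_lit 5, nat_lit 4, nat_lit 1, nat_lit 4, nat_lit 3, nat_lit 2])) (.node (nat_lit 423) (.leaf [nat_lit 4, nat_lit 3, nat_lit 5, nat_lit 4, nat_lit 1, nat_lit 0]) (.leaf [nat_lit 3, nat_lit 6, nat_lit 5, nat_lit 6, nat_lit 3, nat_lit 1, nat_lit 0]))))
 (.node (nat_lit 428) (.node (nat_lit 426) (.node (nat_lit 425) (.leaf [nat_lit 4, nat_lit 5, nat_lit 0, nat_lit 4, nat_lit 2, nat_lit 1, nat_lit 0]) (.leaf [nat_lit 6, nat_lit 5, nat_lit 6, nat_lit 3, nat_lit 1, nat_lit 0])) (.node (nat_lit 427) (.leaf [nat_lit 4, nat_lit 0, nat_lit 5, nat_lit 4, nat_lit 2, nat_lit 1, nat_lit 0]) (.leaf [nat_lit 1, nat_lit 0, nat_lit 5])))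
 (.node (nat_lit 430) (.node (nat_lit 429) (.leaf [nat_lit 3, nat_lit 5, nat_lit 3, nat_lit 2, nat_lit 1, nat_lit 0]) (.leaf [nat_lit 1, nat_lit 0, nat_lit 5, nat_lit 0])) (.node (nat_lit 431) (.leaf [nat_lit 3, nat_lit 1, nat_lit 5, nat_lit 3, nat_lit 0]) (.leaf [nat_lit 4, nat_lit 3, nat_lit 4, nat_lit 5, nat_lit 3, nat_lit 1, nat_lit 0])))))
 (.node (nat_lit 440) (.node (nat_lit 436) (.node (nat_lit 434) (.node (nat_lit 433) (.leaf [nat_lit 5, nat_lit 4, nat_lit 1, nat_lit 4]) (.leaf [nat_lit 3, nat_lit 0, nat_lit 5, nat_lit 3, nat_lit 1])) (.node (nat_lit 435) (.leaf [nat_lit 5, nat_lit 4, nat_lit 2, nat_lit 4, nat_lit 3, nat_lit 2, nat_lit 1]) (.leaf [nat_lit 3, nat_lit 0, nat_lit 5, nat_lit 3, nat_lit 2, nat_lit 1])))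
 (.node (nat_lit 438) (.node (nat_lit 437) (.leaf [nat_lit 3, nat_lit 1, nat_lit 5, nat_lit 3, nat_lit 2, nat_lit 0]) (.leaf [nat_lit 3, nat_lit 2, nat_lit 5, nat_lit 3, nat_lit 1, nat_lit 0])) (.node (nat_lit 439) (.leaf [nat_lit 4, nat_lit 2, nat_lit 5, nat_lit 4, nat_lit 3, nat_lit 2, nat_lit 1]) (.leaf [nat_lit 5, nat_lit 4, nat_lit 0, nat_lit 4, nat_lit 2, nat_lit 1, nat_lit 0]))))
 (.node (nat_lit 444) (.node (nat_lit 442) (.node (nat_lit 441) (.leaf [nat_lit 4, nat_lit 5, nat_lit 2, nat_lit 4, nat_lit 3, nat_lit 2, nat_lit 1]) (.leaf [nat_lit 3, nat_lit 2, nat_lit 1, nat_lit 5, nat_lit 3, nat_lit 0])) (.node (nat_lit 443) (.leaf [nat_lit 4, nat_lit 2, nat_lit 5, nat_lit 4, nat_lit 3, nat_lit 1, nat_lit 0]) (.leaf [nat_lit 5, nat_lit 4, nat_lit 2, nat_lit 4, nat_lit 3, nat_lit 1, nat_lit 0])))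
 (.node (nat_lit 446) (.node (nat_lit 445) (.leaf [nat_lit 2, nat_lit 1, nat_lit 5, nat_lit 0]) (.leaf [nat_lit 4, nat_lit 0, nat_lit 4, nat_lit 5, nat_lit 3, nat_lit 1, nat_lit 0])) (.node (nat_lit 447) (.leaf [nat_lit 0, nat_lit 5, nat_lit 2, nat_lit 1]) (.leaf [nat_lit 1, nat_lit 5, nat_lit 2, nat_lit 0])))))))
 (.node (nat_lit 480) (.node (nat_lit 464) (.node (nat_lit 456) (.node (nat_lit 452) (.node (nat_lit 450) (.node (nat_lit 449) (.leaf [nat_lit 4, nat_lit 0, nat_lit 5, nat_lit 4, nat_lit 3, nat_lit 1, nat_lit 0]) (.leaf [nat_lit 4, nat_lit 5, nat_lit 3, nat_lit 4, nat_lit 3, nat_lit 2, nat_lit 1, nat_lit 0])) (.node (nat_lit 451) (.leaf [nat_lit 4, nat_lit 2, nat_lit 5, nat_lit 4, nat_lit 1]) (.leaf [nat_lit 1, nat_lit 0, nat_lit 5, nat_lit 2])))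
 (.node (nat_lit 454) (.node (nat_lit 453) (.leaf [nat_lit 4, nat_lit 2, nat_lit 4, nat_lit 5, nat_lit 3, nat_lit 2, nat_lit 1]) (.leaf [nat_lit 5, nat_lit 1, nat_lit 0, nat_lit 5, nat_lit 1, nat_lit 0])) (.node (nat_lit 455) (.leaf [nat_lit 3, nat_lit 2, nat_lit 4]) (.leaf [nat_lit 4, nat_lit 0, nat_lit 5, nat_lit 4, nat_lit 3]))))
 (.node (nat_lit 460) (.node (nat_lit 458) (.node (nat_lit 457) (.leaf [nat_lit 5, nat_lit 6, nat_lit 3, nat_lit 5, nat_lit 3, nat_lit 2, nat_lit 0]) (.leaf [nat_lit 0, nat_lit 5, nat_lit 4, nat_lit 5])) (.node (nat_lit 459) (.leaf [nat_lit 3, nat_lit 4, nat_lit 5, nat_lit 4, nat_lit 0]) (.leaf [nat_lit 6, nat_lit 2, nat_lit 5, nat_lit 6, nat_lit 3, nat_lit 2, nat_lit 0])))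
 (.node (nat_lit 462) (.node (nat_lit 461) (.leaf [nat_lit 1, nat_lit 0, nat_lit 5, nat_lit 2, nat_lit 1, nat_lit 0]) (.leaf [nat_lit 1, nat_lit 4, nat_lit 5, nat_lit 4, nat_lit 2, nat_lit 1])) (.node (nat_lit 463) (.leaf [nat_lit 5, nat_lit 4, nat_lit 0, nat_lit 4, nat_lit 3]) (.leaf [nat_lit 2, nat_lit 5, nat_lit 4, nat_lit 0])))))
 (.node (nat_lit 472) (.node (nat_lit 468) (.node (nat_lit 466) (.node (nat_lit 465) (.leaf [nat_lit 4, nat_lit 2, nat_lit 4, nat_lit 5, nat_lit 3, nat_lit 2, nat_lit 0]) (.leaf [nat_lit 5, nat_lit 2, nat_lit 0, nat_lit 6, nat_lit 3, nat_lit 0])) (.node (nat_lit 467) (.leaf [nat_lit 0, nat_lit 4, nat_lit 3, nat_lit 2, nat_lit 1, nat_lit 0]) (.leaf [nat_lit 4, nat_lit 3, nat_lit 2, nat_lit 1])))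
 (.node (nat_lit 470) (.node (nat_lit 469) (.leaf [nat_lit 1, nat_lit 0, nat_lit 4, nat_lit 3, nat_lit 2, nat_lit 0]) (.leaf [nat_lit 2, nat_lit 0, nat_lit 4, nat_lit 3, nat_lit 1, nat_lit 0])) (.node (nat_lit 471) (.leaf [nat_lit 3, nat_lit 0, nat_lit 4, nat_lit 2, nat_lit 1, nat_lit 0]) (.leaf [nat_lit 6, nat_lit 2, nat_lit 6, nat_lit 0, nat_lit 4, nat_lit 3, nat_lit 2, nat_lit 1]))))
 (.node (nat_lit 476) (.node (nat_lit 474) (.node (nat_lit 473) (.leaf [nat_lit 5, nat_lit 4, nat_lit 3, nat_lit 5, nat_lit 3, nat_lit 1, nat_lit 0]) (.leaf [nat_lit 5, nat_lit 4, nat_lit 3, nat_lit 5, nat_lit 3, nat_lit 2, nat_lit 1, nat_lit 0])) (.node (nat_lit 475) (.leaf [nat_lit 1, nat_lit 4, nat_lit 3, nat_lit 2]) (.leaf [nat_lit 2, nat_lit 4, nat_lit 3, nat_lit 1])))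
 (.node (nat_lit 478) (.node (nat_lit 477) (.leaf [nat_lit 3, nat_lit 4, nat_lit 2, nat_lit 1]) (.leaf [nat_lit 3, nat_lit 2, nat_lit 1, nat_lit 4])) (.node (nat_lit 479) (.leaf [nat_lit 4, nat_lit 3, nat_lit 4, nat_lit 0, nat_lit 4, nat_lit 3, nat_lit 1]) (.leaf [nat_lit 0, nat_lit 4, nat_lit 2, nat_lit 1]))))))
 (.node (nat_lit 496) (.node (nat_lit 488) (.node (nat_lit 484) (.node (nat_lit 482) (.node (nat_lit 481) (.leaf [nat_lit 2, nat_lit 1, nat_lit 0, nat_lit 4, nat_lit 3, nat_lit 0]) (.leaf [nat_lit 3, nat_lit 1, nat_lit 0, nat_lit 4, nat_lit 2, nat_lit 0])) (.node (nat_lit 483) (.leaf [nat_lit 5, nat_lit 3, nat_lit 4, nat_lit 5, nat_lit 2, nat_lit 1]) (.leaf [nat_lit 6, nat_lit 4, nat_lit 2, nat_lit 6, nat_lit 1])))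
 (.node (nat_lit 486) (.node (nat_lit 485) (.leaf [nat_lit 3, nat_lit 2, nat_lit 1, nat_lit 4, nat_lit 3, nat_lit 0]) (.leaf [nat_lit 3, nat_lit 2, nat_lit 0, nat_lit 4, nat_lit 1, nat_lit 0])) (.node (nat_lit 487) (.leaf [nat_lit 6, nat_lit 3, nat_lit 6, nat_lit 4, nat_lit 1, nat_lit 0]) (.leaf [nat_lit 5, nat_lit 1, nat_lit 5, nat_lit 4, nat_lit 3, nat_lit 0]))))
 (.node (nat_lit 492) (.node (nat_lit 490) (.node (nat_lit 489) (.leaf [nat_lit 2, nat_lit 4, nat_lit 1, nat_lit 0]) (.leaf [nat_lit 5, nat_lit 0, nat_lit 5, nat_lit 0, nat_lit 4, nat_lit 3, nat_lit 1, nat_lit 0])) (.node (nat_lit 491) (.leaf [nat_lit 3, nat_lit 2, nat_lit 0, nat_lit 4, nat_lit 3, nat_lit 2, nat_lit 1]) (.leaf [nat_lit 5, nat_lit 4, nat_lit 5, nat_lit 2, nat_lit 1, nat_lit 0])))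
 (.node (nat_lit 494) (.node (nat_lit 493) (.leaf [nat_lit 4, nat_lit 5, nat_lit 1, nat_lit 5, nat_lit 2]) (.leaf [nat_lit 2, nat_lit 1, nat_lit 4, nat_lit 2, nat_lit 0])) (.node (nat_lit 495) (.leaf [nat_lit 1, nat_lit 4, nat_lit 2, nat_lit 0]) (.leaf [nat_lit 5, nat_lit 0, nat_lit 5, nat_lit 0, nat_lit 4, nat_lit 2, nat_lit 1])))))
 (.node (nat_lit 504) (.node (nat_lit 500) (.node (nat_lit 498) (.node (nat_lit 497) (.leaf [nat_lit 5, nat_lit 3, nat_lit 4, nat_lit 5, nat_lit 3, nat_lit 1, nat_lit 0]) (.leaf [nat_lit 4, nat_lit 5, nat_lit 1, nat_lit 5, nat_lit 2, nat_lit 0])) (.node (nat_lit 499) (.leaf [nat_lit 5, nat_lit 1, nat_lit 5, nat_lit 4, nat_lit 3, nat_lit 2, nat_lit 0]) (.leaf [nat_lit 5, nat_lit 0, nat_lit 5, nat_lit 0, nat_lit 4, nat_lit 1])))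
 (.node (nat_lit 502) (.node (nat_lit 501) (.leaf [nat_lit 4, nat_lit 3, nat_lit 4, nat_lit 0, nat_lit 4, nat_lit 3, nat_lit 2, nat_lit 1]) (.leaf [nat_lit 5, nat_lit 3, nat_lit 4, nat_lit 5, nat_lit 3, nat_lit 2, nat_lit 1, nat_lit 0])) (.node (nat_lit 503) (.leaf [nat_lit 3, nat_lit 1, nat_lit 0, nat_lit 4, nat_lit 2]) (.leaf [nat_lit 2, nat_lit 1, nat_lit 4, nat_lit 3]))))
 (.node (nat_lit 508) (.node (nat_lit 506) (.node (nat_lit 505) (.leaf [nat_lit 3, nat_lit 1, nat_lit 4, nat_lit 2]) (.leaf [nat_lit 3, nat_lit 2, nat_lit 4, nat_lit 1])) (.node (nat_lit 507) (.leaf [nat_lit 3, nat_lit 1, nat_lit 0, nat_lit 4, nat_lit 3]) (.leaf [nat_lit 5, nat_lit 4, nat_lit 0, nat_lit 5, nat_lit 1, nat_lit 0])))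
 (.node (nat_lit 510) (.node (nat_lit 509) (.leaf [nat_lit 3, nat_lit 5, nat_lit 4, nat_lit 5, nat_lit 3, nat_lit 1, nat_lit 0]) (.leaf [nat_lit 3, nat_lit 5, nat_lit 4, nat_lit 5, nat_lit 3, nat_lit 2, nat_lit 1, nat_lit 0])) (.node (nat_lit 511) (.leaf [nat_lit 3, nat_lit 0, nat_lit 4, nat_lit 3, nat_lit 1]) (.leaf [nat_lit 3, nat_lit 2, nat_lit 4, nat_lit 3, nat_lit 1, nat_lit 0])))))))))
noncomputable def bWT_2 : Tr (List ℕ) := (.node (nat_lit 640) (.node (nat_lit 576) (.node (nat_lit 544) (.node (nat_lit 528) (.node (nat_lit 520) (.node (nat_lit 516) (.node (nat_lit 514) (.node (nat_lit 513) (.leaf [nat_lit 6, nat_lit 4, nat_lit 2, nat_lit 6, nat_lit 3, nat_lit 2, nat_lit 1, nat_lit 0]) (.leaf [nat_lit 4, nat_lit 5, nat_lit 0, nat_lit 5, nat_lit 2, nat_lit 1, nat_lit 0])) (.node (nat_lit 515) (.leaf [nat_lit 2, nat_lit 1, nat_lit 4, nat_lit 0]) (.leaf [nat_lit 6, nat_lit 0, nat_lit 6,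 nat_lit 2, nat_lit 4, nat_lit 1, nat_lit 0])))
 (.node (nat_lit 518) (.node (nat_lit 517) (.leaf [nat_lit 0, nat_lit 5, nat_lit 4, nat_lit 5, nat_lit 1]) (.leaf [nat_lit 6, nat_lit 2, nat_lit 6, nat_lit 0, nat_lit 4, nat_lit 3, nat_lit 2, nat_lit 1, nat_lit 0])) (.node (nat_lit 519) (.leaf [nat_lit 4, nat_lit 2, nat_lit 1, nat_lit 0]) (.leaf [nat_lit 1, nat_lit 0, nat_lit 4, nat_lit 2]))))
 (.node (nat_lit 524) (.node (nat_lit 522) (.node (nat_lit 521) (.leaf [nat_lit 2, nat_lit 0, nat_lit 4, nat_lit 1]) (.leaf [nat_lit 3, nat_lit 0, nat_lit 4, nat_lit 3, nat_lit 2, nat_lit 1])) (.node (nat_lit 523) (.leaf [nat_lit 3, nat_lit 1, nat_lit 4, nat_lit 2, nat_lit 0]) (.leaf [nat_lit 0, nat_lit 5, nat_lit 4, nat_lit 5, nat_lit 3, nat_lit 2, nat_lit 1, nat_lit 0])))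
 (.node (nat_lit 526) (.node (nat_lit 525) (.leaf [nat_lit 3, nat_lit 2, nat_lit 1, nat_lit 4, nat_lit 3, nat_lit 2, nat_lit 0]) (.leaf [nat_lit 6, nat_lit 2, nat_lit 6, nat_lit 0, nat_lit 4, nat_lit 2, nat_lit 1, nat_lit 0])) (.node (nat_lit 527) (.leaf [nat_lit 5, nat_lit 4, nat_lit 3, nat_lit 5, nat_lit 2, nat_lit 1]) (.leaf [nat_lit 2, nat_lit 5, nat_lit 4, nat_lit 5, nat_lit 3, nat_lit 1])))))
 (.node (nat_lit 536) (.node (nat_lit 532) (.node (nat_lit 530) (.node (nat_lit 529) (.leaf [nat_lit 2, nat_lit 5, nat_lit 4, nat_lit 5, nat_lit 2, nat_lit 1, nat_lit 0]) (.leaf [nat_lit 0, nat_lit 5, nat_lit 4, nat_lit 5, nat_lit 2, nat_lit 1])) (.node (nat_lit 531) (.leaf [nat_lit 2, nat_lit 1, nat_lit 0, nat_lit 4, nat_lit 2]) (.leaf [nat_lit 5, nat_lit 4, nat_lit 5, nat_lit 3, nat_lit 2, nat_lit 1, nat_lit 0])))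
 (.node (nat_lit 534) (.node (nat_lit 533) (.leaf [nat_lit 6, nat_lit 4, nat_lit 2, nat_lit 6, nat_lit 2, nat_lit 1]) (.leaf [nat_lit 3, nat_lit 1, nat_lit 4, nat_lit 3, nat_lit 2, nat_lit 0])) (.node (nat_lit 535) (.leaf [nat_lit 3, nat_lit 2, nat_lit 0, nat_lit 4, nat_lit 1]) (.leaf [nat_lit 6, nat_lit 0, nat_lit 6, nat_lit 2, nat_lit 4, nat_lit 3, nat_lit 2, nat_lit 1]))))
 (.node (nat_lit 540) (.node (nat_lit 538) (.node (nat_lit 537) (.leaf [nat_lit 3, nat_lit 2, nat_lit 4, nat_lit 3, nat_lit 2, nat_lit 1, nat_lit 0]) (.leaf [nat_lit 5, nat_lit 4, nat_lit 0, nat_lit 5, nat_lit 3, nat_lit 1])) (.node (nat_lit 539) (.leaf [nat_lit 6, nat_lit 0, nat_lit 6, nat_lit 2, nat_lit 4, nat_lit 2, nat_lit 1, nat_lit 0]) (.leaf [nat_lit 5, nat_lit 0, nat_lit 5, nat_lit 4, nat_lit 2, nat_lit 1, nat_lit 0])))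
 (.node (nat_lit 542) (.node (nat_lit 541) (.leaf [nat_lit 5, nat_lit 0, nat_lit 5, nat_lit 4, nat_lit 3, nat_lit 1]) (.leaf [nat_lit 4, nat_lit 5, nat_lit 1, nat_lit 5, nat_lit 3, nat_lit 0])) (.node (nat_lit 543) (.leaf [nat_lit 2, nat_lit 0, nat_lit 4, nat_lit 2, nat_lit 1]) (.leaf [nat_lit 1, nat_lit 0, nat_lit 4, nat_lit 3, nat_lit 2]))))))
 (.node (nat_lit 560) (.node (nat_lit 552) (.node (nat_lit 548) (.node (nat_lit 546) (.node (nat_lit 545) (.leaf [nat_lit 2, nat_lit 5, nat_lit 4, nat_lit 5, nat_lit 1, nat_lit 0]) (.leaf [nat_lit 5, nat_lit 0, nat_lit 5, nat_lit 4, nat_lit 3, nat_lit 1, nat_lit 0])) (.node (nat_lit 547) (.leaf [nat_lit 3, nat_lit 5, nat_lit 4, nat_lit 5, nat_lit 2, nat_lit 1]) (.leaf [nat_lit 1, nat_lit 4, nat_lit 0])))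
 (.node (nat_lit 550) (.node (nat_lit 549) (.leaf [nat_lit 5, nat_lit 0, nat_lit 5, nat_lit 4, nat_lit 1, nat_lit 0]) (.leaf [nat_lit 2, nat_lit 4, nat_lit 2, nat_lit 1, nat_lit 0])) (.node (nat_lit 551) (.leaf [nat_lit 0, nat_lit 4, nat_lit 3, nat_lit 2, nat_lit 1]) (.leaf [nat_lit 5, nat_lit 1, nat_lit 5, nat_lit 4, nat_lit 2, nat_lit 0]))))
 (.node (nat_lit 556) (.node (nat_lit 554) (.node (nat_lit 553) (.leaf [nat_lit 6, nat_lit 2, nat_lit 6, nat_lit 0, nat_lit 4, nat_lit 1, nat_lit 0]) (.leaf [nat_lit 2, nat_lit 0, nat_lit 4, nat_lit 3, nat_lit 1])) (.node (nat_lit 555) (.leaf [nat_lit 6, nat_lit 0, nat_lit 6, nat_lit 2, nat_lit 4, nat_lit 3, nat_lit 2, nat_lit 1, nat_lit 0]) (.leaf [nat_lit 2, nat_lit 5, nat_lit 4, nat_lit 5, nat_lit 3, nat_lit 1, nat_lit 0])))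
 (.node (nat_lit 558) (.node (nat_lit 557) (.leaf [nat_lit 5, nat_lit 4, nat_lit 0, nat_lit 5, nat_lit 3, nat_lit 1, nat_lit 0]) (.leaf [nat_lit 6, nat_lit 4, nat_lit 2, nat_lit 6, nat_lit 3, nat_lit 2, nat_lit 1])) (.node (nat_lit 559) (.leaf [nat_lit 4, nat_lit 3, nat_lit 4, nat_lit 0, nat_lit 4, nat_lit 2, nat_lit 1]) (.leaf [nat_lit 3, nat_lit 0, nat_lit 4, nat_lit 2, nat_lit 1])))))
 (.node (nat_lit 568) (.node (nat_lit 564) (.node (nat_lit 562) (.node (nat_lit 561) (.leaf [nat_lit 2, nat_lit 4, nat_lit 3, nat_lit 1, nat_lit 0]) (.leaf [nat_lit 3, nat_lit 1, nat_lit 4, nat_lit 3, nat_lit 0])) (.node (nat_lit 563) (.leaf [nat_lit 3, nat_lit 1, nat_lit 0, nat_lit 4, nat_lit 3, nat_lit 2]) (.leaf [nat_lit 3, nat_lit 4, nat_lit 3, nat_lit 1, nat_lit 0])))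
 (.node (nat_lit 566) (.node (nat_lit 565) (.leaf [nat_lit 1, nat_lit 0, nat_lit 4]) (.leaf [nat_lit 0, nat_lit 5, nat_lit 4, nat_lit 5, nat_lit 3, nat_lit 2, nat_lit 1])) (.node (nat_lit 567) (.leaf [nat_lit 6, nat_lit 3, nat_lit 6, nat_lit 4, nat_lit 3, nat_lit 1]) (.leaf [nat_lit 4, nat_lit 5, nat_lit 1, nat_lit 5, nat_lit 3, nat_lit 2, nat_lit 0]))))
 (.node (nat_lit 572) (.node (nat_lit 570) (.node (nat_lit 569) (.leaf [nat_lit 4, nat_lit 5, nat_lit 0, nat_lit 5, nat_lit 1, nat_lit 0]) (.leaf [nat_lit 3, nat_lit 2, nat_lit 4, nat_lit 1, nat_lit 0])) (.node (nat_lit 571) (.leaf [nat_lit 5, nat_lit 4, nat_lit 5, nat_lit 1, nat_lit 0]) (.leaf [nat_lit 0, nat_lit 4, nat_lit 1])))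
 (.node (nat_lit 574) (.node (nat_lit 573) (.leaf [nat_lit 1, nat_lit 4, nat_lit 3, nat_lit 2, nat_lit 0]) (.leaf [nat_lit 3, nat_lit 2, nat_lit 0, nat_lit 4, nat_lit 3, nat_lit 1])) (.node (nat_lit 575) (.leaf [nat_lit 3, nat_lit 4, nat_lit 3, nat_lit 2, nat_lit 1, nat_lit 0]) (.leaf [nat_lit 5, nat_lit 0, nat_lit 5, nat_lit 0, nat_lit 4, nat_lit 3, nat_lit 1])))))))
 (.node (nat_lit 608) (.node (nat_lit 592) (.node (nat_lit 584) (.node (nat_lit 580) (.node (nat_lit 578) (.node (nat_lit 577) (.leaf [nat_lit 4, nat_lit 3, nat_lit 4, nat_lit 0, nat_lit 4, nat_lit 2, nat_lit 1, nat_lit 0]) (.leaf [nat_lit 5, nat_lit 4, nat_lit 0, nat_lit 5, nat_lit 2, nat_lit 1, nat_lit 0])) (.node (nat_lit 579) (.leaf [nat_lit 3, nat_lit 5, nat_lit 4, nat_lit 5, nat_lit 2, nat_lit 1, nat_lit 0]) (.leaf [nat_lit 2, nat_lit 1, nat_lit 0, nat_lit 4])))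
 (.node (nat_lit 582) (.node (nat_lit 581) (.leaf [nat_lit 6, nat_lit 3, nat_lit 6, nat_lit 4, nat_lit 3, nat_lit 2, nat_lit 1]) (.leaf [nat_lit 5, nat_lit 4, nat_lit 5, nat_lit 3, nat_lit 2, nat_lit 1])) (.node (nat_lit 583) (.leaf [nat_lit 4, nat_lit 5, nat_lit 0, nat_lit 5, nat_lit 3, nat_lit 1, nat_lit 0]) (.leaf [nat_lit 5, nat_lit 3, nat_lit 4, nat_lit 5, nat_lit 2, nat_lit 1, nat_lit 0]))))
 (.node (nat_lit 588) (.node (nat_lit 586) (.node (nat_lit 585) (.leaf [nat_lit 6, nat_lit 3, nat_lit 6, nat_lit 4, nat_lit 1]) (.leaf [nat_lit 3, nat_lit 2, nat_lit 1, nat_lit 4, nat_lit 0])) (.node (nat_lit 587) (.leaf [nat_lit 5, nat_lit 1, nat_lit 5, nat_lit 4, nat_lit 2]) (.leaf [nat_lit 3, nat_lit 4, nat_lit 2, nat_lit 1, nat_lit 0])))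
 (.node (nat_lit 590) (.node (nat_lit 589) (.leaf [nat_lit 5, nat_lit 4, nat_lit 3, nat_lit 5, nat_lit 2, nat_lit 1, nat_lit 0]) (.leaf [nat_lit 4, nat_lit 5, nat_lit 0, nat_lit 5, nat_lit 3, nat_lit 1])) (.node (nat_lit 591) (.leaf [nat_lit 2, nat_lit 1, nat_lit 0, nat_lit 4, nat_lit 3]) (.leaf [nat_lit 4, nat_lit 3, nat_lit 2, nat_lit 1, nat_lit 0])))))
 (.node (nat_lit 600) (.node (nat_lit 596) (.node (nat_lit 594) (.node (nat_lit 593) (.leaf [nat_lit 4, nat_lit 1, nat_lit 0]) (.leaf [nat_lit 2, nat_lit 1, nat_lit 4, nat_lit 3, nat_lit 0])) (.node (nat_lit 595) (.leaf [nat_lit 0, nat_lit 5, nat_lit 3, nat_lit 4, nat_lit 0]) (.leaf [nat_lit 3, nat_lit 2, nat_lit 6, nat_lit 3, nat_lit 0])))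
 (.node (nat_lit 598) (.node (nat_lit 597) (.leaf [nat_lit 0, nat_lit 6, nat_lit 2]) (.leaf [nat_lit 4, nat_lit 2, nat_lit 6, nat_lit 4, nat_lit 0])) (.node (nat_lit 599) (.leaf [nat_lit 6, nat_lit 2, nat_lit 0]) (.leaf [nat_lit 6, nat_lit 5, nat_lit 2, nat_lit 5, nat_lit 0]))))
 (.node (nat_lit 604) (.node (nat_lit 602) (.node (nat_lit 601) (.leaf [nat_lit 3, nat_lit 6, nat_lit 4, nat_lit 0]) (.leaf [nat_lit 2, nat_lit 1, nat_lit 6, nat_lit 3, nat_lit 1])) (.node (nat_lit 603) (.leaf [nat_lit 2, nat_lit 0, nat_lit 6, nat_lit 5, nat_lit 3, nat_lit 0]) (.leaf [nat_lit 1, nat_lit 6, nat_lit 5, nat_lit 4, nat_lit 3, nat_lit 2])))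
 (.node (nat_lit 606) (.node (nat_lit 605) (.leaf [nat_lit 6, nat_lit 4, nat_lit 0, nat_lit 5, nat_lit 3, nat_lit 2, nat_lit 1]) (.leaf [nat_lit 6, nat_lit 5, nat_lit 4, nat_lit 3, nat_lit 2, nat_lit 1])) (.node (nat_lit 607) (.leaf [nat_lit 5, nat_lit 6, nat_lit 0, nat_lit 4, nat_lit 3, nat_lit 2, nat_lit 1]) (.leaf [nat_lit 4, nat_lit 0, nat_lit 6, nat_lit 5, nat_lit 3, nat_lit 2, nat_lit 1]))))))
 (.node (nat_lit 624) (.node (nat_lit 616) (.node (nat_lit 612) (.node (nat_lit 610) (.node (nat_lit 609) (.leaf [nat_lit 4, nat_lit 2, nat_lit 6, nat_lit 5, nat_lit 3, nat_lit 2, nat_lit 1]) (.leaf [nat_lit 6, nat_lit 2, nat_lit 4, nat_lit 5, nat_lit 2, nat_lit 1])) (.node (nat_lit 611) (.leaf [nat_lit 4, nat_lit 5, nat_lit 6, nat_lit 2, nat_lit 1]) (.leaf [nat_lit 0, nat_lit 6, nat_lit 5, nat_lit 4, nat_lit 3, nat_lit 2, nat_lit 1, nat_lit 0])))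
 (.node (nat_lit 614) (.node (nat_lit 613) (.leaf [nat_lit 5, nat_lit 6, nat_lit 2, nat_lit 4, nat_lit 3, nat_lit 1, nat_lit 0]) (.leaf [nat_lit 5, nat_lit 0, nat_lit 6, nat_lit 0, nat_lit 4, nat_lit 3, nat_lit 2, nat_lit 1, nat_lit 0])) (.node (nat_lit 615) (.leaf [nat_lit 6, nat_lit 5, nat_lit 3, nat_lit 4, nat_lit 1]) (.leaf [nat_lit 6, nat_lit 0, nat_lit 5, nat_lit 4, nat_lit 1, nat_lit 0]))))
 (.node (nat_lit 620) (.node (nat_lit 618) (.node (nat_lit 617) (.leaf [nat_lit 5, nat_lit 6, nat_lit 3, nat_lit 4, nat_lit 3, nat_lit 2, nat_lit 1]) (.leaf [nat_lit 2, nat_lit 6, nat_lit 5, nat_lit 4, nat_lit 3, nat_lit 1])) (.node (nat_lit 619) (.leaf [nat_lit 3, nat_lit 6, nat_lit 5, nat_lit 4, nat_lit 2, nat_lit 1]) (.leaf [nat_lit 6, nat_lit 0, nat_lit 5, nat_lit 4, nat_lit 3, nat_lit 1])))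
 (.node (nat_lit 622) (.node (nat_lit 621) (.leaf [nat_lit 2, nat_lit 5, nat_lit 6, nat_lit 4, nat_lit 2, nat_lit 1, nat_lit 0]) (.leaf [nat_lit 5, nat_lit 6, nat_lit 0, nat_lit 4, nat_lit 2, nat_lit 1])) (.node (nat_lit 623) (.leaf [nat_lit 4, nat_lit 2, nat_lit 6, nat_lit 5, nat_lit 3, nat_lit 1, nat_lit 0]) (.leaf [nat_lit 5, nat_lit 1, nat_lit 6, nat_lit 4, nat_lit 2])))))
 (.node (nat_lit 632) (.node (nat_lit 628) (.node (nat_lit 626) (.node (nat_lit 625) (.leaf [nat_lit 5, nat_lit 6, nat_lit 3, nat_lit 4, nat_lit 3, nat_lit 1]) (.leaf [nat_lit 6, nat_lit 4, nat_lit 1, nat_lit 5, nat_lit 3, nat_lit 0])) (.node (nat_lit 627) (.leaf [nat_lit 5, nat_lit 6, nat_lit 2, nat_lit 4, nat_lit 3, nat_lit 2, nat_lit 1]) (.leaf [nat_lit 6, nat_lit 3, nat_lit 5, nat_lit 4, nat_lit 3, nat_lit 1])))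
 (.node (nat_lit 630) (.node (nat_lit 629) (.leaf [nat_lit 2, nat_lit 6, nat_lit 5, nat_lit 4, nat_lit 1]) (.leaf [nat_lit 4, nat_lit 5, nat_lit 6, nat_lit 3, nat_lit 1, nat_lit 0])) (.node (nat_lit 631) (.leaf [nat_lit 4, nat_lit 0, nat_lit 6, nat_lit 5, nat_lit 3, nat_lit 1, nat_lit 0]) (.leaf [nat_lit 5, nat_lit 6, nat_lit 0, nat_lit 4, nat_lit 3, nat_lit 1, nat_lit 0]))))
 (.node (nat_lit 636) (.node (nat_lit 634) (.node (nat_lit 633) (.leaf [nat_lit 5, nat_lit 0, nat_lit 6, nat_lit 0, nat_lit 4, nat_lit 2, nat_lit 1, nat_lit 0]) (.leaf [nat_lit 5, nat_lit 0, nat_lit 6, nat_lit 0, nat_lit 4, nat_lit 1, nat_lit 0])) (.node (nat_lit 635) (.leaf [nat_lit 6, nat_lit 4, nat_lit 1, nat_lit 5, nat_lit 3, nat_lit 2, nat_lit 0]) (.leaf [nat_lit 5, nat_lit 1, nat_lit 6, nat_lit 4, nat_lit 3, nat_lit 2, nat_lit 0])))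
 (.node (nat_lit 638) (.node (nat_lit 637) (.leaf [nat_lit 6, nat_lit 5, nat_lit 1, nat_lit 4, nat_lit 2, nat_lit 0]) (.leaf [nat_lit 1, nat_lit 5, nat_lit 6, nat_lit 4, nat_lit 0])) (.node (nat_lit 639) (.leaf [nat_lit 4, nat_lit 0, nat_lit 6, nat_lit 5, nat_lit 2, nat_lit 1]) (.leaf [nat_lit 6, nat_lit 1, nat_lit 5, nat_lit 4, nat_lit 0]))))))))
 (.node (nat_lit 704) (.node (nat_lit 672) (.node (nat_lit 656) (.node (nat_lit 648) (.node (nat_lit 644) (.node (nat_lit 642) (.node (nat_lit 641) (.leaf [nat_lit 4, nat_lit 2, nat_lit 5, nat_lit 6, nat_lit 1]) (.leaf [nat_lit 4, nat_lit 2, nat_lit 6, nat_lit 5, nat_lit 1, nat_lit 0])) (.node (nat_lit 643) (.leaf [nat_lit 3, nat_lit 6, nat_lit 5, nat_lit 4, nat_lit 3, nat_lit 2, nat_lit 1]) (.leaf [nat_lit 6, nat_lit 5, nat_lit 0, nat_lit 4, nat_lit 3, nat_lit 1])))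
 (.node (nat_lit 646) (.node (nat_lit 645) (.leaf [nat_lit 6, nat_lit 5, nat_lit 2, nat_lit 4, nat_lit 3, nat_lit 1]) (.leaf [nat_lit 6, nat_lit 0, nat_lit 5, nat_lit 4, nat_lit 3, nat_lit 2, nat_lit 1, nat_lit 0])) (.node (nat_lit 647) (.leaf [nat_lit 3, nat_lit 6, nat_lit 5, nat_lit 4, nat_lit 1, nat_lit 0]) (.leaf [nat_lit 5, nat_lit 6, nat_lit 2, nat_lit 4, nat_lit 2, nat_lit 1, nat_lit 0]))))
 (.node (nat_lit 652) (.node (nat_lit 650) (.node (nat_lit 649) (.leaf [nat_lit 6, nat_lit 2, nat_lit 5, nat_lit 4, nat_lit 1, nat_lit 0]) (.leaf [nat_lit 6, nat_lit 5, nat_lit 3, nat_lit 4, nat_lit 2, nat_lit 1, nat_lit 0])) (.node (nat_lit 651) (.leaf [nat_lit 2, nat_lit 6, nat_lit 4, nat_lit 5, nat_lit 3, nat_lit 2, nat_lit 1]) (.leaf [nat_lit 4, nat_lit 5, nat_lit 6, nat_lit 1])))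
 (.node (nat_lit 654) (.node (nat_lit 653) (.leaf [nat_lit 6, nat_lit 5, nat_lit 4, nat_lit 1]) (.leaf [nat_lit 6, nat_lit 1, nat_lit 5, nat_lit 4, nat_lit 3, nat_lit 2])) (.node (nat_lit 655) (.leaf [nat_lit 4, nat_lit 2, nat_lit 5, nat_lit 6, nat_lit 3, nat_lit 2, nat_lit 1, nat_lit 0]) (.leaf [nat_lit 5, nat_lit 0, nat_lit 6, nat_lit 0, nat_lit 4, nat_lit 3, nat_lit 1])))))
 (.node (nat_lit 664) (.node (nat_lit 660) (.node (nat_lit 658) (.node (nat_lit 657) (.leaf [nat_lit 4, nat_lit 0, nat_lit 6, nat_lit 5, nat_lit 1]) (.leaf [nat_lit 3, nat_lit 6, nat_lit 5, nat_lit 4, nat_lit 3, nat_lit 1])) (.node (nat_lit 659) (.leaf [nat_lit 4, nat_lit 2, nat_lit 5, nat_lit 6, nat_lit 2, nat_lit 1]) (.leaf [nat_lit 0, nat_lit 6, nat_lit 5, nat_lit 4, nat_lit 1, nat_lit 0])))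
 (.node (nat_lit 662) (.node (nat_lit 661) (.leaf [nat_lit 2, nat_lit 6, nat_lit 5, nat_lit 4, nat_lit 3, nat_lit 2, nat_lit 1, nat_lit 0]) (.leaf [nat_lit 6, nat_lit 5, nat_lit 1, nat_lit 4, nat_lit 0])) (.node (nat_lit 663) (.leaf [nat_lit 6, nat_lit 4, nat_lit 5, nat_lit 2, nat_lit 1, nat_lit 0]) (.leaf [nat_lit 6, nat_lit 5, nat_lit 2, nat_lit 4, nat_lit 3, nat_lit 2, nat_lit 1, nat_lit 0]))))
 (.node (nat_lit 668) (.node (nat_lit 666) (.node (nat_lit 665) (.leaf [nat_lit 4, nat_lit 5, nat_lit 6, nat_lit 3, nat_lit 2, nat_lit 1]) (.leaf [nat_lit 5, nat_lit 6, nat_lit 3, nat_lit 4, nat_lit 1, nat_lit 0])) (.node (nat_lit 667) (.leaf [nat_lit 0, nat_lit 5, nat_lit 6, nat_lit 4, nat_lit 1]) (.leaf [nat_lit 0, nat_lit 5, nat_lit 6, nat_lit 4, nat_lit 2, nat_lit 1])))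
 (.node (nat_lit 670) (.node (nat_lit 669) (.leaf [nat_lit 6, nat_lit 5, nat_lit 4, nat_lit 3, nat_lit 1, nat_lit 0]) (.leaf [nat_lit 6, nat_lit 4, nat_lit 5, nat_lit 1, nat_lit 0])) (.node (nat_lit 671) (.leaf [nat_lit 0, nat_lit 6, nat_lit 5, nat_lit 4, nat_lit 3, nat_lit 1]) (.leaf [nat_lit 0, nat_lit 6, nat_lit 5, nat_lit 4, nat_lit 2, nat_lit 1, nat_lit 0]))))))
 (.node (nat_lit 688) (.node (nat_lit 680) (.node (nat_lit 676) (.node (nat_lit 674) (.node (nat_lit 673) (.leaf [nat_lit 6, nat_lit 5, nat_lit 2, nat_lit 4, nat_lit 2, nat_lit 1]) (.leaf [nat_lit 6, nat_lit 2, nat_lit 5, nat_lit 4, nat_lit 2, nat_lit 1, nat_lit 0])) (.node (nat_lit 675) (.leaf [nat_lit 6, nat_lit 5, nat_lit 0, nat_lit 4, nat_lit 1, nat_lit 0]) (.leaf [nat_lit 5, nat_lit 6, nat_lit 4, nat_lit 1, nat_lit 0])))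
 (.node (nat_lit 678) (.node (nat_lit 677) (.leaf [nat_lit 5, nat_lit 6, nat_lit 1, nat_lit 4, nat_lit 2]) (.leaf [nat_lit 6, nat_lit 5, nat_lit 4, nat_lit 2, nat_lit 1])) (.node (nat_lit 679) (.leaf [nat_lit 5, nat_lit 6, nat_lit 4, nat_lit 3, nat_lit 1]) (.leaf [nat_lit 5, nat_lit 6, nat_lit 2, nat_lit 4, nat_lit 1, nat_lit 0]))))
 (.node (nat_lit 684) (.node (nat_lit 682) (.node (nat_lit 681) (.leaf [nat_lit 1, nat_lit 6, nat_lit 5, nat_lit 4, nat_lit 2]) (.leaf [nat_lit 0, nat_lit 5, nat_lit 6, nat_lit 4, nat_lit 3, nat_lit 1, nat_lit 0])) (.node (nat_lit 683) (.leaf [nat_lit 6, nat_lit 3, nat_lit 5, nat_lit 4, nat_lit 3, nat_lit 2, nat_lit 1]) (.leaf [nat_lit 6, nat_lit 2, nat_lit 4, nat_lit 5, nat_lit 3, nat_lit 2, nat_lit 1, nat_lit 0])))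
 (.node (nat_lit 686) (.node (nat_lit 685) (.leaf [nat_lit 5, nat_lit 6, nat_lit 1, nat_lit 4, nat_lit 3, nat_lit 2, nat_lit 0]) (.leaf [nat_lit 5, nat_lit 6, nat_lit 1, nat_lit 4])) (.node (nat_lit 687) (.leaf [nat_lit 4, nat_lit 2, nat_lit 6, nat_lit 5, nat_lit 2, nat_lit 1, nat_lit 0]) (.leaf [nat_lit 6, nat_lit 1, nat_lit 5, nat_lit 4, nat_lit 3])))))
 (.node (nat_lit 696) (.node (nat_lit 692) (.node (nat_lit 690) (.node (nat_lit 689) (.leaf [nat_lit 6, nat_lit 2, nat_lit 4, nat_lit 5, nat_lit 1]) (.leaf [nat_lit 2, nat_lit 6, nat_lit 4, nat_lit 5, nat_lit 1, nat_lit 0])) (.node (nat_lit 691) (.leaf [nat_lit 6, nat_lit 4, nat_lit 0, nat_lit 5, nat_lit 3, nat_lit 1, nat_lit 0]) (.leaf [nat_lit 5, nat_lit 6, nat_lit 4, nat_lit 2, nat_lit 1, nat_lit 0])))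
 (.node (nat_lit 694) (.node (nat_lit 693) (.leaf [nat_lit 6, nat_lit 5, nat_lit 2, nat_lit 4, nat_lit 1]) (.leaf [nat_lit 6, nat_lit 1, nat_lit 5, nat_lit 4, nat_lit 2])) (.node (nat_lit 695) (.leaf [nat_lit 1, nat_lit 6, nat_lit 5, nat_lit 4, nat_lit 3, nat_lit 0]) (.leaf [nat_lit 2, nat_lit 5, nat_lit 6, nat_lit 4, nat_lit 3, nat_lit 1, nat_lit 0]))))
 (.node (nat_lit 700) (.node (nat_lit 698) (.node (nat_lit 697) (.leaf [nat_lit 6, nat_lit 0, nat_lit 5, nat_lit 4, nat_lit 2, nat_lit 1, nat_lit 0]) (.leaf [nat_lit 6, nat_lit 5, nat_lit 3, nat_lit 4, nat_lit 3, nat_lit 2, nat_lit 1, nat_lit 0])) (.node (nat_lit 699) (.leaf [nat_lit 6, nat_lit 4, nat_lit 0, nat_lit 5, nat_lit 2, nat_lit 1]) (.leaf [nat_lit 6, nat_lit 5, nat_lit 1, nat_lit 4, nat_lit 3, nat_lit 0])))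
 (.node (nat_lit 702) (.node (nat_lit 701) (.leaf [nat_lit 6, nat_lit 5, nat_lit 3, nat_lit 4, nat_lit 3, nat_lit 1, nat_lit 0]) (.leaf [nat_lit 6, nat_lit 4, nat_lit 0, nat_lit 5, nat_lit 1])) (.node (nat_lit 703) (.leaf [nat_lit 4, nat_lit 2, nat_lit 5, nat_lit 6, nat_lit 3, nat_lit 1]) (.leaf [nat_lit 2, nat_lit 6, nat_lit 4, nat_lit 5, nat_lit 2, nat_lit 1, nat_lit 0])))))))
 (.node (nat_lit 736) (.node (nat_lit 720) (.node (nat_lit 712) (.node (nat_lit 708) (.node (nat_lit 706) (.node (nat_lit 705) (.leaf [nat_lit 0, nat_lit 5, nat_lit 6, nat_lit 4, nat_lit 3, nat_lit 2, nat_lit 1]) (.leaf [nat_lit 6, nat_lit 4, nat_lit 5, nat_lit 3, nat_lit 1])) (.node (nat_lit 707) (.leaf [nat_lit 6, nat_lit 2, nat_lit 5, nat_lit 4, nat_lit 3, nat_lit 1, nat_lit 0]) (.leaf [nat_lit 2, nat_lit 6, nat_lit 4, nat_lit 5, nat_lit 3, nat_lit 1, nat_lit 0])))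
 (.node (nat_lit 710) (.node (nat_lit 709) (.leaf [nat_lit 6, nat_lit 2, nat_lit 5, nat_lit 4, nat_lit 3, nat_lit 2, nat_lit 1]) (.leaf [nat_lit 6, nat_lit 3, nat_lit 5, nat_lit 4, nat_lit 1, nat_lit 0])) (.node (nat_lit 711) (.leaf [nat_lit 2, nat_lit 5, nat_lit 6, nat_lit 4, nat_lit 3, nat_lit 2, nat_lit 1]) (.leaf [nat_lit 1, nat_lit 5, nat_lit 6, nat_lit 4, nat_lit 3]))))
 (.node (nat_lit 716) (.node (nat_lit 714) (.node (nat_lit 713) (.leaf [nat_lit 6, nat_lit 5, nat_lit 1, nat_lit 4, nat_lit 3, nat_lit 2]) (.leaf [nat_lit 1, nat_lit 6, nat_lit 5, nat_lit 4])) (.node (nat_lit 715) (.leaf [nat_lit 2, nat_lit 6, nat_lit 5, nat_lit 4, nat_lit 2, nat_lit 1]) (.leaf [nat_lit 5, nat_lit 6, nat_lit 0, nat_lit 4, nat_lit 1])))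
 (.node (nat_lit 718) (.node (nat_lit 717) (.leaf [nat_lit 2, nat_lit 5, nat_lit 6, nat_lit 4, nat_lit 1, nat_lit 0]) (.leaf [nat_lit 6, nat_lit 4, nat_lit 1, nat_lit 5, nat_lit 2])) (.node (nat_lit 719) (.leaf [nat_lit 6, nat_lit 5, nat_lit 0, nat_lit 4, nat_lit 2, nat_lit 1, nat_lit 0]) (.leaf [nat_lit 6, nat_lit 5, nat_lit 0, nat_lit 4, nat_lit 3, nat_lit 2, nat_lit 1, nat_lit 0])))))
 (.node (nat_lit 728) (.node (nat_lit 724) (.node (nat_lit 722) (.node (nat_lit 721) (.leaf [nat_lit 5, nat_lit 1, nat_lit 6, nat_lit 4, nat_lit 3, nat_lit 0]) (.leaf [nat_lit 5, nat_lit 6, nat_lit 4, nat_lit 3, nat_lit 2, nat_lit 1, nat_lit 0])) (.node (nat_lit 723) (.leaf [nat_lit 5, nat_lit 1, nat_lit 6, nat_lit 4, nat_lit 0]) (.leaf [nat_lit 5, nat_lit 6, nat_lit 3, nat_lit 4, nat_lit 2, nat_lit 1])))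
 (.node (nat_lit 726) (.node (nat_lit 725) (.leaf [nat_lit 5, nat_lit 6, nat_lit 1, nat_lit 4, nat_lit 3]) (.leaf [nat_lit 6, nat_lit 3, nat_lit 5, nat_lit 4, nat_lit 2, nat_lit 1])) (.node (nat_lit 727) (.leaf [nat_lit 6, nat_lit 4, nat_lit 1, nat_lit 5, nat_lit 0]) (.leaf [nat_lit 1, nat_lit 5, nat_lit 6, nat_lit 4, nat_lit 2, nat_lit 0]))))
 (.node (nat_lit 732) (.node (nat_lit 730) (.node (nat_lit 729) (.leaf [nat_lit 6, nat_lit 2, nat_lit 4, nat_lit 5, nat_lit 3, nat_lit 1]) (.leaf [nat_lit 6, nat_lit 4, nat_lit 5, nat_lit 3, nat_lit 2, nat_lit 1, nat_lit 0])) (.node (nat_lit 731) (.leaf [nat_lit 1, nat_lit 5, nat_lit 6, nat_lit 4, nat_lit 3, nat_lit 2, nat_lit 0]) (.leaf [nat_lit 4, nat_lit 3, nat_lit 1, nat_lit 6, nat_lit 2, nat_lit 1, nat_lit 0])))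
 (.node (nat_lit 734) (.node (nat_lit 733) (.leaf [nat_lit 3, nat_lit 4, nat_lit 0, nat_lit 4, nat_lit 0]) (.leaf [nat_lit 4, nat_lit 0, nat_lit 4, nat_lit 5, nat_lit 1, nat_lit 0])) (.node (nat_lit 735) (.leaf [nat_lit 5, nat_lit 4, nat_lit 2, nat_lit 4, nat_lit 2, nat_lit 1]) (.leaf [nat_lit 5, nat_lit 4, nat_lit 3, nat_lit 4, nat_lit 2, nat_lit 1, nat_lit 0]))))))
 (.node (nat_lit 752) (.node (nat_lit 744) (.node (nat_lit 740) (.node (nat_lit 738) (.node (nat_lit 737) (.leaf [nat_lit 4, nat_lit 5, nat_lit 2, nat_lit 4, nat_lit 2, nat_lit 1]) (.leaf [nat_lit 4, nat_lit 2, nat_lit 4, nat_lit 5, nat_lit 2, nat_lit 1])) (.node (nat_lit 739) (.leaf [nat_lit 4, nat_lit 5, nat_lit 0, nat_lit 4, nat_lit 2, nat_lit 1]) (.leaf [nat_lit 4, nat_lit 3, nat_lit 5, nat_lit 4, nat_lit 2, nat_lit 1, nat_lit 0])))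
 (.node (nat_lit 742) (.node (nat_lit 741) (.leaf [nat_lit 2, nat_lit 1, nat_lit 5]) (.leaf [nat_lit 6, nat_lit 5, nat_lit 6, nat_lit 3, nat_lit 2, nat_lit 1, nat_lit 0])) (.node (nat_lit 743) (.leaf [nat_lit 4, nat_lit 0, nat_lit 5, nat_lit 4, nat_lit 1, nat_lit 0]) (.leaf [nat_lit 4, nat_lit 5, nat_lit 0, nat_lit 4, nat_lit 1, nat_lit 0]))))
 (.node (nat_lit 748) (.node (nat_lit 746) (.node (nat_lit 745) (.leaf [nat_lit 4, nat_lit 0, nat_lit 5, nat_lit 4, nat_lit 2, nat_lit 1]) (.leaf [nat_lit 3, nat_lit 0, nat_lit 5, nat_lit 2, nat_lit 1])) (.node (nat_lit 747) (.leaf [nat_lit 4, nat_lit 2, nat_lit 5, nat_lit 4, nat_lit 3, nat_lit 2, nat_lit 1, nat_lit 0]) (.leaf [nat_lit 5, nat_lit 4, nat_lit 1, nat_lit 4, nat_lit 3])))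
 (.node (nat_lit 750) (.node (nat_lit 749) (.leaf [nat_lit 4, nat_lit 3, nat_lit 4, nat_lit 5, nat_lit 2, nat_lit 1, nat_lit 0]) (.leaf [nat_lit 6, nat_lit 2, nat_lit 5, nat_lit 6, nat_lit 3, nat_lit 2, nat_lit 1])) (.node (nat_lit 751) (.leaf [nat_lit 3, nat_lit 1, nat_lit 5, nat_lit 2, nat_lit 0]) (.leaf [nat_lit 3, nat_lit 4, nat_lit 5, nat_lit 4, nat_lit 3, nat_lit 2, nat_lit 1])))))
 (.node (nat_lit 760) (.node (nat_lit 756) (.node (nat_lit 754) (.node (nat_lit 753) (.leaf [nat_lit 5, nat_lit 4, nat_lit 0, nat_lit 4, nat_lit 1, nat_lit 0]) (.leaf [nat_lit 1, nat_lit 4, nat_lit 5, nat_lit 4, nat_lit 3])) (.node (nat_lit 755) (.leaf [nat_lit 3, nat_lit 6, nat_lit 5, nat_lit 6, nat_lit 2, nat_lit 1, nat_lit 0]) (.leaf [nat_lit 4, nat_lit 0, nat_lit 5, nat_lit 4, nat_lit 3, nat_lit 1])))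
 (.node (nat_lit 758) (.node (nat_lit 757) (.leaf [nat_lit 2, nat_lit 1, nat_lit 5, nat_lit 3, nat_lit 2]) (.leaf [nat_lit 4, nat_lit 5, nat_lit 3, nat_lit 4, nat_lit 2, nat_lit 1, nat_lit 0])) (.node (nat_lit 759) (.leaf [nat_lit 1, nat_lit 0, nat_lit 5, nat_lit 2, nat_lit 0]) (.leaf [nat_lit 4, nat_lit 2, nat_lit 4, nat_lit 5, nat_lit 1, nat_lit 0]))))
 (.node (nat_lit 764) (.node (nat_lit 762) (.node (nat_lit 761) (.leaf [nat_lit 3, nat_lit 6, nat_lit 5, nat_lit 6, nat_lit 1]) (.leaf [nat_lit 4, nat_lit 2, nat_lit 5, nat_lit 4, nat_lit 1, nat_lit 0])) (.node (nat_lit 763) (.leaf [nat_lit 5, nat_lit 4, nat_lit 2, nat_lit 4, nat_lit 1, nat_lit 0]) (.leaf [nat_lit 2, nat_lit 5, nat_lit 3, nat_lit 2, nat_lit 1])))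
 (.node (nat_lit 766) (.node (nat_lit 765) (.leaf [nat_lit 3, nat_lit 2, nat_lit 5, nat_lit 1]) (.leaf [nat_lit 6, nat_lit 2, nat_lit 5, nat_lit 6, nat_lit 3, nat_lit 1, nat_lit 0])) (.node (nat_lit 767) (.leaf [nat_lit 4, nat_lit 2, nat_lit 5, nat_lit 4, nat_lit 2, nat_lit 1]) (.leaf [nat_lit 6, nat_lit 5, nat_lit 6, nat_lit 3, nat_lit 1])))))))))
noncomputable def bWT_3 : Tr (List ℕ) := (.node (nat_lit 896) (.node (nat_lit 832) (.node (nat_lit 800) (.node (nat_lit 784) (.node (nat_lit 776) (.node (nat_lit 772) (.node (nat_lit 770) (.node (nat_lit 769) (.leaf [nat_lit 5, nat_lit 2, nat_lit 1]) (.leaf [nat_lit 1, nat_lit 4, nat_lit 5, nat_lit 4, nat_lit 2])) (.node (nat_lit 771) (.leaf [nat_lit 2, nat_lit 5, nat_lit 1]) (.leaf [nat_lit 1, nat_lit 5, nat_lit 2])))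
 (.node (nat_lit 774) (.node (nat_lit 773) (.leaf [nat_lit 3, nat_lit 2, nat_lit 1, nat_lit 5, nat_lit 3]) (.leaf [nat_lit 5, nat_lit 4, nat_lit 3, nat_lit 4, nat_lit 1])) (.node (nat_lit 775) (.leaf [nat_lit 5, nat_lit 4, nat_lit 1, nat_lit 4, nat_lit 0]) (.leaf [nat_lit 3, nat_lit 1, nat_lit 0, nat_lit 5, nat_lit 0]))))
 (.node (nat_lit 780) (.node (nat_lit 778) (.node (nat_lit 777) (.leaf [nat_lit 3, nat_lit 4, nat_lit 5, nat_lit 4, nat_lit 2, nat_lit 1, nat_lit 0]) (.leaf [nat_lit 3, nat_lit 1, nat_lit 5])) (.node (nat_lit 779) (.leaf [nat_lit 0, nat_lit 5, nat_lit 3, nat_lit 2, nat_lit 1]) (.leaf [nat_lit 4, nat_lit 2, nat_lit 4, nat_lit 5, nat_lit 3, nat_lit 2, nat_lit 1, nat_lit 0])))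
 (.node (nat_lit 782) (.node (nat_lit 781) (.leaf [nat_lit 4, nat_lit 5, nat_lit 2, nat_lit 4, nat_lit 1, nat_lit 0]) (.leaf [nat_lit 4, nat_lit 5, nat_lit 3, nat_lit 4, nat_lit 1])) (.node (nat_lit 783) (.leaf [nat_lit 4, nat_lit 3, nat_lit 5, nat_lit 4, nat_lit 1]) (.leaf [nat_lit 3, nat_lit 4, nat_lit 5, nat_lit 4, nat_lit 2, nat_lit 1])))))
 (.node (nat_lit 792) (.node (nat_lit 788) (.node (nat_lit 786) (.node (nat_lit 785) (.leaf [nat_lit 3, nat_lit 5, nat_lit 2, nat_lit 1, nat_lit 0]) (.leaf [nat_lit 3, nat_lit 1, nat_lit 0, nat_lit 5, nat_lit 2])) (.node (nat_lit 787) (.leaf [nat_lit 3, nat_lit 5, nat_lit 1]) (.leaf [nat_lit 3, nat_lit 2, nat_lit 5, nat_lit 3, nat_lit 1])))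
 (.node (nat_lit 790) (.node (nat_lit 789) (.leaf [nat_lit 5, nat_lit 4, nat_lit 0, nat_lit 4, nat_lit 3, nat_lit 1]) (.leaf [nat_lit 4, nat_lit 3, nat_lit 5, nat_lit 4, nat_lit 3, nat_lit 2, nat_lit 1])) (.node (nat_lit 791) (.leaf [nat_lit 4, nat_lit 5, nat_lit 0, nat_lit 4, nat_lit 3, nat_lit 1]) (.leaf [nat_lit 5, nat_lit 3, nat_lit 1]))))
 (.node (nat_lit 796) (.node (nat_lit 794) (.node (nat_lit 793) (.leaf [nat_lit 3, nat_lit 2, nat_lit 1, nat_lit 5, nat_lit 0]) (.leaf [nat_lit 6, nat_lit 2, nat_lit 5, nat_lit 6, nat_lit 1])) (.node (nat_lit 795) (.leaf [nat_lit 0, nat_lit 5, nat_lit 3, nat_lit 1, nat_lit 0]) (.leaf [nat_lit 1, nat_lit 5, nat_lit 3, nat_lit 2, nat_lit 0])))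
 (.node (nat_lit 798) (.node (nat_lit 797) (.leaf [nat_lit 3, nat_lit 5, nat_lit 3, nat_lit 2, nat_lit 1]) (.leaf [nat_lit 5, nat_lit 4, nat_lit 0, nat_lit 4, nat_lit 2, nat_lit 1])) (.node (nat_lit 799) (.leaf [nat_lit 4, nat_lit 3, nat_lit 4, nat_lit 5, nat_lit 1]) (.leaf [nat_lit 5, nat_lit 4, nat_lit 1, nat_lit 4, nat_lit 3, nat_lit 2, nat_lit 0]))))))
 (.node (nat_lit 816) (.node (nat_lit 808) (.node (nat_lit 804) (.node (nat_lit 802) (.node (nat_lit 801) (.leaf [nat_lit 4, nat_lit 2, nat_lit 4, nat_lit 5, nat_lit 2, nat_lit 1, nat_lit 0]) (.leaf [nat_lit 1, nat_lit 0, nat_lit 5, nat_lit 3, nat_lit 0])) (.node (nat_lit 803) (.leaf [nat_lit 4, nat_lit 2, nat_lit 5, nat_lit 3, nat_lit 4, nat_lit 2, nat_lit 1, nat_lit 0]) (.leaf [nat_lit 3, nat_lit 0, nat_lit 5, nat_lit 3, nat_lit 2, nat_lit 1, nat_lit 0])))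
 (.node (nat_lit 806) (.node (nat_lit 805) (.leaf [nat_lit 4, nat_lit 5, nat_lit 4, nat_lit 2, nat_lit 1]) (.leaf [nat_lit 4, nat_lit 0, nat_lit 4, nat_lit 5, nat_lit 3, nat_lit 1])) (.node (nat_lit 807) (.leaf [nat_lit 4, nat_lit 5, nat_lit 4, nat_lit 3, nat_lit 1]) (.leaf [nat_lit 4, nat_lit 2, nat_lit 5, nat_lit 3, nat_lit 4, nat_lit 3, nat_lit 1, nat_lit 0]))))
 (.node (nat_lit 812) (.node (nat_lit 810) (.node (nat_lit 809) (.leaf [nat_lit 4, nat_lit 5, nat_lit 4, nat_lit 3, nat_lit 2, nat_lit 1]) (.leaf [nat_lit 3, nat_lit 4, nat_lit 5, nat_lit 4, nat_lit 1])) (.node (nat_lit 811) (.leaf [nat_lit 6, nat_lit 5, nat_lit 6, nat_lit 2, nat_lit 1]) (.leaf [nat_lit 4, nat_lit 5, nat_lit 2, nat_lit 4, nat_lit 3, nat_lit 2, nat_lit 1, nat_lit 0])))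
 (.node (nat_lit 814) (.node (nat_lit 813) (.leaf [nat_lit 4, nat_lit 5, nat_lit 3, nat_lit 4, nat_lit 3, nat_lit 2, nat_lit 1]) (.leaf [nat_lit 5, nat_lit 4, nat_lit 2, nat_lit 4, nat_lit 3, nat_lit 2, nat_lit 1, nat_lit 0])) (.node (nat_lit 815) (.leaf [nat_lit 1, nat_lit 5, nat_lit 3]) (.leaf [nat_lit 3, nat_lit 2, nat_lit 1, nat_lit 5, nat_lit 2])))))
 (.node (nat_lit 824) (.node (nat_lit 820) (.node (nat_lit 818) (.node (nat_lit 817) (.leaf [nat_lit 6, nat_lit 2, nat_lit 5, nat_lit 6, nat_lit 3, nat_lit 1]) (.leaf [nat_lit 3, nat_lit 2, nat_lit 5, nat_lit 2, nat_lit 1])) (.node (nat_lit 819) (.leaf [nat_lit 0, nat_lit 5, nat_lit 2, nat_lit 1, nat_lit 0]) (.leaf [nat_lit 3, nat_lit 1, nat_lit 0, nat_lit 5, nat_lit 3, nat_lit 2, nat_lit 0])))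
 (.node (nat_lit 822) (.node (nat_lit 821) (.leaf [nat_lit 4, nat_lit 0, nat_lit 4, nat_lit 5, nat_lit 2, nat_lit 1]) (.leaf [nat_lit 4, nat_lit 5, nat_lit 3, nat_lit 4, nat_lit 2, nat_lit 1])) (.node (nat_lit 823) (.leaf [nat_lit 5, nat_lit 3, nat_lit 2, nat_lit 1, nat_lit 0]) (.leaf [nat_lit 1, nat_lit 4, nat_lit 5, nat_lit 4, nat_lit 3, nat_lit 2]))))
 (.node (nat_lit 828) (.node (nat_lit 826) (.node (nat_lit 825) (.leaf [nat_lit 3, nat_lit 5, nat_lit 2, nat_lit 1]) (.leaf [nat_lit 4, nat_lit 2, nat_lit 5, nat_lit 3, nat_lit 4, nat_lit 3, nat_lit 2, nat_lit 1])) (.node (nat_lit 827) (.leaf [nat_lit 3, nat_lit 0, nat_lit 5, nat_lit 2, nat_lit 1, nat_lit 0]) (.leaf [nat_lit 4, nat_lit 0, nat_lit 5, nat_lit 4, nat_lit 1])))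
 (.node (nat_lit 830) (.node (nat_lit 829) (.leaf [nat_lit 3, nat_lit 2, nat_lit 1, nat_lit 5]) (.leaf [nat_lit 2, nat_lit 5, nat_lit 3, nat_lit 1])) (.node (nat_lit 831) (.leaf [nat_lit 1, nat_lit 5, nat_lit 3, nat_lit 2]) (.leaf [nat_lit 2, nat_lit 1, nat_lit 5, nat_lit 3, nat_lit 0])))))))
 (.node (nat_lit 864) (.node (nat_lit 848) (.node (nat_lit 840) (.node (nat_lit 836) (.node (nat_lit 834) (.node (nat_lit 833) (.leaf [nat_lit 3, nat_lit 6, nat_lit 5, nat_lit 6, nat_lit 3, nat_lit 2, nat_lit 1]) (.leaf [nat_lit 4, nat_lit 5, nat_lit 4, nat_lit 3, nat_lit 2, nat_lit 1, nat_lit 0])) (.node (nat_lit 835) (.leaf [nat_lit 5, nat_lit 3, nat_lit 2, nat_lit 1]) (.leaf [nat_lit 5, nat_lit 4, nat_lit 0, nat_lit 4, nat_lit 1])))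
 (.node (nat_lit 838) (.node (nat_lit 837) (.leaf [nat_lit 3, nat_lit 2, nat_lit 5, nat_lit 1, nat_lit 0]) (.leaf [nat_lit 3, nat_lit 1, nat_lit 5, nat_lit 3, nat_lit 2])) (.node (nat_lit 839) (.leaf [nat_lit 5, nat_lit 4, nat_lit 3, nat_lit 4, nat_lit 2, nat_lit 1]) (.leaf [nat_lit 1, nat_lit 0, nat_lit 5, nat_lit 3, nat_lit 2]))))
 (.node (nat_lit 844) (.node (nat_lit 842) (.node (nat_lit 841) (.leaf [nat_lit 4, nat_lit 5, nat_lit 0, nat_lit 4, nat_lit 1]) (.leaf [nat_lit 5, nat_lit 4, nat_lit 3, nat_lit 4, nat_lit 3, nat_lit 2, nat_lit 1])) (.node (nat_lit 843) (.leaf [nat_lit 3, nat_lit 0, nat_lit 5, nat_lit 1, nat_lit 0]) (.leaf [nat_lit 4, nat_lit 3, nat_lit 5, nat_lit 4, nat_lit 2, nat_lit 1])))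
 (.node (nat_lit 846) (.node (nat_lit 845) (.leaf [nat_lit 4, nat_lit 3, nat_lit 4, nat_lit 5, nat_lit 3, nat_lit 2, nat_lit 1]) (.leaf [nat_lit 5, nat_lit 4, nat_lit 1, nat_lit 4, nat_lit 3, nat_lit 0])) (.node (nat_lit 847) (.leaf [nat_lit 2, nat_lit 1, nat_lit 5, nat_lit 3]) (.leaf [nat_lit 1, nat_lit 0, nat_lit 5, nat_lit 3, nat_lit 2, nat_lit 0])))))
 (.node (nat_lit 856) (.node (nat_lit 852) (.node (nat_lit 850) (.node (nat_lit 849) (.leaf [nat_lit 4, nat_lit 2, nat_lit 5, nat_lit 3, nat_lit 4, nat_lit 3, nat_lit 2, nat_lit 1, nat_lit 0]) (.leaf [nat_lit 4, nat_lit 5, nat_lit 2, nat_lit 4, nat_lit 2, nat_lit 1, nat_lit 0])) (.node (nat_lit 851) (.leaf [nat_lit 1, nat_lit 4, nat_lit 5, nat_lit 4, nat_lit 3, nat_lit 2, nat_lit 0]) (.leaf [nat_lit 2, nat_lit 5, nat_lit 3, nat_lit 1, nat_lit 0])))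
 (.node (nat_lit 854) (.node (nat_lit 853) (.leaf [nat_lit 0, nat_lit 5, nat_lit 3, nat_lit 2, nat_lit 1, nat_lit 0]) (.leaf [nat_lit 4, nat_lit 2, nat_lit 5, nat_lit 4, nat_lit 2, nat_lit 1, nat_lit 0])) (.node (nat_lit 855) (.leaf [nat_lit 6, nat_lit 5, nat_lit 6, nat_lit 3, nat_lit 2, nat_lit 1]) (.leaf [nat_lit 5, nat_lit 4, nat_lit 2, nat_lit 4, nat_lit 2, nat_lit 1, nat_lit 0]))))
 (.node (nat_lit 860) (.node (nat_lit 858) (.node (nat_lit 857) (.leaf [nat_lit 3, nat_lit 1, nat_lit 5, nat_lit 2]) (.leaf [nat_lit 4, nat_lit 3, nat_lit 4, nat_lit 5, nat_lit 2, nat_lit 1])) (.node (nat_lit 859) (.leaf [nat_lit 4, nat_lit 0, nat_lit 4, nat_lit 5, nat_lit 1]) (.leaf [nat_lit 3, nat_lit 1, nat_lit 0, nat_lit 5, nat_lit 2, nat_lit 0])))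
 (.node (nat_lit 862) (.node (nat_lit 861) (.leaf [nat_lit 3, nat_lit 6, nat_lit 5, nat_lit 6, nat_lit 2, nat_lit 1]) (.leaf [nat_lit 4, nat_lit 5, nat_lit 0, nat_lit 5])) (.node (nat_lit 863) (.leaf [nat_lit 3, nat_lit 4, nat_lit 3, nat_lit 0]) (.leaf [nat_lit 2, nat_lit 0, nat_lit 4, nat_lit 2]))))))
 (.node (nat_lit 880) (.node (nat_lit 872) (.node (nat_lit 868) (.node (nat_lit 866) (.node (nat_lit 865) (.leaf [nat_lit 0, nat_lit 4]) (.leaf [nat_lit 2, nat_lit 1, nat_lit 4, nat_lit 1])) (.node (nat_lit 867) (.leaf [nat_lit 3, nat_lit 4, nat_lit 0, nat_lit 4, nat_lit 2]) (.leaf [nat_lit 3, nat_lit 2, nat_lit 4, nat_lit 3, nat_lit 2, nat_lit 0])))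
 (.node (nat_lit 870) (.node (nat_lit 869) (.leaf [nat_lit 3, nat_lit 4, nat_lit 5]) (.leaf [nat_lit 3, nat_lit 1, nat_lit 6, nat_lit 4, nat_lit 1])) (.node (nat_lit 871) (.leaf [nat_lit 0, nat_lit 4, nat_lit 3, nat_lit 4, nat_lit 3, nat_lit 0]) (.leaf [nat_lit 5, nat_lit 0, nat_lit 5, nat_lit 0]))))
 (.node (nat_lit 876) (.node (nat_lit 874) (.node (nat_lit 873) (.leaf [nat_lit 6, nat_lit 2, nat_lit 6, nat_lit 2]) (.leaf [nat_lit 4, nat_lit 0, nat_lit 4, nat_lit 0])) (.node (nat_lit 875) (.leaf [nat_lit 4, nat_lit 3, nat_lit 1, nat_lit 0, nat_lit 4, nat_lit 3, nat_lit 2, nat_lit 1]) (.leaf [nat_lit 4, nat_lit 3, nat_lit 2, nat_lit 4, nat_lit 3, nat_lit 2])))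
 (.node (nat_lit 878) (.node (nat_lit 877) (.leaf [nat_lit 6, nat_lit 4, nat_lit 2, nat_lit 6, nat_lit 3]) (.leaf [nat_lit 6, nat_lit 3, nat_lit 6, nat_lit 3])) (.node (nat_lit 879) (.leaf [nat_lit 4, nat_lit 3, nat_lit 5, nat_lit 4, nat_lit 0]) (.leaf [nat_lit 6, nat_lit 4, nat_lit 0, nat_lit 4, nat_lit 2])))))
 (.node (nat_lit 888) (.node (nat_lit 884) (.node (nat_lit 882) (.node (nat_lit 881) (.leaf [nat_lit 3, nat_lit 1, nat_lit 4, nat_lit 3, nat_lit 2, nat_lit 1]) (.leaf [nat_lit 2, nat_lit 0, nat_lit 6])) (.node (nat_lit 883) (.leaf [nat_lit 5, nat_lit 4, nat_lit 5, nat_lit 3, nat_lit 2]) (.leaf [nat_lit 4, nat_lit 0, nat_lit 6, nat_lit 0, nat_lit 4, nat_lit 2, nat_lit 0])))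
 (.node (nat_lit 886) (.node (nat_lit 885) (.leaf [nat_lit 3, nat_lit 2, nat_lit 0, nat_lit 4, nat_lit 3, nat_lit 2]) (.leaf [nat_lit 2, nat_lit 0, nat_lit 4, nat_lit 3, nat_lit 0])) (.node (nat_lit 887) (.leaf [nat_lit 5, nat_lit 4, nat_lit 1, nat_lit 4, nat_lit 3, nat_lit 2, nat_lit 1]) (.leaf [nat_lit 3, nat_lit 5, nat_lit 4, nat_lit 5, nat_lit 3, nat_lit 0]))))
 (.node (nat_lit 892) (.node (nat_lit 890) (.node (nat_lit 889) (.leaf [nat_lit 3, nat_lit 2, nat_lit 1, nat_lit 5, nat_lit 3, nat_lit 1]) (.leaf [nat_lit 3, nat_lit 0, nat_lit 6, nat_lit 3, nat_lit 2])) (.node (nat_lit 891) (.leaf [nat_lit 3, nat_lit 1, nat_lit 0, nat_lit 4, nat_lit 3, nat_lit 2, nat_lit 1, nat_lit 0]) (.leaf [nat_lit 0, nat_lit 4, nat_lit 3, nat_lit 2, nat_lit 0])))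
 (.node (nat_lit 894) (.node (nat_lit 893) (.leaf [nat_lit 3, nat_lit 1, nat_lit 5, nat_lit 3, nat_lit 2, nat_lit 1]) (.leaf [nat_lit 2, nat_lit 6, nat_lit 0])) (.node (nat_lit 895) (.leaf [nat_lit 5, nat_lit 1, nat_lit 5, nat_lit 4, nat_lit 3, nat_lit 1, nat_lit 0]) (.leaf [nat_lit 1, nat_lit 0, nat_lit 4, nat_lit 3, nat_lit 1]))))))))
 (.node (nat_lit 960) (.node (nat_lit 928) (.node (nat_lit 912) (.node (nat_lit 904) (.node (nat_lit 900) (.node (nat_lit 898) (.node (nat_lit 897) (.leaf [nat_lit 2, nat_lit 1, nat_lit 5, nat_lit 1]) (.leaf [nat_lit 6, nat_lit 5, nat_lit 3, nat_lit 5, nat_lit 3, nat_lit 2, nat_lit 0])) (.node (nat_lit 899) (.leaf [nat_lit 3, nat_lit 2, nat_lit 0, nat_lit 4, nat_lit 0]) (.leaf [nat_lit 4, nat_lit 3, nat_lit 2])))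
 (.node (nat_lit 902) (.node (nat_lit 901) (.leaf [nat_lit 5, nat_lit 1, nat_lit 5, nat_lit 4, nat_lit 2, nat_lit 1]) (.leaf [nat_lit 0, nat_lit 5, nat_lit 4, nat_lit 5, nat_lit 3, nat_lit 2, nat_lit 0])) (.node (nat_lit 903) (.leaf [nat_lit 3, nat_lit 5, nat_lit 3, nat_lit 4, nat_lit 2, nat_lit 0]) (.leaf [nat_lit 0, nat_lit 6, nat_lit 4, nat_lit 3]))))
 (.node (nat_lit 908) (.node (nat_lit 906) (.node (nat_lit 905) (.leaf [nat_lit 4, nat_lit 3, nat_lit 2, nat_lit 4, nat_lit 0]) (.leaf [nat_lit 2, nat_lit 5, nat_lit 4, nat_lit 5, nat_lit 3])) (.node (nat_lit 907) (.leaf [nat_lit 1, nat_lit 5, nat_lit 2, nat_lit 1]) (.leaf [nat_lit 3, nat_lit 0, nat_lit 4, nat_lit 3])))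
 (.node (nat_lit 910) (.node (nat_lit 909) (.leaf [nat_lit 4, nat_lit 5, nat_lit 2, nat_lit 4, nat_lit 3, nat_lit 2, nat_lit 0]) (.leaf [nat_lit 4, nat_lit 0, nat_lit 4, nat_lit 5, nat_lit 3])) (.node (nat_lit 911) (.leaf [nat_lit 3, nat_lit 1, nat_lit 0, nat_lit 5, nat_lit 3, nat_lit 2, nat_lit 1, nat_lit 0]) (.leaf [nat_lit 4, nat_lit 3, nat_lit 1, nat_lit 5, nat_lit 1])))))
 (.node (nat_lit 920) (.node (nat_lit 916) (.node (nat_lit 914) (.node (nat_lit 913) (.leaf [nat_lit 4, nat_lit 2, nat_lit 5, nat_lit 3, nat_lit 4, nat_lit 2, nat_lit 0]) (.leaf [nat_lit 0, nat_lit 6, nat_lit 0, nat_lit 5, nat_lit 3, nat_lit 2])) (.node (nat_lit 915) (.leaf [nat_lit 0, nat_lit 4, nat_lit 5, nat_lit 3, nat_lit 0]) (.leaf [nat_lit 4, nat_lit 3, nat_lit 6, nat_lit 1, nat_lit 4, nat_lit 3, nat_lit 1])))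
 (.node (nat_lit 918) (.node (nat_lit 917) (.leaf [nat_lit 5, nat_lit 1, nat_lit 6, nat_lit 5, nat_lit 1, nat_lit 0]) (.leaf [nat_lit 5, nat_lit 6, nat_lit 2, nat_lit 5, nat_lit 0])) (.node (nat_lit 919) (.leaf [nat_lit 5, nat_lit 6, nat_lit 5, nat_lit 2, nat_lit 0]) (.leaf [nat_lit 1, nat_lit 6, nat_lit 3, nat_lit 4, nat_lit 3, nat_lit 2, nat_lit 1, nat_lit 0]))))
 (.node (nat_lit 924) (.node (nat_lit 922) (.node (nat_lit 921) (.leaf [nat_lit 5, nat_lit 1, nat_lit 0, nat_lit 6, nat_lit 2, nat_lit 1]) (.leaf [nat_lit 2, nat_lit 6, nat_lit 4])) (.node (nat_lit 923) (.leaf [nat_lit 4, nat_lit 0, nat_lit 4, nat_lit 3, nat_lit 0]) (.leaf [nat_lit 5, nat_lit 4, nat_lit 5, nat_lit 0])))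
 (.node (nat_lit 926) (.node (nat_lit 925) (.leaf [nat_lit 5, nat_lit 4, nat_lit 3, nat_lit 5, nat_lit 3, nat_lit 0]) (.leaf [nat_lit 4, nat_lit 3, nat_lit 4, nat_lit 0, nat_lit 4, nat_lit 3])) (.node (nat_lit 927) (.leaf [nat_lit 4, nat_lit 0, nat_lit 4, nat_lit 3, nat_lit 2]) (.leaf [nat_lit 2, nat_lit 5, nat_lit 4, nat_lit 5, nat_lit 2, nat_lit 0]))))))
 (.node (nat_lit 944) (.node (nat_lit 936) (.node (nat_lit 932) (.node (nat_lit 930) (.node (nat_lit 929) (.leaf [nat_lit 3, nat_lit 5, nat_lit 3, nat_lit 4, nat_lit 3]) (.leaf [nat_lit 6, nat_lit 3, nat_lit 4, nat_lit 3, nat_lit 2])) (.node (nat_lit 931) (.leaf [nat_lit 1, nat_lit 4, nat_lit 3, nat_lit 1, nat_lit 0]) (.leaf [nat_lit 4, nat_lit 5, nat_lit 3, nat_lit 4, nat_lit 0])))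
 (.node (nat_lit 934) (.node (nat_lit 933) (.leaf [nat_lit 2, nat_lit 1, nat_lit 0, nat_lit 4, nat_lit 1, nat_lit 0]) (.leaf [nat_lit 2, nat_lit 5, nat_lit 3, nat_lit 2, nat_lit 0])) (.node (nat_lit 935) (.leaf [nat_lit 3, nat_lit 2, nat_lit 5, nat_lit 2, nat_lit 0]) (.leaf [nat_lit 1, nat_lit 0, nat_lit 6, nat_lit 3, nat_lit 2, nat_lit 1, nat_lit 0]))))
 (.node (nat_lit 940) (.node (nat_lit 938) (.node (nat_lit 937) (.leaf [nat_lit 6, nat_lit 3, nat_lit 6, nat_lit 4, nat_lit 2]) (.leaf [nat_lit 4, nat_lit 5, nat_lit 1, nat_lit 5, nat_lit 3, nat_lit 2, nat_lit 1])) (.node (nat_lit 939) (.leaf [nat_lit 5, nat_lit 0, nat_lit 5, nat_lit 4, nat_lit 3, nat_lit 2, nat_lit 0]) (.leaf [nat_lit 1, nat_lit 6, nat_lit 3, nat_lit 2, nat_lit 1])))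
 (.node (nat_lit 942) (.node (nat_lit 941) (.leaf [nat_lit 6, nat_lit 0, nat_lit 6, nat_lit 2, nat_lit 4, nat_lit 2]) (.leaf [nat_lit 4, nat_lit 5, nat_lit 0, nat_lit 5, nat_lit 3, nat_lit 2, nat_lit 0])) (.node (nat_lit 943) (.leaf [nat_lit 3, nat_lit 1, nat_lit 0, nat_lit 4, nat_lit 1]) (.leaf [nat_lit 5, nat_lit 3, nat_lit 4, nat_lit 3, nat_lit 2, nat_lit 0])))))
 (.node (nat_lit 952) (.node (nat_lit 948) (.node (nat_lit 946) (.node (nat_lit 945) (.leaf [nat_lit 1, nat_lit 6, nat_lit 0, nat_lit 4, nat_lit 2, nat_lit 1]) (.leaf [nat_lit 4, nat_lit 3, nat_lit 0, nat_lit 4, nat_lit 2])) (.node (nat_lit 947) (.leaf [nat_lit 6, nat_lit 5, nat_lit 0, nat_lit 5, nat_lit 2]) (.leaf [nat_lit 5, nat_lit 3, nat_lit 0])))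
 (.node (nat_lit 950) (.node (nat_lit 949) (.leaf [nat_lit 6, nat_lit 5, nat_lit 6, nat_lit 3, nat_lit 0]) (.leaf [nat_lit 0, nat_lit 5, nat_lit 3, nat_lit 4, nat_lit 3, nat_lit 2])) (.node (nat_lit 951) (.leaf [nat_lit 6, nat_lit 3, nat_lit 1, nat_lit 5, nat_lit 3, nat_lit 1, nat_lit 0]) (.leaf [nat_lit 2, nat_lit 5, nat_lit 4, nat_lit 3, nat_lit 2]))))
 (.node (nat_lit 956) (.node (nat_lit 954) (.node (nat_lit 953) (.leaf [nat_lit 2, nat_lit 6, nat_lit 4, nat_lit 2, nat_lit 4, nat_lit 2, nat_lit 0]) (.leaf [nat_lit 4, nat_lit 3, nat_lit 1, nat_lit 6, nat_lit 3, nat_lit 1])) (.node (nat_lit 955) (.leaf [nat_lit 6, nat_lit 4, nat_lit 1, nat_lit 4, nat_lit 1]) (.leaf [nat_lit 0, nat_lit 6, nat_lit 5, nat_lit 3, nat_lit 2, nat_lit 0])))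
 (.node (nat_lit 958) (.node (nat_lit 957) (.leaf [nat_lit 3, nat_lit 6, nat_lit 4, nat_lit 3, nat_lit 2]) (.leaf [nat_lit 4, nat_lit 2, nat_lit 4, nat_lit 3, nat_lit 2])) (.node (nat_lit 959) (.leaf [nat_lit 5, nat_lit 0, nat_lit 5, nat_lit 0, nat_lit 4, nat_lit 0]) (.leaf [nat_lit 1, nat_lit 0, nat_lit 4, nat_lit 2, nat_lit 1, nat_lit 0])))))))
 (.node (nat_lit 992) (.node (nat_lit 976) (.node (nat_lit 968) (.node (nat_lit 964) (.node (nat_lit 962) (.node (nat_lit 961) (.leaf [nat_lit 4, nat_lit 2, nat_lit 4, nat_lit 3, nat_lit 0]) (.leaf [nat_lit 5, nat_lit 3, nat_lit 4])) (.node (nat_lit 963) (.leaf [nat_lit 2, nat_lit 1, nat_lit 6, nat_lit 4, nat_lit 3, nat_lit 2, nat_lit 1]) (.leaf [nat_lit 5, nat_lit 4, nat_lit 2, nat_lit 0])))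
 (.node (nat_lit 966) (.node (nat_lit 965) (.leaf [nat_lit 4, nat_lit 2, nat_lit 6, nat_lit 3, nat_lit 2, nat_lit 0]) (.leaf [nat_lit 4, nat_lit 1, nat_lit 5, nat_lit 3, nat_lit 1])) (.node (nat_lit 967) (.leaf [nat_lit 0, nat_lit 6, nat_lit 2, nat_lit 5, nat_lit 3, nat_lit 0]) (.leaf [nat_lit 2, nat_lit 4, nat_lit 5, nat_lit 3, nat_lit 2]))))
 (.node (nat_lit 972) (.node (nat_lit 970) (.node (nat_lit 969) (.leaf [nat_lit 0, nat_lit 6, nat_lit 2, nat_lit 4, nat_lit 3, nat_lit 2]) (.leaf [nat_lit 5, nat_lit 0, nat_lit 6, nat_lit 3, nat_lit 2, nat_lit 0])) (.node (nat_lit 971) (.leaf [nat_lit 5, nat_lit 6, nat_lit 2, nat_lit 4, nat_lit 2, nat_lit 1]) (.leaf [nat_lit 5, nat_lit 6, nat_lit 0, nat_lit 4, nat_lit 1, nat_lit 0])))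
 (.node (nat_lit 974) (.node (nat_lit 973) (.leaf [nat_lit 6, nat_lit 5, nat_lit 2, nat_lit 4, nat_lit 2, nat_lit 1, nat_lit 0]) (.leaf [nat_lit 6, nat_lit 4, nat_lit 0, nat_lit 5, nat_lit 1, nat_lit 0])) (.node (nat_lit 975) (.leaf [nat_lit 6, nat_lit 5, nat_lit 3, nat_lit 4, nat_lit 3, nat_lit 1]) (.leaf [nat_lit 6, nat_lit 1, nat_lit 5, nat_lit 4, nat_lit 3, nat_lit 2, nat_lit 0])))))
 (.node (nat_lit 984) (.node (nat_lit 980) (.node (nat_lit 978) (.node (nat_lit 977) (.leaf [nat_lit 5, nat_lit 6, nat_lit 3, nat_lit 4, nat_lit 2, nat_lit 1, nat_lit 0]) (.leaf [nat_lit 2, nat_lit 6, nat_lit 4, nat_lit 5, nat_lit 3, nat_lit 2, nat_lit 1, nat_lit 0])) (.node (nat_lit 979) (.leaf [nat_lit 2, nat_lit 6, nat_lit 5, nat_lit 4, nat_lit 2, nat_lit 1, nat_lit 0]) (.leaf [nat_lit 1, nat_lit 6, nat_lit 5, nat_lit 4, nat_lit 0])))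
 (.node (nat_lit 982) (.node (nat_lit 981) (.leaf [nat_lit 4, nat_lit 2, nat_lit 6, nat_lit 5, nat_lit 2, nat_lit 1]) (.leaf [nat_lit 2, nat_lit 6, nat_lit 5, nat_lit 4, nat_lit 1, nat_lit 0])) (.node (nat_lit 983) (.leaf [nat_lit 4, nat_lit 5, nat_lit 6, nat_lit 3, nat_lit 2, nat_lit 1, nat_lit 0]) (.leaf [nat_lit 5, nat_lit 1, nat_lit 6, nat_lit 4, nat_lit 2, nat_lit 0]))))
 (.node (nat_lit 988) (.node (nat_lit 986) (.node (nat_lit 985) (.leaf [nat_lit 0, nat_lit 6, nat_lit 5, nat_lit 4, nat_lit 1]) (.leaf [nat_lit 4, nat_lit 2, nat_lit 5, nat_lit 6, nat_lit 2, nat_lit 1, nat_lit 0])) (.node (nat_lit 987) (.leaf [nat_lit 5, nat_lit 6, nat_lit 4, nat_lit 2, nat_lit 1]) (.leaf [nat_lit 6, nat_lit 4, nat_lit 0, nat_lit 5, nat_lit 3, nat_lit 2, nat_lit 1, nat_lit 0])))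
 (.node (nat_lit 990) (.node (nat_lit 989) (.leaf [nat_lit 0, nat_lit 6, nat_lit 5, nat_lit 4, nat_lit 3, nat_lit 1, nat_lit 0]) (.leaf [nat_lit 5, nat_lit 0, nat_lit 6, nat_lit 0, nat_lit 4, nat_lit 1])) (.node (nat_lit 991) (.leaf [nat_lit 6, nat_lit 3, nat_lit 5, nat_lit 4, nat_lit 3, nat_lit 2, nat_lit 1, nat_lit 0]) (.leaf [nat_lit 6, nat_lit 2, nat_lit 4, nat_lit 5, nat_lit 3, nat_lit 1, nat_lit 0]))))))
 (.node (nat_lit 1008) (.node (nat_lit 1000) (.node (nat_lit 996) (.node (nat_lit 994) (.node (nat_lit 993) (.leaf [nat_lit 5, nat_lit 6, nat_lit 1, nat_lit 4, nat_lit 3, nat_lit 2]) (.leaf [nat_lit 4, nat_lit 5, nat_lit 6, nat_lit 2, nat_lit 1, nat_lit 0])) (.node (nat_lit 995) (.leaf [nat_lit 6, nat_lit 5, nat_lit 0, nat_lit 4, nat_lit 3, nat_lit 2, nat_lit 1]) (.leaf [nat_lit 6, nat_lit 4, nat_lit 0, nat_lit 5, nat_lit 3, nat_lit 1])))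
 (.node (nat_lit 998) (.node (nat_lit 997) (.leaf [nat_lit 6, nat_lit 5, nat_lit 0, nat_lit 4, nat_lit 2, nat_lit 1]) (.leaf [nat_lit 6, nat_lit 2, nat_lit 5, nat_lit 4, nat_lit 1])) (.node (nat_lit 999) (.leaf [nat_lit 5, nat_lit 6, nat_lit 3, nat_lit 4, nat_lit 3, nat_lit 2, nat_lit 1, nat_lit 0]) (.leaf [nat_lit 1, nat_lit 5, nat_lit 6, nat_lit 4, nat_lit 3, nat_lit 0]))))
 (.node (nat_lit 1004) (.node (nat_lit 1002) (.node (nat_lit 1001) (.leaf [nat_lit 6, nat_lit 5, nat_lit 1, nat_lit 4, nat_lit 3]) (.leaf [nat_lit 6, nat_lit 4, nat_lit 5, nat_lit 3, nat_lit 2, nat_lit 1])) (.node (nat_lit 1003) (.leaf [nat_lit 6, nat_lit 4, nat_lit 1, nat_lit 5]) (.leaf [nat_lit 6, nat_lit 1, nat_lit 5, nat_lit 4, nat_lit 2, nat_lit 0])))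
 (.node (nat_lit 1006) (.node (nat_lit 1005) (.leaf [nat_lit 6, nat_lit 4, nat_lit 1, nat_lit 5, nat_lit 2, nat_lit 0]) (.leaf [nat_lit 6, nat_lit 4, nat_lit 5, nat_lit 3, nat_lit 1, nat_lit 0])) (.node (nat_lit 1007) (.leaf [nat_lit 0, nat_lit 5, nat_lit 6, nat_lit 4, nat_lit 3, nat_lit 1]) (.leaf [nat_lit 6, nat_lit 4, nat_lit 0, nat_lit 5, nat_lit 2, nat_lit 1, nat_lit 0])))))
 (.node (nat_lit 1016) (.node (nat_lit 1012) (.node (nat_lit 1010) (.node (nat_lit 1009) (.leaf [nat_lit 6, nat_lit 5, nat_lit 4, nat_lit 1, nat_lit 0]) (.leaf [nat_lit 4, nat_lit 5, nat_lit 6, nat_lit 1, nat_lit 0])) (.node (nat_lit 1011) (.leaf [nat_lit 5, nat_lit 6, nat_lit 4, nat_lit 3, nat_lit 2, nat_lit 1]) (.leaf [nat_lit 6, nat_lit 5, nat_lit 4, nat_lit 3, nat_lit 1])))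
 (.node (nat_lit 1014) (.node (nat_lit 1013) (.leaf [nat_lit 4, nat_lit 0, nat_lit 6, nat_lit 5, nat_lit 1, nat_lit 0]) (.leaf [nat_lit 6, nat_lit 5, nat_lit 4, nat_lit 2, nat_lit 1, nat_lit 0])) (.node (nat_lit 1015) (.leaf [nat_lit 6, nat_lit 0, nat_lit 5, nat_lit 4, nat_lit 3, nat_lit 2, nat_lit 1]) (.leaf [nat_lit 6, nat_lit 5, nat_lit 2, nat_lit 4, nat_lit 3, nat_lit 1, nat_lit 0]))))
 (.node (nat_lit 1020) (.node (nat_lit 1018) (.node (nat_lit 1017) (.leaf [nat_lit 1, nat_lit 6, nat_lit 5, nat_lit 4, nat_lit 3]) (.leaf [nat_lit 6, nat_lit 5, nat_lit 2, nat_lit 4, nat_lit 1, nat_lit 0])) (.node (nat_lit 1019) (.leaf [nat_lit 5, nat_lit 6, nat_lit 0, nat_lit 4, nat_lit 2, nat_lit 1, nat_lit 0]) (.leaf [nat_lit 1, nat_lit 6, nat_lit 5, nat_lit 4, nat_lit 3, nat_lit 2, nat_lit 0])))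
 (.node (nat_lit 1022) (.node (nat_lit 1021) (.leaf [nat_lit 4, nat_lit 2, nat_lit 5, nat_lit 6, nat_lit 3, nat_lit 1, nat_lit 0]) (.leaf [nat_lit 4, nat_lit 2, nat_lit 6, nat_lit 5, nat_lit 3, nat_lit 1])) (.node (nat_lit 1023) (.leaf [nat_lit 3, nat_lit 6, nat_lit 5, nat_lit 4, nat_lit 2, nat_lit 1, nat_lit 0]) (.leaf [nat_lit 2, nat_lit 6, nat_lit 5, nat_lit 4, nat_lit 3, nat_lit 1, nat_lit 0])))))))))
noncomputable def bWT_4 : Tr (List ℕ) := (.node (nat_lit 1152) (.node (nat_lit 1088) (.node (nat_lit 1056) (.node (nat_lit 1040) (.node (nat_lit 1032) (.node (nat_lit 1028) (.node (nat_lit 1026) (.node (nat_lit 1025) (.leaf [nat_lit 0, nat_lit 5, nat_lit 6, nat_lit 4, nat_lit 2, nat_lit 1, nat_lit 0]) (.leaf [nat_lit 6, nat_lit 2, nat_lit 4, nat_lit 5, nat_lit 3, nat_lit 2, nat_lit 1])) (.node (nat_lit 1027) (.leaf [nat_lit 5, nat_lit 6, nat_lit 4, nat_lit 3, nat_lit 1, nat_lit 0]) (.leaf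 [nat_lit 1, nat_lit 6, nat_lit 5, nat_lit 4, nat_lit 2, nat_lit 0])))
 (.node (nat_lit 1030) (.node (nat_lit 1029) (.leaf [nat_lit 6, nat_lit 0, nat_lit 5, nat_lit 4, nat_lit 1]) (.leaf [nat_lit 2, nat_lit 5, nat_lit 6, nat_lit 4, nat_lit 1])) (.node (nat_lit 1031) (.leaf [nat_lit 5, nat_lit 6, nat_lit 0, nat_lit 4, nat_lit 3, nat_lit 2, nat_lit 1, nat_lit 0]) (.leaf [nat_lit 2, nat_lit 6, nat_lit 5, nat_lit 4, nat_lit 3, nat_lit 2, nat_lit 1]))))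
 (.node (nat_lit 1036) (.node (nat_lit 1034) (.node (nat_lit 1033) (.leaf [nat_lit 5, nat_lit 0, nat_lit 6, nat_lit 0, nat_lit 4, nat_lit 2, nat_lit 1]) (.leaf [nat_lit 4, nat_lit 0, nat_lit 6, nat_lit 5, nat_lit 3, nat_lit 2, nat_lit 1, nat_lit 0])) (.node (nat_lit 1035) (.leaf [nat_lit 1, nat_lit 5, nat_lit 6, nat_lit 4, nat_lit 2]) (.leaf [nat_lit 5, nat_lit 1, nat_lit 6, nat_lit 4, nat_lit 3])))
 (.node (nat_lit 1038) (.node (nat_lit 1037) (.leaf [nat_lit 4, nat_lit 0, nat_lit 6, nat_lit 5, nat_lit 3, nat_lit 1]) (.leaf [nat_lit 0, nat_lit 6, nat_lit 5, nat_lit 4, nat_lit 3, nat_lit 2, nat_lit 1])) (.node (nat_lit 1039) (.leaf [nat_lit 5, nat_lit 6, nat_lit 2, nat_lit 4, nat_lit 3, nat_lit 1]) (.leaf [nat_lit 5, nat_lit 0, nat_lit 6, nat_lit 0, nat_lit 4, nat_lit 3, nat_lit 2, nat_lit 1])))))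
 (.node (nat_lit 1048) (.node (nat_lit 1044) (.node (nat_lit 1042) (.node (nat_lit 1041) (.leaf [nat_lit 6, nat_lit 5, nat_lit 2, nat_lit 4, nat_lit 3, nat_lit 2, nat_lit 1]) (.leaf [nat_lit 6, nat_lit 0, nat_lit 5, nat_lit 4, nat_lit 3, nat_lit 1, nat_lit 0])) (.node (nat_lit 1043) (.leaf [nat_lit 3, nat_lit 6, nat_lit 5, nat_lit 4, nat_lit 3, nat_lit 2, nat_lit 1, nat_lit 0]) (.leaf [nat_lit 6, nat_lit 3, nat_lit 5, nat_lit 4, nat_lit 2, nat_lit 1, nat_lit 0])))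
 (.node (nat_lit 1046) (.node (nat_lit 1045) (.leaf [nat_lit 5, nat_lit 6, nat_lit 0, nat_lit 4, nat_lit 3, nat_lit 1]) (.leaf [nat_lit 6, nat_lit 4, nat_lit 1, nat_lit 5, nat_lit 3])) (.node (nat_lit 1047) (.leaf [nat_lit 2, nat_lit 5, nat_lit 6, nat_lit 4, nat_lit 3, nat_lit 1]) (.leaf [nat_lit 5, nat_lit 1, nat_lit 6, nat_lit 4]))))
 (.node (nat_lit 1052) (.node (nat_lit 1050) (.node (nat_lit 1049) (.leaf [nat_lit 1, nat_lit 5, nat_lit 6, nat_lit 4, nat_lit 3, nat_lit 2]) (.leaf [nat_lit 6, nat_lit 5, nat_lit 0, nat_lit 4, nat_lit 3, nat_lit 1, nat_lit 0])) (.node (nat_lit 1051) (.leaf [nat_lit 6, nat_lit 5, nat_lit 1, nat_lit 4, nat_lit 3, nat_lit 2, nat_lit 0]) (.leaf [nat_lit 2, nat_lit 5, nat_lit 6, nat_lit 4, nat_lit 3, nat_lit 2, nat_lit 1, nat_lit 0])))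
 (.node (nat_lit 1054) (.node (nat_lit 1053) (.leaf [nat_lit 4, nat_lit 2, nat_lit 5, nat_lit 6, nat_lit 1, nat_lit 0]) (.leaf [nat_lit 4, nat_lit 2, nat_lit 6, nat_lit 5, nat_lit 1])) (.node (nat_lit 1055) (.leaf [nat_lit 3, nat_lit 6, nat_lit 5, nat_lit 4, nat_lit 1]) (.leaf [nat_lit 5, nat_lit 6, nat_lit 2, nat_lit 4, nat_lit 3, nat_lit 2, nat_lit 1, nat_lit 0]))))))
 (.node (nat_lit 1072) (.node (nat_lit 1064) (.node (nat_lit 1060) (.node (nat_lit 1058) (.node (nat_lit 1057) (.leaf [nat_lit 5, nat_lit 0, nat_lit 6, nat_lit 0, nat_lit 4, nat_lit 3, nat_lit 1, nat_lit 0]) (.leaf [nat_lit 6, nat_lit 5, nat_lit 1, nat_lit 4])) (.node (nat_lit 1059) (.leaf [nat_lit 2, nat_lit 5, nat_lit 6, nat_lit 4, nat_lit 2, nat_lit 1]) (.leaf [nat_lit 6, nat_lit 3, nat_lit 5, nat_lit 4, nat_lit 1])))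
 (.node (nat_lit 1062) (.node (nat_lit 1061) (.leaf [nat_lit 6, nat_lit 4, nat_lit 5, nat_lit 2, nat_lit 1]) (.leaf [nat_lit 1, nat_lit 5, nat_lit 6, nat_lit 4])) (.node (nat_lit 1063) (.leaf [nat_lit 6, nat_lit 5, nat_lit 0, nat_lit 4, nat_lit 1]) (.leaf [nat_lit 5, nat_lit 6, nat_lit 1, nat_lit 4, nat_lit 3, nat_lit 0]))))
 (.node (nat_lit 1068) (.node (nat_lit 1066) (.node (nat_lit 1065) (.leaf [nat_lit 2, nat_lit 6, nat_lit 4, nat_lit 5, nat_lit 3, nat_lit 1]) (.leaf [nat_lit 6, nat_lit 2, nat_lit 5, nat_lit 4, nat_lit 3, nat_lit 1])) (.node (nat_lit 1067) (.leaf [nat_lit 6, nat_lit 4, nat_lit 1, nat_lit 5, nat_lit 3, nat_lit 2]) (.leaf [nat_lit 6, nat_lit 1, nat_lit 5, nat_lit 4])))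
 (.node (nat_lit 1070) (.node (nat_lit 1069) (.leaf [nat_lit 5, nat_lit 6, nat_lit 4, nat_lit 1]) (.leaf [nat_lit 5, nat_lit 6, nat_lit 1, nat_lit 4, nat_lit 2, nat_lit 0])) (.node (nat_lit 1071) (.leaf [nat_lit 5, nat_lit 6, nat_lit 3, nat_lit 4, nat_lit 1]) (.leaf [nat_lit 6, nat_lit 2, nat_lit 5, nat_lit 4, nat_lit 3, nat_lit 2, nat_lit 1, nat_lit 0])))))
 (.node (nat_lit 1080) (.node (nat_lit 1076) (.node (nat_lit 1074) (.node (nat_lit 1073) (.leaf [nat_lit 4, nat_lit 0, nat_lit 6, nat_lit 5, nat_lit 2, nat_lit 1, nat_lit 0]) (.leaf [nat_lit 6, nat_lit 4, nat_lit 5, nat_lit 1])) (.node (nat_lit 1075) (.leaf [nat_lit 0, nat_lit 6, nat_lit 5, nat_lit 4, nat_lit 2, nat_lit 1]) (.leaf [nat_lit 5, nat_lit 6, nat_lit 2, nat_lit 4, nat_lit 1])))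
 (.node (nat_lit 1078) (.node (nat_lit 1077) (.leaf [nat_lit 3, nat_lit 6, nat_lit 5, nat_lit 4, nat_lit 3, nat_lit 1, nat_lit 0]) (.leaf [nat_lit 0, nat_lit 5, nat_lit 6, nat_lit 4, nat_lit 3, nat_lit 2, nat_lit 1, nat_lit 0])) (.node (nat_lit 1079) (.leaf [nat_lit 6, nat_lit 5, nat_lit 4, nat_lit 3, nat_lit 2, nat_lit 1, nat_lit 0]) (.leaf [nat_lit 2, nat_lit 6, nat_lit 4, nat_lit 5, nat_lit 1]))))
 (.node (nat_lit 1084) (.node (nat_lit 1082) (.node (nat_lit 1081) (.leaf [nat_lit 6, nat_lit 2, nat_lit 5, nat_lit 4, nat_lit 2, nat_lit 1]) (.leaf [nat_lit 6, nat_lit 3, nat_lit 5, nat_lit 4, nat_lit 3, nat_lit 1, nat_lit 0])) (.node (nat_lit 1083) (.leaf [nat_lit 6, nat_lit 5, nat_lit 3, nat_lit 4, nat_lit 1, nat_lit 0]) (.leaf [nat_lit 6, nat_lit 5, nat_lit 3, nat_lit 4, nat_lit 2, nat_lit 1])))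
 (.node (nat_lit 1086) (.node (nat_lit 1085) (.leaf [nat_lit 6, nat_lit 2, nat_lit 4, nat_lit 5, nat_lit 2, nat_lit 1, nat_lit 0]) (.leaf [nat_lit 6, nat_lit 0, nat_lit 5, nat_lit 4, nat_lit 2, nat_lit 1])) (.node (nat_lit 1087) (.leaf [nat_lit 0, nat_lit 5, nat_lit 6, nat_lit 4, nat_lit 1, nat_lit 0]) (.leaf [nat_lit 6, nat_lit 1, nat_lit 5, nat_lit 4, nat_lit 3, nat_lit 0])))))))
 (.node (nat_lit 1120) (.node (nat_lit 1104) (.node (nat_lit 1096) (.node (nat_lit 1092) (.node (nat_lit 1090) (.node (nat_lit 1089) (.leaf [nat_lit 6, nat_lit 5, nat_lit 3, nat_lit 4, nat_lit 3, nat_lit 2, nat_lit 1]) (.leaf [nat_lit 5, nat_lit 6, nat_lit 1, nat_lit 4, nat_lit 0])) (.node (nat_lit 1091) (.leaf [nat_lit 4, nat_lit 2, nat_lit 6, nat_lit 5, nat_lit 3, nat_lit 2, nat_lit 1, nat_lit 0]) (.leaf [nat_lit 4, nat_lit 5, nat_lit 6, nat_lit 3, nat_lit 1])))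
 (.node (nat_lit 1094) (.node (nat_lit 1093) (.leaf [nat_lit 6, nat_lit 2, nat_lit 4, nat_lit 5, nat_lit 1, nat_lit 0]) (.leaf [nat_lit 2, nat_lit 6, nat_lit 4, nat_lit 5, nat_lit 2, nat_lit 1])) (.node (nat_lit 1095) (.leaf [nat_lit 6, nat_lit 5, nat_lit 1, nat_lit 4, nat_lit 2]) (.leaf [nat_lit 4, nat_lit 2, nat_lit 5, nat_lit 6, nat_lit 3, nat_lit 2, nat_lit 1]))))
 (.node (nat_lit 1100) (.node (nat_lit 1098) (.node (nat_lit 1097) (.leaf [nat_lit 5, nat_lit 6, nat_lit 3, nat_lit 4, nat_lit 3, nat_lit 1, nat_lit 0]) (.leaf [nat_lit 5, nat_lit 1, nat_lit 6, nat_lit 4, nat_lit 3, nat_lit 2])) (.node (nat_lit 1099) (.leaf [nat_lit 4, nat_lit 3, nat_lit 6, nat_lit 3, nat_lit 2]) (.leaf [nat_lit 5, nat_lit 1, nat_lit 0, nat_lit 5, nat_lit 2, nat_lit 1])))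
 (.node (nat_lit 1102) (.node (nat_lit 1101) (.leaf [nat_lit 5, nat_lit 4, nat_lit 3]) (.leaf [nat_lit 1, nat_lit 0, nat_lit 6, nat_lit 2, nat_lit 4, nat_lit 3, nat_lit 2, nat_lit 1, nat_lit 0])) (.node (nat_lit 1103) (.leaf [nat_lit 2, nat_lit 1, nat_lit 5, nat_lit 4, nat_lit 3, nat_lit 1, nat_lit 0]) (.leaf [nat_lit 1, nat_lit 0, nat_lit 6, nat_lit 2, nat_lit 4, nat_lit 1])))))
 (.node (nat_lit 1112) (.node (nat_lit 1108) (.node (nat_lit 1106) (.node (nat_lit 1105) (.leaf [nat_lit 6, nat_lit 1, nat_lit 0, nat_lit 6, nat_lit 2, nat_lit 1, nat_lit 0]) (.leaf [nat_lit 3, nat_lit 1, nat_lit 4, nat_lit 5, nat_lit 2, nat_lit 1, nat_lit 0])) (.node (nat_lit 1107) (.leaf [nat_lit 3, nat_lit 1, nat_lit 4, nat_lit 3, nat_lit 2]) (.leaf [nat_lit 3, nat_lit 1, nat_lit 0, nat_lit 4, nat_lit 3, nat_lit 2, nat_lit 0])))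
 (.node (nat_lit 1110) (.node (nat_lit 1109) (.leaf [nat_lit 3, nat_lit 4, nat_lit 3, nat_lit 2, nat_lit 1]) (.leaf [nat_lit 3, nat_lit 2, nat_lit 1, nat_lit 4, nat_lit 3])) (.node (nat_lit 1111) (.leaf [nat_lit 1, nat_lit 4, nat_lit 2]) (.leaf [nat_lit 2, nat_lit 5, nat_lit 4, nat_lit 5, nat_lit 1]))))
 (.node (nat_lit 1116) (.node (nat_lit 1114) (.node (nat_lit 1113) (.leaf [nat_lit 4, nat_lit 5, nat_lit 1, nat_lit 5, nat_lit 0]) (.leaf [nat_lit 0, nat_lit 4, nat_lit 3, nat_lit 1, nat_lit 0])) (.node (nat_lit 1115) (.leaf [nat_lit 3, nat_lit 0, nat_lit 4, nat_lit 3, nat_lit 2, nat_lit 1, nat_lit 0]) (.leaf [nat_lit 6, nat_lit 4, nat_lit 2, nat_lit 6, nat_lit 2, nat_lit 1, nat_lit 0])))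
 (.node (nat_lit 1118) (.node (nat_lit 1117) (.leaf [nat_lit 1, nat_lit 0, nat_lit 4, nat_lit 2, nat_lit 0]) (.leaf [nat_lit 5, nat_lit 3, nat_lit 4, nat_lit 5, nat_lit 3, nat_lit 2, nat_lit 1])) (.node (nat_lit 1119) (.leaf [nat_lit 3, nat_lit 1, nat_lit 4, nat_lit 0]) (.leaf [nat_lit 2, nat_lit 0, nat_lit 4, nat_lit 3, nat_lit 2, nat_lit 1, nat_lit 0]))))))
 (.node (nat_lit 1136) (.node (nat_lit 1128) (.node (nat_lit 1124) (.node (nat_lit 1122) (.node (nat_lit 1121) (.leaf [nat_lit 3, nat_lit 2, nat_lit 4, nat_lit 3, nat_lit 1]) (.leaf [nat_lit 4, nat_lit 2, nat_lit 1])) (.node (nat_lit 1123) (.leaf [nat_lit 2, nat_lit 4, nat_lit 3, nat_lit 2, nat_lit 1, nat_lit 0]) (.leaf [nat_lit 5, nat_lit 4, nat_lit 0, nat_lit 5, nat_lit 3, nat_lit 2, nat_lit 1])))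
 (.node (nat_lit 1126) (.node (nat_lit 1125) (.leaf [nat_lit 2, nat_lit 1, nat_lit 4]) (.leaf [nat_lit 6, nat_lit 4, nat_lit 2, nat_lit 6, nat_lit 3, nat_lit 1])) (.node (nat_lit 1127) (.leaf [nat_lit 3, nat_lit 5, nat_lit 4, nat_lit 5, nat_lit 1]) (.leaf [nat_lit 5, nat_lit 1, nat_lit 5, nat_lit 4, nat_lit 3, nat_lit 2]))))
 (.node (nat_lit 1132) (.node (nat_lit 1130) (.node (nat_lit 1129) (.leaf [nat_lit 2, nat_lit 1, nat_lit 4, nat_lit 3, nat_lit 2, nat_lit 0]) (.leaf [nat_lit 2, nat_lit 5, nat_lit 4, nat_lit 5, nat_lit 3, nat_lit 2, nat_lit 1])) (.node (nat_lit 1131) (.leaf [nat_lit 4, nat_lit 5, nat_lit 1, nat_lit 5, nat_lit 3, nat_lit 2]) (.leaf [nat_lit 5, nat_lit 4, nat_lit 5, nat_lit 2, nat_lit 1])))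
 (.node (nat_lit 1134) (.node (nat_lit 1133) (.leaf [nat_lit 2, nat_lit 0, nat_lit 4, nat_lit 3, nat_lit 2, nat_lit 1]) (.leaf [nat_lit 6, nat_lit 3, nat_lit 6, nat_lit 4, nat_lit 2, nat_lit 1, nat_lit 0])) (.node (nat_lit 1135) (.leaf [nat_lit 6, nat_lit 2, nat_lit 6, nat_lit 0, nat_lit 4, nat_lit 3, nat_lit 1, nat_lit 0]) (.leaf [nat_lit 2, nat_lit 5, nat_lit 4, nat_lit 5, nat_lit 3, nat_lit 2, nat_lit 1, nat_lit 0])))))
 (.node (nat_lit 1144) (.node (nat_lit 1140) (.node (nat_lit 1138) (.node (nat_lit 1137) (.leaf [nat_lit 5, nat_lit 4, nat_lit 0, nat_lit 5, nat_lit 3, nat_lit 2, nat_lit 1, nat_lit 0]) (.leaf [nat_lit 5, nat_lit 0, nat_lit 5, nat_lit 4, nat_lit 3, nat_lit 2, nat_lit 1, nat_lit 0])) (.node (nat_lit 1139) (.leaf [nat_lit 3, nat_lit 1, nat_lit 4, nat_lit 3]) (.leaf [nat_lit 4, nat_lit 3, nat_lit 1])))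
 (.node (nat_lit 1142) (.node (nat_lit 1141) (.leaf [nat_lit 1, nat_lit 0, nat_lit 4, nat_lit 3, nat_lit 0]) (.leaf [nat_lit 3, nat_lit 0, nat_lit 4, nat_lit 1, nat_lit 0])) (.node (nat_lit 1143) (.leaf [nat_lit 6, nat_lit 2, nat_lit 6, nat_lit 0, nat_lit 4, nat_lit 1]) (.leaf [nat_lit 3, nat_lit 2, nat_lit 0, nat_lit 4, nat_lit 3, nat_lit 1, nat_lit 0]))))
 (.node (nat_lit 1148) (.node (nat_lit 1146) (.node (nat_lit 1145) (.leaf [nat_lit 0, nat_lit 4, nat_lit 2, nat_lit 1, nat_lit 0]) (.leaf [nat_lit 3, nat_lit 5, nat_lit 4, nat_lit 5, nat_lit 1, nat_lit 0])) (.node (nat_lit 1147) (.leaf [nat_lit 4, nat_lit 5, nat_lit 1, nat_lit 5]) (.leaf [nat_lit 2, nat_lit 1, nat_lit 0, nat_lit 4, nat_lit 0])))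
 (.node (nat_lit 1150) (.node (nat_lit 1149) (.leaf [nat_lit 6, nat_lit 3, nat_lit 6, nat_lit 4, nat_lit 2, nat_lit 1]) (.leaf [nat_lit 5, nat_lit 1, nat_lit 5, nat_lit 4])) (.node (nat_lit 1151) (.leaf [nat_lit 5, nat_lit 4, nat_lit 3, nat_lit 5, nat_lit 3, nat_lit 2, nat_lit 1]) (.leaf [nat_lit 4, nat_lit 5, nat_lit 0, nat_lit 5, nat_lit 3, nat_lit 2, nat_lit 1, nat_lit 0]))))))))
 (.node (nat_lit 1216) (.node (nat_lit 1184) (.node (nat_lit 1168) (.node (nat_lit 1160) (.node (nat_lit 1156) (.node (nat_lit 1154) (.node (nat_lit 1153) (.leaf [nat_lit 5, nat_lit 4, nat_lit 5, nat_lit 3, nat_lit 1]) (.leaf [nat_lit 6, nat_lit 2, nat_lit 6, nat_lit 0, nat_lit 4, nat_lit 2, nat_lit 1])) (.node (nat_lit 1155) (.leaf [nat_lit 0, nat_lit 5, nat_lit 4, nat_lit 5, nat_lit 2, nat_lit 1, nat_lit 0]) (.leaf [nat_lit 4, nat_lit 3, nat_lit 4, nat_lit 0, nat_lit 4, nat_lit 1])))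
 (.node (nat_lit 1158) (.node (nat_lit 1157) (.leaf [nat_lit 6, nat_lit 2, nat_lit 6, nat_lit 0, nat_lit 4, nat_lit 3, nat_lit 1]) (.leaf [nat_lit 3, nat_lit 1, nat_lit 0, nat_lit 4])) (.node (nat_lit 1159) (.leaf [nat_lit 3, nat_lit 4, nat_lit 1, nat_lit 0]) (.leaf [nat_lit 3, nat_lit 2, nat_lit 1, nat_lit 4, nat_lit 2, nat_lit 0]))))
 (.node (nat_lit 1164) (.node (nat_lit 1162) (.node (nat_lit 1161) (.leaf [nat_lit 1, nat_lit 4, nat_lit 3, nat_lit 0]) (.leaf [nat_lit 6, nat_lit 3, nat_lit 6, nat_lit 4, nat_lit 3, nat_lit 2, nat_lit 1, nat_lit 0])) (.node (nat_lit 1163) (.leaf [nat_lit 2, nat_lit 4, nat_lit 3, nat_lit 2, nat_lit 1]) (.leaf [nat_lit 2, nat_lit 1, nat_lit 0, nat_lit 4, nat_lit 3, nat_lit 2, nat_lit 0])))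
 (.node (nat_lit 1166) (.node (nat_lit 1165) (.leaf [nat_lit 3, nat_lit 2, nat_lit 0, nat_lit 4, nat_lit 2, nat_lit 1, nat_lit 0]) (.leaf [nat_lit 3, nat_lit 2, nat_lit 1, nat_lit 4, nat_lit 3, nat_lit 2])) (.node (nat_lit 1167) (.leaf [nat_lit 2, nat_lit 4, nat_lit 1]) (.leaf [nat_lit 5, nat_lit 4, nat_lit 0, nat_lit 5, nat_lit 1])))))
 (.node (nat_lit 1176) (.node (nat_lit 1172) (.node (nat_lit 1170) (.node (nat_lit 1169) (.leaf [nat_lit 5, nat_lit 4, nat_lit 3, nat_lit 5, nat_lit 1, nat_lit 0]) (.leaf [nat_lit 3, nat_lit 1, nat_lit 0, nat_lit 4, nat_lit 0])) (.node (nat_lit 1171) (.leaf [nat_lit 4, nat_lit 3, nat_lit 1, nat_lit 0]) (.leaf [nat_lit 3, nat_lit 2, nat_lit 4, nat_lit 2, nat_lit 1, nat_lit 0])))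
 (.node (nat_lit 1174) (.node (nat_lit 1173) (.leaf [nat_lit 2, nat_lit 5, nat_lit 4, nat_lit 5, nat_lit 2, nat_lit 1]) (.leaf [nat_lit 4, nat_lit 5, nat_lit 0, nat_lit 5, nat_lit 3, nat_lit 2, nat_lit 1])) (.node (nat_lit 1175) (.leaf [nat_lit 3, nat_lit 0, nat_lit 4, nat_lit 3, nat_lit 1, nat_lit 0]) (.leaf [nat_lit 5, nat_lit 0, nat_lit 5, nat_lit 0, nat_lit 4, nat_lit 3, nat_lit 2, nat_lit 1]))))
 (.node (nat_lit 1180) (.node (nat_lit 1178) (.node (nat_lit 1177) (.leaf [nat_lit 3, nat_lit 2, nat_lit 0, nat_lit 4, nat_lit 2, nat_lit 1]) (.leaf [nat_lit 2, nat_lit 1, nat_lit 0, nat_lit 4, nat_lit 3, nat_lit 2])) (.node (nat_lit 1179) (.leaf [nat_lit 4, nat_lit 5, nat_lit 1, nat_lit 5, nat_lit 3]) (.leaf [nat_lit 4, nat_lit 3, nat_lit 4, nat_lit 0, nat_lit 4, nat_lit 1, nat_lit 0])))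
 (.node (nat_lit 1182) (.node (nat_lit 1181) (.leaf [nat_lit 3, nat_lit 1, nat_lit 0, nat_lit 4, nat_lit 3, nat_lit 0]) (.leaf [nat_lit 5, nat_lit 0, nat_lit 5, nat_lit 4, nat_lit 1])) (.node (nat_lit 1183) (.leaf [nat_lit 3, nat_lit 5, nat_lit 4, nat_lit 5, nat_lit 3, nat_lit 2, nat_lit 1]) (.leaf [nat_lit 5, nat_lit 3, nat_lit 4, nat_lit 5, nat_lit 1, nat_lit 0]))))))
 (.node (nat_lit 1200) (.node (nat_lit 1192) (.node (nat_lit 1188) (.node (nat_lit 1186) (.node (nat_lit 1185) (.leaf [nat_lit 2, nat_lit 1, nat_lit 4, nat_lit 3, nat_lit 2]) (.leaf [nat_lit 2, nat_lit 1, nat_lit 0, nat_lit 4, nat_lit 2, nat_lit 0])) (.node (nat_lit 1187) (.leaf [nat_lit 5, nat_lit 3, nat_lit 4, nat_lit 5, nat_lit 1]) (.leaf [nat_lit 4, nat_lit 5, nat_lit 0, nat_lit 5, nat_lit 2, nat_lit 1])))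
 (.node (nat_lit 1190) (.node (nat_lit 1189) (.leaf [nat_lit 5, nat_lit 1, nat_lit 5, nat_lit 4, nat_lit 0]) (.leaf [nat_lit 3, nat_lit 1, nat_lit 4])) (.node (nat_lit 1191) (.leaf [nat_lit 0, nat_lit 4, nat_lit 3, nat_lit 1]) (.leaf [nat_lit 5, nat_lit 4, nat_lit 5, nat_lit 1]))))
 (.node (nat_lit 1196) (.node (nat_lit 1194) (.node (nat_lit 1193) (.leaf [nat_lit 0, nat_lit 5, nat_lit 4, nat_lit 5, nat_lit 3, nat_lit 1, nat_lit 0]) (.leaf [nat_lit 6, nat_lit 0, nat_lit 6, nat_lit 2, nat_lit 4, nat_lit 3, nat_lit 1])) (.node (nat_lit 1195) (.leaf [nat_lit 3, nat_lit 2, nat_lit 0, nat_lit 4, nat_lit 3, nat_lit 2, nat_lit 1, nat_lit 0]) (.leaf [nat_lit 5, nat_lit 4, nat_lit 5, nat_lit 3, nat_lit 1, nat_lit 0])))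
 (.node (nat_lit 1198) (.node (nat_lit 1197) (.leaf [nat_lit 4, nat_lit 3, nat_lit 4, nat_lit 0, nat_lit 4, nat_lit 3, nat_lit 1, nat_lit 0]) (.leaf [nat_lit 6, nat_lit 3, nat_lit 6, nat_lit 4, nat_lit 3, nat_lit 1, nat_lit 0])) (.node (nat_lit 1199) (.leaf [nat_lit 4, nat_lit 5, nat_lit 0, nat_lit 5, nat_lit 1]) (.leaf [nat_lit 5, nat_lit 0, nat_lit 5, nat_lit 0, nat_lit 4, nat_lit 2, nat_lit 1, nat_lit 0])))))
 (.node (nat_lit 1208) (.node (nat_lit 1204) (.node (nat_lit 1202) (.node (nat_lit 1201) (.leaf [nat_lit 3, nat_lit 4, nat_lit 3, nat_lit 1]) (.leaf [nat_lit 1, nat_lit 4])) (.node (nat_lit 1203) (.leaf [nat_lit 1, nat_lit 4, nat_lit 3]) (.leaf [nat_lit 3, nat_lit 4, nat_lit 1])))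
 (.node (nat_lit 1206) (.node (nat_lit 1205) (.leaf [nat_lit 5, nat_lit 4, nat_lit 3, nat_lit 5, nat_lit 3, nat_lit 1]) (.leaf [nat_lit 5, nat_lit 3, nat_lit 4, nat_lit 5, nat_lit 3, nat_lit 1])) (.node (nat_lit 1207) (.leaf [nat_lit 2, nat_lit 0, nat_lit 4, nat_lit 1, nat_lit 0]) (.leaf [nat_lit 6, nat_lit 4, nat_lit 2, nat_lit 6, nat_lit 3, nat_lit 1, nat_lit 0]))))
 (.node (nat_lit 1212) (.node (nat_lit 1210) (.node (nat_lit 1209) (.leaf [nat_lit 5, nat_lit 0, nat_lit 5, nat_lit 4, nat_lit 3, nat_lit 2, nat_lit 1]) (.leaf [nat_lit 1, nat_lit 0, nat_lit 4, nat_lit 3])) (.node (nat_lit 1211) (.leaf [nat_lit 0, nat_lit 5, nat_lit 4, nat_lit 5, nat_lit 3, nat_lit 1]) (.leaf [nat_lit 6, nat_lit 0, nat_lit 6, nat_lit 2, nat_lit 4, nat_lit 3, nat_lit 1, nat_lit 0])))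
 (.node (nat_lit 1214) (.node (nat_lit 1213) (.leaf [nat_lit 6, nat_lit 4, nat_lit 2, nat_lit 6, nat_lit 1, nat_lit 0]) (.leaf [nat_lit 5, nat_lit 4, nat_lit 3, nat_lit 5, nat_lit 1])) (.node (nat_lit 1215) (.leaf [nat_lit 5, nat_lit 4, nat_lit 0, nat_lit 5, nat_lit 2, nat_lit 1]) (.leaf [nat_lit 5, nat_lit 0, nat_lit 5, nat_lit 0, nat_lit 4, nat_lit 1, nat_lit 0])))))))
 (.node (nat_lit 1248) (.node (nat_lit 1232) (.node (nat_lit 1224) (.node (nat_lit 1220) (.node (nat_lit 1218) (.node (nat_lit 1217) (.leaf [nat_lit 4, nat_lit 3, nat_lit 4, nat_lit 0, nat_lit 4, nat_lit 3, nat_lit 2, nat_lit 1, nat_lit 0]) (.leaf [nat_lit 3, nat_lit 0, nat_lit 4, nat_lit 1])) (.node (nat_lit 1219) (.leaf [nat_lit 5, nat_lit 0, nat_lit 5, nat_lit 4, nat_lit 2, nat_lit 1]) (.leaf [nat_lit 1, nat_lit 0, nat_lit 4, nat_lit 0])))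
 (.node (nat_lit 1222) (.node (nat_lit 1221) (.leaf [nat_lit 3, nat_lit 2, nat_lit 1, nat_lit 4, nat_lit 2]) (.leaf [nat_lit 5, nat_lit 0, nat_lit 5, nat_lit 0, nat_lit 4, nat_lit 3, nat_lit 2, nat_lit 1, nat_lit 0])) (.node (nat_lit 1223) (.leaf [nat_lit 4, nat_lit 1]) (.leaf [nat_lit 6, nat_lit 0, nat_lit 6, nat_lit 2, nat_lit 4, nat_lit 2, nat_lit 1]))))
 (.node (nat_lit 1228) (.node (nat_lit 1226) (.node (nat_lit 1225) (.leaf [nat_lit 2, nat_lit 1, nat_lit 4, nat_lit 2]) (.leaf [nat_lit 0, nat_lit 5, nat_lit 4, nat_lit 5, nat_lit 1, nat_lit 0])) (.node (nat_lit 1227) (.leaf [nat_lit 6, nat_lit 0, nat_lit 6, nat_lit 2, nat_lit 4, nat_lit 1]) (.leaf [nat_lit 3, nat_lit 2, nat_lit 4, nat_lit 2, nat_lit 1])))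
 (.node (nat_lit 1230) (.node (nat_lit 1229) (.leaf [nat_lit 2, nat_lit 4, nat_lit 2, nat_lit 1]) (.leaf [nat_lit 3, nat_lit 2, nat_lit 4, nat_lit 3, nat_lit 2, nat_lit 1])) (.node (nat_lit 1231) (.leaf [nat_lit 0, nat_lit 4, nat_lit 1, nat_lit 0]) (.leaf [nat_lit 5, nat_lit 1, nat_lit 5, nat_lit 4, nat_lit 3])))))
 (.node (nat_lit 1240) (.node (nat_lit 1236) (.node (nat_lit 1234) (.node (nat_lit 1233) (.leaf [nat_lit 2, nat_lit 0, nat_lit 4, nat_lit 2, nat_lit 1, nat_lit 0]) (.leaf [nat_lit 3, nat_lit 5, nat_lit 4, nat_lit 5, nat_lit 3, nat_lit 1])) (.node (nat_lit 1235) (.leaf [nat_lit 1, nat_lit 4, nat_lit 5, nat_lit 1]) (.leaf [nat_lit 5, nat_lit 6, nat_lit 0, nat_lit 5, nat_lit 2])))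
 (.node (nat_lit 1238) (.node (nat_lit 1237) (.leaf [nat_lit 2, nat_lit 6, nat_lit 1, nat_lit 4, nat_lit 3, nat_lit 1]) (.leaf [nat_lit 6, nat_lit 3, nat_lit 0, nat_lit 4, nat_lit 3, nat_lit 2, nat_lit 0])) (.node (nat_lit 1239) (.leaf [nat_lit 6, nat_lit 3, nat_lit 6]) (.leaf [nat_lit 6, nat_lit 3, nat_lit 6, nat_lit 2, nat_lit 0]))))
 (.node (nat_lit 1244) (.node (nat_lit 1242) (.node (nat_lit 1241) (.leaf [nat_lit 3, nat_lit 2, nat_lit 1, nat_lit 4, nat_lit 3, nat_lit 1]) (.leaf [nat_lit 2, nat_lit 1, nat_lit 5, nat_lit 4, nat_lit 2, nat_lit 1])) (.node (nat_lit 1243) (.leaf [nat_lit 4, nat_lit 2, nat_lit 6]) (.leaf [nat_lit 5, nat_lit 1, nat_lit 4, nat_lit 1])))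
 (.node (nat_lit 1246) (.node (nat_lit 1245) (.leaf [nat_lit 3, nat_lit 1, nat_lit 6, nat_lit 4, nat_lit 3, nat_lit 2, nat_lit 1, nat_lit 0]) (.leaf [nat_lit 1, nat_lit 5, nat_lit 4, nat_lit 3, nat_lit 2, nat_lit 1, nat_lit 0])) (.node (nat_lit 1247) (.leaf [nat_lit 2, nat_lit 1, nat_lit 6, nat_lit 5, nat_lit 3, nat_lit 2, nat_lit 1]) (.leaf [nat_lit 5, nat_lit 0, nat_lit 4, nat_lit 3, nat_lit 0]))))))
 (.node (nat_lit 1264) (.node (nat_lit 1256) (.node (nat_lit 1252) (.node (nat_lit 1250) (.node (nat_lit 1249) (.leaf [nat_lit 6, nat_lit 2, nat_lit 4, nat_lit 3, nat_lit 2, nat_lit 0]) (.leaf [nat_lit 1, nat_lit 6, nat_lit 0, nat_lit 5, nat_lit 3, nat_lit 1, nat_lit 0])) (.node (nat_lit 1251) (.leaf [nat_lit 1, nat_lit 6, nat_lit 1, nat_lit 4, nat_lit 3, nat_lit 2, nat_lit 0]) (.leaf [nat_lit 6, nat_lit 1, nat_lit 0, nat_lit 6, nat_lit 1])))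
 (.node (nat_lit 1254) (.node (nat_lit 1253) (.leaf [nat_lit 5, nat_lit 1, nat_lit 4, nat_lit 3, nat_lit 2, nat_lit 1, nat_lit 0]) (.leaf [nat_lit 1, nat_lit 6, nat_lit 2, nat_lit 4, nat_lit 3, nat_lit 2, nat_lit 1])) (.node (nat_lit 1255) (.leaf [nat_lit 1, nat_lit 4, nat_lit 5, nat_lit 3, nat_lit 2, nat_lit 1, nat_lit 0]) (.leaf [nat_lit 0, nat_lit 6, nat_lit 0, nat_lit 4, nat_lit 3, nat_lit 0]))))
 (.node (nat_lit 1260) (.node (nat_lit 1258) (.node (nat_lit 1257) (.leaf [nat_lit 4, nat_lit 3, nat_lit 4, nat_lit 2, nat_lit 0]) (.leaf [nat_lit 4, nat_lit 0, nat_lit 5, nat_lit 2])) (.node (nat_lit 1259) (.leaf [nat_lit 5, nat_lit 1, nat_lit 6, nat_lit 2, nat_lit 1, nat_lit 0]) (.leaf [nat_lit 3, nat_lit 6, nat_lit 0, nat_lit 4])))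
 (.node (nat_lit 1262) (.node (nat_lit 1261) (.leaf [nat_lit 2, nat_lit 6, nat_lit 5, nat_lit 3]) (.leaf [nat_lit 2, nat_lit 6, nat_lit 0, nat_lit 4, nat_lit 0])) (.node (nat_lit 1263) (.leaf [nat_lit 1, nat_lit 4, nat_lit 2, nat_lit 0, nat_lit 4, nat_lit 3, nat_lit 2, nat_lit 1, nat_lit 0]) (.leaf [nat_lit 1, nat_lit 4, nat_lit 2, nat_lit 0, nat_lit 4, nat_lit 3, nat_lit 1])))))
 (.node (nat_lit 1272) (.node (nat_lit 1268) (.node (nat_lit 1266) (.node (nat_lit 1265) (.leaf [nat_lit 3, nat_lit 6, nat_lit 1, nat_lit 4, nat_lit 3, nat_lit 1, nat_lit 0]) (.leaf [nat_lit 2, nat_lit 4, nat_lit 5, nat_lit 0])) (.node (nat_lit 1267) (.leaf [nat_lit 3, nat_lit 6, nat_lit 1, nat_lit 4, nat_lit 2, nat_lit 1]) (.leaf [nat_lit 4, nat_lit 1, nat_lit 4, nat_lit 3, nat_lit 1])))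
 (.node (nat_lit 1270) (.node (nat_lit 1269) (.leaf [nat_lit 4, nat_lit 3, nat_lit 5, nat_lit 3, nat_lit 2, nat_lit 0]) (.leaf [nat_lit 2, nat_lit 6, nat_lit 3, nat_lit 5])) (.node (nat_lit 1271) (.leaf [nat_lit 0, nat_lit 6, nat_lit 1, nat_lit 4, nat_lit 3, nat_lit 2, nat_lit 1, nat_lit 0]) (.leaf [nat_lit 2, nat_lit 5, nat_lit 6, nat_lit 3]))))
 (.node (nat_lit 1276) (.node (nat_lit 1274) (.node (nat_lit 1273) (.leaf [nat_lit 6, nat_lit 4, nat_lit 2]) (.leaf [nat_lit 0, nat_lit 6, nat_lit 2, nat_lit 6, nat_lit 3, nat_lit 2, nat_lit 0])) (.node (nat_lit 1275) (.leaf [nat_lit 0, nat_lit 6, nat_lit 2, nat_lit 6, nat_lit 3]) (.leaf [nat_lit 0, nat_lit 6, nat_lit 0, nat_lit 4, nat_lit 2])))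
 (.node (nat_lit 1278) (.node (nat_lit 1277) (.leaf [nat_lit 5, nat_lit 0, nat_lit 4, nat_lit 2]) (.leaf [nat_lit 2, nat_lit 6, nat_lit 4, nat_lit 3, nat_lit 2, nat_lit 0])) (.node (nat_lit 1279) (.leaf [nat_lit 3, nat_lit 5, nat_lit 1, nat_lit 4, nat_lit 3, nat_lit 1]) (.leaf [nat_lit 5, nat_lit 6, nat_lit 3, nat_lit 2])))))))))
noncomputable def bWT_5 : Tr (List ℕ) := (.node (nat_lit 1408) (.node (nat_lit 1344) (.node (nat_lit 1312) (.node (nat_lit 1296) (.node (nat_lit 1288) (.node (nat_lit 1284) (.node (nat_lit 1282) (.node (nat_lit 1281) (.leaf [nat_lit 6, nat_lit 1, nat_lit 4, nat_lit 3, nat_lit 2, nat_lit 1]) (.leaf [nat_lit 1, nat_lit 0, nat_lit 6, nat_lit 5, nat_lit 3, nat_lit 1, nat_lit 0])) (.node (nat_lit 1283) (.leaf [nat_lit 0, nat_lit 6, nat_lit 4, nat_lit 2, nat_lit 0]) (.leaf [nat_lit 4, nat_lit 3, nat_lit 4])))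
 (.node (nat_lit 1286) (.node (nat_lit 1285) (.leaf [nat_lit 6, nat_lit 0, nat_lit 4, nat_lit 2, nat_lit 0]) (.leaf [nat_lit 1, nat_lit 5, nat_lit 2, nat_lit 4, nat_lit 3, nat_lit 1, nat_lit 0])) (.node (nat_lit 1287) (.leaf [nat_lit 2, nat_lit 6, nat_lit 0, nat_lit 4, nat_lit 3, nat_lit 2]) (.leaf [nat_lit 6, nat_lit 2, nat_lit 0, nat_lit 4, nat_lit 3, nat_lit 2]))))
 (.node (nat_lit 1292) (.node (nat_lit 1290) (.node (nat_lit 1289) (.leaf [nat_lit 5, nat_lit 1, nat_lit 5, nat_lit 1]) (.leaf [nat_lit 0, nat_lit 5, nat_lit 0, nat_lit 4, nat_lit 2, nat_lit 0])) (.node (nat_lit 1291) (.leaf [nat_lit 3, nat_lit 4, nat_lit 3, nat_lit 6, nat_lit 3, nat_lit 0]) (.leaf [nat_lit 6, nat_lit 0, nat_lit 6, nat_lit 3, nat_lit 2])))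
 (.node (nat_lit 1294) (.node (nat_lit 1293) (.leaf [nat_lit 1, nat_lit 5, nat_lit 3, nat_lit 4, nat_lit 2, nat_lit 1, nat_lit 0]) (.leaf [nat_lit 4, nat_lit 3, nat_lit 6, nat_lit 0])) (.node (nat_lit 1295) (.leaf [nat_lit 0, nat_lit 4, nat_lit 3, nat_lit 4, nat_lit 2]) (.leaf [nat_lit 6, nat_lit 3, nat_lit 2, nat_lit 4, nat_lit 2, nat_lit 0])))))
 (.node (nat_lit 1304) (.node (nat_lit 1300) (.node (nat_lit 1298) (.node (nat_lit 1297) (.leaf [nat_lit 6, nat_lit 2, nat_lit 1, nat_lit 6, nat_lit 1]) (.leaf [nat_lit 1, nat_lit 0, nat_lit 6, nat_lit 4, nat_lit 2, nat_lit 1])) (.node (nat_lit 1299) (.leaf [nat_lit 0, nat_lit 5, nat_lit 2, nat_lit 5, nat_lit 3]) (.leaf [nat_lit 5, nat_lit 3, nat_lit 1, nat_lit 4, nat_lit 3, nat_lit 1])))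
 (.node (nat_lit 1302) (.node (nat_lit 1301) (.leaf [nat_lit 5, nat_lit 3, nat_lit 0, nat_lit 4, nat_lit 3, nat_lit 2]) (.leaf [nat_lit 5, nat_lit 2, nat_lit 4, nat_lit 0])) (.node (nat_lit 1303) (.leaf [nat_lit 0, nat_lit 4, nat_lit 5, nat_lit 2]) (.leaf [nat_lit 1, nat_lit 6, nat_lit 5, nat_lit 4, nat_lit 1, nat_lit 0]))))
 (.node (nat_lit 1308) (.node (nat_lit 1306) (.node (nat_lit 1305) (.leaf [nat_lit 5, nat_lit 1, nat_lit 0, nat_lit 5, nat_lit 2]) (.leaf [nat_lit 3, nat_lit 6, nat_lit 5, nat_lit 6, nat_lit 3, nat_lit 2])) (.node (nat_lit 1307) (.leaf [nat_lit 6, nat_lit 4, nat_lit 3, nat_lit 0]) (.leaf [nat_lit 2, nat_lit 1, nat_lit 6, nat_lit 4, nat_lit 1, nat_lit 0])))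
 (.node (nat_lit 1310) (.node (nat_lit 1309) (.leaf [nat_lit 6, nat_lit 3, nat_lit 0, nat_lit 4]) (.leaf [nat_lit 6, nat_lit 4, nat_lit 5])) (.node (nat_lit 1311) (.leaf [nat_lit 4, nat_lit 5, nat_lit 6, nat_lit 4, nat_lit 1, nat_lit 0]) (.leaf [nat_lit 1, nat_lit 5, nat_lit 6, nat_lit 2, nat_lit 0]))))))
 (.node (nat_lit 1328) (.node (nat_lit 1320) (.node (nat_lit 1316) (.node (nat_lit 1314) (.node (nat_lit 1313) (.leaf [nat_lit 6, nat_lit 1, nat_lit 5, nat_lit 3]) (.leaf [nat_lit 5, nat_lit 1, nat_lit 6, nat_lit 3])) (.node (nat_lit 1315) (.leaf [nat_lit 1, nat_lit 6, nat_lit 5, nat_lit 2, nat_lit 0]) (.leaf [nat_lit 5, nat_lit 0, nat_lit 6, nat_lit 2, nat_lit 1, nat_lit 0])))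
 (.node (nat_lit 1318) (.node (nat_lit 1317) (.leaf [nat_lit 2, nat_lit 0, nat_lit 6, nat_lit 5, nat_lit 3, nat_lit 1, nat_lit 0]) (.leaf [nat_lit 6, nat_lit 3, nat_lit 1, nat_lit 5, nat_lit 3, nat_lit 2, nat_lit 0])) (.node (nat_lit 1319) (.leaf [nat_lit 5, nat_lit 6, nat_lit 2, nat_lit 1, nat_lit 0]) (.leaf [nat_lit 5, nat_lit 2, nat_lit 0, nat_lit 6, nat_lit 2, nat_lit 1]))))
 (.node (nat_lit 1324) (.node (nat_lit 1322) (.node (nat_lit 1321) (.leaf [nat_lit 1, nat_lit 0, nat_lit 6, nat_lit 5, nat_lit 2]) (.leaf [nat_lit 1, nat_lit 0, nat_lit 6, nat_lit 5, nat_lit 0])) (.node (nat_lit 1323) (.leaf [nat_lit 1, nat_lit 5, nat_lit 0, nat_lit 6, nat_lit 3, nat_lit 0]) (.leaf [nat_lit 5, nat_lit 1, nat_lit 6, nat_lit 0])))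
 (.node (nat_lit 1326) (.node (nat_lit 1325) (.leaf [nat_lit 2, nat_lit 6, nat_lit 1, nat_lit 5, nat_lit 3, nat_lit 2]) (.leaf [nat_lit 6, nat_lit 5, nat_lit 2, nat_lit 1, nat_lit 0])) (.node (nat_lit 1327) (.leaf [nat_lit 0, nat_lit 6, nat_lit 5, nat_lit 1, nat_lit 0]) (.leaf [nat_lit 4, nat_lit 5, nat_lit 6, nat_lit 4, nat_lit 3, nat_lit 1])))))
 (.node (nat_lit 1336) (.node (nat_lit 1332) (.node (nat_lit 1330) (.node (nat_lit 1329) (.leaf [nat_lit 5, nat_lit 2, nat_lit 6, nat_lit 3, nat_lit 1]) (.leaf [nat_lit 2, nat_lit 1, nat_lit 6, nat_lit 5, nat_lit 0])) (.node (nat_lit 1331) (.leaf [nat_lit 5, nat_lit 3, nat_lit 6, nat_lit 3, nat_lit 2, nat_lit 1]) (.leaf [nat_lit 3, nat_lit 6, nat_lit 2, nat_lit 5, nat_lit 1])))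
 (.node (nat_lit 1334) (.node (nat_lit 1333) (.leaf [nat_lit 0, nat_lit 6, nat_lit 0, nat_lit 5, nat_lit 3, nat_lit 1]) (.leaf [nat_lit 5, nat_lit 1, nat_lit 6, nat_lit 3, nat_lit 2, nat_lit 0])) (.node (nat_lit 1335) (.leaf [nat_lit 6, nat_lit 2, nat_lit 5, nat_lit 3, nat_lit 1]) (.leaf [nat_lit 2, nat_lit 6, nat_lit 3, nat_lit 5, nat_lit 2, nat_lit 1]))))
 (.node (nat_lit 1340) (.node (nat_lit 1338) (.node (nat_lit 1337) (.leaf [nat_lit 6, nat_lit 3, nat_lit 5, nat_lit 3, nat_lit 2, nat_lit 1]) (.leaf [nat_lit 1, nat_lit 5, nat_lit 0, nat_lit 6, nat_lit 2, nat_lit 0])) (.node (nat_lit 1339) (.leaf [nat_lit 2, nat_lit 6, nat_lit 0, nat_lit 5, nat_lit 1, nat_lit 0]) (.leaf [nat_lit 6, nat_lit 0, nat_lit 5, nat_lit 3, nat_lit 1])))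
 (.node (nat_lit 1342) (.node (nat_lit 1341) (.leaf [nat_lit 0, nat_lit 6, nat_lit 5, nat_lit 3, nat_lit 2, nat_lit 1]) (.leaf [nat_lit 2, nat_lit 6, nat_lit 5, nat_lit 3, nat_lit 1])) (.node (nat_lit 1343) (.leaf [nat_lit 6, nat_lit 4, nat_lit 5, nat_lit 4, nat_lit 3, nat_lit 1]) (.leaf [nat_lit 0, nat_lit 6, nat_lit 5, nat_lit 3, nat_lit 2, nat_lit 1, nat_lit 0])))))))
 (.node (nat_lit 1376) (.node (nat_lit 1360) (.node (nat_lit 1352) (.node (nat_lit 1348) (.node (nat_lit 1346) (.node (nat_lit 1345) (.leaf [nat_lit 2, nat_lit 5, nat_lit 6, nat_lit 3, nat_lit 1]) (.leaf [nat_lit 4, nat_lit 5, nat_lit 6, nat_lit 4, nat_lit 3, nat_lit 1, nat_lit 0])) (.node (nat_lit 1347) (.leaf [nat_lit 2, nat_lit 5, nat_lit 6, nat_lit 1, nat_lit 0]) (.leaf [nat_lit 2, nat_lit 6, nat_lit 0, nat_lit 5, nat_lit 3, nat_lit 2, nat_lit 1, nat_lit 0])))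
 (.node (nat_lit 1350) (.node (nat_lit 1349) (.leaf [nat_lit 6, nat_lit 3, nat_lit 5, nat_lit 1]) (.leaf [nat_lit 6, nat_lit 3, nat_lit 0, nat_lit 5, nat_lit 3, nat_lit 2, nat_lit 1])) (.node (nat_lit 1351) (.leaf [nat_lit 0, nat_lit 6, nat_lit 5, nat_lit 2, nat_lit 1]) (.leaf [nat_lit 6, nat_lit 4, nat_lit 5, nat_lit 4, nat_lit 1, nat_lit 0]))))
 (.node (nat_lit 1356) (.node (nat_lit 1354) (.node (nat_lit 1353) (.leaf [nat_lit 6, nat_lit 4, nat_lit 5, nat_lit 4, nat_lit 2, nat_lit 1]) (.leaf [nat_lit 0, nat_lit 6, nat_lit 0, nat_lit 5, nat_lit 2, nat_lit 1])) (.node (nat_lit 1355) (.leaf [nat_lit 2, nat_lit 6, nat_lit 1, nat_lit 5, nat_lit 2, nat_lit 0]) (.leaf [nat_lit 1, nat_lit 6, nat_lit 5, nat_lit 3, nat_lit 2])))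
 (.node (nat_lit 1358) (.node (nat_lit 1357) (.leaf [nat_lit 1, nat_lit 6, nat_lit 5]) (.leaf [nat_lit 1, nat_lit 5, nat_lit 6])) (.node (nat_lit 1359) (.leaf [nat_lit 6, nat_lit 3, nat_lit 1, nat_lit 5, nat_lit 3, nat_lit 2]) (.leaf [nat_lit 2, nat_lit 6, nat_lit 5, nat_lit 3, nat_lit 1, nat_lit 0])))))
 (.node (nat_lit 1368) (.node (nat_lit 1364) (.node (nat_lit 1362) (.node (nat_lit 1361) (.leaf [nat_lit 5, nat_lit 0, nat_lit 6, nat_lit 3, nat_lit 1, nat_lit 0]) (.leaf [nat_lit 0, nat_lit 6, nat_lit 2, nat_lit 5, nat_lit 3, nat_lit 1, nat_lit 0])) (.node (nat_lit 1363) (.leaf [nat_lit 5, nat_lit 2, nat_lit 0, nat_lit 6, nat_lit 3, nat_lit 2, nat_lit 1]) (.leaf [nat_lit 5, nat_lit 2, nat_lit 0, nat_lit 6, nat_lit 3, nat_lit 2, nat_lit 1, nat_lit 0])))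
 (.node (nat_lit 1366) (.node (nat_lit 1365) (.leaf [nat_lit 2, nat_lit 1, nat_lit 6, nat_lit 5, nat_lit 3]) (.leaf [nat_lit 1, nat_lit 6, nat_lit 0, nat_lit 5])) (.node (nat_lit 1367) (.leaf [nat_lit 2, nat_lit 6, nat_lit 5, nat_lit 1, nat_lit 0]) (.leaf [nat_lit 2, nat_lit 0, nat_lit 6, nat_lit 5, nat_lit 2, nat_lit 1, nat_lit 0]))))
 (.node (nat_lit 1372) (.node (nat_lit 1370) (.node (nat_lit 1369) (.leaf [nat_lit 6, nat_lit 0, nat_lit 5, nat_lit 3, nat_lit 1, nat_lit 0]) (.leaf [nat_lit 6, nat_lit 3, nat_lit 0, nat_lit 5, nat_lit 3, nat_lit 1, nat_lit 0])) (.node (nat_lit 1371) (.leaf [nat_lit 5, nat_lit 3, nat_lit 6, nat_lit 1]) (.leaf [nat_lit 6, nat_lit 5, nat_lit 1])))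
 (.node (nat_lit 1374) (.node (nat_lit 1373) (.leaf [nat_lit 5, nat_lit 6, nat_lit 1]) (.leaf [nat_lit 1, nat_lit 5, nat_lit 6, nat_lit 3, nat_lit 2])) (.node (nat_lit 1375) (.leaf [nat_lit 6, nat_lit 1, nat_lit 5, nat_lit 0]) (.leaf [nat_lit 1, nat_lit 5, nat_lit 0, nat_lit 6, nat_lit 3]))))))
 (.node (nat_lit 1392) (.node (nat_lit 1384) (.node (nat_lit 1380) (.node (nat_lit 1378) (.node (nat_lit 1377) (.leaf [nat_lit 5, nat_lit 1, nat_lit 0, nat_lit 6, nat_lit 2]) (.leaf [nat_lit 1, nat_lit 6, nat_lit 0, nat_lit 5, nat_lit 3, nat_lit 0])) (.node (nat_lit 1379) (.leaf [nat_lit 0, nat_lit 6, nat_lit 0, nat_lit 5, nat_lit 1, nat_lit 0]) (.leaf [nat_lit 4, nat_lit 5, nat_lit 6, nat_lit 4, nat_lit 2, nat_lit 1])))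
 (.node (nat_lit 1382) (.node (nat_lit 1381) (.leaf [nat_lit 2, nat_lit 6, nat_lit 3, nat_lit 5, nat_lit 3, nat_lit 1]) (.leaf [nat_lit 5, nat_lit 2, nat_lit 6, nat_lit 2, nat_lit 1])) (.node (nat_lit 1383) (.leaf [nat_lit 6, nat_lit 0, nat_lit 5, nat_lit 2, nat_lit 1, nat_lit 0]) (.leaf [nat_lit 2, nat_lit 6, nat_lit 0, nat_lit 5, nat_lit 3, nat_lit 2, nat_lit 1]))))
 (.node (nat_lit 1388) (.node (nat_lit 1386) (.node (nat_lit 1385) (.leaf [nat_lit 5, nat_lit 1, nat_lit 0, nat_lit 6, nat_lit 2, nat_lit 0]) (.leaf [nat_lit 5, nat_lit 1, nat_lit 6])) (.node (nat_lit 1387) (.leaf [nat_lit 6, nat_lit 2, nat_lit 5, nat_lit 1, nat_lit 0]) (.leaf [nat_lit 6, nat_lit 3, nat_lit 0, nat_lit 5, nat_lit 2, nat_lit 1, nat_lit 0])))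
 (.node (nat_lit 1390) (.node (nat_lit 1389) (.leaf [nat_lit 5, nat_lit 2, nat_lit 0, nat_lit 6, nat_lit 1, nat_lit 0]) (.leaf [nat_lit 2, nat_lit 6, nat_lit 1, nat_lit 5, nat_lit 3, nat_lit 0])) (.node (nat_lit 1391) (.leaf [nat_lit 2, nat_lit 1, nat_lit 6, nat_lit 5, nat_lit 2]) (.leaf [nat_lit 2, nat_lit 1, nat_lit 6, nat_lit 5, nat_lit 3, nat_lit 0])))))
 (.node (nat_lit 1400) (.node (nat_lit 1396) (.node (nat_lit 1394) (.node (nat_lit 1393) (.leaf [nat_lit 5, nat_lit 6, nat_lit 3, nat_lit 2, nat_lit 1, nat_lit 0]) (.leaf [nat_lit 5, nat_lit 0, nat_lit 6, nat_lit 3, nat_lit 1])) (.node (nat_lit 1395) (.leaf [nat_lit 5, nat_lit 1, nat_lit 0, nat_lit 6, nat_lit 3, nat_lit 2, nat_lit 0]) (.leaf [nat_lit 2, nat_lit 0, nat_lit 6, nat_lit 5, nat_lit 1])))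
 (.node (nat_lit 1398) (.node (nat_lit 1397) (.leaf [nat_lit 3, nat_lit 6, nat_lit 2, nat_lit 5, nat_lit 3, nat_lit 2, nat_lit 1]) (.leaf [nat_lit 6, nat_lit 3, nat_lit 1, nat_lit 5, nat_lit 0])) (.node (nat_lit 1399) (.leaf [nat_lit 6, nat_lit 3, nat_lit 1, nat_lit 5, nat_lit 2]) (.leaf [nat_lit 1, nat_lit 5, nat_lit 6, nat_lit 3, nat_lit 2, nat_lit 0]))))
 (.node (nat_lit 1404) (.node (nat_lit 1402) (.node (nat_lit 1401) (.leaf [nat_lit 5, nat_lit 2, nat_lit 6, nat_lit 3, nat_lit 1, nat_lit 0]) (.leaf [nat_lit 0, nat_lit 6, nat_lit 2, nat_lit 5, nat_lit 2, nat_lit 1, nat_lit 0])) (.node (nat_lit 1403) (.leaf [nat_lit 5, nat_lit 3, nat_lit 6, nat_lit 3, nat_lit 1, nat_lit 0]) (.leaf [nat_lit 2, nat_lit 5, nat_lit 6, nat_lit 3, nat_lit 1, nat_lit 0])))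
 (.node (nat_lit 1406) (.node (nat_lit 1405) (.leaf [nat_lit 0, nat_lit 6, nat_lit 0, nat_lit 5, nat_lit 3, nat_lit 1, nat_lit 0]) (.leaf [nat_lit 1, nat_lit 6, nat_lit 0, nat_lit 5, nat_lit 3])) (.node (nat_lit 1407) (.leaf [nat_lit 5, nat_lit 3, nat_lit 6, nat_lit 1, nat_lit 0]) (.leaf [nat_lit 6, nat_lit 5, nat_lit 3, nat_lit 2, nat_lit 1, nat_lit 0]))))))))
 (.node (nat_lit 1472) (.node (nat_lit 1440) (.node (nat_lit 1424) (.node (nat_lit 1416) (.node (nat_lit 1412) (.node (nat_lit 1410) (.node (nat_lit 1409) (.leaf [nat_lit 1, nat_lit 0, nat_lit 6, nat_lit 5, nat_lit 3, nat_lit 2]) (.leaf [nat_lit 2, nat_lit 0, nat_lit 6, nat_lit 5, nat_lit 3, nat_lit 1])) (.node (nat_lit 1411) (.leaf [nat_lit 6, nat_lit 5, nat_lit 3, nat_lit 2, nat_lit 1]) (.leaf [nat_lit 0, nat_lit 6, nat_lit 2, nat_lit 5, nat_lit 1])))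
 (.node (nat_lit 1414) (.node (nat_lit 1413) (.leaf [nat_lit 1, nat_lit 0, nat_lit 6, nat_lit 5, nat_lit 3, nat_lit 2, nat_lit 0]) (.leaf [nat_lit 6, nat_lit 2, nat_lit 5, nat_lit 3, nat_lit 1, nat_lit 0])) (.node (nat_lit 1415) (.leaf [nat_lit 5, nat_lit 0, nat_lit 6, nat_lit 1]) (.leaf [nat_lit 5, nat_lit 6, nat_lit 3, nat_lit 2, nat_lit 1]))))
 (.node (nat_lit 1420) (.node (nat_lit 1418) (.node (nat_lit 1417) (.leaf [nat_lit 6, nat_lit 0, nat_lit 5, nat_lit 1]) (.leaf [nat_lit 6, nat_lit 1, nat_lit 5])) (.node (nat_lit 1419) (.leaf [nat_lit 1, nat_lit 6, nat_lit 5, nat_lit 3, nat_lit 2, nat_lit 0]) (.leaf [nat_lit 6, nat_lit 3, nat_lit 0, nat_lit 5, nat_lit 2, nat_lit 1])))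
 (.node (nat_lit 1422) (.node (nat_lit 1421) (.leaf [nat_lit 3, nat_lit 6, nat_lit 2, nat_lit 5, nat_lit 3, nat_lit 1, nat_lit 0]) (.leaf [nat_lit 2, nat_lit 6, nat_lit 5, nat_lit 2, nat_lit 1])) (.node (nat_lit 1423) (.leaf [nat_lit 2, nat_lit 6, nat_lit 1, nat_lit 5, nat_lit 2]) (.leaf [nat_lit 2, nat_lit 6, nat_lit 3, nat_lit 5, nat_lit 2, nat_lit 1, nat_lit 0])))))
 (.node (nat_lit 1432) (.node (nat_lit 1428) (.node (nat_lit 1426) (.node (nat_lit 1425) (.leaf [nat_lit 5, nat_lit 2, nat_lit 6, nat_lit 1, nat_lit 0]) (.leaf [nat_lit 2, nat_lit 6, nat_lit 0, nat_lit 5, nat_lit 2, nat_lit 1])) (.node (nat_lit 1427) (.leaf [nat_lit 3, nat_lit 6, nat_lit 2, nat_lit 5, nat_lit 1, nat_lit 0]) (.leaf [nat_lit 2, nat_lit 6, nat_lit 3, nat_lit 5, nat_lit 3, nat_lit 2, nat_lit 1, nat_lit 0])))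
 (.node (nat_lit 1430) (.node (nat_lit 1429) (.leaf [nat_lit 6, nat_lit 3, nat_lit 5, nat_lit 1, nat_lit 0]) (.leaf [nat_lit 6, nat_lit 3, nat_lit 5, nat_lit 3, nat_lit 1, nat_lit 0])) (.node (nat_lit 1431) (.leaf [nat_lit 6, nat_lit 4, nat_lit 5, nat_lit 4, nat_lit 3, nat_lit 1, nat_lit 0]) (.leaf [nat_lit 0, nat_lit 6, nat_lit 2, nat_lit 5, nat_lit 3, nat_lit 1]))))
 (.node (nat_lit 1436) (.node (nat_lit 1434) (.node (nat_lit 1433) (.leaf [nat_lit 1, nat_lit 5, nat_lit 0, nat_lit 6]) (.leaf [nat_lit 5, nat_lit 1, nat_lit 0, nat_lit 6, nat_lit 3])) (.node (nat_lit 1435) (.leaf [nat_lit 6, nat_lit 2, nat_lit 5, nat_lit 2, nat_lit 1]) (.leaf [nat_lit 2, nat_lit 5, nat_lit 6, nat_lit 2, nat_lit 1])))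
 (.node (nat_lit 1438) (.node (nat_lit 1437) (.leaf [nat_lit 1, nat_lit 6, nat_lit 0, nat_lit 5, nat_lit 2, nat_lit 0]) (.leaf [nat_lit 6, nat_lit 1, nat_lit 5, nat_lit 3, nat_lit 2, nat_lit 0])) (.node (nat_lit 1439) (.leaf [nat_lit 2, nat_lit 1, nat_lit 0, nat_lit 6, nat_lit 2, nat_lit 1]) (.leaf [nat_lit 4, nat_lit 3, nat_lit 0, nat_lit 4, nat_lit 3, nat_lit 2, nat_lit 1]))))))
 (.node (nat_lit 1456) (.node (nat_lit 1448) (.node (nat_lit 1444) (.node (nat_lit 1442) (.node (nat_lit 1441) (.leaf [nat_lit 4, nat_lit 5, nat_lit 6, nat_lit 4, nat_lit 1]) (.leaf [nat_lit 1, nat_lit 5, nat_lit 6, nat_lit 2])) (.node (nat_lit 1443) (.leaf [nat_lit 6, nat_lit 1, nat_lit 5, nat_lit 3, nat_lit 0]) (.leaf [nat_lit 5, nat_lit 1, nat_lit 6, nat_lit 3, nat_lit 0])))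
 (.node (nat_lit 1446) (.node (nat_lit 1445) (.leaf [nat_lit 1, nat_lit 6, nat_lit 5, nat_lit 2]) (.leaf [nat_lit 2, nat_lit 6, nat_lit 3, nat_lit 5, nat_lit 3, nat_lit 1, nat_lit 0])) (.node (nat_lit 1447) (.leaf [nat_lit 6, nat_lit 3, nat_lit 1, nat_lit 5, nat_lit 3]) (.leaf [nat_lit 1, nat_lit 5, nat_lit 0, nat_lit 6, nat_lit 3, nat_lit 2]))))
 (.node (nat_lit 1452) (.node (nat_lit 1450) (.node (nat_lit 1449) (.leaf [nat_lit 5, nat_lit 6, nat_lit 2, nat_lit 1]) (.leaf [nat_lit 5, nat_lit 2, nat_lit 0, nat_lit 6, nat_lit 2, nat_lit 1, nat_lit 0])) (.node (nat_lit 1451) (.leaf [nat_lit 1, nat_lit 0, nat_lit 6, nat_lit 5, nat_lit 2, nat_lit 0]) (.leaf [nat_lit 2, nat_lit 1, nat_lit 6, nat_lit 5, nat_lit 2, nat_lit 0])))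
 (.node (nat_lit 1454) (.node (nat_lit 1453) (.leaf [nat_lit 6, nat_lit 0, nat_lit 5, nat_lit 3, nat_lit 2, nat_lit 1]) (.leaf [nat_lit 5, nat_lit 1, nat_lit 0, nat_lit 6, nat_lit 0])) (.node (nat_lit 1455) (.leaf [nat_lit 2, nat_lit 6, nat_lit 1, nat_lit 5, nat_lit 3, nat_lit 2, nat_lit 0]) (.leaf [nat_lit 6, nat_lit 5, nat_lit 2, nat_lit 1])))))
 (.node (nat_lit 1464) (.node (nat_lit 1460) (.node (nat_lit 1458) (.node (nat_lit 1457) (.leaf [nat_lit 2, nat_lit 6, nat_lit 5, nat_lit 2, nat_lit 1, nat_lit 0]) (.leaf [nat_lit 2, nat_lit 6, nat_lit 5, nat_lit 3, nat_lit 2, nat_lit 1, nat_lit 0])) (.node (nat_lit 1459) (.leaf [nat_lit 0, nat_lit 6, nat_lit 0, nat_lit 5, nat_lit 3, nat_lit 2, nat_lit 1, nat_lit 0]) (.leaf [nat_lit 2, nat_lit 1, nat_lit 6, nat_lit 5])))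
 (.node (nat_lit 1462) (.node (nat_lit 1461) (.leaf [nat_lit 6, nat_lit 3, nat_lit 5, nat_lit 3, nat_lit 2, nat_lit 1, nat_lit 0]) (.leaf [nat_lit 6, nat_lit 3, nat_lit 1, nat_lit 5])) (.node (nat_lit 1463) (.leaf [nat_lit 6, nat_lit 4, nat_lit 5, nat_lit 4, nat_lit 3, nat_lit 2, nat_lit 1, nat_lit 0]) (.leaf [nat_lit 2, nat_lit 6, nat_lit 1, nat_lit 5]))))
 (.node (nat_lit 1468) (.node (nat_lit 1466) (.node (nat_lit 1465) (.leaf [nat_lit 5, nat_lit 3, nat_lit 6, nat_lit 3, nat_lit 2, nat_lit 1, nat_lit 0]) (.leaf [nat_lit 5, nat_lit 1, nat_lit 0, nat_lit 6, nat_lit 3, nat_lit 0])) (.node (nat_lit 1467) (.leaf [nat_lit 0, nat_lit 6, nat_lit 0, nat_lit 5, nat_lit 2, nat_lit 1, nat_lit 0]) (.leaf [nat_lit 3, nat_lit 6, nat_lit 2, nat_lit 5, nat_lit 2, nat_lit 1])))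
 (.node (nat_lit 1470) (.node (nat_lit 1469) (.leaf [nat_lit 6, nat_lit 3, nat_lit 1, nat_lit 5, nat_lit 3, nat_lit 0]) (.leaf [nat_lit 2, nat_lit 6, nat_lit 0, nat_lit 5, nat_lit 3, nat_lit 1])) (.node (nat_lit 1471) (.leaf [nat_lit 6, nat_lit 2, nat_lit 5, nat_lit 3, nat_lit 2, nat_lit 1, nat_lit 0]) (.leaf [nat_lit 6, nat_lit 3, nat_lit 5, nat_lit 2, nat_lit 1, nat_lit 0])))))))
 (.node (nat_lit 1504) (.node (nat_lit 1488) (.node (nat_lit 1480) (.node (nat_lit 1476) (.node (nat_lit 1474) (.node (nat_lit 1473) (.leaf [nat_lit 2, nat_lit 0, nat_lit 6, nat_lit 5, nat_lit 3, nat_lit 2, nat_lit 1, nat_lit 0]) (.leaf [nat_lit 1, nat_lit 6, nat_lit 0, nat_lit 5, nat_lit 0])) (.node (nat_lit 1475) (.leaf [nat_lit 3, nat_lit 6, nat_lit 2, nat_lit 5, nat_lit 2, nat_lit 1, nat_lit 0]) (.leaf [nat_lit 5, nat_lit 0, nat_lit 6, nat_lit 3, nat_lit 2, nat_lit 1])))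
 (.node (nat_lit 1478) (.node (nat_lit 1477) (.leaf [nat_lit 5, nat_lit 2, nat_lit 6, nat_lit 3, nat_lit 2, nat_lit 1, nat_lit 0]) (.leaf [nat_lit 0, nat_lit 6, nat_lit 2, nat_lit 5, nat_lit 3, nat_lit 2, nat_lit 1])) (.node (nat_lit 1479) (.leaf [nat_lit 2, nat_lit 5, nat_lit 6, nat_lit 1]) (.leaf [nat_lit 0, nat_lit 6, nat_lit 5, nat_lit 2, nat_lit 1, nat_lit 0]))))
 (.node (nat_lit 1484) (.node (nat_lit 1482) (.node (nat_lit 1481) (.leaf [nat_lit 0, nat_lit 6, nat_lit 5, nat_lit 3, nat_lit 1]) (.leaf [nat_lit 6, nat_lit 4, nat_lit 5, nat_lit 4, nat_lit 1])) (.node (nat_lit 1483) (.leaf [nat_lit 1, nat_lit 6, nat_lit 5, nat_lit 0]) (.leaf [nat_lit 4, nat_lit 5, nat_lit 6, nat_lit 4, nat_lit 2, nat_lit 1, nat_lit 0])))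
 (.node (nat_lit 1486) (.node (nat_lit 1485) (.leaf [nat_lit 1, nat_lit 6, nat_lit 5, nat_lit 3, nat_lit 0]) (.leaf [nat_lit 5, nat_lit 6, nat_lit 3, nat_lit 1, nat_lit 0])) (.node (nat_lit 1487) (.leaf [nat_lit 6, nat_lit 4, nat_lit 5, nat_lit 4, nat_lit 2, nat_lit 1, nat_lit 0]) (.leaf [nat_lit 5, nat_lit 1, nat_lit 6, nat_lit 3, nat_lit 2])))))
 (.node (nat_lit 1496) (.node (nat_lit 1492) (.node (nat_lit 1490) (.node (nat_lit 1489) (.leaf [nat_lit 2, nat_lit 6, nat_lit 5, nat_lit 3, nat_lit 2, nat_lit 1]) (.leaf [nat_lit 5, nat_lit 1, nat_lit 6, nat_lit 2, nat_lit 0])) (.node (nat_lit 1491) (.leaf [nat_lit 1, nat_lit 6, nat_lit 0, nat_lit 5, nat_lit 3, nat_lit 2]) (.leaf [nat_lit 5, nat_lit 3, nat_lit 6, nat_lit 2, nat_lit 1, nat_lit 0])))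
 (.node (nat_lit 1494) (.node (nat_lit 1493) (.leaf [nat_lit 1, nat_lit 5, nat_lit 0, nat_lit 6, nat_lit 3, nat_lit 2, nat_lit 0]) (.leaf [nat_lit 6, nat_lit 3, nat_lit 0, nat_lit 5, nat_lit 3, nat_lit 2, nat_lit 1, nat_lit 0])) (.node (nat_lit 1495) (.leaf [nat_lit 2, nat_lit 6, nat_lit 3, nat_lit 5, nat_lit 1, nat_lit 0]) (.leaf [nat_lit 6, nat_lit 3, nat_lit 0, nat_lit 5, nat_lit 1]))))
 (.node (nat_lit 1500) (.node (nat_lit 1498) (.node (nat_lit 1497) (.leaf [nat_lit 2, nat_lit 6, nat_lit 5, nat_lit 1]) (.leaf [nat_lit 6, nat_lit 5, nat_lit 1, nat_lit 0])) (.node (nat_lit 1499) (.leaf [nat_lit 6, nat_lit 5, nat_lit 3, nat_lit 1, nat_lit 0]) (.leaf [nat_lit 1, nat_lit 5, nat_lit 6, nat_lit 3, nat_lit 0])))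
 (.node (nat_lit 1502) (.node (nat_lit 1501) (.leaf [nat_lit 6, nat_lit 1, nat_lit 5, nat_lit 3, nat_lit 2]) (.leaf [nat_lit 1, nat_lit 0, nat_lit 6, nat_lit 5, nat_lit 3])) (.node (nat_lit 1503) (.leaf [nat_lit 2, nat_lit 0, nat_lit 6, nat_lit 5, nat_lit 2, nat_lit 1]) (.leaf [nat_lit 2, nat_lit 6, nat_lit 1, nat_lit 5, nat_lit 3]))))))
 (.node (nat_lit 1520) (.node (nat_lit 1512) (.node (nat_lit 1508) (.node (nat_lit 1506) (.node (nat_lit 1505) (.leaf [nat_lit 1, nat_lit 5, nat_lit 6, nat_lit 3]) (.leaf [nat_lit 2, nat_lit 0, nat_lit 6, nat_lit 5, nat_lit 3, nat_lit 2, nat_lit 1])) (.node (nat_lit 1507) (.leaf [nat_lit 2, nat_lit 1, nat_lit 6, nat_lit 5, nat_lit 3, nat_lit 2, nat_lit 0]) (.leaf [nat_lit 0, nat_lit 6, nat_lit 0, nat_lit 5, nat_lit 3, nat_lit 2, nat_lit 1])))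
 (.node (nat_lit 1510) (.node (nat_lit 1509) (.leaf [nat_lit 5, nat_lit 0, nat_lit 6, nat_lit 2, nat_lit 1]) (.leaf [nat_lit 3, nat_lit 6, nat_lit 2, nat_lit 5, nat_lit 3, nat_lit 2, nat_lit 1, nat_lit 0])) (.node (nat_lit 1511) (.leaf [nat_lit 2, nat_lit 6, nat_lit 0, nat_lit 5, nat_lit 1]) (.leaf [nat_lit 6, nat_lit 2, nat_lit 5, nat_lit 2, nat_lit 1, nat_lit 0]))))
 (.node (nat_lit 1516) (.node (nat_lit 1514) (.node (nat_lit 1513) (.leaf [nat_lit 5, nat_lit 6, nat_lit 3, nat_lit 1]) (.leaf [nat_lit 1, nat_lit 0, nat_lit 6, nat_lit 5, nat_lit 3, nat_lit 0])) (.node (nat_lit 1515) (.leaf [nat_lit 5, nat_lit 2, nat_lit 0, nat_lit 6, nat_lit 3, nat_lit 1]) (.leaf [nat_lit 6, nat_lit 3, nat_lit 0, nat_lit 5, nat_lit 1, nat_lit 0])))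
 (.node (nat_lit 1518) (.node (nat_lit 1517) (.leaf [nat_lit 5, nat_lit 2, nat_lit 6, nat_lit 1]) (.leaf [nat_lit 2, nat_lit 5, nat_lit 6, nat_lit 3, nat_lit 2, nat_lit 1, nat_lit 0])) (.node (nat_lit 1519) (.leaf [nat_lit 5, nat_lit 1, nat_lit 6, nat_lit 2]) (.leaf [nat_lit 6, nat_lit 1, nat_lit 5, nat_lit 2])))))
 (.node (nat_lit 1528) (.node (nat_lit 1524) (.node (nat_lit 1522) (.node (nat_lit 1521) (.leaf [nat_lit 5, nat_lit 2, nat_lit 6, nat_lit 2, nat_lit 1, nat_lit 0]) (.leaf [nat_lit 6, nat_lit 0, nat_lit 5, nat_lit 2, nat_lit 1])) (.node (nat_lit 1523) (.leaf [nat_lit 6, nat_lit 3, nat_lit 1, nat_lit 5, nat_lit 2, nat_lit 0]) (.leaf [nat_lit 5, nat_lit 2, nat_lit 6, nat_lit 3, nat_lit 2, nat_lit 1])))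
 (.node (nat_lit 1526) (.node (nat_lit 1525) (.leaf [nat_lit 6, nat_lit 0, nat_lit 5, nat_lit 3, nat_lit 2, nat_lit 1, nat_lit 0]) (.leaf [nat_lit 6, nat_lit 3, nat_lit 0, nat_lit 5, nat_lit 3, nat_lit 1])) (.node (nat_lit 1527) (.leaf [nat_lit 6, nat_lit 4, nat_lit 5, nat_lit 4, nat_lit 3, nat_lit 2, nat_lit 1]) (.leaf [nat_lit 6, nat_lit 3, nat_lit 5, nat_lit 2, nat_lit 1]))))
 (.node (nat_lit 1532) (.node (nat_lit 1530) (.node (nat_lit 1529) (.leaf [nat_lit 5, nat_lit 1, nat_lit 0, nat_lit 6]) (.leaf [nat_lit 6, nat_lit 2, nat_lit 5, nat_lit 3, nat_lit 2, nat_lit 1])) (.node (nat_lit 1531) (.leaf [nat_lit 2, nat_lit 6, nat_lit 0, nat_lit 5, nat_lit 3, nat_lit 1, nat_lit 0]) (.leaf [nat_lit 2, nat_lit 1, nat_lit 6, nat_lit 5, nat_lit 3, nat_lit 2])))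
 (.node (nat_lit 1534) (.node (nat_lit 1533) (.leaf [nat_lit 2, nat_lit 0, nat_lit 6, nat_lit 5, nat_lit 1, nat_lit 0]) (.leaf [nat_lit 6, nat_lit 3, nat_lit 5, nat_lit 3, nat_lit 1])) (.node (nat_lit 1535) (.leaf [nat_lit 5, nat_lit 3, nat_lit 6, nat_lit 3, nat_lit 1]) (.leaf [nat_lit 1, nat_lit 5, nat_lit 0, nat_lit 6, nat_lit 0])))))))))
noncomputable def bWT_6 : Tr (List ℕ) := (.node (nat_lit 1664) (.node (nat_lit 1600) (.node (nat_lit 1568) (.node (nat_lit 1552) (.node (nat_lit 1544) (.node (nat_lit 1540) (.node (nat_lit 1538) (.node (nat_lit 1537) (.leaf [nat_lit 0, nat_lit 6, nat_lit 5, nat_lit 3, nat_lit 1, nat_lit 0]) (.leaf [nat_lit 2, nat_lit 5, nat_lit 6, nat_lit 3, nat_lit 2, nat_lit 1])) (.node (nat_lit 1539) (.leaf [nat_lit 1, nat_lit 5, nat_lit 0, nat_lit 6, nat_lit 2]) (.leaf [nat_lit 6, nat_lit 0, nat_lit 5, nat_lit 1, nat_lit 0])))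
 (.node (nat_lit 1542) (.node (nat_lit 1541) (.leaf [nat_lit 0, nat_lit 6, nat_lit 2, nat_lit 5, nat_lit 1, nat_lit 0]) (.leaf [nat_lit 6, nat_lit 2, nat_lit 5, nat_lit 1])) (.node (nat_lit 1543) (.leaf [nat_lit 0, nat_lit 6, nat_lit 0, nat_lit 5, nat_lit 1]) (.leaf [nat_lit 0, nat_lit 6, nat_lit 2, nat_lit 5, nat_lit 3, nat_lit 2, nat_lit 1, nat_lit 0]))))
 (.node (nat_lit 1548) (.node (nat_lit 1546) (.node (nat_lit 1545) (.leaf [nat_lit 5, nat_lit 2, nat_lit 0, nat_lit 6, nat_lit 3, nat_lit 1, nat_lit 0]) (.leaf [nat_lit 4, nat_lit 5, nat_lit 6, nat_lit 4, nat_lit 3, nat_lit 2, nat_lit 1])) (.node (nat_lit 1547) (.leaf [nat_lit 1, nat_lit 0, nat_lit 6, nat_lit 5]) (.leaf [nat_lit 1, nat_lit 5, nat_lit 6, nat_lit 0])))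
 (.node (nat_lit 1550) (.node (nat_lit 1549) (.leaf [nat_lit 1, nat_lit 6, nat_lit 0, nat_lit 5, nat_lit 3, nat_lit 2, nat_lit 0]) (.leaf [nat_lit 5, nat_lit 3, nat_lit 6, nat_lit 2, nat_lit 1])) (.node (nat_lit 1551) (.leaf [nat_lit 4, nat_lit 5, nat_lit 6, nat_lit 4, nat_lit 3, nat_lit 2, nat_lit 1, nat_lit 0]) (.leaf [nat_lit 6, nat_lit 1, nat_lit 5, nat_lit 2, nat_lit 0])))))
 (.node (nat_lit 1560) (.node (nat_lit 1556) (.node (nat_lit 1554) (.node (nat_lit 1553) (.leaf [nat_lit 5, nat_lit 1, nat_lit 0, nat_lit 6, nat_lit 3, nat_lit 2]) (.leaf [nat_lit 5, nat_lit 2, nat_lit 0, nat_lit 6, nat_lit 1])) (.node (nat_lit 1555) (.leaf [nat_lit 2, nat_lit 6, nat_lit 0, nat_lit 5, nat_lit 2, nat_lit 1, nat_lit 0]) (.leaf [nat_lit 5, nat_lit 0, nat_lit 6, nat_lit 3, nat_lit 2, nat_lit 1, nat_lit 0])))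
 (.node (nat_lit 1558) (.node (nat_lit 1557) (.leaf [nat_lit 6, nat_lit 5, nat_lit 3, nat_lit 1]) (.leaf [nat_lit 2, nat_lit 6, nat_lit 1, nat_lit 5, nat_lit 0])) (.node (nat_lit 1559) (.leaf [nat_lit 5, nat_lit 0, nat_lit 6, nat_lit 1, nat_lit 0]) (.leaf [nat_lit 2, nat_lit 6, nat_lit 3, nat_lit 5, nat_lit 3, nat_lit 2, nat_lit 1]))))
 (.node (nat_lit 1564) (.node (nat_lit 1562) (.node (nat_lit 1561) (.leaf [nat_lit 3, nat_lit 6, nat_lit 2, nat_lit 5, nat_lit 3, nat_lit 1]) (.leaf [nat_lit 0, nat_lit 6, nat_lit 5, nat_lit 1])) (.node (nat_lit 1563) (.leaf [nat_lit 5, nat_lit 6, nat_lit 1, nat_lit 0]) (.leaf [nat_lit 2, nat_lit 5, nat_lit 6, nat_lit 2, nat_lit 1, nat_lit 0])))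
 (.node (nat_lit 1566) (.node (nat_lit 1565) (.leaf [nat_lit 2, nat_lit 6, nat_lit 3, nat_lit 5, nat_lit 1]) (.leaf [nat_lit 0, nat_lit 6, nat_lit 2, nat_lit 5, nat_lit 2, nat_lit 1])) (.node (nat_lit 1567) (.leaf [nat_lit 1, nat_lit 6, nat_lit 5, nat_lit 3]) (.leaf [nat_lit 1, nat_lit 6, nat_lit 0, nat_lit 5, nat_lit 2]))))))
 (.node (nat_lit 1584) (.node (nat_lit 1576) (.node (nat_lit 1572) (.node (nat_lit 1570) (.node (nat_lit 1569) (.leaf [nat_lit 3, nat_lit 1, nat_lit 0, nat_lit 4, nat_lit 3, nat_lit 1]) (.leaf [nat_lit 5, nat_lit 0, nat_lit 5, nat_lit 3, nat_lit 2])) (.node (nat_lit 1571) (.leaf [nat_lit 4, nat_lit 2, nat_lit 0, nat_lit 4, nat_lit 3]) (.leaf [nat_lit 5, nat_lit 4, nat_lit 2, nat_lit 4])))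
 (.node (nat_lit 1574) (.node (nat_lit 1573) (.leaf [nat_lit 6, nat_lit 5, nat_lit 0, nat_lit 5, nat_lit 3, nat_lit 0]) (.leaf [nat_lit 1, nat_lit 6, nat_lit 1, nat_lit 4])) (.node (nat_lit 1575) (.leaf [nat_lit 6, nat_lit 2, nat_lit 6, nat_lit 3, nat_lit 0]) (.leaf [nat_lit 4, nat_lit 5, nat_lit 2, nat_lit 0]))))
 (.node (nat_lit 1580) (.node (nat_lit 1578) (.node (nat_lit 1577) (.leaf [nat_lit 1, nat_lit 5, nat_lit 0, nat_lit 6, nat_lit 3, nat_lit 1, nat_lit 0]) (.leaf [nat_lit 4, nat_lit 5, nat_lit 6, nat_lit 4, nat_lit 3, nat_lit 2])) (.node (nat_lit 1579) (.leaf [nat_lit 5, nat_lit 0, nat_lit 5, nat_lit 3, nat_lit 0]) (.leaf [nat_lit 0, nat_lit 5, nat_lit 4, nat_lit 2])))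
 (.node (nat_lit 1582) (.node (nat_lit 1581) (.leaf [nat_lit 6, nat_lit 1, nat_lit 5, nat_lit 1, nat_lit 0]) (.leaf [nat_lit 2, nat_lit 5, nat_lit 3, nat_lit 4, nat_lit 2])) (.node (nat_lit 1583) (.leaf [nat_lit 3, nat_lit 6, nat_lit 2, nat_lit 5]) (.leaf [nat_lit 1, nat_lit 5, nat_lit 3, nat_lit 4, nat_lit 3, nat_lit 1])))))
 (.node (nat_lit 1592) (.node (nat_lit 1588) (.node (nat_lit 1586) (.node (nat_lit 1585) (.leaf [nat_lit 2, nat_lit 6, nat_lit 0, nat_lit 5, nat_lit 3, nat_lit 0]) (.leaf [nat_lit 4, nat_lit 0, nat_lit 5, nat_lit 3, nat_lit 0])) (.node (nat_lit 1587) (.leaf [nat_lit 4, nat_lit 3, nat_lit 5]) (.leaf [nat_lit 1, nat_lit 0, nat_lit 5, nat_lit 4, nat_lit 3, nat_lit 2, nat_lit 1])))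
 (.node (nat_lit 1590) (.node (nat_lit 1589) (.leaf [nat_lit 6, nat_lit 3, nat_lit 0, nat_lit 5, nat_lit 2, nat_lit 0]) (.leaf [nat_lit 0, nat_lit 5, nat_lit 0, nat_lit 4, nat_lit 3])) (.node (nat_lit 1591) (.leaf [nat_lit 3, nat_lit 5, nat_lit 2, nat_lit 4, nat_lit 3, nat_lit 0]) (.leaf [nat_lit 2, nat_lit 5, nat_lit 2, nat_lit 4, nat_lit 2, nat_lit 0]))))
 (.node (nat_lit 1596) (.node (nat_lit 1594) (.node (nat_lit 1593) (.leaf [nat_lit 2, nat_lit 1, nat_lit 4, nat_lit 3, nat_lit 2, nat_lit 1, nat_lit 0]) (.leaf [nat_lit 2, nat_lit 6, nat_lit 4, nat_lit 5, nat_lit 2])) (.node (nat_lit 1595) (.leaf [nat_lit 0, nat_lit 5, nat_lit 2, nat_lit 5, nat_lit 3, nat_lit 2, nat_lit 1, nat_lit 0]) (.leaf [nat_lit 2, nat_lit 1, nat_lit 5, nat_lit 3, nat_lit 2, nat_lit 1, nat_lit 0])))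
 (.node (nat_lit 1598) (.node (nat_lit 1597) (.leaf [nat_lit 2, nat_lit 6, nat_lit 1, nat_lit 5, nat_lit 2, nat_lit 1, nat_lit 0]) (.leaf [nat_lit 5, nat_lit 3, nat_lit 6, nat_lit 2])) (.node (nat_lit 1599) (.leaf [nat_lit 6, nat_lit 4, nat_lit 5, nat_lit 4, nat_lit 3, nat_lit 2]) (.leaf [nat_lit 6, nat_lit 3, nat_lit 5, nat_lit 4, nat_lit 3])))))))
 (.node (nat_lit 1632) (.node (nat_lit 1616) (.node (nat_lit 1608) (.node (nat_lit 1604) (.node (nat_lit 1602) (.node (nat_lit 1601) (.leaf [nat_lit 5, nat_lit 2, nat_lit 6, nat_lit 3]) (.leaf [nat_lit 0, nat_lit 6, nat_lit 2, nat_lit 4, nat_lit 3, nat_lit 1])) (.node (nat_lit 1603) (.leaf [nat_lit 6, nat_lit 2, nat_lit 4, nat_lit 3, nat_lit 1, nat_lit 0]) (.leaf [nat_lit 1, nat_lit 0, nat_lit 6, nat_lit 2, nat_lit 4, nat_lit 3])))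
 (.node (nat_lit 1606) (.node (nat_lit 1605) (.leaf [nat_lit 3, nat_lit 4, nat_lit 3, nat_lit 6, nat_lit 3, nat_lit 2, nat_lit 1, nat_lit 0]) (.leaf [nat_lit 6, nat_lit 3, nat_lit 4, nat_lit 2, nat_lit 1, nat_lit 0])) (.node (nat_lit 1607) (.leaf [nat_lit 3, nat_lit 6, nat_lit 1, nat_lit 4, nat_lit 2, nat_lit 0]) (.leaf [nat_lit 6, nat_lit 3, nat_lit 1, nat_lit 4, nat_lit 3, nat_lit 2, nat_lit 0]))))
 (.node (nat_lit 1612) (.node (nat_lit 1610) (.node (nat_lit 1609) (.leaf [nat_lit 1, nat_lit 6, nat_lit 1, nat_lit 4, nat_lit 3, nat_lit 2, nat_lit 1, nat_lit 0]) (.leaf [nat_lit 1, nat_lit 6, nat_lit 2, nat_lit 4, nat_lit 3, nat_lit 0])) (.node (nat_lit 1611) (.leaf [nat_lit 6, nat_lit 3, nat_lit 1, nat_lit 4]) (.leaf [nat_lit 4, nat_lit 2, nat_lit 6, nat_lit 3, nat_lit 1, nat_lit 0])))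
 (.node (nat_lit 1614) (.node (nat_lit 1613) (.leaf [nat_lit 1, nat_lit 6, nat_lit 3, nat_lit 4, nat_lit 3, nat_lit 2]) (.leaf [nat_lit 2, nat_lit 1, nat_lit 6, nat_lit 4, nat_lit 3])) (.node (nat_lit 1615) (.leaf [nat_lit 0, nat_lit 6, nat_lit 2, nat_lit 4, nat_lit 1, nat_lit 0]) (.leaf [nat_lit 4, nat_lit 3, nat_lit 1, nat_lit 6])))))
 (.node (nat_lit 1624) (.node (nat_lit 1620) (.node (nat_lit 1618) (.node (nat_lit 1617) (.leaf [nat_lit 1, nat_lit 6, nat_lit 3, nat_lit 4, nat_lit 2, nat_lit 0]) (.leaf [nat_lit 3, nat_lit 6, nat_lit 4, nat_lit 2, nat_lit 1])) (.node (nat_lit 1619) (.leaf [nat_lit 4, nat_lit 3, nat_lit 6, nat_lit 2, nat_lit 1, nat_lit 0]) (.leaf [nat_lit 1, nat_lit 6, nat_lit 0, nat_lit 4, nat_lit 2, nat_lit 0])))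
 (.node (nat_lit 1622) (.node (nat_lit 1621) (.leaf [nat_lit 1, nat_lit 6, nat_lit 1, nat_lit 4, nat_lit 3, nat_lit 1, nat_lit 0]) (.leaf [nat_lit 3, nat_lit 6, nat_lit 0, nat_lit 4, nat_lit 3, nat_lit 2, nat_lit 1, nat_lit 0])) (.node (nat_lit 1623) (.leaf [nat_lit 1, nat_lit 6, nat_lit 2, nat_lit 4]) (.leaf [nat_lit 6, nat_lit 2, nat_lit 4, nat_lit 2, nat_lit 1]))))
 (.node (nat_lit 1628) (.node (nat_lit 1626) (.node (nat_lit 1625) (.leaf [nat_lit 2, nat_lit 6, nat_lit 0, nat_lit 4, nat_lit 1, nat_lit 0]) (.leaf [nat_lit 4, nat_lit 3, nat_lit 1, nat_lit 6, nat_lit 3, nat_lit 0])) (.node (nat_lit 1627) (.leaf [nat_lit 6, nat_lit 3, nat_lit 1, nat_lit 4, nat_lit 3, nat_lit 0]) (.leaf [nat_lit 6, nat_lit 1, nat_lit 4, nat_lit 3, nat_lit 2, nat_lit 0])))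
 (.node (nat_lit 1630) (.node (nat_lit 1629) (.leaf [nat_lit 6, nat_lit 3, nat_lit 4, nat_lit 3, nat_lit 2, nat_lit 1, nat_lit 0]) (.leaf [nat_lit 3, nat_lit 4, nat_lit 3, nat_lit 6, nat_lit 1])) (.node (nat_lit 1631) (.leaf [nat_lit 3, nat_lit 6, nat_lit 1, nat_lit 4, nat_lit 0]) (.leaf [nat_lit 2, nat_lit 1, nat_lit 6, nat_lit 4, nat_lit 3, nat_lit 2, nat_lit 0]))))))
 (.node (nat_lit 1648) (.node (nat_lit 1640) (.node (nat_lit 1636) (.node (nat_lit 1634) (.node (nat_lit 1633) (.leaf [nat_lit 1, nat_lit 6, nat_lit 0, nat_lit 4, nat_lit 2]) (.leaf [nat_lit 4, nat_lit 3, nat_lit 6, nat_lit 3, nat_lit 2, nat_lit 1])) (.node (nat_lit 1635) (.leaf [nat_lit 4, nat_lit 2, nat_lit 6, nat_lit 1]) (.leaf [nat_lit 1, nat_lit 6, nat_lit 2, nat_lit 4, nat_lit 0])))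
 (.node (nat_lit 1638) (.node (nat_lit 1637) (.leaf [nat_lit 3, nat_lit 6, nat_lit 1, nat_lit 4, nat_lit 3, nat_lit 2]) (.leaf [nat_lit 2, nat_lit 6, nat_lit 1, nat_lit 4])) (.node (nat_lit 1639) (.leaf [nat_lit 2, nat_lit 6, nat_lit 1, nat_lit 4, nat_lit 3, nat_lit 2, nat_lit 0]) (.leaf [nat_lit 1, nat_lit 6, nat_lit 1, nat_lit 4, nat_lit 2, nat_lit 1]))))
 (.node (nat_lit 1644) (.node (nat_lit 1642) (.node (nat_lit 1641) (.leaf [nat_lit 6, nat_lit 4, nat_lit 3, nat_lit 1]) (.leaf [nat_lit 0, nat_lit 6, nat_lit 0, nat_lit 4, nat_lit 1])) (.node (nat_lit 1643) (.leaf [nat_lit 3, nat_lit 1, nat_lit 6, nat_lit 4]) (.leaf [nat_lit 0, nat_lit 6, nat_lit 1, nat_lit 4, nat_lit 3, nat_lit 2])))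
 (.node (nat_lit 1646) (.node (nat_lit 1645) (.leaf [nat_lit 1, nat_lit 6, nat_lit 4, nat_lit 3, nat_lit 2]) (.leaf [nat_lit 2, nat_lit 1, nat_lit 6, nat_lit 4, nat_lit 3, nat_lit 2])) (.node (nat_lit 1647) (.leaf [nat_lit 2, nat_lit 6, nat_lit 1, nat_lit 4, nat_lit 3, nat_lit 0]) (.leaf [nat_lit 6, nat_lit 3, nat_lit 4, nat_lit 3, nat_lit 2, nat_lit 1])))))
 (.node (nat_lit 1656) (.node (nat_lit 1652) (.node (nat_lit 1650) (.node (nat_lit 1649) (.leaf [nat_lit 1, nat_lit 0, nat_lit 6, nat_lit 2, nat_lit 4, nat_lit 0]) (.leaf [nat_lit 3, nat_lit 6, nat_lit 0, nat_lit 4, nat_lit 3, nat_lit 2, nat_lit 1])) (.node (nat_lit 1651) (.leaf [nat_lit 3, nat_lit 6, nat_lit 0, nat_lit 4, nat_lit 3, nat_lit 1, nat_lit 0]) (.leaf [nat_lit 2, nat_lit 6, nat_lit 4, nat_lit 3, nat_lit 1])))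
 (.node (nat_lit 1654) (.node (nat_lit 1653) (.leaf [nat_lit 4, nat_lit 2, nat_lit 6, nat_lit 1, nat_lit 0]) (.leaf [nat_lit 1, nat_lit 0, nat_lit 6, nat_lit 2, nat_lit 4])) (.node (nat_lit 1655) (.leaf [nat_lit 6, nat_lit 2, nat_lit 4, nat_lit 1]) (.leaf [nat_lit 3, nat_lit 4, nat_lit 3, nat_lit 6, nat_lit 2, nat_lit 1]))))
 (.node (nat_lit 1660) (.node (nat_lit 1658) (.node (nat_lit 1657) (.leaf [nat_lit 6, nat_lit 2, nat_lit 0, nat_lit 4, nat_lit 3, nat_lit 2, nat_lit 1]) (.leaf [nat_lit 0, nat_lit 6, nat_lit 1, nat_lit 4, nat_lit 2, nat_lit 0])) (.node (nat_lit 1659) (.leaf [nat_lit 6, nat_lit 4, nat_lit 3, nat_lit 2, nat_lit 1]) (.leaf [nat_lit 6, nat_lit 2, nat_lit 0, nat_lit 4, nat_lit 3, nat_lit 1, nat_lit 0])))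
 (.node (nat_lit 1662) (.node (nat_lit 1661) (.leaf [nat_lit 6, nat_lit 2, nat_lit 0, nat_lit 4, nat_lit 3, nat_lit 2, nat_lit 1, nat_lit 0]) (.leaf [nat_lit 6, nat_lit 3, nat_lit 2, nat_lit 4, nat_lit 1])) (.node (nat_lit 1663) (.leaf [nat_lit 3, nat_lit 1, nat_lit 6, nat_lit 4, nat_lit 2]) (.leaf [nat_lit 6, nat_lit 3, nat_lit 2, nat_lit 4, nat_lit 2, nat_lit 1]))))))))
 (.node (nat_lit 1728) (.node (nat_lit 1696) (.node (nat_lit 1680) (.node (nat_lit 1672) (.node (nat_lit 1668) (.node (nat_lit 1666) (.node (nat_lit 1665) (.leaf [nat_lit 4, nat_lit 2, nat_lit 6, nat_lit 2, nat_lit 1]) (.leaf [nat_lit 6, nat_lit 0, nat_lit 4, nat_lit 2, nat_lit 1, nat_lit 0])) (.node (nat_lit 1667) (.leaf [nat_lit 6, nat_lit 3, nat_lit 0, nat_lit 4, nat_lit 1, nat_lit 0]) (.leaf [nat_lit 0, nat_lit 6, nat_lit 0, nat_lit 4, nat_lit 2, nat_lit 1, nat_lit 0])))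
 (.node (nat_lit 1670) (.node (nat_lit 1669) (.leaf [nat_lit 4, nat_lit 3, nat_lit 6, nat_lit 3, nat_lit 1]) (.leaf [nat_lit 6, nat_lit 1, nat_lit 4, nat_lit 3, nat_lit 0])) (.node (nat_lit 1671) (.leaf [nat_lit 0, nat_lit 6, nat_lit 2, nat_lit 4, nat_lit 1]) (.leaf [nat_lit 2, nat_lit 6, nat_lit 1, nat_lit 4, nat_lit 3]))))
 (.node (nat_lit 1676) (.node (nat_lit 1674) (.node (nat_lit 1673) (.leaf [nat_lit 1, nat_lit 0, nat_lit 6, nat_lit 4, nat_lit 3, nat_lit 0]) (.leaf [nat_lit 6, nat_lit 3, nat_lit 0, nat_lit 4, nat_lit 1])) (.node (nat_lit 1675) (.leaf [nat_lit 1, nat_lit 6, nat_lit 4, nat_lit 3, nat_lit 0]) (.leaf [nat_lit 6, nat_lit 3, nat_lit 2, nat_lit 4, nat_lit 3, nat_lit 2, nat_lit 1, nat_lit 0])))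
 (.node (nat_lit 1678) (.node (nat_lit 1677) (.leaf [nat_lit 0, nat_lit 6, nat_lit 2, nat_lit 4, nat_lit 2, nat_lit 1, nat_lit 0]) (.leaf [nat_lit 1, nat_lit 6, nat_lit 2, nat_lit 4, nat_lit 2])) (.node (nat_lit 1679) (.leaf [nat_lit 4, nat_lit 3, nat_lit 6, nat_lit 3, nat_lit 2, nat_lit 1, nat_lit 0]) (.leaf [nat_lit 6, nat_lit 0, nat_lit 4, nat_lit 3, nat_lit 2, nat_lit 1])))))
 (.node (nat_lit 1688) (.node (nat_lit 1684) (.node (nat_lit 1682) (.node (nat_lit 1681) (.leaf [nat_lit 6, nat_lit 3, nat_lit 0, nat_lit 4, nat_lit 3, nat_lit 1]) (.leaf [nat_lit 3, nat_lit 6, nat_lit 1, nat_lit 4, nat_lit 2])) (.node (nat_lit 1683) (.leaf [nat_lit 2, nat_lit 1, nat_lit 6, nat_lit 4, nat_lit 2, nat_lit 0]) (.leaf [nat_lit 1, nat_lit 6, nat_lit 3, nat_lit 4, nat_lit 3, nat_lit 2, nat_lit 0])))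
 (.node (nat_lit 1686) (.node (nat_lit 1685) (.leaf [nat_lit 2, nat_lit 6, nat_lit 0, nat_lit 4, nat_lit 2, nat_lit 1, nat_lit 0]) (.leaf [nat_lit 4, nat_lit 3, nat_lit 1, nat_lit 6, nat_lit 3, nat_lit 2, nat_lit 0])) (.node (nat_lit 1687) (.leaf [nat_lit 2, nat_lit 6, nat_lit 0, nat_lit 4, nat_lit 1]) (.leaf [nat_lit 1, nat_lit 0, nat_lit 6, nat_lit 4]))))
 (.node (nat_lit 1692) (.node (nat_lit 1690) (.node (nat_lit 1689) (.leaf [nat_lit 6, nat_lit 4, nat_lit 3, nat_lit 1, nat_lit 0]) (.leaf [nat_lit 0, nat_lit 6, nat_lit 4, nat_lit 3, nat_lit 1])) (.node (nat_lit 1691) (.leaf [nat_lit 6, nat_lit 1, nat_lit 4, nat_lit 2]) (.leaf [nat_lit 2, nat_lit 6, nat_lit 4, nat_lit 3, nat_lit 2, nat_lit 1, nat_lit 0])))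
 (.node (nat_lit 1694) (.node (nat_lit 1693) (.leaf [nat_lit 6, nat_lit 0, nat_lit 4, nat_lit 2, nat_lit 1]) (.leaf [nat_lit 6, nat_lit 3, nat_lit 2, nat_lit 4, nat_lit 2, nat_lit 1, nat_lit 0])) (.node (nat_lit 1695) (.leaf [nat_lit 6, nat_lit 2, nat_lit 0, nat_lit 4, nat_lit 2, nat_lit 1]) (.leaf [nat_lit 3, nat_lit 1, nat_lit 6, nat_lit 4, nat_lit 3, nat_lit 0]))))))
 (.node (nat_lit 1712) (.node (nat_lit 1704) (.node (nat_lit 1700) (.node (nat_lit 1698) (.node (nat_lit 1697) (.leaf [nat_lit 6, nat_lit 2, nat_lit 4, nat_lit 1, nat_lit 0]) (.leaf [nat_lit 6, nat_lit 3, nat_lit 0, nat_lit 4, nat_lit 2, nat_lit 1, nat_lit 0])) (.node (nat_lit 1699) (.leaf [nat_lit 0, nat_lit 6, nat_lit 4, nat_lit 3, nat_lit 1, nat_lit 0]) (.leaf [nat_lit 1, nat_lit 6, nat_lit 3, nat_lit 4, nat_lit 3])))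
 (.node (nat_lit 1702) (.node (nat_lit 1701) (.leaf [nat_lit 2, nat_lit 6, nat_lit 4, nat_lit 3, nat_lit 2, nat_lit 1]) (.leaf [nat_lit 1, nat_lit 6, nat_lit 4, nat_lit 3])) (.node (nat_lit 1703) (.leaf [nat_lit 3, nat_lit 6, nat_lit 4, nat_lit 1]) (.leaf [nat_lit 6, nat_lit 0, nat_lit 4, nat_lit 1, nat_lit 0]))))
 (.node (nat_lit 1708) (.node (nat_lit 1706) (.node (nat_lit 1705) (.leaf [nat_lit 0, nat_lit 6, nat_lit 0, nat_lit 4, nat_lit 2, nat_lit 1]) (.leaf [nat_lit 1, nat_lit 6, nat_lit 1, nat_lit 4, nat_lit 3, nat_lit 2, nat_lit 1])) (.node (nat_lit 1707) (.leaf [nat_lit 3, nat_lit 6, nat_lit 4, nat_lit 3, nat_lit 1, nat_lit 0]) (.leaf [nat_lit 1, nat_lit 0, nat_lit 6, nat_lit 4, nat_lit 3, nat_lit 2, nat_lit 0])))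
 (.node (nat_lit 1710) (.node (nat_lit 1709) (.leaf [nat_lit 1, nat_lit 0, nat_lit 6, nat_lit 4, nat_lit 3]) (.leaf [nat_lit 0, nat_lit 6, nat_lit 0, nat_lit 4, nat_lit 3, nat_lit 2, nat_lit 1, nat_lit 0])) (.node (nat_lit 1711) (.leaf [nat_lit 2, nat_lit 6, nat_lit 4, nat_lit 2, nat_lit 1, nat_lit 0]) (.leaf [nat_lit 3, nat_lit 6, nat_lit 4, nat_lit 1, nat_lit 0])))))
 (.node (nat_lit 1720) (.node (nat_lit 1716) (.node (nat_lit 1714) (.node (nat_lit 1713) (.leaf [nat_lit 3, nat_lit 6, nat_lit 0, nat_lit 4, nat_lit 2, nat_lit 1]) (.leaf [nat_lit 6, nat_lit 3, nat_lit 4, nat_lit 3, nat_lit 1])) (.node (nat_lit 1715) (.leaf [nat_lit 3, nat_lit 4, nat_lit 3, nat_lit 6, nat_lit 2, nat_lit 1, nat_lit 0]) (.leaf [nat_lit 1, nat_lit 6, nat_lit 4, nat_lit 0])))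
 (.node (nat_lit 1718) (.node (nat_lit 1717) (.leaf [nat_lit 6, nat_lit 1, nat_lit 4, nat_lit 3, nat_lit 2]) (.leaf [nat_lit 0, nat_lit 6, nat_lit 1, nat_lit 4, nat_lit 3, nat_lit 2, nat_lit 0])) (.node (nat_lit 1719) (.leaf [nat_lit 4, nat_lit 3, nat_lit 1, nat_lit 6, nat_lit 3]) (.leaf [nat_lit 1, nat_lit 6, nat_lit 0, nat_lit 4, nat_lit 3, nat_lit 2]))))
 (.node (nat_lit 1724) (.node (nat_lit 1722) (.node (nat_lit 1721) (.leaf [nat_lit 2, nat_lit 6, nat_lit 0, nat_lit 4, nat_lit 3, nat_lit 1]) (.leaf [nat_lit 0, nat_lit 6, nat_lit 4, nat_lit 3, nat_lit 2, nat_lit 1, nat_lit 0])) (.node (nat_lit 1723) (.leaf [nat_lit 1, nat_lit 6, nat_lit 0, nat_lit 4, nat_lit 0]) (.leaf [nat_lit 0, nat_lit 6, nat_lit 4, nat_lit 1])))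
 (.node (nat_lit 1726) (.node (nat_lit 1725) (.leaf [nat_lit 6, nat_lit 3, nat_lit 1, nat_lit 4, nat_lit 3]) (.leaf [nat_lit 3, nat_lit 1, nat_lit 6, nat_lit 4, nat_lit 0])) (.node (nat_lit 1727) (.leaf [nat_lit 0, nat_lit 6, nat_lit 1, nat_lit 4, nat_lit 3]) (.leaf [nat_lit 1, nat_lit 0, nat_lit 6, nat_lit 2, nat_lit 4, nat_lit 2, nat_lit 0])))))))
 (.node (nat_lit 1760) (.node (nat_lit 1744) (.node (nat_lit 1736) (.node (nat_lit 1732) (.node (nat_lit 1730) (.node (nat_lit 1729) (.leaf [nat_lit 6, nat_lit 4, nat_lit 1, nat_lit 0]) (.leaf [nat_lit 1, nat_lit 5, nat_lit 6, nat_lit 4, nat_lit 3, nat_lit 2, nat_lit 1])) (.node (nat_lit 1731) (.leaf [nat_lit 6, nat_lit 3, nat_lit 6, nat_lit 2, nat_lit 1, nat_lit 0]) (.leaf [nat_lit 4, nat_lit 5, nat_lit 0, nat_lit 4])))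
 (.node (nat_lit 1734) (.node (nat_lit 1733) (.leaf [nat_lit 6, nat_lit 0, nat_lit 6, nat_lit 1, nat_lit 0]) (.leaf [nat_lit 5, nat_lit 3, nat_lit 0, nat_lit 4, nat_lit 0])) (.node (nat_lit 1735) (.leaf [nat_lit 5, nat_lit 2, nat_lit 4, nat_lit 3, nat_lit 2]) (.leaf [nat_lit 1, nat_lit 5, nat_lit 2, nat_lit 4, nat_lit 2, nat_lit 1]))))
 (.node (nat_lit 1740) (.node (nat_lit 1738) (.node (nat_lit 1737) (.leaf [nat_lit 3, nat_lit 5, nat_lit 1, nat_lit 4, nat_lit 2, nat_lit 1, nat_lit 0]) (.leaf [nat_lit 4, nat_lit 5, nat_lit 0, nat_lit 4, nat_lit 2, nat_lit 0])) (.node (nat_lit 1739) (.leaf [nat_lit 6, nat_lit 0, nat_lit 5, nat_lit 4, nat_lit 3, nat_lit 2]) (.leaf [nat_lit 6, nat_lit 2, nat_lit 1, nat_lit 6, nat_lit 3])))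
 (.node (nat_lit 1742) (.node (nat_lit 1741) (.leaf [nat_lit 0, nat_lit 6, nat_lit 2, nat_lit 4, nat_lit 0]) (.leaf [nat_lit 6, nat_lit 3, nat_lit 2, nat_lit 4, nat_lit 3])) (.node (nat_lit 1743) (.leaf [nat_lit 6, nat_lit 5, nat_lit 3, nat_lit 2]) (.leaf [nat_lit 3, nat_lit 6, nat_lit 0, nat_lit 4, nat_lit 3, nat_lit 2, nat_lit 0])))))
 (.node (nat_lit 1752) (.node (nat_lit 1748) (.node (nat_lit 1746) (.node (nat_lit 1745) (.leaf [nat_lit 6, nat_lit 2, nat_lit 5, nat_lit 3]) (.leaf [nat_lit 6, nat_lit 2, nat_lit 0, nat_lit 4, nat_lit 0])) (.node (nat_lit 1747) (.leaf [nat_lit 6, nat_lit 5, nat_lit 0, nat_lit 4, nat_lit 0]) (.leaf [nat_lit 1, nat_lit 6, nat_lit 1, nat_lit 0])))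
 (.node (nat_lit 1750) (.node (nat_lit 1749) (.leaf [nat_lit 4, nat_lit 2, nat_lit 5, nat_lit 6, nat_lit 2]) (.leaf [nat_lit 6, nat_lit 0, nat_lit 5, nat_lit 3, nat_lit 2, nat_lit 0])) (.node (nat_lit 1751) (.leaf [nat_lit 4, nat_lit 5, nat_lit 6, nat_lit 3, nat_lit 2, nat_lit 0]) (.leaf [nat_lit 5, nat_lit 2, nat_lit 5, nat_lit 6, nat_lit 3, nat_lit 0]))))
 (.node (nat_lit 1756) (.node (nat_lit 1754) (.node (nat_lit 1753) (.leaf [nat_lit 1, nat_lit 6, nat_lit 4, nat_lit 3, nat_lit 1]) (.leaf [nat_lit 6, nat_lit 2, nat_lit 4])) (.node (nat_lit 1755) (.leaf [nat_lit 5, nat_lit 2, nat_lit 5, nat_lit 6, nat_lit 3, nat_lit 2]) (.leaf [nat_lit 3, nat_lit 4, nat_lit 3, nat_lit 6, nat_lit 2])))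
 (.node (nat_lit 1758) (.node (nat_lit 1757) (.leaf [nat_lit 6, nat_lit 5, nat_lit 0, nat_lit 4, nat_lit 3, nat_lit 2]) (.leaf [nat_lit 1, nat_lit 4, nat_lit 2, nat_lit 4, nat_lit 3, nat_lit 2, nat_lit 1])) (.node (nat_lit 1759) (.leaf [nat_lit 1, nat_lit 6, nat_lit 0, nat_lit 6, nat_lit 3, nat_lit 1, nat_lit 0]) (.leaf [nat_lit 5, nat_lit 1, nat_lit 5, nat_lit 2, nat_lit 1, nat_lit 0]))))))
 (.node (nat_lit 1776) (.node (nat_lit 1768) (.node (nat_lit 1764) (.node (nat_lit 1762) (.node (nat_lit 1761) (.leaf [nat_lit 5, nat_lit 4, nat_lit 5, nat_lit 3, nat_lit 4]) (.leaf [nat_lit 6, nat_lit 2, nat_lit 6, nat_lit 3, nat_lit 2])) (.node (nat_lit 1763) (.leaf [nat_lit 5, nat_lit 3, nat_lit 5]) (.leaf [nat_lit 4, nat_lit 3, nat_lit 4, nat_lit 3, nat_lit 1])))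
 (.node (nat_lit 1766) (.node (nat_lit 1765) (.leaf [nat_lit 4, nat_lit 1, nat_lit 4, nat_lit 3, nat_lit 2, nat_lit 1, nat_lit 0]) (.leaf [nat_lit 5, nat_lit 1, nat_lit 5, nat_lit 3, nat_lit 2, nat_lit 0])) (.node (nat_lit 1767) (.leaf [nat_lit 5, nat_lit 4, nat_lit 2, nat_lit 4, nat_lit 3]) (.leaf [nat_lit 4, nat_lit 3, nat_lit 1, nat_lit 0, nat_lit 4, nat_lit 0]))))
 (.node (nat_lit 1772) (.node (nat_lit 1770) (.node (nat_lit 1769) (.leaf [nat_lit 4, nat_lit 0, nat_lit 6, nat_lit 0, nat_lit 4, nat_lit 2]) (.leaf [nat_lit 4, nat_lit 2, nat_lit 1, nat_lit 4, nat_lit 3, nat_lit 1, nat_lit 0])) (.node (nat_lit 1771) (.leaf [nat_lit 4, nat_lit 3, nat_lit 1, nat_lit 0, nat_lit 4, nat_lit 2, nat_lit 1]) (.leaf [nat_lit 4, nat_lit 2, nat_lit 0, nat_lit 4, nat_lit 3, nat_lit 2, nat_lit 0])))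
 (.node (nat_lit 1774) (.node (nat_lit 1773) (.leaf [nat_lit 0, nat_lit 4, nat_lit 3, nat_lit 4, nat_lit 0]) (.leaf [nat_lit 1, nat_lit 0, nat_lit 4, nat_lit 1])) (.node (nat_lit 1775) (.leaf [nat_lit 5, nat_lit 4, nat_lit 0, nat_lit 4]) (.leaf [nat_lit 4, nat_lit 0, nat_lit 6, nat_lit 0, nat_lit 4, nat_lit 3, nat_lit 2, nat_lit 0])))))
 (.node (nat_lit 1784) (.node (nat_lit 1780) (.node (nat_lit 1778) (.node (nat_lit 1777) (.leaf [nat_lit 2, nat_lit 1, nat_lit 4, nat_lit 3, nat_lit 1]) (.leaf [nat_lit 4, nat_lit 3, nat_lit 4, nat_lit 2, nat_lit 1, nat_lit 0])) (.node (nat_lit 1779) (.leaf [nat_lit 1, nat_lit 6, nat_lit 0, nat_lit 6, nat_lit 3, nat_lit 2, nat_lit 1]) (.leaf [nat_lit 6, nat_lit 3, nat_lit 1, nat_lit 4, nat_lit 3, nat_lit 1, nat_lit 0])))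
 (.node (nat_lit 1782) (.node (nat_lit 1781) (.leaf [nat_lit 0, nat_lit 5, nat_lit 1, nat_lit 5, nat_lit 1, nat_lit 0]) (.leaf [nat_lit 6, nat_lit 1, nat_lit 4, nat_lit 1, nat_lit 0])) (.node (nat_lit 1783) (.leaf [nat_lit 5, nat_lit 2, nat_lit 5, nat_lit 3, nat_lit 0]) (.leaf [nat_lit 0, nat_lit 5, nat_lit 4, nat_lit 3, nat_lit 0]))))
 (.node (nat_lit 1788) (.node (nat_lit 1786) (.node (nat_lit 1785) (.leaf [nat_lit 3, nat_lit 5, nat_lit 2, nat_lit 4, nat_lit 2]) (.leaf [nat_lit 6, nat_lit 5, nat_lit 2, nat_lit 5, nat_lit 3, nat_lit 2])) (.node (nat_lit 1787) (.leaf [nat_lit 5, nat_lit 3, nat_lit 2, nat_lit 5, nat_lit 0]) (.leaf [nat_lit 4, nat_lit 3, nat_lit 1, nat_lit 5, nat_lit 3, nat_lit 2, nat_lit 1, nat_lit 0])))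
 (.node (nat_lit 1790) (.node (nat_lit 1789) (.leaf [nat_lit 5, nat_lit 3, nat_lit 1, nat_lit 4, nat_lit 2, nat_lit 1, nat_lit 0]) (.leaf [nat_lit 3, nat_lit 1, nat_lit 4, nat_lit 5, nat_lit 3, nat_lit 1])) (.node (nat_lit 1791) (.leaf [nat_lit 1, nat_lit 5, nat_lit 4, nat_lit 1]) (.leaf [nat_lit 3, nat_lit 0, nat_lit 5, nat_lit 3, nat_lit 2, nat_lit 0])))))))))
noncomputable def bWT_7 : Tr (List ℕ) := (.node (nat_lit 1920) (.node (nat_lit 1856) (.node (nat_lit 1824) (.node (nat_lit 1808) (.node (nat_lit 1800) (.node (nat_lit 1796) (.node (nat_lit 1794) (.node (nat_lit 1793) (.leaf [nat_lit 6, nat_lit 3, nat_lit 5, nat_lit 4, nat_lit 2, nat_lit 0]) (.leaf [nat_lit 4, nat_lit 2, nat_lit 4, nat_lit 1, nat_lit 0])) (.node (nat_lit 1795) (.leaf [nat_lit 0, nat_lit 6, nat_lit 1, nat_lit 4, nat_lit 1]) (.leaf [nat_lit 1, nat_lit 6, nat_lit 0, nat_lit 4, nat_lit 3, nat_lit 1, nat_lit 0])))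
 (.node (nat_lit 1798) (.node (nat_lit 1797) (.leaf [nat_lit 4, nat_lit 0, nat_lit 6, nat_lit 0, nat_lit 4, nat_lit 3]) (.leaf [nat_lit 1, nat_lit 6, nat_lit 3, nat_lit 4, nat_lit 1])) (.node (nat_lit 1799) (.leaf [nat_lit 3, nat_lit 4, nat_lit 0, nat_lit 4, nat_lit 1, nat_lit 0]) (.leaf [nat_lit 4, nat_lit 5, nat_lit 1, nat_lit 5, nat_lit 2, nat_lit 1]))))
 (.node (nat_lit 1804) (.node (nat_lit 1802) (.node (nat_lit 1801) (.leaf [nat_lit 3, nat_lit 6, nat_lit 5, nat_lit 6, nat_lit 0]) (.leaf [nat_lit 0, nat_lit 4, nat_lit 3, nat_lit 0, nat_lit 4, nat_lit 2, nat_lit 0])) (.node (nat_lit 1803) (.leaf [nat_lit 1, nat_lit 5, nat_lit 6, nat_lit 3, nat_lit 1]) (.leaf [nat_lit 1, nat_lit 4, nat_lit 2, nat_lit 4, nat_lit 3, nat_lit 1, nat_lit 0])))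
 (.node (nat_lit 1806) (.node (nat_lit 1805) (.leaf [nat_lit 4, nat_lit 5, nat_lit 3]) (.leaf [nat_lit 1, nat_lit 6, nat_lit 4, nat_lit 2, nat_lit 1, nat_lit 0])) (.node (nat_lit 1807) (.leaf [nat_lit 1, nat_lit 6, nat_lit 5, nat_lit 3, nat_lit 1]) (.leaf [nat_lit 4, nat_lit 3, nat_lit 2, nat_lit 4, nat_lit 2])))))
 (.node (nat_lit 1816) (.node (nat_lit 1812) (.node (nat_lit 1810) (.node (nat_lit 1809) (.leaf [nat_lit 4, nat_lit 3, nat_lit 1, nat_lit 0, nat_lit 4, nat_lit 1, nat_lit 0]) (.leaf [nat_lit 4, nat_lit 2, nat_lit 1, nat_lit 4, nat_lit 3, nat_lit 2, nat_lit 1])) (.node (nat_lit 1811) (.leaf [nat_lit 2, nat_lit 5, nat_lit 2, nat_lit 4, nat_lit 3]) (.leaf [nat_lit 6, nat_lit 3, nat_lit 4, nat_lit 0])))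
 (.node (nat_lit 1814) (.node (nat_lit 1813) (.leaf [nat_lit 1, nat_lit 0, nat_lit 5, nat_lit 4, nat_lit 1, nat_lit 0]) (.leaf [nat_lit 6, nat_lit 3, nat_lit 1, nat_lit 4, nat_lit 2, nat_lit 1])) (.node (nat_lit 1815) (.leaf [nat_lit 2, nat_lit 5, nat_lit 3, nat_lit 4, nat_lit 3, nat_lit 0]) (.leaf [nat_lit 3, nat_lit 5, nat_lit 4, nat_lit 3, nat_lit 2, nat_lit 0]))))
 (.node (nat_lit 1820) (.node (nat_lit 1818) (.node (nat_lit 1817) (.leaf [nat_lit 6, nat_lit 3, nat_lit 5, nat_lit 2]) (.leaf [nat_lit 5, nat_lit 6, nat_lit 4])) (.node (nat_lit 1819) (.leaf [nat_lit 4, nat_lit 3, nat_lit 2, nat_lit 4, nat_lit 2, nat_lit 1]) (.leaf [nat_lit 3, nat_lit 2, nat_lit 5, nat_lit 3])))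
 (.node (nat_lit 1822) (.node (nat_lit 1821) (.leaf [nat_lit 6, nat_lit 5, nat_lit 3, nat_lit 4, nat_lit 3]) (.leaf [nat_lit 6, nat_lit 4, nat_lit 2, nat_lit 4, nat_lit 3, nat_lit 2])) (.node (nat_lit 1823) (.leaf [nat_lit 0, nat_lit 4, nat_lit 3, nat_lit 0, nat_lit 4, nat_lit 3, nat_lit 2, nat_lit 1, nat_lit 0]) (.leaf [nat_lit 6, nat_lit 3, nat_lit 6, nat_lit 4, nat_lit 3, nat_lit 2]))))))
 (.node (nat_lit 1840) (.node (nat_lit 1832) (.node (nat_lit 1828) (.node (nat_lit 1826) (.node (nat_lit 1825) (.leaf [nat_lit 6, nat_lit 4, nat_lit 1, nat_lit 4, nat_lit 3, nat_lit 2, nat_lit 1, nat_lit 0]) (.leaf [nat_lit 6, nat_lit 0, nat_lit 4, nat_lit 3])) (.node (nat_lit 1827) (.leaf [nat_lit 3, nat_lit 5, nat_lit 4]) (.leaf [nat_lit 5, nat_lit 0, nat_lit 6, nat_lit 0, nat_lit 4])))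
 (.node (nat_lit 1830) (.node (nat_lit 1829) (.leaf [nat_lit 5, nat_lit 2, nat_lit 5, nat_lit 3, nat_lit 2, nat_lit 1]) (.leaf [nat_lit 0, nat_lit 6, nat_lit 5, nat_lit 4, nat_lit 0])) (.node (nat_lit 1831) (.leaf [nat_lit 6, nat_lit 5, nat_lit 4, nat_lit 3, nat_lit 2, nat_lit 0]) (.leaf [nat_lit 4, nat_lit 2, nat_lit 1, nat_lit 4, nat_lit 3, nat_lit 2]))))
 (.node (nat_lit 1836) (.node (nat_lit 1834) (.node (nat_lit 1833) (.leaf [nat_lit 3, nat_lit 2, nat_lit 1, nat_lit 5, nat_lit 1]) (.leaf [nat_lit 1, nat_lit 6, nat_lit 0, nat_lit 6, nat_lit 0])) (.node (nat_lit 1835) (.leaf [nat_lit 3, nat_lit 2, nat_lit 1, nat_lit 5, nat_lit 2, nat_lit 1, nat_lit 0]) (.leaf [nat_lit 6, nat_lit 4, nat_lit 1, nat_lit 5, nat_lit 1])))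
 (.node (nat_lit 1838) (.node (nat_lit 1837) (.leaf [nat_lit 5, nat_lit 3, nat_lit 2, nat_lit 5, nat_lit 3, nat_lit 1, nat_lit 0]) (.leaf [nat_lit 2, nat_lit 6, nat_lit 1, nat_lit 4, nat_lit 2, nat_lit 1, nat_lit 0])) (.node (nat_lit 1839) (.leaf [nat_lit 2, nat_lit 6, nat_lit 5, nat_lit 4, nat_lit 2]) (.leaf [nat_lit 5, nat_lit 6, nat_lit 0, nat_lit 5, nat_lit 3, nat_lit 0])))))
 (.node (nat_lit 1848) (.node (nat_lit 1844) (.node (nat_lit 1842) (.node (nat_lit 1841) (.leaf [nat_lit 5, nat_lit 6, nat_lit 3, nat_lit 4, nat_lit 3]) (.leaf [nat_lit 6, nat_lit 5, nat_lit 1, nat_lit 4, nat_lit 3, nat_lit 1])) (.node (nat_lit 1843) (.leaf [nat_lit 3, nat_lit 0, nat_lit 6, nat_lit 2]) (.leaf [nat_lit 1, nat_lit 0, nat_lit 6, nat_lit 4, nat_lit 3, nat_lit 1, nat_lit 0])))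
 (.node (nat_lit 1846) (.node (nat_lit 1845) (.leaf [nat_lit 3, nat_lit 0, nat_lit 6, nat_lit 0]) (.leaf [nat_lit 2, nat_lit 6, nat_lit 5, nat_lit 4, nat_lit 3, nat_lit 0])) (.node (nat_lit 1847) (.leaf [nat_lit 6, nat_lit 0, nat_lit 6, nat_lit 3, nat_lit 0]) (.leaf [nat_lit 0, nat_lit 5, nat_lit 1, nat_lit 5, nat_lit 2, nat_lit 1]))))
 (.node (nat_lit 1852) (.node (nat_lit 1850) (.node (nat_lit 1849) (.leaf [nat_lit 3]) (.leaf [nat_lit 0, nat_lit 5, nat_lit 3, nat_lit 5, nat_lit 0])) (.node (nat_lit 1851) (.leaf [nat_lit 0, nat_lit 4, nat_lit 3, nat_lit 4, nat_lit 3, nat_lit 1, nat_lit 0]) (.leaf [nat_lit 0, nat_lit 5, nat_lit 1, nat_lit 5, nat_lit 3, nat_lit 2])))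
 (.node (nat_lit 1854) (.node (nat_lit 1853) (.leaf [nat_lit 2, nat_lit 1, nat_lit 5, nat_lit 2, nat_lit 1, nat_lit 0]) (.leaf [nat_lit 6, nat_lit 1, nat_lit 0, nat_lit 6, nat_lit 2, nat_lit 0])) (.node (nat_lit 1855) (.leaf [nat_lit 3, nat_lit 6, nat_lit 3, nat_lit 2]) (.leaf [nat_lit 6, nat_lit 0, nat_lit 6, nat_lit 2, nat_lit 4, nat_lit 0])))))))
 (.node (nat_lit 1888) (.node (nat_lit 1872) (.node (nat_lit 1864) (.node (nat_lit 1860) (.node (nat_lit 1858) (.node (nat_lit 1857) (.leaf [nat_lit 3, nat_lit 1, nat_lit 0, nat_lit 5, nat_lit 2, nat_lit 1, nat_lit 0]) (.leaf [nat_lit 3, nat_lit 6, nat_lit 2, nat_lit 0])) (.node (nat_lit 1859) (.leaf [nat_lit 5, nat_lit 0, nat_lit 5, nat_lit 4, nat_lit 3]) (.leaf [nat_lit 0, nat_lit 4, nat_lit 3, nat_lit 4, nat_lit 2, nat_lit 1])))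
 (.node (nat_lit 1862) (.node (nat_lit 1861) (.leaf [nat_lit 4, nat_lit 1, nat_lit 5, nat_lit 2, nat_lit 1, nat_lit 0]) (.leaf [nat_lit 5, nat_lit 6, nat_lit 5, nat_lit 3])) (.node (nat_lit 1863) (.leaf [nat_lit 6, nat_lit 2, nat_lit 5, nat_lit 6]) (.leaf [nat_lit 0, nat_lit 6, nat_lit 5, nat_lit 4, nat_lit 3, nat_lit 2]))))
 (.node (nat_lit 1868) (.node (nat_lit 1866) (.node (nat_lit 1865) (.leaf [nat_lit 1, nat_lit 4, nat_lit 2, nat_lit 4, nat_lit 0]) (.leaf [nat_lit 3, nat_lit 6])) (.node (nat_lit 1867) (.leaf [nat_lit 4, nat_lit 0, nat_lit 4, nat_lit 3, nat_lit 1, nat_lit 0]) (.leaf [nat_lit 3, nat_lit 2, nat_lit 1, nat_lit 4, nat_lit 1])))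
 (.node (nat_lit 1870) (.node (nat_lit 1869) (.leaf [nat_lit 4, nat_lit 3, nat_lit 0, nat_lit 4, nat_lit 0]) (.leaf [nat_lit 0, nat_lit 5, nat_lit 3, nat_lit 5, nat_lit 2])) (.node (nat_lit 1871) (.leaf [nat_lit 3, nat_lit 2, nat_lit 0]) (.leaf [nat_lit 0, nat_lit 5, nat_lit 2, nat_lit 5, nat_lit 3, nat_lit 2, nat_lit 0])))))
 (.node (nat_lit 1880) (.node (nat_lit 1876) (.node (nat_lit 1874) (.node (nat_lit 1873) (.leaf [nat_lit 5, nat_lit 3, nat_lit 5, nat_lit 2, nat_lit 0]) (.leaf [nat_lit 0, nat_lit 5, nat_lit 6, nat_lit 4, nat_lit 0])) (.node (nat_lit 1875) (.leaf [nat_lit 4, nat_lit 3, nat_lit 0, nat_lit 4, nat_lit 1, nat_lit 0]) (.leaf [nat_lit 5, nat_lit 4, nat_lit 1, nat_lit 4, nat_lit 1, nat_lit 0])))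
 (.node (nat_lit 1878) (.node (nat_lit 1877) (.leaf [nat_lit 4, nat_lit 2, nat_lit 6, nat_lit 5, nat_lit 2]) (.leaf [nat_lit 6, nat_lit 4, nat_lit 0, nat_lit 4, nat_lit 3, nat_lit 0])) (.node (nat_lit 1879) (.leaf [nat_lit 5, nat_lit 1, nat_lit 0, nat_lit 5, nat_lit 3, nat_lit 0]) (.leaf [nat_lit 3, nat_lit 2, nat_lit 1, nat_lit 4, nat_lit 3, nat_lit 2, nat_lit 1, nat_lit 0]))))
 (.node (nat_lit 1884) (.node (nat_lit 1882) (.node (nat_lit 1881) (.leaf [nat_lit 5, nat_lit 4, nat_lit 5, nat_lit 3, nat_lit 4, nat_lit 2, nat_lit 0]) (.leaf [nat_lit 3, nat_lit 1, nat_lit 0, nat_lit 5, nat_lit 1])) (.node (nat_lit 1883) (.leaf [nat_lit 5, nat_lit 6, nat_lit 3, nat_lit 5]) (.leaf [nat_lit 5, nat_lit 3, nat_lit 2, nat_lit 5, nat_lit 2])))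
 (.node (nat_lit 1886) (.node (nat_lit 1885) (.leaf [nat_lit 4, nat_lit 0, nat_lit 6, nat_lit 5, nat_lit 0]) (.leaf [nat_lit 0, nat_lit 6, nat_lit 2, nat_lit 6, nat_lit 3, nat_lit 2, nat_lit 1, nat_lit 0])) (.node (nat_lit 1887) (.leaf [nat_lit 5, nat_lit 4, nat_lit 0, nat_lit 4, nat_lit 2, nat_lit 0]) (.leaf [nat_lit 1, nat_lit 5, nat_lit 6, nat_lit 4, nat_lit 1, nat_lit 0]))))))
 (.node (nat_lit 1904) (.node (nat_lit 1896) (.node (nat_lit 1892) (.node (nat_lit 1890) (.node (nat_lit 1889) (.leaf [nat_lit 1, nat_lit 6, nat_lit 0, nat_lit 6, nat_lit 3, nat_lit 2]) (.leaf [nat_lit 1, nat_lit 0, nat_lit 5, nat_lit 3, nat_lit 2, nat_lit 1, nat_lit 0])) (.node (nat_lit 1891) (.leaf [nat_lit 4, nat_lit 2, nat_lit 1, nat_lit 4, nat_lit 0]) (.leaf [nat_lit 1, nat_lit 0, nat_lit 5, nat_lit 3, nat_lit 1])))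
 (.node (nat_lit 1894) (.node (nat_lit 1893) (.leaf [nat_lit 3, nat_lit 6, nat_lit 5, nat_lit 4, nat_lit 2, nat_lit 0]) (.leaf [nat_lit 4, nat_lit 1, nat_lit 4])) (.node (nat_lit 1895) (.leaf [nat_lit 6, nat_lit 1, nat_lit 5, nat_lit 4, nat_lit 3, nat_lit 1]) (.leaf [nat_lit 3, nat_lit 1, nat_lit 0, nat_lit 6, nat_lit 3, nat_lit 1]))))
 (.node (nat_lit 1900) (.node (nat_lit 1898) (.node (nat_lit 1897) (.leaf [nat_lit 4, nat_lit 5, nat_lit 6]) (.leaf [nat_lit 4, nat_lit 2, nat_lit 5, nat_lit 6, nat_lit 3, nat_lit 0])) (.node (nat_lit 1899) (.leaf [nat_lit 6, nat_lit 3, nat_lit 2, nat_lit 0]) (.leaf [nat_lit 6, nat_lit 3])))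
 (.node (nat_lit 1902) (.node (nat_lit 1901) (.leaf [nat_lit 6, nat_lit 1, nat_lit 5, nat_lit 4, nat_lit 2, nat_lit 1, nat_lit 0]) (.leaf [nat_lit 5, nat_lit 2, nat_lit 5, nat_lit 3, nat_lit 2])) (.node (nat_lit 1903) (.leaf [nat_lit 0, nat_lit 5, nat_lit 3, nat_lit 5, nat_lit 3, nat_lit 1, nat_lit 0]) (.leaf [nat_lit 6, nat_lit 2, nat_lit 1, nat_lit 6, nat_lit 2, nat_lit 1, nat_lit 0])))))
 (.node (nat_lit 1912) (.node (nat_lit 1908) (.node (nat_lit 1906) (.node (nat_lit 1905) (.leaf [nat_lit 6, nat_lit 1, nat_lit 0, nat_lit 6, nat_lit 3]) (.leaf [nat_lit 3, nat_lit 1, nat_lit 0, nat_lit 5, nat_lit 3, nat_lit 1])) (.node (nat_lit 1907) (.leaf [nat_lit 0, nat_lit 5, nat_lit 1, nat_lit 5, nat_lit 0]) (.leaf [nat_lit 0, nat_lit 6, nat_lit 2, nat_lit 0])))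
 (.node (nat_lit 1910) (.node (nat_lit 1909) (.leaf [nat_lit 2, nat_lit 1, nat_lit 4, nat_lit 2, nat_lit 1, nat_lit 0]) (.leaf [nat_lit 2, nat_lit 1, nat_lit 5, nat_lit 3, nat_lit 1])) (.node (nat_lit 1911) (.leaf [nat_lit 0, nat_lit 6, nat_lit 3, nat_lit 2]) (.leaf [nat_lit 1, nat_lit 0, nat_lit 4, nat_lit 3, nat_lit 2, nat_lit 1, nat_lit 0]))))
 (.node (nat_lit 1916) (.node (nat_lit 1914) (.node (nat_lit 1913) (.leaf [nat_lit 0, nat_lit 5, nat_lit 3, nat_lit 5, nat_lit 2, nat_lit 1]) (.leaf [nat_lit 2, nat_lit 6, nat_lit 3, nat_lit 2])) (.node (nat_lit 1915) (.leaf [nat_lit 2, nat_lit 5]) (.leaf [nat_lit 3, nat_lit 4, nat_lit 0, nat_lit 4, nat_lit 3, nat_lit 2, nat_lit 1])))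
 (.node (nat_lit 1918) (.node (nat_lit 1917) (.leaf [nat_lit 0, nat_lit 6, nat_lit 3, nat_lit 0]) (.leaf [nat_lit 4, nat_lit 2, nat_lit 4, nat_lit 3, nat_lit 2, nat_lit 1])) (.node (nat_lit 1919) (.leaf [nat_lit 6, nat_lit 3, nat_lit 6, nat_lit 4, nat_lit 0]) (.leaf [nat_lit 6, nat_lit 5, nat_lit 6, nat_lit 2]))))))))
 (.node (nat_lit 1984) (.node (nat_lit 1952) (.node (nat_lit 1936) (.node (nat_lit 1928) (.node (nat_lit 1924) (.node (nat_lit 1922) (.node (nat_lit 1921) (.leaf [nat_lit 2, nat_lit 0, nat_lit 6, nat_lit 3, nat_lit 2, nat_lit 0]) (.leaf [nat_lit 6, nat_lit 2, nat_lit 1, nat_lit 6, nat_lit 2, nat_lit 0])) (.node (nat_lit 1923) (.leaf [nat_lit 0, nat_lit 6, nat_lit 2, nat_lit 4, nat_lit 3, nat_lit 1, nat_lit 0]) (.leaf [nat_lit 6, nat_lit 2, nat_lit 4, nat_lit 3, nat_lit 1])))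
 (.node (nat_lit 1926) (.node (nat_lit 1925) (.leaf [nat_lit 1, nat_lit 0, nat_lit 6, nat_lit 2, nat_lit 4, nat_lit 3, nat_lit 0]) (.leaf [nat_lit 3, nat_lit 4, nat_lit 3, nat_lit 6, nat_lit 3, nat_lit 2, nat_lit 1])) (.node (nat_lit 1927) (.leaf [nat_lit 6, nat_lit 3, nat_lit 4, nat_lit 2, nat_lit 1]) (.leaf [nat_lit 3, nat_lit 1, nat_lit 6, nat_lit 4, nat_lit 3, nat_lit 2, nat_lit 0]))))
 (.node (nat_lit 1932) (.node (nat_lit 1930) (.node (nat_lit 1929) (.leaf [nat_lit 3, nat_lit 1, nat_lit 6, nat_lit 4, nat_lit 2, nat_lit 0]) (.leaf [nat_lit 1, nat_lit 6, nat_lit 0, nat_lit 4, nat_lit 3])) (.node (nat_lit 1931) (.leaf [nat_lit 1, nat_lit 6, nat_lit 2, nat_lit 4, nat_lit 3]) (.leaf [nat_lit 6, nat_lit 3, nat_lit 1, nat_lit 4, nat_lit 0])))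
 (.node (nat_lit 1934) (.node (nat_lit 1933) (.leaf [nat_lit 4, nat_lit 2, nat_lit 6, nat_lit 3, nat_lit 1]) (.leaf [nat_lit 6, nat_lit 3, nat_lit 1, nat_lit 4, nat_lit 2])) (.node (nat_lit 1935) (.leaf [nat_lit 4, nat_lit 2, nat_lit 6, nat_lit 2, nat_lit 1, nat_lit 0]) (.leaf [nat_lit 1, nat_lit 0, nat_lit 6, nat_lit 2, nat_lit 4, nat_lit 3, nat_lit 2])))))
 (.node (nat_lit 1944) (.node (nat_lit 1940) (.node (nat_lit 1938) (.node (nat_lit 1937) (.leaf [nat_lit 4, nat_lit 3, nat_lit 1, nat_lit 6, nat_lit 0]) (.leaf [nat_lit 1, nat_lit 6, nat_lit 3, nat_lit 4, nat_lit 2])) (.node (nat_lit 1939) (.leaf [nat_lit 6, nat_lit 3, nat_lit 0, nat_lit 4, nat_lit 2, nat_lit 1]) (.leaf [nat_lit 4, nat_lit 3, nat_lit 6, nat_lit 2, nat_lit 1])))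
 (.node (nat_lit 1942) (.node (nat_lit 1941) (.leaf [nat_lit 1, nat_lit 6, nat_lit 4, nat_lit 2, nat_lit 0]) (.leaf [nat_lit 0, nat_lit 6, nat_lit 2, nat_lit 4, nat_lit 2, nat_lit 1])) (.node (nat_lit 1943) (.leaf [nat_lit 3, nat_lit 6, nat_lit 1, nat_lit 4, nat_lit 3]) (.leaf [nat_lit 0, nat_lit 6, nat_lit 0, nat_lit 4, nat_lit 3, nat_lit 1, nat_lit 0]))))
 (.node (nat_lit 1948) (.node (nat_lit 1946) (.node (nat_lit 1945) (.leaf [nat_lit 4, nat_lit 3, nat_lit 6, nat_lit 3, nat_lit 1, nat_lit 0]) (.leaf [nat_lit 6, nat_lit 3, nat_lit 2, nat_lit 4, nat_lit 3, nat_lit 1, nat_lit 0])) (.node (nat_lit 1947) (.leaf [nat_lit 2, nat_lit 6, nat_lit 0, nat_lit 4, nat_lit 3, nat_lit 2, nat_lit 1]) (.leaf [nat_lit 3, nat_lit 6, nat_lit 4, nat_lit 3, nat_lit 2, nat_lit 1, nat_lit 0])))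
 (.node (nat_lit 1950) (.node (nat_lit 1949) (.leaf [nat_lit 4, nat_lit 3, nat_lit 1, nat_lit 6, nat_lit 2, nat_lit 0]) (.leaf [nat_lit 2, nat_lit 6, nat_lit 0, nat_lit 4, nat_lit 2, nat_lit 1])) (.node (nat_lit 1951) (.leaf [nat_lit 3, nat_lit 6, nat_lit 4, nat_lit 2, nat_lit 1, nat_lit 0]) (.leaf [nat_lit 0, nat_lit 6, nat_lit 0, nat_lit 4, nat_lit 1, nat_lit 0]))))))
 (.node (nat_lit 1968) (.node (nat_lit 1960) (.node (nat_lit 1956) (.node (nat_lit 1954) (.node (nat_lit 1953) (.leaf [nat_lit 1, nat_lit 6, nat_lit 4, nat_lit 3, nat_lit 2, nat_lit 0]) (.leaf [nat_lit 3, nat_lit 6, nat_lit 4, nat_lit 3, nat_lit 2, nat_lit 1])) (.node (nat_lit 1955) (.leaf [nat_lit 0, nat_lit 6, nat_lit 0, nat_lit 4, nat_lit 3, nat_lit 1]) (.leaf [nat_lit 6, nat_lit 2, nat_lit 0, nat_lit 4, nat_lit 1])))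
 (.node (nat_lit 1958) (.node (nat_lit 1957) (.leaf [nat_lit 6, nat_lit 0, nat_lit 4, nat_lit 3, nat_lit 1]) (.leaf [nat_lit 6, nat_lit 3, nat_lit 0, nat_lit 4, nat_lit 3, nat_lit 2, nat_lit 1])) (.node (nat_lit 1959) (.leaf [nat_lit 0, nat_lit 6, nat_lit 2, nat_lit 4, nat_lit 3, nat_lit 2, nat_lit 1, nat_lit 0]) (.leaf [nat_lit 3, nat_lit 6, nat_lit 1, nat_lit 4, nat_lit 3, nat_lit 2, nat_lit 0]))))
 (.node (nat_lit 1964) (.node (nat_lit 1962) (.node (nat_lit 1961) (.leaf [nat_lit 2, nat_lit 6, nat_lit 1, nat_lit 4, nat_lit 0]) (.leaf [nat_lit 4, nat_lit 3, nat_lit 1, nat_lit 6, nat_lit 3, nat_lit 2])) (.node (nat_lit 1963) (.leaf [nat_lit 1, nat_lit 6, nat_lit 1, nat_lit 4, nat_lit 2, nat_lit 1, nat_lit 0]) (.leaf [nat_lit 1, nat_lit 6, nat_lit 1, nat_lit 4, nat_lit 1])))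
 (.node (nat_lit 1966) (.node (nat_lit 1965) (.leaf [nat_lit 1, nat_lit 0, nat_lit 6, nat_lit 4, nat_lit 3, nat_lit 2]) (.leaf [nat_lit 6, nat_lit 2, nat_lit 4, nat_lit 3, nat_lit 2, nat_lit 1, nat_lit 0])) (.node (nat_lit 1967) (.leaf [nat_lit 6, nat_lit 0, nat_lit 4, nat_lit 1]) (.leaf [nat_lit 4, nat_lit 3, nat_lit 1, nat_lit 6, nat_lit 2])))))
 (.node (nat_lit 1976) (.node (nat_lit 1972) (.node (nat_lit 1970) (.node (nat_lit 1969) (.leaf [nat_lit 3, nat_lit 4, nat_lit 3, nat_lit 6, nat_lit 3, nat_lit 1, nat_lit 0]) (.leaf [nat_lit 2, nat_lit 6, nat_lit 1, nat_lit 4, nat_lit 2, nat_lit 0])) (.node (nat_lit 1971) (.leaf [nat_lit 6, nat_lit 3, nat_lit 4, nat_lit 3, nat_lit 1, nat_lit 0]) (.leaf [nat_lit 2, nat_lit 6, nat_lit 1, nat_lit 4, nat_lit 3, nat_lit 2])))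
 (.node (nat_lit 1974) (.node (nat_lit 1973) (.leaf [nat_lit 1, nat_lit 6, nat_lit 1, nat_lit 4, nat_lit 3, nat_lit 1]) (.leaf [nat_lit 6, nat_lit 2, nat_lit 4, nat_lit 2, nat_lit 1, nat_lit 0])) (.node (nat_lit 1975) (.leaf [nat_lit 6, nat_lit 3, nat_lit 0, nat_lit 4, nat_lit 3, nat_lit 2, nat_lit 1, nat_lit 0]) (.leaf [nat_lit 1, nat_lit 0, nat_lit 6, nat_lit 4, nat_lit 2, nat_lit 0]))))
 (.node (nat_lit 1980) (.node (nat_lit 1978) (.node (nat_lit 1977) (.leaf [nat_lit 1, nat_lit 6, nat_lit 2, nat_lit 4, nat_lit 3, nat_lit 2, nat_lit 0]) (.leaf [nat_lit 0, nat_lit 6, nat_lit 2, nat_lit 4, nat_lit 3, nat_lit 2, nat_lit 1])) (.node (nat_lit 1979) (.leaf [nat_lit 1, nat_lit 6, nat_lit 3, nat_lit 4, nat_lit 0]) (.leaf [nat_lit 1, nat_lit 6, nat_lit 1, nat_lit 4, nat_lit 1, nat_lit 0])))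
 (.node (nat_lit 1982) (.node (nat_lit 1981) (.leaf [nat_lit 0, nat_lit 6, nat_lit 1, nat_lit 4, nat_lit 2]) (.leaf [nat_lit 6, nat_lit 1, nat_lit 4, nat_lit 3])) (.node (nat_lit 1983) (.leaf [nat_lit 1, nat_lit 6, nat_lit 2, nat_lit 4, nat_lit 2, nat_lit 0]) (.leaf [nat_lit 2, nat_lit 6, nat_lit 4, nat_lit 3, nat_lit 1, nat_lit 0])))))))
 (.node (nat_lit 2016) (.node (nat_lit 2000) (.node (nat_lit 1992) (.node (nat_lit 1988) (.node (nat_lit 1986) (.node (nat_lit 1985) (.leaf [nat_lit 3, nat_lit 6, nat_lit 0, nat_lit 4, nat_lit 3, nat_lit 1]) (.leaf [nat_lit 0, nat_lit 6, nat_lit 4, nat_lit 3, nat_lit 2, nat_lit 1])) (.node (nat_lit 1987) (.leaf [nat_lit 1, nat_lit 6, nat_lit 0, nat_lit 4]) (.leaf [nat_lit 2, nat_lit 1, nat_lit 6, nat_lit 4, nat_lit 0])))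
 (.node (nat_lit 1990) (.node (nat_lit 1989) (.leaf [nat_lit 2, nat_lit 1, nat_lit 6, nat_lit 4, nat_lit 3, nat_lit 0]) (.leaf [nat_lit 1, nat_lit 0, nat_lit 6, nat_lit 4, nat_lit 2])) (.node (nat_lit 1991) (.leaf [nat_lit 6, nat_lit 4, nat_lit 2, nat_lit 1, nat_lit 0]) (.leaf [nat_lit 1, nat_lit 0, nat_lit 6, nat_lit 2, nat_lit 4, nat_lit 3, nat_lit 2, nat_lit 0]))))
 (.node (nat_lit 1996) (.node (nat_lit 1994) (.node (nat_lit 1993) (.leaf [nat_lit 2, nat_lit 6, nat_lit 4, nat_lit 2, nat_lit 1]) (.leaf [nat_lit 1, nat_lit 0, nat_lit 6, nat_lit 2, nat_lit 4, nat_lit 2])) (.node (nat_lit 1995) (.leaf [nat_lit 3, nat_lit 4, nat_lit 3, nat_lit 6, nat_lit 1, nat_lit 0]) (.leaf [nat_lit 6, nat_lit 2, nat_lit 0, nat_lit 4, nat_lit 1, nat_lit 0])))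
 (.node (nat_lit 1998) (.node (nat_lit 1997) (.leaf [nat_lit 6, nat_lit 3, nat_lit 4, nat_lit 1]) (.leaf [nat_lit 6, nat_lit 1, nat_lit 4])) (.node (nat_lit 1999) (.leaf [nat_lit 2, nat_lit 1, nat_lit 6, nat_lit 4]) (.leaf [nat_lit 0, nat_lit 6, nat_lit 1, nat_lit 4, nat_lit 3, nat_lit 0])))))
 (.node (nat_lit 2008) (.node (nat_lit 2004) (.node (nat_lit 2002) (.node (nat_lit 2001) (.leaf [nat_lit 3, nat_lit 4, nat_lit 3, nat_lit 6, nat_lit 3, nat_lit 1]) (.leaf [nat_lit 0, nat_lit 6, nat_lit 4, nat_lit 2, nat_lit 1])) (.node (nat_lit 2003) (.leaf [nat_lit 3, nat_lit 1, nat_lit 6, nat_lit 4, nat_lit 3, nat_lit 2]) (.leaf [nat_lit 6, nat_lit 0, nat_lit 4, nat_lit 3, nat_lit 2, nat_lit 1, nat_lit 0])))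
 (.node (nat_lit 2006) (.node (nat_lit 2005) (.leaf [nat_lit 3, nat_lit 6, nat_lit 1, nat_lit 4, nat_lit 3, nat_lit 0]) (.leaf [nat_lit 6, nat_lit 1, nat_lit 4, nat_lit 2, nat_lit 0])) (.node (nat_lit 2007) (.leaf [nat_lit 6, nat_lit 3, nat_lit 0, nat_lit 4, nat_lit 3, nat_lit 1, nat_lit 0]) (.leaf [nat_lit 2, nat_lit 6, nat_lit 0, nat_lit 4, nat_lit 3, nat_lit 2, nat_lit 1, nat_lit 0]))))
 (.node (nat_lit 2012) (.node (nat_lit 2010) (.node (nat_lit 2009) (.leaf [nat_lit 0, nat_lit 6, nat_lit 1, nat_lit 4]) (.leaf [nat_lit 6, nat_lit 3, nat_lit 2, nat_lit 4, nat_lit 1, nat_lit 0])) (.node (nat_lit 2011) (.leaf [nat_lit 1, nat_lit 0, nat_lit 6, nat_lit 4, nat_lit 0]) (.leaf [nat_lit 6, nat_lit 2, nat_lit 4, nat_lit 3, nat_lit 2, nat_lit 1])))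
 (.node (nat_lit 2014) (.node (nat_lit 2013) (.leaf [nat_lit 6, nat_lit 2, nat_lit 0, nat_lit 4, nat_lit 3, nat_lit 1]) (.leaf [nat_lit 6, nat_lit 4, nat_lit 3, nat_lit 2, nat_lit 1, nat_lit 0])) (.node (nat_lit 2015) (.leaf [nat_lit 6, nat_lit 0, nat_lit 4, nat_lit 3, nat_lit 1, nat_lit 0]) (.leaf [nat_lit 1, nat_lit 6, nat_lit 0, nat_lit 4, nat_lit 3, nat_lit 2, nat_lit 0]))))))
 (.node (nat_lit 2032) (.node (nat_lit 2024) (.node (nat_lit 2020) (.node (nat_lit 2018) (.node (nat_lit 2017) (.leaf [nat_lit 6, nat_lit 4, nat_lit 2, nat_lit 1]) (.leaf [nat_lit 3, nat_lit 1, nat_lit 6, nat_lit 4, nat_lit 3])) (.node (nat_lit 2019) (.leaf [nat_lit 2, nat_lit 1, nat_lit 6, nat_lit 4, nat_lit 2]) (.leaf [nat_lit 6, nat_lit 3, nat_lit 2, nat_lit 4, nat_lit 3, nat_lit 1])))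
 (.node (nat_lit 2022) (.node (nat_lit 2021) (.leaf [nat_lit 2, nat_lit 6, nat_lit 4, nat_lit 1, nat_lit 0]) (.leaf [nat_lit 3, nat_lit 6, nat_lit 0, nat_lit 4, nat_lit 1])) (.node (nat_lit 2023) (.leaf [nat_lit 3, nat_lit 6, nat_lit 0, nat_lit 4, nat_lit 2, nat_lit 1, nat_lit 0]) (.leaf [nat_lit 1, nat_lit 6, nat_lit 0, nat_lit 4, nat_lit 3, nat_lit 0]))))
 (.node (nat_lit 2028) (.node (nat_lit 2026) (.node (nat_lit 2025) (.leaf [nat_lit 3, nat_lit 6, nat_lit 1, nat_lit 4]) (.leaf [nat_lit 4, nat_lit 2, nat_lit 6, nat_lit 3, nat_lit 2, nat_lit 1, nat_lit 0])) (.node (nat_lit 2027) (.leaf [nat_lit 6, nat_lit 3, nat_lit 1, nat_lit 4, nat_lit 3, nat_lit 2]) (.leaf [nat_lit 4, nat_lit 3, nat_lit 6, nat_lit 1, nat_lit 0])))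
 (.node (nat_lit 2030) (.node (nat_lit 2029) (.leaf [nat_lit 6, nat_lit 1, nat_lit 4, nat_lit 0]) (.leaf [nat_lit 0, nat_lit 6, nat_lit 4, nat_lit 2, nat_lit 1, nat_lit 0])) (.node (nat_lit 2031) (.leaf [nat_lit 6, nat_lit 3, nat_lit 1, nat_lit 4, nat_lit 2, nat_lit 0]) (.leaf [nat_lit 4, nat_lit 2, nat_lit 6, nat_lit 3, nat_lit 2, nat_lit 1])))))
 (.node (nat_lit 2040) (.node (nat_lit 2036) (.node (nat_lit 2034) (.node (nat_lit 2033) (.leaf [nat_lit 0, nat_lit 6, nat_lit 1, nat_lit 4, nat_lit 0]) (.leaf [nat_lit 3, nat_lit 6, nat_lit 0, nat_lit 4, nat_lit 1, nat_lit 0])) (.node (nat_lit 2035) (.leaf [nat_lit 0, nat_lit 6, nat_lit 0, nat_lit 4, nat_lit 3, nat_lit 2, nat_lit 1]) (.leaf [nat_lit 1, nat_lit 6, nat_lit 3, nat_lit 4])))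
 (.node (nat_lit 2038) (.node (nat_lit 2037) (.leaf [nat_lit 1, nat_lit 6, nat_lit 2, nat_lit 4, nat_lit 3, nat_lit 2]) (.leaf [nat_lit 1, nat_lit 6, nat_lit 3, nat_lit 4, nat_lit 3, nat_lit 0])) (.node (nat_lit 2039) (.leaf [nat_lit 1, nat_lit 6, nat_lit 4]) (.leaf [nat_lit 4, nat_lit 3, nat_lit 6, nat_lit 1]))))
 (.node (nat_lit 2044) (.node (nat_lit 2042) (.node (nat_lit 2041) (.leaf [nat_lit 1, nat_lit 6, nat_lit 4, nat_lit 2]) (.leaf [nat_lit 6, nat_lit 2, nat_lit 0, nat_lit 4, nat_lit 2, nat_lit 1, nat_lit 0])) (.node (nat_lit 2043) (.leaf [nat_lit 2, nat_lit 6, nat_lit 0, nat_lit 4, nat_lit 3, nat_lit 1, nat_lit 0]) (.leaf [nat_lit 2, nat_lit 6, nat_lit 4, nat_lit 1])))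
 (.node (nat_lit 2046) (.node (nat_lit 2045) (.leaf [nat_lit 2, nat_lit 6, nat_lit 1, nat_lit 4, nat_lit 2]) (.leaf [nat_lit 6, nat_lit 3, nat_lit 4, nat_lit 1, nat_lit 0])) (.node (nat_lit 2047) (.leaf [nat_lit 0, nat_lit 6, nat_lit 4, nat_lit 1, nat_lit 0]) (.leaf [nat_lit 3, nat_lit 6, nat_lit 4, nat_lit 3, nat_lit 1])))))))))
noncomputable def bWT_8 : Tr (List ℕ) := (.node (nat_lit 2176) (.node (nat_lit 2112) (.node (nat_lit 2080) (.node (nat_lit 2064) (.node (nat_lit 2056) (.node (nat_lit 2052) (.node (nat_lit 2050) (.node (nat_lit 2049) (.leaf [nat_lit 6, nat_lit 3, nat_lit 2, nat_lit 4, nat_lit 3, nat_lit 2, nat_lit 1]) (.leaf [nat_lit 6, nat_lit 4, nat_lit 1])) (.node (nat_lit 2051) (.leaf [nat_lit 6, nat_lit 4, nat_lit 5, nat_lit 3, nat_lit 2, nat_lit 0]) (.leaf [nat_lit 5, nat_lit 4, nat_lit 2, nat_lit 4, nat_lit 2, nat_lit 0])))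
 (.node (nat_lit 2054) (.node (nat_lit 2053) (.leaf [nat_lit 2, nat_lit 5, nat_lit 6, nat_lit 4, nat_lit 3, nat_lit 0]) (.leaf [nat_lit 0, nat_lit 5, nat_lit 2, nat_lit 5, nat_lit 1])) (.node (nat_lit 2055) (.leaf [nat_lit 0, nat_lit 5, nat_lit 6, nat_lit 4, nat_lit 3, nat_lit 2]) (.leaf [nat_lit 3, nat_lit 1, nat_lit 0, nat_lit 6, nat_lit 3, nat_lit 2, nat_lit 1, nat_lit 0]))))
 (.node (nat_lit 2060) (.node (nat_lit 2058) (.node (nat_lit 2057) (.leaf [nat_lit 5, nat_lit 0, nat_lit 6, nat_lit 0, nat_lit 4, nat_lit 3, nat_lit 2, nat_lit 0]) (.leaf [nat_lit 0, nat_lit 4, nat_lit 3, nat_lit 0, nat_lit 4])) (.node (nat_lit 2059) (.leaf [nat_lit 1, nat_lit 4, nat_lit 2, nat_lit 0, nat_lit 4, nat_lit 2, nat_lit 0]) (.leaf [nat_lit 4, nat_lit 5, nat_lit 0, nat_lit 4, nat_lit 3, nat_lit 2, nat_lit 0])))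
 (.node (nat_lit 2062) (.node (nat_lit 2061) (.leaf [nat_lit 4, nat_lit 2, nat_lit 6, nat_lit 4]) (.leaf [nat_lit 4, nat_lit 5, nat_lit 2, nat_lit 4, nat_lit 2, nat_lit 0])) (.node (nat_lit 2063) (.leaf [nat_lit 4, nat_lit 2, nat_lit 6, nat_lit 4, nat_lit 3, nat_lit 0]) (.leaf [nat_lit 3, nat_lit 1, nat_lit 0, nat_lit 4, nat_lit 2, nat_lit 1, nat_lit 0])))))
 (.node (nat_lit 2072) (.node (nat_lit 2068) (.node (nat_lit 2066) (.node (nat_lit 2065) (.leaf [nat_lit 1, nat_lit 4, nat_lit 2, nat_lit 0, nat_lit 4, nat_lit 3]) (.leaf [nat_lit 0, nat_lit 5, nat_lit 2, nat_lit 0])) (.node (nat_lit 2067) (.leaf [nat_lit 4, nat_lit 2, nat_lit 6, nat_lit 5, nat_lit 3, nat_lit 0]) (.leaf [nat_lit 4, nat_lit 2, nat_lit 6, nat_lit 4, nat_lit 3, nat_lit 2])))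
 (.node (nat_lit 2070) (.node (nat_lit 2069) (.leaf [nat_lit 6, nat_lit 0, nat_lit 6, nat_lit 2, nat_lit 4, nat_lit 3, nat_lit 2]) (.leaf [nat_lit 6, nat_lit 1, nat_lit 0, nat_lit 6])) (.node (nat_lit 2071) (.leaf [nat_lit 5, nat_lit 2]) (.leaf [nat_lit 5, nat_lit 1, nat_lit 5, nat_lit 3]))))
 (.node (nat_lit 2076) (.node (nat_lit 2074) (.node (nat_lit 2073) (.leaf [nat_lit 0, nat_lit 5, nat_lit 4, nat_lit 5, nat_lit 2, nat_lit 0]) (.leaf [nat_lit 4, nat_lit 2, nat_lit 5, nat_lit 4])) (.node (nat_lit 2075) (.leaf [nat_lit 5, nat_lit 6, nat_lit 2, nat_lit 5, nat_lit 3, nat_lit 2]) (.leaf [nat_lit 2, nat_lit 5, nat_lit 6, nat_lit 4, nat_lit 2])))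
 (.node (nat_lit 2078) (.node (nat_lit 2077) (.leaf [nat_lit 0, nat_lit 5, nat_lit 3, nat_lit 5, nat_lit 1, nat_lit 0]) (.leaf [nat_lit 3, nat_lit 1, nat_lit 5, nat_lit 1, nat_lit 0])) (.node (nat_lit 2079) (.leaf [nat_lit 3, nat_lit 4, nat_lit 0, nat_lit 4, nat_lit 2, nat_lit 1]) (.leaf [nat_lit 1, nat_lit 5, nat_lit 3, nat_lit 2, nat_lit 1]))))))
 (.node (nat_lit 2096) (.node (nat_lit 2088) (.node (nat_lit 2084) (.node (nat_lit 2082) (.node (nat_lit 2081) (.leaf [nat_lit 1, nat_lit 4, nat_lit 2, nat_lit 4, nat_lit 2]) (.leaf [nat_lit 1, nat_lit 5, nat_lit 3, nat_lit 1, nat_lit 0])) (.node (nat_lit 2083) (.leaf [nat_lit 2, nat_lit 1, nat_lit 0]) (.leaf [nat_lit 6, nat_lit 4, nat_lit 1, nat_lit 5, nat_lit 3, nat_lit 2, nat_lit 1, nat_lit 0])))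
 (.node (nat_lit 2086) (.node (nat_lit 2085) (.leaf [nat_lit 2, nat_lit 1, nat_lit 6, nat_lit 1]) (.leaf [nat_lit 2, nat_lit 1, nat_lit 6, nat_lit 2, nat_lit 1, nat_lit 0])) (.node (nat_lit 2087) (.leaf [nat_lit 0, nat_lit 6, nat_lit 2, nat_lit 6, nat_lit 2, nat_lit 1, nat_lit 0]) (.leaf [nat_lit 4, nat_lit 3, nat_lit 0, nat_lit 4, nat_lit 3, nat_lit 1, nat_lit 0]))))
 (.node (nat_lit 2092) (.node (nat_lit 2090) (.node (nat_lit 2089) (.leaf [nat_lit 4, nat_lit 2, nat_lit 5, nat_lit 4, nat_lit 3]) (.leaf [nat_lit 4, nat_lit 3, nat_lit 2, nat_lit 4, nat_lit 1, nat_lit 0])) (.node (nat_lit 2091) (.leaf [nat_lit 2, nat_lit 1, nat_lit 0, nat_lit 6, nat_lit 3, nat_lit 1]) (.leaf [nat_lit 0, nat_lit 4, nat_lit 2, nat_lit 0])))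
 (.node (nat_lit 2094) (.node (nat_lit 2093) (.leaf [nat_lit 4, nat_lit 0, nat_lit 4, nat_lit 5]) (.leaf [nat_lit 2, nat_lit 1, nat_lit 0, nat_lit 6, nat_lit 1, nat_lit 0])) (.node (nat_lit 2095) (.leaf [nat_lit 5, nat_lit 1, nat_lit 5, nat_lit 4, nat_lit 1, nat_lit 0]) (.leaf [nat_lit 0, nat_lit 6, nat_lit 2, nat_lit 6, nat_lit 3, nat_lit 1])))))
 (.node (nat_lit 2104) (.node (nat_lit 2100) (.node (nat_lit 2098) (.node (nat_lit 2097) (.leaf [nat_lit 4, nat_lit 5, nat_lit 4, nat_lit 2]) (.leaf [nat_lit 1, nat_lit 6, nat_lit 0, nat_lit 6, nat_lit 2])) (.node (nat_lit 2099) (.leaf [nat_lit 6, nat_lit 3, nat_lit 6, nat_lit 1]) (.leaf [nat_lit 2, nat_lit 5, nat_lit 4, nat_lit 5, nat_lit 3, nat_lit 2, nat_lit 0])))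
 (.node (nat_lit 2102) (.node (nat_lit 2101) (.leaf [nat_lit 4, nat_lit 3, nat_lit 5, nat_lit 4, nat_lit 3, nat_lit 2]) (.leaf [nat_lit 5, nat_lit 1, nat_lit 5, nat_lit 4, nat_lit 3, nat_lit 2, nat_lit 1])) (.node (nat_lit 2103) (.leaf [nat_lit 6, nat_lit 0, nat_lit 5, nat_lit 4, nat_lit 0]) (.leaf [nat_lit 3, nat_lit 1]))))
 (.node (nat_lit 2108) (.node (nat_lit 2106) (.node (nat_lit 2105) (.leaf [nat_lit 4, nat_lit 0, nat_lit 5, nat_lit 4, nat_lit 2, nat_lit 0]) (.leaf [nat_lit 1, nat_lit 6, nat_lit 5, nat_lit 4, nat_lit 3, nat_lit 2, nat_lit 1])) (.node (nat_lit 2107) (.leaf [nat_lit 5, nat_lit 1, nat_lit 0, nat_lit 5, nat_lit 0]) (.leaf [nat_lit 4, nat_lit 2, nat_lit 5, nat_lit 4, nat_lit 2, nat_lit 0])))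
 (.node (nat_lit 2110) (.node (nat_lit 2109) (.leaf [nat_lit 0, nat_lit 4, nat_lit 3, nat_lit 0, nat_lit 4, nat_lit 3, nat_lit 1]) (.leaf [nat_lit 2, nat_lit 6, nat_lit 4, nat_lit 5, nat_lit 3, nat_lit 0])) (.node (nat_lit 2111) (.leaf [nat_lit 0, nat_lit 5, nat_lit 3, nat_lit 5, nat_lit 3, nat_lit 2, nat_lit 1]) (.leaf [nat_lit 5, nat_lit 6, nat_lit 0, nat_lit 4, nat_lit 0])))))))
 (.node (nat_lit 2144) (.node (nat_lit 2128) (.node (nat_lit 2120) (.node (nat_lit 2116) (.node (nat_lit 2114) (.node (nat_lit 2113) (.leaf [nat_lit 5, nat_lit 2, nat_lit 6, nat_lit 5, nat_lit 3, nat_lit 0]) (.leaf [nat_lit 5, nat_lit 2, nat_lit 6, nat_lit 5, nat_lit 3, nat_lit 2])) (.node (nat_lit 2115) (.leaf [nat_lit 5, nat_lit 6, nat_lit 0, nat_lit 4, nat_lit 3, nat_lit 2]) (.leaf [nat_lit 4, nat_lit 1, nat_lit 4, nat_lit 2, nat_lit 0])))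
 (.node (nat_lit 2118) (.node (nat_lit 2117) (.leaf [nat_lit 4, nat_lit 2, nat_lit 4, nat_lit 2, nat_lit 1]) (.leaf [nat_lit 1, nat_lit 5, nat_lit 1, nat_lit 0])) (.node (nat_lit 2119) (.leaf [nat_lit 4, nat_lit 0, nat_lit 4, nat_lit 3, nat_lit 2, nat_lit 1]) (.leaf [nat_lit 2, nat_lit 0, nat_lit 6, nat_lit 0]))))
 (.node (nat_lit 2124) (.node (nat_lit 2122) (.node (nat_lit 2121) (.leaf [nat_lit 3, nat_lit 2, nat_lit 4, nat_lit 3]) (.leaf [nat_lit 4, nat_lit 2, nat_lit 5, nat_lit 3, nat_lit 4, nat_lit 3, nat_lit 2, nat_lit 0])) (.node (nat_lit 2123) (.leaf [nat_lit 2, nat_lit 0, nat_lit 6, nat_lit 3]) (.leaf [nat_lit 0, nat_lit 5, nat_lit 4, nat_lit 5, nat_lit 3])))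
 (.node (nat_lit 2126) (.node (nat_lit 2125) (.leaf [nat_lit 4, nat_lit 1, nat_lit 4, nat_lit 3]) (.leaf [nat_lit 4, nat_lit 3, nat_lit 4, nat_lit 5, nat_lit 3, nat_lit 2])) (.node (nat_lit 2127) (.leaf [nat_lit 4, nat_lit 3, nat_lit 4, nat_lit 0, nat_lit 4]) (.leaf [nat_lit 5, nat_lit 6, nat_lit 2, nat_lit 4, nat_lit 2])))))
 (.node (nat_lit 2136) (.node (nat_lit 2132) (.node (nat_lit 2130) (.node (nat_lit 2129) (.leaf [nat_lit 4, nat_lit 3, nat_lit 4, nat_lit 1]) (.leaf [nat_lit 4, nat_lit 0, nat_lit 4, nat_lit 5, nat_lit 2, nat_lit 0])) (.node (nat_lit 2131) (.leaf [nat_lit 6, nat_lit 4, nat_lit 2, nat_lit 6]) (.leaf [nat_lit 5, nat_lit 1, nat_lit 5, nat_lit 2, nat_lit 0])))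
 (.node (nat_lit 2134) (.node (nat_lit 2133) (.leaf [nat_lit 3, nat_lit 4, nat_lit 5, nat_lit 4, nat_lit 3, nat_lit 2]) (.leaf [nat_lit 6, nat_lit 5, nat_lit 2, nat_lit 4, nat_lit 3, nat_lit 0])) (.node (nat_lit 2135) (.leaf [nat_lit 4, nat_lit 5, nat_lit 4, nat_lit 0]) (.leaf [nat_lit 5, nat_lit 3, nat_lit 2, nat_lit 5, nat_lit 3, nat_lit 2, nat_lit 1]))))
 (.node (nat_lit 2140) (.node (nat_lit 2138) (.node (nat_lit 2137) (.leaf [nat_lit 3, nat_lit 2, nat_lit 6, nat_lit 2]) (.leaf [nat_lit 3, nat_lit 6, nat_lit 5, nat_lit 4, nat_lit 3])) (.node (nat_lit 2139) (.leaf [nat_lit 6, nat_lit 4, nat_lit 2, nat_lit 4, nat_lit 3, nat_lit 0]) (.leaf [nat_lit 5, nat_lit 1, nat_lit 0, nat_lit 5, nat_lit 3, nat_lit 2])))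
 (.node (nat_lit 2142) (.node (nat_lit 2141) (.leaf [nat_lit 0, nat_lit 5, nat_lit 2, nat_lit 5, nat_lit 2, nat_lit 1, nat_lit 0]) (.leaf [nat_lit 4, nat_lit 3, nat_lit 4, nat_lit 5, nat_lit 2])) (.node (nat_lit 2143) (.leaf [nat_lit 6, nat_lit 2, nat_lit 6, nat_lit 3, nat_lit 1, nat_lit 0]) (.leaf [nat_lit 5, nat_lit 6, nat_lit 3, nat_lit 5, nat_lit 3, nat_lit 2]))))))
 (.node (nat_lit 2160) (.node (nat_lit 2152) (.node (nat_lit 2148) (.node (nat_lit 2146) (.node (nat_lit 2145) (.leaf [nat_lit 5, nat_lit 0, nat_lit 5, nat_lit 0, nat_lit 4, nat_lit 2]) (.leaf [nat_lit 5, nat_lit 0])) (.node (nat_lit 2147) (.leaf [nat_lit 5, nat_lit 6, nat_lit 3, nat_lit 5, nat_lit 2, nat_lit 0]) (.leaf [nat_lit 4, nat_lit 5, nat_lit 0, nat_lit 5, nat_lit 3])))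
 (.node (nat_lit 2150) (.node (nat_lit 2149) (.leaf [nat_lit 2, nat_lit 6, nat_lit 4, nat_lit 2, nat_lit 4, nat_lit 3]) (.leaf [nat_lit 1, nat_lit 4, nat_lit 2, nat_lit 0, nat_lit 4, nat_lit 3, nat_lit 2, nat_lit 0])) (.node (nat_lit 2151) (.leaf [nat_lit 5, nat_lit 4, nat_lit 0, nat_lit 5, nat_lit 3]) (.leaf [nat_lit 6, nat_lit 5, nat_lit 2, nat_lit 4, nat_lit 2]))))
 (.node (nat_lit 2156) (.node (nat_lit 2154) (.node (nat_lit 2153) (.leaf [nat_lit 4, nat_lit 1, nat_lit 4, nat_lit 3, nat_lit 2, nat_lit 0]) (.leaf [nat_lit 4, nat_lit 5, nat_lit 2, nat_lit 4])) (.node (nat_lit 2155) (.leaf [nat_lit 3, nat_lit 5, nat_lit 4, nat_lit 5, nat_lit 3, nat_lit 2]) (.leaf [nat_lit 4, nat_lit 3, nat_lit 6, nat_lit 1, nat_lit 4, nat_lit 2, nat_lit 1, nat_lit 0])))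
 (.node (nat_lit 2158) (.node (nat_lit 2157) (.leaf [nat_lit 5, nat_lit 6, nat_lit 2, nat_lit 4, nat_lit 3, nat_lit 0]) (.leaf [nat_lit 0, nat_lit 5])) (.node (nat_lit 2159) (.leaf [nat_lit 5, nat_lit 3, nat_lit 5, nat_lit 3, nat_lit 1]) (.leaf [nat_lit 6, nat_lit 4, nat_lit 0, nat_lit 5, nat_lit 0])))))
 (.node (nat_lit 2168) (.node (nat_lit 2164) (.node (nat_lit 2162) (.node (nat_lit 2161) (.leaf [nat_lit 5, nat_lit 1, nat_lit 6, nat_lit 5, nat_lit 3, nat_lit 2, nat_lit 1]) (.leaf [nat_lit 3, nat_lit 1, nat_lit 6, nat_lit 3, nat_lit 2, nat_lit 1])) (.node (nat_lit 2163) (.leaf [nat_lit 3, nat_lit 1, nat_lit 6, nat_lit 3, nat_lit 1, nat_lit 0]) (.leaf [nat_lit 6, nat_lit 4, nat_lit 0, nat_lit 5, nat_lit 3, nat_lit 2])))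
 (.node (nat_lit 2166) (.node (nat_lit 2165) (.leaf [nat_lit 6, nat_lit 3, nat_lit 6, nat_lit 3, nat_lit 1]) (.leaf [nat_lit 1])) (.node (nat_lit 2167) (.leaf [nat_lit 3, nat_lit 0, nat_lit 5, nat_lit 2, nat_lit 0]) (.leaf [nat_lit 4, nat_lit 2, nat_lit 0, nat_lit 4, nat_lit 3, nat_lit 1]))))
 (.node (nat_lit 2172) (.node (nat_lit 2170) (.node (nat_lit 2169) (.leaf [nat_lit 6, nat_lit 5, nat_lit 3, nat_lit 5, nat_lit 3, nat_lit 2]) (.leaf [nat_lit 5, nat_lit 4, nat_lit 5, nat_lit 2])) (.node (nat_lit 2171) (.leaf [nat_lit 6, nat_lit 5, nat_lit 6, nat_lit 0]) (.leaf [nat_lit 6, nat_lit 5, nat_lit 3, nat_lit 5, nat_lit 2, nat_lit 0])))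
 (.node (nat_lit 2174) (.node (nat_lit 2173) (.leaf [nat_lit 3, nat_lit 2, nat_lit 0, nat_lit 4, nat_lit 2]) (.leaf [nat_lit 6, nat_lit 5, nat_lit 3, nat_lit 5])) (.node (nat_lit 2175) (.leaf [nat_lit 5, nat_lit 4, nat_lit 3, nat_lit 5, nat_lit 0]) (.leaf [nat_lit 4, nat_lit 2, nat_lit 5, nat_lit 3, nat_lit 4, nat_lit 3]))))))))
 (.node (nat_lit 2240) (.node (nat_lit 2208) (.node (nat_lit 2192) (.node (nat_lit 2184) (.node (nat_lit 2180) (.node (nat_lit 2178) (.node (nat_lit 2177) (.leaf [nat_lit 4, nat_lit 5, nat_lit 0, nat_lit 5, nat_lit 2, nat_lit 0]) (.leaf [nat_lit 1, nat_lit 6, nat_lit 0, nat_lit 6, nat_lit 3, nat_lit 0])) (.node (nat_lit 2179) (.leaf [nat_lit 5, nat_lit 4, nat_lit 3, nat_lit 4, nat_lit 3, nat_lit 2]) (.leaf [nat_lit 4, nat_lit 0, nat_lit 6, nat_lit 5, nat_lit 3, nat_lit 2])))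
 (.node (nat_lit 2182) (.node (nat_lit 2181) (.leaf [nat_lit 4, nat_lit 3, nat_lit 4, nat_lit 5, nat_lit 3, nat_lit 0]) (.leaf [nat_lit 5, nat_lit 2, nat_lit 5, nat_lit 2, nat_lit 1])) (.node (nat_lit 2183) (.leaf [nat_lit 5, nat_lit 6, nat_lit 1, nat_lit 4, nat_lit 2, nat_lit 1, nat_lit 0]) (.leaf [nat_lit 6, nat_lit 3, nat_lit 4, nat_lit 0, nat_lit 4, nat_lit 0]))))
 (.node (nat_lit 2188) (.node (nat_lit 2186) (.node (nat_lit 2185) (.leaf [nat_lit 4, nat_lit 2, nat_lit 6, nat_lit 1, nat_lit 4, nat_lit 3, nat_lit 2, nat_lit 1]) (.leaf [nat_lit 4, nat_lit 2, nat_lit 6, nat_lit 1, nat_lit 4, nat_lit 3, nat_lit 1, nat_lit 0])) (.node (nat_lit 2187) (.leaf [nat_lit 5, nat_lit 6, nat_lit 1, nat_lit 4, nat_lit 3, nat_lit 1]) (.leaf [nat_lit 3, nat_lit 4, nat_lit 0, nat_lit 4, nat_lit 3, nat_lit 1, nat_lit 0])))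
 (.node (nat_lit 2190) (.node (nat_lit 2189) (.leaf [nat_lit 6, nat_lit 2, nat_lit 1, nat_lit 6, nat_lit 3, nat_lit 2, nat_lit 0]) (.leaf [nat_lit 4, nat_lit 5, nat_lit 4, nat_lit 3, nat_lit 2])) (.node (nat_lit 2191) (.leaf [nat_lit 5, nat_lit 0, nat_lit 5, nat_lit 3, nat_lit 2, nat_lit 1]) (.leaf [nat_lit 2, nat_lit 6])))))
 (.node (nat_lit 2200) (.node (nat_lit 2196) (.node (nat_lit 2194) (.node (nat_lit 2193) (.leaf [nat_lit 3, nat_lit 1, nat_lit 4, nat_lit 3, nat_lit 1, nat_lit 0]) (.leaf [nat_lit 4, nat_lit 3, nat_lit 5, nat_lit 4, nat_lit 3, nat_lit 0])) (.node (nat_lit 2195) (.leaf [nat_lit 2, nat_lit 6, nat_lit 3, nat_lit 0]) (.leaf [nat_lit 6, nat_lit 4, nat_lit 2, nat_lit 6, nat_lit 3, nat_lit 2, nat_lit 0])))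
 (.node (nat_lit 2198) (.node (nat_lit 2197) (.leaf [nat_lit 2, nat_lit 1, nat_lit 0, nat_lit 4, nat_lit 3, nat_lit 1, nat_lit 0]) (.leaf [nat_lit 6, nat_lit 5, nat_lit 4])) (.node (nat_lit 2199) (.leaf [nat_lit 5, nat_lit 0, nat_lit 5, nat_lit 4, nat_lit 2, nat_lit 0]) (.leaf [nat_lit 6, nat_lit 1, nat_lit 0, nat_lit 6, nat_lit 3, nat_lit 2, nat_lit 0]))))
 (.node (nat_lit 2204) (.node (nat_lit 2202) (.node (nat_lit 2201) (.leaf [nat_lit 1, nat_lit 4, nat_lit 5, nat_lit 4, nat_lit 3, nat_lit 1, nat_lit 0]) (.leaf [nat_lit 6, nat_lit 0, nat_lit 6, nat_lit 3, nat_lit 1, nat_lit 0])) (.node (nat_lit 2203) (.leaf [nat_lit 6, nat_lit 5, nat_lit 1, nat_lit 4, nat_lit 2, nat_lit 1, nat_lit 0]) (.leaf [nat_lit 1, nat_lit 0, nat_lit 6, nat_lit 1])))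
 (.node (nat_lit 2206) (.node (nat_lit 2205) (.leaf [nat_lit 4, nat_lit 2, nat_lit 1, nat_lit 4, nat_lit 2]) (.leaf [nat_lit 4, nat_lit 3, nat_lit 4, nat_lit 0, nat_lit 4, nat_lit 3, nat_lit 2, nat_lit 0])) (.node (nat_lit 2207) (.leaf [nat_lit 6, nat_lit 2, nat_lit 5, nat_lit 4, nat_lit 2]) (.leaf [nat_lit 0, nat_lit 4, nat_lit 3, nat_lit 4, nat_lit 1, nat_lit 0]))))))
 (.node (nat_lit 2224) (.node (nat_lit 2216) (.node (nat_lit 2212) (.node (nat_lit 2210) (.node (nat_lit 2209) (.leaf [nat_lit 5, nat_lit 1, nat_lit 6, nat_lit 4, nat_lit 3, nat_lit 2, nat_lit 1]) (.leaf [nat_lit 5, nat_lit 3, nat_lit 5, nat_lit 3, nat_lit 2, nat_lit 1, nat_lit 0])) (.node (nat_lit 2211) (.leaf [nat_lit 6, nat_lit 2, nat_lit 6, nat_lit 0, nat_lit 4, nat_lit 0]) (.leaf [nat_lit 2, nat_lit 0, nat_lit 4, nat_lit 0])))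
 (.node (nat_lit 2214) (.node (nat_lit 2213) (.leaf [nat_lit 0, nat_lit 6, nat_lit 2, nat_lit 6, nat_lit 1]) (.leaf [nat_lit 0, nat_lit 5, nat_lit 1, nat_lit 5, nat_lit 2])) (.node (nat_lit 2215) (.leaf [nat_lit 5, nat_lit 3, nat_lit 5, nat_lit 1]) (.leaf [nat_lit 5, nat_lit 4, nat_lit 5, nat_lit 3, nat_lit 4, nat_lit 1]))))
 (.node (nat_lit 2220) (.node (nat_lit 2218) (.node (nat_lit 2217) (.leaf [nat_lit 6, nat_lit 2, nat_lit 6, nat_lit 3, nat_lit 2, nat_lit 1]) (.leaf [nat_lit 3, nat_lit 0, nat_lit 6, nat_lit 1])) (.node (nat_lit 2219) (.leaf [nat_lit 3, nat_lit 6, nat_lit 1, nat_lit 0]) (.leaf [nat_lit 3, nat_lit 1, nat_lit 0, nat_lit 6])))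
 (.node (nat_lit 2222) (.node (nat_lit 2221) (.leaf [nat_lit 5, nat_lit 6, nat_lit 5, nat_lit 3, nat_lit 1, nat_lit 0]) (.leaf [nat_lit 0, nat_lit 6, nat_lit 3, nat_lit 1])) (.node (nat_lit 2223) (.leaf [nat_lit 3, nat_lit 1, nat_lit 6, nat_lit 3, nat_lit 2, nat_lit 0]) (.leaf [nat_lit 4, nat_lit 2, nat_lit 6, nat_lit 4, nat_lit 1])))))
 (.node (nat_lit 2232) (.node (nat_lit 2228) (.node (nat_lit 2226) (.node (nat_lit 2225) (.leaf [nat_lit 5, nat_lit 6, nat_lit 0, nat_lit 5, nat_lit 1, nat_lit 0]) (.leaf [nat_lit 3, nat_lit 1, nat_lit 6, nat_lit 0])) (.node (nat_lit 2227) (.leaf [nat_lit 3, nat_lit 2, nat_lit 6, nat_lit 2, nat_lit 1, nat_lit 0]) (.leaf [nat_lit 6, nat_lit 3, nat_lit 1, nat_lit 0])))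
 (.node (nat_lit 2230) (.node (nat_lit 2229) (.leaf [nat_lit 5, nat_lit 6, nat_lit 0, nat_lit 5, nat_lit 3, nat_lit 2, nat_lit 1, nat_lit 0]) (.leaf [nat_lit 5, nat_lit 6, nat_lit 0, nat_lit 5, nat_lit 2, nat_lit 1, nat_lit 0])) (.node (nat_lit 2231) (.leaf [nat_lit 1, nat_lit 0, nat_lit 6, nat_lit 3]) (.leaf [nat_lit 6, nat_lit 4, nat_lit 1, nat_lit 4, nat_lit 2, nat_lit 0]))))
 (.node (nat_lit 2236) (.node (nat_lit 2234) (.node (nat_lit 2233) (.leaf [nat_lit 5, nat_lit 2, nat_lit 6, nat_lit 5, nat_lit 1, nat_lit 0]) (.leaf [nat_lit 3, nat_lit 2, nat_lit 6, nat_lit 1, nat_lit 0])) (.node (nat_lit 2235) (.leaf [nat_lit 2, nat_lit 0, nat_lit 6, nat_lit 3, nat_lit 2, nat_lit 1]) (.leaf [nat_lit 2, nat_lit 1, nat_lit 0, nat_lit 6])))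
 (.node (nat_lit 2238) (.node (nat_lit 2237) (.leaf [nat_lit 6, nat_lit 3, nat_lit 4, nat_lit 0, nat_lit 4, nat_lit 3, nat_lit 2, nat_lit 1, nat_lit 0]) (.leaf [nat_lit 2, nat_lit 1, nat_lit 6, nat_lit 3, nat_lit 2, nat_lit 0])) (.node (nat_lit 2239) (.leaf [nat_lit 3, nat_lit 1, nat_lit 0, nat_lit 6, nat_lit 3, nat_lit 2]) (.leaf [nat_lit 3, nat_lit 1, nat_lit 0, nat_lit 6, nat_lit 2])))))))
 (.node (nat_lit 2272) (.node (nat_lit 2256) (.node (nat_lit 2248) (.node (nat_lit 2244) (.node (nat_lit 2242) (.node (nat_lit 2241) (.leaf [nat_lit 4, nat_lit 2, nat_lit 6, nat_lit 4, nat_lit 2, nat_lit 1]) (.leaf [nat_lit 3, nat_lit 6, nat_lit 3, nat_lit 2, nat_lit 1, nat_lit 0])) (.node (nat_lit 2243) (.leaf [nat_lit 6, nat_lit 4, nat_lit 0, nat_lit 4, nat_lit 3, nat_lit 2, nat_lit 1, nat_lit 0]) (.leaf [nat_lit 1, nat_lit 6, nat_lit 2, nat_lit 0])))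
 (.node (nat_lit 2246) (.node (nat_lit 2245) (.leaf [nat_lit 1, nat_lit 6, nat_lit 3]) (.leaf [nat_lit 6, nat_lit 5, nat_lit 2, nat_lit 5, nat_lit 1, nat_lit 0])) (.node (nat_lit 2247) (.leaf [nat_lit 6, nat_lit 5, nat_lit 3, nat_lit 5, nat_lit 3, nat_lit 2, nat_lit 1]) (.leaf [nat_lit 4, nat_lit 0, nat_lit 6, nat_lit 0, nat_lit 4, nat_lit 3, nat_lit 2, nat_lit 1, nat_lit 0]))))
 (.node (nat_lit 2252) (.node (nat_lit 2250) (.node (nat_lit 2249) (.leaf [nat_lit 3, nat_lit 1, nat_lit 0, nat_lit 6, nat_lit 0]) (.leaf [nat_lit 2, nat_lit 0, nat_lit 6, nat_lit 3, nat_lit 1])) (.node (nat_lit 2251) (.leaf [nat_lit 2, nat_lit 6, nat_lit 4, nat_lit 2, nat_lit 4, nat_lit 1]) (.leaf [nat_lit 5, nat_lit 6, nat_lit 2, nat_lit 5, nat_lit 3, nat_lit 2, nat_lit 1, nat_lit 0])))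
 (.node (nat_lit 2254) (.node (nat_lit 2253) (.leaf [nat_lit 5, nat_lit 6, nat_lit 3, nat_lit 5, nat_lit 3, nat_lit 1]) (.leaf [nat_lit 6, nat_lit 4, nat_lit 0, nat_lit 4, nat_lit 1, nat_lit 0])) (.node (nat_lit 2255) (.leaf [nat_lit 1, nat_lit 6, nat_lit 3, nat_lit 0]) (.leaf [nat_lit 3, nat_lit 2, nat_lit 6, nat_lit 3, nat_lit 1, nat_lit 0])))))
 (.node (nat_lit 2264) (.node (nat_lit 2260) (.node (nat_lit 2258) (.node (nat_lit 2257) (.leaf [nat_lit 2, nat_lit 6, nat_lit 3, nat_lit 1, nat_lit 0]) (.leaf [nat_lit 5, nat_lit 1, nat_lit 6, nat_lit 5, nat_lit 3, nat_lit 2, nat_lit 0])) (.node (nat_lit 2259) (.leaf [nat_lit 2, nat_lit 6, nat_lit 3, nat_lit 2, nat_lit 1, nat_lit 0]) (.leaf [nat_lit 6, nat_lit 5, nat_lit 0, nat_lit 5, nat_lit 3, nat_lit 2, nat_lit 1, nat_lit 0])))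
 (.node (nat_lit 2262) (.node (nat_lit 2261) (.leaf [nat_lit 5, nat_lit 6, nat_lit 3, nat_lit 5, nat_lit 3, nat_lit 2, nat_lit 1]) (.leaf [nat_lit 6, nat_lit 4, nat_lit 2, nat_lit 4, nat_lit 2, nat_lit 1])) (.node (nat_lit 2263) (.leaf [nat_lit 2, nat_lit 6, nat_lit 4, nat_lit 2, nat_lit 4, nat_lit 3, nat_lit 2, nat_lit 1]) (.leaf [nat_lit 1, nat_lit 0, nat_lit 6, nat_lit 3, nat_lit 2]))))
 (.node (nat_lit 2268) (.node (nat_lit 2266) (.node (nat_lit 2265) (.leaf [nat_lit 5, nat_lit 6, nat_lit 2, nat_lit 5, nat_lit 1, nat_lit 0]) (.leaf [nat_lit 5, nat_lit 6, nat_lit 3, nat_lit 5, nat_lit 2, nat_lit 1])) (.node (nat_lit 2267) (.leaf [nat_lit 4, nat_lit 2, nat_lit 6, nat_lit 4, nat_lit 3, nat_lit 1]) (.leaf [nat_lit 1, nat_lit 0, nat_lit 6, nat_lit 3, nat_lit 0])))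
 (.node (nat_lit 2270) (.node (nat_lit 2269) (.leaf [nat_lit 4, nat_lit 2, nat_lit 6, nat_lit 1, nat_lit 4, nat_lit 2]) (.leaf [nat_lit 2, nat_lit 6, nat_lit 4, nat_lit 2, nat_lit 4, nat_lit 2, nat_lit 1])) (.node (nat_lit 2271) (.leaf [nat_lit 5, nat_lit 6, nat_lit 2, nat_lit 5, nat_lit 3, nat_lit 1, nat_lit 0]) (.leaf [nat_lit 3, nat_lit 1, nat_lit 6]))))))
 (.node (nat_lit 2288) (.node (nat_lit 2280) (.node (nat_lit 2276) (.node (nat_lit 2274) (.node (nat_lit 2273) (.leaf [nat_lit 6, nat_lit 5, nat_lit 2, nat_lit 5, nat_lit 3, nat_lit 1, nat_lit 0]) (.leaf [nat_lit 2, nat_lit 1, nat_lit 0, nat_lit 6, nat_lit 3, nat_lit 2])) (.node (nat_lit 2275) (.leaf [nat_lit 5, nat_lit 2, nat_lit 5, nat_lit 6, nat_lit 1, nat_lit 0]) (.leaf [nat_lit 3, nat_lit 6, nat_lit 2, nat_lit 1, nat_lit 0])))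
 (.node (nat_lit 2278) (.node (nat_lit 2277) (.leaf [nat_lit 5, nat_lit 2, nat_lit 6, nat_lit 5, nat_lit 3, nat_lit 2, nat_lit 1, nat_lit 0]) (.leaf [nat_lit 4, nat_lit 3, nat_lit 6, nat_lit 1, nat_lit 4, nat_lit 3])) (.node (nat_lit 2279) (.leaf [nat_lit 5, nat_lit 1, nat_lit 6, nat_lit 5, nat_lit 3, nat_lit 2]) (.leaf [nat_lit 5, nat_lit 6, nat_lit 5, nat_lit 3, nat_lit 2, nat_lit 1, nat_lit 0]))))
 (.node (nat_lit 2284) (.node (nat_lit 2282) (.node (nat_lit 2281) (.leaf [nat_lit 6, nat_lit 4, nat_lit 0, nat_lit 4, nat_lit 2, nat_lit 1, nat_lit 0]) (.leaf [nat_lit 4, nat_lit 0, nat_lit 6, nat_lit 0, nat_lit 4, nat_lit 3, nat_lit 1])) (.node (nat_lit 2283) (.leaf [nat_lit 2, nat_lit 1, nat_lit 6, nat_lit 0]) (.leaf [nat_lit 6, nat_lit 4, nat_lit 1, nat_lit 4, nat_lit 0])))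
 (.node (nat_lit 2286) (.node (nat_lit 2285) (.leaf [nat_lit 2, nat_lit 0, nat_lit 6, nat_lit 1]) (.leaf [nat_lit 1, nat_lit 0, nat_lit 6, nat_lit 2])) (.node (nat_lit 2287) (.leaf [nat_lit 6, nat_lit 4, nat_lit 1, nat_lit 4, nat_lit 3, nat_lit 0]) (.leaf [nat_lit 6, nat_lit 5, nat_lit 0, nat_lit 5, nat_lit 1])))))
 (.node (nat_lit 2296) (.node (nat_lit 2292) (.node (nat_lit 2290) (.node (nat_lit 2289) (.leaf [nat_lit 6, nat_lit 2, nat_lit 1, nat_lit 0]) (.leaf [nat_lit 6, nat_lit 5, nat_lit 0, nat_lit 5, nat_lit 2, nat_lit 1, nat_lit 0])) (.node (nat_lit 2291) (.leaf [nat_lit 4, nat_lit 3, nat_lit 6, nat_lit 1, nat_lit 4]) (.leaf [nat_lit 5, nat_lit 6, nat_lit 3, nat_lit 5, nat_lit 3, nat_lit 1, nat_lit 0])))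
 (.node (nat_lit 2294) (.node (nat_lit 2293) (.leaf [nat_lit 5, nat_lit 1, nat_lit 6, nat_lit 5, nat_lit 3, nat_lit 0]) (.leaf [nat_lit 3, nat_lit 0, nat_lit 6, nat_lit 3, nat_lit 2, nat_lit 1])) (.node (nat_lit 2295) (.leaf [nat_lit 4, nat_lit 2, nat_lit 6, nat_lit 4, nat_lit 2, nat_lit 1, nat_lit 0]) (.leaf [nat_lit 3, nat_lit 1, nat_lit 6, nat_lit 2, nat_lit 0]))))
 (.node (nat_lit 2300) (.node (nat_lit 2298) (.node (nat_lit 2297) (.leaf [nat_lit 3, nat_lit 0, nat_lit 6, nat_lit 2, nat_lit 1]) (.leaf [nat_lit 2, nat_lit 6, nat_lit 4, nat_lit 2, nat_lit 4, nat_lit 1, nat_lit 0])) (.node (nat_lit 2299) (.leaf [nat_lit 5, nat_lit 2, nat_lit 6, nat_lit 5, nat_lit 3, nat_lit 1, nat_lit 0]) (.leaf [nat_lit 6, nat_lit 5, nat_lit 3, nat_lit 5, nat_lit 3, nat_lit 1])))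
 (.node (nat_lit 2302) (.node (nat_lit 2301) (.leaf [nat_lit 4, nat_lit 0, nat_lit 6, nat_lit 0, nat_lit 4, nat_lit 3, nat_lit 1, nat_lit 0]) (.leaf [nat_lit 6, nat_lit 3, nat_lit 4, nat_lit 0, nat_lit 4, nat_lit 3, nat_lit 1, nat_lit 0])) (.node (nat_lit 2303) (.leaf [nat_lit 2, nat_lit 6, nat_lit 3, nat_lit 2, nat_lit 1]) (.leaf [nat_lit 6, nat_lit 3, nat_lit 1])))))))))
noncomputable def bWT_9 : Tr (List ℕ) := (.node (nat_lit 2432) (.node (nat_lit 2368) (.node (nat_lit 2336) (.node (nat_lit 2320) (.node (nat_lit 2312) (.node (nat_lit 2308) (.node (nat_lit 2306) (.node (nat_lit 2305) (.leaf [nat_lit 2, nat_lit 1, nat_lit 6, nat_lit 3, nat_lit 2]) (.leaf [nat_lit 3, nat_lit 6, nat_lit 1])) (.node (nat_lit 2307) (.leaf [nat_lit 5, nat_lit 2, nat_lit 5, nat_lit 6, nat_lit 3, nat_lit 1, nat_lit 0]) (.leaf [nat_lit 4, nat_lit 2, nat_lit 6, nat_lit 1, nat_lit 4, nat_lit 3, nat_lit 0])))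
 (.node (nat_lit 2310) (.node (nat_lit 2309) (.leaf [nat_lit 6, nat_lit 5, nat_lit 0, nat_lit 5, nat_lit 1, nat_lit 0]) (.leaf [nat_lit 2, nat_lit 1, nat_lit 0, nat_lit 6, nat_lit 3])) (.node (nat_lit 2311) (.leaf [nat_lit 3, nat_lit 0, nat_lit 6, nat_lit 1, nat_lit 0]) (.leaf [nat_lit 6, nat_lit 4, nat_lit 1, nat_lit 4, nat_lit 2]))))
 (.node (nat_lit 2316) (.node (nat_lit 2314) (.node (nat_lit 2313) (.leaf [nat_lit 0, nat_lit 6, nat_lit 3, nat_lit 2, nat_lit 1]) (.leaf [nat_lit 6, nat_lit 5, nat_lit 2, nat_lit 5, nat_lit 3, nat_lit 2, nat_lit 1, nat_lit 0])) (.node (nat_lit 2315) (.leaf [nat_lit 0, nat_lit 6, nat_lit 2, nat_lit 1]) (.leaf [nat_lit 6, nat_lit 3, nat_lit 2, nat_lit 1, nat_lit 0])))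
 (.node (nat_lit 2318) (.node (nat_lit 2317) (.leaf [nat_lit 5, nat_lit 6, nat_lit 5, nat_lit 2, nat_lit 1, nat_lit 0]) (.leaf [nat_lit 4, nat_lit 2, nat_lit 6, nat_lit 1, nat_lit 4, nat_lit 3, nat_lit 2])) (.node (nat_lit 2319) (.leaf [nat_lit 5, nat_lit 2, nat_lit 5, nat_lit 6, nat_lit 3, nat_lit 2, nat_lit 1, nat_lit 0]) (.leaf [nat_lit 2, nat_lit 6, nat_lit 1, nat_lit 0])))))
 (.node (nat_lit 2328) (.node (nat_lit 2324) (.node (nat_lit 2322) (.node (nat_lit 2321) (.leaf [nat_lit 5, nat_lit 6, nat_lit 2, nat_lit 5, nat_lit 3, nat_lit 2, nat_lit 1]) (.leaf [nat_lit 6, nat_lit 5, nat_lit 3, nat_lit 5, nat_lit 2, nat_lit 1])) (.node (nat_lit 2323) (.leaf [nat_lit 2, nat_lit 1, nat_lit 6, nat_lit 3, nat_lit 0]) (.leaf [nat_lit 5, nat_lit 2, nat_lit 5, nat_lit 6, nat_lit 3, nat_lit 2, nat_lit 1])))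
 (.node (nat_lit 2326) (.node (nat_lit 2325) (.leaf [nat_lit 4, nat_lit 2, nat_lit 6, nat_lit 1, nat_lit 4, nat_lit 3]) (.leaf [nat_lit 6, nat_lit 3, nat_lit 4, nat_lit 0, nat_lit 4, nat_lit 2, nat_lit 1, nat_lit 0])) (.node (nat_lit 2327) (.leaf [nat_lit 6, nat_lit 4, nat_lit 2, nat_lit 4, nat_lit 3, nat_lit 1]) (.leaf [nat_lit 6, nat_lit 3, nat_lit 4, nat_lit 0, nat_lit 4, nat_lit 3, nat_lit 1]))))
 (.node (nat_lit 2332) (.node (nat_lit 2330) (.node (nat_lit 2329) (.leaf [nat_lit 6, nat_lit 4, nat_lit 2, nat_lit 4, nat_lit 1]) (.leaf [nat_lit 6, nat_lit 4, nat_lit 2, nat_lit 4, nat_lit 2, nat_lit 1, nat_lit 0])) (.node (nat_lit 2331) (.leaf [nat_lit 5, nat_lit 1, nat_lit 6, nat_lit 5, nat_lit 0]) (.leaf [nat_lit 6, nat_lit 5, nat_lit 3, nat_lit 5, nat_lit 3, nat_lit 1, nat_lit 0])))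
 (.node (nat_lit 2334) (.node (nat_lit 2333) (.leaf [nat_lit 1, nat_lit 6, nat_lit 3, nat_lit 2, nat_lit 0]) (.leaf [nat_lit 5, nat_lit 6, nat_lit 0, nat_lit 5, nat_lit 1])) (.node (nat_lit 2335) (.leaf [nat_lit 4, nat_lit 0, nat_lit 6, nat_lit 0, nat_lit 4, nat_lit 2, nat_lit 1, nat_lit 0]) (.leaf [nat_lit 2, nat_lit 0, nat_lit 6, nat_lit 3, nat_lit 2, nat_lit 1, nat_lit 0]))))))
 (.node (nat_lit 2352) (.node (nat_lit 2344) (.node (nat_lit 2340) (.node (nat_lit 2338) (.node (nat_lit 2337) (.leaf [nat_lit 0, nat_lit 6, nat_lit 3, nat_lit 1, nat_lit 0]) (.leaf [nat_lit 2, nat_lit 1, nat_lit 0, nat_lit 6, nat_lit 3, nat_lit 2, nat_lit 0])) (.node (nat_lit 2339) (.leaf [nat_lit 5, nat_lit 2, nat_lit 6, nat_lit 5, nat_lit 3, nat_lit 2, nat_lit 1]) (.leaf [nat_lit 6, nat_lit 4, nat_lit 0, nat_lit 4, nat_lit 1])))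
 (.node (nat_lit 2342) (.node (nat_lit 2341) (.leaf [nat_lit 4, nat_lit 3, nat_lit 6, nat_lit 1, nat_lit 4, nat_lit 2]) (.leaf [nat_lit 3, nat_lit 2, nat_lit 6, nat_lit 2, nat_lit 1])) (.node (nat_lit 2343) (.leaf [nat_lit 4, nat_lit 3, nat_lit 6, nat_lit 1, nat_lit 4, nat_lit 2, nat_lit 0]) (.leaf [nat_lit 6, nat_lit 5, nat_lit 2, nat_lit 5, nat_lit 3, nat_lit 2, nat_lit 1]))))
 (.node (nat_lit 2348) (.node (nat_lit 2346) (.node (nat_lit 2345) (.leaf [nat_lit 5, nat_lit 6, nat_lit 5, nat_lit 3, nat_lit 1]) (.leaf [nat_lit 5, nat_lit 2, nat_lit 6, nat_lit 2, nat_lit 0])) (.node (nat_lit 2347) (.leaf [nat_lit 0, nat_lit 4, nat_lit 3, nat_lit 0, nat_lit 4, nat_lit 1]) (.leaf [nat_lit 4, nat_lit 3, nat_lit 1, nat_lit 0, nat_lit 4, nat_lit 2])))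
 (.node (nat_lit 2350) (.node (nat_lit 2349) (.leaf [nat_lit 4, nat_lit 2, nat_lit 1, nat_lit 4, nat_lit 3, nat_lit 0]) (.leaf [nat_lit 5, nat_lit 0, nat_lit 5, nat_lit 3, nat_lit 1, nat_lit 0])) (.node (nat_lit 2351) (.leaf [nat_lit 4, nat_lit 3, nat_lit 6, nat_lit 1, nat_lit 4, nat_lit 3, nat_lit 2, nat_lit 0]) (.leaf [nat_lit 6, nat_lit 5, nat_lit 2, nat_lit 5, nat_lit 2, nat_lit 1])))))
 (.node (nat_lit 2360) (.node (nat_lit 2356) (.node (nat_lit 2354) (.node (nat_lit 2353) (.leaf [nat_lit 6, nat_lit 3, nat_lit 4, nat_lit 0, nat_lit 4, nat_lit 1]) (.leaf [nat_lit 4, nat_lit 0, nat_lit 6, nat_lit 0, nat_lit 4, nat_lit 1])) (.node (nat_lit 2355) (.leaf [nat_lit 5, nat_lit 2, nat_lit 6, nat_lit 5, nat_lit 2, nat_lit 1]) (.leaf [nat_lit 2, nat_lit 6, nat_lit 4, nat_lit 2, nat_lit 4, nat_lit 2, nat_lit 1, nat_lit 0])))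
 (.node (nat_lit 2358) (.node (nat_lit 2357) (.leaf [nat_lit 1, nat_lit 6, nat_lit 2]) (.leaf [nat_lit 6, nat_lit 4, nat_lit 0, nat_lit 4, nat_lit 3, nat_lit 1])) (.node (nat_lit 2359) (.leaf [nat_lit 6, nat_lit 5, nat_lit 0, nat_lit 5, nat_lit 3, nat_lit 1]) (.leaf [nat_lit 5, nat_lit 2, nat_lit 5, nat_lit 6, nat_lit 2, nat_lit 1]))))
 (.node (nat_lit 2364) (.node (nat_lit 2362) (.node (nat_lit 2361) (.leaf [nat_lit 4, nat_lit 2, nat_lit 6, nat_lit 1, nat_lit 4, nat_lit 0]) (.leaf [nat_lit 6, nat_lit 5, nat_lit 3, nat_lit 5, nat_lit 3, nat_lit 2, nat_lit 1, nat_lit 0])) (.node (nat_lit 2363) (.leaf [nat_lit 4, nat_lit 2, nat_lit 6, nat_lit 4, nat_lit 3, nat_lit 1, nat_lit 0]) (.leaf [nat_lit 4, nat_lit 2, nat_lit 6, nat_lit 4, nat_lit 3, nat_lit 2, nat_lit 1, nat_lit 0])))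
 (.node (nat_lit 2366) (.node (nat_lit 2365) (.leaf [nat_lit 5, nat_lit 6, nat_lit 3, nat_lit 5, nat_lit 1, nat_lit 0]) (.leaf [nat_lit 6, nat_lit 5, nat_lit 2, nat_lit 5, nat_lit 3, nat_lit 1])) (.node (nat_lit 2367) (.leaf [nat_lit 2, nat_lit 6, nat_lit 1]) (.leaf [nat_lit 3, nat_lit 2, nat_lit 6, nat_lit 3, nat_lit 2, nat_lit 1])))))))
 (.node (nat_lit 2400) (.node (nat_lit 2384) (.node (nat_lit 2376) (.node (nat_lit 2372) (.node (nat_lit 2370) (.node (nat_lit 2369) (.leaf [nat_lit 5, nat_lit 6, nat_lit 2, nat_lit 5, nat_lit 2, nat_lit 1]) (.leaf [nat_lit 6, nat_lit 4, nat_lit 0, nat_lit 4, nat_lit 2, nat_lit 1])) (.node (nat_lit 2371) (.leaf [nat_lit 2, nat_lit 1, nat_lit 6]) (.leaf [nat_lit 1, nat_lit 6, nat_lit 3, nat_lit 2])))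
 (.node (nat_lit 2374) (.node (nat_lit 2373) (.leaf [nat_lit 1, nat_lit 0, nat_lit 6, nat_lit 2, nat_lit 0]) (.leaf [nat_lit 2, nat_lit 1, nat_lit 6, nat_lit 2])) (.node (nat_lit 2375) (.leaf [nat_lit 5, nat_lit 6, nat_lit 0, nat_lit 5, nat_lit 2, nat_lit 1]) (.leaf [nat_lit 5, nat_lit 1, nat_lit 6, nat_lit 5, nat_lit 3]))))
 (.node (nat_lit 2380) (.node (nat_lit 2378) (.node (nat_lit 2377) (.leaf [nat_lit 6, nat_lit 4, nat_lit 2, nat_lit 4, nat_lit 1, nat_lit 0]) (.leaf [nat_lit 6, nat_lit 4, nat_lit 1, nat_lit 4, nat_lit 3, nat_lit 2, nat_lit 0])) (.node (nat_lit 2379) (.leaf [nat_lit 5, nat_lit 6, nat_lit 5, nat_lit 3, nat_lit 2, nat_lit 1]) (.leaf [nat_lit 6, nat_lit 2, nat_lit 1])))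
 (.node (nat_lit 2382) (.node (nat_lit 2381) (.leaf [nat_lit 3, nat_lit 1, nat_lit 6, nat_lit 3, nat_lit 2]) (.leaf [nat_lit 5, nat_lit 6, nat_lit 3, nat_lit 5, nat_lit 1])) (.node (nat_lit 2383) (.leaf [nat_lit 5, nat_lit 2, nat_lit 6, nat_lit 5, nat_lit 1]) (.leaf [nat_lit 6, nat_lit 4, nat_lit 1, nat_lit 4, nat_lit 3, nat_lit 2])))))
 (.node (nat_lit 2392) (.node (nat_lit 2388) (.node (nat_lit 2386) (.node (nat_lit 2385) (.leaf [nat_lit 3, nat_lit 1, nat_lit 6, nat_lit 3]) (.leaf [nat_lit 6, nat_lit 5, nat_lit 3, nat_lit 5, nat_lit 1, nat_lit 0])) (.node (nat_lit 2387) (.leaf [nat_lit 6, nat_lit 4, nat_lit 2, nat_lit 4, nat_lit 3, nat_lit 2, nat_lit 1, nat_lit 0]) (.leaf [nat_lit 4, nat_lit 2, nat_lit 6, nat_lit 1, nat_lit 4, nat_lit 3, nat_lit 2, nat_lit 0])))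
 (.node (nat_lit 2390) (.node (nat_lit 2389) (.leaf [nat_lit 4, nat_lit 3, nat_lit 6, nat_lit 1, nat_lit 4, nat_lit 3, nat_lit 0]) (.leaf [nat_lit 5, nat_lit 1, nat_lit 6, nat_lit 5, nat_lit 2])) (.node (nat_lit 2391) (.leaf [nat_lit 2, nat_lit 1, nat_lit 6, nat_lit 3]) (.leaf [nat_lit 6, nat_lit 3, nat_lit 4, nat_lit 0, nat_lit 4, nat_lit 2, nat_lit 1]))))
 (.node (nat_lit 2396) (.node (nat_lit 2394) (.node (nat_lit 2393) (.leaf [nat_lit 3, nat_lit 1, nat_lit 0, nat_lit 6, nat_lit 3, nat_lit 0]) (.leaf [nat_lit 3, nat_lit 1, nat_lit 6, nat_lit 2])) (.node (nat_lit 2395) (.leaf [nat_lit 6, nat_lit 5, nat_lit 3, nat_lit 5, nat_lit 2, nat_lit 1, nat_lit 0]) (.leaf [nat_lit 4, nat_lit 2, nat_lit 6, nat_lit 4, nat_lit 1, nat_lit 0])))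
 (.node (nat_lit 2398) (.node (nat_lit 2397) (.leaf [nat_lit 5, nat_lit 2, nat_lit 5, nat_lit 6, nat_lit 3, nat_lit 1]) (.leaf [nat_lit 6, nat_lit 5, nat_lit 0, nat_lit 5, nat_lit 2, nat_lit 1])) (.node (nat_lit 2399) (.leaf [nat_lit 6, nat_lit 4, nat_lit 0, nat_lit 4, nat_lit 3, nat_lit 1, nat_lit 0]) (.leaf [nat_lit 4, nat_lit 0, nat_lit 6, nat_lit 0, nat_lit 4, nat_lit 2, nat_lit 1]))))))
 (.node (nat_lit 2416) (.node (nat_lit 2408) (.node (nat_lit 2404) (.node (nat_lit 2402) (.node (nat_lit 2401) (.leaf [nat_lit 5, nat_lit 6, nat_lit 0, nat_lit 5, nat_lit 3, nat_lit 2, nat_lit 1]) (.leaf [nat_lit 6, nat_lit 4, nat_lit 2, nat_lit 4, nat_lit 3, nat_lit 2, nat_lit 1])) (.node (nat_lit 2403) (.leaf [nat_lit 5, nat_lit 6, nat_lit 0, nat_lit 5, nat_lit 3, nat_lit 1]) (.leaf [nat_lit 6, nat_lit 3, nat_lit 2, nat_lit 1])))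
 (.node (nat_lit 2406) (.node (nat_lit 2405) (.leaf [nat_lit 3, nat_lit 2, nat_lit 6, nat_lit 1]) (.leaf [nat_lit 2, nat_lit 0, nat_lit 6, nat_lit 1, nat_lit 0])) (.node (nat_lit 2407) (.leaf [nat_lit 2, nat_lit 6, nat_lit 2, nat_lit 1]) (.leaf [nat_lit 4, nat_lit 3, nat_lit 6, nat_lit 1, nat_lit 4, nat_lit 0]))))
 (.node (nat_lit 2412) (.node (nat_lit 2410) (.node (nat_lit 2409) (.leaf [nat_lit 3, nat_lit 2, nat_lit 6, nat_lit 3, nat_lit 2, nat_lit 1, nat_lit 0]) (.leaf [nat_lit 1, nat_lit 0, nat_lit 6, nat_lit 3, nat_lit 2, nat_lit 0])) (.node (nat_lit 2411) (.leaf [nat_lit 3, nat_lit 2, nat_lit 6, nat_lit 3, nat_lit 1]) (.leaf [nat_lit 4, nat_lit 2, nat_lit 6, nat_lit 1, nat_lit 4])))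
 (.node (nat_lit 2414) (.node (nat_lit 2413) (.leaf [nat_lit 5, nat_lit 6, nat_lit 5, nat_lit 1]) (.leaf [nat_lit 3, nat_lit 6, nat_lit 3, nat_lit 1])) (.node (nat_lit 2415) (.leaf [nat_lit 2, nat_lit 1, nat_lit 0, nat_lit 6, nat_lit 0]) (.leaf [nat_lit 6, nat_lit 4, nat_lit 1, nat_lit 4])))))
 (.node (nat_lit 2424) (.node (nat_lit 2420) (.node (nat_lit 2418) (.node (nat_lit 2417) (.leaf [nat_lit 1, nat_lit 6, nat_lit 0]) (.leaf [nat_lit 6, nat_lit 4, nat_lit 0, nat_lit 4, nat_lit 3, nat_lit 2, nat_lit 1])) (.node (nat_lit 2419) (.leaf [nat_lit 6, nat_lit 5, nat_lit 3, nat_lit 5, nat_lit 1]) (.leaf [nat_lit 0, nat_lit 6, nat_lit 2, nat_lit 1, nat_lit 0])))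
 (.node (nat_lit 2422) (.node (nat_lit 2421) (.leaf [nat_lit 3, nat_lit 1, nat_lit 0, nat_lit 6, nat_lit 3, nat_lit 2, nat_lit 0]) (.leaf [nat_lit 4, nat_lit 2, nat_lit 6, nat_lit 1, nat_lit 4, nat_lit 2, nat_lit 0])) (.node (nat_lit 2423) (.leaf [nat_lit 2, nat_lit 1, nat_lit 0, nat_lit 6, nat_lit 2, nat_lit 0]) (.leaf [nat_lit 1, nat_lit 6]))))
 (.node (nat_lit 2428) (.node (nat_lit 2426) (.node (nat_lit 2425) (.leaf [nat_lit 5, nat_lit 6, nat_lit 2, nat_lit 5, nat_lit 3, nat_lit 1]) (.leaf [nat_lit 5, nat_lit 6, nat_lit 3, nat_lit 5, nat_lit 3, nat_lit 2, nat_lit 1, nat_lit 0])) (.node (nat_lit 2427) (.leaf [nat_lit 2, nat_lit 1, nat_lit 0, nat_lit 6, nat_lit 2]) (.leaf [nat_lit 5, nat_lit 2, nat_lit 5, nat_lit 6, nat_lit 2, nat_lit 1, nat_lit 0])))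
 (.node (nat_lit 2430) (.node (nat_lit 2429) (.leaf [nat_lit 3, nat_lit 0, nat_lit 6, nat_lit 2, nat_lit 1, nat_lit 0]) (.leaf [nat_lit 5, nat_lit 6, nat_lit 5, nat_lit 1, nat_lit 0])) (.node (nat_lit 2431) (.leaf [nat_lit 3, nat_lit 1, nat_lit 0, nat_lit 6, nat_lit 3]) (.leaf [nat_lit 2, nat_lit 0, nat_lit 6, nat_lit 3, nat_lit 1, nat_lit 0]))))))))
 (.node (nat_lit 2496) (.node (nat_lit 2464) (.node (nat_lit 2448) (.node (nat_lit 2440) (.node (nat_lit 2436) (.node (nat_lit 2434) (.node (nat_lit 2433) (.leaf [nat_lit 4, nat_lit 3, nat_lit 6, nat_lit 1, nat_lit 4, nat_lit 3, nat_lit 2]) (.leaf [nat_lit 3, nat_lit 6, nat_lit 3, nat_lit 2, nat_lit 1])) (.node (nat_lit 2435) (.leaf [nat_lit 4, nat_lit 0, nat_lit 6, nat_lit 0, nat_lit 4, nat_lit 1, nat_lit 0]) (.leaf [nat_lit 5, nat_lit 2, nat_lit 6, nat_lit 5, nat_lit 2, nat_lit 1, nat_lit 0])))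
 (.node (nat_lit 2438) (.node (nat_lit 2437) (.leaf [nat_lit 5, nat_lit 6, nat_lit 0, nat_lit 5, nat_lit 3, nat_lit 1, nat_lit 0]) (.leaf [nat_lit 6, nat_lit 3, nat_lit 4, nat_lit 0, nat_lit 4, nat_lit 1, nat_lit 0])) (.node (nat_lit 2439) (.leaf [nat_lit 2, nat_lit 0, nat_lit 6, nat_lit 2, nat_lit 1]) (.leaf [nat_lit 5, nat_lit 6, nat_lit 3, nat_lit 5, nat_lit 2, nat_lit 1, nat_lit 0]))))
 (.node (nat_lit 2444) (.node (nat_lit 2442) (.node (nat_lit 2441) (.leaf [nat_lit 5, nat_lit 6, nat_lit 2, nat_lit 5, nat_lit 1]) (.leaf [nat_lit 2, nat_lit 6, nat_lit 4, nat_lit 2, nat_lit 4, nat_lit 3, nat_lit 1, nat_lit 0])) (.node (nat_lit 2443) (.leaf [nat_lit 3, nat_lit 6, nat_lit 2, nat_lit 1]) (.leaf [nat_lit 3, nat_lit 0, nat_lit 6, nat_lit 3, nat_lit 1, nat_lit 0])))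
 (.node (nat_lit 2446) (.node (nat_lit 2445) (.leaf [nat_lit 2, nat_lit 6, nat_lit 3, nat_lit 1]) (.leaf [nat_lit 6, nat_lit 5, nat_lit 2, nat_lit 5, nat_lit 1])) (.node (nat_lit 2447) (.leaf [nat_lit 5, nat_lit 2, nat_lit 6, nat_lit 5, nat_lit 3, nat_lit 1]) (.leaf [nat_lit 6, nat_lit 5, nat_lit 0, nat_lit 5, nat_lit 3, nat_lit 2, nat_lit 1])))))
 (.node (nat_lit 2456) (.node (nat_lit 2452) (.node (nat_lit 2450) (.node (nat_lit 2449) (.leaf [nat_lit 1, nat_lit 0, nat_lit 6, nat_lit 0]) (.leaf [nat_lit 2, nat_lit 1, nat_lit 0, nat_lit 6, nat_lit 3, nat_lit 0])) (.node (nat_lit 2451) (.leaf [nat_lit 1, nat_lit 0, nat_lit 6]) (.leaf [nat_lit 4, nat_lit 0, nat_lit 6, nat_lit 0, nat_lit 4, nat_lit 3, nat_lit 2, nat_lit 1])))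
 (.node (nat_lit 2454) (.node (nat_lit 2453) (.leaf [nat_lit 4, nat_lit 2, nat_lit 6, nat_lit 4, nat_lit 3, nat_lit 2, nat_lit 1]) (.leaf [nat_lit 3, nat_lit 1, nat_lit 0, nat_lit 6, nat_lit 2, nat_lit 0])) (.node (nat_lit 2455) (.leaf [nat_lit 5, nat_lit 2, nat_lit 5, nat_lit 6, nat_lit 1]) (.leaf [nat_lit 2, nat_lit 6, nat_lit 4, nat_lit 2, nat_lit 4, nat_lit 3, nat_lit 2, nat_lit 1, nat_lit 0]))))
 (.node (nat_lit 2460) (.node (nat_lit 2458) (.node (nat_lit 2457) (.leaf [nat_lit 6, nat_lit 3, nat_lit 4, nat_lit 0, nat_lit 4, nat_lit 3, nat_lit 2, nat_lit 1]) (.leaf [nat_lit 2, nat_lit 0, nat_lit 6, nat_lit 2, nat_lit 1, nat_lit 0])) (.node (nat_lit 2459) (.leaf [nat_lit 2, nat_lit 1, nat_lit 6, nat_lit 2, nat_lit 0]) (.leaf [nat_lit 3, nat_lit 1, nat_lit 6, nat_lit 3, nat_lit 0])))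
 (.node (nat_lit 2462) (.node (nat_lit 2461) (.leaf [nat_lit 6, nat_lit 5, nat_lit 2, nat_lit 5, nat_lit 2, nat_lit 1, nat_lit 0]) (.leaf [nat_lit 2, nat_lit 6, nat_lit 4, nat_lit 2, nat_lit 4, nat_lit 3, nat_lit 1])) (.node (nat_lit 2463) (.leaf [nat_lit 6, nat_lit 5, nat_lit 0, nat_lit 5, nat_lit 3, nat_lit 1, nat_lit 0]) (.leaf [nat_lit 0, nat_lit 6, nat_lit 3, nat_lit 2, nat_lit 1, nat_lit 0]))))))
 (.node (nat_lit 2480) (.node (nat_lit 2472) (.node (nat_lit 2468) (.node (nat_lit 2466) (.node (nat_lit 2465) (.leaf [nat_lit 0, nat_lit 6, nat_lit 1]) (.leaf [nat_lit 5, nat_lit 6, nat_lit 5, nat_lit 2, nat_lit 1])) (.node (nat_lit 2467) (.leaf [nat_lit 6, nat_lit 1]) (.leaf [nat_lit 2, nat_lit 6, nat_lit 2, nat_lit 1, nat_lit 0])))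
 (.node (nat_lit 2470) (.node (nat_lit 2469) (.leaf [nat_lit 3, nat_lit 6, nat_lit 3, nat_lit 1, nat_lit 0]) (.leaf [nat_lit 5, nat_lit 1, nat_lit 6, nat_lit 5, nat_lit 2, nat_lit 0])) (.node (nat_lit 2471) (.leaf [nat_lit 6, nat_lit 4, nat_lit 1, nat_lit 4, nat_lit 3]) (.leaf [nat_lit 6, nat_lit 1, nat_lit 0]))))
 (.node (nat_lit 2476) (.node (nat_lit 2474) (.node (nat_lit 2473) (.leaf [nat_lit 3, nat_lit 0, nat_lit 6, nat_lit 3, nat_lit 2, nat_lit 1, nat_lit 0]) (.leaf [nat_lit 6, nat_lit 4, nat_lit 2, nat_lit 4, nat_lit 3, nat_lit 1, nat_lit 0])) (.node (nat_lit 2475) (.leaf [nat_lit 5, nat_lit 1, nat_lit 6, nat_lit 5]) (.leaf [nat_lit 3, nat_lit 0, nat_lit 6, nat_lit 3, nat_lit 1])))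
 (.node (nat_lit 2478) (.node (nat_lit 2477) (.leaf [nat_lit 5, nat_lit 6, nat_lit 2, nat_lit 5, nat_lit 2, nat_lit 1, nat_lit 0]) (.leaf [nat_lit 0, nat_lit 6, nat_lit 1, nat_lit 0])) (.node (nat_lit 2479) (.leaf [nat_lit 1, nat_lit 5, nat_lit 3, nat_lit 4, nat_lit 3, nat_lit 2, nat_lit 1, nat_lit 0]) (.leaf [nat_lit 4, nat_lit 5, nat_lit 3, nat_lit 4, nat_lit 3, nat_lit 2])))))
 (.node (nat_lit 2488) (.node (nat_lit 2484) (.node (nat_lit 2482) (.node (nat_lit 2481) (.leaf [nat_lit 6, nat_lit 3, nat_lit 1, nat_lit 5, nat_lit 2, nat_lit 1]) (.leaf [nat_lit 6, nat_lit 2, nat_lit 4, nat_lit 5, nat_lit 2])) (.node (nat_lit 2483) (.leaf [nat_lit 4, nat_lit 5, nat_lit 6, nat_lit 4, nat_lit 0]) (.leaf [nat_lit 4, nat_lit 3, nat_lit 6, nat_lit 3, nat_lit 0])))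
 (.node (nat_lit 2486) (.node (nat_lit 2485) (.leaf [nat_lit 3, nat_lit 6, nat_lit 2, nat_lit 5, nat_lit 3, nat_lit 2, nat_lit 0]) (.leaf [nat_lit 4, nat_lit 3, nat_lit 2, nat_lit 4, nat_lit 3, nat_lit 1, nat_lit 0])) (.node (nat_lit 2487) (.leaf [nat_lit 4, nat_lit 5, nat_lit 1, nat_lit 5, nat_lit 3, nat_lit 1, nat_lit 0]) (.leaf [nat_lit 6, nat_lit 0, nat_lit 6, nat_lit 2, nat_lit 1]))))
 (.node (nat_lit 2492) (.node (nat_lit 2490) (.node (nat_lit 2489) (.leaf [nat_lit 2, nat_lit 4]) (.leaf [nat_lit 4, nat_lit 3, nat_lit 4, nat_lit 3, nat_lit 2, nat_lit 1, nat_lit 0])) (.node (nat_lit 2491) (.leaf [nat_lit 5, nat_lit 0, nat_lit 5, nat_lit 2, nat_lit 1]) (.leaf [nat_lit 5, nat_lit 4, nat_lit 3, nat_lit 5, nat_lit 3, nat_lit 2])))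
 (.node (nat_lit 2494) (.node (nat_lit 2493) (.leaf [nat_lit 4, nat_lit 2, nat_lit 0, nat_lit 4, nat_lit 1]) (.leaf [nat_lit 2, nat_lit 1, nat_lit 0, nat_lit 4, nat_lit 2, nat_lit 1])) (.node (nat_lit 2495) (.leaf [nat_lit 6, nat_lit 2, nat_lit 6, nat_lit 1, nat_lit 0]) (.leaf [nat_lit 3, nat_lit 4, nat_lit 3, nat_lit 2])))))))
 (.node (nat_lit 2528) (.node (nat_lit 2512) (.node (nat_lit 2504) (.node (nat_lit 2500) (.node (nat_lit 2498) (.node (nat_lit 2497) (.leaf [nat_lit 0, nat_lit 5, nat_lit 1, nat_lit 5, nat_lit 3, nat_lit 0]) (.leaf [nat_lit 5, nat_lit 4, nat_lit 5, nat_lit 3, nat_lit 4, nat_lit 3, nat_lit 2, nat_lit 1, nat_lit 0])) (.node (nat_lit 2499) (.leaf [nat_lit 5, nat_lit 2, nat_lit 5, nat_lit 1, nat_lit 0]) (.leaf [nat_lit 5, nat_lit 0, nat_lit 4, nat_lit 0])))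
 (.node (nat_lit 2502) (.node (nat_lit 2501) (.leaf [nat_lit 0, nat_lit 6, nat_lit 1, nat_lit 4, nat_lit 3, nat_lit 2, nat_lit 1]) (.leaf [nat_lit 2, nat_lit 5, nat_lit 4, nat_lit 5])) (.node (nat_lit 2503) (.leaf [nat_lit 1, nat_lit 4, nat_lit 1, nat_lit 0]) (.leaf [nat_lit 5, nat_lit 2, nat_lit 4, nat_lit 3, nat_lit 0]))))
 (.node (nat_lit 2508) (.node (nat_lit 2506) (.node (nat_lit 2505) (.leaf [nat_lit 0, nat_lit 6, nat_lit 1, nat_lit 4, nat_lit 2, nat_lit 1, nat_lit 0]) (.leaf [nat_lit 4, nat_lit 2, nat_lit 0, nat_lit 4])) (.node (nat_lit 2507) (.leaf [nat_lit 3, nat_lit 5, nat_lit 3, nat_lit 2]) (.leaf [nat_lit 1, nat_lit 5, nat_lit 0, nat_lit 6, nat_lit 2, nat_lit 1])))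
 (.node (nat_lit 2510) (.node (nat_lit 2509) (.leaf [nat_lit 5, nat_lit 3, nat_lit 5, nat_lit 3, nat_lit 2, nat_lit 0]) (.leaf [nat_lit 5, nat_lit 3, nat_lit 4, nat_lit 5, nat_lit 3, nat_lit 2])) (.node (nat_lit 2511) (.leaf [nat_lit 6, nat_lit 2, nat_lit 4, nat_lit 5, nat_lit 3, nat_lit 0]) (.leaf [nat_lit 6, nat_lit 2, nat_lit 5, nat_lit 6, nat_lit 2, nat_lit 0])))))
 (.node (nat_lit 2520) (.node (nat_lit 2516) (.node (nat_lit 2514) (.node (nat_lit 2513) (.leaf [nat_lit 4, nat_lit 3, nat_lit 1, nat_lit 0, nat_lit 4, nat_lit 3, nat_lit 2]) (.leaf [nat_lit 5, nat_lit 4, nat_lit 1, nat_lit 4, nat_lit 3, nat_lit 1, nat_lit 0])) (.node (nat_lit 2515) (.leaf [nat_lit 5, nat_lit 2, nat_lit 5, nat_lit 6]) (.leaf [nat_lit 3, nat_lit 2, nat_lit 5, nat_lit 3, nat_lit 2, nat_lit 0])))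
 (.node (nat_lit 2518) (.node (nat_lit 2517) (.leaf [nat_lit 4, nat_lit 3, nat_lit 0]) (.leaf [nat_lit 5, nat_lit 4, nat_lit 5, nat_lit 3, nat_lit 0])) (.node (nat_lit 2519) (.leaf [nat_lit 5, nat_lit 3, nat_lit 2, nat_lit 5, nat_lit 2, nat_lit 1]) (.leaf [nat_lit 6, nat_lit 5, nat_lit 3, nat_lit 4, nat_lit 2, nat_lit 0]))))
 (.node (nat_lit 2524) (.node (nat_lit 2522) (.node (nat_lit 2521) (.leaf [nat_lit 5, nat_lit 6, nat_lit 3, nat_lit 4, nat_lit 2, nat_lit 0]) (.leaf [nat_lit 4, nat_lit 0, nat_lit 5, nat_lit 4])) (.node (nat_lit 2523) (.leaf [nat_lit 6, nat_lit 2, nat_lit 1, nat_lit 6]) (.leaf [nat_lit 3, nat_lit 5, nat_lit 3, nat_lit 0])))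
 (.node (nat_lit 2526) (.node (nat_lit 2525) (.leaf [nat_lit 5, nat_lit 0, nat_lit 5, nat_lit 1, nat_lit 0]) (.leaf [nat_lit 6, nat_lit 3, nat_lit 6, nat_lit 3, nat_lit 2, nat_lit 1, nat_lit 0])) (.node (nat_lit 2527) (.leaf [nat_lit 5, nat_lit 2, nat_lit 5, nat_lit 3, nat_lit 1, nat_lit 0]) (.leaf [nat_lit 5, nat_lit 6, nat_lit 4, nat_lit 3, nat_lit 2, nat_lit 0]))))))
 (.node (nat_lit 2544) (.node (nat_lit 2536) (.node (nat_lit 2532) (.node (nat_lit 2530) (.node (nat_lit 2529) (.leaf [nat_lit 4, nat_lit 3, nat_lit 1, nat_lit 0, nat_lit 4, nat_lit 3, nat_lit 0]) (.leaf [nat_lit 4, nat_lit 2, nat_lit 0, nat_lit 4, nat_lit 3, nat_lit 2, nat_lit 1, nat_lit 0])) (.node (nat_lit 2531) (.leaf [nat_lit 4, nat_lit 2, nat_lit 4, nat_lit 5]) (.leaf [nat_lit 0, nat_lit 6, nat_lit 0, nat_lit 5, nat_lit 0])))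
 (.node (nat_lit 2534) (.node (nat_lit 2533) (.leaf [nat_lit 1, nat_lit 4, nat_lit 2, nat_lit 4, nat_lit 3, nat_lit 2]) (.leaf [nat_lit 5, nat_lit 3, nat_lit 1, nat_lit 4, nat_lit 1])) (.node (nat_lit 2535) (.leaf [nat_lit 6, nat_lit 5, nat_lit 0]) (.leaf [nat_lit 3, nat_lit 2, nat_lit 1, nat_lit 0]))))
 (.node (nat_lit 2540) (.node (nat_lit 2538) (.node (nat_lit 2537) (.leaf [nat_lit 2, nat_lit 5, nat_lit 2, nat_lit 0]) (.leaf [nat_lit 4, nat_lit 2, nat_lit 0, nat_lit 4, nat_lit 2, nat_lit 1, nat_lit 0])) (.node (nat_lit 2539) (.leaf [nat_lit 6, nat_lit 2, nat_lit 5, nat_lit 4, nat_lit 3, nat_lit 0]) (.leaf [nat_lit 6, nat_lit 2, nat_lit 5, nat_lit 2, nat_lit 0])))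
 (.node (nat_lit 2542) (.node (nat_lit 2541) (.leaf [nat_lit 2, nat_lit 6, nat_lit 0, nat_lit 5, nat_lit 0]) (.leaf [nat_lit 2, nat_lit 6, nat_lit 0, nat_lit 5, nat_lit 2])) (.node (nat_lit 2543) (.leaf [nat_lit 6, nat_lit 0, nat_lit 6, nat_lit 3, nat_lit 2, nat_lit 1]) (.leaf [nat_lit 1, nat_lit 4, nat_lit 2, nat_lit 4, nat_lit 3, nat_lit 0])))))
 (.node (nat_lit 2552) (.node (nat_lit 2548) (.node (nat_lit 2546) (.node (nat_lit 2545) (.leaf [nat_lit 4, nat_lit 3, nat_lit 0, nat_lit 4, nat_lit 2, nat_lit 1]) (.leaf [nat_lit 1, nat_lit 4, nat_lit 5, nat_lit 4, nat_lit 3, nat_lit 2, nat_lit 1])) (.node (nat_lit 2547) (.leaf [nat_lit 4, nat_lit 3, nat_lit 2, nat_lit 4, nat_lit 3, nat_lit 2, nat_lit 1]) (.leaf [nat_lit 5, nat_lit 4, nat_lit 3, nat_lit 4, nat_lit 3, nat_lit 0])))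
 (.node (nat_lit 2550) (.node (nat_lit 2549) (.leaf [nat_lit 5, nat_lit 3, nat_lit 5, nat_lit 2, nat_lit 1, nat_lit 0]) (.leaf [nat_lit 3, nat_lit 6, nat_lit 5, nat_lit 6, nat_lit 3, nat_lit 0])) (.node (nat_lit 2551) (.leaf [nat_lit 5, nat_lit 4, nat_lit 5, nat_lit 3, nat_lit 4, nat_lit 2, nat_lit 1, nat_lit 0]) (.leaf [nat_lit 6, nat_lit 0, nat_lit 6, nat_lit 2]))))
 (.node (nat_lit 2556) (.node (nat_lit 2554) (.node (nat_lit 2553) (.leaf [nat_lit 0, nat_lit 6, nat_lit 5, nat_lit 3, nat_lit 2]) (.leaf [nat_lit 3, nat_lit 1, nat_lit 5, nat_lit 2, nat_lit 1])) (.node (nat_lit 2555) (.leaf [nat_lit 4, nat_lit 5, nat_lit 3, nat_lit 4, nat_lit 3, nat_lit 0]) (.leaf [nat_lit 5, nat_lit 1, nat_lit 4, nat_lit 3, nat_lit 1])))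
 (.node (nat_lit 2558) (.node (nat_lit 2557) (.leaf [nat_lit 0, nat_lit 6, nat_lit 5, nat_lit 2, nat_lit 0]) (.leaf [nat_lit 3, nat_lit 5, nat_lit 1, nat_lit 4, nat_lit 3, nat_lit 2, nat_lit 1, nat_lit 0])) (.node (nat_lit 2559) (.leaf [nat_lit 5, nat_lit 4, nat_lit 5, nat_lit 3, nat_lit 4, nat_lit 3, nat_lit 1]) (.leaf [nat_lit 5, nat_lit 1, nat_lit 6, nat_lit 4, nat_lit 1, nat_lit 0])))))))))
noncomputable def bWT_10 : Tr (List ℕ) := (.node (nat_lit 2688) (.node (nat_lit 2624) (.node (nat_lit 2592) (.node (nat_lit 2576) (.node (nat_lit 2568) (.node (nat_lit 2564) (.node (nat_lit 2562) (.node (nat_lit 2561) (.leaf [nat_lit 0, nat_lit 4, nat_lit 3, nat_lit 4, nat_lit 3, nat_lit 2, nat_lit 1]) (.leaf [nat_lit 6, nat_lit 4, nat_lit 5, nat_lit 4, nat_lit 0])) (.node (nat_lit 2563) (.leaf [nat_lit 0, nat_lit 6, nat_lit 5]) (.leaf [nat_lit 2, nat_lit 1, nat_lit 5, nat_lit 4, nat_lit 3, nat_lit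 2, nat_lit 1])))
 (.node (nat_lit 2566) (.node (nat_lit 2565) (.leaf [nat_lit 1, nat_lit 6, nat_lit 2, nat_lit 1]) (.leaf [nat_lit 6, nat_lit 5, nat_lit 0, nat_lit 5, nat_lit 3, nat_lit 2])) (.node (nat_lit 2567) (.leaf [nat_lit 6, nat_lit 3, nat_lit 4, nat_lit 0, nat_lit 4, nat_lit 2]) (.leaf [nat_lit 2, nat_lit 6, nat_lit 4, nat_lit 2, nat_lit 4, nat_lit 3, nat_lit 2, nat_lit 0]))))
 (.node (nat_lit 2572) (.node (nat_lit 2570) (.node (nat_lit 2569) (.leaf [nat_lit 0, nat_lit 6, nat_lit 2, nat_lit 5, nat_lit 2]) (.leaf [nat_lit 6, nat_lit 3, nat_lit 1, nat_lit 4, nat_lit 3, nat_lit 2, nat_lit 1])) (.node (nat_lit 2571) (.leaf [nat_lit 1, nat_lit 0, nat_lit 6, nat_lit 5, nat_lit 2, nat_lit 1]) (.leaf [nat_lit 6, nat_lit 3, nat_lit 5, nat_lit 3, nat_lit 0])))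
 (.node (nat_lit 2574) (.node (nat_lit 2573) (.leaf [nat_lit 6, nat_lit 5, nat_lit 2]) (.leaf [nat_lit 5, nat_lit 6, nat_lit 2, nat_lit 5, nat_lit 3, nat_lit 0])) (.node (nat_lit 2575) (.leaf [nat_lit 6, nat_lit 5, nat_lit 2, nat_lit 5, nat_lit 3, nat_lit 0]) (.leaf [nat_lit 1, nat_lit 0, nat_lit 6, nat_lit 2, nat_lit 1, nat_lit 0])))))
 (.node (nat_lit 2584) (.node (nat_lit 2580) (.node (nat_lit 2578) (.node (nat_lit 2577) (.leaf [nat_lit 4, nat_lit 3, nat_lit 6, nat_lit 1, nat_lit 4, nat_lit 1]) (.leaf [nat_lit 1, nat_lit 0, nat_lit 6, nat_lit 5, nat_lit 3, nat_lit 2, nat_lit 1])) (.node (nat_lit 2579) (.leaf [nat_lit 4, nat_lit 3, nat_lit 1, nat_lit 0, nat_lit 4, nat_lit 3, nat_lit 2, nat_lit 1, nat_lit 0]) (.leaf [nat_lit 6, nat_lit 4, nat_lit 1, nat_lit 4, nat_lit 3, nat_lit 1])))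
 (.node (nat_lit 2582) (.node (nat_lit 2581) (.leaf [nat_lit 6, nat_lit 4, nat_lit 0, nat_lit 4, nat_lit 3, nat_lit 2]) (.leaf [nat_lit 1, nat_lit 6, nat_lit 0, nat_lit 4, nat_lit 3, nat_lit 2, nat_lit 1])) (.node (nat_lit 2583) (.leaf [nat_lit 6, nat_lit 4, nat_lit 5, nat_lit 4, nat_lit 2]) (.leaf [nat_lit 1, nat_lit 6, nat_lit 2, nat_lit 4, nat_lit 2, nat_lit 1]))))
 (.node (nat_lit 2588) (.node (nat_lit 2586) (.node (nat_lit 2585) (.leaf [nat_lit 2, nat_lit 6, nat_lit 0, nat_lit 4, nat_lit 3, nat_lit 0]) (.leaf [nat_lit 5, nat_lit 4, nat_lit 0, nat_lit 4, nat_lit 3, nat_lit 2, nat_lit 0])) (.node (nat_lit 2587) (.leaf [nat_lit 5, nat_lit 1, nat_lit 5]) (.leaf [nat_lit 5, nat_lit 1, nat_lit 6, nat_lit 5, nat_lit 1])))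
 (.node (nat_lit 2590) (.node (nat_lit 2589) (.leaf [nat_lit 5, nat_lit 1, nat_lit 6, nat_lit 5, nat_lit 3, nat_lit 1, nat_lit 0]) (.leaf [nat_lit 1, nat_lit 4, nat_lit 5, nat_lit 4, nat_lit 1, nat_lit 0])) (.node (nat_lit 2591) (.leaf [nat_lit 0, nat_lit 4, nat_lit 3, nat_lit 0, nat_lit 4, nat_lit 2, nat_lit 1, nat_lit 0]) (.leaf [nat_lit 6, nat_lit 4, nat_lit 0, nat_lit 4, nat_lit 2, nat_lit 0]))))))
 (.node (nat_lit 2608) (.node (nat_lit 2600) (.node (nat_lit 2596) (.node (nat_lit 2594) (.node (nat_lit 2593) (.leaf [nat_lit 0, nat_lit 4, nat_lit 3]) (.leaf [nat_lit 0, nat_lit 5, nat_lit 2, nat_lit 5, nat_lit 3, nat_lit 1])) (.node (nat_lit 2595) (.leaf [nat_lit 4, nat_lit 2, nat_lit 4, nat_lit 5, nat_lit 3]) (.leaf [nat_lit 4, nat_lit 3, nat_lit 6, nat_lit 1, nat_lit 4, nat_lit 3, nat_lit 1, nat_lit 0])))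
 (.node (nat_lit 2598) (.node (nat_lit 2597) (.leaf [nat_lit 3, nat_lit 2, nat_lit 4, nat_lit 2, nat_lit 0]) (.leaf [nat_lit 6, nat_lit 2, nat_lit 6, nat_lit 2, nat_lit 1])) (.node (nat_lit 2599) (.leaf [nat_lit 5, nat_lit 3, nat_lit 2]) (.leaf [nat_lit 6, nat_lit 4, nat_lit 1, nat_lit 4, nat_lit 1, nat_lit 0]))))
 (.node (nat_lit 2604) (.node (nat_lit 2602) (.node (nat_lit 2601) (.leaf [nat_lit 6, nat_lit 2, nat_lit 5, nat_lit 6, nat_lit 3]) (.leaf [nat_lit 3, nat_lit 1, nat_lit 0, nat_lit 6, nat_lit 2, nat_lit 1])) (.node (nat_lit 2603) (.leaf [nat_lit 5, nat_lit 3, nat_lit 4, nat_lit 5, nat_lit 0]) (.leaf [nat_lit 4, nat_lit 3, nat_lit 5, nat_lit 4, nat_lit 2])))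
 (.node (nat_lit 2606) (.node (nat_lit 2605) (.leaf [nat_lit 5, nat_lit 6, nat_lit 5, nat_lit 2]) (.leaf [nat_lit 5, nat_lit 6, nat_lit 5, nat_lit 3, nat_lit 2, nat_lit 0])) (.node (nat_lit 2607) (.leaf [nat_lit 4, nat_lit 0, nat_lit 4, nat_lit 1, nat_lit 0]) (.leaf [nat_lit 6, nat_lit 3, nat_lit 4, nat_lit 2, nat_lit 0])))))
 (.node (nat_lit 2616) (.node (nat_lit 2612) (.node (nat_lit 2610) (.node (nat_lit 2609) (.leaf [nat_lit 5, nat_lit 4, nat_lit 5, nat_lit 3, nat_lit 4, nat_lit 3, nat_lit 2, nat_lit 0]) (.leaf [nat_lit 0, nat_lit 5, nat_lit 3, nat_lit 2, nat_lit 0])) (.node (nat_lit 2611) (.leaf [nat_lit 3, nat_lit 0, nat_lit 6, nat_lit 3, nat_lit 2, nat_lit 0]) (.leaf [nat_lit 3, nat_lit 5, nat_lit 4, nat_lit 5, nat_lit 0])))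
 (.node (nat_lit 2614) (.node (nat_lit 2613) (.leaf [nat_lit 3, nat_lit 2, nat_lit 1, nat_lit 5, nat_lit 3, nat_lit 2, nat_lit 1, nat_lit 0]) (.leaf [nat_lit 4, nat_lit 0, nat_lit 4, nat_lit 5, nat_lit 3, nat_lit 2, nat_lit 0])) (.node (nat_lit 2615) (.leaf [nat_lit 2, nat_lit 5, nat_lit 3]) (.leaf [nat_lit 5, nat_lit 4, nat_lit 3, nat_lit 4, nat_lit 2]))))
 (.node (nat_lit 2620) (.node (nat_lit 2618) (.node (nat_lit 2617) (.leaf [nat_lit 3, nat_lit 2, nat_lit 5]) (.leaf [nat_lit 5, nat_lit 2, nat_lit 0, nat_lit 6, nat_lit 2, nat_lit 0])) (.node (nat_lit 2619) (.leaf [nat_lit 4, nat_lit 0, nat_lit 5, nat_lit 4, nat_lit 3, nat_lit 2, nat_lit 0]) (.leaf [nat_lit 4, nat_lit 5, nat_lit 3, nat_lit 4, nat_lit 2])))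
 (.node (nat_lit 2622) (.node (nat_lit 2621) (.leaf [nat_lit 6, nat_lit 5, nat_lit 6, nat_lit 3, nat_lit 2]) (.leaf [nat_lit 5, nat_lit 1, nat_lit 4, nat_lit 2, nat_lit 1, nat_lit 0])) (.node (nat_lit 2623) (.leaf [nat_lit 3, nat_lit 6, nat_lit 5, nat_lit 6, nat_lit 2]) (.leaf [nat_lit 5, nat_lit 1, nat_lit 5, nat_lit 3, nat_lit 1])))))))
 (.node (nat_lit 2656) (.node (nat_lit 2640) (.node (nat_lit 2632) (.node (nat_lit 2628) (.node (nat_lit 2626) (.node (nat_lit 2625) (.leaf [nat_lit 5, nat_lit 2, nat_lit 0, nat_lit 6, nat_lit 3, nat_lit 2]) (.leaf [nat_lit 3, nat_lit 5, nat_lit 1, nat_lit 4, nat_lit 1])) (.node (nat_lit 2627) (.leaf [nat_lit 1, nat_lit 0, nat_lit 6, nat_lit 3, nat_lit 2, nat_lit 1]) (.leaf [nat_lit 3, nat_lit 2, nat_lit 6, nat_lit 3])))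
 (.node (nat_lit 2630) (.node (nat_lit 2629) (.leaf [nat_lit 1, nat_lit 6, nat_lit 3, nat_lit 2, nat_lit 1, nat_lit 0]) (.leaf [nat_lit 6, nat_lit 0, nat_lit 4, nat_lit 3, nat_lit 2])) (.node (nat_lit 2631) (.leaf [nat_lit 3, nat_lit 6, nat_lit 2, nat_lit 5, nat_lit 3, nat_lit 2]) (.leaf [nat_lit 6, nat_lit 3, nat_lit 4, nat_lit 0, nat_lit 4, nat_lit 3, nat_lit 2, nat_lit 0]))))
 (.node (nat_lit 2636) (.node (nat_lit 2634) (.node (nat_lit 2633) (.leaf [nat_lit 6, nat_lit 5, nat_lit 0, nat_lit 5, nat_lit 2, nat_lit 0]) (.leaf [nat_lit 5, nat_lit 6, nat_lit 0, nat_lit 5, nat_lit 2, nat_lit 0])) (.node (nat_lit 2635) (.leaf [nat_lit 5, nat_lit 2, nat_lit 6, nat_lit 5]) (.leaf [nat_lit 2, nat_lit 1, nat_lit 6, nat_lit 4, nat_lit 1])))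
 (.node (nat_lit 2638) (.node (nat_lit 2637) (.leaf [nat_lit 2, nat_lit 0, nat_lit 6, nat_lit 5, nat_lit 3]) (.leaf [nat_lit 0, nat_lit 5, nat_lit 3, nat_lit 5, nat_lit 3])) (.node (nat_lit 2639) (.leaf [nat_lit 3, nat_lit 1, nat_lit 6, nat_lit 4, nat_lit 1, nat_lit 0]) (.leaf [nat_lit 6, nat_lit 3, nat_lit 2, nat_lit 4, nat_lit 3, nat_lit 2])))))
 (.node (nat_lit 2648) (.node (nat_lit 2644) (.node (nat_lit 2642) (.node (nat_lit 2641) (.leaf [nat_lit 2, nat_lit 4, nat_lit 3, nat_lit 2, nat_lit 0]) (.leaf [nat_lit 4, nat_lit 2, nat_lit 4, nat_lit 5, nat_lit 2, nat_lit 0])) (.node (nat_lit 2643) (.leaf [nat_lit 3, nat_lit 0, nat_lit 4]) (.leaf [nat_lit 1, nat_lit 4, nat_lit 3, nat_lit 2, nat_lit 1])))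
 (.node (nat_lit 2646) (.node (nat_lit 2645) (.leaf [nat_lit 5, nat_lit 4, nat_lit 0, nat_lit 5, nat_lit 2, nat_lit 0]) (.leaf [nat_lit 6, nat_lit 2, nat_lit 6, nat_lit 0, nat_lit 4, nat_lit 3, nat_lit 2])) (.node (nat_lit 2647) (.leaf [nat_lit 3, nat_lit 2, nat_lit 0, nat_lit 4, nat_lit 3, nat_lit 0]) (.leaf [nat_lit 6, nat_lit 3, nat_lit 4, nat_lit 3, nat_lit 0]))))
 (.node (nat_lit 2652) (.node (nat_lit 2650) (.node (nat_lit 2649) (.leaf [nat_lit 5, nat_lit 4, nat_lit 1, nat_lit 4, nat_lit 2, nat_lit 1]) (.leaf [nat_lit 1, nat_lit 6, nat_lit 5, nat_lit 1])) (.node (nat_lit 2651) (.leaf [nat_lit 2, nat_lit 5, nat_lit 2, nat_lit 4]) (.leaf [nat_lit 6, nat_lit 2, nat_lit 4, nat_lit 2, nat_lit 0])))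
 (.node (nat_lit 2654) (.node (nat_lit 2653) (.leaf [nat_lit 0, nat_lit 6, nat_lit 2, nat_lit 5, nat_lit 0]) (.leaf [nat_lit 1, nat_lit 6, nat_lit 1, nat_lit 4, nat_lit 2, nat_lit 0])) (.node (nat_lit 2655) (.leaf [nat_lit 3, nat_lit 4, nat_lit 0]) (.leaf [nat_lit 1, nat_lit 5, nat_lit 3, nat_lit 4, nat_lit 1]))))))
 (.node (nat_lit 2672) (.node (nat_lit 2664) (.node (nat_lit 2660) (.node (nat_lit 2658) (.node (nat_lit 2657) (.leaf [nat_lit 4, nat_lit 2, nat_lit 4, nat_lit 3, nat_lit 1, nat_lit 0]) (.leaf [nat_lit 6, nat_lit 3, nat_lit 1, nat_lit 4, nat_lit 3, nat_lit 2, nat_lit 1, nat_lit 0])) (.node (nat_lit 2659) (.leaf [nat_lit 5, nat_lit 0, nat_lit 5, nat_lit 0, nat_lit 4, nat_lit 3, nat_lit 0]) (.leaf [nat_lit 6, nat_lit 3, nat_lit 0, nat_lit 5, nat_lit 3])))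
 (.node (nat_lit 2662) (.node (nat_lit 2661) (.leaf [nat_lit 1, nat_lit 4, nat_lit 2, nat_lit 0, nat_lit 4]) (.leaf [nat_lit 6, nat_lit 1, nat_lit 5, nat_lit 3, nat_lit 2, nat_lit 1])) (.node (nat_lit 2663) (.leaf [nat_lit 5, nat_lit 1, nat_lit 6, nat_lit 3, nat_lit 1]) (.leaf [nat_lit 4, nat_lit 0, nat_lit 4, nat_lit 2, nat_lit 1]))))
 (.node (nat_lit 2668) (.node (nat_lit 2666) (.node (nat_lit 2665) (.leaf [nat_lit 1, nat_lit 4, nat_lit 5, nat_lit 3, nat_lit 1]) (.leaf [nat_lit 3, nat_lit 6, nat_lit 1, nat_lit 4, nat_lit 1, nat_lit 0])) (.node (nat_lit 2667) (.leaf [nat_lit 3, nat_lit 5, nat_lit 2, nat_lit 4, nat_lit 0]) (.leaf [nat_lit 3, nat_lit 6, nat_lit 0, nat_lit 4, nat_lit 3, nat_lit 2])))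
 (.node (nat_lit 2670) (.node (nat_lit 2669) (.leaf [nat_lit 3, nat_lit 1, nat_lit 4, nat_lit 2, nat_lit 1]) (.leaf [nat_lit 4, nat_lit 3, nat_lit 4, nat_lit 3, nat_lit 2, nat_lit 0])) (.node (nat_lit 2671) (.leaf [nat_lit 1, nat_lit 5, nat_lit 4, nat_lit 3, nat_lit 1]) (.leaf [nat_lit 3, nat_lit 6, nat_lit 0, nat_lit 4, nat_lit 2, nat_lit 0])))))
 (.node (nat_lit 2680) (.node (nat_lit 2676) (.node (nat_lit 2674) (.node (nat_lit 2673) (.leaf [nat_lit 3, nat_lit 1, nat_lit 6, nat_lit 2, nat_lit 1, nat_lit 0]) (.leaf [nat_lit 3, nat_lit 0, nat_lit 4, nat_lit 3, nat_lit 2, nat_lit 0])) (.node (nat_lit 2675) (.leaf [nat_lit 3, nat_lit 1, nat_lit 5, nat_lit 3, nat_lit 1, nat_lit 0]) (.leaf [nat_lit 6, nat_lit 4, nat_lit 2, nat_lit 4])))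
 (.node (nat_lit 2678) (.node (nat_lit 2677) (.leaf [nat_lit 4, nat_lit 2, nat_lit 6, nat_lit 1, nat_lit 4, nat_lit 2, nat_lit 1, nat_lit 0]) (.leaf [nat_lit 3, nat_lit 4, nat_lit 5, nat_lit 4, nat_lit 2])) (.node (nat_lit 2679) (.leaf [nat_lit 2, nat_lit 1, nat_lit 6, nat_lit 3, nat_lit 1, nat_lit 0]) (.leaf [nat_lit 4, nat_lit 2]))))
 (.node (nat_lit 2684) (.node (nat_lit 2682) (.node (nat_lit 2681) (.leaf [nat_lit 2, nat_lit 0, nat_lit 4, nat_lit 3, nat_lit 2]) (.leaf [nat_lit 3, nat_lit 4, nat_lit 5, nat_lit 4, nat_lit 3, nat_lit 0])) (.node (nat_lit 2683) (.leaf [nat_lit 2, nat_lit 6, nat_lit 5, nat_lit 2, nat_lit 0]) (.leaf [nat_lit 1, nat_lit 4, nat_lit 5, nat_lit 2, nat_lit 1, nat_lit 0])))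
 (.node (nat_lit 2686) (.node (nat_lit 2685) (.leaf [nat_lit 1, nat_lit 5, nat_lit 6, nat_lit 2, nat_lit 1, nat_lit 0]) (.leaf [nat_lit 0, nat_lit 6, nat_lit 0, nat_lit 4, nat_lit 0])) (.node (nat_lit 2687) (.leaf [nat_lit 3, nat_lit 5, nat_lit 2, nat_lit 4, nat_lit 3, nat_lit 2]) (.leaf [nat_lit 6, nat_lit 2, nat_lit 0, nat_lit 4, nat_lit 3, nat_lit 2, nat_lit 0]))))))))
 (.node (nat_lit 2752) (.node (nat_lit 2720) (.node (nat_lit 2704) (.node (nat_lit 2696) (.node (nat_lit 2692) (.node (nat_lit 2690) (.node (nat_lit 2689) (.leaf [nat_lit 1, nat_lit 5, nat_lit 4, nat_lit 2, nat_lit 1, nat_lit 0]) (.leaf [nat_lit 6, nat_lit 2, nat_lit 0, nat_lit 4, nat_lit 2])) (.node (nat_lit 2691) (.leaf [nat_lit 1, nat_lit 4, nat_lit 2, nat_lit 0, nat_lit 4, nat_lit 1]) (.leaf [nat_lit 0, nat_lit 5, nat_lit 3, nat_lit 5, nat_lit 3, nat_lit 2])))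
 (.node (nat_lit 2694) (.node (nat_lit 2693) (.leaf [nat_lit 3, nat_lit 0, nat_lit 5, nat_lit 3]) (.leaf [nat_lit 5, nat_lit 3, nat_lit 2, nat_lit 5, nat_lit 1, nat_lit 0])) (.node (nat_lit 2695) (.leaf [nat_lit 5, nat_lit 2, nat_lit 0, nat_lit 6, nat_lit 2]) (.leaf [nat_lit 4, nat_lit 0, nat_lit 5, nat_lit 3, nat_lit 2]))))
 (.node (nat_lit 2700) (.node (nat_lit 2698) (.node (nat_lit 2697) (.leaf [nat_lit 5, nat_lit 6, nat_lit 0]) (.leaf [nat_lit 4, nat_lit 5, nat_lit 6, nat_lit 4, nat_lit 2])) (.node (nat_lit 2699) (.leaf [nat_lit 1, nat_lit 6, nat_lit 0, nat_lit 6, nat_lit 2, nat_lit 1]) (.leaf [nat_lit 3, nat_lit 6, nat_lit 2, nat_lit 5, nat_lit 0])))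
 (.node (nat_lit 2702) (.node (nat_lit 2701) (.leaf [nat_lit 1, nat_lit 0, nat_lit 5, nat_lit 4, nat_lit 2, nat_lit 1]) (.leaf [nat_lit 3, nat_lit 6, nat_lit 2, nat_lit 5, nat_lit 3])) (.node (nat_lit 2703) (.leaf [nat_lit 0, nat_lit 5, nat_lit 0, nat_lit 4]) (.leaf [nat_lit 2, nat_lit 6, nat_lit 3, nat_lit 5, nat_lit 3, nat_lit 2, nat_lit 0])))))
 (.node (nat_lit 2712) (.node (nat_lit 2708) (.node (nat_lit 2706) (.node (nat_lit 2705) (.leaf [nat_lit 5, nat_lit 6, nat_lit 0, nat_lit 5, nat_lit 3, nat_lit 2]) (.leaf [nat_lit 3, nat_lit 6, nat_lit 0, nat_lit 4, nat_lit 3])) (.node (nat_lit 2707) (.leaf [nat_lit 1, nat_lit 5, nat_lit 0, nat_lit 6, nat_lit 1, nat_lit 0]) (.leaf [nat_lit 3, nat_lit 2, nat_lit 6, nat_lit 0])))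
 (.node (nat_lit 2710) (.node (nat_lit 2709) (.leaf [nat_lit 6, nat_lit 3, nat_lit 5, nat_lit 0]) (.leaf [nat_lit 6, nat_lit 1, nat_lit 0, nat_lit 6, nat_lit 3, nat_lit 1, nat_lit 0])) (.node (nat_lit 2711) (.leaf [nat_lit 6, nat_lit 1, nat_lit 4, nat_lit 2, nat_lit 1]) (.leaf [nat_lit 2, nat_lit 6, nat_lit 3, nat_lit 5, nat_lit 3]))))
 (.node (nat_lit 2716) (.node (nat_lit 2714) (.node (nat_lit 2713) (.leaf [nat_lit 0, nat_lit 6, nat_lit 4, nat_lit 3, nat_lit 2, nat_lit 0]) (.leaf [nat_lit 4, nat_lit 2, nat_lit 6, nat_lit 3])) (.node (nat_lit 2715) (.leaf [nat_lit 4, nat_lit 2, nat_lit 5, nat_lit 3, nat_lit 4]) (.leaf [nat_lit 3, nat_lit 5, nat_lit 2])))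
 (.node (nat_lit 2718) (.node (nat_lit 2717) (.leaf [nat_lit 6, nat_lit 5, nat_lit 2, nat_lit 5]) (.leaf [nat_lit 3, nat_lit 1, nat_lit 6, nat_lit 4, nat_lit 3, nat_lit 1, nat_lit 0])) (.node (nat_lit 2719) (.leaf [nat_lit 2, nat_lit 0]) (.leaf [nat_lit 0, nat_lit 6, nat_lit 0, nat_lit 5]))))))
 (.node (nat_lit 2736) (.node (nat_lit 2728) (.node (nat_lit 2724) (.node (nat_lit 2722) (.node (nat_lit 2721) (.leaf [nat_lit 1, nat_lit 0, nat_lit 5, nat_lit 4, nat_lit 3, nat_lit 1, nat_lit 0]) (.leaf [nat_lit 0, nat_lit 5, nat_lit 1, nat_lit 5, nat_lit 3, nat_lit 1, nat_lit 0])) (.node (nat_lit 2723) (.leaf [nat_lit 0, nat_lit 6, nat_lit 0, nat_lit 5, nat_lit 3, nat_lit 0]) (.leaf [nat_lit 0, nat_lit 5, nat_lit 0, nat_lit 4, nat_lit 3, nat_lit 2, nat_lit 0])))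
 (.node (nat_lit 2726) (.node (nat_lit 2725) (.leaf [nat_lit 2, nat_lit 6, nat_lit 4, nat_lit 2, nat_lit 4, nat_lit 2]) (.leaf [nat_lit 1, nat_lit 6, nat_lit 1, nat_lit 4, nat_lit 2])) (.node (nat_lit 2727) (.leaf [nat_lit 0, nat_lit 6, nat_lit 5, nat_lit 0]) (.leaf [nat_lit 3, nat_lit 4, nat_lit 3, nat_lit 6, nat_lit 3]))))
 (.node (nat_lit 2732) (.node (nat_lit 2730) (.node (nat_lit 2729) (.leaf [nat_lit 5, nat_lit 1, nat_lit 0, nat_lit 6, nat_lit 2, nat_lit 1, nat_lit 0]) (.leaf [nat_lit 5, nat_lit 3, nat_lit 5, nat_lit 3, nat_lit 0])) (.node (nat_lit 2731) (.leaf [nat_lit 6, nat_lit 3, nat_lit 4, nat_lit 3, nat_lit 2, nat_lit 0]) (.leaf [nat_lit 2, nat_lit 6, nat_lit 1, nat_lit 4, nat_lit 1, nat_lit 0])))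
 (.node (nat_lit 2734) (.node (nat_lit 2733) (.leaf [nat_lit 3, nat_lit 1, nat_lit 6, nat_lit 4, nat_lit 2, nat_lit 1, nat_lit 0]) (.leaf [nat_lit 5, nat_lit 0, nat_lit 6, nat_lit 2, nat_lit 0])) (.node (nat_lit 2735) (.leaf [nat_lit 1, nat_lit 0, nat_lit 6, nat_lit 4, nat_lit 3, nat_lit 2, nat_lit 1]) (.leaf [nat_lit 6, nat_lit 1, nat_lit 5, nat_lit 3, nat_lit 1, nat_lit 0])))))
 (.node (nat_lit 2744) (.node (nat_lit 2740) (.node (nat_lit 2738) (.node (nat_lit 2737) (.leaf [nat_lit 6, nat_lit 0, nat_lit 4, nat_lit 3, nat_lit 2, nat_lit 0]) (.leaf [nat_lit 3, nat_lit 6, nat_lit 0, nat_lit 4, nat_lit 3, nat_lit 0])) (.node (nat_lit 2739) (.leaf [nat_lit 2, nat_lit 5, nat_lit 6, nat_lit 2, nat_lit 0]) (.leaf [nat_lit 6, nat_lit 0, nat_lit 5])))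
 (.node (nat_lit 2742) (.node (nat_lit 2741) (.leaf [nat_lit 6, nat_lit 3, nat_lit 0, nat_lit 4, nat_lit 2, nat_lit 0]) (.leaf [nat_lit 5, nat_lit 0, nat_lit 4, nat_lit 3, nat_lit 2])) (.node (nat_lit 2743) (.leaf [nat_lit 6, nat_lit 3, nat_lit 1, nat_lit 4, nat_lit 3, nat_lit 1]) (.leaf [nat_lit 0, nat_lit 4, nat_lit 3, nat_lit 4, nat_lit 3, nat_lit 2]))))
 (.node (nat_lit 2748) (.node (nat_lit 2746) (.node (nat_lit 2745) (.leaf [nat_lit 5, nat_lit 2, nat_lit 4, nat_lit 2]) (.leaf [nat_lit 6, nat_lit 3, nat_lit 1, nat_lit 4, nat_lit 1, nat_lit 0])) (.node (nat_lit 2747) (.leaf [nat_lit 1, nat_lit 0, nat_lit 5, nat_lit 1]) (.leaf [nat_lit 5, nat_lit 3, nat_lit 0, nat_lit 4, nat_lit 2])))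
 (.node (nat_lit 2750) (.node (nat_lit 2749) (.leaf [nat_lit 0, nat_lit 6, nat_lit 2, nat_lit 4, nat_lit 2]) (.leaf [nat_lit 5, nat_lit 1, nat_lit 0, nat_lit 6, nat_lit 3, nat_lit 1, nat_lit 0])) (.node (nat_lit 2751) (.leaf [nat_lit 6, nat_lit 4, nat_lit 3]) (.leaf [nat_lit 6, nat_lit 4, nat_lit 0])))))))
 (.node (nat_lit 2784) (.node (nat_lit 2768) (.node (nat_lit 2760) (.node (nat_lit 2756) (.node (nat_lit 2754) (.node (nat_lit 2753) (.leaf [nat_lit 6, nat_lit 2]) (.leaf [nat_lit 2, nat_lit 5, nat_lit 2, nat_lit 4, nat_lit 3, nat_lit 2, nat_lit 0])) (.node (nat_lit 2755) (.leaf [nat_lit 5, nat_lit 1, nat_lit 6, nat_lit 3, nat_lit 2, nat_lit 1, nat_lit 0]) (.leaf [nat_lit 4, nat_lit 2, nat_lit 1, nat_lit 4, nat_lit 2, nat_lit 1])))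
 (.node (nat_lit 2758) (.node (nat_lit 2757) (.leaf [nat_lit 2, nat_lit 0, nat_lit 6, nat_lit 5, nat_lit 0]) (.leaf [nat_lit 2, nat_lit 0, nat_lit 6, nat_lit 5, nat_lit 2])) (.node (nat_lit 2759) (.leaf [nat_lit 4, nat_lit 0, nat_lit 5, nat_lit 0]) (.leaf [nat_lit 1, nat_lit 6, nat_lit 0, nat_lit 5, nat_lit 2, nat_lit 1]))))
 (.node (nat_lit 2764) (.node (nat_lit 2762) (.node (nat_lit 2761) (.leaf [nat_lit 4, nat_lit 2, nat_lit 6, nat_lit 2, nat_lit 0]) (.leaf [nat_lit 2, nat_lit 6, nat_lit 5])) (.node (nat_lit 2763) (.leaf [nat_lit 2, nat_lit 6, nat_lit 3, nat_lit 5, nat_lit 2, nat_lit 0]) (.leaf [nat_lit 0, nat_lit 5, nat_lit 1, nat_lit 5, nat_lit 3, nat_lit 2, nat_lit 1, nat_lit 0])))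
 (.node (nat_lit 2766) (.node (nat_lit 2765) (.leaf [nat_lit 1, nat_lit 6, nat_lit 2, nat_lit 4, nat_lit 3, nat_lit 1, nat_lit 0]) (.leaf [nat_lit 6, nat_lit 3, nat_lit 5, nat_lit 3, nat_lit 2])) (.node (nat_lit 2767) (.leaf [nat_lit 1, nat_lit 6, nat_lit 0, nat_lit 4, nat_lit 1, nat_lit 0]) (.leaf [nat_lit 3, nat_lit 4, nat_lit 3, nat_lit 6, nat_lit 3, nat_lit 2, nat_lit 0])))))
 (.node (nat_lit 2776) (.node (nat_lit 2772) (.node (nat_lit 2770) (.node (nat_lit 2769) (.leaf [nat_lit 5, nat_lit 6, nat_lit 2, nat_lit 5]) (.leaf [nat_lit 4, nat_lit 5, nat_lit 2, nat_lit 4, nat_lit 3])) (.node (nat_lit 2771) (.leaf [nat_lit 6, nat_lit 3, nat_lit 1, nat_lit 5, nat_lit 2, nat_lit 1, nat_lit 0]) (.leaf [nat_lit 6, nat_lit 1, nat_lit 0, nat_lit 6, nat_lit 3, nat_lit 2, nat_lit 1, nat_lit 0])))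
 (.node (nat_lit 2774) (.node (nat_lit 2773) (.leaf [nat_lit 6, nat_lit 3, nat_lit 1, nat_lit 5, nat_lit 3, nat_lit 2, nat_lit 1]) (.leaf [nat_lit 1, nat_lit 0, nat_lit 6, nat_lit 4, nat_lit 1])) (.node (nat_lit 2775) (.leaf [nat_lit 5, nat_lit 1, nat_lit 0, nat_lit 6, nat_lit 3, nat_lit 1]) (.leaf [nat_lit 3, nat_lit 1, nat_lit 6, nat_lit 4, nat_lit 3, nat_lit 2, nat_lit 1]))))
 (.node (nat_lit 2780) (.node (nat_lit 2778) (.node (nat_lit 2777) (.leaf [nat_lit 4, nat_lit 3, nat_lit 4, nat_lit 3, nat_lit 0]) (.leaf [nat_lit 2, nat_lit 1, nat_lit 6, nat_lit 4, nat_lit 3, nat_lit 2, nat_lit 1, nat_lit 0])) (.node (nat_lit 2779) (.leaf [nat_lit 3, nat_lit 6, nat_lit 1, nat_lit 4, nat_lit 3, nat_lit 2, nat_lit 1, nat_lit 0]) (.leaf [nat_lit 3, nat_lit 4, nat_lit 3, nat_lit 6, nat_lit 0])))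
 (.node (nat_lit 2782) (.node (nat_lit 2781) (.leaf [nat_lit 5, nat_lit 3, nat_lit 6, nat_lit 3, nat_lit 2]) (.leaf [nat_lit 5, nat_lit 3, nat_lit 1, nat_lit 4, nat_lit 3, nat_lit 2, nat_lit 1, nat_lit 0])) (.node (nat_lit 2783) (.leaf [nat_lit 1, nat_lit 6, nat_lit 1, nat_lit 4, nat_lit 3]) (.leaf [nat_lit 1, nat_lit 6, nat_lit 0, nat_lit 5, nat_lit 1, nat_lit 0]))))))
 (.node (nat_lit 2800) (.node (nat_lit 2792) (.node (nat_lit 2788) (.node (nat_lit 2786) (.node (nat_lit 2785) (.leaf [nat_lit 6, nat_lit 2, nat_lit 4, nat_lit 3]) (.leaf [nat_lit 5, nat_lit 3, nat_lit 0, nat_lit 4, nat_lit 3, nat_lit 0])) (.node (nat_lit 2787) (.leaf [nat_lit 4, nat_lit 2, nat_lit 6, nat_lit 2]) (.leaf [nat_lit 2, nat_lit 6, nat_lit 1, nat_lit 5, nat_lit 3, nat_lit 1])))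
 (.node (nat_lit 2790) (.node (nat_lit 2789) (.leaf [nat_lit 3, nat_lit 1, nat_lit 4, nat_lit 5, nat_lit 1]) (.leaf [nat_lit 6, nat_lit 3, nat_lit 2, nat_lit 4])) (.node (nat_lit 2791) (.leaf [nat_lit 2, nat_lit 6, nat_lit 0, nat_lit 4]) (.leaf [nat_lit 4, nat_lit 3, nat_lit 1, nat_lit 6, nat_lit 1]))))
 (.node (nat_lit 2796) (.node (nat_lit 2794) (.node (nat_lit 2793) (.leaf [nat_lit 5, nat_lit 3, nat_lit 6, nat_lit 3, nat_lit 0]) (.leaf [nat_lit 2, nat_lit 5, nat_lit 6])) (.node (nat_lit 2795) (.leaf [nat_lit 2, nat_lit 1, nat_lit 6, nat_lit 5, nat_lit 3, nat_lit 2, nat_lit 1, nat_lit 0]) (.leaf [nat_lit 2, nat_lit 1, nat_lit 5, nat_lit 4, nat_lit 1, nat_lit 0])))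
 (.node (nat_lit 2798) (.node (nat_lit 2797) (.leaf [nat_lit 2, nat_lit 1, nat_lit 6, nat_lit 5, nat_lit 2, nat_lit 1]) (.leaf [nat_lit 2, nat_lit 1, nat_lit 6, nat_lit 5, nat_lit 1, nat_lit 0])) (.node (nat_lit 2799) (.leaf [nat_lit 2, nat_lit 6, nat_lit 5, nat_lit 3, nat_lit 2, nat_lit 0]) (.leaf [nat_lit 4, nat_lit 2, nat_lit 1, nat_lit 4, nat_lit 1])))))
 (.node (nat_lit 2808) (.node (nat_lit 2804) (.node (nat_lit 2802) (.node (nat_lit 2801) (.leaf [nat_lit 6, nat_lit 4, nat_lit 3, nat_lit 2, nat_lit 0]) (.leaf [nat_lit 0, nat_lit 6, nat_lit 2, nat_lit 5, nat_lit 2, nat_lit 0])) (.node (nat_lit 2803) (.leaf [nat_lit 0, nat_lit 6, nat_lit 2, nat_lit 5, nat_lit 3, nat_lit 2]) (.leaf [nat_lit 3, nat_lit 6, nat_lit 1, nat_lit 4, nat_lit 1])))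
 (.node (nat_lit 2806) (.node (nat_lit 2805) (.leaf [nat_lit 5, nat_lit 3, nat_lit 6, nat_lit 3]) (.leaf [nat_lit 5, nat_lit 0, nat_lit 6, nat_lit 3, nat_lit 2])) (.node (nat_lit 2807) (.leaf [nat_lit 0]) (.leaf [nat_lit 1, nat_lit 0, nat_lit 6, nat_lit 2, nat_lit 4, nat_lit 3, nat_lit 2, nat_lit 1]))))
 (.node (nat_lit 2812) (.node (nat_lit 2810) (.node (nat_lit 2809) (.leaf [nat_lit 1, nat_lit 0, nat_lit 6, nat_lit 4, nat_lit 3, nat_lit 2, nat_lit 1, nat_lit 0]) (.leaf [nat_lit 5, nat_lit 1, nat_lit 0, nat_lit 6, nat_lit 3, nat_lit 2, nat_lit 1])) (.node (nat_lit 2811) (.leaf [nat_lit 2, nat_lit 6, nat_lit 1, nat_lit 4, nat_lit 1]) (.leaf [nat_lit 5, nat_lit 2, nat_lit 0, nat_lit 6, nat_lit 0])))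
 (.node (nat_lit 2814) (.node (nat_lit 2813) (.leaf [nat_lit 1, nat_lit 6, nat_lit 0, nat_lit 4, nat_lit 3, nat_lit 2, nat_lit 1, nat_lit 0]) (.leaf [nat_lit 6, nat_lit 1, nat_lit 4, nat_lit 1])) (.node (nat_lit 2815) (.leaf [nat_lit 6, nat_lit 1, nat_lit 4, nat_lit 3, nat_lit 1, nat_lit 0]) (.leaf [nat_lit 0, nat_lit 4, nat_lit 5, nat_lit 3, nat_lit 2])))))))))
noncomputable def bWT_11 : Tr (List ℕ) := (.node (nat_lit 2944) (.node (nat_lit 2880) (.node (nat_lit 2848) (.node (nat_lit 2832) (.node (nat_lit 2824) (.node (nat_lit 2820) (.node (nat_lit 2818) (.node (nat_lit 2817) (.leaf [nat_lit 2, nat_lit 4, nat_lit 5, nat_lit 2]) (.leaf [nat_lit 6, nat_lit 1, nat_lit 4, nat_lit 3, nat_lit 2, nat_lit 1, nat_lit 0])) (.node (nat_lit 2819) (.leaf [nat_lit 0, nat_lit 5, nat_lit 4, nat_lit 3, nat_lit 2]) (.leaf [nat_lit 5, nat_lit 0, nat_lit 5, nat_lit 2])))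
 (.node (nat_lit 2822) (.node (nat_lit 2821) (.leaf [nat_lit 5, nat_lit 2, nat_lit 5, nat_lit 0]) (.leaf [nat_lit 4, nat_lit 5, nat_lit 3, nat_lit 2, nat_lit 0])) (.node (nat_lit 2823) (.leaf [nat_lit 1, nat_lit 4, nat_lit 2, nat_lit 4, nat_lit 1, nat_lit 0]) (.leaf [nat_lit 5, nat_lit 2, nat_lit 0, nat_lit 6, nat_lit 3]))))
 (.node (nat_lit 2828) (.node (nat_lit 2826) (.node (nat_lit 2825) (.leaf [nat_lit 5, nat_lit 4, nat_lit 3, nat_lit 2, nat_lit 0]) (.leaf [nat_lit 4, nat_lit 3, nat_lit 5, nat_lit 3])) (.node (nat_lit 2827) (.leaf [nat_lit 3, nat_lit 4, nat_lit 5, nat_lit 3]) (.leaf [nat_lit 2, nat_lit 1, nat_lit 6, nat_lit 4, nat_lit 3, nat_lit 1, nat_lit 0])))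
 (.node (nat_lit 2830) (.node (nat_lit 2829) (.leaf [nat_lit 2, nat_lit 5, nat_lit 6, nat_lit 3, nat_lit 2, nat_lit 0]) (.leaf [nat_lit 4, nat_lit 3, nat_lit 2, nat_lit 4, nat_lit 3, nat_lit 2, nat_lit 0])) (.node (nat_lit 2831) (.leaf [nat_lit 6, nat_lit 2, nat_lit 5]) (.leaf [nat_lit 1, nat_lit 0, nat_lit 6, nat_lit 2, nat_lit 4, nat_lit 2, nat_lit 1, nat_lit 0])))))
 (.node (nat_lit 2840) (.node (nat_lit 2836) (.node (nat_lit 2834) (.node (nat_lit 2833) (.leaf [nat_lit 6, nat_lit 3, nat_lit 4, nat_lit 2]) (.leaf [nat_lit 2, nat_lit 6, nat_lit 0, nat_lit 4, nat_lit 3])) (.node (nat_lit 2835) (.leaf [nat_lit 5, nat_lit 3, nat_lit 2, nat_lit 5, nat_lit 3, nat_lit 0]) (.leaf [nat_lit 5, nat_lit 4])))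
 (.node (nat_lit 2838) (.node (nat_lit 2837) (.leaf [nat_lit 4, nat_lit 3, nat_lit 0, nat_lit 4, nat_lit 3, nat_lit 2]) (.leaf [nat_lit 0, nat_lit 6, nat_lit 5, nat_lit 3])) (.node (nat_lit 2839) (.leaf [nat_lit 4, nat_lit 3, nat_lit 5, nat_lit 2, nat_lit 0]) (.leaf [nat_lit 0, nat_lit 6, nat_lit 0, nat_lit 4, nat_lit 3, nat_lit 2, nat_lit 0]))))
 (.node (nat_lit 2844) (.node (nat_lit 2842) (.node (nat_lit 2841) (.leaf [nat_lit 6, nat_lit 3, nat_lit 1, nat_lit 4, nat_lit 2, nat_lit 1, nat_lit 0]) (.leaf [nat_lit 6, nat_lit 3, nat_lit 1, nat_lit 5, nat_lit 3, nat_lit 1])) (.node (nat_lit 2843) (.leaf [nat_lit 0, nat_lit 5, nat_lit 2, nat_lit 5, nat_lit 2]) (.leaf [nat_lit 4, nat_lit 2, nat_lit 6, nat_lit 0])))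
 (.node (nat_lit 2846) (.node (nat_lit 2845) (.leaf [nat_lit 1, nat_lit 6, nat_lit 3, nat_lit 4, nat_lit 2, nat_lit 1]) (.leaf [nat_lit 2, nat_lit 6, nat_lit 0, nat_lit 4, nat_lit 2])) (.node (nat_lit 2847) (.leaf [nat_lit 2, nat_lit 6, nat_lit 1, nat_lit 5, nat_lit 3, nat_lit 2, nat_lit 1, nat_lit 0]) (.leaf [nat_lit 3, nat_lit 5, nat_lit 3, nat_lit 4]))))))
 (.node (nat_lit 2864) (.node (nat_lit 2856) (.node (nat_lit 2852) (.node (nat_lit 2850) (.node (nat_lit 2849) (.leaf [nat_lit 4, nat_lit 3, nat_lit 6, nat_lit 2]) (.leaf [nat_lit 0, nat_lit 4, nat_lit 5, nat_lit 0])) (.node (nat_lit 2851) (.leaf [nat_lit 2, nat_lit 1, nat_lit 6, nat_lit 4, nat_lit 3, nat_lit 1]) (.leaf [nat_lit 0, nat_lit 5, nat_lit 3, nat_lit 4, nat_lit 3, nat_lit 0])))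
 (.node (nat_lit 2854) (.node (nat_lit 2853) (.leaf [nat_lit 2, nat_lit 6, nat_lit 4, nat_lit 3]) (.leaf [nat_lit 2, nat_lit 5, nat_lit 3, nat_lit 4, nat_lit 0])) (.node (nat_lit 2855) (.leaf [nat_lit 3, nat_lit 4, nat_lit 3, nat_lit 6, nat_lit 2, nat_lit 0]) (.leaf [nat_lit 0, nat_lit 6, nat_lit 2, nat_lit 6]))))
 (.node (nat_lit 2860) (.node (nat_lit 2858) (.node (nat_lit 2857) (.leaf [nat_lit 4, nat_lit 1, nat_lit 5, nat_lit 3, nat_lit 2, nat_lit 1, nat_lit 0]) (.leaf [nat_lit 3, nat_lit 4, nat_lit 3, nat_lit 6, nat_lit 3, nat_lit 2])) (.node (nat_lit 2859) (.leaf [nat_lit 5, nat_lit 0, nat_lit 6]) (.leaf [nat_lit 6, nat_lit 3, nat_lit 0, nat_lit 4, nat_lit 3])))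
 (.node (nat_lit 2862) (.node (nat_lit 2861) (.leaf [nat_lit 3, nat_lit 6, nat_lit 0, nat_lit 4, nat_lit 0]) (.leaf [nat_lit 4, nat_lit 3, nat_lit 1, nat_lit 5, nat_lit 3, nat_lit 1])) (.node (nat_lit 2863) (.leaf [nat_lit 6, nat_lit 2, nat_lit 6, nat_lit 0]) (.leaf [nat_lit 3, nat_lit 5, nat_lit 4, nat_lit 2, nat_lit 0])))))
 (.node (nat_lit 2872) (.node (nat_lit 2868) (.node (nat_lit 2866) (.node (nat_lit 2865) (.leaf [nat_lit 1, nat_lit 0, nat_lit 6, nat_lit 5, nat_lit 1, nat_lit 0]) (.leaf [nat_lit 0, nat_lit 4, nat_lit 3, nat_lit 0, nat_lit 4, nat_lit 3, nat_lit 2, nat_lit 0])) (.node (nat_lit 2867) (.leaf [nat_lit 0, nat_lit 6, nat_lit 2, nat_lit 5, nat_lit 3]) (.leaf [nat_lit 3, nat_lit 4, nat_lit 5, nat_lit 2, nat_lit 0])))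
 (.node (nat_lit 2870) (.node (nat_lit 2869) (.leaf [nat_lit 5, nat_lit 3, nat_lit 4, nat_lit 3]) (.leaf [nat_lit 5, nat_lit 6, nat_lit 2])) (.node (nat_lit 2871) (.leaf [nat_lit 2, nat_lit 6, nat_lit 0, nat_lit 5, nat_lit 3, nat_lit 2]) (.leaf [nat_lit 4, nat_lit 0, nat_lit 4]))))
 (.node (nat_lit 2876) (.node (nat_lit 2874) (.node (nat_lit 2873) (.leaf [nat_lit 6, nat_lit 0, nat_lit 5, nat_lit 2, nat_lit 0]) (.leaf [nat_lit 3, nat_lit 1, nat_lit 6, nat_lit 4, nat_lit 3, nat_lit 1])) (.node (nat_lit 2875) (.leaf [nat_lit 6, nat_lit 4, nat_lit 3, nat_lit 2]) (.leaf [nat_lit 0, nat_lit 6, nat_lit 4, nat_lit 3, nat_lit 2])))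
 (.node (nat_lit 2878) (.node (nat_lit 2877) (.leaf [nat_lit 2, nat_lit 1, nat_lit 6, nat_lit 5, nat_lit 1]) (.leaf [nat_lit 4, nat_lit 2, nat_lit 4, nat_lit 0])) (.node (nat_lit 2879) (.leaf [nat_lit 2, nat_lit 1, nat_lit 6, nat_lit 5, nat_lit 3, nat_lit 1, nat_lit 0]) (.leaf [nat_lit 5, nat_lit 3, nat_lit 4, nat_lit 2, nat_lit 0])))))))
 (.node (nat_lit 2912) (.node (nat_lit 2896) (.node (nat_lit 2888) (.node (nat_lit 2884) (.node (nat_lit 2882) (.node (nat_lit 2881) (.leaf [nat_lit 2, nat_lit 6, nat_lit 4, nat_lit 3, nat_lit 0]) (.leaf [nat_lit 6, nat_lit 1, nat_lit 5, nat_lit 3, nat_lit 2, nat_lit 1, nat_lit 0])) (.node (nat_lit 2883) (.leaf [nat_lit 1, nat_lit 6, nat_lit 0, nat_lit 4, nat_lit 2, nat_lit 1, nat_lit 0]) (.leaf [nat_lit 1, nat_lit 6, nat_lit 0, nat_lit 5, nat_lit 3, nat_lit 1])))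
 (.node (nat_lit 2886) (.node (nat_lit 2885) (.leaf [nat_lit 6, nat_lit 2, nat_lit 1, nat_lit 6, nat_lit 3, nat_lit 2, nat_lit 1]) (.leaf [nat_lit 1, nat_lit 6, nat_lit 2, nat_lit 4, nat_lit 3, nat_lit 2, nat_lit 1, nat_lit 0])) (.node (nat_lit 2887) (.leaf [nat_lit 1, nat_lit 6, nat_lit 4, nat_lit 3, nat_lit 2, nat_lit 1]) (.leaf [nat_lit 0, nat_lit 6, nat_lit 4]))))
 (.node (nat_lit 2892) (.node (nat_lit 2890) (.node (nat_lit 2889) (.leaf [nat_lit 1, nat_lit 5, nat_lit 6, nat_lit 1]) (.leaf [nat_lit 1, nat_lit 5, nat_lit 2, nat_lit 4, nat_lit 3, nat_lit 2, nat_lit 1])) (.node (nat_lit 2891) (.leaf [nat_lit 3, nat_lit 6, nat_lit 4, nat_lit 3, nat_lit 0]) (.leaf [nat_lit 4, nat_lit 3, nat_lit 1, nat_lit 6, nat_lit 3, nat_lit 2, nat_lit 1, nat_lit 0])))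
 (.node (nat_lit 2894) (.node (nat_lit 2893) (.leaf [nat_lit 2, nat_lit 5, nat_lit 3, nat_lit 4, nat_lit 3, nat_lit 2]) (.leaf [nat_lit 6, nat_lit 2, nat_lit 0, nat_lit 4, nat_lit 2, nat_lit 0])) (.node (nat_lit 2895) (.leaf [nat_lit 0, nat_lit 6, nat_lit 0, nat_lit 4, nat_lit 3, nat_lit 2]) (.leaf [nat_lit 0, nat_lit 6, nat_lit 1, nat_lit 4, nat_lit 1, nat_lit 0])))))
 (.node (nat_lit 2904) (.node (nat_lit 2900) (.node (nat_lit 2898) (.node (nat_lit 2897) (.leaf [nat_lit 4, nat_lit 1, nat_lit 4, nat_lit 1]) (.leaf [nat_lit 2, nat_lit 5, nat_lit 4, nat_lit 2])) (.node (nat_lit 2899) (.leaf [nat_lit 0, nat_lit 6, nat_lit 1, nat_lit 4, nat_lit 3, nat_lit 1]) (.leaf [nat_lit 3, nat_lit 5, nat_lit 3, nat_lit 4, nat_lit 3, nat_lit 2, nat_lit 0])))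
 (.node (nat_lit 2902) (.node (nat_lit 2901) (.leaf [nat_lit 6, nat_lit 2, nat_lit 4, nat_lit 3, nat_lit 2]) (.leaf [nat_lit 4, nat_lit 0, nat_lit 4, nat_lit 2])) (.node (nat_lit 2903) (.leaf [nat_lit 6, nat_lit 3, nat_lit 1, nat_lit 5, nat_lit 1, nat_lit 0]) (.leaf [nat_lit 6, nat_lit 5, nat_lit 3, nat_lit 2, nat_lit 0]))))
 (.node (nat_lit 2908) (.node (nat_lit 2906) (.node (nat_lit 2905) (.leaf [nat_lit 2, nat_lit 4, nat_lit 5, nat_lit 3, nat_lit 0]) (.leaf [nat_lit 1, nat_lit 6, nat_lit 3, nat_lit 4, nat_lit 2, nat_lit 1, nat_lit 0])) (.node (nat_lit 2907) (.leaf [nat_lit 1, nat_lit 6, nat_lit 5, nat_lit 2, nat_lit 1, nat_lit 0]) (.leaf [nat_lit 5, nat_lit 0, nat_lit 6, nat_lit 3])))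
 (.node (nat_lit 2910) (.node (nat_lit 2909) (.leaf [nat_lit 6, nat_lit 2, nat_lit 6, nat_lit 2, nat_lit 0]) (.leaf [nat_lit 1, nat_lit 6, nat_lit 4, nat_lit 3, nat_lit 2, nat_lit 1, nat_lit 0])) (.node (nat_lit 2911) (.leaf [nat_lit 6, nat_lit 3, nat_lit 0, nat_lit 4, nat_lit 2]) (.leaf [nat_lit 5, nat_lit 1, nat_lit 6, nat_lit 3, nat_lit 1, nat_lit 0]))))))
 (.node (nat_lit 2928) (.node (nat_lit 2920) (.node (nat_lit 2916) (.node (nat_lit 2914) (.node (nat_lit 2913) (.leaf [nat_lit 0, nat_lit 5, nat_lit 2, nat_lit 5]) (.leaf [nat_lit 5, nat_lit 1, nat_lit 6, nat_lit 1])) (.node (nat_lit 2915) (.leaf [nat_lit 4, nat_lit 1, nat_lit 5, nat_lit 1]) (.leaf [nat_lit 1, nat_lit 0, nat_lit 6, nat_lit 2, nat_lit 4, nat_lit 2, nat_lit 1])))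
 (.node (nat_lit 2918) (.node (nat_lit 2917) (.leaf [nat_lit 1, nat_lit 5, nat_lit 0, nat_lit 6, nat_lit 2, nat_lit 1, nat_lit 0]) (.leaf [nat_lit 6, nat_lit 3, nat_lit 2, nat_lit 4, nat_lit 2])) (.node (nat_lit 2919) (.leaf [nat_lit 2, nat_lit 6, nat_lit 5, nat_lit 3, nat_lit 0]) (.leaf [nat_lit 4, nat_lit 3, nat_lit 0, nat_lit 4, nat_lit 3]))))
 (.node (nat_lit 2924) (.node (nat_lit 2922) (.node (nat_lit 2921) (.leaf [nat_lit 3, nat_lit 6, nat_lit 1, nat_lit 4, nat_lit 3, nat_lit 1]) (.leaf [nat_lit 1, nat_lit 5, nat_lit 2, nat_lit 4, nat_lit 1, nat_lit 0])) (.node (nat_lit 2923) (.leaf [nat_lit 3, nat_lit 6, nat_lit 4, nat_lit 3, nat_lit 2, nat_lit 0]) (.leaf [nat_lit 5, nat_lit 1, nat_lit 0, nat_lit 5, nat_lit 3, nat_lit 1, nat_lit 0])))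
 (.node (nat_lit 2926) (.node (nat_lit 2925) (.leaf [nat_lit 3, nat_lit 6, nat_lit 4, nat_lit 2]) (.leaf [nat_lit 3, nat_lit 6, nat_lit 4])) (.node (nat_lit 2927) (.leaf [nat_lit 4, nat_lit 3, nat_lit 1, nat_lit 0, nat_lit 4, nat_lit 3, nat_lit 1, nat_lit 0]) (.leaf [nat_lit 5, nat_lit 6, nat_lit 3, nat_lit 2, nat_lit 0])))))
 (.node (nat_lit 2936) (.node (nat_lit 2932) (.node (nat_lit 2930) (.node (nat_lit 2929) (.leaf [nat_lit 4, nat_lit 2, nat_lit 0, nat_lit 4, nat_lit 2]) (.leaf [nat_lit 6, nat_lit 3, nat_lit 2, nat_lit 4, nat_lit 3, nat_lit 2, nat_lit 0])) (.node (nat_lit 2931) (.leaf [nat_lit 0, nat_lit 6, nat_lit 0, nat_lit 5, nat_lit 2]) (.leaf [nat_lit 4, nat_lit 3, nat_lit 6, nat_lit 2, nat_lit 0])))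
 (.node (nat_lit 2934) (.node (nat_lit 2933) (.leaf [nat_lit 2, nat_lit 6, nat_lit 3, nat_lit 5, nat_lit 3, nat_lit 2]) (.leaf [nat_lit 3, nat_lit 1, nat_lit 4, nat_lit 5, nat_lit 3, nat_lit 2, nat_lit 1, nat_lit 0])) (.node (nat_lit 2935) (.leaf [nat_lit 4, nat_lit 2, nat_lit 6, nat_lit 3, nat_lit 0]) (.leaf [nat_lit 6, nat_lit 2, nat_lit 5, nat_lit 2]))))
 (.node (nat_lit 2940) (.node (nat_lit 2938) (.node (nat_lit 2937) (.leaf [nat_lit 1, nat_lit 6, nat_lit 4, nat_lit 2, nat_lit 1]) (.leaf [nat_lit 2, nat_lit 5, nat_lit 6, nat_lit 3, nat_lit 0])) (.node (nat_lit 2939) (.leaf [nat_lit 1, nat_lit 6, nat_lit 0, nat_lit 6, nat_lit 1]) (.leaf [nat_lit 0, nat_lit 6, nat_lit 0, nat_lit 4, nat_lit 2, nat_lit 0])))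
 (.node (nat_lit 2942) (.node (nat_lit 2941) (.leaf [nat_lit 6, nat_lit 2, nat_lit 4, nat_lit 0]) (.leaf [nat_lit 6, nat_lit 3, nat_lit 6, nat_lit 3, nat_lit 2, nat_lit 0])) (.node (nat_lit 2943) (.leaf [nat_lit 2, nat_lit 6, nat_lit 1, nat_lit 4, nat_lit 3, nat_lit 1, nat_lit 0]) (.leaf [nat_lit 4, nat_lit 3, nat_lit 2, nat_lit 4, nat_lit 3, nat_lit 0]))))))))
 (.node (nat_lit 3008) (.node (nat_lit 2976) (.node (nat_lit 2960) (.node (nat_lit 2952) (.node (nat_lit 2948) (.node (nat_lit 2946) (.node (nat_lit 2945) (.leaf [nat_lit 2, nat_lit 6, nat_lit 3, nat_lit 5, nat_lit 0]) (.leaf [nat_lit 0, nat_lit 5, nat_lit 3, nat_lit 4, nat_lit 2])) (.node (nat_lit 2947) (.leaf [nat_lit 2, nat_lit 0, nat_lit 6, nat_lit 5, nat_lit 3, nat_lit 2]) (.leaf [nat_lit 5, nat_lit 0, nat_lit 5])))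
 (.node (nat_lit 2950) (.node (nat_lit 2949) (.leaf [nat_lit 5, nat_lit 6]) (.leaf [nat_lit 6, nat_lit 2, nat_lit 1, nat_lit 6, nat_lit 3, nat_lit 1])) (.node (nat_lit 2951) (.leaf [nat_lit 5, nat_lit 6, nat_lit 3, nat_lit 0]) (.leaf [nat_lit 2, nat_lit 5, nat_lit 4, nat_lit 3, nat_lit 0]))))
 (.node (nat_lit 2956) (.node (nat_lit 2954) (.node (nat_lit 2953) (.leaf [nat_lit 6, nat_lit 4, nat_lit 5, nat_lit 4]) (.leaf [nat_lit 1, nat_lit 0, nat_lit 6, nat_lit 4, nat_lit 2, nat_lit 1, nat_lit 0])) (.node (nat_lit 2955) (.leaf [nat_lit 1, nat_lit 0, nat_lit 6, nat_lit 5, nat_lit 3, nat_lit 1]) (.leaf [nat_lit 4, nat_lit 2, nat_lit 4, nat_lit 2, nat_lit 0])))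
 (.node (nat_lit 2958) (.node (nat_lit 2957) (.leaf [nat_lit 6, nat_lit 0, nat_lit 4, nat_lit 2]) (.leaf [nat_lit 5, nat_lit 2, nat_lit 6])) (.node (nat_lit 2959) (.leaf [nat_lit 0, nat_lit 6, nat_lit 2, nat_lit 4]) (.leaf [nat_lit 3, nat_lit 4, nat_lit 0, nat_lit 4, nat_lit 3, nat_lit 2])))))
 (.node (nat_lit 2968) (.node (nat_lit 2964) (.node (nat_lit 2962) (.node (nat_lit 2961) (.leaf [nat_lit 0, nat_lit 6, nat_lit 2, nat_lit 4, nat_lit 3, nat_lit 0]) (.leaf [nat_lit 2, nat_lit 6, nat_lit 4, nat_lit 2, nat_lit 0])) (.node (nat_lit 2963) (.leaf [nat_lit 0, nat_lit 6, nat_lit 4, nat_lit 3, nat_lit 0]) (.leaf [nat_lit 4, nat_lit 3, nat_lit 1, nat_lit 5, nat_lit 2, nat_lit 1, nat_lit 0])))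
 (.node (nat_lit 2966) (.node (nat_lit 2965) (.leaf [nat_lit 4, nat_lit 2, nat_lit 6, nat_lit 3, nat_lit 2]) (.leaf [nat_lit 4, nat_lit 3, nat_lit 1, nat_lit 6, nat_lit 3, nat_lit 1, nat_lit 0])) (.node (nat_lit 2967) (.leaf [nat_lit 4, nat_lit 3, nat_lit 6]) (.leaf [nat_lit 1, nat_lit 0]))))
 (.node (nat_lit 2972) (.node (nat_lit 2970) (.node (nat_lit 2969) (.leaf [nat_lit 5, nat_lit 6, nat_lit 0, nat_lit 4, nat_lit 3, nat_lit 0]) (.leaf [nat_lit 4, nat_lit 2, nat_lit 6, nat_lit 5, nat_lit 2, nat_lit 0])) (.node (nat_lit 2971) (.leaf [nat_lit 4, nat_lit 2, nat_lit 6, nat_lit 5, nat_lit 3, nat_lit 2]) (.leaf [nat_lit 6, nat_lit 0, nat_lit 4])))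
 (.node (nat_lit 2974) (.node (nat_lit 2973) (.leaf [nat_lit 6, nat_lit 2, nat_lit 1, nat_lit 6, nat_lit 3, nat_lit 2]) (.leaf [nat_lit 5, nat_lit 0, nat_lit 6, nat_lit 0, nat_lit 4, nat_lit 3])) (.node (nat_lit 2975) (.leaf [nat_lit 0, nat_lit 4, nat_lit 3, nat_lit 4, nat_lit 2, nat_lit 1, nat_lit 0]) (.leaf [nat_lit 6, nat_lit 5, nat_lit 2, nat_lit 4, nat_lit 0]))))))
 (.node (nat_lit 2992) (.node (nat_lit 2984) (.node (nat_lit 2980) (.node (nat_lit 2978) (.node (nat_lit 2977) (.leaf [nat_lit 6, nat_lit 2, nat_lit 6, nat_lit 3, nat_lit 1]) (.leaf [nat_lit 0, nat_lit 4, nat_lit 3, nat_lit 2])) (.node (nat_lit 2979) (.leaf [nat_lit 6, nat_lit 5, nat_lit 0, nat_lit 4, nat_lit 3, nat_lit 0]) (.leaf [nat_lit 3, nat_lit 1, nat_lit 0, nat_lit 6, nat_lit 1])))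
 (.node (nat_lit 2982) (.node (nat_lit 2981) (.leaf [nat_lit 5, nat_lit 2, nat_lit 5, nat_lit 6, nat_lit 2]) (.leaf [nat_lit 1, nat_lit 0, nat_lit 6, nat_lit 2, nat_lit 4, nat_lit 1, nat_lit 0])) (.node (nat_lit 2983) (.leaf [nat_lit 1, nat_lit 0, nat_lit 6, nat_lit 2, nat_lit 4, nat_lit 3, nat_lit 1]) (.leaf [nat_lit 1, nat_lit 6, nat_lit 1, nat_lit 4, nat_lit 0]))))
 (.node (nat_lit 2988) (.node (nat_lit 2986) (.node (nat_lit 2985) (.leaf [nat_lit 2, nat_lit 6, nat_lit 4, nat_lit 3, nat_lit 2]) (.leaf [nat_lit 4, nat_lit 5])) (.node (nat_lit 2987) (.leaf [nat_lit 3, nat_lit 6, nat_lit 1, nat_lit 4, nat_lit 2, nat_lit 1, nat_lit 0]) (.leaf [nat_lit 3, nat_lit 6, nat_lit 1, nat_lit 4, nat_lit 3, nat_lit 2, nat_lit 1])))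
 (.node (nat_lit 2990) (.node (nat_lit 2989) (.leaf [nat_lit 6, nat_lit 4, nat_lit 1, nat_lit 4, nat_lit 2, nat_lit 1]) (.leaf [nat_lit 0, nat_lit 6, nat_lit 0, nat_lit 4, nat_lit 3])) (.node (nat_lit 2991) (.leaf [nat_lit 1, nat_lit 6, nat_lit 5, nat_lit 4, nat_lit 3, nat_lit 2, nat_lit 1, nat_lit 0]) (.leaf [nat_lit 3, nat_lit 5, nat_lit 4, nat_lit 3])))))
 (.node (nat_lit 3000) (.node (nat_lit 2996) (.node (nat_lit 2994) (.node (nat_lit 2993) (.leaf [nat_lit 1, nat_lit 6, nat_lit 5, nat_lit 4, nat_lit 2, nat_lit 1]) (.leaf [nat_lit 6, nat_lit 3, nat_lit 4])) (.node (nat_lit 2995) (.leaf [nat_lit 1, nat_lit 6, nat_lit 3, nat_lit 4, nat_lit 3, nat_lit 2, nat_lit 1]) (.leaf [nat_lit 2, nat_lit 6, nat_lit 4, nat_lit 2, nat_lit 4, nat_lit 0])))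
 (.node (nat_lit 2998) (.node (nat_lit 2997) (.leaf [nat_lit 5, nat_lit 6, nat_lit 1, nat_lit 4, nat_lit 3, nat_lit 1, nat_lit 0]) (.leaf [nat_lit 6, nat_lit 0, nat_lit 4, nat_lit 3, nat_lit 0])) (.node (nat_lit 2999) (.leaf [nat_lit 6, nat_lit 4, nat_lit 5, nat_lit 0]) (.leaf [nat_lit 5, nat_lit 0, nat_lit 5, nat_lit 0, nat_lit 4, nat_lit 3, nat_lit 2, nat_lit 0]))))
 (.node (nat_lit 3004) (.node (nat_lit 3002) (.node (nat_lit 3001) (.leaf [nat_lit 6, nat_lit 5, nat_lit 0, nat_lit 5, nat_lit 3]) (.leaf [nat_lit 3, nat_lit 6, nat_lit 2])) (.node (nat_lit 3003) (.leaf [nat_lit 1, nat_lit 5, nat_lit 6, nat_lit 4, nat_lit 3, nat_lit 1, nat_lit 0]) (.leaf [nat_lit 5, nat_lit 6, nat_lit 3, nat_lit 4])))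
 (.node (nat_lit 3006) (.node (nat_lit 3005) (.leaf [nat_lit 1, nat_lit 0, nat_lit 6, nat_lit 3, nat_lit 1]) (.leaf [nat_lit 5, nat_lit 6, nat_lit 2, nat_lit 5, nat_lit 3])) (.node (nat_lit 3007) (.leaf [nat_lit 5, nat_lit 1, nat_lit 6, nat_lit 5, nat_lit 2, nat_lit 1]) (.leaf [nat_lit 6, nat_lit 3, nat_lit 0])))))))
 (.node (nat_lit 3040) (.node (nat_lit 3024) (.node (nat_lit 3016) (.node (nat_lit 3012) (.node (nat_lit 3010) (.node (nat_lit 3009) (.leaf [nat_lit 6]) (.leaf [nat_lit 6, nat_lit 0, nat_lit 5, nat_lit 3, nat_lit 2])) (.node (nat_lit 3011) (.leaf [nat_lit 2, nat_lit 6, nat_lit 1, nat_lit 5, nat_lit 1]) (.leaf [nat_lit 1, nat_lit 5, nat_lit 0, nat_lit 6, nat_lit 3, nat_lit 2, nat_lit 1])))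
 (.node (nat_lit 3014) (.node (nat_lit 3013) (.leaf [nat_lit 4, nat_lit 5, nat_lit 6, nat_lit 4, nat_lit 3, nat_lit 2, nat_lit 0]) (.leaf [nat_lit 4, nat_lit 3, nat_lit 1, nat_lit 6, nat_lit 2, nat_lit 1])) (.node (nat_lit 3015) (.leaf [nat_lit 6, nat_lit 3, nat_lit 2, nat_lit 4, nat_lit 3, nat_lit 0]) (.leaf [nat_lit 6, nat_lit 3, nat_lit 0, nat_lit 5, nat_lit 3, nat_lit 2, nat_lit 0]))))
 (.node (nat_lit 3020) (.node (nat_lit 3018) (.node (nat_lit 3017) (.leaf [nat_lit 5, nat_lit 3, nat_lit 6, nat_lit 2, nat_lit 0]) (.leaf [nat_lit 0, nat_lit 6, nat_lit 0, nat_lit 5, nat_lit 3, nat_lit 2, nat_lit 0])) (.node (nat_lit 3019) (.leaf [nat_lit 6, nat_lit 3, nat_lit 5, nat_lit 2, nat_lit 0]) (.leaf [nat_lit 0, nat_lit 5, nat_lit 4, nat_lit 0])))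
 (.node (nat_lit 3022) (.node (nat_lit 3021) (.leaf [nat_lit 6, nat_lit 3, nat_lit 6, nat_lit 3, nat_lit 1, nat_lit 0]) (.leaf [nat_lit 6, nat_lit 5, nat_lit 3, nat_lit 4])) (.node (nat_lit 3023) (.leaf [nat_lit 5, nat_lit 6, nat_lit 2, nat_lit 4, nat_lit 2, nat_lit 0]) (.leaf [nat_lit 5, nat_lit 6, nat_lit 2, nat_lit 4, nat_lit 3, nat_lit 2])))))
 (.node (nat_lit 3032) (.node (nat_lit 3028) (.node (nat_lit 3026) (.node (nat_lit 3025) (.leaf [nat_lit 2, nat_lit 6, nat_lit 0, nat_lit 5, nat_lit 3]) (.leaf [nat_lit 0, nat_lit 6, nat_lit 2, nat_lit 6, nat_lit 2, nat_lit 1])) (.node (nat_lit 3027) (.leaf [nat_lit 6, nat_lit 1, nat_lit 5, nat_lit 4, nat_lit 1]) (.leaf [nat_lit 0, nat_lit 6, nat_lit 2, nat_lit 6, nat_lit 1, nat_lit 0])))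
 (.node (nat_lit 3030) (.node (nat_lit 3029) (.leaf [nat_lit 1, nat_lit 6, nat_lit 0, nat_lit 6, nat_lit 2, nat_lit 0]) (.leaf [nat_lit 3, nat_lit 1, nat_lit 5, nat_lit 3, nat_lit 2, nat_lit 1, nat_lit 0])) (.node (nat_lit 3031) (.leaf [nat_lit 4, nat_lit 2, nat_lit 1, nat_lit 4, nat_lit 3]) (.leaf [nat_lit 4, nat_lit 0, nat_lit 6, nat_lit 5, nat_lit 3, nat_lit 0]))))
 (.node (nat_lit 3036) (.node (nat_lit 3034) (.node (nat_lit 3033) (.leaf [nat_lit 2, nat_lit 6, nat_lit 4, nat_lit 5, nat_lit 0]) (.leaf [nat_lit 5, nat_lit 4, nat_lit 5, nat_lit 3, nat_lit 4, nat_lit 1, nat_lit 0])) (.node (nat_lit 3035) (.leaf [nat_lit 5, nat_lit 3, nat_lit 5, nat_lit 2, nat_lit 1]) (.leaf [nat_lit 2, nat_lit 6, nat_lit 5, nat_lit 4, nat_lit 0])))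
 (.node (nat_lit 3038) (.node (nat_lit 3037) (.leaf [nat_lit 1, nat_lit 5, nat_lit 6, nat_lit 3, nat_lit 1, nat_lit 0]) (.leaf [nat_lit 1, nat_lit 5, nat_lit 0, nat_lit 6, nat_lit 3, nat_lit 1])) (.node (nat_lit 3039) (.leaf [nat_lit 6, nat_lit 3, nat_lit 0, nat_lit 5, nat_lit 2]) (.leaf [nat_lit 6, nat_lit 4, nat_lit 1, nat_lit 5, nat_lit 3, nat_lit 1, nat_lit 0]))))))
 (.node (nat_lit 3056) (.node (nat_lit 3048) (.node (nat_lit 3044) (.node (nat_lit 3042) (.node (nat_lit 3041) (.leaf [nat_lit 1, nat_lit 0, nat_lit 6, nat_lit 1, nat_lit 0]) (.leaf [nat_lit 2, nat_lit 6, nat_lit 1, nat_lit 5, nat_lit 2, nat_lit 1])) (.node (nat_lit 3043) (.leaf [nat_lit 6, nat_lit 2, nat_lit 5, nat_lit 3, nat_lit 0]) (.leaf [nat_lit 5, nat_lit 6, nat_lit 4, nat_lit 2])))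
 (.node (nat_lit 3046) (.node (nat_lit 3045) (.leaf [nat_lit 3, nat_lit 2, nat_lit 6, nat_lit 2, nat_lit 0]) (.leaf [nat_lit 3, nat_lit 6, nat_lit 5, nat_lit 4, nat_lit 3, nat_lit 0])) (.node (nat_lit 3047) (.leaf [nat_lit 3, nat_lit 4, nat_lit 5, nat_lit 4]) (.leaf [nat_lit 6, nat_lit 0, nat_lit 5, nat_lit 4, nat_lit 3, nat_lit 2, nat_lit 0]))))
 (.node (nat_lit 3052) (.node (nat_lit 3050) (.node (nat_lit 3049) (.leaf [nat_lit 4, nat_lit 5, nat_lit 6, nat_lit 3, nat_lit 0]) (.leaf [nat_lit 6, nat_lit 4, nat_lit 1, nat_lit 5, nat_lit 2, nat_lit 1, nat_lit 0])) (.node (nat_lit 3051) (.leaf [nat_lit 0, nat_lit 5, nat_lit 6, nat_lit 4, nat_lit 3, nat_lit 0]) (.leaf [nat_lit 6, nat_lit 1, nat_lit 5, nat_lit 4, nat_lit 1, nat_lit 0])))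
 (.node (nat_lit 3054) (.node (nat_lit 3053) (.leaf [nat_lit 4, nat_lit 3, nat_lit 1, nat_lit 0, nat_lit 4]) (.leaf [nat_lit 4, nat_lit 2, nat_lit 5, nat_lit 6, nat_lit 0])) (.node (nat_lit 3055) (.leaf [nat_lit 6, nat_lit 5, nat_lit 2, nat_lit 4, nat_lit 3]) (.leaf [nat_lit 6, nat_lit 5, nat_lit 3, nat_lit 0])))))
 (.node (nat_lit 3064) (.node (nat_lit 3060) (.node (nat_lit 3058) (.node (nat_lit 3057) (.leaf [nat_lit 6, nat_lit 0, nat_lit 6]) (.leaf [nat_lit 6, nat_lit 2, nat_lit 5, nat_lit 3, nat_lit 2, nat_lit 0])) (.node (nat_lit 3059) (.leaf [nat_lit 2, nat_lit 1, nat_lit 6, nat_lit 4, nat_lit 2, nat_lit 1]) (.leaf [nat_lit 4, nat_lit 5, nat_lit 6, nat_lit 4, nat_lit 3, nat_lit 0])))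
 (.node (nat_lit 3062) (.node (nat_lit 3061) (.leaf [nat_lit 3, nat_lit 4, nat_lit 0, nat_lit 4, nat_lit 3]) (.leaf [nat_lit 5, nat_lit 2, nat_lit 5, nat_lit 2, nat_lit 0])) (.node (nat_lit 3063) (.leaf [nat_lit 1, nat_lit 6, nat_lit 4, nat_lit 1]) (.leaf [nat_lit 2, nat_lit 6, nat_lit 1, nat_lit 4, nat_lit 3, nat_lit 2, nat_lit 1, nat_lit 0]))))
 (.node (nat_lit 3068) (.node (nat_lit 3066) (.node (nat_lit 3065) (.leaf [nat_lit 1, nat_lit 0, nat_lit 6, nat_lit 4, nat_lit 1, nat_lit 0]) (.leaf [nat_lit 4, nat_lit 3, nat_lit 1, nat_lit 0, nat_lit 4, nat_lit 3, nat_lit 2, nat_lit 0])) (.node (nat_lit 3067) (.leaf [nat_lit 4, nat_lit 2, nat_lit 4, nat_lit 3, nat_lit 1]) (.leaf [nat_lit 5, nat_lit 6, nat_lit 1, nat_lit 4, nat_lit 1])))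
 (.node (nat_lit 3070) (.node (nat_lit 3069) (.leaf [nat_lit 1, nat_lit 6, nat_lit 0, nat_lit 6, nat_lit 3, nat_lit 2, nat_lit 0]) (.leaf [nat_lit 5, nat_lit 3, nat_lit 4, nat_lit 5, nat_lit 2, nat_lit 0])) (.node (nat_lit 3071) (.leaf [nat_lit 6, nat_lit 4, nat_lit 5, nat_lit 3]) (.leaf [nat_lit 6, nat_lit 4, nat_lit 0, nat_lit 4, nat_lit 0])))))))))
noncomputable def bWT_12 : Tr (List ℕ) := (.node (nat_lit 3200) (.node (nat_lit 3136) (.node (nat_lit 3104) (.node (nat_lit 3088) (.node (nat_lit 3080) (.node (nat_lit 3076) (.node (nat_lit 3074) (.node (nat_lit 3073) (.leaf [nat_lit 4, nat_lit 3, nat_lit 6, nat_lit 1, nat_lit 4, nat_lit 3, nat_lit 2, nat_lit 1, nat_lit 0]) (.leaf [nat_lit 1, nat_lit 6, nat_lit 0, nat_lit 5, nat_lit 3, nat_lit 2, nat_lit 1])) (.node (nat_lit 3075) (.leaf [nat_lit 0, nat_lit 4, nat_lit 3, nat_lit 4, nat_lit 3]) (.leaf [nat_lit 0, nat_lit 5, nat_lit 3, nat_lit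 5, nat_lit 3, nat_lit 1])))
 (.node (nat_lit 3078) (.node (nat_lit 3077) (.leaf [nat_lit 0, nat_lit 5, nat_lit 3, nat_lit 5, nat_lit 3, nat_lit 2, nat_lit 1, nat_lit 0]) (.leaf [nat_lit 2, nat_lit 1, nat_lit 6, nat_lit 3, nat_lit 2, nat_lit 1, nat_lit 0])) (.node (nat_lit 3079) (.leaf [nat_lit 3, nat_lit 4, nat_lit 0, nat_lit 4, nat_lit 3, nat_lit 2, nat_lit 1, nat_lit 0]) (.leaf [nat_lit 5, nat_lit 4, nat_lit 0, nat_lit 4, nat_lit 3, nat_lit 0]))))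
 (.node (nat_lit 3084) (.node (nat_lit 3082) (.node (nat_lit 3081) (.leaf [nat_lit 1, nat_lit 4, nat_lit 2, nat_lit 4, nat_lit 3, nat_lit 2, nat_lit 0]) (.leaf [nat_lit 2, nat_lit 5, nat_lit 6, nat_lit 4, nat_lit 3, nat_lit 2])) (.node (nat_lit 3083) (.leaf [nat_lit 5, nat_lit 6, nat_lit 2, nat_lit 4, nat_lit 0]) (.leaf [nat_lit 5, nat_lit 0, nat_lit 5, nat_lit 3, nat_lit 1])))
 (.node (nat_lit 3086) (.node (nat_lit 3085) (.leaf [nat_lit 3, nat_lit 6, nat_lit 5, nat_lit 4, nat_lit 3, nat_lit 2, nat_lit 0]) (.leaf [nat_lit 6, nat_lit 4, nat_lit 5, nat_lit 4, nat_lit 3, nat_lit 0])) (.node (nat_lit 3087) (.leaf [nat_lit 5, nat_lit 1, nat_lit 5, nat_lit 3, nat_lit 2, nat_lit 1]) (.leaf [nat_lit 6, nat_lit 3, nat_lit 0, nat_lit 5])))))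
 (.node (nat_lit 3096) (.node (nat_lit 3092) (.node (nat_lit 3090) (.node (nat_lit 3089) (.leaf [nat_lit 5, nat_lit 1, nat_lit 0, nat_lit 5, nat_lit 3, nat_lit 2, nat_lit 1, nat_lit 0]) (.leaf [nat_lit 6, nat_lit 0, nat_lit 5, nat_lit 3])) (.node (nat_lit 3091) (.leaf [nat_lit 1, nat_lit 6, nat_lit 5, nat_lit 3, nat_lit 2, nat_lit 1, nat_lit 0]) (.leaf [nat_lit 0, nat_lit 6, nat_lit 2, nat_lit 6, nat_lit 2])))
 (.node (nat_lit 3094) (.node (nat_lit 3093) (.leaf [nat_lit 5, nat_lit 4, nat_lit 5, nat_lit 3, nat_lit 4, nat_lit 3, nat_lit 0]) (.leaf [nat_lit 3, nat_lit 6, nat_lit 2, nat_lit 5, nat_lit 2, nat_lit 0])) (.node (nat_lit 3095) (.leaf [nat_lit 4, nat_lit 3, nat_lit 2, nat_lit 4, nat_lit 2, nat_lit 1, nat_lit 0]) (.leaf [nat_lit 6, nat_lit 1, nat_lit 0, nat_lit 6, nat_lit 0]))))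
 (.node (nat_lit 3100) (.node (nat_lit 3098) (.node (nat_lit 3097) (.leaf [nat_lit 4, nat_lit 3]) (.leaf [nat_lit 2, nat_lit 1, nat_lit 0, nat_lit 6, nat_lit 3, nat_lit 2, nat_lit 1])) (.node (nat_lit 3099) (.leaf [nat_lit 1, nat_lit 5, nat_lit 6, nat_lit 3, nat_lit 2, nat_lit 1, nat_lit 0]) (.leaf [nat_lit 5, nat_lit 1, nat_lit 0, nat_lit 6, nat_lit 1, nat_lit 0])))
 (.node (nat_lit 3102) (.node (nat_lit 3101) (.leaf [nat_lit 0, nat_lit 5, nat_lit 2, nat_lit 5, nat_lit 3, nat_lit 2, nat_lit 1]) (.leaf [nat_lit 6, nat_lit 1, nat_lit 5, nat_lit 2, nat_lit 1])) (.node (nat_lit 3103) (.leaf [nat_lit 4, nat_lit 2, nat_lit 5, nat_lit 4, nat_lit 0]) (.leaf [nat_lit 2, nat_lit 5, nat_lit 6, nat_lit 4, nat_lit 0]))))))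
 (.node (nat_lit 3120) (.node (nat_lit 3112) (.node (nat_lit 3108) (.node (nat_lit 3106) (.node (nat_lit 3105) (.leaf [nat_lit 6, nat_lit 5, nat_lit 2, nat_lit 5, nat_lit 2]) (.leaf [nat_lit 4, nat_lit 2, nat_lit 0, nat_lit 4, nat_lit 1, nat_lit 0])) (.node (nat_lit 3107) (.leaf [nat_lit 6, nat_lit 3, nat_lit 6, nat_lit 3, nat_lit 0]) (.leaf [nat_lit 1, nat_lit 4, nat_lit 2, nat_lit 4, nat_lit 2, nat_lit 1, nat_lit 0])))
 (.node (nat_lit 3110) (.node (nat_lit 3109) (.leaf [nat_lit 0, nat_lit 5, nat_lit 4, nat_lit 5, nat_lit 3, nat_lit 0]) (.leaf [nat_lit 3, nat_lit 1, nat_lit 0, nat_lit 5, nat_lit 1, nat_lit 0])) (.node (nat_lit 3111) (.leaf [nat_lit 1, nat_lit 4, nat_lit 2, nat_lit 0, nat_lit 4, nat_lit 2, nat_lit 1]) (.leaf [nat_lit 4, nat_lit 1, nat_lit 4, nat_lit 2, nat_lit 1]))))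
 (.node (nat_lit 3116) (.node (nat_lit 3114) (.node (nat_lit 3113) (.leaf [nat_lit 2, nat_lit 0, nat_lit 4, nat_lit 3]) (.leaf [nat_lit 2, nat_lit 1, nat_lit 5, nat_lit 1, nat_lit 0])) (.node (nat_lit 3115) (.leaf [nat_lit 3, nat_lit 5, nat_lit 4, nat_lit 5, nat_lit 3]) (.leaf [nat_lit 5, nat_lit 0, nat_lit 5, nat_lit 2, nat_lit 1, nat_lit 0])))
 (.node (nat_lit 3118) (.node (nat_lit 3117) (.leaf [nat_lit 5, nat_lit 1, nat_lit 5, nat_lit 4, nat_lit 3, nat_lit 2, nat_lit 1, nat_lit 0]) (.leaf [nat_lit 6, nat_lit 2, nat_lit 0, nat_lit 4, nat_lit 3, nat_lit 0])) (.node (nat_lit 3119) (.leaf [nat_lit 6, nat_lit 2, nat_lit 4, nat_lit 5, nat_lit 0]) (.leaf [nat_lit 1, nat_lit 5, nat_lit 6, nat_lit 4, nat_lit 2, nat_lit 1])))))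
 (.node (nat_lit 3128) (.node (nat_lit 3124) (.node (nat_lit 3122) (.node (nat_lit 3121) (.leaf [nat_lit 4, nat_lit 2, nat_lit 1, nat_lit 4, nat_lit 2, nat_lit 0]) (.leaf [nat_lit 1, nat_lit 4, nat_lit 1])) (.node (nat_lit 3123) (.leaf [nat_lit 5, nat_lit 1, nat_lit 0, nat_lit 5]) (.leaf [nat_lit 6, nat_lit 5, nat_lit 4, nat_lit 2, nat_lit 0])))
 (.node (nat_lit 3126) (.node (nat_lit 3125) (.leaf [nat_lit 6, nat_lit 0, nat_lit 6, nat_lit 1]) (.leaf [nat_lit 1, nat_lit 4, nat_lit 2, nat_lit 4, nat_lit 2, nat_lit 0])) (.node (nat_lit 3127) (.leaf [nat_lit 4, nat_lit 5, nat_lit 0, nat_lit 5, nat_lit 0]) (.leaf [nat_lit 1, nat_lit 6, nat_lit 3, nat_lit 4, nat_lit 3, nat_lit 1]))))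
 (.node (nat_lit 3132) (.node (nat_lit 3130) (.node (nat_lit 3129) (.leaf [nat_lit 4, nat_lit 2, nat_lit 6, nat_lit 1, nat_lit 4, nat_lit 1, nat_lit 0]) (.leaf [nat_lit 6, nat_lit 5, nat_lit 3, nat_lit 4, nat_lit 3, nat_lit 2, nat_lit 0])) (.node (nat_lit 3131) (.leaf [nat_lit 2, nat_lit 1, nat_lit 6, nat_lit 4, nat_lit 2, nat_lit 1, nat_lit 0]) (.leaf [nat_lit 1, nat_lit 5, nat_lit 6, nat_lit 2, nat_lit 1])))
 (.node (nat_lit 3134) (.node (nat_lit 3133) (.leaf [nat_lit 6, nat_lit 2, nat_lit 4, nat_lit 3, nat_lit 0]) (.leaf [nat_lit 2, nat_lit 0, nat_lit 6, nat_lit 5, nat_lit 2, nat_lit 0])) (.node (nat_lit 3135) (.leaf [nat_lit 6, nat_lit 3, nat_lit 0, nat_lit 4, nat_lit 3, nat_lit 0]) (.leaf [nat_lit 2, nat_lit 6, nat_lit 0, nat_lit 4, nat_lit 2, nat_lit 0])))))))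
 (.node (nat_lit 3168) (.node (nat_lit 3152) (.node (nat_lit 3144) (.node (nat_lit 3140) (.node (nat_lit 3138) (.node (nat_lit 3137) (.leaf [nat_lit 3, nat_lit 6, nat_lit 0, nat_lit 4, nat_lit 2]) (.leaf [nat_lit 1, nat_lit 6, nat_lit 4, nat_lit 1, nat_lit 0])) (.node (nat_lit 3139) (.leaf [nat_lit 2, nat_lit 6, nat_lit 4, nat_lit 2]) (.leaf [nat_lit 3, nat_lit 1, nat_lit 6, nat_lit 4, nat_lit 2, nat_lit 1])))
 (.node (nat_lit 3142) (.node (nat_lit 3141) (.leaf [nat_lit 6, nat_lit 1, nat_lit 4, nat_lit 3, nat_lit 1]) (.leaf [nat_lit 5, nat_lit 0, nat_lit 6, nat_lit 0])) (.node (nat_lit 3143) (.leaf [nat_lit 1, nat_lit 6, nat_lit 3, nat_lit 4, nat_lit 3, nat_lit 1, nat_lit 0]) (.leaf [nat_lit 2, nat_lit 6, nat_lit 1, nat_lit 5, nat_lit 3, nat_lit 1, nat_lit 0]))))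
 (.node (nat_lit 3148) (.node (nat_lit 3146) (.node (nat_lit 3145) (.leaf [nat_lit 1, nat_lit 6, nat_lit 2, nat_lit 4, nat_lit 1]) (.leaf [nat_lit 1, nat_lit 6, nat_lit 0, nat_lit 4, nat_lit 3, nat_lit 1])) (.node (nat_lit 3147) (.leaf [nat_lit 0, nat_lit 6, nat_lit 0, nat_lit 4]) (.leaf [nat_lit 1, nat_lit 0, nat_lit 6, nat_lit 2, nat_lit 4, nat_lit 3, nat_lit 1, nat_lit 0])))
 (.node (nat_lit 3150) (.node (nat_lit 3149) (.leaf [nat_lit 6, nat_lit 3, nat_lit 2, nat_lit 4, nat_lit 0]) (.leaf [nat_lit 4, nat_lit 5, nat_lit 6, nat_lit 4])) (.node (nat_lit 3151) (.leaf [nat_lit 0, nat_lit 6, nat_lit 1, nat_lit 4, nat_lit 3, nat_lit 1, nat_lit 0]) (.leaf [nat_lit 2, nat_lit 6, nat_lit 5, nat_lit 2])))))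
 (.node (nat_lit 3160) (.node (nat_lit 3156) (.node (nat_lit 3154) (.node (nat_lit 3153) (.leaf [nat_lit 6, nat_lit 3, nat_lit 0, nat_lit 4, nat_lit 0]) (.leaf [nat_lit 2, nat_lit 6, nat_lit 1, nat_lit 4, nat_lit 2, nat_lit 1])) (.node (nat_lit 3155) (.leaf [nat_lit 6, nat_lit 3, nat_lit 4, nat_lit 3]) (.leaf [nat_lit 4, nat_lit 3, nat_lit 1, nat_lit 6, nat_lit 1, nat_lit 0])))
 (.node (nat_lit 3158) (.node (nat_lit 3157) (.leaf [nat_lit 0, nat_lit 6, nat_lit 2, nat_lit 4, nat_lit 3, nat_lit 2, nat_lit 0]) (.leaf [nat_lit 4, nat_lit 3, nat_lit 6, nat_lit 3, nat_lit 2, nat_lit 0])) (.node (nat_lit 3159) (.leaf [nat_lit 6, nat_lit 1, nat_lit 4, nat_lit 2, nat_lit 1, nat_lit 0]) (.leaf [nat_lit 6, nat_lit 2, nat_lit 4, nat_lit 2]))))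
 (.node (nat_lit 3164) (.node (nat_lit 3162) (.node (nat_lit 3161) (.leaf [nat_lit 6, nat_lit 3, nat_lit 0, nat_lit 5, nat_lit 3, nat_lit 0]) (.leaf [nat_lit 1, nat_lit 0, nat_lit 6, nat_lit 5, nat_lit 2, nat_lit 1, nat_lit 0])) (.node (nat_lit 3163) (.leaf [nat_lit 6, nat_lit 4, nat_lit 5, nat_lit 4, nat_lit 3, nat_lit 2, nat_lit 0]) (.leaf [nat_lit 6, nat_lit 4])))
 (.node (nat_lit 3166) (.node (nat_lit 3165) (.leaf [nat_lit 4, nat_lit 3, nat_lit 6, nat_lit 3]) (.leaf [nat_lit 2, nat_lit 6, nat_lit 1, nat_lit 4, nat_lit 3, nat_lit 2, nat_lit 1])) (.node (nat_lit 3167) (.leaf [nat_lit 0, nat_lit 6, nat_lit 2, nat_lit 4, nat_lit 3]) (.leaf [nat_lit 3, nat_lit 6, nat_lit 4, nat_lit 2, nat_lit 0]))))))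
 (.node (nat_lit 3184) (.node (nat_lit 3176) (.node (nat_lit 3172) (.node (nat_lit 3170) (.node (nat_lit 3169) (.leaf [nat_lit 0, nat_lit 5, nat_lit 6, nat_lit 4, nat_lit 3]) (.leaf [nat_lit 6, nat_lit 3, nat_lit 1, nat_lit 4, nat_lit 1])) (.node (nat_lit 3171) (.leaf [nat_lit 1, nat_lit 6, nat_lit 2, nat_lit 4, nat_lit 2, nat_lit 1, nat_lit 0]) (.leaf [nat_lit 6, nat_lit 4, nat_lit 5, nat_lit 3, nat_lit 0])))
 (.node (nat_lit 3174) (.node (nat_lit 3173) (.leaf [nat_lit 2, nat_lit 6, nat_lit 2, nat_lit 0]) (.leaf [nat_lit 5, nat_lit 6, nat_lit 1, nat_lit 4, nat_lit 1, nat_lit 0])) (.node (nat_lit 3175) (.leaf [nat_lit 1, nat_lit 0, nat_lit 4, nat_lit 3, nat_lit 2, nat_lit 1]) (.leaf [nat_lit 6, nat_lit 5, nat_lit 2, nat_lit 5, nat_lit 3]))))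
 (.node (nat_lit 3180) (.node (nat_lit 3178) (.node (nat_lit 3177) (.leaf [nat_lit 3, nat_lit 1, nat_lit 6, nat_lit 3, nat_lit 1]) (.leaf [nat_lit 1, nat_lit 6, nat_lit 1])) (.node (nat_lit 3179) (.leaf [nat_lit 1, nat_lit 6, nat_lit 3, nat_lit 1, nat_lit 0]) (.leaf [nat_lit 4, nat_lit 3, nat_lit 1, nat_lit 6, nat_lit 3, nat_lit 2, nat_lit 1])))
 (.node (nat_lit 3182) (.node (nat_lit 3181) (.leaf [nat_lit 6, nat_lit 5]) (.leaf [nat_lit 6, nat_lit 0, nat_lit 5, nat_lit 0])) (.node (nat_lit 3183) (.leaf [nat_lit 2, nat_lit 6, nat_lit 4, nat_lit 0]) (.leaf [nat_lit 4, nat_lit 0, nat_lit 6, nat_lit 5, nat_lit 3])))))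
 (.node (nat_lit 3192) (.node (nat_lit 3188) (.node (nat_lit 3186) (.node (nat_lit 3185) (.leaf [nat_lit 1, nat_lit 6, nat_lit 0, nat_lit 5, nat_lit 2, nat_lit 1, nat_lit 0]) (.leaf [nat_lit 1, nat_lit 6, nat_lit 5, nat_lit 2, nat_lit 1])) (.node (nat_lit 3187) (.leaf [nat_lit 0, nat_lit 6, nat_lit 5, nat_lit 4, nat_lit 3]) (.leaf [nat_lit 5, nat_lit 2, nat_lit 6, nat_lit 2])))
 (.node (nat_lit 3190) (.node (nat_lit 3189) (.leaf [nat_lit 5, nat_lit 0, nat_lit 6, nat_lit 0, nat_lit 4, nat_lit 3, nat_lit 2]) (.leaf [nat_lit 2, nat_lit 6, nat_lit 4, nat_lit 2, nat_lit 4, nat_lit 3, nat_lit 0])) (.node (nat_lit 3191) (.leaf [nat_lit 4, nat_lit 5, nat_lit 4, nat_lit 2, nat_lit 0]) (.leaf [nat_lit 5, nat_lit 1, nat_lit 6, nat_lit 4, nat_lit 3, nat_lit 2, nat_lit 1, nat_lit 0]))))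
 (.node (nat_lit 3196) (.node (nat_lit 3194) (.node (nat_lit 3193) (.leaf [nat_lit 6, nat_lit 4, nat_lit 5, nat_lit 2]) (.leaf [nat_lit 5, nat_lit 3, nat_lit 6, nat_lit 0])) (.node (nat_lit 3195) (.leaf [nat_lit 4, nat_lit 0, nat_lit 6, nat_lit 5, nat_lit 2]) (.leaf [nat_lit 5, nat_lit 2, nat_lit 6, nat_lit 3, nat_lit 2, nat_lit 0])))
 (.node (nat_lit 3198) (.node (nat_lit 3197) (.leaf [nat_lit 0, nat_lit 6, nat_lit 0]) (.leaf [nat_lit 6, nat_lit 3, nat_lit 5, nat_lit 4])) (.node (nat_lit 3199) (.leaf [nat_lit 6, nat_lit 2, nat_lit 4, nat_lit 5, nat_lit 3, nat_lit 2]) (.leaf [nat_lit 2, nat_lit 5, nat_lit 6, nat_lit 4]))))))))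
 (.node (nat_lit 3264) (.node (nat_lit 3232) (.node (nat_lit 3216) (.node (nat_lit 3208) (.node (nat_lit 3204) (.node (nat_lit 3202) (.node (nat_lit 3201) (.leaf [nat_lit 1, nat_lit 6, nat_lit 1, nat_lit 4, nat_lit 3, nat_lit 0]) (.leaf [nat_lit 6, nat_lit 1, nat_lit 5, nat_lit 1])) (.node (nat_lit 3203) (.leaf [nat_lit 2, nat_lit 5, nat_lit 6, nat_lit 2]) (.leaf [nat_lit 0, nat_lit 6, nat_lit 4, nat_lit 0])))
 (.node (nat_lit 3206) (.node (nat_lit 3205) (.leaf [nat_lit 3, nat_lit 6, nat_lit 3, nat_lit 0]) (.leaf [nat_lit 1, nat_lit 6, nat_lit 0, nat_lit 4, nat_lit 1])) (.node (nat_lit 3207) (.leaf [nat_lit 2, nat_lit 6, nat_lit 5, nat_lit 4]) (.leaf [nat_lit 5, nat_lit 4, nat_lit 0, nat_lit 5, nat_lit 3, nat_lit 0]))))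
 (.node (nat_lit 3212) (.node (nat_lit 3210) (.node (nat_lit 3209) (.leaf [nat_lit 5, nat_lit 1, nat_lit 6, nat_lit 5, nat_lit 3, nat_lit 1]) (.leaf [nat_lit 5, nat_lit 6, nat_lit 3, nat_lit 5, nat_lit 0])) (.node (nat_lit 3211) (.leaf [nat_lit 2, nat_lit 6, nat_lit 0, nat_lit 5, nat_lit 2, nat_lit 0]) (.leaf [nat_lit 2, nat_lit 5, nat_lit 6, nat_lit 4, nat_lit 3])))
 (.node (nat_lit 3214) (.node (nat_lit 3213) (.leaf [nat_lit 6, nat_lit 2, nat_lit 5, nat_lit 6, nat_lit 0]) (.leaf [nat_lit 2, nat_lit 6, nat_lit 0, nat_lit 4, nat_lit 3, nat_lit 2, nat_lit 0])) (.node (nat_lit 3215) (.leaf [nat_lit 1, nat_lit 6, nat_lit 4, nat_lit 3, nat_lit 1, nat_lit 0]) (.leaf [nat_lit 1, nat_lit 6, nat_lit 1, nat_lit 4, nat_lit 3, nat_lit 2])))))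
 (.node (nat_lit 3224) (.node (nat_lit 3220) (.node (nat_lit 3218) (.node (nat_lit 3217) (.leaf [nat_lit 6, nat_lit 5, nat_lit 4, nat_lit 0]) (.leaf [nat_lit 5, nat_lit 4, nat_lit 0, nat_lit 5, nat_lit 3, nat_lit 2])) (.node (nat_lit 3219) (.leaf [nat_lit 5, nat_lit 6, nat_lit 5, nat_lit 3, nat_lit 0]) (.leaf [nat_lit 6, nat_lit 0, nat_lit 5, nat_lit 4])))
 (.node (nat_lit 3222) (.node (nat_lit 3221) (.leaf [nat_lit 5, nat_lit 3]) (.leaf [nat_lit 3, nat_lit 6, nat_lit 5, nat_lit 4, nat_lit 2])) (.node (nat_lit 3223) (.leaf [nat_lit 5, nat_lit 3, nat_lit 2, nat_lit 5, nat_lit 3, nat_lit 2, nat_lit 0]) (.leaf [nat_lit 5, nat_lit 0, nat_lit 5, nat_lit 4, nat_lit 3, nat_lit 2]))))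
 (.node (nat_lit 3228) (.node (nat_lit 3226) (.node (nat_lit 3225) (.leaf [nat_lit 3, nat_lit 2, nat_lit 5, nat_lit 2]) (.leaf [nat_lit 6, nat_lit 0, nat_lit 6, nat_lit 2, nat_lit 4, nat_lit 2, nat_lit 0])) (.node (nat_lit 3227) (.leaf [nat_lit 5, nat_lit 6, nat_lit 3, nat_lit 5, nat_lit 2]) (.leaf [nat_lit 6, nat_lit 2, nat_lit 0, nat_lit 4])))
 (.node (nat_lit 3230) (.node (nat_lit 3229) (.leaf [nat_lit 1, nat_lit 6, nat_lit 3, nat_lit 4, nat_lit 1, nat_lit 0]) (.leaf [nat_lit 6, nat_lit 5, nat_lit 4, nat_lit 3, nat_lit 2])) (.node (nat_lit 3231) (.leaf [nat_lit 5, nat_lit 4, nat_lit 3, nat_lit 5, nat_lit 3]) (.leaf [nat_lit 6, nat_lit 0, nat_lit 4, nat_lit 0]))))))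
 (.node (nat_lit 3248) (.node (nat_lit 3240) (.node (nat_lit 3236) (.node (nat_lit 3234) (.node (nat_lit 3233) (.leaf [nat_lit 0, nat_lit 6, nat_lit 2, nat_lit 4, nat_lit 2, nat_lit 0]) (.leaf [nat_lit 5, nat_lit 1, nat_lit 6, nat_lit 4, nat_lit 3, nat_lit 1])) (.node (nat_lit 3235) (.leaf [nat_lit 4, nat_lit 0, nat_lit 6, nat_lit 0, nat_lit 4, nat_lit 3, nat_lit 2]) (.leaf [nat_lit 2, nat_lit 6, nat_lit 4, nat_lit 5, nat_lit 3, nat_lit 2, nat_lit 0])))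
 (.node (nat_lit 3238) (.node (nat_lit 3237) (.leaf [nat_lit 5, nat_lit 4, nat_lit 5, nat_lit 2, nat_lit 0]) (.leaf [nat_lit 0, nat_lit 6])) (.node (nat_lit 3239) (.leaf [nat_lit 6, nat_lit 4, nat_lit 0, nat_lit 5, nat_lit 3, nat_lit 0]) (.leaf [nat_lit 3, nat_lit 6, nat_lit 3]))))
 (.node (nat_lit 3244) (.node (nat_lit 3242) (.node (nat_lit 3241) (.leaf [nat_lit 6, nat_lit 5, nat_lit 1, nat_lit 4, nat_lit 1]) (.leaf [nat_lit 6, nat_lit 1, nat_lit 5, nat_lit 4, nat_lit 3, nat_lit 2, nat_lit 1, nat_lit 0])) (.node (nat_lit 3243) (.leaf [nat_lit 5, nat_lit 6, nat_lit 5]) (.leaf [nat_lit 2, nat_lit 1, nat_lit 0, nat_lit 6, nat_lit 1])))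
 (.node (nat_lit 3246) (.node (nat_lit 3245) (.leaf [nat_lit 5, nat_lit 6, nat_lit 3, nat_lit 4, nat_lit 3, nat_lit 2, nat_lit 0]) (.leaf [nat_lit 3, nat_lit 4, nat_lit 3, nat_lit 6])) (.node (nat_lit 3247) (.leaf [nat_lit 1, nat_lit 6, nat_lit 2, nat_lit 4, nat_lit 3, nat_lit 1]) (.leaf [nat_lit 0, nat_lit 6, nat_lit 1, nat_lit 4, nat_lit 2, nat_lit 1])))))
 (.node (nat_lit 3256) (.node (nat_lit 3252) (.node (nat_lit 3250) (.node (nat_lit 3249) (.leaf [nat_lit 3, nat_lit 0, nat_lit 6, nat_lit 2, nat_lit 0]) (.leaf [nat_lit 3, nat_lit 2, nat_lit 1, nat_lit 4, nat_lit 3, nat_lit 2, nat_lit 1])) (.node (nat_lit 3251) (.leaf [nat_lit 5, nat_lit 6, nat_lit 2, nat_lit 5, nat_lit 2, nat_lit 0]) (.leaf [nat_lit 4, nat_lit 2, nat_lit 5, nat_lit 6, nat_lit 3])))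
 (.node (nat_lit 3254) (.node (nat_lit 3253) (.leaf [nat_lit 2, nat_lit 4, nat_lit 2]) (.leaf [nat_lit 2, nat_lit 6, nat_lit 2])) (.node (nat_lit 3255) (.leaf [nat_lit 6, nat_lit 3, nat_lit 0, nat_lit 4, nat_lit 3, nat_lit 2]) (.leaf [nat_lit 6, nat_lit 3, nat_lit 5, nat_lit 4, nat_lit 3, nat_lit 0]))))
 (.node (nat_lit 3260) (.node (nat_lit 3258) (.node (nat_lit 3257) (.leaf [nat_lit 0, nat_lit 6, nat_lit 4, nat_lit 2]) (.leaf [nat_lit 2, nat_lit 0, nat_lit 6, nat_lit 3, nat_lit 0])) (.node (nat_lit 3259) (.leaf [nat_lit 5, nat_lit 6, nat_lit 3, nat_lit 4, nat_lit 3, nat_lit 0]) (.leaf [nat_lit 1, nat_lit 0, nat_lit 6, nat_lit 4, nat_lit 3, nat_lit 1])))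
 (.node (nat_lit 3262) (.node (nat_lit 3261) (.leaf [nat_lit 4, nat_lit 5, nat_lit 6, nat_lit 3, nat_lit 2]) (.leaf [nat_lit 6, nat_lit 3, nat_lit 4, nat_lit 0, nat_lit 4, nat_lit 3])) (.node (nat_lit 3263) (.leaf [nat_lit 3, nat_lit 0, nat_lit 6, nat_lit 3, nat_lit 0]) (.leaf [nat_lit 0, nat_lit 5, nat_lit 6, nat_lit 4, nat_lit 2])))))))
 (.node (nat_lit 3296) (.node (nat_lit 3280) (.node (nat_lit 3272) (.node (nat_lit 3268) (.node (nat_lit 3266) (.node (nat_lit 3265) (.leaf [nat_lit 3, nat_lit 2, nat_lit 6, nat_lit 3, nat_lit 2]) (.leaf [nat_lit 2, nat_lit 1, nat_lit 6, nat_lit 3, nat_lit 2, nat_lit 1])) (.node (nat_lit 3267) (.leaf [nat_lit 1, nat_lit 6, nat_lit 5, nat_lit 3, nat_lit 1, nat_lit 0]) (.leaf [nat_lit 6, nat_lit 4, nat_lit 2, nat_lit 0])))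
 (.node (nat_lit 3270) (.node (nat_lit 3269) (.leaf [nat_lit 3, nat_lit 6, nat_lit 4, nat_lit 3]) (.leaf [nat_lit 5, nat_lit 2, nat_lit 6, nat_lit 3, nat_lit 0])) (.node (nat_lit 3271) (.leaf [nat_lit 0, nat_lit 4, nat_lit 3, nat_lit 0, nat_lit 4, nat_lit 3, nat_lit 0]) (.leaf [nat_lit 5, nat_lit 4, nat_lit 5, nat_lit 3, nat_lit 4, nat_lit 3, nat_lit 1, nat_lit 0]))))
 (.node (nat_lit 3276) (.node (nat_lit 3274) (.node (nat_lit 3273) (.leaf [nat_lit 5, nat_lit 6, nat_lit 1, nat_lit 4, nat_lit 2, nat_lit 1]) (.leaf [nat_lit 5, nat_lit 6, nat_lit 1, nat_lit 4, nat_lit 3, nat_lit 2, nat_lit 1, nat_lit 0])) (.node (nat_lit 3275) (.leaf [nat_lit 5, nat_lit 3, nat_lit 2, nat_lit 5, nat_lit 3, nat_lit 2, nat_lit 1, nat_lit 0]) (.leaf [nat_lit 2, nat_lit 6, nat_lit 4, nat_lit 5, nat_lit 3, nat_lit 2])))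
 (.node (nat_lit 3278) (.node (nat_lit 3277) (.leaf [nat_lit 4, nat_lit 3, nat_lit 4, nat_lit 2, nat_lit 1]) (.leaf [nat_lit 0, nat_lit 6, nat_lit 2, nat_lit 6, nat_lit 3, nat_lit 1, nat_lit 0])) (.node (nat_lit 3279) (.leaf [nat_lit 4, nat_lit 3, nat_lit 4, nat_lit 0, nat_lit 4, nat_lit 2]) (.leaf [nat_lit 2, nat_lit 6, nat_lit 5, nat_lit 4, nat_lit 3, nat_lit 2])))))
 (.node (nat_lit 3288) (.node (nat_lit 3284) (.node (nat_lit 3282) (.node (nat_lit 3281) (.leaf [nat_lit 6, nat_lit 5, nat_lit 3, nat_lit 5, nat_lit 3]) (.leaf [nat_lit 6, nat_lit 5, nat_lit 0, nat_lit 5])) (.node (nat_lit 3283) (.leaf [nat_lit 5, nat_lit 6, nat_lit 4, nat_lit 3, nat_lit 2]) (.leaf [nat_lit 5, nat_lit 6, nat_lit 4, nat_lit 2, nat_lit 0])))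
 (.node (nat_lit 3286) (.node (nat_lit 3285) (.leaf [nat_lit 1, nat_lit 0, nat_lit 6, nat_lit 3, nat_lit 1, nat_lit 0]) (.leaf [nat_lit 4, nat_lit 2, nat_lit 6, nat_lit 5, nat_lit 3])) (.node (nat_lit 3287) (.leaf [nat_lit 6, nat_lit 5, nat_lit 3, nat_lit 4, nat_lit 3, nat_lit 0]) (.leaf [nat_lit 2, nat_lit 1, nat_lit 0, nat_lit 4, nat_lit 3, nat_lit 2, nat_lit 1, nat_lit 0]))))
 (.node (nat_lit 3292) (.node (nat_lit 3290) (.node (nat_lit 3289) (.leaf [nat_lit 6, nat_lit 4, nat_lit 1, nat_lit 4, nat_lit 3, nat_lit 2, nat_lit 1]) (.leaf [nat_lit 6, nat_lit 5, nat_lit 4, nat_lit 3])) (.node (nat_lit 3291) (.leaf [nat_lit 4, nat_lit 2, nat_lit 5, nat_lit 6, nat_lit 3, nat_lit 2]) (.leaf [nat_lit 2, nat_lit 6, nat_lit 4, nat_lit 2, nat_lit 4])))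
 (.node (nat_lit 3294) (.node (nat_lit 3293) (.leaf [nat_lit 6, nat_lit 3, nat_lit 2]) (.leaf [nat_lit 5, nat_lit 6, nat_lit 2, nat_lit 5, nat_lit 3, nat_lit 2, nat_lit 0])) (.node (nat_lit 3295) (.leaf [nat_lit 5, nat_lit 6, nat_lit 2, nat_lit 5, nat_lit 2]) (.leaf [nat_lit 5, nat_lit 1, nat_lit 6, nat_lit 2, nat_lit 1]))))))
 (.node (nat_lit 3312) (.node (nat_lit 3304) (.node (nat_lit 3300) (.node (nat_lit 3298) (.node (nat_lit 3297) (.leaf [nat_lit 4, nat_lit 2, nat_lit 1, nat_lit 4]) (.leaf [nat_lit 6, nat_lit 2, nat_lit 5, nat_lit 4, nat_lit 2, nat_lit 0])) (.node (nat_lit 3299) (.leaf [nat_lit 6, nat_lit 2, nat_lit 5, nat_lit 4, nat_lit 3, nat_lit 2]) (.leaf [nat_lit 6, nat_lit 2, nat_lit 6, nat_lit 2, nat_lit 1, nat_lit 0])))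
 (.node (nat_lit 3302) (.node (nat_lit 3301) (.leaf [nat_lit 6, nat_lit 5, nat_lit 2, nat_lit 4, nat_lit 3, nat_lit 2]) (.leaf [nat_lit 6, nat_lit 2, nat_lit 6, nat_lit 1])) (.node (nat_lit 3303) (.leaf [nat_lit 6, nat_lit 0, nat_lit 6, nat_lit 2, nat_lit 1, nat_lit 0]) (.leaf [nat_lit 4, nat_lit 2, nat_lit 5, nat_lit 4, nat_lit 3, nat_lit 2]))))
 (.node (nat_lit 3308) (.node (nat_lit 3306) (.node (nat_lit 3305) (.leaf [nat_lit 6, nat_lit 3, nat_lit 6, nat_lit 1, nat_lit 0]) (.leaf [nat_lit 5, nat_lit 1, nat_lit 6, nat_lit 4, nat_lit 2, nat_lit 1])) (.node (nat_lit 3307) (.leaf [nat_lit 5, nat_lit 0, nat_lit 6, nat_lit 0, nat_lit 4, nat_lit 2, nat_lit 0]) (.leaf [nat_lit 3, nat_lit 1, nat_lit 0])))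
 (.node (nat_lit 3310) (.node (nat_lit 3309) (.leaf [nat_lit 0, nat_lit 5, nat_lit 3, nat_lit 5, nat_lit 2, nat_lit 1, nat_lit 0]) (.leaf [nat_lit 6, nat_lit 5, nat_lit 0, nat_lit 4, nat_lit 2])) (.node (nat_lit 3311) (.leaf [nat_lit 6, nat_lit 0, nat_lit 5, nat_lit 4, nat_lit 2, nat_lit 0]) (.leaf [nat_lit 1, nat_lit 6, nat_lit 5, nat_lit 4, nat_lit 2, nat_lit 1, nat_lit 0])))))
 (.node (nat_lit 3320) (.node (nat_lit 3316) (.node (nat_lit 3314) (.node (nat_lit 3313) (.leaf [nat_lit 4, nat_lit 3, nat_lit 6, nat_lit 1, nat_lit 4, nat_lit 2, nat_lit 1]) (.leaf [nat_lit 6, nat_lit 2, nat_lit 4, nat_lit 5, nat_lit 2, nat_lit 0])) (.node (nat_lit 3315) (.leaf [nat_lit 4, nat_lit 3, nat_lit 4, nat_lit 5]) (.leaf [nat_lit 6, nat_lit 4, nat_lit 1, nat_lit 5, nat_lit 1, nat_lit 0])))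
 (.node (nat_lit 3318) (.node (nat_lit 3317) (.leaf [nat_lit 6, nat_lit 5, nat_lit 1, nat_lit 4, nat_lit 3, nat_lit 2, nat_lit 1]) (.leaf [nat_lit 6, nat_lit 0, nat_lit 5, nat_lit 4, nat_lit 3, nat_lit 0])) (.node (nat_lit 3319) (.leaf [nat_lit 6, nat_lit 5, nat_lit 2, nat_lit 4, nat_lit 3, nat_lit 2, nat_lit 0]) (.leaf [nat_lit 6, nat_lit 1, nat_lit 0, nat_lit 6, nat_lit 2]))))
 (.node (nat_lit 3324) (.node (nat_lit 3322) (.node (nat_lit 3321) (.leaf [nat_lit 6, nat_lit 1, nat_lit 5, nat_lit 4, nat_lit 2, nat_lit 1]) (.leaf [nat_lit 6, nat_lit 1, nat_lit 0, nat_lit 6, nat_lit 3, nat_lit 0])) (.node (nat_lit 3323) (.leaf [nat_lit 1, nat_lit 4, nat_lit 2, nat_lit 4, nat_lit 3]) (.leaf [nat_lit 4, nat_lit 2, nat_lit 6, nat_lit 5, nat_lit 0])))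
 (.node (nat_lit 3326) (.node (nat_lit 3325) (.leaf [nat_lit 6, nat_lit 0, nat_lit 6, nat_lit 3, nat_lit 2, nat_lit 1, nat_lit 0]) (.leaf [nat_lit 3, nat_lit 2, nat_lit 0, nat_lit 4])) (.node (nat_lit 3327) (.leaf [nat_lit 6, nat_lit 3, nat_lit 4, nat_lit 0, nat_lit 4, nat_lit 3, nat_lit 0]) (.leaf [nat_lit 5, nat_lit 3, nat_lit 5, nat_lit 3, nat_lit 1, nat_lit 0])))))))))
noncomputable def bWT_13 : Tr (List ℕ) := (.node (nat_lit 3456) (.node (nat_lit 3392) (.node (nat_lit 3360) (.node (nat_lit 3344) (.node (nat_lit 3336) (.node (nat_lit 3332) (.node (nat_lit 3330) (.node (nat_lit 3329) (.leaf [nat_lit 5, nat_lit 3, nat_lit 5, nat_lit 3, nat_lit 2, nat_lit 1]) (.leaf [nat_lit 5, nat_lit 6, nat_lit 3, nat_lit 5, nat_lit 3])) (.node (nat_lit 3331) (.leaf [nat_lit 4, nat_lit 0, nat_lit 4, nat_lit 2, nat_lit 1, nat_lit 0]) (.leaf [nat_lit 3, nat_lit 1, nat_lit 0, nat_lit 5, nat_lit 3, nat_lit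 2, nat_lit 1])))
 (.node (nat_lit 3334) (.node (nat_lit 3333) (.leaf [nat_lit 4, nat_lit 2, nat_lit 4, nat_lit 3, nat_lit 2, nat_lit 1, nat_lit 0]) (.leaf [nat_lit 6, nat_lit 2, nat_lit 5, nat_lit 4, nat_lit 0])) (.node (nat_lit 3335) (.leaf [nat_lit 4, nat_lit 1, nat_lit 4, nat_lit 3, nat_lit 2]) (.leaf [nat_lit 5, nat_lit 1, nat_lit 0, nat_lit 5, nat_lit 2, nat_lit 0]))))
 (.node (nat_lit 3340) (.node (nat_lit 3338) (.node (nat_lit 3337) (.leaf [nat_lit 4, nat_lit 3, nat_lit 1, nat_lit 0, nat_lit 4, nat_lit 2, nat_lit 0]) (.leaf [nat_lit 3, nat_lit 5, nat_lit 4, nat_lit 5])) (.node (nat_lit 3339) (.leaf [nat_lit 6, nat_lit 4, nat_lit 2, nat_lit 4, nat_lit 2]) (.leaf [nat_lit 5, nat_lit 2, nat_lit 5, nat_lit 3, nat_lit 2, nat_lit 1, nat_lit 0])))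
 (.node (nat_lit 3342) (.node (nat_lit 3341) (.leaf [nat_lit 3, nat_lit 1, nat_lit 5, nat_lit 1]) (.leaf [nat_lit 5, nat_lit 6, nat_lit 0, nat_lit 4, nat_lit 2])) (.node (nat_lit 3343) (.leaf [nat_lit 1, nat_lit 4, nat_lit 2, nat_lit 0, nat_lit 4, nat_lit 0]) (.leaf [nat_lit 3, nat_lit 0, nat_lit 4, nat_lit 0])))))
 (.node (nat_lit 3352) (.node (nat_lit 3348) (.node (nat_lit 3346) (.node (nat_lit 3345) (.leaf [nat_lit 5, nat_lit 4, nat_lit 0, nat_lit 4, nat_lit 2]) (.leaf [nat_lit 5, nat_lit 4, nat_lit 3, nat_lit 5, nat_lit 2, nat_lit 0])) (.node (nat_lit 3347) (.leaf [nat_lit 5, nat_lit 4, nat_lit 2, nat_lit 4, nat_lit 3, nat_lit 2]) (.leaf [nat_lit 4])))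
 (.node (nat_lit 3350) (.node (nat_lit 3349) (.leaf [nat_lit 4, nat_lit 1, nat_lit 4, nat_lit 0]) (.leaf [nat_lit 2, nat_lit 4, nat_lit 0])) (.node (nat_lit 3351) (.leaf [nat_lit 6, nat_lit 3, nat_lit 6, nat_lit 3, nat_lit 2, nat_lit 1]) (.leaf [nat_lit 4, nat_lit 5, nat_lit 0, nat_lit 5, nat_lit 2]))))
 (.node (nat_lit 3356) (.node (nat_lit 3354) (.node (nat_lit 3353) (.leaf [nat_lit 4, nat_lit 3, nat_lit 2, nat_lit 4, nat_lit 1]) (.leaf [nat_lit 1, nat_lit 6, nat_lit 0, nat_lit 6])) (.node (nat_lit 3355) (.leaf [nat_lit 4, nat_lit 2, nat_lit 4, nat_lit 2, nat_lit 1, nat_lit 0]) (.leaf [nat_lit 1, nat_lit 4, nat_lit 2, nat_lit 1, nat_lit 0])))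
 (.node (nat_lit 3358) (.node (nat_lit 3357) (.leaf [nat_lit 2, nat_lit 0, nat_lit 6, nat_lit 2, nat_lit 0]) (.leaf [nat_lit 6, nat_lit 4, nat_lit 5, nat_lit 2, nat_lit 0])) (.node (nat_lit 3359) (.leaf [nat_lit 6, nat_lit 2, nat_lit 0, nat_lit 4, nat_lit 3]) (.leaf [nat_lit 6, nat_lit 3, nat_lit 5, nat_lit 3]))))))
 (.node (nat_lit 3376) (.node (nat_lit 3368) (.node (nat_lit 3364) (.node (nat_lit 3362) (.node (nat_lit 3361) (.leaf [nat_lit 6, nat_lit 4, nat_lit 0, nat_lit 5, nat_lit 3]) (.leaf [nat_lit 6, nat_lit 5, nat_lit 3, nat_lit 4, nat_lit 0])) (.node (nat_lit 3363) (.leaf [nat_lit 5, nat_lit 2, nat_lit 6, nat_lit 5, nat_lit 2, nat_lit 0]) (.leaf [nat_lit 4, nat_lit 2, nat_lit 6, nat_lit 5])))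
 (.node (nat_lit 3366) (.node (nat_lit 3365) (.leaf [nat_lit 6, nat_lit 0, nat_lit 6, nat_lit 2, nat_lit 4, nat_lit 3, nat_lit 2, nat_lit 0]) (.leaf [nat_lit 5, nat_lit 6, nat_lit 5, nat_lit 3, nat_lit 2])) (.node (nat_lit 3367) (.leaf [nat_lit 4, nat_lit 2, nat_lit 6, nat_lit 4, nat_lit 3, nat_lit 2, nat_lit 0]) (.leaf [nat_lit 5, nat_lit 6, nat_lit 0, nat_lit 5, nat_lit 3]))))
 (.node (nat_lit 3372) (.node (nat_lit 3370) (.node (nat_lit 3369) (.leaf [nat_lit 5, nat_lit 6, nat_lit 0, nat_lit 5, nat_lit 0]) (.leaf [nat_lit 5, nat_lit 1, nat_lit 6, nat_lit 4, nat_lit 2, nat_lit 1, nat_lit 0])) (.node (nat_lit 3371) (.leaf [nat_lit 6, nat_lit 3, nat_lit 5, nat_lit 4, nat_lit 0]) (.leaf [nat_lit 2, nat_lit 6, nat_lit 4, nat_lit 5, nat_lit 3])))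
 (.node (nat_lit 3374) (.node (nat_lit 3373) (.leaf [nat_lit 5, nat_lit 4, nat_lit 3, nat_lit 4, nat_lit 3, nat_lit 2, nat_lit 0]) (.leaf [nat_lit 4, nat_lit 0, nat_lit 6, nat_lit 5])) (.node (nat_lit 3375) (.leaf [nat_lit 6, nat_lit 5, nat_lit 3, nat_lit 4, nat_lit 3, nat_lit 2]) (.leaf [nat_lit 5, nat_lit 1, nat_lit 6, nat_lit 4, nat_lit 3, nat_lit 1, nat_lit 0])))))
 (.node (nat_lit 3384) (.node (nat_lit 3380) (.node (nat_lit 3378) (.node (nat_lit 3377) (.leaf [nat_lit 0, nat_lit 6, nat_lit 5, nat_lit 4, nat_lit 3, nat_lit 0]) (.leaf [nat_lit 3, nat_lit 6, nat_lit 5, nat_lit 4])) (.node (nat_lit 3379) (.leaf [nat_lit 5, nat_lit 6, nat_lit 0, nat_lit 4, nat_lit 2, nat_lit 0]) (.leaf [nat_lit 4, nat_lit 0, nat_lit 6, nat_lit 0, nat_lit 4, nat_lit 0])))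
 (.node (nat_lit 3382) (.node (nat_lit 3381) (.leaf [nat_lit 6, nat_lit 5, nat_lit 0, nat_lit 4, nat_lit 2, nat_lit 0]) (.leaf [nat_lit 3, nat_lit 1, nat_lit 4, nat_lit 2, nat_lit 1, nat_lit 0])) (.node (nat_lit 3383) (.leaf [nat_lit 0, nat_lit 6, nat_lit 3, nat_lit 2, nat_lit 0]) (.leaf [nat_lit 2, nat_lit 1, nat_lit 6, nat_lit 2, nat_lit 1]))))
 (.node (nat_lit 3388) (.node (nat_lit 3386) (.node (nat_lit 3385) (.leaf [nat_lit 5, nat_lit 6, nat_lit 0, nat_lit 4, nat_lit 3, nat_lit 2, nat_lit 0]) (.leaf [nat_lit 3, nat_lit 0, nat_lit 5, nat_lit 3, nat_lit 2])) (.node (nat_lit 3387) (.leaf [nat_lit 1, nat_lit 5, nat_lit 6, nat_lit 4, nat_lit 1]) (.leaf [nat_lit 3, nat_lit 1, nat_lit 4, nat_lit 1])))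
 (.node (nat_lit 3390) (.node (nat_lit 3389) (.leaf [nat_lit 6, nat_lit 5, nat_lit 2, nat_lit 5, nat_lit 3, nat_lit 2, nat_lit 0]) (.leaf [nat_lit 6, nat_lit 4, nat_lit 1, nat_lit 5, nat_lit 3, nat_lit 2, nat_lit 1])) (.node (nat_lit 3391) (.leaf [nat_lit 4, nat_lit 5, nat_lit 3, nat_lit 4]) (.leaf [nat_lit 6, nat_lit 2, nat_lit 4, nat_lit 5, nat_lit 3])))))))
 (.node (nat_lit 3424) (.node (nat_lit 3408) (.node (nat_lit 3400) (.node (nat_lit 3396) (.node (nat_lit 3394) (.node (nat_lit 3393) (.leaf [nat_lit 2, nat_lit 1, nat_lit 4, nat_lit 3, nat_lit 2, nat_lit 1]) (.leaf [nat_lit 3, nat_lit 6, nat_lit 5, nat_lit 6])) (.node (nat_lit 3395) (.leaf [nat_lit 1, nat_lit 0, nat_lit 4, nat_lit 2, nat_lit 1]) (.leaf [nat_lit 2, nat_lit 1, nat_lit 6, nat_lit 1, nat_lit 0])))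
 (.node (nat_lit 3398) (.node (nat_lit 3397) (.leaf [nat_lit 1, nat_lit 5, nat_lit 6, nat_lit 4, nat_lit 3, nat_lit 2, nat_lit 1, nat_lit 0]) (.leaf [nat_lit 2, nat_lit 0, nat_lit 4, nat_lit 2, nat_lit 0])) (.node (nat_lit 3399) (.leaf [nat_lit 4, nat_lit 0, nat_lit 6, nat_lit 5, nat_lit 2, nat_lit 0]) (.leaf [nat_lit 5, nat_lit 0, nat_lit 6, nat_lit 0, nat_lit 4, nat_lit 3, nat_lit 0]))))
 (.node (nat_lit 3404) (.node (nat_lit 3402) (.node (nat_lit 3401) (.leaf [nat_lit 3, nat_lit 4, nat_lit 3, nat_lit 2, nat_lit 0]) (.leaf [nat_lit 5, nat_lit 1, nat_lit 6, nat_lit 5, nat_lit 2, nat_lit 1, nat_lit 0])) (.node (nat_lit 3403) (.leaf [nat_lit 4, nat_lit 0, nat_lit 6, nat_lit 0, nat_lit 4]) (.leaf [nat_lit 4, nat_lit 5, nat_lit 6, nat_lit 2, nat_lit 0])))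
 (.node (nat_lit 3406) (.node (nat_lit 3405) (.leaf [nat_lit 6, nat_lit 4, nat_lit 2, nat_lit 4, nat_lit 3]) (.leaf [nat_lit 5, nat_lit 2, nat_lit 5, nat_lit 6, nat_lit 3])) (.node (nat_lit 3407) (.leaf [nat_lit 4, nat_lit 5, nat_lit 1, nat_lit 5, nat_lit 3, nat_lit 1]) (.leaf [nat_lit 6, nat_lit 0])))))
 (.node (nat_lit 3416) (.node (nat_lit 3412) (.node (nat_lit 3410) (.node (nat_lit 3409) (.leaf [nat_lit 5, nat_lit 6, nat_lit 3, nat_lit 4, nat_lit 2]) (.leaf [nat_lit 5, nat_lit 1, nat_lit 5, nat_lit 4, nat_lit 3, nat_lit 1])) (.node (nat_lit 3411) (.leaf [nat_lit 5, nat_lit 2, nat_lit 6, nat_lit 5, nat_lit 2]) (.leaf [nat_lit 0, nat_lit 6, nat_lit 5, nat_lit 4])))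
 (.node (nat_lit 3414) (.node (nat_lit 3413) (.leaf [nat_lit 4, nat_lit 2, nat_lit 6, nat_lit 1, nat_lit 4, nat_lit 3, nat_lit 2, nat_lit 1, nat_lit 0]) (.leaf [nat_lit 4, nat_lit 2, nat_lit 5, nat_lit 6, nat_lit 2, nat_lit 0])) (.node (nat_lit 3415) (.leaf [nat_lit 6, nat_lit 5, nat_lit 1, nat_lit 4, nat_lit 3, nat_lit 1, nat_lit 0]) (.leaf [nat_lit 6, nat_lit 4, nat_lit 0, nat_lit 4]))))
 (.node (nat_lit 3420) (.node (nat_lit 3418) (.node (nat_lit 3417) (.leaf [nat_lit 6, nat_lit 4, nat_lit 0, nat_lit 5, nat_lit 2]) (.leaf [nat_lit 5, nat_lit 6, nat_lit 3, nat_lit 5, nat_lit 3, nat_lit 0])) (.node (nat_lit 3419) (.leaf [nat_lit 1, nat_lit 4, nat_lit 2, nat_lit 0, nat_lit 4, nat_lit 2]) (.leaf [nat_lit 4, nat_lit 1, nat_lit 4, nat_lit 2])))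
 (.node (nat_lit 3422) (.node (nat_lit 3421) (.leaf [nat_lit 5, nat_lit 2, nat_lit 5, nat_lit 3, nat_lit 1]) (.leaf [nat_lit 5, nat_lit 1, nat_lit 5, nat_lit 4, nat_lit 2, nat_lit 1, nat_lit 0])) (.node (nat_lit 3423) (.leaf [nat_lit 0, nat_lit 5, nat_lit 6, nat_lit 4, nat_lit 3, nat_lit 2, nat_lit 0]) (.leaf [nat_lit 4, nat_lit 2, nat_lit 6, nat_lit 4, nat_lit 2, nat_lit 0]))))))
 (.node (nat_lit 3440) (.node (nat_lit 3432) (.node (nat_lit 3428) (.node (nat_lit 3426) (.node (nat_lit 3425) (.leaf [nat_lit 6, nat_lit 5, nat_lit 3, nat_lit 4, nat_lit 2]) (.leaf [nat_lit 4, nat_lit 5, nat_lit 0, nat_lit 5, nat_lit 3, nat_lit 2])) (.node (nat_lit 3427) (.leaf [nat_lit 6, nat_lit 5, nat_lit 1, nat_lit 4, nat_lit 3, nat_lit 2, nat_lit 1, nat_lit 0]) (.leaf [nat_lit 3, nat_lit 1, nat_lit 6, nat_lit 1, nat_lit 0])))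
 (.node (nat_lit 3430) (.node (nat_lit 3429) (.leaf [nat_lit 5, nat_lit 2, nat_lit 5, nat_lit 6, nat_lit 3, nat_lit 2, nat_lit 0]) (.leaf [nat_lit 2, nat_lit 5, nat_lit 6, nat_lit 4, nat_lit 2, nat_lit 0])) (.node (nat_lit 3431) (.leaf [nat_lit 0, nat_lit 5, nat_lit 2, nat_lit 5, nat_lit 2, nat_lit 1]) (.leaf [nat_lit 0, nat_lit 5, nat_lit 2, nat_lit 5, nat_lit 1, nat_lit 0]))))
 (.node (nat_lit 3436) (.node (nat_lit 3434) (.node (nat_lit 3433) (.leaf [nat_lit 4, nat_lit 0, nat_lit 4, nat_lit 5, nat_lit 3, nat_lit 0]) (.leaf [nat_lit 6, nat_lit 0, nat_lit 6, nat_lit 3, nat_lit 1])) (.node (nat_lit 3435) (.leaf [nat_lit 4, nat_lit 2, nat_lit 0, nat_lit 4, nat_lit 3, nat_lit 2, nat_lit 1]) (.leaf [nat_lit 6, nat_lit 2, nat_lit 4, nat_lit 5])))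
 (.node (nat_lit 3438) (.node (nat_lit 3437) (.leaf [nat_lit 6, nat_lit 4, nat_lit 0, nat_lit 5, nat_lit 2, nat_lit 0]) (.leaf [nat_lit 4, nat_lit 2, nat_lit 6, nat_lit 1, nat_lit 4, nat_lit 3, nat_lit 1])) (.node (nat_lit 3439) (.leaf [nat_lit 4, nat_lit 2, nat_lit 5, nat_lit 6, nat_lit 3, nat_lit 2, nat_lit 0]) (.leaf [nat_lit 1, nat_lit 6, nat_lit 5, nat_lit 4, nat_lit 3, nat_lit 1, nat_lit 0])))))
 (.node (nat_lit 3448) (.node (nat_lit 3444) (.node (nat_lit 3442) (.node (nat_lit 3441) (.leaf [nat_lit 6, nat_lit 5, nat_lit 0, nat_lit 4, nat_lit 3]) (.leaf [nat_lit 0, nat_lit 5, nat_lit 1, nat_lit 5])) (.node (nat_lit 3443) (.leaf [nat_lit 2, nat_lit 6, nat_lit 5, nat_lit 4, nat_lit 3]) (.leaf [nat_lit 0, nat_lit 5, nat_lit 1, nat_lit 5, nat_lit 3, nat_lit 2, nat_lit 0])))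
 (.node (nat_lit 3446) (.node (nat_lit 3445) (.leaf [nat_lit 3, nat_lit 4, nat_lit 0, nat_lit 4, nat_lit 2, nat_lit 1, nat_lit 0]) (.leaf [nat_lit 6, nat_lit 3, nat_lit 6, nat_lit 2, nat_lit 1])) (.node (nat_lit 3447) (.leaf [nat_lit 3, nat_lit 4, nat_lit 2, nat_lit 0]) (.leaf [nat_lit 4, nat_lit 3, nat_lit 4, nat_lit 3, nat_lit 1, nat_lit 0]))))
 (.node (nat_lit 3452) (.node (nat_lit 3450) (.node (nat_lit 3449) (.leaf [nat_lit 4, nat_lit 3, nat_lit 4, nat_lit 3, nat_lit 2, nat_lit 1]) (.leaf [nat_lit 6, nat_lit 4, nat_lit 1, nat_lit 4, nat_lit 2, nat_lit 1, nat_lit 0])) (.node (nat_lit 3451) (.leaf [nat_lit 4, nat_lit 2, nat_lit 4, nat_lit 1]) (.leaf [nat_lit 4, nat_lit 0, nat_lit 4, nat_lit 3, nat_lit 1])))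
 (.node (nat_lit 3454) (.node (nat_lit 3453) (.leaf [nat_lit 5, nat_lit 3, nat_lit 2, nat_lit 5, nat_lit 2, nat_lit 1, nat_lit 0]) (.leaf [nat_lit 6, nat_lit 0, nat_lit 5, nat_lit 4, nat_lit 2])) (.node (nat_lit 3455) (.leaf [nat_lit 0, nat_lit 4, nat_lit 3, nat_lit 0, nat_lit 4, nat_lit 1, nat_lit 0]) (.leaf [nat_lit 5, nat_lit 1, nat_lit 5, nat_lit 2]))))))))
 (.node (nat_lit 3520) (.node (nat_lit 3488) (.node (nat_lit 3472) (.node (nat_lit 3464) (.node (nat_lit 3460) (.node (nat_lit 3458) (.node (nat_lit 3457) (.leaf [nat_lit 5, nat_lit 4, nat_lit 3, nat_lit 5]) (.leaf [nat_lit 0, nat_lit 6, nat_lit 2, nat_lit 6, nat_lit 3, nat_lit 2, nat_lit 1])) (.node (nat_lit 3459) (.leaf [nat_lit 1, nat_lit 4, nat_lit 5, nat_lit 4, nat_lit 3, nat_lit 1]) (.leaf [nat_lit 5, nat_lit 4, nat_lit 5, nat_lit 3, nat_lit 4, nat_lit 3, nat_lit 2, nat_lit 1])))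
 (.node (nat_lit 3462) (.node (nat_lit 3461) (.leaf [nat_lit 3, nat_lit 2, nat_lit 4, nat_lit 2]) (.leaf [nat_lit 5, nat_lit 4, nat_lit 2, nat_lit 4, nat_lit 0])) (.node (nat_lit 3463) (.leaf [nat_lit 3, nat_lit 5, nat_lit 4, nat_lit 5, nat_lit 2, nat_lit 0]) (.leaf [nat_lit 5, nat_lit 3, nat_lit 2, nat_lit 5, nat_lit 3, nat_lit 1]))))
 (.node (nat_lit 3468) (.node (nat_lit 3466) (.node (nat_lit 3465) (.leaf [nat_lit 0, nat_lit 4, nat_lit 2]) (.leaf [nat_lit 6, nat_lit 4, nat_lit 1, nat_lit 5, nat_lit 3, nat_lit 1])) (.node (nat_lit 3467) (.leaf [nat_lit 6, nat_lit 3, nat_lit 5, nat_lit 4, nat_lit 3, nat_lit 2, nat_lit 0]) (.leaf [nat_lit 2, nat_lit 1, nat_lit 0, nat_lit 4, nat_lit 2, nat_lit 1, nat_lit 0])))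
 (.node (nat_lit 3470) (.node (nat_lit 3469) (.leaf [nat_lit 4, nat_lit 3, nat_lit 0, nat_lit 4, nat_lit 2, nat_lit 1, nat_lit 0]) (.leaf [nat_lit 0, nat_lit 6, nat_lit 5, nat_lit 4, nat_lit 2])) (.node (nat_lit 3471) (.leaf [nat_lit 4, nat_lit 0, nat_lit 4, nat_lit 1]) (.leaf [nat_lit 5, nat_lit 0, nat_lit 5, nat_lit 0, nat_lit 4])))))
 (.node (nat_lit 3480) (.node (nat_lit 3476) (.node (nat_lit 3474) (.node (nat_lit 3473) (.leaf [nat_lit 1, nat_lit 6, nat_lit 5, nat_lit 4, nat_lit 3, nat_lit 1]) (.leaf [nat_lit 4, nat_lit 2, nat_lit 6, nat_lit 5, nat_lit 3, nat_lit 2, nat_lit 0])) (.node (nat_lit 3475) (.leaf [nat_lit 6, nat_lit 5, nat_lit 2, nat_lit 5, nat_lit 2, nat_lit 0]) (.leaf [nat_lit 2, nat_lit 1, nat_lit 4, nat_lit 3, nat_lit 1, nat_lit 0])))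
 (.node (nat_lit 3478) (.node (nat_lit 3477) (.leaf [nat_lit 2, nat_lit 6, nat_lit 3]) (.leaf [nat_lit 3, nat_lit 1, nat_lit 0, nat_lit 6, nat_lit 3, nat_lit 1, nat_lit 0])) (.node (nat_lit 3479) (.leaf [nat_lit 6, nat_lit 5, nat_lit 4, nat_lit 3, nat_lit 0]) (.leaf [nat_lit 5, nat_lit 1, nat_lit 6, nat_lit 4, nat_lit 1]))))
 (.node (nat_lit 3484) (.node (nat_lit 3482) (.node (nat_lit 3481) (.leaf [nat_lit 3, nat_lit 5, nat_lit 3, nat_lit 2, nat_lit 0]) (.leaf [nat_lit 5, nat_lit 0, nat_lit 6, nat_lit 0, nat_lit 4, nat_lit 0])) (.node (nat_lit 3483) (.leaf [nat_lit 5, nat_lit 6, nat_lit 2, nat_lit 4]) (.leaf [nat_lit 6, nat_lit 5, nat_lit 2, nat_lit 4])))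
 (.node (nat_lit 3486) (.node (nat_lit 3485) (.leaf [nat_lit 6, nat_lit 2, nat_lit 6, nat_lit 0, nat_lit 4, nat_lit 3, nat_lit 2, nat_lit 0]) (.leaf [nat_lit 5, nat_lit 6, nat_lit 2, nat_lit 4, nat_lit 3])) (.node (nat_lit 3487) (.leaf [nat_lit 6, nat_lit 5, nat_lit 6, nat_lit 2, nat_lit 0]) (.leaf [nat_lit 6, nat_lit 2, nat_lit 6, nat_lit 0, nat_lit 4, nat_lit 3]))))))
 (.node (nat_lit 3504) (.node (nat_lit 3496) (.node (nat_lit 3492) (.node (nat_lit 3490) (.node (nat_lit 3489) (.leaf [nat_lit 5, nat_lit 2, nat_lit 6, nat_lit 5, nat_lit 3, nat_lit 2, nat_lit 0]) (.leaf [nat_lit 6, nat_lit 0, nat_lit 6, nat_lit 2, nat_lit 4, nat_lit 3])) (.node (nat_lit 3491) (.leaf [nat_lit 0, nat_lit 5, nat_lit 3, nat_lit 0]) (.leaf [nat_lit 5, nat_lit 0, nat_lit 5, nat_lit 4, nat_lit 0])))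
 (.node (nat_lit 3494) (.node (nat_lit 3493) (.leaf [nat_lit 6, nat_lit 5, nat_lit 0, nat_lit 5, nat_lit 3, nat_lit 2, nat_lit 0]) (.leaf [nat_lit 0, nat_lit 6, nat_lit 5, nat_lit 4, nat_lit 3, nat_lit 2, nat_lit 0])) (.node (nat_lit 3495) (.leaf [nat_lit 5, nat_lit 0, nat_lit 6, nat_lit 0, nat_lit 4, nat_lit 2]) (.leaf [nat_lit 3, nat_lit 2, nat_lit 0, nat_lit 4, nat_lit 3]))))
 (.node (nat_lit 3500) (.node (nat_lit 3498) (.node (nat_lit 3497) (.leaf [nat_lit 5, nat_lit 6, nat_lit 4, nat_lit 3]) (.leaf [nat_lit 6, nat_lit 4, nat_lit 0, nat_lit 4, nat_lit 3, nat_lit 2, nat_lit 0])) (.node (nat_lit 3499) (.leaf [nat_lit 3, nat_lit 1, nat_lit 0, nat_lit 4, nat_lit 3, nat_lit 1, nat_lit 0]) (.leaf [nat_lit 3, nat_lit 0, nat_lit 6, nat_lit 3])))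
 (.node (nat_lit 3502) (.node (nat_lit 3501) (.leaf [nat_lit 4, nat_lit 3, nat_lit 4, nat_lit 0, nat_lit 4, nat_lit 3, nat_lit 0]) (.leaf [nat_lit 4, nat_lit 3, nat_lit 6, nat_lit 1, nat_lit 4, nat_lit 1, nat_lit 0])) (.node (nat_lit 3503) (.leaf [nat_lit 6, nat_lit 5, nat_lit 1, nat_lit 4, nat_lit 2, nat_lit 1]) (.leaf [nat_lit 6, nat_lit 4, nat_lit 2, nat_lit 4, nat_lit 2, nat_lit 0])))))
 (.node (nat_lit 3512) (.node (nat_lit 3508) (.node (nat_lit 3506) (.node (nat_lit 3505) (.leaf [nat_lit 4, nat_lit 2, nat_lit 0, nat_lit 4, nat_lit 3, nat_lit 1, nat_lit 0]) (.leaf [nat_lit 5, nat_lit 0, nat_lit 5, nat_lit 3, nat_lit 2, nat_lit 1, nat_lit 0])) (.node (nat_lit 3507) (.leaf [nat_lit 3, nat_lit 2, nat_lit 4, nat_lit 0]) (.leaf [nat_lit 5, nat_lit 6, nat_lit 5, nat_lit 0])))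
 (.node (nat_lit 3510) (.node (nat_lit 3509) (.leaf [nat_lit 3, nat_lit 1, nat_lit 6, nat_lit 3, nat_lit 2, nat_lit 1, nat_lit 0]) (.leaf [nat_lit 5, nat_lit 6, nat_lit 0, nat_lit 5, nat_lit 3, nat_lit 2, nat_lit 0])) (.node (nat_lit 3511) (.leaf [nat_lit 5, nat_lit 1, nat_lit 5, nat_lit 3, nat_lit 0]) (.leaf [nat_lit 4, nat_lit 0, nat_lit 5, nat_lit 4, nat_lit 3, nat_lit 0]))))
 (.node (nat_lit 3516) (.node (nat_lit 3514) (.node (nat_lit 3513) (.leaf [nat_lit 5, nat_lit 3, nat_lit 5, nat_lit 1, nat_lit 0]) (.leaf [nat_lit 5, nat_lit 4, nat_lit 5, nat_lit 3, nat_lit 4, nat_lit 2, nat_lit 1])) (.node (nat_lit 3515) (.leaf [nat_lit 5, nat_lit 1, nat_lit 6, nat_lit 5, nat_lit 3, nat_lit 2, nat_lit 1, nat_lit 0]) (.leaf [nat_lit 5, nat_lit 6, nat_lit 3, nat_lit 4, nat_lit 3, nat_lit 2])))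
 (.node (nat_lit 3518) (.node (nat_lit 3517) (.leaf [nat_lit 6, nat_lit 3, nat_lit 4, nat_lit 0, nat_lit 4]) (.leaf [nat_lit 5, nat_lit 4, nat_lit 3, nat_lit 4])) (.node (nat_lit 3519) (.leaf [nat_lit 4, nat_lit 5, nat_lit 6, nat_lit 3]) (.leaf [nat_lit 4, nat_lit 2, nat_lit 1, nat_lit 4, nat_lit 3, nat_lit 2, nat_lit 0])))))))
 (.node (nat_lit 3552) (.node (nat_lit 3536) (.node (nat_lit 3528) (.node (nat_lit 3524) (.node (nat_lit 3522) (.node (nat_lit 3521) (.leaf [nat_lit 4, nat_lit 0, nat_lit 6, nat_lit 5, nat_lit 3, nat_lit 2, nat_lit 0]) (.leaf [nat_lit 5, nat_lit 1, nat_lit 5, nat_lit 0])) (.node (nat_lit 3523) (.leaf [nat_lit 4, nat_lit 3, nat_lit 2, nat_lit 0]) (.leaf [nat_lit 2, nat_lit 1])))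
 (.node (nat_lit 3526) (.node (nat_lit 3525) (.leaf [nat_lit 5, nat_lit 1, nat_lit 0, nat_lit 5, nat_lit 3]) (.leaf [nat_lit 4, nat_lit 5, nat_lit 2, nat_lit 4, nat_lit 3, nat_lit 2])) (.node (nat_lit 3527) (.leaf [nat_lit 6, nat_lit 2, nat_lit 6, nat_lit 3, nat_lit 2, nat_lit 1, nat_lit 0]) (.leaf [nat_lit 5, nat_lit 3, nat_lit 4, nat_lit 5]))))
 (.node (nat_lit 3532) (.node (nat_lit 3530) (.node (nat_lit 3529) (.leaf [nat_lit 6, nat_lit 2, nat_lit 1, nat_lit 6, nat_lit 2]) (.leaf [nat_lit 1, nat_lit 5, nat_lit 3, nat_lit 1])) (.node (nat_lit 3531) (.leaf [nat_lit 6, nat_lit 5, nat_lit 0, nat_lit 5, nat_lit 0]) (.leaf [nat_lit 0, nat_lit 4, nat_lit 3, nat_lit 4, nat_lit 3, nat_lit 2, nat_lit 1, nat_lit 0])))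
 (.node (nat_lit 3534) (.node (nat_lit 3533) (.leaf [nat_lit 5, nat_lit 1, nat_lit 5, nat_lit 4, nat_lit 1]) (.leaf [nat_lit 1, nat_lit 0, nat_lit 5, nat_lit 3, nat_lit 1, nat_lit 0])) (.node (nat_lit 3535) (.leaf [nat_lit 5, nat_lit 4, nat_lit 5, nat_lit 3, nat_lit 2, nat_lit 0]) (.leaf [nat_lit 3, nat_lit 2, nat_lit 1, nat_lit 5, nat_lit 3, nat_lit 1, nat_lit 0])))))
 (.node (nat_lit 3544) (.node (nat_lit 3540) (.node (nat_lit 3538) (.node (nat_lit 3537) (.leaf [nat_lit 3, nat_lit 2, nat_lit 0, nat_lit 4, nat_lit 3, nat_lit 2, nat_lit 0]) (.leaf [nat_lit 0, nat_lit 5, nat_lit 4, nat_lit 5, nat_lit 2])) (.node (nat_lit 3539) (.leaf [nat_lit 4, nat_lit 3, nat_lit 1, nat_lit 0, nat_lit 4, nat_lit 3]) (.leaf [nat_lit 6, nat_lit 2, nat_lit 6, nat_lit 0, nat_lit 4])))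
 (.node (nat_lit 3542) (.node (nat_lit 3541) (.leaf [nat_lit 0, nat_lit 4, nat_lit 3, nat_lit 0, nat_lit 4, nat_lit 3, nat_lit 1, nat_lit 0]) (.leaf [nat_lit 6, nat_lit 4, nat_lit 2, nat_lit 6, nat_lit 2])) (.node (nat_lit 3543) (.leaf [nat_lit 1, nat_lit 5, nat_lit 6, nat_lit 4, nat_lit 3, nat_lit 1]) (.leaf [nat_lit 0, nat_lit 6, nat_lit 5, nat_lit 4, nat_lit 2, nat_lit 0]))))
 (.node (nat_lit 3548) (.node (nat_lit 3546) (.node (nat_lit 3545) (.leaf [nat_lit 3, nat_lit 2, nat_lit 1, nat_lit 4, nat_lit 1, nat_lit 0]) (.leaf [nat_lit 3, nat_lit 6, nat_lit 0])) (.node (nat_lit 3547) (.leaf [nat_lit 5, nat_lit 6, nat_lit 1, nat_lit 4, nat_lit 3, nat_lit 2, nat_lit 1]) (.leaf [nat_lit 6, nat_lit 5, nat_lit 0, nat_lit 4, nat_lit 3, nat_lit 2, nat_lit 0])))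
 (.node (nat_lit 3550) (.node (nat_lit 3549) (.leaf [nat_lit 0, nat_lit 6, nat_lit 3]) (.leaf [nat_lit 4, nat_lit 3, nat_lit 4, nat_lit 5, nat_lit 3, nat_lit 2, nat_lit 0])) (.node (nat_lit 3551) (.leaf [nat_lit 6, nat_lit 1, nat_lit 5, nat_lit 4, nat_lit 3, nat_lit 1, nat_lit 0]) (.leaf [nat_lit 1, nat_lit 5, nat_lit 6, nat_lit 4, nat_lit 2, nat_lit 1, nat_lit 0]))))))
 (.node (nat_lit 3568) (.node (nat_lit 3560) (.node (nat_lit 3556) (.node (nat_lit 3554) (.node (nat_lit 3553) (.leaf [nat_lit 3, nat_lit 1, nat_lit 6, nat_lit 1]) (.leaf [nat_lit 2, nat_lit 6, nat_lit 4, nat_lit 5])) (.node (nat_lit 3555) (.leaf [nat_lit 2, nat_lit 1, nat_lit 0, nat_lit 4, nat_lit 3, nat_lit 1]) (.leaf [nat_lit 1, nat_lit 0, nat_lit 6, nat_lit 2, nat_lit 1])))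
 (.node (nat_lit 3558) (.node (nat_lit 3557) (.leaf [nat_lit 2, nat_lit 6, nat_lit 3, nat_lit 2, nat_lit 0]) (.leaf [nat_lit 5, nat_lit 4, nat_lit 1, nat_lit 4, nat_lit 1])) (.node (nat_lit 3559) (.leaf [nat_lit 4, nat_lit 3, nat_lit 5, nat_lit 4]) (.leaf [nat_lit 6, nat_lit 3, nat_lit 6, nat_lit 4, nat_lit 2, nat_lit 0]))))
 (.node (nat_lit 3564) (.node (nat_lit 3562) (.node (nat_lit 3561) (.leaf [nat_lit 2, nat_lit 5, nat_lit 3, nat_lit 2]) (.leaf [nat_lit 4, nat_lit 5, nat_lit 1, nat_lit 5, nat_lit 3, nat_lit 2, nat_lit 1, nat_lit 0])) (.node (nat_lit 3563) (.leaf [nat_lit 3, nat_lit 4, nat_lit 3]) (.leaf [nat_lit 6, nat_lit 1, nat_lit 5, nat_lit 4, nat_lit 3, nat_lit 2, nat_lit 1])))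
 (.node (nat_lit 3566) (.node (nat_lit 3565) (.leaf [nat_lit 4, nat_lit 2, nat_lit 6, nat_lit 4, nat_lit 3]) (.leaf [nat_lit 2, nat_lit 6, nat_lit 5, nat_lit 4, nat_lit 3, nat_lit 2, nat_lit 0])) (.node (nat_lit 3567) (.leaf [nat_lit 2, nat_lit 0, nat_lit 4]) (.leaf [nat_lit 6, nat_lit 5, nat_lit 3, nat_lit 5, nat_lit 2])))))
 (.node (nat_lit 3576) (.node (nat_lit 3572) (.node (nat_lit 3570) (.node (nat_lit 3569) (.leaf [nat_lit 1, nat_lit 0, nat_lit 4, nat_lit 1, nat_lit 0]) (.leaf [nat_lit 5, nat_lit 6, nat_lit 0, nat_lit 5])) (.node (nat_lit 3571) (.leaf [nat_lit 3, nat_lit 0, nat_lit 4, nat_lit 3, nat_lit 0]) (.leaf [nat_lit 5, nat_lit 6, nat_lit 4, nat_lit 0])))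
 (.node (nat_lit 3574) (.node (nat_lit 3573) (.leaf [nat_lit 3, nat_lit 2, nat_lit 6, nat_lit 3, nat_lit 2, nat_lit 0]) (.leaf [nat_lit 0, nat_lit 5, nat_lit 6, nat_lit 4])) (.node (nat_lit 3575) (.leaf [nat_lit 1, nat_lit 0, nat_lit 4, nat_lit 3, nat_lit 1, nat_lit 0]) (.leaf [nat_lit 6, nat_lit 4, nat_lit 5, nat_lit 3, nat_lit 2]))))
 (.node (nat_lit 3580) (.node (nat_lit 3578) (.node (nat_lit 3577) (.leaf [nat_lit 4, nat_lit 3, nat_lit 6, nat_lit 1, nat_lit 4, nat_lit 3, nat_lit 2, nat_lit 1]) (.leaf [nat_lit 6, nat_lit 4, nat_lit 0, nat_lit 5, nat_lit 3, nat_lit 2, nat_lit 0])) (.node (nat_lit 3579) (.leaf [nat_lit 1, nat_lit 6, nat_lit 5, nat_lit 4, nat_lit 1]) (.leaf [nat_lit 3, nat_lit 4, nat_lit 0, nat_lit 4, nat_lit 3, nat_lit 1])))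
 (.node (nat_lit 3582) (.node (nat_lit 3581) (.leaf [nat_lit 6, nat_lit 5, nat_lit 2, nat_lit 4, nat_lit 2, nat_lit 0]) (.leaf [nat_lit 5, nat_lit 4, nat_lit 1, nat_lit 4, nat_lit 3, nat_lit 2, nat_lit 1, nat_lit 0])) (.node (nat_lit 3583) (.leaf [nat_lit 6, nat_lit 2, nat_lit 4, nat_lit 5, nat_lit 3, nat_lit 2, nat_lit 0]) (.leaf [nat_lit 4, nat_lit 3, nat_lit 2, nat_lit 4, nat_lit 3, nat_lit 2, nat_lit 1, nat_lit 0])))))))))
noncomputable def bWT_14 : Tr (List ℕ) := (.node (nat_lit 3712) (.node (nat_lit 3648) (.node (nat_lit 3616) (.node (nat_lit 3600) (.node (nat_lit 3592) (.node (nat_lit 3588) (.node (nat_lit 3586) (.node (nat_lit 3585) (.leaf [nat_lit 1, nat_lit 4, nat_lit 3, nat_lit 2, nat_lit 1, nat_lit 0]) (.leaf [nat_lit 0, nat_lit 5, nat_lit 3, nat_lit 5, nat_lit 1])) (.node (nat_lit 3587) (.leaf [nat_lit 3, nat_lit 1, nat_lit 0, nat_lit 4, nat_lit 2, nat_lit 1]) (.leaf [nat_lit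 2, nat_lit 1, nat_lit 4, nat_lit 2, nat_lit 1])))
 (.node (nat_lit 3590) (.node (nat_lit 3589) (.leaf [nat_lit 4, nat_lit 2, nat_lit 0]) (.leaf [nat_lit 6, nat_lit 5, nat_lit 3, nat_lit 5, nat_lit 3, nat_lit 0])) (.node (nat_lit 3591) (.leaf [nat_lit 0, nat_lit 4, nat_lit 3, nat_lit 0]) (.leaf [nat_lit 5, nat_lit 6, nat_lit 2, nat_lit 4, nat_lit 3, nat_lit 2, nat_lit 0]))))
 (.node (nat_lit 3596) (.node (nat_lit 3594) (.node (nat_lit 3593) (.leaf [nat_lit 3, nat_lit 4]) (.leaf [nat_lit 6, nat_lit 3, nat_lit 4, nat_lit 0, nat_lit 4, nat_lit 2, nat_lit 0])) (.node (nat_lit 3595) (.leaf [nat_lit 3, nat_lit 0, nat_lit 6]) (.leaf [nat_lit 2, nat_lit 6, nat_lit 5, nat_lit 4, nat_lit 2, nat_lit 0])))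
 (.node (nat_lit 3598) (.node (nat_lit 3597) (.leaf [nat_lit 2, nat_lit 4, nat_lit 3, nat_lit 0]) (.leaf [nat_lit 2, nat_lit 1, nat_lit 0, nat_lit 4, nat_lit 1])) (.node (nat_lit 3599) (.leaf [nat_lit 6, nat_lit 2, nat_lit 5, nat_lit 4]) (.leaf [nat_lit 2, nat_lit 5, nat_lit 6, nat_lit 4, nat_lit 3, nat_lit 2, nat_lit 0])))))
 (.node (nat_lit 3608) (.node (nat_lit 3604) (.node (nat_lit 3602) (.node (nat_lit 3601) (.leaf [nat_lit 3, nat_lit 1, nat_lit 4, nat_lit 3, nat_lit 1]) (.leaf [nat_lit 3, nat_lit 2, nat_lit 4, nat_lit 3, nat_lit 0])) (.node (nat_lit 3603) (.leaf [nat_lit 4, nat_lit 5, nat_lit 6, nat_lit 0]) (.leaf [nat_lit 6, nat_lit 3, nat_lit 5, nat_lit 4, nat_lit 2])))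
 (.node (nat_lit 3606) (.node (nat_lit 3605) (.leaf [nat_lit 5, nat_lit 2, nat_lit 5, nat_lit 6, nat_lit 2, nat_lit 0]) (.leaf [nat_lit 3, nat_lit 2, nat_lit 1, nat_lit 4, nat_lit 2, nat_lit 1])) (.node (nat_lit 3607) (.leaf [nat_lit 1, nat_lit 6, nat_lit 3, nat_lit 1]) (.leaf [nat_lit 5, nat_lit 1, nat_lit 0, nat_lit 5, nat_lit 3, nat_lit 2, nat_lit 0]))))
 (.node (nat_lit 3612) (.node (nat_lit 3610) (.node (nat_lit 3609) (.leaf [nat_lit 4, nat_lit 3, nat_lit 0, nat_lit 4, nat_lit 3, nat_lit 2, nat_lit 1, nat_lit 0]) (.leaf [nat_lit 5, nat_lit 3, nat_lit 2, nat_lit 5, nat_lit 1])) (.node (nat_lit 3611) (.leaf [nat_lit 6, nat_lit 5, nat_lit 4, nat_lit 2]) (.leaf [nat_lit 6, nat_lit 2, nat_lit 5, nat_lit 6, nat_lit 3, nat_lit 2])))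
 (.node (nat_lit 3614) (.node (nat_lit 3613) (.leaf [nat_lit 6, nat_lit 2, nat_lit 5, nat_lit 4, nat_lit 3, nat_lit 2, nat_lit 0]) (.leaf [nat_lit 4, nat_lit 0, nat_lit 4, nat_lit 3, nat_lit 2, nat_lit 1, nat_lit 0])) (.node (nat_lit 3615) (.leaf [nat_lit 1, nat_lit 4, nat_lit 3, nat_lit 1]) (.leaf [nat_lit 6, nat_lit 2, nat_lit 1, nat_lit 6, nat_lit 3, nat_lit 0]))))))
 (.node (nat_lit 3632) (.node (nat_lit 3624) (.node (nat_lit 3620) (.node (nat_lit 3618) (.node (nat_lit 3617) (.leaf [nat_lit 6, nat_lit 1, nat_lit 0, nat_lit 6, nat_lit 3, nat_lit 2]) (.leaf [nat_lit 4, nat_lit 2, nat_lit 5, nat_lit 3, nat_lit 4, nat_lit 2])) (.node (nat_lit 3619) (.leaf [nat_lit 0, nat_lit 5, nat_lit 1, nat_lit 5, nat_lit 2, nat_lit 0]) (.leaf [nat_lit 0, nat_lit 4, nat_lit 3, nat_lit 4, nat_lit 1])))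
 (.node (nat_lit 3622) (.node (nat_lit 3621) (.leaf [nat_lit 3, nat_lit 4, nat_lit 0, nat_lit 4, nat_lit 1]) (.leaf [nat_lit 4, nat_lit 2, nat_lit 6, nat_lit 4, nat_lit 2])) (.node (nat_lit 3623) (.leaf [nat_lit 4, nat_lit 5, nat_lit 0, nat_lit 4, nat_lit 2]) (.leaf [nat_lit 4, nat_lit 2, nat_lit 4, nat_lit 5, nat_lit 0]))))
 (.node (nat_lit 3628) (.node (nat_lit 3626) (.node (nat_lit 3625) (.leaf [nat_lit 4, nat_lit 3, nat_lit 2, nat_lit 4, nat_lit 3, nat_lit 1]) (.leaf [nat_lit 5, nat_lit 3, nat_lit 4, nat_lit 5, nat_lit 3, nat_lit 2, nat_lit 0])) (.node (nat_lit 3627) (.leaf [nat_lit 6, nat_lit 5, nat_lit 1, nat_lit 4, nat_lit 1, nat_lit 0]) (.leaf [nat_lit 6, nat_lit 4, nat_lit 2, nat_lit 4, nat_lit 3, nat_lit 2, nat_lit 0])))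
 (.node (nat_lit 3630) (.node (nat_lit 3629) (.leaf [nat_lit 3, nat_lit 6, nat_lit 5, nat_lit 4, nat_lit 0]) (.leaf [nat_lit 6, nat_lit 4, nat_lit 0, nat_lit 4, nat_lit 3])) (.node (nat_lit 3631) (.leaf [nat_lit 0, nat_lit 5, nat_lit 2]) (.leaf [nat_lit 4, nat_lit 2, nat_lit 5, nat_lit 6])))))
 (.node (nat_lit 3640) (.node (nat_lit 3636) (.node (nat_lit 3634) (.node (nat_lit 3633) (.leaf [nat_lit 4, nat_lit 2, nat_lit 6, nat_lit 1, nat_lit 4, nat_lit 1]) (.leaf [nat_lit 3, nat_lit 2, nat_lit 6])) (.node (nat_lit 3635) (.leaf [nat_lit 6, nat_lit 5, nat_lit 3, nat_lit 5, nat_lit 0]) (.leaf [nat_lit 3, nat_lit 4, nat_lit 5, nat_lit 4, nat_lit 3, nat_lit 2, nat_lit 0])))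
 (.node (nat_lit 3638) (.node (nat_lit 3637) (.leaf [nat_lit 2, nat_lit 6, nat_lit 4, nat_lit 5, nat_lit 2, nat_lit 0]) (.leaf [nat_lit 6, nat_lit 5, nat_lit 6, nat_lit 3])) (.node (nat_lit 3639) (.leaf [nat_lit 3, nat_lit 0, nat_lit 4, nat_lit 2]) (.leaf [nat_lit 3, nat_lit 5]))))
 (.node (nat_lit 3644) (.node (nat_lit 3642) (.node (nat_lit 3641) (.leaf [nat_lit 2, nat_lit 5, nat_lit 4, nat_lit 5, nat_lit 2]) (.leaf [nat_lit 5, nat_lit 4, nat_lit 0, nat_lit 5, nat_lit 0])) (.node (nat_lit 3643) (.leaf [nat_lit 6, nat_lit 0, nat_lit 5, nat_lit 4, nat_lit 3]) (.leaf [nat_lit 5, nat_lit 0, nat_lit 5, nat_lit 0, nat_lit 4, nat_lit 2, nat_lit 0])))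
 (.node (nat_lit 3646) (.node (nat_lit 3645) (.leaf [nat_lit 6, nat_lit 3, nat_lit 6, nat_lit 4, nat_lit 3]) (.leaf [nat_lit 3, nat_lit 1, nat_lit 0, nat_lit 6, nat_lit 1, nat_lit 0])) (.node (nat_lit 3647) (.leaf [nat_lit 0, nat_lit 4, nat_lit 3, nat_lit 0, nat_lit 4, nat_lit 2, nat_lit 1]) (.leaf [nat_lit 3, nat_lit 2, nat_lit 1])))))))
 (.node (nat_lit 3680) (.node (nat_lit 3664) (.node (nat_lit 3656) (.node (nat_lit 3652) (.node (nat_lit 3650) (.node (nat_lit 3649) (.leaf [nat_lit 6, nat_lit 2, nat_lit 1, nat_lit 6, nat_lit 0]) (.leaf [nat_lit 4, nat_lit 3, nat_lit 0, nat_lit 4, nat_lit 3, nat_lit 1])) (.node (nat_lit 3651) (.leaf [nat_lit 2, nat_lit 4, nat_lit 3, nat_lit 2]) (.leaf [nat_lit 3, nat_lit 2, nat_lit 0, nat_lit 4, nat_lit 2, nat_lit 0])))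
 (.node (nat_lit 3654) (.node (nat_lit 3653) (.leaf [nat_lit 4, nat_lit 5, nat_lit 3, nat_lit 4, nat_lit 3, nat_lit 2, nat_lit 0]) (.leaf [nat_lit 3, nat_lit 5, nat_lit 4, nat_lit 5, nat_lit 3, nat_lit 2, nat_lit 0])) (.node (nat_lit 3655) (.leaf [nat_lit 5, nat_lit 0, nat_lit 5, nat_lit 4, nat_lit 2]) (.leaf [nat_lit 2, nat_lit 1, nat_lit 4, nat_lit 1, nat_lit 0]))))
 (.node (nat_lit 3660) (.node (nat_lit 3658) (.node (nat_lit 3657) (.leaf [nat_lit 5, nat_lit 0, nat_lit 5, nat_lit 0, nat_lit 4, nat_lit 3]) (.leaf [nat_lit 2, nat_lit 6, nat_lit 4, nat_lit 2, nat_lit 4, nat_lit 3, nat_lit 2])) (.node (nat_lit 3659) (.leaf [nat_lit 0, nat_lit 5, nat_lit 6, nat_lit 4, nat_lit 2, nat_lit 0]) (.leaf [nat_lit 6, nat_lit 3, nat_lit 5, nat_lit 4, nat_lit 3, nat_lit 2])))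
 (.node (nat_lit 3662) (.node (nat_lit 3661) (.leaf [nat_lit 4, nat_lit 5, nat_lit 1, nat_lit 5, nat_lit 2, nat_lit 1, nat_lit 0]) (.leaf [nat_lit 6, nat_lit 4, nat_lit 1, nat_lit 4, nat_lit 3, nat_lit 1, nat_lit 0])) (.node (nat_lit 3663) (.leaf [nat_lit 4, nat_lit 0, nat_lit 6, nat_lit 0, nat_lit 4, nat_lit 3, nat_lit 0]) (.leaf [nat_lit 4, nat_lit 0, nat_lit 5, nat_lit 4, nat_lit 2])))))
 (.node (nat_lit 3672) (.node (nat_lit 3668) (.node (nat_lit 3666) (.node (nat_lit 3665) (.leaf [nat_lit 4, nat_lit 5, nat_lit 1, nat_lit 5, nat_lit 1]) (.leaf [nat_lit 1, nat_lit 4, nat_lit 5, nat_lit 4, nat_lit 2, nat_lit 1, nat_lit 0])) (.node (nat_lit 3667) (.leaf [nat_lit 5, nat_lit 1, nat_lit 5, nat_lit 3, nat_lit 2]) (.leaf [nat_lit 3, nat_lit 1, nat_lit 0, nat_lit 6, nat_lit 3, nat_lit 2, nat_lit 1])))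
 (.node (nat_lit 3670) (.node (nat_lit 3669) (.leaf [nat_lit 5, nat_lit 6, nat_lit 4, nat_lit 3, nat_lit 0]) (.leaf [nat_lit 4, nat_lit 2, nat_lit 0, nat_lit 4, nat_lit 2, nat_lit 1])) (.node (nat_lit 3671) (.leaf [nat_lit 0, nat_lit 5, nat_lit 2, nat_lit 5, nat_lit 3, nat_lit 1, nat_lit 0]) (.leaf [nat_lit 1, nat_lit 4, nat_lit 2, nat_lit 0, nat_lit 4, nat_lit 3, nat_lit 2]))))
 (.node (nat_lit 3676) (.node (nat_lit 3674) (.node (nat_lit 3673) (.leaf [nat_lit 6, nat_lit 3, nat_lit 6, nat_lit 4]) (.leaf [nat_lit 4, nat_lit 5, nat_lit 0, nat_lit 5, nat_lit 3, nat_lit 0])) (.node (nat_lit 3675) (.leaf [nat_lit 2, nat_lit 5, nat_lit 0]) (.leaf [nat_lit 3, nat_lit 1, nat_lit 0, nat_lit 4, nat_lit 3, nat_lit 2, nat_lit 1])))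
 (.node (nat_lit 3678) (.node (nat_lit 3677) (.leaf [nat_lit 6, nat_lit 4, nat_lit 2, nat_lit 6, nat_lit 0]) (.leaf [nat_lit 3, nat_lit 0, nat_lit 4, nat_lit 3, nat_lit 2])) (.node (nat_lit 3679) (.leaf [nat_lit 4, nat_lit 1, nat_lit 4, nat_lit 3, nat_lit 0]) (.leaf [nat_lit 5, nat_lit 2, nat_lit 5, nat_lit 2, nat_lit 1, nat_lit 0]))))))
 (.node (nat_lit 3696) (.node (nat_lit 3688) (.node (nat_lit 3684) (.node (nat_lit 3682) (.node (nat_lit 3681) (.leaf [nat_lit 0, nat_lit 5, nat_lit 4, nat_lit 5, nat_lit 0]) (.leaf [nat_lit 2, nat_lit 1, nat_lit 0, nat_lit 6, nat_lit 3, nat_lit 2, nat_lit 1, nat_lit 0])) (.node (nat_lit 3683) (.leaf [nat_lit 5, nat_lit 4, nat_lit 5, nat_lit 3]) (.leaf [nat_lit 5, nat_lit 6, nat_lit 0, nat_lit 4, nat_lit 3])))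
 (.node (nat_lit 3686) (.node (nat_lit 3685) (.leaf [nat_lit 3, nat_lit 6, nat_lit 5, nat_lit 4, nat_lit 3, nat_lit 2]) (.leaf [nat_lit 4, nat_lit 3, nat_lit 4, nat_lit 0, nat_lit 4, nat_lit 0])) (.node (nat_lit 3687) (.leaf [nat_lit 1, nat_lit 6, nat_lit 2, nat_lit 1, nat_lit 0]) (.leaf [nat_lit 2, nat_lit 0, nat_lit 6, nat_lit 3, nat_lit 2]))))
 (.node (nat_lit 3692) (.node (nat_lit 3690) (.node (nat_lit 3689) (.leaf [nat_lit 2, nat_lit 1, nat_lit 5, nat_lit 3, nat_lit 2, nat_lit 1]) (.leaf [nat_lit 1, nat_lit 0, nat_lit 5, nat_lit 2, nat_lit 1])) (.node (nat_lit 3691) (.leaf [nat_lit 6, nat_lit 2, nat_lit 5, nat_lit 4, nat_lit 3]) (.leaf [nat_lit 6, nat_lit 2, nat_lit 6, nat_lit 0, nat_lit 4, nat_lit 2, nat_lit 0])))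
 (.node (nat_lit 3694) (.node (nat_lit 3693) (.leaf [nat_lit 5, nat_lit 2, nat_lit 6, nat_lit 5, nat_lit 3]) (.leaf [nat_lit 5, nat_lit 0, nat_lit 5, nat_lit 1])) (.node (nat_lit 3695) (.leaf [nat_lit 1, nat_lit 6, nat_lit 0, nat_lit 6, nat_lit 3]) (.leaf [nat_lit 6, nat_lit 3, nat_lit 6, nat_lit 4, nat_lit 3, nat_lit 2, nat_lit 0])))))
 (.node (nat_lit 3704) (.node (nat_lit 3700) (.node (nat_lit 3698) (.node (nat_lit 3697) (.leaf [nat_lit 1, nat_lit 4, nat_lit 2, nat_lit 0, nat_lit 4, nat_lit 3, nat_lit 0]) (.leaf [nat_lit 4, nat_lit 5, nat_lit 6, nat_lit 2])) (.node (nat_lit 3699) (.leaf [nat_lit 4, nat_lit 2, nat_lit 4, nat_lit 5, nat_lit 3, nat_lit 2]) (.leaf [nat_lit 5, nat_lit 3, nat_lit 4, nat_lit 5, nat_lit 3])))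
 (.node (nat_lit 3702) (.node (nat_lit 3701) (.leaf [nat_lit 2, nat_lit 5, nat_lit 4, nat_lit 5, nat_lit 3, nat_lit 0]) (.leaf [nat_lit 2, nat_lit 0, nat_lit 6, nat_lit 2])) (.node (nat_lit 3703) (.leaf [nat_lit 0, nat_lit 4, nat_lit 3, nat_lit 4, nat_lit 3, nat_lit 1]) (.leaf [nat_lit 6, nat_lit 4, nat_lit 2, nat_lit 6, nat_lit 3, nat_lit 0]))))
 (.node (nat_lit 3708) (.node (nat_lit 3706) (.node (nat_lit 3705) (.leaf [nat_lit 0, nat_lit 5, nat_lit 4, nat_lit 5, nat_lit 3, nat_lit 2]) (.leaf [nat_lit 2, nat_lit 1, nat_lit 0, nat_lit 6, nat_lit 2, nat_lit 1, nat_lit 0])) (.node (nat_lit 3707) (.leaf [nat_lit 5, nat_lit 6, nat_lit 0, nat_lit 4]) (.leaf [nat_lit 0, nat_lit 5, nat_lit 4, nat_lit 2, nat_lit 0])))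
 (.node (nat_lit 3710) (.node (nat_lit 3709) (.leaf [nat_lit 6, nat_lit 4, nat_lit 0, nat_lit 5]) (.leaf [nat_lit 1, nat_lit 5, nat_lit 6, nat_lit 3, nat_lit 2, nat_lit 1])) (.node (nat_lit 3711) (.leaf [nat_lit 6, nat_lit 2, nat_lit 5, nat_lit 3, nat_lit 2]) (.leaf [nat_lit 5, nat_lit 4, nat_lit 2]))))))))
 (.node (nat_lit 3776) (.node (nat_lit 3744) (.node (nat_lit 3728) (.node (nat_lit 3720) (.node (nat_lit 3716) (.node (nat_lit 3714) (.node (nat_lit 3713) (.leaf [nat_lit 4, nat_lit 5, nat_lit 6, nat_lit 4, nat_lit 2, nat_lit 0]) (.leaf [nat_lit 5, nat_lit 1, nat_lit 0, nat_lit 6, nat_lit 3, nat_lit 2, nat_lit 1, nat_lit 0])) (.node (nat_lit 3715) (.leaf [nat_lit 3, nat_lit 1, nat_lit 0, nat_lit 4, nat_lit 1, nat_lit 0]) (.leaf [nat_lit 5, nat_lit 2, nat_lit 4])))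
 (.node (nat_lit 3718) (.node (nat_lit 3717) (.leaf [nat_lit 6, nat_lit 0, nat_lit 6, nat_lit 2, nat_lit 0]) (.leaf [nat_lit 4, nat_lit 1, nat_lit 5, nat_lit 2, nat_lit 1])) (.node (nat_lit 3719) (.leaf [nat_lit 0, nat_lit 5, nat_lit 2, nat_lit 5, nat_lit 0]) (.leaf [nat_lit 1, nat_lit 5, nat_lit 4, nat_lit 1, nat_lit 0]))))
 (.node (nat_lit 3724) (.node (nat_lit 3722) (.node (nat_lit 3721) (.leaf [nat_lit 3, nat_lit 5, nat_lit 2, nat_lit 4, nat_lit 3]) (.leaf [nat_lit 1, nat_lit 6, nat_lit 0, nat_lit 6, nat_lit 3, nat_lit 2, nat_lit 1, nat_lit 0])) (.node (nat_lit 3723) (.leaf [nat_lit 5, nat_lit 3, nat_lit 2, nat_lit 5, nat_lit 2, nat_lit 0]) (.leaf [nat_lit 4, nat_lit 0, nat_lit 4, nat_lit 3])))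
 (.node (nat_lit 3726) (.node (nat_lit 3725) (.leaf [nat_lit 3, nat_lit 4, nat_lit 0, nat_lit 4, nat_lit 2, nat_lit 0]) (.leaf [nat_lit 6, nat_lit 5, nat_lit 0, nat_lit 4])) (.node (nat_lit 3727) (.leaf [nat_lit 2, nat_lit 5, nat_lit 6, nat_lit 0]) (.leaf [nat_lit 1, nat_lit 0, nat_lit 6, nat_lit 5, nat_lit 1])))))
 (.node (nat_lit 3736) (.node (nat_lit 3732) (.node (nat_lit 3730) (.node (nat_lit 3729) (.leaf [nat_lit 6, nat_lit 4, nat_lit 5, nat_lit 4, nat_lit 3]) (.leaf [nat_lit 5, nat_lit 4, nat_lit 5, nat_lit 3, nat_lit 4, nat_lit 3, nat_lit 2])) (.node (nat_lit 3731) (.leaf [nat_lit 1, nat_lit 6, nat_lit 5, nat_lit 1, nat_lit 0]) (.leaf [nat_lit 6, nat_lit 5, nat_lit 2, nat_lit 0])))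
 (.node (nat_lit 3734) (.node (nat_lit 3733) (.leaf [nat_lit 3, nat_lit 4, nat_lit 5, nat_lit 0]) (.leaf [nat_lit 1, nat_lit 0, nat_lit 6, nat_lit 5, nat_lit 3, nat_lit 2, nat_lit 1, nat_lit 0])) (.node (nat_lit 3735) (.leaf [nat_lit 2, nat_lit 6, nat_lit 1, nat_lit 5, nat_lit 1, nat_lit 0]) (.leaf [nat_lit 0, nat_lit 6, nat_lit 5, nat_lit 3, nat_lit 0]))))
 (.node (nat_lit 3740) (.node (nat_lit 3738) (.node (nat_lit 3737) (.leaf [nat_lit 4, nat_lit 3, nat_lit 0, nat_lit 4, nat_lit 3, nat_lit 2, nat_lit 0]) (.leaf [nat_lit 5, nat_lit 3, nat_lit 1, nat_lit 4, nat_lit 2, nat_lit 1])) (.node (nat_lit 3739) (.leaf [nat_lit 4, nat_lit 3, nat_lit 5, nat_lit 3, nat_lit 2]) (.leaf [nat_lit 1, nat_lit 0, nat_lit 5, nat_lit 4, nat_lit 3, nat_lit 2, nat_lit 1, nat_lit 0])))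
 (.node (nat_lit 3742) (.node (nat_lit 3741) (.leaf [nat_lit 3, nat_lit 2]) (.leaf [nat_lit 4, nat_lit 2, nat_lit 1, nat_lit 4, nat_lit 3, nat_lit 2, nat_lit 1, nat_lit 0])) (.node (nat_lit 3743) (.leaf [nat_lit 5, nat_lit 0, nat_lit 6, nat_lit 3, nat_lit 0]) (.leaf [nat_lit 5, nat_lit 3, nat_lit 6, nat_lit 3, nat_lit 2, nat_lit 0]))))))
 (.node (nat_lit 3760) (.node (nat_lit 3752) (.node (nat_lit 3748) (.node (nat_lit 3746) (.node (nat_lit 3745) (.leaf [nat_lit 4, nat_lit 3, nat_lit 1, nat_lit 0, nat_lit 4, nat_lit 2, nat_lit 1, nat_lit 0]) (.leaf [nat_lit 0, nat_lit 5, nat_lit 3, nat_lit 5])) (.node (nat_lit 3747) (.leaf [nat_lit 6, nat_lit 2, nat_lit 1, nat_lit 6, nat_lit 1, nat_lit 0]) (.leaf [nat_lit 0, nat_lit 5, nat_lit 1, nat_lit 5, nat_lit 3])))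
 (.node (nat_lit 3750) (.node (nat_lit 3749) (.leaf [nat_lit 3, nat_lit 6, nat_lit 5, nat_lit 6, nat_lit 3, nat_lit 2, nat_lit 0]) (.leaf [nat_lit 1, nat_lit 5, nat_lit 2, nat_lit 1, nat_lit 0])) (.node (nat_lit 3751) (.leaf [nat_lit 4, nat_lit 5, nat_lit 4, nat_lit 3]) (.leaf [nat_lit 1, nat_lit 4, nat_lit 2, nat_lit 4]))))
 (.node (nat_lit 3756) (.node (nat_lit 3754) (.node (nat_lit 3753) (.leaf [nat_lit 1, nat_lit 5, nat_lit 2, nat_lit 4, nat_lit 3, nat_lit 1]) (.leaf [nat_lit 1, nat_lit 5, nat_lit 0, nat_lit 6, nat_lit 3, nat_lit 2, nat_lit 1, nat_lit 0])) (.node (nat_lit 3755) (.leaf [nat_lit 1, nat_lit 6, nat_lit 5, nat_lit 3, nat_lit 2, nat_lit 1]) (.leaf [nat_lit 4, nat_lit 1, nat_lit 5, nat_lit 3, nat_lit 1, nat_lit 0])))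
 (.node (nat_lit 3758) (.node (nat_lit 3757) (.leaf [nat_lit 3, nat_lit 6, nat_lit 2, nat_lit 5, nat_lit 3, nat_lit 0]) (.leaf [nat_lit 6, nat_lit 0, nat_lit 5, nat_lit 2])) (.node (nat_lit 3759) (.leaf [nat_lit 4, nat_lit 3, nat_lit 4, nat_lit 1, nat_lit 0]) (.leaf [nat_lit 0, nat_lit 4, nat_lit 3, nat_lit 0, nat_lit 4, nat_lit 3, nat_lit 2, nat_lit 1])))))
 (.node (nat_lit 3768) (.node (nat_lit 3764) (.node (nat_lit 3762) (.node (nat_lit 3761) (.leaf [nat_lit 4, nat_lit 5, nat_lit 0, nat_lit 4, nat_lit 3, nat_lit 0]) (.leaf [nat_lit 1, nat_lit 5, nat_lit 3, nat_lit 4, nat_lit 2, nat_lit 1])) (.node (nat_lit 3763) (.leaf [nat_lit 5, nat_lit 2, nat_lit 5, nat_lit 1]) (.leaf [nat_lit 4, nat_lit 3, nat_lit 0, nat_lit 4, nat_lit 1])))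
 (.node (nat_lit 3766) (.node (nat_lit 3765) (.leaf [nat_lit 5, nat_lit 0, nat_lit 4]) (.leaf [nat_lit 4, nat_lit 2, nat_lit 4, nat_lit 3])) (.node (nat_lit 3767) (.leaf [nat_lit 5, nat_lit 3, nat_lit 4, nat_lit 3, nat_lit 0]) (.leaf [nat_lit 3, nat_lit 5, nat_lit 2, nat_lit 4, nat_lit 2, nat_lit 0]))))
 (.node (nat_lit 3772) (.node (nat_lit 3770) (.node (nat_lit 3769) (.leaf [nat_lit 3, nat_lit 5, nat_lit 4, nat_lit 2]) (.leaf [nat_lit 2, nat_lit 5, nat_lit 3, nat_lit 4])) (.node (nat_lit 3771) (.leaf [nat_lit 2, nat_lit 4, nat_lit 5, nat_lit 3, nat_lit 2, nat_lit 0]) (.leaf [nat_lit 5, nat_lit 6, nat_lit 3, nat_lit 4, nat_lit 0])))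
 (.node (nat_lit 3774) (.node (nat_lit 3773) (.leaf [nat_lit 6, nat_lit 4, nat_lit 1, nat_lit 5, nat_lit 2, nat_lit 1]) (.leaf [nat_lit 6, nat_lit 3, nat_lit 5])) (.node (nat_lit 3775) (.leaf [nat_lit 5, nat_lit 1, nat_lit 4, nat_lit 2, nat_lit 1]) (.leaf [nat_lit 6, nat_lit 4, nat_lit 5, nat_lit 4, nat_lit 2, nat_lit 0])))))))
 (.node (nat_lit 3808) (.node (nat_lit 3792) (.node (nat_lit 3784) (.node (nat_lit 3780) (.node (nat_lit 3778) (.node (nat_lit 3777) (.leaf [nat_lit 0, nat_lit 6, nat_lit 2, nat_lit 6, nat_lit 3, nat_lit 0]) (.leaf [nat_lit 3, nat_lit 6, nat_lit 2, nat_lit 5, nat_lit 2])) (.node (nat_lit 3779) (.leaf [nat_lit 2, nat_lit 5, nat_lit 4, nat_lit 2, nat_lit 0]) (.leaf [nat_lit 4, nat_lit 3, nat_lit 4, nat_lit 2])))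
 (.node (nat_lit 3782) (.node (nat_lit 3781) (.leaf [nat_lit 2, nat_lit 5, nat_lit 4]) (.leaf [nat_lit 3, nat_lit 0, nat_lit 5, nat_lit 0])) (.node (nat_lit 3783) (.leaf [nat_lit 0, nat_lit 5, nat_lit 0, nat_lit 4, nat_lit 2]) (.leaf [nat_lit 1, nat_lit 0, nat_lit 5, nat_lit 4, nat_lit 1]))))
 (.node (nat_lit 3788) (.node (nat_lit 3786) (.node (nat_lit 3785) (.leaf [nat_lit 2, nat_lit 6, nat_lit 5, nat_lit 0]) (.leaf [nat_lit 0, nat_lit 6, nat_lit 5, nat_lit 2])) (.node (nat_lit 3787) (.leaf [nat_lit 3, nat_lit 1, nat_lit 4, nat_lit 5, nat_lit 3, nat_lit 2, nat_lit 1]) (.leaf [nat_lit 2, nat_lit 0, nat_lit 6, nat_lit 5, nat_lit 3, nat_lit 2, nat_lit 0])))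
 (.node (nat_lit 3790) (.node (nat_lit 3789) (.leaf [nat_lit 0, nat_lit 6, nat_lit 0, nat_lit 5, nat_lit 2, nat_lit 0]) (.leaf [nat_lit 2, nat_lit 5, nat_lit 2, nat_lit 4, nat_lit 3, nat_lit 2])) (.node (nat_lit 3791) (.leaf [nat_lit 6, nat_lit 0, nat_lit 5, nat_lit 3, nat_lit 0]) (.leaf [nat_lit 4, nat_lit 3, nat_lit 5, nat_lit 0])))))
 (.node (nat_lit 3800) (.node (nat_lit 3796) (.node (nat_lit 3794) (.node (nat_lit 3793) (.leaf [nat_lit 0, nat_lit 6, nat_lit 2, nat_lit 5]) (.leaf [nat_lit 6, nat_lit 3, nat_lit 1, nat_lit 5, nat_lit 3, nat_lit 2, nat_lit 1, nat_lit 0])) (.node (nat_lit 3795) (.leaf [nat_lit 5, nat_lit 2, nat_lit 6, nat_lit 3, nat_lit 2]) (.leaf [nat_lit 5, nat_lit 4, nat_lit 5])))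
 (.node (nat_lit 3798) (.node (nat_lit 3797) (.leaf [nat_lit 5, nat_lit 4, nat_lit 0, nat_lit 5, nat_lit 2]) (.leaf [nat_lit 3, nat_lit 1, nat_lit 4, nat_lit 3, nat_lit 2, nat_lit 1, nat_lit 0])) (.node (nat_lit 3799) (.leaf [nat_lit 6, nat_lit 0, nat_lit 6, nat_lit 2, nat_lit 4]) (.leaf [nat_lit 6, nat_lit 4, nat_lit 2, nat_lit 6, nat_lit 3, nat_lit 2]))))
 (.node (nat_lit 3804) (.node (nat_lit 3802) (.node (nat_lit 3801) (.leaf [nat_lit 3, nat_lit 2, nat_lit 1, nat_lit 5, nat_lit 2, nat_lit 1]) (.leaf [nat_lit 5, nat_lit 0, nat_lit 5, nat_lit 4, nat_lit 3, nat_lit 0])) (.node (nat_lit 3803) (.leaf [nat_lit 4, nat_lit 2, nat_lit 5, nat_lit 3, nat_lit 4, nat_lit 3, nat_lit 0]) (.leaf [nat_lit 3, nat_lit 2, nat_lit 5, nat_lit 3, nat_lit 0])))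
 (.node (nat_lit 3806) (.node (nat_lit 3805) (.leaf [nat_lit 0, nat_lit 4, nat_lit 0]) (.leaf [nat_lit 4, nat_lit 3, nat_lit 5, nat_lit 4, nat_lit 3, nat_lit 2, nat_lit 0])) (.node (nat_lit 3807) (.leaf [nat_lit 3, nat_lit 4, nat_lit 5, nat_lit 3, nat_lit 2]) (.leaf [nat_lit 0, nat_lit 6, nat_lit 2, nat_lit 6, nat_lit 0]))))))
 (.node (nat_lit 3824) (.node (nat_lit 3816) (.node (nat_lit 3812) (.node (nat_lit 3810) (.node (nat_lit 3809) (.leaf [nat_lit 2, nat_lit 5, nat_lit 2, nat_lit 4, nat_lit 3, nat_lit 0]) (.leaf [nat_lit 4, nat_lit 2, nat_lit 1, nat_lit 4, nat_lit 2, nat_lit 1, nat_lit 0])) (.node (nat_lit 3811) (.leaf [nat_lit 3, nat_lit 5, nat_lit 3, nat_lit 4, nat_lit 3, nat_lit 0]) (.leaf [nat_lit 5, nat_lit 3, nat_lit 4, nat_lit 3, nat_lit 2])))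
 (.node (nat_lit 3814) (.node (nat_lit 3813) (.leaf [nat_lit 6, nat_lit 2, nat_lit 6, nat_lit 3]) (.leaf [nat_lit 6, nat_lit 1, nat_lit 0, nat_lit 6, nat_lit 1, nat_lit 0])) (.node (nat_lit 3815) (.leaf [nat_lit 5, nat_lit 3, nat_lit 5, nat_lit 2]) (.leaf [nat_lit 4, nat_lit 3, nat_lit 1, nat_lit 5, nat_lit 1, nat_lit 0]))))
 (.node (nat_lit 3820) (.node (nat_lit 3818) (.node (nat_lit 3817) (.leaf [nat_lit 4, nat_lit 1, nat_lit 5, nat_lit 3, nat_lit 2, nat_lit 1]) (.leaf [nat_lit 6, nat_lit 3, nat_lit 6, nat_lit 2])) (.node (nat_lit 3819) (.leaf [nat_lit 2, nat_lit 1, nat_lit 5, nat_lit 4, nat_lit 3, nat_lit 2, nat_lit 1, nat_lit 0]) (.leaf [nat_lit 1, nat_lit 4, nat_lit 2, nat_lit 4, nat_lit 3, nat_lit 1])))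
 (.node (nat_lit 3822) (.node (nat_lit 3821) (.leaf [nat_lit 2, nat_lit 5, nat_lit 3, nat_lit 4, nat_lit 3]) (.leaf [nat_lit 0, nat_lit 5, nat_lit 4, nat_lit 3])) (.node (nat_lit 3823) (.leaf [nat_lit 1, nat_lit 0, nat_lit 5, nat_lit 4, nat_lit 2, nat_lit 1, nat_lit 0]) (.leaf [nat_lit 5, nat_lit 2, nat_lit 4, nat_lit 3])))))
 (.node (nat_lit 3832) (.node (nat_lit 3828) (.node (nat_lit 3826) (.node (nat_lit 3825) (.leaf [nat_lit 2, nat_lit 0, nat_lit 4, nat_lit 3, nat_lit 2, nat_lit 0]) (.leaf [nat_lit 4, nat_lit 0, nat_lit 4, nat_lit 5, nat_lit 2])) (.node (nat_lit 3827) (.leaf [nat_lit 2, nat_lit 5, nat_lit 4, nat_lit 5, nat_lit 3, nat_lit 2]) (.leaf [nat_lit 4, nat_lit 3, nat_lit 4, nat_lit 0, nat_lit 4, nat_lit 3, nat_lit 2])))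
 (.node (nat_lit 3830) (.node (nat_lit 3829) (.leaf [nat_lit 4, nat_lit 5, nat_lit 2, nat_lit 4, nat_lit 0]) (.leaf [nat_lit 5, nat_lit 2, nat_lit 0])) (.node (nat_lit 3831) (.leaf [nat_lit 3, nat_lit 2, nat_lit 1, nat_lit 4, nat_lit 3, nat_lit 1, nat_lit 0]) (.leaf [nat_lit 2, nat_lit 5, nat_lit 4, nat_lit 5, nat_lit 0]))))
 (.node (nat_lit 3836) (.node (nat_lit 3834) (.node (nat_lit 3833) (.leaf [nat_lit 5, nat_lit 3, nat_lit 1, nat_lit 4, nat_lit 1, nat_lit 0]) (.leaf [nat_lit 5, nat_lit 3, nat_lit 4, nat_lit 2])) (.node (nat_lit 3835) (.leaf [nat_lit 5, nat_lit 0, nat_lit 5, nat_lit 2, nat_lit 0]) (.leaf [nat_lit 3, nat_lit 5, nat_lit 3, nat_lit 4, nat_lit 0])))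
 (.node (nat_lit 3838) (.node (nat_lit 3837) (.leaf [nat_lit 4, nat_lit 2, nat_lit 0, nat_lit 4, nat_lit 3, nat_lit 0]) (.leaf [nat_lit 1, nat_lit 4, nat_lit 5, nat_lit 2, nat_lit 1])) (.node (nat_lit 3839) (.leaf [nat_lit 5, nat_lit 3, nat_lit 0, nat_lit 4]) (.leaf [nat_lit 0, nat_lit 4, nat_lit 5])))))))))
noncomputable def bWT_15 : Tr (List ℕ) := (.node (nat_lit 3968) (.node (nat_lit 3904) (.node (nat_lit 3872) (.node (nat_lit 3856) (.node (nat_lit 3848) (.node (nat_lit 3844) (.node (nat_lit 3842) (.node (nat_lit 3841) (.leaf [nat_lit 6, nat_lit 1, nat_lit 0, nat_lit 6, nat_lit 3, nat_lit 2, nat_lit 1]) (.leaf [nat_lit 5, nat_lit 1, nat_lit 5, nat_lit 2, nat_lit 1])) (.node (nat_lit 3843) (.leaf [nat_lit 5, nat_lit 2, nat_lit 5, nat_lit 3]) (.leaf [nat_lit 0, nat_lit 4, nat_lit 5, nat_lit 3])))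
 (.node (nat_lit 3846) (.node (nat_lit 3845) (.leaf [nat_lit 2, nat_lit 5, nat_lit 3, nat_lit 4, nat_lit 2, nat_lit 0]) (.leaf [nat_lit 5, nat_lit 2, nat_lit 5, nat_lit 3, nat_lit 2, nat_lit 0])) (.node (nat_lit 3847) (.leaf [nat_lit 1, nat_lit 5, nat_lit 2, nat_lit 4, nat_lit 2, nat_lit 1, nat_lit 0]) (.leaf [nat_lit 1, nat_lit 5, nat_lit 3, nat_lit 4, nat_lit 1, nat_lit 0]))))
 (.node (nat_lit 3852) (.node (nat_lit 3850) (.node (nat_lit 3849) (.leaf [nat_lit 0, nat_lit 5, nat_lit 1, nat_lit 5, nat_lit 3, nat_lit 1]) (.leaf [nat_lit 4, nat_lit 3, nat_lit 0, nat_lit 4])) (.node (nat_lit 3851) (.leaf [nat_lit 5, nat_lit 4, nat_lit 3, nat_lit 5, nat_lit 3, nat_lit 2, nat_lit 0]) (.leaf [nat_lit 4, nat_lit 3, nat_lit 4, nat_lit 0])))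
 (.node (nat_lit 3854) (.node (nat_lit 3853) (.leaf [nat_lit 0, nat_lit 5, nat_lit 3, nat_lit 5, nat_lit 3, nat_lit 2, nat_lit 0]) (.leaf [nat_lit 0, nat_lit 5, nat_lit 0, nat_lit 4, nat_lit 3, nat_lit 0])) (.node (nat_lit 3855) (.leaf [nat_lit 3, nat_lit 4, nat_lit 0, nat_lit 4]) (.leaf [nat_lit 3, nat_lit 5, nat_lit 1, nat_lit 4, nat_lit 3, nat_lit 1, nat_lit 0])))))
 (.node (nat_lit 3864) (.node (nat_lit 3860) (.node (nat_lit 3858) (.node (nat_lit 3857) (.leaf [nat_lit 3, nat_lit 2, nat_lit 4, nat_lit 3, nat_lit 2]) (.leaf [nat_lit 4, nat_lit 3, nat_lit 2, nat_lit 4, nat_lit 3])) (.node (nat_lit 3859) (.leaf [nat_lit 2, nat_lit 1, nat_lit 6, nat_lit 5, nat_lit 2, nat_lit 1, nat_lit 0]) (.leaf [nat_lit 1, nat_lit 5, nat_lit 4, nat_lit 2, nat_lit 1])))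
 (.node (nat_lit 3862) (.node (nat_lit 3861) (.leaf [nat_lit 1, nat_lit 6, nat_lit 0, nat_lit 5, nat_lit 1]) (.leaf [nat_lit 2, nat_lit 4, nat_lit 5, nat_lit 3])) (.node (nat_lit 3863) (.leaf [nat_lit 0, nat_lit 6, nat_lit 2, nat_lit 5, nat_lit 3, nat_lit 2, nat_lit 0]) (.leaf [nat_lit 2, nat_lit 6, nat_lit 5, nat_lit 3, nat_lit 2]))))
 (.node (nat_lit 3868) (.node (nat_lit 3866) (.node (nat_lit 3865) (.leaf [nat_lit 4, nat_lit 3, nat_lit 4, nat_lit 3, nat_lit 2]) (.leaf [nat_lit 1, nat_lit 4, nat_lit 5, nat_lit 3, nat_lit 1, nat_lit 0])) (.node (nat_lit 3867) (.leaf [nat_lit 4, nat_lit 2, nat_lit 4]) (.leaf [nat_lit 6, nat_lit 2, nat_lit 1, nat_lit 6, nat_lit 2, nat_lit 1])))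
 (.node (nat_lit 3870) (.node (nat_lit 3869) (.leaf [nat_lit 0, nat_lit 5, nat_lit 2, nat_lit 5, nat_lit 3, nat_lit 0]) (.leaf [nat_lit 5, nat_lit 1, nat_lit 0, nat_lit 5, nat_lit 1])) (.node (nat_lit 3871) (.leaf [nat_lit 5, nat_lit 1, nat_lit 4, nat_lit 3, nat_lit 1, nat_lit 0]) (.leaf [nat_lit 5, nat_lit 6, nat_lit 3]))))))
 (.node (nat_lit 3888) (.node (nat_lit 3880) (.node (nat_lit 3876) (.node (nat_lit 3874) (.node (nat_lit 3873) (.leaf [nat_lit 4, nat_lit 3, nat_lit 1, nat_lit 5, nat_lit 3, nat_lit 1, nat_lit 0]) (.leaf [nat_lit 4, nat_lit 3, nat_lit 1, nat_lit 5, nat_lit 3, nat_lit 2, nat_lit 1])) (.node (nat_lit 3875) (.leaf [nat_lit 0, nat_lit 4, nat_lit 3, nat_lit 4, nat_lit 2, nat_lit 0]) (.leaf [nat_lit 4, nat_lit 5, nat_lit 6, nat_lit 4, nat_lit 3])))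
 (.node (nat_lit 3878) (.node (nat_lit 3877) (.leaf [nat_lit 5, nat_lit 2, nat_lit 0, nat_lit 6, nat_lit 3, nat_lit 2, nat_lit 0]) (.leaf [nat_lit 5, nat_lit 3, nat_lit 0, nat_lit 4, nat_lit 3])) (.node (nat_lit 3879) (.leaf [nat_lit 6, nat_lit 3, nat_lit 1, nat_lit 5, nat_lit 1]) (.leaf [nat_lit 2, nat_lit 5, nat_lit 2, nat_lit 4, nat_lit 0]))))
 (.node (nat_lit 3884) (.node (nat_lit 3882) (.node (nat_lit 3881) (.leaf [nat_lit 4, nat_lit 0, nat_lit 4, nat_lit 2, nat_lit 0]) (.leaf [nat_lit 2, nat_lit 5, nat_lit 6, nat_lit 3, nat_lit 2])) (.node (nat_lit 3883) (.leaf [nat_lit 1, nat_lit 5, nat_lit 2, nat_lit 4, nat_lit 3, nat_lit 2, nat_lit 1, nat_lit 0]) (.leaf [nat_lit 5, nat_lit 6, nat_lit 2, nat_lit 0])))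
 (.node (nat_lit 3886) (.node (nat_lit 3885) (.leaf [nat_lit 5, nat_lit 3, nat_lit 5, nat_lit 3, nat_lit 2]) (.leaf [nat_lit 0, nat_lit 5, nat_lit 0, nat_lit 4, nat_lit 0])) (.node (nat_lit 3887) (.leaf [nat_lit 0, nat_lit 4, nat_lit 3, nat_lit 4]) (.leaf [nat_lit 0, nat_lit 5, nat_lit 1, nat_lit 5, nat_lit 2, nat_lit 1, nat_lit 0])))))
 (.node (nat_lit 3896) (.node (nat_lit 3892) (.node (nat_lit 3890) (.node (nat_lit 3889) (.leaf [nat_lit 6, nat_lit 0, nat_lit 6, nat_lit 3, nat_lit 2, nat_lit 0]) (.leaf [nat_lit 3, nat_lit 1, nat_lit 4, nat_lit 5, nat_lit 3, nat_lit 1, nat_lit 0])) (.node (nat_lit 3891) (.leaf [nat_lit 4, nat_lit 5, nat_lit 2]) (.leaf [nat_lit 2, nat_lit 1, nat_lit 5, nat_lit 4, nat_lit 3, nat_lit 1])))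
 (.node (nat_lit 3894) (.node (nat_lit 3893) (.leaf [nat_lit 6, nat_lit 1, nat_lit 0, nat_lit 6, nat_lit 2, nat_lit 1]) (.leaf [nat_lit 0, nat_lit 5, nat_lit 3, nat_lit 4, nat_lit 3, nat_lit 2, nat_lit 0])) (.node (nat_lit 3895) (.leaf [nat_lit 5, nat_lit 0, nat_lit 4, nat_lit 3]) (.leaf [nat_lit 4, nat_lit 0, nat_lit 4, nat_lit 3, nat_lit 2, nat_lit 0]))))
 (.node (nat_lit 3900) (.node (nat_lit 3898) (.node (nat_lit 3897) (.leaf [nat_lit 5, nat_lit 1, nat_lit 0, nat_lit 5, nat_lit 2, nat_lit 1, nat_lit 0]) (.leaf [nat_lit 2, nat_lit 6, nat_lit 3, nat_lit 5, nat_lit 3, nat_lit 0])) (.node (nat_lit 3899) (.leaf [nat_lit 0, nat_lit 6, nat_lit 2, nat_lit 6, nat_lit 3, nat_lit 2]) (.leaf [nat_lit 3, nat_lit 5, nat_lit 1, nat_lit 4, nat_lit 1, nat_lit 0])))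
 (.node (nat_lit 3902) (.node (nat_lit 3901) (.leaf [nat_lit 5, nat_lit 4, nat_lit 3, nat_lit 2]) (.leaf [nat_lit 2, nat_lit 1, nat_lit 6, nat_lit 5, nat_lit 3, nat_lit 1])) (.node (nat_lit 3903) (.leaf [nat_lit 1, nat_lit 4, nat_lit 2, nat_lit 4, nat_lit 3, nat_lit 2, nat_lit 1, nat_lit 0]) (.leaf [nat_lit 6, nat_lit 2, nat_lit 1, nat_lit 6, nat_lit 3, nat_lit 1, nat_lit 0])))))))
 (.node (nat_lit 3936) (.node (nat_lit 3920) (.node (nat_lit 3912) (.node (nat_lit 3908) (.node (nat_lit 3906) (.node (nat_lit 3905) (.leaf [nat_lit 5, nat_lit 4, nat_lit 3, nat_lit 0]) (.leaf [nat_lit 5, nat_lit 0, nat_lit 5, nat_lit 3])) (.node (nat_lit 3907) (.leaf [nat_lit 5, nat_lit 1, nat_lit 5, nat_lit 1, nat_lit 0]) (.leaf [nat_lit 0, nat_lit 4, nat_lit 3, nat_lit 0, nat_lit 4, nat_lit 3, nat_lit 2])))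
 (.node (nat_lit 3910) (.node (nat_lit 3909) (.leaf [nat_lit 6, nat_lit 3, nat_lit 0, nat_lit 5, nat_lit 0]) (.leaf [nat_lit 6, nat_lit 3, nat_lit 0, nat_lit 5, nat_lit 3, nat_lit 2])) (.node (nat_lit 3911) (.leaf [nat_lit 5, nat_lit 2, nat_lit 0, nat_lit 6]) (.leaf [nat_lit 5, nat_lit 3, nat_lit 1, nat_lit 4, nat_lit 3, nat_lit 1, nat_lit 0]))))
 (.node (nat_lit 3916) (.node (nat_lit 3914) (.node (nat_lit 3913) (.leaf [nat_lit 6, nat_lit 1, nat_lit 5, nat_lit 2, nat_lit 1, nat_lit 0]) (.leaf [nat_lit 4, nat_lit 2, nat_lit 0, nat_lit 4, nat_lit 0])) (.node (nat_lit 3915) (.leaf [nat_lit 2, nat_lit 6, nat_lit 0, nat_lit 5]) (.leaf [nat_lit 2, nat_lit 0, nat_lit 6, nat_lit 5])))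
 (.node (nat_lit 3918) (.node (nat_lit 3917) (.leaf [nat_lit 1, nat_lit 5, nat_lit 4, nat_lit 3, nat_lit 2, nat_lit 1]) (.leaf [nat_lit 1, nat_lit 6, nat_lit 0, nat_lit 6, nat_lit 2, nat_lit 1, nat_lit 0])) (.node (nat_lit 3919) (.leaf [nat_lit 5, nat_lit 2, nat_lit 5]) (.leaf [nat_lit 5, nat_lit 2, nat_lit 4, nat_lit 3, nat_lit 2, nat_lit 0])))))
 (.node (nat_lit 3928) (.node (nat_lit 3924) (.node (nat_lit 3922) (.node (nat_lit 3921) (.leaf [nat_lit 5, nat_lit 0, nat_lit 4, nat_lit 2, nat_lit 0]) (.leaf [nat_lit 6, nat_lit 3, nat_lit 5, nat_lit 3, nat_lit 2, nat_lit 0])) (.node (nat_lit 3923) (.leaf [nat_lit 2, nat_lit 6, nat_lit 3, nat_lit 5, nat_lit 2]) (.leaf [nat_lit 2])))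
 (.node (nat_lit 3926) (.node (nat_lit 3925) (.leaf [nat_lit 5, nat_lit 0, nat_lit 6, nat_lit 2]) (.leaf [nat_lit 1, nat_lit 5, nat_lit 0, nat_lit 6, nat_lit 1])) (.node (nat_lit 3927) (.leaf [nat_lit 1, nat_lit 6, nat_lit 0, nat_lit 5, nat_lit 3, nat_lit 2, nat_lit 1, nat_lit 0]) (.leaf [nat_lit 4, nat_lit 0, nat_lit 5, nat_lit 3]))))
 (.node (nat_lit 3932) (.node (nat_lit 3930) (.node (nat_lit 3929) (.leaf [nat_lit 3, nat_lit 5, nat_lit 4, nat_lit 3, nat_lit 2]) (.leaf [nat_lit 5, nat_lit 1, nat_lit 4, nat_lit 1, nat_lit 0])) (.node (nat_lit 3931) (.leaf [nat_lit 5, nat_lit 4, nat_lit 5, nat_lit 3, nat_lit 4, nat_lit 2]) (.leaf [nat_lit 5, nat_lit 3, nat_lit 5, nat_lit 0])))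
 (.node (nat_lit 3934) (.node (nat_lit 3933) (.leaf [nat_lit 5, nat_lit 3, nat_lit 2, nat_lit 5]) (.leaf [nat_lit 6, nat_lit 5, nat_lit 3])) (.node (nat_lit 3935) (.leaf [nat_lit 5, nat_lit 1, nat_lit 6, nat_lit 3, nat_lit 2, nat_lit 1]) (.leaf [nat_lit 1, nat_lit 4, nat_lit 5, nat_lit 3, nat_lit 2, nat_lit 1]))))))
 (.node (nat_lit 3952) (.node (nat_lit 3944) (.node (nat_lit 3940) (.node (nat_lit 3938) (.node (nat_lit 3937) (.leaf [nat_lit 3, nat_lit 5, nat_lit 2, nat_lit 4, nat_lit 3, nat_lit 2, nat_lit 0]) (.leaf [nat_lit 4, nat_lit 5, nat_lit 0])) (.node (nat_lit 3939) (.leaf [nat_lit 4, nat_lit 3, nat_lit 5, nat_lit 2]) (.leaf [nat_lit 1, nat_lit 0, nat_lit 5, nat_lit 4, nat_lit 3, nat_lit 1])))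
 (.node (nat_lit 3942) (.node (nat_lit 3941) (.leaf [nat_lit 4, nat_lit 3, nat_lit 1, nat_lit 5, nat_lit 2, nat_lit 1]) (.leaf [nat_lit 5, nat_lit 1, nat_lit 4, nat_lit 3, nat_lit 2, nat_lit 1])) (.node (nat_lit 3943) (.leaf [nat_lit 5, nat_lit 2, nat_lit 6, nat_lit 0]) (.leaf [nat_lit 5, nat_lit 3, nat_lit 0, nat_lit 4, nat_lit 2, nat_lit 0]))))
 (.node (nat_lit 3948) (.node (nat_lit 3946) (.node (nat_lit 3945) (.leaf [nat_lit 5, nat_lit 1, nat_lit 0, nat_lit 6, nat_lit 1]) (.leaf [nat_lit 2, nat_lit 1, nat_lit 5, nat_lit 4, nat_lit 1])) (.node (nat_lit 3947) (.leaf [nat_lit 5, nat_lit 1, nat_lit 6, nat_lit 1, nat_lit 0]) (.leaf [nat_lit 3, nat_lit 5, nat_lit 4, nat_lit 0])))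
 (.node (nat_lit 3950) (.node (nat_lit 3949) (.leaf [nat_lit 6, nat_lit 1, nat_lit 5, nat_lit 3, nat_lit 1]) (.leaf [nat_lit 3, nat_lit 5, nat_lit 3, nat_lit 4, nat_lit 2])) (.node (nat_lit 3951) (.leaf [nat_lit 6, nat_lit 2, nat_lit 6]) (.leaf [nat_lit 2, nat_lit 1, nat_lit 5, nat_lit 4, nat_lit 2, nat_lit 1, nat_lit 0])))))
 (.node (nat_lit 3960) (.node (nat_lit 3956) (.node (nat_lit 3954) (.node (nat_lit 3953) (.leaf [nat_lit 6, nat_lit 3, nat_lit 6, nat_lit 3, nat_lit 2]) (.leaf [nat_lit 0, nat_lit 5, nat_lit 3, nat_lit 5, nat_lit 2, nat_lit 0])) (.node (nat_lit 3955) (.leaf [nat_lit 0, nat_lit 5, nat_lit 4]) (.leaf [nat_lit 2, nat_lit 4, nat_lit 5])))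
 (.node (nat_lit 3958) (.node (nat_lit 3957) (.leaf [nat_lit 4, nat_lit 0, nat_lit 5, nat_lit 3, nat_lit 2, nat_lit 0]) (.leaf [nat_lit 4, nat_lit 5, nat_lit 3, nat_lit 2])) (.node (nat_lit 3959) (.leaf [nat_lit 4, nat_lit 1, nat_lit 4, nat_lit 1, nat_lit 0]) (.leaf [nat_lit 3, nat_lit 4, nat_lit 5, nat_lit 3, nat_lit 0]))))
 (.node (nat_lit 3964) (.node (nat_lit 3962) (.node (nat_lit 3961) (.leaf [nat_lit 1, nat_lit 4, nat_lit 2, nat_lit 0, nat_lit 4, nat_lit 3, nat_lit 1, nat_lit 0]) (.leaf [nat_lit 1, nat_lit 5, nat_lit 3, nat_lit 4, nat_lit 3, nat_lit 2, nat_lit 1])) (.node (nat_lit 3963) (.leaf [nat_lit 0, nat_lit 5, nat_lit 3, nat_lit 4, nat_lit 3]) (.leaf [nat_lit 4, nat_lit 3, nat_lit 1, nat_lit 0, nat_lit 4, nat_lit 3, nat_lit 1])))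
 (.node (nat_lit 3966) (.node (nat_lit 3965) (.leaf [nat_lit 0, nat_lit 5, nat_lit 3, nat_lit 4]) (.leaf [nat_lit 0, nat_lit 5, nat_lit 2, nat_lit 5, nat_lit 3, nat_lit 2])) (.node (nat_lit 3967) (.leaf [nat_lit 5, nat_lit 1, nat_lit 5, nat_lit 3, nat_lit 1, nat_lit 0]) (.leaf [nat_lit 0, nat_lit 4, nat_lit 3, nat_lit 0, nat_lit 4, nat_lit 0]))))))))
 (.node (nat_lit 4032) (.node (nat_lit 4000) (.node (nat_lit 3984) (.node (nat_lit 3976) (.node (nat_lit 3972) (.node (nat_lit 3970) (.node (nat_lit 3969) (.leaf [nat_lit 3, nat_lit 5, nat_lit 1, nat_lit 4, nat_lit 2, nat_lit 1]) (.leaf [nat_lit 5, nat_lit 1, nat_lit 0, nat_lit 5, nat_lit 3, nat_lit 1])) (.node (nat_lit 3971) (.leaf [nat_lit 2, nat_lit 6, nat_lit 1, nat_lit 5, nat_lit 3, nat_lit 2, nat_lit 1]) (.leaf [nat_lit 0, nat_lit 4, nat_lit 3, nat_lit 4, nat_lit 3, nat_lit 2, nat_lit 0])))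
 (.node (nat_lit 3974) (.node (nat_lit 3973) (.leaf [nat_lit 1, nat_lit 4, nat_lit 2, nat_lit 4, nat_lit 1]) (.leaf [nat_lit 4, nat_lit 3, nat_lit 2, nat_lit 4])) (.node (nat_lit 3975) (.leaf [nat_lit 2, nat_lit 5, nat_lit 4, nat_lit 3]) (.leaf [nat_lit 2, nat_lit 5, nat_lit 4, nat_lit 3, nat_lit 2, nat_lit 0]))))
 (.node (nat_lit 3980) (.node (nat_lit 3978) (.node (nat_lit 3977) (.leaf [nat_lit 2, nat_lit 6, nat_lit 0, nat_lit 5, nat_lit 3, nat_lit 2, nat_lit 0]) (.leaf [nat_lit 0, nat_lit 6, nat_lit 0, nat_lit 5, nat_lit 3])) (.node (nat_lit 3979) (.leaf [nat_lit 3, nat_lit 1, nat_lit 4, nat_lit 5, nat_lit 1, nat_lit 0]) (.leaf [nat_lit 1, nat_lit 5, nat_lit 6, nat_lit 1, nat_lit 0])))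
 (.node (nat_lit 3982) (.node (nat_lit 3981) (.leaf [nat_lit 3, nat_lit 4, nat_lit 0, nat_lit 4, nat_lit 3, nat_lit 2, nat_lit 0]) (.leaf [nat_lit 5, nat_lit 4, nat_lit 0])) (.node (nat_lit 3983) (.leaf [nat_lit 6, nat_lit 2, nat_lit 5, nat_lit 0]) (.leaf [nat_lit 3, nat_lit 5, nat_lit 1, nat_lit 4, nat_lit 3, nat_lit 2, nat_lit 1])))))
 (.node (nat_lit 3992) (.node (nat_lit 3988) (.node (nat_lit 3986) (.node (nat_lit 3985) (.leaf [nat_lit 2, nat_lit 5, nat_lit 2, nat_lit 4, nat_lit 2]) (.leaf [nat_lit 4, nat_lit 3, nat_lit 1, nat_lit 0, nat_lit 4, nat_lit 1])) (.node (nat_lit 3987) (.leaf [nat_lit 0, nat_lit 4, nat_lit 5, nat_lit 2, nat_lit 0]) (.leaf [nat_lit 4, nat_lit 3, nat_lit 2, nat_lit 4, nat_lit 2, nat_lit 0])))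
 (.node (nat_lit 3990) (.node (nat_lit 3989) (.leaf [nat_lit 6, nat_lit 2, nat_lit 6, nat_lit 3, nat_lit 2, nat_lit 0]) (.leaf [nat_lit 0, nat_lit 5, nat_lit 0, nat_lit 4, nat_lit 3, nat_lit 2])) (.node (nat_lit 3991) (.leaf [nat_lit 1, nat_lit 5, nat_lit 2, nat_lit 4, nat_lit 1]) (.leaf [nat_lit 5, nat_lit 3, nat_lit 6]))))
 (.node (nat_lit 3996) (.node (nat_lit 3994) (.node (nat_lit 3993) (.leaf [nat_lit 4, nat_lit 2, nat_lit 4, nat_lit 3, nat_lit 2, nat_lit 0]) (.leaf [nat_lit 5, nat_lit 3, nat_lit 2, nat_lit 5, nat_lit 3])) (.node (nat_lit 3995) (.leaf [nat_lit 4, nat_lit 1, nat_lit 4, nat_lit 3, nat_lit 2, nat_lit 1]) (.leaf [nat_lit 0, nat_lit 5, nat_lit 1, nat_lit 5, nat_lit 1])))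
 (.node (nat_lit 3998) (.node (nat_lit 3997) (.leaf [nat_lit 4, nat_lit 0, nat_lit 5, nat_lit 2, nat_lit 0]) (.leaf [nat_lit 1, nat_lit 4, nat_lit 2, nat_lit 0, nat_lit 4, nat_lit 1, nat_lit 0])) (.node (nat_lit 3999) (.leaf [nat_lit 5, nat_lit 3, nat_lit 4, nat_lit 0]) (.leaf [nat_lit 4, nat_lit 1, nat_lit 4, nat_lit 3, nat_lit 1, nat_lit 0]))))))
 (.node (nat_lit 4016) (.node (nat_lit 4008) (.node (nat_lit 4004) (.node (nat_lit 4002) (.node (nat_lit 4001) (.leaf [nat_lit 5, nat_lit 3, nat_lit 0, nat_lit 4, nat_lit 3, nat_lit 2, nat_lit 0]) (.leaf [nat_lit 1, nat_lit 5, nat_lit 4, nat_lit 3, nat_lit 1, nat_lit 0])) (.node (nat_lit 4003) (.leaf [nat_lit 0, nat_lit 5, nat_lit 4, nat_lit 3, nat_lit 2, nat_lit 0]) (.leaf [nat_lit 4, nat_lit 5, nat_lit 3, nat_lit 0])))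
 (.node (nat_lit 4006) (.node (nat_lit 4005) (.leaf [nat_lit 2, nat_lit 4, nat_lit 5, nat_lit 2, nat_lit 0]) (.leaf [nat_lit 4, nat_lit 0, nat_lit 5])) (.node (nat_lit 4007) (.leaf [nat_lit 3, nat_lit 5, nat_lit 2, nat_lit 4]) (.leaf [nat_lit 3, nat_lit 4, nat_lit 5, nat_lit 2]))))
 (.node (nat_lit 4012) (.node (nat_lit 4010) (.node (nat_lit 4009) (.leaf [nat_lit 1, nat_lit 5, nat_lit 3, nat_lit 4, nat_lit 3, nat_lit 1, nat_lit 0]) (.leaf [nat_lit 5, nat_lit 0, nat_lit 4, nat_lit 3, nat_lit 2, nat_lit 0])) (.node (nat_lit 4011) (.leaf [nat_lit 4, nat_lit 1, nat_lit 5, nat_lit 1, nat_lit 0]) (.leaf [nat_lit 4, nat_lit 3, nat_lit 0, nat_lit 4, nat_lit 2, nat_lit 0])))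
 (.node (nat_lit 4014) (.node (nat_lit 4013) (.leaf [nat_lit 0, nat_lit 4, nat_lit 5, nat_lit 3, nat_lit 2, nat_lit 0]) (.leaf [nat_lit 5, nat_lit 3, nat_lit 1, nat_lit 4, nat_lit 3, nat_lit 2, nat_lit 1])) (.node (nat_lit 4015) (.leaf [nat_lit 3, nat_lit 5, nat_lit 4, nat_lit 3, nat_lit 0]) (.leaf [nat_lit 1, nat_lit 4, nat_lit 5, nat_lit 1, nat_lit 0])))))
 (.node (nat_lit 4024) (.node (nat_lit 4020) (.node (nat_lit 4018) (.node (nat_lit 4017) (.leaf [nat_lit 4, nat_lit 2, nat_lit 1, nat_lit 4, nat_lit 3, nat_lit 1]) (.leaf [nat_lit 3, nat_lit 0])) (.node (nat_lit 4019) (.leaf [nat_lit 4, nat_lit 3, nat_lit 5, nat_lit 3, nat_lit 0]) (.leaf [nat_lit 5, nat_lit 0, nat_lit 5, nat_lit 3, nat_lit 2, nat_lit 0])))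
 (.node (nat_lit 4022) (.node (nat_lit 4021) (.leaf [nat_lit 6, nat_lit 3, nat_lit 6, nat_lit 0]) (.leaf [nat_lit 0, nat_lit 4, nat_lit 3, nat_lit 0, nat_lit 4, nat_lit 2])) (.node (nat_lit 4023) (.leaf [nat_lit 2, nat_lit 5, nat_lit 3, nat_lit 4, nat_lit 3, nat_lit 2, nat_lit 0]) (.leaf [nat_lit 1, nat_lit 6, nat_lit 0, nat_lit 6, nat_lit 3, nat_lit 1]))))
 (.node (nat_lit 4028) (.node (nat_lit 4026) (.node (nat_lit 4025) (.leaf [nat_lit 1, nat_lit 4, nat_lit 2, nat_lit 0, nat_lit 4, nat_lit 3, nat_lit 2, nat_lit 1]) (.leaf [nat_lit 0, nat_lit 5, nat_lit 3, nat_lit 4, nat_lit 2, nat_lit 0])) (.node (nat_lit 4027) (.leaf [nat_lit 5, nat_lit 2, nat_lit 4, nat_lit 2, nat_lit 0]) (.leaf [nat_lit 4, nat_lit 2, nat_lit 0, nat_lit 4, nat_lit 3, nat_lit 2])))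
 (.node (nat_lit 4030) (.node (nat_lit 4029) (.leaf [nat_lit 6, nat_lit 0, nat_lit 6, nat_lit 3]) (.leaf [nat_lit 5, nat_lit 4, nat_lit 5, nat_lit 3, nat_lit 4, nat_lit 0])) (.node (nat_lit 4031) (.leaf [nat_lit 3, nat_lit 1, nat_lit 4, nat_lit 5, nat_lit 2, nat_lit 1]) (.leaf [nat_lit 3, nat_lit 5, nat_lit 3, nat_lit 4, nat_lit 3, nat_lit 2])))))))
 (.node (nat_lit 4064) (.node (nat_lit 4048) (.node (nat_lit 4040) (.node (nat_lit 4036) (.node (nat_lit 4034) (.node (nat_lit 4033) (.leaf [nat_lit 4, nat_lit 5, nat_lit 4, nat_lit 3, nat_lit 2, nat_lit 0]) (.leaf [nat_lit 3, nat_lit 1, nat_lit 0, nat_lit 5, nat_lit 3, nat_lit 1, nat_lit 0])) (.node (nat_lit 4035) (.leaf [nat_lit 1, nat_lit 0, nat_lit 5, nat_lit 3, nat_lit 2, nat_lit 1]) (.leaf [nat_lit 6, nat_lit 5, nat_lit 6])))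
 (.node (nat_lit 4038) (.node (nat_lit 4037) (.leaf [nat_lit 4, nat_lit 2, nat_lit 5, nat_lit 3, nat_lit 4, nat_lit 0]) (.leaf [nat_lit 5, nat_lit 4, nat_lit 1, nat_lit 4, nat_lit 3, nat_lit 1])) (.node (nat_lit 4039) (.leaf [nat_lit 5]) (.leaf [nat_lit 4, nat_lit 0, nat_lit 4, nat_lit 5, nat_lit 0]))))
 (.node (nat_lit 4044) (.node (nat_lit 4042) (.node (nat_lit 4041) (.leaf [nat_lit 3, nat_lit 0, nat_lit 5, nat_lit 2]) (.leaf [nat_lit 1, nat_lit 4, nat_lit 5, nat_lit 4, nat_lit 1])) (.node (nat_lit 4043) (.leaf [nat_lit 4, nat_lit 2, nat_lit 4, nat_lit 5, nat_lit 2]) (.leaf [nat_lit 4, nat_lit 3, nat_lit 5, nat_lit 4, nat_lit 3])))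
 (.node (nat_lit 4046) (.node (nat_lit 4045) (.leaf [nat_lit 3, nat_lit 1, nat_lit 5, nat_lit 2, nat_lit 1, nat_lit 0]) (.leaf [nat_lit 3, nat_lit 1, nat_lit 0, nat_lit 5, nat_lit 2, nat_lit 1])) (.node (nat_lit 4047) (.leaf [nat_lit 2, nat_lit 1, nat_lit 5, nat_lit 2, nat_lit 1]) (.leaf [nat_lit 3, nat_lit 4, nat_lit 5, nat_lit 4, nat_lit 3])))))
 (.node (nat_lit 4056) (.node (nat_lit 4052) (.node (nat_lit 4050) (.node (nat_lit 4049) (.leaf [nat_lit 3, nat_lit 2, nat_lit 5, nat_lit 0]) (.leaf [nat_lit 4, nat_lit 3, nat_lit 4, nat_lit 5, nat_lit 2, nat_lit 0])) (.node (nat_lit 4051) (.leaf [nat_lit 3, nat_lit 5, nat_lit 3]) (.leaf [nat_lit 2, nat_lit 5, nat_lit 2])))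
 (.node (nat_lit 4054) (.node (nat_lit 4053) (.leaf [nat_lit 3, nat_lit 4, nat_lit 5, nat_lit 4, nat_lit 2, nat_lit 0]) (.leaf [nat_lit 4, nat_lit 2, nat_lit 5, nat_lit 3, nat_lit 4, nat_lit 3, nat_lit 2])) (.node (nat_lit 4055) (.leaf [nat_lit 0, nat_lit 5, nat_lit 0]) (.leaf [nat_lit 4, nat_lit 5, nat_lit 3, nat_lit 4, nat_lit 2, nat_lit 0]))))
 (.node (nat_lit 4060) (.node (nat_lit 4058) (.node (nat_lit 4057) (.leaf [nat_lit 4, nat_lit 0, nat_lit 4, nat_lit 5, nat_lit 3, nat_lit 2]) (.leaf [nat_lit 4, nat_lit 5, nat_lit 0, nat_lit 4, nat_lit 3, nat_lit 2])) (.node (nat_lit 4059) (.leaf [nat_lit 1, nat_lit 5, nat_lit 1]) (.leaf [nat_lit 4, nat_lit 0, nat_lit 5, nat_lit 4, nat_lit 0])))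
 (.node (nat_lit 4062) (.node (nat_lit 4061) (.leaf [nat_lit 3, nat_lit 2, nat_lit 1, nat_lit 5, nat_lit 1, nat_lit 0]) (.leaf [nat_lit 4, nat_lit 2, nat_lit 4, nat_lit 5, nat_lit 3, nat_lit 0])) (.node (nat_lit 4063) (.leaf [nat_lit 0, nat_lit 5, nat_lit 3, nat_lit 2]) (.leaf [nat_lit 3, nat_lit 0, nat_lit 5, nat_lit 3, nat_lit 0]))))))
 (.node (nat_lit 4080) (.node (nat_lit 4072) (.node (nat_lit 4068) (.node (nat_lit 4066) (.node (nat_lit 4065) (.leaf [nat_lit 5, nat_lit 4, nat_lit 3, nat_lit 4, nat_lit 2, nat_lit 0]) (.leaf [nat_lit 5, nat_lit 4, nat_lit 0, nat_lit 4, nat_lit 3, nat_lit 2])) (.node (nat_lit 4067) (.leaf [nat_lit 4, nat_lit 2, nat_lit 5, nat_lit 4, nat_lit 2]) (.leaf [nat_lit 2, nat_lit 5, nat_lit 3, nat_lit 0])))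
 (.node (nat_lit 4070) (.node (nat_lit 4069) (.leaf [nat_lit 4, nat_lit 2, nat_lit 5, nat_lit 4, nat_lit 3, nat_lit 0]) (.leaf [nat_lit 1, nat_lit 4, nat_lit 5, nat_lit 4, nat_lit 3, nat_lit 2, nat_lit 1, nat_lit 0])) (.node (nat_lit 4071) (.leaf [nat_lit 5, nat_lit 4, nat_lit 1, nat_lit 4, nat_lit 2, nat_lit 1, nat_lit 0]) (.leaf [nat_lit 5, nat_lit 4, nat_lit 0, nat_lit 4, nat_lit 0]))))
 (.node (nat_lit 4076) (.node (nat_lit 4074) (.node (nat_lit 4073) (.leaf [nat_lit 4, nat_lit 5, nat_lit 0, nat_lit 4, nat_lit 0]) (.leaf [nat_lit 5, nat_lit 4, nat_lit 2, nat_lit 4, nat_lit 3, nat_lit 0])) (.node (nat_lit 4075) (.leaf [nat_lit 5, nat_lit 3, nat_lit 2, nat_lit 0]) (.leaf [nat_lit 1, nat_lit 0, nat_lit 5, nat_lit 1, nat_lit 0])))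
 (.node (nat_lit 4078) (.node (nat_lit 4077) (.leaf [nat_lit 6, nat_lit 2, nat_lit 5, nat_lit 6, nat_lit 2]) (.leaf [nat_lit 3, nat_lit 2, nat_lit 1, nat_lit 5, nat_lit 3, nat_lit 2, nat_lit 1])) (.node (nat_lit 4079) (.leaf [nat_lit 4, nat_lit 5, nat_lit 3, nat_lit 4, nat_lit 3]) (.leaf [nat_lit 2, nat_lit 1, nat_lit 5, nat_lit 3, nat_lit 1, nat_lit 0])))))
 (.node (nat_lit 4088) (.node (nat_lit 4084) (.node (nat_lit 4082) (.node (nat_lit 4081) (.leaf [nat_lit 3, nat_lit 2, nat_lit 5, nat_lit 3, nat_lit 2]) (.leaf [nat_lit 4, nat_lit 5, nat_lit 2, nat_lit 4, nat_lit 2])) (.node (nat_lit 4083) (.leaf [nat_lit 6, nat_lit 2, nat_lit 5, nat_lit 6, nat_lit 3, nat_lit 0]) (.leaf [nat_lit 4, nat_lit 3, nat_lit 5, nat_lit 4, nat_lit 2, nat_lit 0])))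
 (.node (nat_lit 4086) (.node (nat_lit 4085) (.leaf [nat_lit 5, nat_lit 4, nat_lit 2, nat_lit 4, nat_lit 2]) (.leaf [nat_lit 5, nat_lit 4, nat_lit 3, nat_lit 4, nat_lit 3])) (.node (nat_lit 4087) (.leaf [nat_lit 3, nat_lit 5, nat_lit 2, nat_lit 0]) (.leaf [nat_lit 4, nat_lit 0, nat_lit 5, nat_lit 4, nat_lit 3, nat_lit 2]))))
 (.node (nat_lit 4092) (.node (nat_lit 4090) (.node (nat_lit 4089) (.leaf [nat_lit 4, nat_lit 5, nat_lit 2, nat_lit 4, nat_lit 3, nat_lit 0]) (.leaf [nat_lit 3, nat_lit 6, nat_lit 5, nat_lit 6, nat_lit 3])) (.node (nat_lit 4091) (.leaf [nat_lit 3, nat_lit 6, nat_lit 5, nat_lit 6, nat_lit 2, nat_lit 0]) (.leaf [nat_lit 1, nat_lit 5, nat_lit 3, nat_lit 2, nat_lit 1, nat_lit 0])))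
 (.node (nat_lit 4094) (.node (nat_lit 4093) (.leaf [nat_lit 6, nat_lit 5, nat_lit 6, nat_lit 3, nat_lit 2, nat_lit 0]) (.leaf [nat_lit 4, nat_lit 5, nat_lit 4])) (.node (nat_lit 4095) (.leaf [nat_lit 3, nat_lit 1, nat_lit 5, nat_lit 3, nat_lit 1]) (.leaf [nat_lit 4, nat_lit 3, nat_lit 4, nat_lit 5, nat_lit 3])))))))))
noncomputable def bWT : Tr (List ℕ) := (.node (nat_lit 2048) (.node (nat_lit 1024) (.node (nat_lit 512) (.node (nat_lit 256) bWT_0 bWT_1) (.node (nat_lit 768) bWT_2 bWT_3)) (.node (nat_lit 1536) (.node (nat_lit 1280) bWT_4 bWT_5) (.node (nat_lit 1792) bWT_6 bWT_7))) (.node (nat_lit 3072) (.node (nat_lit 2560) (.node (nat_lit 2304) bWT_8 bWT_9) (.node (nat_lit 2816) bWT_10 bWT_11)) (.node (nat_lit 3584) (.node (nat_lit 3328) bWT_12 bWT_13) (.node (nat_lit 3840) bWT_14 bWT_15))))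
noncomputable def bPA : Tr (ℕ × List ℕ) := (.node (nat_lit 1106) (.node (nat_lit 530) (.node (nat_lit 268) (.node (nat_lit 125) (.node (nat_lit 69) (.node (nat_lit 41) (.node (nat_lit 27) (.node (nat_lit 20) (.node (nat_lit 16) (.node (nat_lit 14) (.leaf ((nat_lit 1000000), [nat_lit 7, nat_lit 7, nat_lit 11, nat_lit 9, nat_lit 7, nat_lit 7, nat_lit 7])) (.node (nat_lit 15) (.leaf ((nat_lit 13), [nat_lit 0])) (.leaf ((nat_lit 13), [nat_lit 1]))))
 (.node (nat_lit 18) (.node (nat_lit 17) (.leaf ((nat_lit 13), [nat_lit 2])) (.leaf ((nat_lit 13), [nat_lit 3]))) (.node (nat_lit 19) (.leaf ((nat_lit 13), [nat_lit 4])) (.leaf ((nat_lit 13), [nat_lit 5])))))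
 (.node (nat_lit 23) (.node (nat_lit 21) (.leaf ((nat_lit 13), [nat_lit 6])) (.node (nat_lit 22) (.leaf ((nat_lit 14), [nat_lit 1])) (.leaf ((nat_lit 14), [nat_lit 2]))))
 (.node (nat_lit 25) (.node (nat_lit 24) (.leaf ((nat_lit 14), [nat_lit 3])) (.leaf ((nat_lit 14), [nat_lit 4]))) (.node (nat_lit 26) (.leaf ((nat_lit 14), [nat_lit 5])) (.leaf ((nat_lit 14), [nat_lit 6]))))))
 (.node (nat_lit 34) (.node (nat_lit 30) (.node (nat_lit 28) (.leaf ((nat_lit 15), [nat_lit 2])) (.node (nat_lit 29) (.leaf ((nat_lit 15), [nat_lit 3])) (.leaf ((nat_lit 15), [nat_lit 4]))))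
 (.node (nat_lit 32) (.node (nat_lit 31) (.leaf ((nat_lit 15), [nat_lit 5])) (.leaf ((nat_lit 15), [nat_lit 6]))) (.node (nat_lit 33) (.leaf ((nat_lit 16), [nat_lit 3])) (.leaf ((nat_lit 16), [nat_lit 4])))))
 (.node (nat_lit 37) (.node (nat_lit 35) (.leaf ((nat_lit 16), [nat_lit 5])) (.node (nat_lit 36) (.leaf ((nat_lit 16), [nat_lit 6])) (.leaf ((nat_lit 17), [nat_lit 4]))))
 (.node (nat_lit 39) (.node (nat_lit 38) (.leaf ((nat_lit 17), [nat_lit 5])) (.leaf ((nat_lit 17), [nat_lit 6]))) (.node (nat_lit 40) (.leaf ((nat_lit 18), [nat_lit 0])) (.leaf ((nat_lit 18), [nat_lit 2])))))))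
 (.node (nat_lit 55) (.node (nat_lit 48) (.node (nat_lit 44) (.node (nat_lit 42) (.leaf ((nat_lit 18), [nat_lit 3])) (.node (nat_lit 43) (.leaf ((nat_lit 18), [nat_lit 5])) (.leaf ((nat_lit 18), [nat_lit 6]))))
 (.node (nat_lit 46) (.node (nat_lit 45) (.leaf ((nat_lit 19), [nat_lit 0])) (.leaf ((nat_lit 19), [nat_lit 2]))) (.node (nat_lit 47) (.leaf ((nat_lit 19), [nat_lit 4])) (.leaf ((nat_lit 19), [nat_lit 6])))))
 (.node (nat_lit 51) (.node (nat_lit 49) (.leaf ((nat_lit 20), [nat_lit 0])) (.node (nat_lit 50) (.leaf ((nat_lit 20), [nat_lit 1])) (.leaf ((nat_lit 20), [nat_lit 2]))))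
 (.node (nat_lit 53) (.node (nat_lit 52) (.leaf ((nat_lit 20), [nat_lit 5])) (.leaf ((nat_lit 21), [nat_lit 3]))) (.node (nat_lit 54) (.leaf ((nat_lit 21), [nat_lit 5])) (.leaf ((nat_lit 21), [nat_lit 6]))))))
 (.node (nat_lit 62) (.node (nat_lit 58) (.node (nat_lit 56) (.leaf ((nat_lit 22), [nat_lit 3])) (.node (nat_lit 57) (.leaf ((nat_lit 22), [nat_lit 4])) (.leaf ((nat_lit 22), [nat_lit 6]))))
 (.node (nat_lit 60) (.node (nat_lit 59) (.leaf ((nat_lit 23), [nat_lit 5])) (.leaf ((nat_lit 23), [nat_lit 6]))) (.node (nat_lit 61) (.leaf ((nat_lit 24), [nat_lit 2])) (.leaf ((nat_lit 24), [nat_lit 3])))))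
 (.node (nat_lit 65) (.node (nat_lit 63) (.leaf ((nat_lit 24), [nat_lit 5])) (.node (nat_lit 64) (.leaf ((nat_lit 24), [nat_lit 6])) (.leaf ((nat_lit 25), [nat_lit 0]))))
 (.node (nat_lit 67) (.node (nat_lit 66) (.leaf ((nat_lit 25), [nat_lit 2])) (.leaf ((nat_lit 25), [nat_lit 6]))) (.node (nat_lit 68) (.leaf ((nat_lit 26), [nat_lit 0])) (.leaf ((nat_lit 26), [nat_lit 1]))))))))
 (.node (nat_lit 97) (.node (nat_lit 83) (.node (nat_lit 76) (.node (nat_lit 72) (.node (nat_lit 70) (.leaf ((nat_lit 26), [nat_lit 2])) (.node (nat_lit 71) (.leaf ((nat_lit 26), [nat_lit 5])) (.leaf ((nat_lit 27), [nat_lit 3]))))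
 (.node (nat_lit 74) (.node (nat_lit 73) (.leaf ((nat_lit 27), [nat_lit 5])) (.leaf ((nat_lit 27), [nat_lit 6]))) (.node (nat_lit 75) (.leaf ((nat_lit 28), [nat_lit 4])) (.leaf ((nat_lit 28), [nat_lit 5])))))
 (.node (nat_lit 79) (.node (nat_lit 77) (.leaf ((nat_lit 28), [nat_lit 6])) (.node (nat_lit 78) (.leaf ((nat_lit 29), [nat_lit 0])) (.leaf ((nat_lit 29), [nat_lit 6]))))
 (.node (nat_lit 81) (.node (nat_lit 80) (.leaf ((nat_lit 30), [nat_lit 4])) (.leaf ((nat_lit 30), [nat_lit 6]))) (.node (nat_lit 82) (.leaf ((nat_lit 31), [nat_lit 0])) (.leaf ((nat_lit 31), [nat_lit 1]))))))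
 (.node (nat_lit 90) (.node (nat_lit 86) (.node (nat_lit 84) (.leaf ((nat_lit 31), [nat_lit 2])) (.node (nat_lit 85) (.leaf ((nat_lit 31), [nat_lit 5])) (.leaf ((nat_lit 32), [nat_lit 4]))))
 (.node (nat_lit 88) (.node (nat_lit 87) (.leaf ((nat_lit 32), [nat_lit 6])) (.leaf ((nat_lit 33), [nat_lit 5]))) (.node (nat_lit 89) (.leaf ((nat_lit 33), [nat_lit 6])) (.leaf ((nat_lit 34), [nat_lit 6])))))
 (.node (nat_lit 93) (.node (nat_lit 91) (.leaf ((nat_lit 35), [nat_lit 0])) (.node (nat_lit 92) (.leaf ((nat_lit 35), [nat_lit 1])) (.leaf ((nat_lit 35), [nat_lit 2]))))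
 (.node (nat_lit 95) (.node (nat_lit 94) (.leaf ((nat_lit 35), [nat_lit 5])) (.leaf ((nat_lit 36), [nat_lit 1]))) (.node (nat_lit 96) (.leaf ((nat_lit 36), [nat_lit 3])) (.leaf ((nat_lit 36), [nat_lit 5])))))))
 (.node (nat_lit 111) (.node (nat_lit 104) (.node (nat_lit 100) (.node (nat_lit 98) (.leaf ((nat_lit 36), [nat_lit 6])) (.node (nat_lit 99) (.leaf ((nat_lit 37), [nat_lit 0])) (.leaf ((nat_lit 37), [nat_lit 4]))))
 (.node (nat_lit 102) (.node (nat_lit 101) (.leaf ((nat_lit 38), [nat_lit 2])) (.leaf ((nat_lit 39), [nat_lit 6]))) (.node (nat_lit 103) (.leaf ((nat_lit 40), [nat_lit 4])) (.leaf ((nat_lit 40), [nat_lit 5])))))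
 (.node (nat_lit 107) (.node (nat_lit 105) (.leaf ((nat_lit 40), [nat_lit 6])) (.node (nat_lit 106) (.leaf ((nat_lit 41), [nat_lit 4])) (.leaf ((nat_lit 41), [nat_lit 6]))))
 (.node (nat_lit 109) (.node (nat_lit 108) (.leaf ((nat_lit 42), [nat_lit 6])) (.leaf ((nat_lit 43), [nat_lit 2]))) (.node (nat_lit 110) (.leaf ((nat_lit 44), [nat_lit 2])) (.leaf ((nat_lit 44), [nat_lit 5]))))))
 (.node (nat_lit 118) (.node (nat_lit 114) (.node (nat_lit 112) (.leaf ((nat_lit 44), [nat_lit 6])) (.node (nat_lit 113) (.leaf ((nat_lit 46), [nat_lit 6])) (.leaf ((nat_lit 47), [nat_lit 1]))))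
 (.node (nat_lit 116) (.node (nat_lit 115) (.leaf ((nat_lit 47), [nat_lit 2])) (.leaf ((nat_lit 47), [nat_lit 3]))) (.node (nat_lit 117) (.leaf ((nat_lit 48), [nat_lit 2])) (.leaf ((nat_lit 48), [nat_lit 4])))))
 (.node (nat_lit 121) (.node (nat_lit 119) (.leaf ((nat_lit 48), [nat_lit 6])) (.node (nat_lit 120) (.leaf ((nat_lit 51), [nat_lit 0])) (.leaf ((nat_lit 51), [nat_lit 2]))))
 (.node (nat_lit 123) (.node (nat_lit 122) (.leaf ((nat_lit 51), [nat_lit 3])) (.leaf ((nat_lit 52), [nat_lit 6]))) (.node (nat_lit 124) (.leaf ((nat_lit 53), [nat_lit 4])) (.leaf ((nat_lit 54), [nat_lit 0])))))))))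
 (.node (nat_lit 212) (.node (nat_lit 184) (.node (nat_lit 139) (.node (nat_lit 132) (.node (nat_lit 128) (.node (nat_lit 126) (.leaf ((nat_lit 54), [nat_lit 5])) (.node (nat_lit 127) (.leaf ((nat_lit 56), [nat_lit 5])) (.leaf ((nat_lit 56), [nat_lit 6]))))
 (.node (nat_lit 130) (.node (nat_lit 129) (.leaf ((nat_lit 57), [nat_lit 5])) (.leaf ((nat_lit 58), [nat_lit 4]))) (.node (nat_lit 131) (.leaf ((nat_lit 60), [nat_lit 4])) (.leaf ((nat_lit 60), [nat_lit 5])))))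
 (.node (nat_lit 135) (.node (nat_lit 133) (.leaf ((nat_lit 60), [nat_lit 6])) (.node (nat_lit 134) (.leaf ((nat_lit 62), [nat_lit 6])) (.leaf ((nat_lit 64), [nat_lit 2]))))
 (.node (nat_lit 137) (.node (nat_lit 136) (.leaf ((nat_lit 66), [nat_lit 2])) (.leaf ((nat_lit 67), [nat_lit 4]))) (.node (nat_lit 138) (.leaf ((nat_lit 67), [nat_lit 6])) (.leaf ((nat_lit 70), [nat_lit 2]))))))
 (.node (nat_lit 177) (.node (nat_lit 173) (.node (nat_lit 140) (.leaf ((nat_lit 71), [nat_lit 6])) (.node (nat_lit 172) (.leaf ((nat_lit 81), [nat_lit 2])) (.leaf ((nat_lit 1000000), [nat_lit 7, nat_lit 7, nat_lit 11, nat_lit 9, nat_lit 7, nat_lit 7, nat_lit 7, nat_lit 0]))))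
 (.node (nat_lit 175) (.node (nat_lit 174) (.leaf ((nat_lit 172), [nat_lit 0])) (.leaf ((nat_lit 172), [nat_lit 1]))) (.node (nat_lit 176) (.leaf ((nat_lit 172), [nat_lit 2])) (.leaf ((nat_lit 172), [nat_lit 3])))))
 (.node (nat_lit 180) (.node (nat_lit 178) (.leaf ((nat_lit 172), [nat_lit 4])) (.node (nat_lit 179) (.leaf ((nat_lit 172), [nat_lit 5])) (.leaf ((nat_lit 172), [nat_lit 6]))))
 (.node (nat_lit 182) (.node (nat_lit 181) (.leaf ((nat_lit 173), [nat_lit 1])) (.leaf ((nat_lit 173), [nat_lit 2]))) (.node (nat_lit 183) (.leaf ((nat_lit 173), [nat_lit 3])) (.leaf ((nat_lit 173), [nat_lit 4])))))))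
 (.node (nat_lit 198) (.node (nat_lit 191) (.node (nat_lit 187) (.node (nat_lit 185) (.leaf ((nat_lit 173), [nat_lit 5])) (.node (nat_lit 186) (.leaf ((nat_lit 173), [nat_lit 6])) (.leaf ((nat_lit 174), [nat_lit 2]))))
 (.node (nat_lit 189) (.node (nat_lit 188) (.leaf ((nat_lit 174), [nat_lit 3])) (.leaf ((nat_lit 174), [nat_lit 5]))) (.node (nat_lit 190) (.leaf ((nat_lit 174), [nat_lit 6])) (.leaf ((nat_lit 175), [nat_lit 3])))))
 (.node (nat_lit 194) (.node (nat_lit 192) (.leaf ((nat_lit 175), [nat_lit 4])) (.node (nat_lit 193) (.leaf ((nat_lit 175), [nat_lit 5])) (.leaf ((nat_lit 175), [nat_lit 6]))))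
 (.node (nat_lit 196) (.node (nat_lit 195) (.leaf ((nat_lit 176), [nat_lit 4])) (.leaf ((nat_lit 176), [nat_lit 5]))) (.node (nat_lit 197) (.leaf ((nat_lit 176), [nat_lit 6])) (.leaf ((nat_lit 177), [nat_lit 0]))))))
 (.node (nat_lit 205) (.node (nat_lit 201) (.node (nat_lit 199) (.leaf ((nat_lit 177), [nat_lit 1])) (.node (nat_lit 200) (.leaf ((nat_lit 177), [nat_lit 2])) (.leaf ((nat_lit 177), [nat_lit 3]))))
 (.node (nat_lit 203) (.node (nat_lit 202) (.leaf ((nat_lit 177), [nat_lit 5])) (.leaf ((nat_lit 177), [nat_lit 6]))) (.node (nat_lit 204) (.leaf ((nat_lit 178), [nat_lit 0])) (.leaf ((nat_lit 178), [nat_lit 1])))))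
 (.node (nat_lit 208) (.node (nat_lit 206) (.leaf ((nat_lit 178), [nat_lit 2])) (.node (nat_lit 207) (.leaf ((nat_lit 178), [nat_lit 6])) (.leaf ((nat_lit 179), [nat_lit 1]))))
 (.node (nat_lit 210) (.node (nat_lit 209) (.leaf ((nat_lit 179), [nat_lit 2])) (.leaf ((nat_lit 179), [nat_lit 3]))) (.node (nat_lit 211) (.leaf ((nat_lit 179), [nat_lit 5])) (.leaf ((nat_lit 180), [nat_lit 2]))))))))
 (.node (nat_lit 240) (.node (nat_lit 226) (.node (nat_lit 219) (.node (nat_lit 215) (.node (nat_lit 213) (.leaf ((nat_lit 180), [nat_lit 3])) (.node (nat_lit 214) (.leaf ((nat_lit 180), [nat_lit 4])) (.leaf ((nat_lit 180), [nat_lit 6]))))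
 (.node (nat_lit 217) (.node (nat_lit 216) (.leaf ((nat_lit 181), [nat_lit 3])) (.leaf ((nat_lit 181), [nat_lit 4]))) (.node (nat_lit 218) (.leaf ((nat_lit 181), [nat_lit 5])) (.leaf ((nat_lit 181), [nat_lit 6])))))
 (.node (nat_lit 222) (.node (nat_lit 220) (.leaf ((nat_lit 182), [nat_lit 6])) (.node (nat_lit 221) (.leaf ((nat_lit 183), [nat_lit 1])) (.leaf ((nat_lit 183), [nat_lit 2]))))
 (.node (nat_lit 224) (.node (nat_lit 223) (.leaf ((nat_lit 183), [nat_lit 3])) (.leaf ((nat_lit 183), [nat_lit 6]))) (.node (nat_lit 225) (.leaf ((nat_lit 184), [nat_lit 4])) (.leaf ((nat_lit 184), [nat_lit 6]))))))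
 (.node (nat_lit 233) (.node (nat_lit 229) (.node (nat_lit 227) (.leaf ((nat_lit 185), [nat_lit 1])) (.node (nat_lit 228) (.leaf ((nat_lit 185), [nat_lit 2])) (.leaf ((nat_lit 185), [nat_lit 3]))))
 (.node (nat_lit 231) (.node (nat_lit 230) (.leaf ((nat_lit 185), [nat_lit 5])) (.leaf ((nat_lit 186), [nat_lit 3]))) (.node (nat_lit 232) (.leaf ((nat_lit 186), [nat_lit 4])) (.leaf ((nat_lit 186), [nat_lit 6])))))
 (.node (nat_lit 236) (.node (nat_lit 234) (.leaf ((nat_lit 187), [nat_lit 4])) (.node (nat_lit 235) (.leaf ((nat_lit 187), [nat_lit 6])) (.leaf ((nat_lit 188), [nat_lit 1]))))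
 (.node (nat_lit 238) (.node (nat_lit 237) (.leaf ((nat_lit 188), [nat_lit 2])) (.leaf ((nat_lit 188), [nat_lit 4]))) (.node (nat_lit 239) (.leaf ((nat_lit 188), [nat_lit 6])) (.leaf ((nat_lit 189), [nat_lit 2])))))))
 (.node (nat_lit 254) (.node (nat_lit 247) (.node (nat_lit 243) (.node (nat_lit 241) (.leaf ((nat_lit 189), [nat_lit 5])) (.node (nat_lit 242) (.leaf ((nat_lit 191), [nat_lit 6])) (.leaf ((nat_lit 192), [nat_lit 4]))))
 (.node (nat_lit 245) (.node (nat_lit 244) (.leaf ((nat_lit 192), [nat_lit 6])) (.leaf ((nat_lit 193), [nat_lit 1]))) (.node (nat_lit 246) (.leaf ((nat_lit 193), [nat_lit 3])) (.leaf ((nat_lit 193), [nat_lit 5])))))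
 (.node (nat_lit 250) (.node (nat_lit 248) (.leaf ((nat_lit 194), [nat_lit 2])) (.node (nat_lit 249) (.leaf ((nat_lit 194), [nat_lit 6])) (.leaf ((nat_lit 195), [nat_lit 1]))))
 (.node (nat_lit 252) (.node (nat_lit 251) (.leaf ((nat_lit 195), [nat_lit 4])) (.leaf ((nat_lit 195), [nat_lit 6]))) (.node (nat_lit 253) (.leaf ((nat_lit 196), [nat_lit 1])) (.leaf ((nat_lit 196), [nat_lit 3]))))))
 (.node (nat_lit 261) (.node (nat_lit 257) (.node (nat_lit 255) (.leaf ((nat_lit 196), [nat_lit 5])) (.node (nat_lit 256) (.leaf ((nat_lit 197), [nat_lit 3])) (.leaf ((nat_lit 197), [nat_lit 5]))))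
 (.node (nat_lit 259) (.node (nat_lit 258) (.leaf ((nat_lit 197), [nat_lit 6])) (.leaf ((nat_lit 198), [nat_lit 3]))) (.node (nat_lit 260) (.leaf ((nat_lit 198), [nat_lit 4])) (.leaf ((nat_lit 198), [nat_lit 5])))))
 (.node (nat_lit 264) (.node (nat_lit 262) (.leaf ((nat_lit 198), [nat_lit 6])) (.node (nat_lit 263) (.leaf ((nat_lit 199), [nat_lit 4])) (.leaf ((nat_lit 199), [nat_lit 6]))))
 (.node (nat_lit 266) (.node (nat_lit 265) (.leaf ((nat_lit 200), [nat_lit 4])) (.leaf ((nat_lit 201), [nat_lit 4]))) (.node (nat_lit 267) (.leaf ((nat_lit 201), [nat_lit 6])) (.leaf ((nat_lit 202), [nat_lit 0]))))))))))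
 (.node (nat_lit 405) (.node (nat_lit 349) (.node (nat_lit 296) (.node (nat_lit 282) (.node (nat_lit 275) (.node (nat_lit 271) (.node (nat_lit 269) (.leaf ((nat_lit 202), [nat_lit 1])) (.node (nat_lit 270) (.leaf ((nat_lit 203), [nat_lit 6])) (.leaf ((nat_lit 204), [nat_lit 6]))))
 (.node (nat_lit 273) (.node (nat_lit 272) (.leaf ((nat_lit 205), [nat_lit 4])) (.leaf ((nat_lit 206), [nat_lit 1]))) (.node (nat_lit 274) (.leaf ((nat_lit 206), [nat_lit 2])) (.leaf ((nat_lit 207), [nat_lit 2])))))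
 (.node (nat_lit 278) (.node (nat_lit 276) (.leaf ((nat_lit 208), [nat_lit 3])) (.node (nat_lit 277) (.leaf ((nat_lit 211), [nat_lit 6])) (.leaf ((nat_lit 212), [nat_lit 6]))))
 (.node (nat_lit 280) (.node (nat_lit 279) (.leaf ((nat_lit 213), [nat_lit 3])) (.leaf ((nat_lit 213), [nat_lit 5]))) (.node (nat_lit 281) (.leaf ((nat_lit 213), [nat_lit 6])) (.leaf ((nat_lit 214), [nat_lit 2]))))))
 (.node (nat_lit 289) (.node (nat_lit 285) (.node (nat_lit 283) (.leaf ((nat_lit 216), [nat_lit 5])) (.node (nat_lit 284) (.leaf ((nat_lit 216), [nat_lit 6])) (.leaf ((nat_lit 217), [nat_lit 6]))))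
 (.node (nat_lit 287) (.node (nat_lit 286) (.leaf ((nat_lit 218), [nat_lit 1])) (.leaf ((nat_lit 218), [nat_lit 3]))) (.node (nat_lit 288) (.leaf ((nat_lit 219), [nat_lit 3])) (.leaf ((nat_lit 221), [nat_lit 5])))))
 (.node (nat_lit 292) (.node (nat_lit 290) (.leaf ((nat_lit 221), [nat_lit 6])) (.node (nat_lit 291) (.leaf ((nat_lit 222), [nat_lit 4])) (.leaf ((nat_lit 225), [nat_lit 2]))))
 (.node (nat_lit 294) (.node (nat_lit 293) (.leaf ((nat_lit 226), [nat_lit 2])) (.leaf ((nat_lit 227), [nat_lit 3]))) (.node (nat_lit 295) (.leaf ((nat_lit 229), [nat_lit 1])) (.leaf ((nat_lit 229), [nat_lit 2])))))))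
 (.node (nat_lit 335) (.node (nat_lit 328) (.node (nat_lit 299) (.node (nat_lit 297) (.leaf ((nat_lit 231), [nat_lit 5])) (.node (nat_lit 298) (.leaf ((nat_lit 238), [nat_lit 2])) (.leaf ((nat_lit 248), [nat_lit 0]))))
 (.node (nat_lit 326) (.node (nat_lit 325) (.leaf ((nat_lit 249), [nat_lit 4])) (.leaf ((nat_lit 1000000), [nat_lit 8, nat_lit 11, nat_lit 8, nat_lit 9, nat_lit 8]))) (.node (nat_lit 327) (.leaf ((nat_lit 325), [nat_lit 0])) (.leaf ((nat_lit 325), [nat_lit 1])))))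
 (.node (nat_lit 331) (.node (nat_lit 329) (.leaf ((nat_lit 325), [nat_lit 2])) (.node (nat_lit 330) (.leaf ((nat_lit 325), [nat_lit 3])) (.leaf ((nat_lit 325), [nat_lit 4]))))
 (.node (nat_lit 333) (.node (nat_lit 332) (.leaf ((nat_lit 325), [nat_lit 5])) (.leaf ((nat_lit 325), [nat_lit 6]))) (.node (nat_lit 334) (.leaf ((nat_lit 326), [nat_lit 1])) (.leaf ((nat_lit 326), [nat_lit 2]))))))
 (.node (nat_lit 342) (.node (nat_lit 338) (.node (nat_lit 336) (.leaf ((nat_lit 326), [nat_lit 3])) (.node (nat_lit 337) (.leaf ((nat_lit 326), [nat_lit 4])) (.leaf ((nat_lit 326), [nat_lit 5]))))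
 (.node (nat_lit 340) (.node (nat_lit 339) (.leaf ((nat_lit 326), [nat_lit 6])) (.leaf ((nat_lit 327), [nat_lit 2]))) (.node (nat_lit 341) (.leaf ((nat_lit 327), [nat_lit 4])) (.leaf ((nat_lit 327), [nat_lit 5])))))
 (.node (nat_lit 345) (.node (nat_lit 343) (.leaf ((nat_lit 327), [nat_lit 6])) (.node (nat_lit 344) (.leaf ((nat_lit 328), [nat_lit 3])) (.leaf ((nat_lit 328), [nat_lit 4]))))
 (.node (nat_lit 347) (.node (nat_lit 346) (.leaf ((nat_lit 328), [nat_lit 5])) (.leaf ((nat_lit 328), [nat_lit 6]))) (.node (nat_lit 348) (.leaf ((nat_lit 329), [nat_lit 4])) (.leaf ((nat_lit 329), [nat_lit 5]))))))))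
 (.node (nat_lit 377) (.node (nat_lit 363) (.node (nat_lit 356) (.node (nat_lit 352) (.node (nat_lit 350) (.leaf ((nat_lit 329), [nat_lit 6])) (.node (nat_lit 351) (.leaf ((nat_lit 330), [nat_lit 0])) (.leaf ((nat_lit 330), [nat_lit 1]))))
 (.node (nat_lit 354) (.node (nat_lit 353) (.leaf ((nat_lit 330), [nat_lit 2])) (.leaf ((nat_lit 330), [nat_lit 5]))) (.node (nat_lit 355) (.leaf ((nat_lit 330), [nat_lit 6])) (.leaf ((nat_lit 331), [nat_lit 6])))))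
 (.node (nat_lit 359) (.node (nat_lit 357) (.leaf ((nat_lit 332), [nat_lit 0])) (.node (nat_lit 358) (.leaf ((nat_lit 332), [nat_lit 2])) (.leaf ((nat_lit 332), [nat_lit 3]))))
 (.node (nat_lit 361) (.node (nat_lit 360) (.leaf ((nat_lit 333), [nat_lit 2])) (.leaf ((nat_lit 333), [nat_lit 4]))) (.node (nat_lit 362) (.leaf ((nat_lit 333), [nat_lit 5])) (.leaf ((nat_lit 333), [nat_lit 6]))))))
 (.node (nat_lit 370) (.node (nat_lit 366) (.node (nat_lit 364) (.leaf ((nat_lit 334), [nat_lit 3])) (.node (nat_lit 365) (.leaf ((nat_lit 334), [nat_lit 4])) (.leaf ((nat_lit 334), [nat_lit 5]))))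
 (.node (nat_lit 368) (.node (nat_lit 367) (.leaf ((nat_lit 334), [nat_lit 6])) (.leaf ((nat_lit 335), [nat_lit 4]))) (.node (nat_lit 369) (.leaf ((nat_lit 335), [nat_lit 5])) (.leaf ((nat_lit 335), [nat_lit 6])))))
 (.node (nat_lit 373) (.node (nat_lit 371) (.leaf ((nat_lit 336), [nat_lit 0])) (.node (nat_lit 372) (.leaf ((nat_lit 336), [nat_lit 1])) (.leaf ((nat_lit 336), [nat_lit 2]))))
 (.node (nat_lit 375) (.node (nat_lit 374) (.leaf ((nat_lit 336), [nat_lit 5])) (.leaf ((nat_lit 336), [nat_lit 6]))) (.node (nat_lit 376) (.leaf ((nat_lit 337), [nat_lit 6])) (.leaf ((nat_lit 338), [nat_lit 0])))))))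
 (.node (nat_lit 391) (.node (nat_lit 384) (.node (nat_lit 380) (.node (nat_lit 378) (.leaf ((nat_lit 339), [nat_lit 5])) (.node (nat_lit 379) (.leaf ((nat_lit 339), [nat_lit 6])) (.leaf ((nat_lit 340), [nat_lit 0]))))
 (.node (nat_lit 382) (.node (nat_lit 381) (.leaf ((nat_lit 340), [nat_lit 2])) (.leaf ((nat_lit 340), [nat_lit 6]))) (.node (nat_lit 383) (.leaf ((nat_lit 341), [nat_lit 1])) (.leaf ((nat_lit 341), [nat_lit 3])))))
 (.node (nat_lit 387) (.node (nat_lit 385) (.leaf ((nat_lit 341), [nat_lit 6])) (.node (nat_lit 386) (.leaf ((nat_lit 342), [nat_lit 0])) (.leaf ((nat_lit 342), [nat_lit 2]))))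
 (.node (nat_lit 389) (.node (nat_lit 388) (.leaf ((nat_lit 342), [nat_lit 3])) (.leaf ((nat_lit 343), [nat_lit 5]))) (.node (nat_lit 390) (.leaf ((nat_lit 344), [nat_lit 2])) (.leaf ((nat_lit 344), [nat_lit 5]))))))
 (.node (nat_lit 398) (.node (nat_lit 394) (.node (nat_lit 392) (.leaf ((nat_lit 344), [nat_lit 6])) (.node (nat_lit 393) (.leaf ((nat_lit 345), [nat_lit 6])) (.leaf ((nat_lit 346), [nat_lit 2]))))
 (.node (nat_lit 396) (.node (nat_lit 395) (.leaf ((nat_lit 346), [nat_lit 3])) (.leaf ((nat_lit 347), [nat_lit 2]))) (.node (nat_lit 397) (.leaf ((nat_lit 347), [nat_lit 5])) (.leaf ((nat_lit 347), [nat_lit 6])))))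
 (.node (nat_lit 401) (.node (nat_lit 399) (.leaf ((nat_lit 348), [nat_lit 6])) (.node (nat_lit 400) (.leaf ((nat_lit 349), [nat_lit 2])) (.leaf ((nat_lit 349), [nat_lit 3]))))
 (.node (nat_lit 403) (.node (nat_lit 402) (.leaf ((nat_lit 350), [nat_lit 2])) (.leaf ((nat_lit 350), [nat_lit 5]))) (.node (nat_lit 404) (.leaf ((nat_lit 350), [nat_lit 6])) (.leaf ((nat_lit 351), [nat_lit 2])))))))))
 (.node (nat_lit 474) (.node (nat_lit 433) (.node (nat_lit 419) (.node (nat_lit 412) (.node (nat_lit 408) (.node (nat_lit 406) (.leaf ((nat_lit 351), [nat_lit 5])) (.node (nat_lit 407) (.leaf ((nat_lit 351), [nat_lit 6])) (.leaf ((nat_lit 352), [nat_lit 6]))))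
 (.node (nat_lit 410) (.node (nat_lit 409) (.leaf ((nat_lit 353), [nat_lit 2])) (.leaf ((nat_lit 353), [nat_lit 6]))) (.node (nat_lit 411) (.leaf ((nat_lit 354), [nat_lit 0])) (.leaf ((nat_lit 354), [nat_lit 1])))))
 (.node (nat_lit 415) (.node (nat_lit 413) (.leaf ((nat_lit 354), [nat_lit 3])) (.node (nat_lit 414) (.leaf ((nat_lit 354), [nat_lit 5])) (.leaf ((nat_lit 355), [nat_lit 0]))))
 (.node (nat_lit 417) (.node (nat_lit 416) (.leaf ((nat_lit 355), [nat_lit 2])) (.leaf ((nat_lit 355), [nat_lit 3]))) (.node (nat_lit 418) (.leaf ((nat_lit 356), [nat_lit 2])) (.leaf ((nat_lit 357), [nat_lit 4]))))))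
 (.node (nat_lit 426) (.node (nat_lit 422) (.node (nat_lit 420) (.leaf ((nat_lit 357), [nat_lit 6])) (.node (nat_lit 421) (.leaf ((nat_lit 358), [nat_lit 4])) (.leaf ((nat_lit 358), [nat_lit 6]))))
 (.node (nat_lit 424) (.node (nat_lit 423) (.leaf ((nat_lit 359), [nat_lit 5])) (.leaf ((nat_lit 360), [nat_lit 2]))) (.node (nat_lit 425) (.leaf ((nat_lit 361), [nat_lit 1])) (.leaf ((nat_lit 361), [nat_lit 3])))))
 (.node (nat_lit 429) (.node (nat_lit 427) (.leaf ((nat_lit 363), [nat_lit 5])) (.node (nat_lit 428) (.leaf ((nat_lit 367), [nat_lit 2])) (.leaf ((nat_lit 367), [nat_lit 6]))))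
 (.node (nat_lit 431) (.node (nat_lit 430) (.leaf ((nat_lit 368), [nat_lit 6])) (.leaf ((nat_lit 370), [nat_lit 2]))) (.node (nat_lit 432) (.leaf ((nat_lit 370), [nat_lit 5])) (.leaf ((nat_lit 370), [nat_lit 6])))))))
 (.node (nat_lit 447) (.node (nat_lit 440) (.node (nat_lit 436) (.node (nat_lit 434) (.leaf ((nat_lit 371), [nat_lit 2])) (.node (nat_lit 435) (.leaf ((nat_lit 371), [nat_lit 6])) (.leaf ((nat_lit 372), [nat_lit 6]))))
 (.node (nat_lit 438) (.node (nat_lit 437) (.leaf ((nat_lit 373), [nat_lit 6])) (.leaf ((nat_lit 374), [nat_lit 0]))) (.node (nat_lit 439) (.leaf ((nat_lit 374), [nat_lit 5])) (.leaf ((nat_lit 377), [nat_lit 1])))))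
 (.node (nat_lit 443) (.node (nat_lit 441) (.leaf ((nat_lit 379), [nat_lit 6])) (.node (nat_lit 442) (.leaf ((nat_lit 381), [nat_lit 0])) (.leaf ((nat_lit 382), [nat_lit 6]))))
 (.node (nat_lit 445) (.node (nat_lit 444) (.leaf ((nat_lit 385), [nat_lit 2])) (.leaf ((nat_lit 386), [nat_lit 4]))) (.node (nat_lit 446) (.leaf ((nat_lit 387), [nat_lit 4])) (.leaf ((nat_lit 389), [nat_lit 6]))))))
 (.node (nat_lit 467) (.node (nat_lit 450) (.node (nat_lit 448) (.leaf ((nat_lit 390), [nat_lit 6])) (.node (nat_lit 449) (.leaf ((nat_lit 391), [nat_lit 5])) (.leaf ((nat_lit 399), [nat_lit 4]))))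
 (.node (nat_lit 452) (.node (nat_lit 451) (.leaf ((nat_lit 404), [nat_lit 4])) (.leaf ((nat_lit 404), [nat_lit 6]))) (.node (nat_lit 466) (.leaf ((nat_lit 407), [nat_lit 5])) (.leaf ((nat_lit 1000000), [nat_lit 11, nat_lit 9, nat_lit 11, nat_lit 7, nat_lit 7, nat_lit 9, nat_lit 8, nat_lit 8])))))
 (.node (nat_lit 470) (.node (nat_lit 468) (.leaf ((nat_lit 466), [nat_lit 0])) (.node (nat_lit 469) (.leaf ((nat_lit 466), [nat_lit 1])) (.leaf ((nat_lit 466), [nat_lit 2]))))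
 (.node (nat_lit 472) (.node (nat_lit 471) (.leaf ((nat_lit 466), [nat_lit 3])) (.leaf ((nat_lit 466), [nat_lit 4]))) (.node (nat_lit 473) (.leaf ((nat_lit 466), [nat_lit 5])) (.leaf ((nat_lit 466), [nat_lit 6]))))))))
 (.node (nat_lit 502) (.node (nat_lit 488) (.node (nat_lit 481) (.node (nat_lit 477) (.node (nat_lit 475) (.leaf ((nat_lit 467), [nat_lit 1])) (.node (nat_lit 476) (.leaf ((nat_lit 467), [nat_lit 2])) (.leaf ((nat_lit 467), [nat_lit 3]))))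
 (.node (nat_lit 479) (.node (nat_lit 478) (.leaf ((nat_lit 467), [nat_lit 4])) (.leaf ((nat_lit 467), [nat_lit 5]))) (.node (nat_lit 480) (.leaf ((nat_lit 467), [nat_lit 6])) (.leaf ((nat_lit 468), [nat_lit 2])))))
 (.node (nat_lit 484) (.node (nat_lit 482) (.leaf ((nat_lit 468), [nat_lit 3])) (.node (nat_lit 483) (.leaf ((nat_lit 468), [nat_lit 4])) (.leaf ((nat_lit 468), [nat_lit 5]))))
 (.node (nat_lit 486) (.node (nat_lit 485) (.leaf ((nat_lit 468), [nat_lit 6])) (.leaf ((nat_lit 469), [nat_lit 3]))) (.node (nat_lit 487) (.leaf ((nat_lit 469), [nat_lit 4])) (.leaf ((nat_lit 469), [nat_lit 5]))))))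
 (.node (nat_lit 495) (.node (nat_lit 491) (.node (nat_lit 489) (.leaf ((nat_lit 469), [nat_lit 6])) (.node (nat_lit 490) (.leaf ((nat_lit 470), [nat_lit 4])) (.leaf ((nat_lit 470), [nat_lit 5]))))
 (.node (nat_lit 493) (.node (nat_lit 492) (.leaf ((nat_lit 470), [nat_lit 6])) (.leaf ((nat_lit 471), [nat_lit 0]))) (.node (nat_lit 494) (.leaf ((nat_lit 471), [nat_lit 5])) (.leaf ((nat_lit 471), [nat_lit 6])))))
 (.node (nat_lit 498) (.node (nat_lit 496) (.leaf ((nat_lit 472), [nat_lit 1])) (.node (nat_lit 497) (.leaf ((nat_lit 472), [nat_lit 3])) (.leaf ((nat_lit 472), [nat_lit 6]))))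
 (.node (nat_lit 500) (.node (nat_lit 499) (.leaf ((nat_lit 473), [nat_lit 0])) (.leaf ((nat_lit 473), [nat_lit 1]))) (.node (nat_lit 501) (.leaf ((nat_lit 473), [nat_lit 2])) (.leaf ((nat_lit 473), [nat_lit 3])))))))
 (.node (nat_lit 516) (.node (nat_lit 509) (.node (nat_lit 505) (.node (nat_lit 503) (.leaf ((nat_lit 473), [nat_lit 5])) (.node (nat_lit 504) (.leaf ((nat_lit 474), [nat_lit 2])) (.leaf ((nat_lit 474), [nat_lit 3]))))
 (.node (nat_lit 507) (.node (nat_lit 506) (.leaf ((nat_lit 474), [nat_lit 4])) (.leaf ((nat_lit 474), [nat_lit 5]))) (.node (nat_lit 508) (.leaf ((nat_lit 474), [nat_lit 6])) (.leaf ((nat_lit 475), [nat_lit 5])))))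
 (.node (nat_lit 512) (.node (nat_lit 510) (.leaf ((nat_lit 475), [nat_lit 6])) (.node (nat_lit 511) (.leaf ((nat_lit 476), [nat_lit 5])) (.leaf ((nat_lit 476), [nat_lit 6]))))
 (.node (nat_lit 514) (.node (nat_lit 513) (.leaf ((nat_lit 477), [nat_lit 0])) (.leaf ((nat_lit 477), [nat_lit 5]))) (.node (nat_lit 515) (.leaf ((nat_lit 477), [nat_lit 6])) (.leaf ((nat_lit 478), [nat_lit 1]))))))
 (.node (nat_lit 523) (.node (nat_lit 519) (.node (nat_lit 517) (.leaf ((nat_lit 478), [nat_lit 3])) (.node (nat_lit 518) (.leaf ((nat_lit 478), [nat_lit 6])) (.leaf ((nat_lit 479), [nat_lit 0]))))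
 (.node (nat_lit 521) (.node (nat_lit 520) (.leaf ((nat_lit 479), [nat_lit 1])) (.leaf ((nat_lit 479), [nat_lit 2]))) (.node (nat_lit 522) (.leaf ((nat_lit 479), [nat_lit 3])) (.leaf ((nat_lit 479), [nat_lit 5])))))
 (.node (nat_lit 526) (.node (nat_lit 524) (.leaf ((nat_lit 480), [nat_lit 4])) (.node (nat_lit 525) (.leaf ((nat_lit 480), [nat_lit 5])) (.leaf ((nat_lit 480), [nat_lit 6]))))
 (.node (nat_lit 528) (.node (nat_lit 527) (.leaf ((nat_lit 481), [nat_lit 4])) (.leaf ((nat_lit 482), [nat_lit 0]))) (.node (nat_lit 529) (.leaf ((nat_lit 482), [nat_lit 5])) (.leaf ((nat_lit 482), [nat_lit 6])))))))))))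
 (.node (nat_lit 765) (.node (nat_lit 651) (.node (nat_lit 586) (.node (nat_lit 558) (.node (nat_lit 544) (.node (nat_lit 537) (.node (nat_lit 533) (.node (nat_lit 531) (.leaf ((nat_lit 483), [nat_lit 3])) (.node (nat_lit 532) (.leaf ((nat_lit 483), [nat_lit 6])) (.leaf ((nat_lit 484), [nat_lit 0]))))
 (.node (nat_lit 535) (.node (nat_lit 534) (.leaf ((nat_lit 484), [nat_lit 2])) (.leaf ((nat_lit 484), [nat_lit 5]))) (.node (nat_lit 536) (.leaf ((nat_lit 485), [nat_lit 4])) (.leaf ((nat_lit 485), [nat_lit 5])))))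
 (.node (nat_lit 540) (.node (nat_lit 538) (.leaf ((nat_lit 486), [nat_lit 0])) (.node (nat_lit 539) (.leaf ((nat_lit 486), [nat_lit 6])) (.leaf ((nat_lit 487), [nat_lit 1]))))
 (.node (nat_lit 542) (.node (nat_lit 541) (.leaf ((nat_lit 489), [nat_lit 0])) (.leaf ((nat_lit 489), [nat_lit 5]))) (.node (nat_lit 543) (.leaf ((nat_lit 490), [nat_lit 3])) (.leaf ((nat_lit 490), [nat_lit 6]))))))
 (.node (nat_lit 551) (.node (nat_lit 547) (.node (nat_lit 545) (.leaf ((nat_lit 491), [nat_lit 2])) (.node (nat_lit 546) (.leaf ((nat_lit 491), [nat_lit 5])) (.leaf ((nat_lit 492), [nat_lit 4]))))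
 (.node (nat_lit 549) (.node (nat_lit 548) (.leaf ((nat_lit 492), [nat_lit 5])) (.leaf ((nat_lit 492), [nat_lit 6]))) (.node (nat_lit 550) (.leaf ((nat_lit 493), [nat_lit 1])) (.leaf ((nat_lit 493), [nat_lit 6])))))
 (.node (nat_lit 554) (.node (nat_lit 552) (.leaf ((nat_lit 494), [nat_lit 5])) (.node (nat_lit 553) (.leaf ((nat_lit 495), [nat_lit 3])) (.leaf ((nat_lit 495), [nat_lit 6]))))
 (.node (nat_lit 556) (.node (nat_lit 555) (.leaf ((nat_lit 496), [nat_lit 6])) (.leaf ((nat_lit 497), [nat_lit 1]))) (.node (nat_lit 557) (.leaf ((nat_lit 497), [nat_lit 2])) (.leaf ((nat_lit 498), [nat_lit 5])))))))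
 (.node (nat_lit 572) (.node (nat_lit 565) (.node (nat_lit 561) (.node (nat_lit 559) (.leaf ((nat_lit 499), [nat_lit 5])) (.node (nat_lit 560) (.leaf ((nat_lit 502), [nat_lit 1])) (.leaf ((nat_lit 502), [nat_lit 4]))))
 (.node (nat_lit 563) (.node (nat_lit 562) (.leaf ((nat_lit 503), [nat_lit 5])) (.leaf ((nat_lit 503), [nat_lit 6]))) (.node (nat_lit 564) (.leaf ((nat_lit 505), [nat_lit 5])) (.leaf ((nat_lit 506), [nat_lit 3])))))
 (.node (nat_lit 568) (.node (nat_lit 566) (.leaf ((nat_lit 506), [nat_lit 6])) (.node (nat_lit 567) (.leaf ((nat_lit 507), [nat_lit 0])) (.leaf ((nat_lit 507), [nat_lit 2]))))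
 (.node (nat_lit 570) (.node (nat_lit 569) (.leaf ((nat_lit 507), [nat_lit 3])) (.leaf ((nat_lit 507), [nat_lit 5]))) (.node (nat_lit 571) (.leaf ((nat_lit 508), [nat_lit 3])) (.leaf ((nat_lit 510), [nat_lit 3]))))))
 (.node (nat_lit 579) (.node (nat_lit 575) (.node (nat_lit 573) (.leaf ((nat_lit 510), [nat_lit 6])) (.node (nat_lit 574) (.leaf ((nat_lit 511), [nat_lit 0])) (.leaf ((nat_lit 511), [nat_lit 2]))))
 (.node (nat_lit 577) (.node (nat_lit 576) (.leaf ((nat_lit 511), [nat_lit 5])) (.leaf ((nat_lit 512), [nat_lit 4]))) (.node (nat_lit 578) (.leaf ((nat_lit 513), [nat_lit 3])) (.leaf ((nat_lit 513), [nat_lit 6])))))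
 (.node (nat_lit 582) (.node (nat_lit 580) (.leaf ((nat_lit 514), [nat_lit 0])) (.node (nat_lit 581) (.leaf ((nat_lit 515), [nat_lit 3])) (.leaf ((nat_lit 516), [nat_lit 5]))))
 (.node (nat_lit 584) (.node (nat_lit 583) (.leaf ((nat_lit 516), [nat_lit 6])) (.leaf ((nat_lit 517), [nat_lit 1]))) (.node (nat_lit 585) (.leaf ((nat_lit 517), [nat_lit 2])) (.leaf ((nat_lit 518), [nat_lit 5]))))))))
 (.node (nat_lit 623) (.node (nat_lit 609) (.node (nat_lit 593) (.node (nat_lit 589) (.node (nat_lit 587) (.leaf ((nat_lit 518), [nat_lit 6])) (.node (nat_lit 588) (.leaf ((nat_lit 522), [nat_lit 1])) (.leaf ((nat_lit 522), [nat_lit 4]))))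
 (.node (nat_lit 591) (.node (nat_lit 590) (.leaf ((nat_lit 527), [nat_lit 4])) (.leaf ((nat_lit 528), [nat_lit 6]))) (.node (nat_lit 592) (.leaf ((nat_lit 538), [nat_lit 5])) (.leaf ((nat_lit 547), [nat_lit 1])))))
 (.node (nat_lit 605) (.node (nat_lit 603) (.leaf ((nat_lit 559), [nat_lit 4])) (.node (nat_lit 604) (.leaf ((nat_lit 1000000), [nat_lit 10, nat_lit 8, nat_lit 11, nat_lit 9, nat_lit 7, nat_lit 3])) (.leaf ((nat_lit 603), [nat_lit 0]))))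
 (.node (nat_lit 607) (.node (nat_lit 606) (.leaf ((nat_lit 603), [nat_lit 1])) (.leaf ((nat_lit 603), [nat_lit 2]))) (.node (nat_lit 608) (.leaf ((nat_lit 603), [nat_lit 3])) (.leaf ((nat_lit 603), [nat_lit 4]))))))
 (.node (nat_lit 616) (.node (nat_lit 612) (.node (nat_lit 610) (.leaf ((nat_lit 603), [nat_lit 5])) (.node (nat_lit 611) (.leaf ((nat_lit 603), [nat_lit 6])) (.leaf ((nat_lit 604), [nat_lit 1]))))
 (.node (nat_lit 614) (.node (nat_lit 613) (.leaf ((nat_lit 604), [nat_lit 2])) (.leaf ((nat_lit 604), [nat_lit 3]))) (.node (nat_lit 615) (.leaf ((nat_lit 604), [nat_lit 4])) (.leaf ((nat_lit 604), [nat_lit 5])))))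
 (.node (nat_lit 619) (.node (nat_lit 617) (.leaf ((nat_lit 604), [nat_lit 6])) (.node (nat_lit 618) (.leaf ((nat_lit 605), [nat_lit 2])) (.leaf ((nat_lit 605), [nat_lit 3]))))
 (.node (nat_lit 621) (.node (nat_lit 620) (.leaf ((nat_lit 605), [nat_lit 4])) (.leaf ((nat_lit 605), [nat_lit 5]))) (.node (nat_lit 622) (.leaf ((nat_lit 605), [nat_lit 6])) (.leaf ((nat_lit 606), [nat_lit 3])))))))
 (.node (nat_lit 637) (.node (nat_lit 630) (.node (nat_lit 626) (.node (nat_lit 624) (.leaf ((nat_lit 606), [nat_lit 4])) (.node (nat_lit 625) (.leaf ((nat_lit 606), [nat_lit 5])) (.leaf ((nat_lit 606), [nat_lit 6]))))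
 (.node (nat_lit 628) (.node (nat_lit 627) (.leaf ((nat_lit 607), [nat_lit 4])) (.leaf ((nat_lit 607), [nat_lit 5]))) (.node (nat_lit 629) (.leaf ((nat_lit 607), [nat_lit 6])) (.leaf ((nat_lit 608), [nat_lit 1])))))
 (.node (nat_lit 633) (.node (nat_lit 631) (.leaf ((nat_lit 608), [nat_lit 2])) (.node (nat_lit 632) (.leaf ((nat_lit 608), [nat_lit 3])) (.leaf ((nat_lit 608), [nat_lit 5]))))
 (.node (nat_lit 635) (.node (nat_lit 634) (.leaf ((nat_lit 608), [nat_lit 6])) (.leaf ((nat_lit 609), [nat_lit 0]))) (.node (nat_lit 636) (.leaf ((nat_lit 609), [nat_lit 1])) (.leaf ((nat_lit 609), [nat_lit 2]))))))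
 (.node (nat_lit 644) (.node (nat_lit 640) (.node (nat_lit 638) (.leaf ((nat_lit 609), [nat_lit 3])) (.node (nat_lit 639) (.leaf ((nat_lit 609), [nat_lit 4])) (.leaf ((nat_lit 609), [nat_lit 6]))))
 (.node (nat_lit 642) (.node (nat_lit 641) (.leaf ((nat_lit 610), [nat_lit 0])) (.leaf ((nat_lit 610), [nat_lit 1]))) (.node (nat_lit 643) (.leaf ((nat_lit 610), [nat_lit 2])) (.leaf ((nat_lit 610), [nat_lit 5])))))
 (.node (nat_lit 647) (.node (nat_lit 645) (.leaf ((nat_lit 611), [nat_lit 2])) (.node (nat_lit 646) (.leaf ((nat_lit 611), [nat_lit 3])) (.leaf ((nat_lit 611), [nat_lit 4]))))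
 (.node (nat_lit 649) (.node (nat_lit 648) (.leaf ((nat_lit 611), [nat_lit 5])) (.leaf ((nat_lit 611), [nat_lit 6]))) (.node (nat_lit 650) (.leaf ((nat_lit 612), [nat_lit 3])) (.leaf ((nat_lit 612), [nat_lit 4])))))))))
 (.node (nat_lit 707) (.node (nat_lit 679) (.node (nat_lit 665) (.node (nat_lit 658) (.node (nat_lit 654) (.node (nat_lit 652) (.leaf ((nat_lit 612), [nat_lit 5])) (.node (nat_lit 653) (.leaf ((nat_lit 613), [nat_lit 5])) (.leaf ((nat_lit 613), [nat_lit 6]))))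
 (.node (nat_lit 656) (.node (nat_lit 655) (.leaf ((nat_lit 614), [nat_lit 1])) (.leaf ((nat_lit 614), [nat_lit 2]))) (.node (nat_lit 657) (.leaf ((nat_lit 614), [nat_lit 6])) (.leaf ((nat_lit 615), [nat_lit 0])))))
 (.node (nat_lit 661) (.node (nat_lit 659) (.leaf ((nat_lit 615), [nat_lit 2])) (.node (nat_lit 660) (.leaf ((nat_lit 615), [nat_lit 3])) (.leaf ((nat_lit 615), [nat_lit 6]))))
 (.node (nat_lit 663) (.node (nat_lit 662) (.leaf ((nat_lit 616), [nat_lit 0])) (.leaf ((nat_lit 616), [nat_lit 1]))) (.node (nat_lit 664) (.leaf ((nat_lit 616), [nat_lit 5])) (.leaf ((nat_lit 617), [nat_lit 3]))))))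
 (.node (nat_lit 672) (.node (nat_lit 668) (.node (nat_lit 666) (.leaf ((nat_lit 617), [nat_lit 4])) (.node (nat_lit 667) (.leaf ((nat_lit 617), [nat_lit 5])) (.leaf ((nat_lit 617), [nat_lit 6]))))
 (.node (nat_lit 670) (.node (nat_lit 669) (.leaf ((nat_lit 618), [nat_lit 4])) (.leaf ((nat_lit 618), [nat_lit 5]))) (.node (nat_lit 671) (.leaf ((nat_lit 619), [nat_lit 3])) (.leaf ((nat_lit 619), [nat_lit 5])))))
 (.node (nat_lit 675) (.node (nat_lit 673) (.leaf ((nat_lit 619), [nat_lit 6])) (.node (nat_lit 674) (.leaf ((nat_lit 620), [nat_lit 0])) (.leaf ((nat_lit 620), [nat_lit 1]))))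
 (.node (nat_lit 677) (.node (nat_lit 676) (.leaf ((nat_lit 620), [nat_lit 2])) (.leaf ((nat_lit 620), [nat_lit 3]))) (.node (nat_lit 678) (.leaf ((nat_lit 620), [nat_lit 4])) (.leaf ((nat_lit 620), [nat_lit 6])))))))
 (.node (nat_lit 693) (.node (nat_lit 686) (.node (nat_lit 682) (.node (nat_lit 680) (.leaf ((nat_lit 621), [nat_lit 0])) (.node (nat_lit 681) (.leaf ((nat_lit 621), [nat_lit 2])) (.leaf ((nat_lit 621), [nat_lit 5]))))
 (.node (nat_lit 684) (.node (nat_lit 683) (.leaf ((nat_lit 622), [nat_lit 6])) (.leaf ((nat_lit 623), [nat_lit 1]))) (.node (nat_lit 685) (.leaf ((nat_lit 623), [nat_lit 2])) (.leaf ((nat_lit 623), [nat_lit 5])))))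
 (.node (nat_lit 689) (.node (nat_lit 687) (.leaf ((nat_lit 623), [nat_lit 6])) (.node (nat_lit 688) (.leaf ((nat_lit 624), [nat_lit 3])) (.leaf ((nat_lit 625), [nat_lit 0]))))
 (.node (nat_lit 691) (.node (nat_lit 690) (.leaf ((nat_lit 625), [nat_lit 1])) (.leaf ((nat_lit 626), [nat_lit 2]))) (.node (nat_lit 692) (.leaf ((nat_lit 627), [nat_lit 4])) (.leaf ((nat_lit 628), [nat_lit 0]))))))
 (.node (nat_lit 700) (.node (nat_lit 696) (.node (nat_lit 694) (.leaf ((nat_lit 629), [nat_lit 4])) (.node (nat_lit 695) (.leaf ((nat_lit 630), [nat_lit 3])) (.leaf ((nat_lit 630), [nat_lit 4]))))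
 (.node (nat_lit 698) (.node (nat_lit 697) (.leaf ((nat_lit 632), [nat_lit 1])) (.leaf ((nat_lit 632), [nat_lit 2]))) (.node (nat_lit 699) (.leaf ((nat_lit 632), [nat_lit 3])) (.leaf ((nat_lit 632), [nat_lit 6])))))
 (.node (nat_lit 703) (.node (nat_lit 701) (.leaf ((nat_lit 633), [nat_lit 2])) (.node (nat_lit 702) (.leaf ((nat_lit 633), [nat_lit 3])) (.leaf ((nat_lit 633), [nat_lit 5]))))
 (.node (nat_lit 705) (.node (nat_lit 704) (.leaf ((nat_lit 634), [nat_lit 1])) (.leaf ((nat_lit 634), [nat_lit 5]))) (.node (nat_lit 706) (.leaf ((nat_lit 635), [nat_lit 6])) (.leaf ((nat_lit 636), [nat_lit 5]))))))))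
 (.node (nat_lit 737) (.node (nat_lit 721) (.node (nat_lit 714) (.node (nat_lit 710) (.node (nat_lit 708) (.leaf ((nat_lit 637), [nat_lit 5])) (.node (nat_lit 709) (.leaf ((nat_lit 639), [nat_lit 1])) (.leaf ((nat_lit 639), [nat_lit 2]))))
 (.node (nat_lit 712) (.node (nat_lit 711) (.leaf ((nat_lit 643), [nat_lit 1])) (.leaf ((nat_lit 643), [nat_lit 2]))) (.node (nat_lit 713) (.leaf ((nat_lit 643), [nat_lit 3])) (.leaf ((nat_lit 644), [nat_lit 5])))))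
 (.node (nat_lit 717) (.node (nat_lit 715) (.leaf ((nat_lit 646), [nat_lit 6])) (.node (nat_lit 716) (.leaf ((nat_lit 647), [nat_lit 0])) (.leaf ((nat_lit 648), [nat_lit 0]))))
 (.node (nat_lit 719) (.node (nat_lit 718) (.leaf ((nat_lit 650), [nat_lit 1])) (.leaf ((nat_lit 653), [nat_lit 0]))) (.node (nat_lit 720) (.leaf ((nat_lit 654), [nat_lit 4])) (.leaf ((nat_lit 657), [nat_lit 4]))))))
 (.node (nat_lit 728) (.node (nat_lit 724) (.node (nat_lit 722) (.leaf ((nat_lit 657), [nat_lit 5])) (.node (nat_lit 723) (.leaf ((nat_lit 659), [nat_lit 5])) (.leaf ((nat_lit 663), [nat_lit 4]))))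
 (.node (nat_lit 726) (.node (nat_lit 725) (.leaf ((nat_lit 671), [nat_lit 6])) (.leaf ((nat_lit 673), [nat_lit 5]))) (.node (nat_lit 727) (.leaf ((nat_lit 676), [nat_lit 5])) (.leaf ((nat_lit 682), [nat_lit 0])))))
 (.node (nat_lit 733) (.node (nat_lit 729) (.leaf ((nat_lit 685), [nat_lit 6])) (.node (nat_lit 730) (.leaf ((nat_lit 687), [nat_lit 5])) (.leaf ((nat_lit 715), [nat_lit 5]))))
 (.node (nat_lit 735) (.node (nat_lit 734) (.leaf ((nat_lit 1000000), [nat_lit 8, nat_lit 11, nat_lit 8, nat_lit 9, nat_lit 8, nat_lit 5])) (.leaf ((nat_lit 733), [nat_lit 0]))) (.node (nat_lit 736) (.leaf ((nat_lit 733), [nat_lit 1])) (.leaf ((nat_lit 733), [nat_lit 2])))))))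
 (.node (nat_lit 751) (.node (nat_lit 744) (.node (nat_lit 740) (.node (nat_lit 738) (.leaf ((nat_lit 733), [nat_lit 3])) (.node (nat_lit 739) (.leaf ((nat_lit 733), [nat_lit 4])) (.leaf ((nat_lit 733), [nat_lit 5]))))
 (.node (nat_lit 742) (.node (nat_lit 741) (.leaf ((nat_lit 733), [nat_lit 6])) (.leaf ((nat_lit 734), [nat_lit 1]))) (.node (nat_lit 743) (.leaf ((nat_lit 734), [nat_lit 2])) (.leaf ((nat_lit 734), [nat_lit 3])))))
 (.node (nat_lit 747) (.node (nat_lit 745) (.leaf ((nat_lit 734), [nat_lit 4])) (.node (nat_lit 746) (.leaf ((nat_lit 734), [nat_lit 5])) (.leaf ((nat_lit 734), [nat_lit 6]))))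
 (.node (nat_lit 749) (.node (nat_lit 748) (.leaf ((nat_lit 735), [nat_lit 2])) (.leaf ((nat_lit 735), [nat_lit 3]))) (.node (nat_lit 750) (.leaf ((nat_lit 735), [nat_lit 4])) (.leaf ((nat_lit 735), [nat_lit 5]))))))
 (.node (nat_lit 758) (.node (nat_lit 754) (.node (nat_lit 752) (.leaf ((nat_lit 735), [nat_lit 6])) (.node (nat_lit 753) (.leaf ((nat_lit 736), [nat_lit 3])) (.leaf ((nat_lit 736), [nat_lit 4]))))
 (.node (nat_lit 756) (.node (nat_lit 755) (.leaf ((nat_lit 736), [nat_lit 5])) (.leaf ((nat_lit 736), [nat_lit 6]))) (.node (nat_lit 757) (.leaf ((nat_lit 737), [nat_lit 4])) (.leaf ((nat_lit 737), [nat_lit 5])))))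
 (.node (nat_lit 761) (.node (nat_lit 759) (.leaf ((nat_lit 737), [nat_lit 6])) (.node (nat_lit 760) (.leaf ((nat_lit 738), [nat_lit 0])) (.leaf ((nat_lit 738), [nat_lit 1]))))
 (.node (nat_lit 763) (.node (nat_lit 762) (.leaf ((nat_lit 738), [nat_lit 2])) (.leaf ((nat_lit 738), [nat_lit 3]))) (.node (nat_lit 764) (.leaf ((nat_lit 738), [nat_lit 5])) (.leaf ((nat_lit 738), [nat_lit 6]))))))))))
 (.node (nat_lit 986) (.node (nat_lit 821) (.node (nat_lit 793) (.node (nat_lit 779) (.node (nat_lit 772) (.node (nat_lit 768) (.node (nat_lit 766) (.leaf ((nat_lit 739), [nat_lit 0])) (.node (nat_lit 767) (.leaf ((nat_lit 739), [nat_lit 1])) (.leaf ((nat_lit 739), [nat_lit 4]))))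
 (.node (nat_lit 770) (.node (nat_lit 769) (.leaf ((nat_lit 739), [nat_lit 6])) (.leaf ((nat_lit 740), [nat_lit 0]))) (.node (nat_lit 771) (.leaf ((nat_lit 740), [nat_lit 1])) (.leaf ((nat_lit 740), [nat_lit 2])))))
 (.node (nat_lit 775) (.node (nat_lit 773) (.leaf ((nat_lit 740), [nat_lit 3])) (.node (nat_lit 774) (.leaf ((nat_lit 741), [nat_lit 4])) (.leaf ((nat_lit 741), [nat_lit 6]))))
 (.node (nat_lit 777) (.node (nat_lit 776) (.leaf ((nat_lit 742), [nat_lit 4])) (.leaf ((nat_lit 742), [nat_lit 5]))) (.node (nat_lit 778) (.leaf ((nat_lit 743), [nat_lit 4])) (.leaf ((nat_lit 743), [nat_lit 5]))))))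
 (.node (nat_lit 786) (.node (nat_lit 782) (.node (nat_lit 780) (.leaf ((nat_lit 743), [nat_lit 6])) (.node (nat_lit 781) (.leaf ((nat_lit 744), [nat_lit 0])) (.leaf ((nat_lit 744), [nat_lit 1]))))
 (.node (nat_lit 784) (.node (nat_lit 783) (.leaf ((nat_lit 744), [nat_lit 5])) (.leaf ((nat_lit 744), [nat_lit 6]))) (.node (nat_lit 785) (.leaf ((nat_lit 745), [nat_lit 0])) (.leaf ((nat_lit 745), [nat_lit 1])))))
 (.node (nat_lit 789) (.node (nat_lit 787) (.leaf ((nat_lit 745), [nat_lit 4])) (.node (nat_lit 788) (.leaf ((nat_lit 745), [nat_lit 6])) (.leaf ((nat_lit 746), [nat_lit 0]))))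
 (.node (nat_lit 791) (.node (nat_lit 790) (.leaf ((nat_lit 746), [nat_lit 1])) (.leaf ((nat_lit 746), [nat_lit 2]))) (.node (nat_lit 792) (.leaf ((nat_lit 747), [nat_lit 4])) (.leaf ((nat_lit 747), [nat_lit 5])))))))
 (.node (nat_lit 807) (.node (nat_lit 800) (.node (nat_lit 796) (.node (nat_lit 794) (.leaf ((nat_lit 747), [nat_lit 6])) (.node (nat_lit 795) (.leaf ((nat_lit 748), [nat_lit 4])) (.leaf ((nat_lit 748), [nat_lit 5]))))
 (.node (nat_lit 798) (.node (nat_lit 797) (.leaf ((nat_lit 748), [nat_lit 6])) (.leaf ((nat_lit 749), [nat_lit 1]))) (.node (nat_lit 799) (.leaf ((nat_lit 749), [nat_lit 2])) (.leaf ((nat_lit 749), [nat_lit 3])))))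
 (.node (nat_lit 803) (.node (nat_lit 801) (.leaf ((nat_lit 749), [nat_lit 6])) (.node (nat_lit 802) (.leaf ((nat_lit 750), [nat_lit 4])) (.leaf ((nat_lit 751), [nat_lit 1]))))
 (.node (nat_lit 805) (.node (nat_lit 804) (.leaf ((nat_lit 751), [nat_lit 2])) (.leaf ((nat_lit 751), [nat_lit 3]))) (.node (nat_lit 806) (.leaf ((nat_lit 752), [nat_lit 6])) (.leaf ((nat_lit 753), [nat_lit 1]))))))
 (.node (nat_lit 814) (.node (nat_lit 810) (.node (nat_lit 808) (.leaf ((nat_lit 753), [nat_lit 3])) (.node (nat_lit 809) (.leaf ((nat_lit 753), [nat_lit 6])) (.leaf ((nat_lit 754), [nat_lit 4]))))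
 (.node (nat_lit 812) (.node (nat_lit 811) (.leaf ((nat_lit 754), [nat_lit 6])) (.leaf ((nat_lit 755), [nat_lit 0]))) (.node (nat_lit 813) (.leaf ((nat_lit 755), [nat_lit 1])) (.leaf ((nat_lit 755), [nat_lit 2])))))
 (.node (nat_lit 817) (.node (nat_lit 815) (.leaf ((nat_lit 756), [nat_lit 2])) (.node (nat_lit 816) (.leaf ((nat_lit 756), [nat_lit 3])) (.leaf ((nat_lit 756), [nat_lit 6]))))
 (.node (nat_lit 819) (.node (nat_lit 818) (.leaf ((nat_lit 757), [nat_lit 4])) (.leaf ((nat_lit 758), [nat_lit 1]))) (.node (nat_lit 820) (.leaf ((nat_lit 758), [nat_lit 3])) (.leaf ((nat_lit 759), [nat_lit 3]))))))))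
 (.node (nat_lit 849) (.node (nat_lit 835) (.node (nat_lit 828) (.node (nat_lit 824) (.node (nat_lit 822) (.leaf ((nat_lit 759), [nat_lit 6])) (.node (nat_lit 823) (.leaf ((nat_lit 760), [nat_lit 4])) (.leaf ((nat_lit 760), [nat_lit 6]))))
 (.node (nat_lit 826) (.node (nat_lit 825) (.leaf ((nat_lit 761), [nat_lit 6])) (.leaf ((nat_lit 762), [nat_lit 4]))) (.node (nat_lit 827) (.leaf ((nat_lit 762), [nat_lit 6])) (.leaf ((nat_lit 763), [nat_lit 6])))))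
 (.node (nat_lit 831) (.node (nat_lit 829) (.leaf ((nat_lit 764), [nat_lit 1])) (.node (nat_lit 830) (.leaf ((nat_lit 764), [nat_lit 3])) (.leaf ((nat_lit 764), [nat_lit 5]))))
 (.node (nat_lit 833) (.node (nat_lit 832) (.leaf ((nat_lit 765), [nat_lit 5])) (.leaf ((nat_lit 765), [nat_lit 6]))) (.node (nat_lit 834) (.leaf ((nat_lit 766), [nat_lit 5])) (.leaf ((nat_lit 769), [nat_lit 4]))))))
 (.node (nat_lit 842) (.node (nat_lit 838) (.node (nat_lit 836) (.leaf ((nat_lit 770), [nat_lit 4])) (.node (nat_lit 837) (.leaf ((nat_lit 770), [nat_lit 6])) (.leaf ((nat_lit 771), [nat_lit 3]))))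
 (.node (nat_lit 840) (.node (nat_lit 839) (.leaf ((nat_lit 771), [nat_lit 4])) (.leaf ((nat_lit 771), [nat_lit 6]))) (.node (nat_lit 841) (.leaf ((nat_lit 773), [nat_lit 6])) (.leaf ((nat_lit 774), [nat_lit 2])))))
 (.node (nat_lit 845) (.node (nat_lit 843) (.leaf ((nat_lit 775), [nat_lit 1])) (.node (nat_lit 844) (.leaf ((nat_lit 777), [nat_lit 6])) (.leaf ((nat_lit 779), [nat_lit 1]))))
 (.node (nat_lit 847) (.node (nat_lit 846) (.leaf ((nat_lit 780), [nat_lit 6])) (.leaf ((nat_lit 781), [nat_lit 6]))) (.node (nat_lit 848) (.leaf ((nat_lit 782), [nat_lit 6])) (.leaf ((nat_lit 783), [nat_lit 1])))))))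
 (.node (nat_lit 972) (.node (nat_lit 856) (.node (nat_lit 852) (.node (nat_lit 850) (.leaf ((nat_lit 783), [nat_lit 5])) (.node (nat_lit 851) (.leaf ((nat_lit 784), [nat_lit 5])) (.leaf ((nat_lit 785), [nat_lit 5]))))
 (.node (nat_lit 854) (.node (nat_lit 853) (.leaf ((nat_lit 788), [nat_lit 4])) (.leaf ((nat_lit 789), [nat_lit 4]))) (.node (nat_lit 855) (.leaf ((nat_lit 790), [nat_lit 4])) (.leaf ((nat_lit 791), [nat_lit 6])))))
 (.node (nat_lit 859) (.node (nat_lit 857) (.leaf ((nat_lit 794), [nat_lit 6])) (.node (nat_lit 858) (.leaf ((nat_lit 800), [nat_lit 1])) (.leaf ((nat_lit 800), [nat_lit 3]))))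
 (.node (nat_lit 970) (.node (nat_lit 860) (.leaf ((nat_lit 808), [nat_lit 5])) (.leaf ((nat_lit 813), [nat_lit 4]))) (.node (nat_lit 971) (.leaf ((nat_lit 1000000), [nat_lit 10, nat_lit 8, nat_lit 11, nat_lit 9, nat_lit 7])) (.leaf ((nat_lit 970), [nat_lit 0]))))))
 (.node (nat_lit 979) (.node (nat_lit 975) (.node (nat_lit 973) (.leaf ((nat_lit 970), [nat_lit 1])) (.node (nat_lit 974) (.leaf ((nat_lit 970), [nat_lit 2])) (.leaf ((nat_lit 970), [nat_lit 3]))))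
 (.node (nat_lit 977) (.node (nat_lit 976) (.leaf ((nat_lit 970), [nat_lit 4])) (.leaf ((nat_lit 970), [nat_lit 5]))) (.node (nat_lit 978) (.leaf ((nat_lit 970), [nat_lit 6])) (.leaf ((nat_lit 971), [nat_lit 1])))))
 (.node (nat_lit 982) (.node (nat_lit 980) (.leaf ((nat_lit 971), [nat_lit 2])) (.node (nat_lit 981) (.leaf ((nat_lit 971), [nat_lit 3])) (.leaf ((nat_lit 971), [nat_lit 4]))))
 (.node (nat_lit 984) (.node (nat_lit 983) (.leaf ((nat_lit 971), [nat_lit 5])) (.leaf ((nat_lit 971), [nat_lit 6]))) (.node (nat_lit 985) (.leaf ((nat_lit 972), [nat_lit 2])) (.leaf ((nat_lit 972), [nat_lit 3])))))))))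
 (.node (nat_lit 1042) (.node (nat_lit 1014) (.node (nat_lit 1000) (.node (nat_lit 993) (.node (nat_lit 989) (.node (nat_lit 987) (.leaf ((nat_lit 972), [nat_lit 4])) (.node (nat_lit 988) (.leaf ((nat_lit 972), [nat_lit 5])) (.leaf ((nat_lit 972), [nat_lit 6]))))
 (.node (nat_lit 991) (.node (nat_lit 990) (.leaf ((nat_lit 973), [nat_lit 3])) (.leaf ((nat_lit 973), [nat_lit 4]))) (.node (nat_lit 992) (.leaf ((nat_lit 973), [nat_lit 5])) (.leaf ((nat_lit 973), [nat_lit 6])))))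
 (.node (nat_lit 996) (.node (nat_lit 994) (.leaf ((nat_lit 974), [nat_lit 4])) (.node (nat_lit 995) (.leaf ((nat_lit 974), [nat_lit 5])) (.leaf ((nat_lit 974), [nat_lit 6]))))
 (.node (nat_lit 998) (.node (nat_lit 997) (.leaf ((nat_lit 975), [nat_lit 0])) (.leaf ((nat_lit 975), [nat_lit 1]))) (.node (nat_lit 999) (.leaf ((nat_lit 975), [nat_lit 3])) (.leaf ((nat_lit 975), [nat_lit 5]))))))
 (.node (nat_lit 1007) (.node (nat_lit 1003) (.node (nat_lit 1001) (.leaf ((nat_lit 976), [nat_lit 0])) (.node (nat_lit 1002) (.leaf ((nat_lit 976), [nat_lit 1])) (.leaf ((nat_lit 976), [nat_lit 2]))))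
 (.node (nat_lit 1005) (.node (nat_lit 1004) (.leaf ((nat_lit 976), [nat_lit 3])) (.leaf ((nat_lit 977), [nat_lit 1]))) (.node (nat_lit 1006) (.leaf ((nat_lit 977), [nat_lit 2])) (.leaf ((nat_lit 977), [nat_lit 3])))))
 (.node (nat_lit 1010) (.node (nat_lit 1008) (.leaf ((nat_lit 977), [nat_lit 5])) (.node (nat_lit 1009) (.leaf ((nat_lit 978), [nat_lit 2])) (.leaf ((nat_lit 978), [nat_lit 3]))))
 (.node (nat_lit 1012) (.node (nat_lit 1011) (.leaf ((nat_lit 978), [nat_lit 5])) (.leaf ((nat_lit 978), [nat_lit 6]))) (.node (nat_lit 1013) (.leaf ((nat_lit 979), [nat_lit 3])) (.leaf ((nat_lit 979), [nat_lit 4])))))))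
 (.node (nat_lit 1028) (.node (nat_lit 1021) (.node (nat_lit 1017) (.node (nat_lit 1015) (.leaf ((nat_lit 979), [nat_lit 5])) (.node (nat_lit 1016) (.leaf ((nat_lit 980), [nat_lit 5])) (.leaf ((nat_lit 980), [nat_lit 6]))))
 (.node (nat_lit 1019) (.node (nat_lit 1018) (.leaf ((nat_lit 981), [nat_lit 0])) (.leaf ((nat_lit 981), [nat_lit 1]))) (.node (nat_lit 1020) (.leaf ((nat_lit 981), [nat_lit 6])) (.leaf ((nat_lit 982), [nat_lit 0])))))
 (.node (nat_lit 1024) (.node (nat_lit 1022) (.leaf ((nat_lit 982), [nat_lit 1])) (.node (nat_lit 1023) (.leaf ((nat_lit 982), [nat_lit 2])) (.leaf ((nat_lit 982), [nat_lit 3]))))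
 (.node (nat_lit 1026) (.node (nat_lit 1025) (.leaf ((nat_lit 982), [nat_lit 6])) (.leaf ((nat_lit 983), [nat_lit 1]))) (.node (nat_lit 1027) (.leaf ((nat_lit 983), [nat_lit 3])) (.leaf ((nat_lit 983), [nat_lit 5]))))))
 (.node (nat_lit 1035) (.node (nat_lit 1031) (.node (nat_lit 1029) (.leaf ((nat_lit 984), [nat_lit 3])) (.node (nat_lit 1030) (.leaf ((nat_lit 984), [nat_lit 4])) (.leaf ((nat_lit 984), [nat_lit 5]))))
 (.node (nat_lit 1033) (.node (nat_lit 1032) (.leaf ((nat_lit 984), [nat_lit 6])) (.leaf ((nat_lit 985), [nat_lit 4]))) (.node (nat_lit 1034) (.leaf ((nat_lit 985), [nat_lit 5])) (.leaf ((nat_lit 986), [nat_lit 1])))))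
 (.node (nat_lit 1038) (.node (nat_lit 1036) (.leaf ((nat_lit 986), [nat_lit 3])) (.node (nat_lit 1037) (.leaf ((nat_lit 986), [nat_lit 5])) (.leaf ((nat_lit 987), [nat_lit 1]))))
 (.node (nat_lit 1040) (.node (nat_lit 1039) (.leaf ((nat_lit 987), [nat_lit 2])) (.leaf ((nat_lit 987), [nat_lit 3]))) (.node (nat_lit 1041) (.leaf ((nat_lit 988), [nat_lit 2])) (.leaf ((nat_lit 988), [nat_lit 3]))))))))
 (.node (nat_lit 1070) (.node (nat_lit 1056) (.node (nat_lit 1049) (.node (nat_lit 1045) (.node (nat_lit 1043) (.leaf ((nat_lit 989), [nat_lit 4])) (.node (nat_lit 1044) (.leaf ((nat_lit 989), [nat_lit 5])) (.leaf ((nat_lit 989), [nat_lit 6]))))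
 (.node (nat_lit 1047) (.node (nat_lit 1046) (.leaf ((nat_lit 990), [nat_lit 3])) (.leaf ((nat_lit 990), [nat_lit 6]))) (.node (nat_lit 1048) (.leaf ((nat_lit 991), [nat_lit 1])) (.leaf ((nat_lit 991), [nat_lit 3])))))
 (.node (nat_lit 1052) (.node (nat_lit 1050) (.leaf ((nat_lit 991), [nat_lit 4])) (.node (nat_lit 1051) (.leaf ((nat_lit 992), [nat_lit 1])) (.leaf ((nat_lit 992), [nat_lit 3]))))
 (.node (nat_lit 1054) (.node (nat_lit 1053) (.leaf ((nat_lit 993), [nat_lit 0])) (.leaf ((nat_lit 993), [nat_lit 1]))) (.node (nat_lit 1055) (.leaf ((nat_lit 993), [nat_lit 5])) (.leaf ((nat_lit 995), [nat_lit 2]))))))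
 (.node (nat_lit 1063) (.node (nat_lit 1059) (.node (nat_lit 1057) (.leaf ((nat_lit 995), [nat_lit 3])) (.node (nat_lit 1058) (.leaf ((nat_lit 996), [nat_lit 3])) (.leaf ((nat_lit 996), [nat_lit 4]))))
 (.node (nat_lit 1061) (.node (nat_lit 1060) (.leaf ((nat_lit 996), [nat_lit 5])) (.leaf ((nat_lit 997), [nat_lit 3]))) (.node (nat_lit 1062) (.leaf ((nat_lit 997), [nat_lit 4])) (.leaf ((nat_lit 999), [nat_lit 6])))))
 (.node (nat_lit 1066) (.node (nat_lit 1064) (.leaf ((nat_lit 1000), [nat_lit 1])) (.node (nat_lit 1065) (.leaf ((nat_lit 1001), [nat_lit 2])) (.leaf ((nat_lit 1001), [nat_lit 3]))))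
 (.node (nat_lit 1068) (.node (nat_lit 1067) (.leaf ((nat_lit 1001), [nat_lit 5])) (.leaf ((nat_lit 1002), [nat_lit 4]))) (.node (nat_lit 1069) (.leaf ((nat_lit 1002), [nat_lit 5])) (.leaf ((nat_lit 1003), [nat_lit 5])))))))
 (.node (nat_lit 1084) (.node (nat_lit 1077) (.node (nat_lit 1073) (.node (nat_lit 1071) (.leaf ((nat_lit 1004), [nat_lit 2])) (.node (nat_lit 1072) (.leaf ((nat_lit 1005), [nat_lit 3])) (.leaf ((nat_lit 1006), [nat_lit 5]))))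
 (.node (nat_lit 1075) (.node (nat_lit 1074) (.leaf ((nat_lit 1006), [nat_lit 6])) (.leaf ((nat_lit 1007), [nat_lit 1]))) (.node (nat_lit 1076) (.leaf ((nat_lit 1007), [nat_lit 2])) (.leaf ((nat_lit 1008), [nat_lit 3])))))
 (.node (nat_lit 1080) (.node (nat_lit 1078) (.leaf ((nat_lit 1010), [nat_lit 0])) (.node (nat_lit 1079) (.leaf ((nat_lit 1012), [nat_lit 5])) (.leaf ((nat_lit 1016), [nat_lit 5]))))
 (.node (nat_lit 1082) (.node (nat_lit 1081) (.leaf ((nat_lit 1017), [nat_lit 4])) (.leaf ((nat_lit 1018), [nat_lit 4]))) (.node (nat_lit 1083) (.leaf ((nat_lit 1018), [nat_lit 5])) (.leaf ((nat_lit 1020), [nat_lit 1]))))))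
 (.node (nat_lit 1091) (.node (nat_lit 1087) (.node (nat_lit 1085) (.leaf ((nat_lit 1021), [nat_lit 5])) (.node (nat_lit 1086) (.leaf ((nat_lit 1021), [nat_lit 6])) (.leaf ((nat_lit 1022), [nat_lit 5]))))
 (.node (nat_lit 1089) (.node (nat_lit 1088) (.leaf ((nat_lit 1027), [nat_lit 4])) (.leaf ((nat_lit 1028), [nat_lit 4]))) (.node (nat_lit 1090) (.leaf ((nat_lit 1029), [nat_lit 3])) (.leaf ((nat_lit 1030), [nat_lit 4])))))
 (.node (nat_lit 1094) (.node (nat_lit 1092) (.leaf ((nat_lit 1031), [nat_lit 3])) (.node (nat_lit 1093) (.leaf ((nat_lit 1034), [nat_lit 3])) (.leaf ((nat_lit 1037), [nat_lit 5]))))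
 (.node (nat_lit 1096) (.node (nat_lit 1095) (.leaf ((nat_lit 1039), [nat_lit 5])) (.leaf ((nat_lit 1040), [nat_lit 3]))) (.node (nat_lit 1097) (.leaf ((nat_lit 1041), [nat_lit 6])) (.leaf ((nat_lit 1048), [nat_lit 5]))))))))))))
 (.node (nat_lit 1665) (.node (nat_lit 1406) (.node (nat_lit 1218) (.node (nat_lit 1162) (.node (nat_lit 1134) (.node (nat_lit 1120) (.node (nat_lit 1113) (.node (nat_lit 1109) (.node (nat_lit 1107) (.leaf ((nat_lit 1000000), [nat_lit 11, nat_lit 9, nat_lit 11, nat_lit 7, nat_lit 7, nat_lit 9, nat_lit 8, nat_lit 3, nat_lit 8])) (.node (nat_lit 1108) (.leaf ((nat_lit 1106), [nat_lit 0])) (.leaf ((nat_lit 1106), [nat_lit 1]))))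
 (.node (nat_lit 1111) (.node (nat_lit 1110) (.leaf ((nat_lit 1106), [nat_lit 2])) (.leaf ((nat_lit 1106), [nat_lit 3]))) (.node (nat_lit 1112) (.leaf ((nat_lit 1106), [nat_lit 4])) (.leaf ((nat_lit 1106), [nat_lit 5])))))
 (.node (nat_lit 1116) (.node (nat_lit 1114) (.leaf ((nat_lit 1106), [nat_lit 6])) (.node (nat_lit 1115) (.leaf ((nat_lit 1107), [nat_lit 1])) (.leaf ((nat_lit 1107), [nat_lit 2]))))
 (.node (nat_lit 1118) (.node (nat_lit 1117) (.leaf ((nat_lit 1107), [nat_lit 3])) (.leaf ((nat_lit 1107), [nat_lit 4]))) (.node (nat_lit 1119) (.leaf ((nat_lit 1107), [nat_lit 5])) (.leaf ((nat_lit 1107), [nat_lit 6]))))))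
 (.node (nat_lit 1127) (.node (nat_lit 1123) (.node (nat_lit 1121) (.leaf ((nat_lit 1108), [nat_lit 2])) (.node (nat_lit 1122) (.leaf ((nat_lit 1108), [nat_lit 3])) (.leaf ((nat_lit 1108), [nat_lit 5]))))
 (.node (nat_lit 1125) (.node (nat_lit 1124) (.leaf ((nat_lit 1108), [nat_lit 6])) (.leaf ((nat_lit 1109), [nat_lit 3]))) (.node (nat_lit 1126) (.leaf ((nat_lit 1109), [nat_lit 5])) (.leaf ((nat_lit 1109), [nat_lit 6])))))
 (.node (nat_lit 1130) (.node (nat_lit 1128) (.leaf ((nat_lit 1110), [nat_lit 4])) (.node (nat_lit 1129) (.leaf ((nat_lit 1110), [nat_lit 5])) (.leaf ((nat_lit 1110), [nat_lit 6]))))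
 (.node (nat_lit 1132) (.node (nat_lit 1131) (.leaf ((nat_lit 1111), [nat_lit 1])) (.leaf ((nat_lit 1111), [nat_lit 2]))) (.node (nat_lit 1133) (.leaf ((nat_lit 1111), [nat_lit 5])) (.leaf ((nat_lit 1111), [nat_lit 6])))))))
 (.node (nat_lit 1148) (.node (nat_lit 1141) (.node (nat_lit 1137) (.node (nat_lit 1135) (.leaf ((nat_lit 1112), [nat_lit 0])) (.node (nat_lit 1136) (.leaf ((nat_lit 1112), [nat_lit 1])) (.leaf ((nat_lit 1112), [nat_lit 2]))))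
 (.node (nat_lit 1139) (.node (nat_lit 1138) (.leaf ((nat_lit 1112), [nat_lit 3])) (.leaf ((nat_lit 1112), [nat_lit 6]))) (.node (nat_lit 1140) (.leaf ((nat_lit 1113), [nat_lit 0])) (.leaf ((nat_lit 1113), [nat_lit 1])))))
 (.node (nat_lit 1144) (.node (nat_lit 1142) (.leaf ((nat_lit 1113), [nat_lit 3])) (.node (nat_lit 1143) (.leaf ((nat_lit 1113), [nat_lit 5])) (.leaf ((nat_lit 1114), [nat_lit 2]))))
 (.node (nat_lit 1146) (.node (nat_lit 1145) (.leaf ((nat_lit 1114), [nat_lit 3])) (.leaf ((nat_lit 1114), [nat_lit 5]))) (.node (nat_lit 1147) (.leaf ((nat_lit 1114), [nat_lit 6])) (.leaf ((nat_lit 1115), [nat_lit 3]))))))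
 (.node (nat_lit 1155) (.node (nat_lit 1151) (.node (nat_lit 1149) (.leaf ((nat_lit 1115), [nat_lit 5])) (.node (nat_lit 1150) (.leaf ((nat_lit 1115), [nat_lit 6])) (.leaf ((nat_lit 1116), [nat_lit 4]))))
 (.node (nat_lit 1153) (.node (nat_lit 1152) (.leaf ((nat_lit 1116), [nat_lit 5])) (.leaf ((nat_lit 1116), [nat_lit 6]))) (.node (nat_lit 1154) (.leaf ((nat_lit 1117), [nat_lit 1])) (.leaf ((nat_lit 1117), [nat_lit 2])))))
 (.node (nat_lit 1158) (.node (nat_lit 1156) (.leaf ((nat_lit 1117), [nat_lit 5])) (.node (nat_lit 1157) (.leaf ((nat_lit 1117), [nat_lit 6])) (.leaf ((nat_lit 1118), [nat_lit 0]))))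
 (.node (nat_lit 1160) (.node (nat_lit 1159) (.leaf ((nat_lit 1118), [nat_lit 1])) (.leaf ((nat_lit 1118), [nat_lit 2]))) (.node (nat_lit 1161) (.leaf ((nat_lit 1118), [nat_lit 3])) (.leaf ((nat_lit 1118), [nat_lit 6]))))))))
 (.node (nat_lit 1190) (.node (nat_lit 1176) (.node (nat_lit 1169) (.node (nat_lit 1165) (.node (nat_lit 1163) (.leaf ((nat_lit 1119), [nat_lit 0])) (.node (nat_lit 1164) (.leaf ((nat_lit 1119), [nat_lit 1])) (.leaf ((nat_lit 1119), [nat_lit 3]))))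
 (.node (nat_lit 1167) (.node (nat_lit 1166) (.leaf ((nat_lit 1119), [nat_lit 5])) (.leaf ((nat_lit 1120), [nat_lit 3]))) (.node (nat_lit 1168) (.leaf ((nat_lit 1120), [nat_lit 4])) (.leaf ((nat_lit 1120), [nat_lit 5])))))
 (.node (nat_lit 1172) (.node (nat_lit 1170) (.leaf ((nat_lit 1120), [nat_lit 6])) (.node (nat_lit 1171) (.leaf ((nat_lit 1122), [nat_lit 2])) (.leaf ((nat_lit 1122), [nat_lit 3]))))
 (.node (nat_lit 1174) (.node (nat_lit 1173) (.leaf ((nat_lit 1122), [nat_lit 6])) (.leaf ((nat_lit 1123), [nat_lit 3]))) (.node (nat_lit 1175) (.leaf ((nat_lit 1123), [nat_lit 5])) (.leaf ((nat_lit 1124), [nat_lit 5]))))))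
 (.node (nat_lit 1183) (.node (nat_lit 1179) (.node (nat_lit 1177) (.leaf ((nat_lit 1125), [nat_lit 1])) (.node (nat_lit 1178) (.leaf ((nat_lit 1125), [nat_lit 3])) (.leaf ((nat_lit 1125), [nat_lit 6]))))
 (.node (nat_lit 1181) (.node (nat_lit 1180) (.leaf ((nat_lit 1126), [nat_lit 0])) (.leaf ((nat_lit 1126), [nat_lit 5]))) (.node (nat_lit 1182) (.leaf ((nat_lit 1127), [nat_lit 1])) (.leaf ((nat_lit 1127), [nat_lit 2])))))
 (.node (nat_lit 1186) (.node (nat_lit 1184) (.leaf ((nat_lit 1127), [nat_lit 5])) (.node (nat_lit 1185) (.leaf ((nat_lit 1127), [nat_lit 6])) (.leaf ((nat_lit 1128), [nat_lit 6]))))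
 (.node (nat_lit 1188) (.node (nat_lit 1187) (.leaf ((nat_lit 1129), [nat_lit 0])) (.leaf ((nat_lit 1129), [nat_lit 5]))) (.node (nat_lit 1189) (.leaf ((nat_lit 1131), [nat_lit 5])) (.leaf ((nat_lit 1131), [nat_lit 6])))))))
 (.node (nat_lit 1204) (.node (nat_lit 1197) (.node (nat_lit 1193) (.node (nat_lit 1191) (.leaf ((nat_lit 1132), [nat_lit 2])) (.node (nat_lit 1192) (.leaf ((nat_lit 1132), [nat_lit 6])) (.leaf ((nat_lit 1133), [nat_lit 1]))))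
 (.node (nat_lit 1195) (.node (nat_lit 1194) (.leaf ((nat_lit 1133), [nat_lit 3])) (.leaf ((nat_lit 1133), [nat_lit 5]))) (.node (nat_lit 1196) (.leaf ((nat_lit 1135), [nat_lit 2])) (.leaf ((nat_lit 1135), [nat_lit 6])))))
 (.node (nat_lit 1200) (.node (nat_lit 1198) (.leaf ((nat_lit 1136), [nat_lit 5])) (.node (nat_lit 1199) (.leaf ((nat_lit 1137), [nat_lit 5])) (.leaf ((nat_lit 1137), [nat_lit 6]))))
 (.node (nat_lit 1202) (.node (nat_lit 1201) (.leaf ((nat_lit 1138), [nat_lit 1])) (.leaf ((nat_lit 1138), [nat_lit 3]))) (.node (nat_lit 1203) (.leaf ((nat_lit 1139), [nat_lit 1])) (.leaf ((nat_lit 1139), [nat_lit 3]))))))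
 (.node (nat_lit 1211) (.node (nat_lit 1207) (.node (nat_lit 1205) (.leaf ((nat_lit 1140), [nat_lit 5])) (.node (nat_lit 1206) (.leaf ((nat_lit 1142), [nat_lit 1])) (.leaf ((nat_lit 1143), [nat_lit 3]))))
 (.node (nat_lit 1209) (.node (nat_lit 1208) (.leaf ((nat_lit 1143), [nat_lit 6])) (.leaf ((nat_lit 1146), [nat_lit 3]))) (.node (nat_lit 1210) (.leaf ((nat_lit 1147), [nat_lit 5])) (.leaf ((nat_lit 1148), [nat_lit 1])))))
 (.node (nat_lit 1214) (.node (nat_lit 1212) (.leaf ((nat_lit 1148), [nat_lit 3])) (.node (nat_lit 1213) (.leaf ((nat_lit 1148), [nat_lit 6])) (.leaf ((nat_lit 1149), [nat_lit 0]))))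
 (.node (nat_lit 1216) (.node (nat_lit 1215) (.leaf ((nat_lit 1149), [nat_lit 5])) (.leaf ((nat_lit 1150), [nat_lit 1]))) (.node (nat_lit 1217) (.leaf ((nat_lit 1150), [nat_lit 2])) (.leaf ((nat_lit 1150), [nat_lit 5])))))))))
 (.node (nat_lit 1350) (.node (nat_lit 1322) (.node (nat_lit 1232) (.node (nat_lit 1225) (.node (nat_lit 1221) (.node (nat_lit 1219) (.leaf ((nat_lit 1151), [nat_lit 6])) (.node (nat_lit 1220) (.leaf ((nat_lit 1152), [nat_lit 5])) (.leaf ((nat_lit 1154), [nat_lit 6]))))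
 (.node (nat_lit 1223) (.node (nat_lit 1222) (.leaf ((nat_lit 1156), [nat_lit 3])) (.leaf ((nat_lit 1158), [nat_lit 6]))) (.node (nat_lit 1224) (.leaf ((nat_lit 1160), [nat_lit 5])) (.leaf ((nat_lit 1160), [nat_lit 6])))))
 (.node (nat_lit 1228) (.node (nat_lit 1226) (.leaf ((nat_lit 1161), [nat_lit 1])) (.node (nat_lit 1227) (.leaf ((nat_lit 1161), [nat_lit 3])) (.leaf ((nat_lit 1162), [nat_lit 3]))))
 (.node (nat_lit 1230) (.node (nat_lit 1229) (.leaf ((nat_lit 1163), [nat_lit 5])) (.leaf ((nat_lit 1165), [nat_lit 1]))) (.node (nat_lit 1231) (.leaf ((nat_lit 1171), [nat_lit 6])) (.leaf ((nat_lit 1172), [nat_lit 3]))))))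
 (.node (nat_lit 1315) (.node (nat_lit 1311) (.node (nat_lit 1233) (.leaf ((nat_lit 1176), [nat_lit 6])) (.node (nat_lit 1310) (.leaf ((nat_lit 1187), [nat_lit 1])) (.leaf ((nat_lit 1000000), [nat_lit 10, nat_lit 7, nat_lit 7, nat_lit 9, nat_lit 8, nat_lit 8]))))
 (.node (nat_lit 1313) (.node (nat_lit 1312) (.leaf ((nat_lit 1310), [nat_lit 0])) (.leaf ((nat_lit 1310), [nat_lit 1]))) (.node (nat_lit 1314) (.leaf ((nat_lit 1310), [nat_lit 2])) (.leaf ((nat_lit 1310), [nat_lit 3])))))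
 (.node (nat_lit 1318) (.node (nat_lit 1316) (.leaf ((nat_lit 1310), [nat_lit 4])) (.node (nat_lit 1317) (.leaf ((nat_lit 1310), [nat_lit 5])) (.leaf ((nat_lit 1310), [nat_lit 6]))))
 (.node (nat_lit 1320) (.node (nat_lit 1319) (.leaf ((nat_lit 1311), [nat_lit 1])) (.leaf ((nat_lit 1311), [nat_lit 2]))) (.node (nat_lit 1321) (.leaf ((nat_lit 1311), [nat_lit 3])) (.leaf ((nat_lit 1311), [nat_lit 4])))))))
 (.node (nat_lit 1336) (.node (nat_lit 1329) (.node (nat_lit 1325) (.node (nat_lit 1323) (.leaf ((nat_lit 1311), [nat_lit 5])) (.node (nat_lit 1324) (.leaf ((nat_lit 1311), [nat_lit 6])) (.leaf ((nat_lit 1312), [nat_lit 2]))))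
 (.node (nat_lit 1327) (.node (nat_lit 1326) (.leaf ((nat_lit 1312), [nat_lit 3])) (.leaf ((nat_lit 1312), [nat_lit 4]))) (.node (nat_lit 1328) (.leaf ((nat_lit 1312), [nat_lit 5])) (.leaf ((nat_lit 1312), [nat_lit 6])))))
 (.node (nat_lit 1332) (.node (nat_lit 1330) (.leaf ((nat_lit 1313), [nat_lit 3])) (.node (nat_lit 1331) (.leaf ((nat_lit 1313), [nat_lit 4])) (.leaf ((nat_lit 1313), [nat_lit 5]))))
 (.node (nat_lit 1334) (.node (nat_lit 1333) (.leaf ((nat_lit 1313), [nat_lit 6])) (.leaf ((nat_lit 1314), [nat_lit 4]))) (.node (nat_lit 1335) (.leaf ((nat_lit 1314), [nat_lit 5])) (.leaf ((nat_lit 1314), [nat_lit 6]))))))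
 (.node (nat_lit 1343) (.node (nat_lit 1339) (.node (nat_lit 1337) (.leaf ((nat_lit 1315), [nat_lit 0])) (.node (nat_lit 1338) (.leaf ((nat_lit 1315), [nat_lit 1])) (.leaf ((nat_lit 1315), [nat_lit 3]))))
 (.node (nat_lit 1341) (.node (nat_lit 1340) (.leaf ((nat_lit 1315), [nat_lit 5])) (.leaf ((nat_lit 1315), [nat_lit 6]))) (.node (nat_lit 1342) (.leaf ((nat_lit 1316), [nat_lit 0])) (.leaf ((nat_lit 1316), [nat_lit 1])))))
 (.node (nat_lit 1346) (.node (nat_lit 1344) (.leaf ((nat_lit 1316), [nat_lit 2])) (.node (nat_lit 1345) (.leaf ((nat_lit 1316), [nat_lit 3])) (.leaf ((nat_lit 1316), [nat_lit 4]))))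
 (.node (nat_lit 1348) (.node (nat_lit 1347) (.leaf ((nat_lit 1316), [nat_lit 6])) (.leaf ((nat_lit 1317), [nat_lit 0]))) (.node (nat_lit 1349) (.leaf ((nat_lit 1317), [nat_lit 3])) (.leaf ((nat_lit 1317), [nat_lit 5]))))))))
 (.node (nat_lit 1378) (.node (nat_lit 1364) (.node (nat_lit 1357) (.node (nat_lit 1353) (.node (nat_lit 1351) (.leaf ((nat_lit 1318), [nat_lit 3])) (.node (nat_lit 1352) (.leaf ((nat_lit 1319), [nat_lit 3])) (.leaf ((nat_lit 1319), [nat_lit 4]))))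
 (.node (nat_lit 1355) (.node (nat_lit 1354) (.leaf ((nat_lit 1320), [nat_lit 4])) (.leaf ((nat_lit 1320), [nat_lit 5]))) (.node (nat_lit 1356) (.leaf ((nat_lit 1320), [nat_lit 6])) (.leaf ((nat_lit 1321), [nat_lit 0])))))
 (.node (nat_lit 1360) (.node (nat_lit 1358) (.leaf ((nat_lit 1321), [nat_lit 3])) (.node (nat_lit 1359) (.leaf ((nat_lit 1321), [nat_lit 5])) (.leaf ((nat_lit 1321), [nat_lit 6]))))
 (.node (nat_lit 1362) (.node (nat_lit 1361) (.leaf ((nat_lit 1322), [nat_lit 1])) (.leaf ((nat_lit 1322), [nat_lit 3]))) (.node (nat_lit 1363) (.leaf ((nat_lit 1322), [nat_lit 4])) (.leaf ((nat_lit 1323), [nat_lit 0]))))))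
 (.node (nat_lit 1371) (.node (nat_lit 1367) (.node (nat_lit 1365) (.leaf ((nat_lit 1323), [nat_lit 3])) (.node (nat_lit 1366) (.leaf ((nat_lit 1323), [nat_lit 5])) (.leaf ((nat_lit 1324), [nat_lit 3]))))
 (.node (nat_lit 1369) (.node (nat_lit 1368) (.leaf ((nat_lit 1324), [nat_lit 4])) (.leaf ((nat_lit 1324), [nat_lit 5]))) (.node (nat_lit 1370) (.leaf ((nat_lit 1325), [nat_lit 4])) (.leaf ((nat_lit 1325), [nat_lit 5])))))
 (.node (nat_lit 1374) (.node (nat_lit 1372) (.leaf ((nat_lit 1326), [nat_lit 0])) (.node (nat_lit 1373) (.leaf ((nat_lit 1326), [nat_lit 3])) (.leaf ((nat_lit 1327), [nat_lit 0]))))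
 (.node (nat_lit 1376) (.node (nat_lit 1375) (.leaf ((nat_lit 1327), [nat_lit 1])) (.leaf ((nat_lit 1327), [nat_lit 4]))) (.node (nat_lit 1377) (.leaf ((nat_lit 1328), [nat_lit 0])) (.leaf ((nat_lit 1328), [nat_lit 3])))))))
 (.node (nat_lit 1392) (.node (nat_lit 1385) (.node (nat_lit 1381) (.node (nat_lit 1379) (.leaf ((nat_lit 1328), [nat_lit 5])) (.node (nat_lit 1380) (.leaf ((nat_lit 1329), [nat_lit 4])) (.leaf ((nat_lit 1330), [nat_lit 0]))))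
 (.node (nat_lit 1383) (.node (nat_lit 1382) (.leaf ((nat_lit 1330), [nat_lit 1])) (.leaf ((nat_lit 1330), [nat_lit 3]))) (.node (nat_lit 1384) (.leaf ((nat_lit 1330), [nat_lit 5])) (.leaf ((nat_lit 1330), [nat_lit 6])))))
 (.node (nat_lit 1388) (.node (nat_lit 1386) (.leaf ((nat_lit 1331), [nat_lit 4])) (.node (nat_lit 1387) (.leaf ((nat_lit 1331), [nat_lit 6])) (.leaf ((nat_lit 1332), [nat_lit 1]))))
 (.node (nat_lit 1390) (.node (nat_lit 1389) (.leaf ((nat_lit 1333), [nat_lit 0])) (.leaf ((nat_lit 1333), [nat_lit 1]))) (.node (nat_lit 1391) (.leaf ((nat_lit 1333), [nat_lit 3])) (.leaf ((nat_lit 1333), [nat_lit 5]))))))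
 (.node (nat_lit 1399) (.node (nat_lit 1395) (.node (nat_lit 1393) (.leaf ((nat_lit 1333), [nat_lit 6])) (.node (nat_lit 1394) (.leaf ((nat_lit 1334), [nat_lit 4])) (.leaf ((nat_lit 1334), [nat_lit 6]))))
 (.node (nat_lit 1397) (.node (nat_lit 1396) (.leaf ((nat_lit 1335), [nat_lit 5])) (.leaf ((nat_lit 1336), [nat_lit 1]))) (.node (nat_lit 1398) (.leaf ((nat_lit 1336), [nat_lit 3])) (.leaf ((nat_lit 1336), [nat_lit 4])))))
 (.node (nat_lit 1402) (.node (nat_lit 1400) (.leaf ((nat_lit 1336), [nat_lit 5])) (.node (nat_lit 1401) (.leaf ((nat_lit 1336), [nat_lit 6])) (.leaf ((nat_lit 1337), [nat_lit 3]))))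
 (.node (nat_lit 1404) (.node (nat_lit 1403) (.leaf ((nat_lit 1338), [nat_lit 4])) (.leaf ((nat_lit 1338), [nat_lit 6]))) (.node (nat_lit 1405) (.leaf ((nat_lit 1339), [nat_lit 0])) (.leaf ((nat_lit 1339), [nat_lit 1]))))))))))
 (.node (nat_lit 1520) (.node (nat_lit 1464) (.node (nat_lit 1434) (.node (nat_lit 1420) (.node (nat_lit 1413) (.node (nat_lit 1409) (.node (nat_lit 1407) (.leaf ((nat_lit 1339), [nat_lit 3])) (.node (nat_lit 1408) (.leaf ((nat_lit 1340), [nat_lit 0])) (.leaf ((nat_lit 1340), [nat_lit 1]))))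
 (.node (nat_lit 1411) (.node (nat_lit 1410) (.leaf ((nat_lit 1340), [nat_lit 2])) (.leaf ((nat_lit 1341), [nat_lit 2]))) (.node (nat_lit 1412) (.leaf ((nat_lit 1341), [nat_lit 6])) (.leaf ((nat_lit 1342), [nat_lit 2])))))
 (.node (nat_lit 1416) (.node (nat_lit 1414) (.leaf ((nat_lit 1342), [nat_lit 4])) (.node (nat_lit 1415) (.leaf ((nat_lit 1342), [nat_lit 6])) (.leaf ((nat_lit 1343), [nat_lit 3]))))
 (.node (nat_lit 1418) (.node (nat_lit 1417) (.leaf ((nat_lit 1343), [nat_lit 5])) (.leaf ((nat_lit 1345), [nat_lit 1]))) (.node (nat_lit 1419) (.leaf ((nat_lit 1345), [nat_lit 3])) (.leaf ((nat_lit 1348), [nat_lit 4]))))))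
 (.node (nat_lit 1427) (.node (nat_lit 1423) (.node (nat_lit 1421) (.leaf ((nat_lit 1348), [nat_lit 5])) (.node (nat_lit 1422) (.leaf ((nat_lit 1349), [nat_lit 4])) (.leaf ((nat_lit 1353), [nat_lit 6]))))
 (.node (nat_lit 1425) (.node (nat_lit 1424) (.leaf ((nat_lit 1354), [nat_lit 4])) (.leaf ((nat_lit 1354), [nat_lit 6]))) (.node (nat_lit 1426) (.leaf ((nat_lit 1356), [nat_lit 4])) (.leaf ((nat_lit 1356), [nat_lit 6])))))
 (.node (nat_lit 1430) (.node (nat_lit 1428) (.leaf ((nat_lit 1357), [nat_lit 4])) (.node (nat_lit 1429) (.leaf ((nat_lit 1358), [nat_lit 3])) (.leaf ((nat_lit 1360), [nat_lit 6]))))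
 (.node (nat_lit 1432) (.node (nat_lit 1431) (.leaf ((nat_lit 1362), [nat_lit 3])) (.leaf ((nat_lit 1364), [nat_lit 4]))) (.node (nat_lit 1433) (.leaf ((nat_lit 1364), [nat_lit 5])) (.leaf ((nat_lit 1365), [nat_lit 4])))))))
 (.node (nat_lit 1450) (.node (nat_lit 1443) (.node (nat_lit 1437) (.node (nat_lit 1435) (.leaf ((nat_lit 1366), [nat_lit 4])) (.node (nat_lit 1436) (.leaf ((nat_lit 1367), [nat_lit 3])) (.leaf ((nat_lit 1369), [nat_lit 0]))))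
 (.node (nat_lit 1441) (.node (nat_lit 1440) (.leaf ((nat_lit 1371), [nat_lit 3])) (.leaf ((nat_lit 1000000), [nat_lit 10, nat_lit 7, nat_lit 7, nat_lit 9, nat_lit 8, nat_lit 8, nat_lit 6]))) (.node (nat_lit 1442) (.leaf ((nat_lit 1440), [nat_lit 0])) (.leaf ((nat_lit 1440), [nat_lit 1])))))
 (.node (nat_lit 1446) (.node (nat_lit 1444) (.leaf ((nat_lit 1440), [nat_lit 2])) (.node (nat_lit 1445) (.leaf ((nat_lit 1440), [nat_lit 3])) (.leaf ((nat_lit 1440), [nat_lit 4]))))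
 (.node (nat_lit 1448) (.node (nat_lit 1447) (.leaf ((nat_lit 1440), [nat_lit 5])) (.leaf ((nat_lit 1440), [nat_lit 6]))) (.node (nat_lit 1449) (.leaf ((nat_lit 1441), [nat_lit 1])) (.leaf ((nat_lit 1441), [nat_lit 2]))))))
 (.node (nat_lit 1457) (.node (nat_lit 1453) (.node (nat_lit 1451) (.leaf ((nat_lit 1441), [nat_lit 3])) (.node (nat_lit 1452) (.leaf ((nat_lit 1441), [nat_lit 4])) (.leaf ((nat_lit 1441), [nat_lit 5]))))
 (.node (nat_lit 1455) (.node (nat_lit 1454) (.leaf ((nat_lit 1441), [nat_lit 6])) (.leaf ((nat_lit 1442), [nat_lit 2]))) (.node (nat_lit 1456) (.leaf ((nat_lit 1442), [nat_lit 3])) (.leaf ((nat_lit 1442), [nat_lit 4])))))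
 (.node (nat_lit 1460) (.node (nat_lit 1458) (.leaf ((nat_lit 1442), [nat_lit 5])) (.node (nat_lit 1459) (.leaf ((nat_lit 1442), [nat_lit 6])) (.leaf ((nat_lit 1443), [nat_lit 3]))))
 (.node (nat_lit 1462) (.node (nat_lit 1461) (.leaf ((nat_lit 1443), [nat_lit 4])) (.leaf ((nat_lit 1444), [nat_lit 4]))) (.node (nat_lit 1463) (.leaf ((nat_lit 1444), [nat_lit 5])) (.leaf ((nat_lit 1444), [nat_lit 6]))))))))
 (.node (nat_lit 1492) (.node (nat_lit 1478) (.node (nat_lit 1471) (.node (nat_lit 1467) (.node (nat_lit 1465) (.leaf ((nat_lit 1445), [nat_lit 0])) (.node (nat_lit 1466) (.leaf ((nat_lit 1445), [nat_lit 1])) (.leaf ((nat_lit 1445), [nat_lit 3]))))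
 (.node (nat_lit 1469) (.node (nat_lit 1468) (.leaf ((nat_lit 1445), [nat_lit 5])) (.leaf ((nat_lit 1445), [nat_lit 6]))) (.node (nat_lit 1470) (.leaf ((nat_lit 1446), [nat_lit 0])) (.leaf ((nat_lit 1446), [nat_lit 1])))))
 (.node (nat_lit 1474) (.node (nat_lit 1472) (.leaf ((nat_lit 1446), [nat_lit 3])) (.node (nat_lit 1473) (.leaf ((nat_lit 1446), [nat_lit 4])) (.leaf ((nat_lit 1446), [nat_lit 6]))))
 (.node (nat_lit 1476) (.node (nat_lit 1475) (.leaf ((nat_lit 1447), [nat_lit 0])) (.leaf ((nat_lit 1447), [nat_lit 1]))) (.node (nat_lit 1477) (.leaf ((nat_lit 1447), [nat_lit 2])) (.leaf ((nat_lit 1447), [nat_lit 3]))))))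
 (.node (nat_lit 1485) (.node (nat_lit 1481) (.node (nat_lit 1479) (.leaf ((nat_lit 1448), [nat_lit 2])) (.node (nat_lit 1480) (.leaf ((nat_lit 1448), [nat_lit 3])) (.leaf ((nat_lit 1448), [nat_lit 5]))))
 (.node (nat_lit 1483) (.node (nat_lit 1482) (.leaf ((nat_lit 1449), [nat_lit 3])) (.leaf ((nat_lit 1449), [nat_lit 4]))) (.node (nat_lit 1484) (.leaf ((nat_lit 1450), [nat_lit 4])) (.leaf ((nat_lit 1450), [nat_lit 5])))))
 (.node (nat_lit 1488) (.node (nat_lit 1486) (.leaf ((nat_lit 1450), [nat_lit 6])) (.node (nat_lit 1487) (.leaf ((nat_lit 1451), [nat_lit 0])) (.leaf ((nat_lit 1451), [nat_lit 3]))))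
 (.node (nat_lit 1490) (.node (nat_lit 1489) (.leaf ((nat_lit 1451), [nat_lit 5])) (.leaf ((nat_lit 1451), [nat_lit 6]))) (.node (nat_lit 1491) (.leaf ((nat_lit 1452), [nat_lit 1])) (.leaf ((nat_lit 1452), [nat_lit 3])))))))
 (.node (nat_lit 1506) (.node (nat_lit 1499) (.node (nat_lit 1495) (.node (nat_lit 1493) (.leaf ((nat_lit 1452), [nat_lit 4])) (.node (nat_lit 1494) (.leaf ((nat_lit 1452), [nat_lit 6])) (.leaf ((nat_lit 1453), [nat_lit 1]))))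
 (.node (nat_lit 1497) (.node (nat_lit 1496) (.leaf ((nat_lit 1453), [nat_lit 3])) (.leaf ((nat_lit 1454), [nat_lit 3]))) (.node (nat_lit 1498) (.leaf ((nat_lit 1454), [nat_lit 4])) (.leaf ((nat_lit 1454), [nat_lit 5])))))
 (.node (nat_lit 1502) (.node (nat_lit 1500) (.leaf ((nat_lit 1454), [nat_lit 6])) (.node (nat_lit 1501) (.leaf ((nat_lit 1455), [nat_lit 4])) (.leaf ((nat_lit 1455), [nat_lit 6]))))
 (.node (nat_lit 1504) (.node (nat_lit 1503) (.leaf ((nat_lit 1456), [nat_lit 0])) (.leaf ((nat_lit 1456), [nat_lit 3]))) (.node (nat_lit 1505) (.leaf ((nat_lit 1456), [nat_lit 5])) (.leaf ((nat_lit 1457), [nat_lit 0]))))))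
 (.node (nat_lit 1513) (.node (nat_lit 1509) (.node (nat_lit 1507) (.leaf ((nat_lit 1457), [nat_lit 1])) (.node (nat_lit 1508) (.leaf ((nat_lit 1457), [nat_lit 4])) (.leaf ((nat_lit 1460), [nat_lit 0]))))
 (.node (nat_lit 1511) (.node (nat_lit 1510) (.leaf ((nat_lit 1460), [nat_lit 1])) (.leaf ((nat_lit 1461), [nat_lit 0]))) (.node (nat_lit 1512) (.leaf ((nat_lit 1461), [nat_lit 1])) (.leaf ((nat_lit 1461), [nat_lit 5])))))
 (.node (nat_lit 1516) (.node (nat_lit 1514) (.leaf ((nat_lit 1461), [nat_lit 6])) (.node (nat_lit 1515) (.leaf ((nat_lit 1462), [nat_lit 3])) (.leaf ((nat_lit 1462), [nat_lit 4]))))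
 (.node (nat_lit 1518) (.node (nat_lit 1517) (.leaf ((nat_lit 1462), [nat_lit 6])) (.leaf ((nat_lit 1463), [nat_lit 0]))) (.node (nat_lit 1519) (.leaf ((nat_lit 1463), [nat_lit 1])) (.leaf ((nat_lit 1463), [nat_lit 2])))))))))
 (.node (nat_lit 1609) (.node (nat_lit 1548) (.node (nat_lit 1534) (.node (nat_lit 1527) (.node (nat_lit 1523) (.node (nat_lit 1521) (.leaf ((nat_lit 1464), [nat_lit 1])) (.node (nat_lit 1522) (.leaf ((nat_lit 1464), [nat_lit 3])) (.leaf ((nat_lit 1464), [nat_lit 4]))))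
 (.node (nat_lit 1525) (.node (nat_lit 1524) (.leaf ((nat_lit 1464), [nat_lit 5])) (.leaf ((nat_lit 1464), [nat_lit 6]))) (.node (nat_lit 1526) (.leaf ((nat_lit 1465), [nat_lit 3])) (.leaf ((nat_lit 1466), [nat_lit 6])))))
 (.node (nat_lit 1530) (.node (nat_lit 1528) (.leaf ((nat_lit 1467), [nat_lit 1])) (.node (nat_lit 1529) (.leaf ((nat_lit 1467), [nat_lit 2])) (.leaf ((nat_lit 1467), [nat_lit 3]))))
 (.node (nat_lit 1532) (.node (nat_lit 1531) (.leaf ((nat_lit 1468), [nat_lit 0])) (.leaf ((nat_lit 1470), [nat_lit 4]))) (.node (nat_lit 1533) (.leaf ((nat_lit 1470), [nat_lit 5])) (.leaf ((nat_lit 1470), [nat_lit 6]))))))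
 (.node (nat_lit 1541) (.node (nat_lit 1537) (.node (nat_lit 1535) (.leaf ((nat_lit 1471), [nat_lit 5])) (.node (nat_lit 1536) (.leaf ((nat_lit 1471), [nat_lit 6])) (.leaf ((nat_lit 1472), [nat_lit 2]))))
 (.node (nat_lit 1539) (.node (nat_lit 1538) (.leaf ((nat_lit 1472), [nat_lit 3])) (.leaf ((nat_lit 1472), [nat_lit 6]))) (.node (nat_lit 1540) (.leaf ((nat_lit 1473), [nat_lit 1])) (.leaf ((nat_lit 1473), [nat_lit 2])))))
 (.node (nat_lit 1544) (.node (nat_lit 1542) (.leaf ((nat_lit 1474), [nat_lit 5])) (.node (nat_lit 1543) (.leaf ((nat_lit 1474), [nat_lit 6])) (.leaf ((nat_lit 1475), [nat_lit 4]))))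
 (.node (nat_lit 1546) (.node (nat_lit 1545) (.leaf ((nat_lit 1476), [nat_lit 4])) (.leaf ((nat_lit 1480), [nat_lit 4]))) (.node (nat_lit 1547) (.leaf ((nat_lit 1482), [nat_lit 0])) (.leaf ((nat_lit 1483), [nat_lit 0])))))))
 (.node (nat_lit 1562) (.node (nat_lit 1555) (.node (nat_lit 1551) (.node (nat_lit 1549) (.leaf ((nat_lit 1483), [nat_lit 5])) (.node (nat_lit 1550) (.leaf ((nat_lit 1483), [nat_lit 6])) (.leaf ((nat_lit 1484), [nat_lit 3]))))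
 (.node (nat_lit 1553) (.node (nat_lit 1552) (.leaf ((nat_lit 1484), [nat_lit 4])) (.leaf ((nat_lit 1484), [nat_lit 6]))) (.node (nat_lit 1554) (.leaf ((nat_lit 1486), [nat_lit 3])) (.leaf ((nat_lit 1486), [nat_lit 4])))))
 (.node (nat_lit 1558) (.node (nat_lit 1556) (.leaf ((nat_lit 1487), [nat_lit 6])) (.node (nat_lit 1557) (.leaf ((nat_lit 1488), [nat_lit 2])) (.leaf ((nat_lit 1488), [nat_lit 3]))))
 (.node (nat_lit 1560) (.node (nat_lit 1559) (.leaf ((nat_lit 1490), [nat_lit 6])) (.leaf ((nat_lit 1491), [nat_lit 5]))) (.node (nat_lit 1561) (.leaf ((nat_lit 1491), [nat_lit 6])) (.leaf ((nat_lit 1492), [nat_lit 6]))))))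
 (.node (nat_lit 1602) (.node (nat_lit 1565) (.node (nat_lit 1563) (.leaf ((nat_lit 1500), [nat_lit 0])) (.node (nat_lit 1564) (.leaf ((nat_lit 1502), [nat_lit 3])) (.leaf ((nat_lit 1507), [nat_lit 3]))))
 (.node (nat_lit 1567) (.node (nat_lit 1566) (.leaf ((nat_lit 1510), [nat_lit 1])) (.leaf ((nat_lit 1513), [nat_lit 0]))) (.node (nat_lit 1601) (.leaf ((nat_lit 1515), [nat_lit 6])) (.leaf ((nat_lit 1000000), [nat_lit 9, nat_lit 10, nat_lit 9, nat_lit 8, nat_lit 9, nat_lit 8, nat_lit 6])))))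
 (.node (nat_lit 1605) (.node (nat_lit 1603) (.leaf ((nat_lit 1601), [nat_lit 0])) (.node (nat_lit 1604) (.leaf ((nat_lit 1601), [nat_lit 1])) (.leaf ((nat_lit 1601), [nat_lit 2]))))
 (.node (nat_lit 1607) (.node (nat_lit 1606) (.leaf ((nat_lit 1601), [nat_lit 3])) (.leaf ((nat_lit 1601), [nat_lit 4]))) (.node (nat_lit 1608) (.leaf ((nat_lit 1601), [nat_lit 5])) (.leaf ((nat_lit 1601), [nat_lit 6]))))))))
 (.node (nat_lit 1637) (.node (nat_lit 1623) (.node (nat_lit 1616) (.node (nat_lit 1612) (.node (nat_lit 1610) (.leaf ((nat_lit 1602), [nat_lit 1])) (.node (nat_lit 1611) (.leaf ((nat_lit 1602), [nat_lit 2])) (.leaf ((nat_lit 1602), [nat_lit 3]))))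
 (.node (nat_lit 1614) (.node (nat_lit 1613) (.leaf ((nat_lit 1602), [nat_lit 4])) (.leaf ((nat_lit 1602), [nat_lit 5]))) (.node (nat_lit 1615) (.leaf ((nat_lit 1602), [nat_lit 6])) (.leaf ((nat_lit 1603), [nat_lit 2])))))
 (.node (nat_lit 1619) (.node (nat_lit 1617) (.leaf ((nat_lit 1603), [nat_lit 3])) (.node (nat_lit 1618) (.leaf ((nat_lit 1603), [nat_lit 5])) (.leaf ((nat_lit 1604), [nat_lit 3]))))
 (.node (nat_lit 1621) (.node (nat_lit 1620) (.leaf ((nat_lit 1604), [nat_lit 4])) (.leaf ((nat_lit 1604), [nat_lit 5]))) (.node (nat_lit 1622) (.leaf ((nat_lit 1604), [nat_lit 6])) (.leaf ((nat_lit 1605), [nat_lit 4]))))))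
 (.node (nat_lit 1630) (.node (nat_lit 1626) (.node (nat_lit 1624) (.leaf ((nat_lit 1605), [nat_lit 5])) (.node (nat_lit 1625) (.leaf ((nat_lit 1605), [nat_lit 6])) (.leaf ((nat_lit 1606), [nat_lit 0]))))
 (.node (nat_lit 1628) (.node (nat_lit 1627) (.leaf ((nat_lit 1606), [nat_lit 1])) (.leaf ((nat_lit 1606), [nat_lit 3]))) (.node (nat_lit 1629) (.leaf ((nat_lit 1606), [nat_lit 5])) (.leaf ((nat_lit 1607), [nat_lit 0])))))
 (.node (nat_lit 1633) (.node (nat_lit 1631) (.leaf ((nat_lit 1607), [nat_lit 1])) (.node (nat_lit 1632) (.leaf ((nat_lit 1607), [nat_lit 4])) (.leaf ((nat_lit 1607), [nat_lit 6]))))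
 (.node (nat_lit 1635) (.node (nat_lit 1634) (.leaf ((nat_lit 1608), [nat_lit 0])) (.leaf ((nat_lit 1608), [nat_lit 2]))) (.node (nat_lit 1636) (.leaf ((nat_lit 1608), [nat_lit 5])) (.leaf ((nat_lit 1609), [nat_lit 2])))))))
 (.node (nat_lit 1651) (.node (nat_lit 1644) (.node (nat_lit 1640) (.node (nat_lit 1638) (.leaf ((nat_lit 1609), [nat_lit 3])) (.node (nat_lit 1639) (.leaf ((nat_lit 1609), [nat_lit 5])) (.leaf ((nat_lit 1610), [nat_lit 3]))))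
 (.node (nat_lit 1642) (.node (nat_lit 1641) (.leaf ((nat_lit 1610), [nat_lit 4])) (.leaf ((nat_lit 1610), [nat_lit 5]))) (.node (nat_lit 1643) (.leaf ((nat_lit 1610), [nat_lit 6])) (.leaf ((nat_lit 1611), [nat_lit 4])))))
 (.node (nat_lit 1647) (.node (nat_lit 1645) (.leaf ((nat_lit 1611), [nat_lit 5])) (.node (nat_lit 1646) (.leaf ((nat_lit 1611), [nat_lit 6])) (.leaf ((nat_lit 1612), [nat_lit 0]))))
 (.node (nat_lit 1649) (.node (nat_lit 1648) (.leaf ((nat_lit 1612), [nat_lit 1])) (.leaf ((nat_lit 1612), [nat_lit 3]))) (.node (nat_lit 1650) (.leaf ((nat_lit 1612), [nat_lit 5])) (.leaf ((nat_lit 1613), [nat_lit 0]))))))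
 (.node (nat_lit 1658) (.node (nat_lit 1654) (.node (nat_lit 1652) (.leaf ((nat_lit 1613), [nat_lit 1])) (.node (nat_lit 1653) (.leaf ((nat_lit 1613), [nat_lit 4])) (.leaf ((nat_lit 1613), [nat_lit 6]))))
 (.node (nat_lit 1656) (.node (nat_lit 1655) (.leaf ((nat_lit 1614), [nat_lit 0])) (.leaf ((nat_lit 1614), [nat_lit 2]))) (.node (nat_lit 1657) (.leaf ((nat_lit 1614), [nat_lit 5])) (.leaf ((nat_lit 1615), [nat_lit 3])))))
 (.node (nat_lit 1661) (.node (nat_lit 1659) (.leaf ((nat_lit 1615), [nat_lit 5])) (.node (nat_lit 1660) (.leaf ((nat_lit 1616), [nat_lit 5])) (.leaf ((nat_lit 1616), [nat_lit 6]))))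
 (.node (nat_lit 1663) (.node (nat_lit 1662) (.leaf ((nat_lit 1617), [nat_lit 0])) (.leaf ((nat_lit 1617), [nat_lit 1]))) (.node (nat_lit 1664) (.leaf ((nat_lit 1618), [nat_lit 4])) (.leaf ((nat_lit 1618), [nat_lit 5])))))))))))
 (.node (nat_lit 2249) (.node (nat_lit 1970) (.node (nat_lit 1721) (.node (nat_lit 1693) (.node (nat_lit 1679) (.node (nat_lit 1672) (.node (nat_lit 1668) (.node (nat_lit 1666) (.leaf ((nat_lit 1619), [nat_lit 1])) (.node (nat_lit 1667) (.leaf ((nat_lit 1619), [nat_lit 3])) (.leaf ((nat_lit 1619), [nat_lit 5]))))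
 (.node (nat_lit 1670) (.node (nat_lit 1669) (.leaf ((nat_lit 1620), [nat_lit 0])) (.leaf ((nat_lit 1620), [nat_lit 1]))) (.node (nat_lit 1671) (.leaf ((nat_lit 1620), [nat_lit 4])) (.leaf ((nat_lit 1620), [nat_lit 6])))))
 (.node (nat_lit 1675) (.node (nat_lit 1673) (.leaf ((nat_lit 1621), [nat_lit 2])) (.node (nat_lit 1674) (.leaf ((nat_lit 1621), [nat_lit 5])) (.leaf ((nat_lit 1622), [nat_lit 5]))))
 (.node (nat_lit 1677) (.node (nat_lit 1676) (.leaf ((nat_lit 1622), [nat_lit 6])) (.leaf ((nat_lit 1623), [nat_lit 0]))) (.node (nat_lit 1678) (.leaf ((nat_lit 1623), [nat_lit 1])) (.leaf ((nat_lit 1623), [nat_lit 4]))))))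
 (.node (nat_lit 1686) (.node (nat_lit 1682) (.node (nat_lit 1680) (.leaf ((nat_lit 1625), [nat_lit 4])) (.node (nat_lit 1681) (.leaf ((nat_lit 1626), [nat_lit 4])) (.leaf ((nat_lit 1626), [nat_lit 5]))))
 (.node (nat_lit 1684) (.node (nat_lit 1683) (.leaf ((nat_lit 1626), [nat_lit 6])) (.leaf ((nat_lit 1628), [nat_lit 1]))) (.node (nat_lit 1685) (.leaf ((nat_lit 1628), [nat_lit 4])) (.leaf ((nat_lit 1629), [nat_lit 1])))))
 (.node (nat_lit 1689) (.node (nat_lit 1687) (.leaf ((nat_lit 1629), [nat_lit 4])) (.node (nat_lit 1688) (.leaf ((nat_lit 1629), [nat_lit 5])) (.leaf ((nat_lit 1629), [nat_lit 6]))))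
 (.node (nat_lit 1691) (.node (nat_lit 1690) (.leaf ((nat_lit 1630), [nat_lit 4])) (.leaf ((nat_lit 1630), [nat_lit 5]))) (.node (nat_lit 1692) (.leaf ((nat_lit 1631), [nat_lit 1])) (.leaf ((nat_lit 1632), [nat_lit 1])))))))
 (.node (nat_lit 1707) (.node (nat_lit 1700) (.node (nat_lit 1696) (.node (nat_lit 1694) (.leaf ((nat_lit 1632), [nat_lit 2])) (.node (nat_lit 1695) (.leaf ((nat_lit 1633), [nat_lit 4])) (.leaf ((nat_lit 1634), [nat_lit 6]))))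
 (.node (nat_lit 1698) (.node (nat_lit 1697) (.leaf ((nat_lit 1635), [nat_lit 1])) (.leaf ((nat_lit 1635), [nat_lit 4]))) (.node (nat_lit 1699) (.leaf ((nat_lit 1637), [nat_lit 6])) (.leaf ((nat_lit 1638), [nat_lit 0])))))
 (.node (nat_lit 1703) (.node (nat_lit 1701) (.leaf ((nat_lit 1639), [nat_lit 4])) (.node (nat_lit 1702) (.leaf ((nat_lit 1640), [nat_lit 1])) (.leaf ((nat_lit 1640), [nat_lit 3]))))
 (.node (nat_lit 1705) (.node (nat_lit 1704) (.leaf ((nat_lit 1641), [nat_lit 0])) (.leaf ((nat_lit 1642), [nat_lit 2]))) (.node (nat_lit 1706) (.leaf ((nat_lit 1643), [nat_lit 5])) (.leaf ((nat_lit 1643), [nat_lit 6]))))))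
 (.node (nat_lit 1714) (.node (nat_lit 1710) (.node (nat_lit 1708) (.leaf ((nat_lit 1644), [nat_lit 0])) (.node (nat_lit 1709) (.leaf ((nat_lit 1644), [nat_lit 4])) (.leaf ((nat_lit 1646), [nat_lit 4]))))
 (.node (nat_lit 1712) (.node (nat_lit 1711) (.leaf ((nat_lit 1647), [nat_lit 4])) (.leaf ((nat_lit 1647), [nat_lit 5]))) (.node (nat_lit 1713) (.leaf ((nat_lit 1647), [nat_lit 6])) (.leaf ((nat_lit 1649), [nat_lit 4])))))
 (.node (nat_lit 1717) (.node (nat_lit 1715) (.leaf ((nat_lit 1650), [nat_lit 4])) (.node (nat_lit 1716) (.leaf ((nat_lit 1650), [nat_lit 5])) (.leaf ((nat_lit 1650), [nat_lit 6]))))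
 (.node (nat_lit 1719) (.node (nat_lit 1718) (.leaf ((nat_lit 1651), [nat_lit 4])) (.leaf ((nat_lit 1653), [nat_lit 2]))) (.node (nat_lit 1720) (.leaf ((nat_lit 1654), [nat_lit 4])) (.leaf ((nat_lit 1655), [nat_lit 6]))))))))
 (.node (nat_lit 1942) (.node (nat_lit 1928) (.node (nat_lit 1728) (.node (nat_lit 1724) (.node (nat_lit 1722) (.leaf ((nat_lit 1658), [nat_lit 0])) (.node (nat_lit 1723) (.leaf ((nat_lit 1659), [nat_lit 0])) (.leaf ((nat_lit 1661), [nat_lit 5]))))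
 (.node (nat_lit 1726) (.node (nat_lit 1725) (.leaf ((nat_lit 1662), [nat_lit 4])) (.leaf ((nat_lit 1664), [nat_lit 4]))) (.node (nat_lit 1727) (.leaf ((nat_lit 1668), [nat_lit 1])) (.leaf ((nat_lit 1676), [nat_lit 1])))))
 (.node (nat_lit 1924) (.node (nat_lit 1922) (.leaf ((nat_lit 1699), [nat_lit 5])) (.node (nat_lit 1923) (.leaf ((nat_lit 1000000), [nat_lit 9, nat_lit 10, nat_lit 9, nat_lit 8, nat_lit 9, nat_lit 8])) (.leaf ((nat_lit 1922), [nat_lit 0]))))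
 (.node (nat_lit 1926) (.node (nat_lit 1925) (.leaf ((nat_lit 1922), [nat_lit 1])) (.leaf ((nat_lit 1922), [nat_lit 2]))) (.node (nat_lit 1927) (.leaf ((nat_lit 1922), [nat_lit 3])) (.leaf ((nat_lit 1922), [nat_lit 4]))))))
 (.node (nat_lit 1935) (.node (nat_lit 1931) (.node (nat_lit 1929) (.leaf ((nat_lit 1922), [nat_lit 5])) (.node (nat_lit 1930) (.leaf ((nat_lit 1922), [nat_lit 6])) (.leaf ((nat_lit 1923), [nat_lit 1]))))
 (.node (nat_lit 1933) (.node (nat_lit 1932) (.leaf ((nat_lit 1923), [nat_lit 2])) (.leaf ((nat_lit 1923), [nat_lit 3]))) (.node (nat_lit 1934) (.leaf ((nat_lit 1923), [nat_lit 4])) (.leaf ((nat_lit 1923), [nat_lit 5])))))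
 (.node (nat_lit 1938) (.node (nat_lit 1936) (.leaf ((nat_lit 1923), [nat_lit 6])) (.node (nat_lit 1937) (.leaf ((nat_lit 1924), [nat_lit 2])) (.leaf ((nat_lit 1924), [nat_lit 3]))))
 (.node (nat_lit 1940) (.node (nat_lit 1939) (.leaf ((nat_lit 1924), [nat_lit 5])) (.leaf ((nat_lit 1925), [nat_lit 3]))) (.node (nat_lit 1941) (.leaf ((nat_lit 1925), [nat_lit 4])) (.leaf ((nat_lit 1925), [nat_lit 5])))))))
 (.node (nat_lit 1956) (.node (nat_lit 1949) (.node (nat_lit 1945) (.node (nat_lit 1943) (.leaf ((nat_lit 1925), [nat_lit 6])) (.node (nat_lit 1944) (.leaf ((nat_lit 1926), [nat_lit 4])) (.leaf ((nat_lit 1926), [nat_lit 5]))))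
 (.node (nat_lit 1947) (.node (nat_lit 1946) (.leaf ((nat_lit 1926), [nat_lit 6])) (.leaf ((nat_lit 1927), [nat_lit 0]))) (.node (nat_lit 1948) (.leaf ((nat_lit 1927), [nat_lit 1])) (.leaf ((nat_lit 1927), [nat_lit 5])))))
 (.node (nat_lit 1952) (.node (nat_lit 1950) (.leaf ((nat_lit 1928), [nat_lit 0])) (.node (nat_lit 1951) (.leaf ((nat_lit 1928), [nat_lit 1])) (.leaf ((nat_lit 1928), [nat_lit 2]))))
 (.node (nat_lit 1954) (.node (nat_lit 1953) (.leaf ((nat_lit 1928), [nat_lit 3])) (.leaf ((nat_lit 1928), [nat_lit 4]))) (.node (nat_lit 1955) (.leaf ((nat_lit 1928), [nat_lit 6])) (.leaf ((nat_lit 1929), [nat_lit 0]))))))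
 (.node (nat_lit 1963) (.node (nat_lit 1959) (.node (nat_lit 1957) (.leaf ((nat_lit 1929), [nat_lit 1])) (.node (nat_lit 1958) (.leaf ((nat_lit 1929), [nat_lit 3])) (.leaf ((nat_lit 1929), [nat_lit 5]))))
 (.node (nat_lit 1961) (.node (nat_lit 1960) (.leaf ((nat_lit 1930), [nat_lit 2])) (.leaf ((nat_lit 1930), [nat_lit 3]))) (.node (nat_lit 1962) (.leaf ((nat_lit 1930), [nat_lit 5])) (.leaf ((nat_lit 1931), [nat_lit 3])))))
 (.node (nat_lit 1966) (.node (nat_lit 1964) (.leaf ((nat_lit 1931), [nat_lit 4])) (.node (nat_lit 1965) (.leaf ((nat_lit 1931), [nat_lit 5])) (.leaf ((nat_lit 1932), [nat_lit 4]))))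
 (.node (nat_lit 1968) (.node (nat_lit 1967) (.leaf ((nat_lit 1932), [nat_lit 5])) (.leaf ((nat_lit 1932), [nat_lit 6]))) (.node (nat_lit 1969) (.leaf ((nat_lit 1933), [nat_lit 0])) (.leaf ((nat_lit 1933), [nat_lit 5])))))))))
 (.node (nat_lit 2026) (.node (nat_lit 1998) (.node (nat_lit 1984) (.node (nat_lit 1977) (.node (nat_lit 1973) (.node (nat_lit 1971) (.leaf ((nat_lit 1934), [nat_lit 0])) (.node (nat_lit 1972) (.leaf ((nat_lit 1934), [nat_lit 1])) (.leaf ((nat_lit 1934), [nat_lit 2]))))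
 (.node (nat_lit 1975) (.node (nat_lit 1974) (.leaf ((nat_lit 1934), [nat_lit 3])) (.leaf ((nat_lit 1934), [nat_lit 4]))) (.node (nat_lit 1976) (.leaf ((nat_lit 1934), [nat_lit 6])) (.leaf ((nat_lit 1935), [nat_lit 0])))))
 (.node (nat_lit 1980) (.node (nat_lit 1978) (.leaf ((nat_lit 1935), [nat_lit 1])) (.node (nat_lit 1979) (.leaf ((nat_lit 1935), [nat_lit 3])) (.leaf ((nat_lit 1935), [nat_lit 5]))))
 (.node (nat_lit 1982) (.node (nat_lit 1981) (.leaf ((nat_lit 1936), [nat_lit 3])) (.leaf ((nat_lit 1936), [nat_lit 5]))) (.node (nat_lit 1983) (.leaf ((nat_lit 1937), [nat_lit 5])) (.leaf ((nat_lit 1938), [nat_lit 0]))))))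
 (.node (nat_lit 1991) (.node (nat_lit 1987) (.node (nat_lit 1985) (.leaf ((nat_lit 1938), [nat_lit 1])) (.node (nat_lit 1986) (.leaf ((nat_lit 1938), [nat_lit 2])) (.leaf ((nat_lit 1938), [nat_lit 3]))))
 (.node (nat_lit 1989) (.node (nat_lit 1988) (.leaf ((nat_lit 1939), [nat_lit 4])) (.leaf ((nat_lit 1939), [nat_lit 5]))) (.node (nat_lit 1990) (.leaf ((nat_lit 1940), [nat_lit 0])) (.leaf ((nat_lit 1940), [nat_lit 1])))))
 (.node (nat_lit 1994) (.node (nat_lit 1992) (.leaf ((nat_lit 1940), [nat_lit 5])) (.node (nat_lit 1993) (.leaf ((nat_lit 1940), [nat_lit 6])) (.leaf ((nat_lit 1941), [nat_lit 1]))))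
 (.node (nat_lit 1996) (.node (nat_lit 1995) (.leaf ((nat_lit 1941), [nat_lit 2])) (.leaf ((nat_lit 1941), [nat_lit 4]))) (.node (nat_lit 1997) (.leaf ((nat_lit 1941), [nat_lit 6])) (.leaf ((nat_lit 1942), [nat_lit 3])))))))
 (.node (nat_lit 2012) (.node (nat_lit 2005) (.node (nat_lit 2001) (.node (nat_lit 1999) (.leaf ((nat_lit 1942), [nat_lit 5])) (.node (nat_lit 2000) (.leaf ((nat_lit 1944), [nat_lit 1])) (.leaf ((nat_lit 1944), [nat_lit 6]))))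
 (.node (nat_lit 2003) (.node (nat_lit 2002) (.leaf ((nat_lit 1945), [nat_lit 3])) (.leaf ((nat_lit 1945), [nat_lit 5]))) (.node (nat_lit 2004) (.leaf ((nat_lit 1946), [nat_lit 4])) (.leaf ((nat_lit 1946), [nat_lit 5])))))
 (.node (nat_lit 2008) (.node (nat_lit 2006) (.leaf ((nat_lit 1946), [nat_lit 6])) (.node (nat_lit 2007) (.leaf ((nat_lit 1947), [nat_lit 4])) (.leaf ((nat_lit 1947), [nat_lit 5]))))
 (.node (nat_lit 2010) (.node (nat_lit 2009) (.leaf ((nat_lit 1948), [nat_lit 3])) (.leaf ((nat_lit 1949), [nat_lit 1]))) (.node (nat_lit 2011) (.leaf ((nat_lit 1949), [nat_lit 5])) (.leaf ((nat_lit 1949), [nat_lit 6]))))))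
 (.node (nat_lit 2019) (.node (nat_lit 2015) (.node (nat_lit 2013) (.leaf ((nat_lit 1950), [nat_lit 2])) (.node (nat_lit 2014) (.leaf ((nat_lit 1950), [nat_lit 3])) (.leaf ((nat_lit 1950), [nat_lit 4]))))
 (.node (nat_lit 2017) (.node (nat_lit 2016) (.leaf ((nat_lit 1950), [nat_lit 5])) (.leaf ((nat_lit 1951), [nat_lit 4]))) (.node (nat_lit 2018) (.leaf ((nat_lit 1951), [nat_lit 5])) (.leaf ((nat_lit 1952), [nat_lit 5])))))
 (.node (nat_lit 2022) (.node (nat_lit 2020) (.leaf ((nat_lit 1953), [nat_lit 0])) (.node (nat_lit 2021) (.leaf ((nat_lit 1955), [nat_lit 3])) (.leaf ((nat_lit 1956), [nat_lit 3]))))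
 (.node (nat_lit 2024) (.node (nat_lit 2023) (.leaf ((nat_lit 1956), [nat_lit 4])) (.leaf ((nat_lit 1956), [nat_lit 5]))) (.node (nat_lit 2025) (.leaf ((nat_lit 1961), [nat_lit 0])) (.leaf ((nat_lit 1962), [nat_lit 4]))))))))
 (.node (nat_lit 2221) (.node (nat_lit 2040) (.node (nat_lit 2033) (.node (nat_lit 2029) (.node (nat_lit 2027) (.leaf ((nat_lit 1962), [nat_lit 5])) (.node (nat_lit 2028) (.leaf ((nat_lit 1963), [nat_lit 0])) (.leaf ((nat_lit 1963), [nat_lit 5]))))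
 (.node (nat_lit 2031) (.node (nat_lit 2030) (.leaf ((nat_lit 1964), [nat_lit 4])) (.leaf ((nat_lit 1964), [nat_lit 6]))) (.node (nat_lit 2032) (.leaf ((nat_lit 1966), [nat_lit 6])) (.leaf ((nat_lit 1967), [nat_lit 3])))))
 (.node (nat_lit 2036) (.node (nat_lit 2034) (.leaf ((nat_lit 1967), [nat_lit 5])) (.node (nat_lit 2035) (.leaf ((nat_lit 1968), [nat_lit 4])) (.leaf ((nat_lit 1968), [nat_lit 5]))))
 (.node (nat_lit 2038) (.node (nat_lit 2037) (.leaf ((nat_lit 1969), [nat_lit 3])) (.leaf ((nat_lit 1970), [nat_lit 1]))) (.node (nat_lit 2039) (.leaf ((nat_lit 1970), [nat_lit 5])) (.leaf ((nat_lit 1970), [nat_lit 6]))))))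
 (.node (nat_lit 2047) (.node (nat_lit 2043) (.node (nat_lit 2041) (.leaf ((nat_lit 1971), [nat_lit 4])) (.node (nat_lit 2042) (.leaf ((nat_lit 1971), [nat_lit 5])) (.leaf ((nat_lit 1972), [nat_lit 5]))))
 (.node (nat_lit 2045) (.node (nat_lit 2044) (.leaf ((nat_lit 1974), [nat_lit 0])) (.leaf ((nat_lit 1976), [nat_lit 3]))) (.node (nat_lit 2046) (.leaf ((nat_lit 1977), [nat_lit 3])) (.leaf ((nat_lit 1983), [nat_lit 5])))))
 (.node (nat_lit 2217) (.node (nat_lit 2048) (.leaf ((nat_lit 1985), [nat_lit 5])) (.node (nat_lit 2049) (.leaf ((nat_lit 1989), [nat_lit 6])) (.leaf ((nat_lit 1992), [nat_lit 2]))))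
 (.node (nat_lit 2219) (.node (nat_lit 2218) (.leaf ((nat_lit 1000000), [nat_lit 9, nat_lit 11, nat_lit 9, nat_lit 8, nat_lit 8, nat_lit 8, nat_lit 5])) (.leaf ((nat_lit 2217), [nat_lit 0]))) (.node (nat_lit 2220) (.leaf ((nat_lit 2217), [nat_lit 1])) (.leaf ((nat_lit 2217), [nat_lit 2])))))))
 (.node (nat_lit 2235) (.node (nat_lit 2228) (.node (nat_lit 2224) (.node (nat_lit 2222) (.leaf ((nat_lit 2217), [nat_lit 3])) (.node (nat_lit 2223) (.leaf ((nat_lit 2217), [nat_lit 4])) (.leaf ((nat_lit 2217), [nat_lit 5]))))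
 (.node (nat_lit 2226) (.node (nat_lit 2225) (.leaf ((nat_lit 2217), [nat_lit 6])) (.leaf ((nat_lit 2218), [nat_lit 1]))) (.node (nat_lit 2227) (.leaf ((nat_lit 2218), [nat_lit 2])) (.leaf ((nat_lit 2218), [nat_lit 3])))))
 (.node (nat_lit 2231) (.node (nat_lit 2229) (.leaf ((nat_lit 2218), [nat_lit 4])) (.node (nat_lit 2230) (.leaf ((nat_lit 2218), [nat_lit 5])) (.leaf ((nat_lit 2218), [nat_lit 6]))))
 (.node (nat_lit 2233) (.node (nat_lit 2232) (.leaf ((nat_lit 2219), [nat_lit 2])) (.leaf ((nat_lit 2219), [nat_lit 4]))) (.node (nat_lit 2234) (.leaf ((nat_lit 2219), [nat_lit 5])) (.leaf ((nat_lit 2220), [nat_lit 3]))))))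
 (.node (nat_lit 2242) (.node (nat_lit 2238) (.node (nat_lit 2236) (.leaf ((nat_lit 2220), [nat_lit 4])) (.node (nat_lit 2237) (.leaf ((nat_lit 2220), [nat_lit 5])) (.leaf ((nat_lit 2220), [nat_lit 6]))))
 (.node (nat_lit 2240) (.node (nat_lit 2239) (.leaf ((nat_lit 2221), [nat_lit 4])) (.leaf ((nat_lit 2221), [nat_lit 5]))) (.node (nat_lit 2241) (.leaf ((nat_lit 2221), [nat_lit 6])) (.leaf ((nat_lit 2222), [nat_lit 1])))))
 (.node (nat_lit 2245) (.node (nat_lit 2243) (.leaf ((nat_lit 2222), [nat_lit 2])) (.node (nat_lit 2244) (.leaf ((nat_lit 2222), [nat_lit 3])) (.leaf ((nat_lit 2222), [nat_lit 5]))))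
 (.node (nat_lit 2247) (.node (nat_lit 2246) (.leaf ((nat_lit 2222), [nat_lit 6])) (.leaf ((nat_lit 2223), [nat_lit 0]))) (.node (nat_lit 2248) (.leaf ((nat_lit 2223), [nat_lit 1])) (.leaf ((nat_lit 2223), [nat_lit 4]))))))))))
 (.node (nat_lit 2366) (.node (nat_lit 2305) (.node (nat_lit 2277) (.node (nat_lit 2263) (.node (nat_lit 2256) (.node (nat_lit 2252) (.node (nat_lit 2250) (.leaf ((nat_lit 2223), [nat_lit 6])) (.node (nat_lit 2251) (.leaf ((nat_lit 2224), [nat_lit 0])) (.leaf ((nat_lit 2224), [nat_lit 1]))))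
 (.node (nat_lit 2254) (.node (nat_lit 2253) (.leaf ((nat_lit 2224), [nat_lit 2])) (.leaf ((nat_lit 2225), [nat_lit 2]))) (.node (nat_lit 2255) (.leaf ((nat_lit 2225), [nat_lit 3])) (.leaf ((nat_lit 2225), [nat_lit 4])))))
 (.node (nat_lit 2259) (.node (nat_lit 2257) (.leaf ((nat_lit 2225), [nat_lit 5])) (.node (nat_lit 2258) (.leaf ((nat_lit 2225), [nat_lit 6])) (.leaf ((nat_lit 2226), [nat_lit 3]))))
 (.node (nat_lit 2261) (.node (nat_lit 2260) (.leaf ((nat_lit 2226), [nat_lit 4])) (.leaf ((nat_lit 2226), [nat_lit 5]))) (.node (nat_lit 2262) (.leaf ((nat_lit 2226), [nat_lit 6])) (.leaf ((nat_lit 2227), [nat_lit 4]))))))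
 (.node (nat_lit 2270) (.node (nat_lit 2266) (.node (nat_lit 2264) (.leaf ((nat_lit 2227), [nat_lit 5])) (.node (nat_lit 2265) (.leaf ((nat_lit 2228), [nat_lit 1])) (.leaf ((nat_lit 2228), [nat_lit 2]))))
 (.node (nat_lit 2268) (.node (nat_lit 2267) (.leaf ((nat_lit 2228), [nat_lit 3])) (.leaf ((nat_lit 2228), [nat_lit 5]))) (.node (nat_lit 2269) (.leaf ((nat_lit 2228), [nat_lit 6])) (.leaf ((nat_lit 2229), [nat_lit 0])))))
 (.node (nat_lit 2273) (.node (nat_lit 2271) (.leaf ((nat_lit 2229), [nat_lit 1])) (.node (nat_lit 2272) (.leaf ((nat_lit 2229), [nat_lit 4])) (.leaf ((nat_lit 2229), [nat_lit 6]))))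
 (.node (nat_lit 2275) (.node (nat_lit 2274) (.leaf ((nat_lit 2230), [nat_lit 2])) (.leaf ((nat_lit 2231), [nat_lit 4]))) (.node (nat_lit 2276) (.leaf ((nat_lit 2231), [nat_lit 5])) (.leaf ((nat_lit 2231), [nat_lit 6])))))))
 (.node (nat_lit 2291) (.node (nat_lit 2284) (.node (nat_lit 2280) (.node (nat_lit 2278) (.leaf ((nat_lit 2232), [nat_lit 3])) (.node (nat_lit 2279) (.leaf ((nat_lit 2232), [nat_lit 5])) (.leaf ((nat_lit 2233), [nat_lit 0]))))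
 (.node (nat_lit 2282) (.node (nat_lit 2281) (.leaf ((nat_lit 2233), [nat_lit 1])) (.leaf ((nat_lit 2233), [nat_lit 4]))) (.node (nat_lit 2283) (.leaf ((nat_lit 2234), [nat_lit 4])) (.leaf ((nat_lit 2234), [nat_lit 5])))))
 (.node (nat_lit 2287) (.node (nat_lit 2285) (.leaf ((nat_lit 2235), [nat_lit 1])) (.node (nat_lit 2286) (.leaf ((nat_lit 2235), [nat_lit 2])) (.leaf ((nat_lit 2235), [nat_lit 3]))))
 (.node (nat_lit 2289) (.node (nat_lit 2288) (.leaf ((nat_lit 2235), [nat_lit 5])) (.leaf ((nat_lit 2235), [nat_lit 6]))) (.node (nat_lit 2290) (.leaf ((nat_lit 2236), [nat_lit 0])) (.leaf ((nat_lit 2236), [nat_lit 1]))))))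
 (.node (nat_lit 2298) (.node (nat_lit 2294) (.node (nat_lit 2292) (.leaf ((nat_lit 2236), [nat_lit 4])) (.node (nat_lit 2293) (.leaf ((nat_lit 2236), [nat_lit 6])) (.leaf ((nat_lit 2238), [nat_lit 1]))))
 (.node (nat_lit 2296) (.node (nat_lit 2295) (.leaf ((nat_lit 2238), [nat_lit 5])) (.leaf ((nat_lit 2239), [nat_lit 0]))) (.node (nat_lit 2297) (.leaf ((nat_lit 2239), [nat_lit 1])) (.leaf ((nat_lit 2239), [nat_lit 4])))))
 (.node (nat_lit 2301) (.node (nat_lit 2299) (.leaf ((nat_lit 2239), [nat_lit 6])) (.node (nat_lit 2300) (.leaf ((nat_lit 2240), [nat_lit 0])) (.leaf ((nat_lit 2240), [nat_lit 1]))))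
 (.node (nat_lit 2303) (.node (nat_lit 2302) (.leaf ((nat_lit 2240), [nat_lit 2])) (.leaf ((nat_lit 2241), [nat_lit 5]))) (.node (nat_lit 2304) (.leaf ((nat_lit 2244), [nat_lit 1])) (.leaf ((nat_lit 2244), [nat_lit 2]))))))))
 (.node (nat_lit 2333) (.node (nat_lit 2319) (.node (nat_lit 2312) (.node (nat_lit 2308) (.node (nat_lit 2306) (.leaf ((nat_lit 2244), [nat_lit 6])) (.node (nat_lit 2307) (.leaf ((nat_lit 2246), [nat_lit 1])) (.leaf ((nat_lit 2247), [nat_lit 4]))))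
 (.node (nat_lit 2310) (.node (nat_lit 2309) (.leaf ((nat_lit 2247), [nat_lit 5])) (.leaf ((nat_lit 2247), [nat_lit 6]))) (.node (nat_lit 2311) (.leaf ((nat_lit 2248), [nat_lit 1])) (.leaf ((nat_lit 2248), [nat_lit 2])))))
 (.node (nat_lit 2315) (.node (nat_lit 2313) (.leaf ((nat_lit 2249), [nat_lit 2])) (.node (nat_lit 2314) (.leaf ((nat_lit 2252), [nat_lit 6])) (.leaf ((nat_lit 2253), [nat_lit 4]))))
 (.node (nat_lit 2317) (.node (nat_lit 2316) (.leaf ((nat_lit 2253), [nat_lit 5])) (.leaf ((nat_lit 2254), [nat_lit 4]))) (.node (nat_lit 2318) (.leaf ((nat_lit 2254), [nat_lit 5])) (.leaf ((nat_lit 2254), [nat_lit 6]))))))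
 (.node (nat_lit 2326) (.node (nat_lit 2322) (.node (nat_lit 2320) (.leaf ((nat_lit 2255), [nat_lit 3])) (.node (nat_lit 2321) (.leaf ((nat_lit 2255), [nat_lit 5])) (.leaf ((nat_lit 2255), [nat_lit 6]))))
 (.node (nat_lit 2324) (.node (nat_lit 2323) (.leaf ((nat_lit 2256), [nat_lit 1])) (.leaf ((nat_lit 2256), [nat_lit 4]))) (.node (nat_lit 2325) (.leaf ((nat_lit 2257), [nat_lit 2])) (.leaf ((nat_lit 2258), [nat_lit 4])))))
 (.node (nat_lit 2329) (.node (nat_lit 2327) (.leaf ((nat_lit 2259), [nat_lit 3])) (.node (nat_lit 2328) (.leaf ((nat_lit 2259), [nat_lit 5])) (.leaf ((nat_lit 2260), [nat_lit 0]))))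
 (.node (nat_lit 2331) (.node (nat_lit 2330) (.leaf ((nat_lit 2260), [nat_lit 4])) (.leaf ((nat_lit 2262), [nat_lit 1]))) (.node (nat_lit 2332) (.leaf ((nat_lit 2262), [nat_lit 5])) (.leaf ((nat_lit 2263), [nat_lit 0])))))))
 (.node (nat_lit 2352) (.node (nat_lit 2340) (.node (nat_lit 2336) (.node (nat_lit 2334) (.leaf ((nat_lit 2263), [nat_lit 4])) (.node (nat_lit 2335) (.leaf ((nat_lit 2264), [nat_lit 3])) (.leaf ((nat_lit 2264), [nat_lit 5]))))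
 (.node (nat_lit 2338) (.node (nat_lit 2337) (.leaf ((nat_lit 2267), [nat_lit 1])) (.leaf ((nat_lit 2267), [nat_lit 2]))) (.node (nat_lit 2339) (.leaf ((nat_lit 2270), [nat_lit 4])) (.leaf ((nat_lit 2271), [nat_lit 2])))))
 (.node (nat_lit 2343) (.node (nat_lit 2341) (.leaf ((nat_lit 2273), [nat_lit 6])) (.node (nat_lit 2342) (.leaf ((nat_lit 2274), [nat_lit 5])) (.leaf ((nat_lit 2281), [nat_lit 2]))))
 (.node (nat_lit 2350) (.node (nat_lit 2344) (.leaf ((nat_lit 2287), [nat_lit 1])) (.leaf ((nat_lit 2296), [nat_lit 4]))) (.node (nat_lit 2351) (.leaf ((nat_lit 1000000), [nat_lit 9, nat_lit 11, nat_lit 9, nat_lit 8, nat_lit 8, nat_lit 8])) (.leaf ((nat_lit 2350), [nat_lit 0]))))))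
 (.node (nat_lit 2359) (.node (nat_lit 2355) (.node (nat_lit 2353) (.leaf ((nat_lit 2350), [nat_lit 1])) (.node (nat_lit 2354) (.leaf ((nat_lit 2350), [nat_lit 2])) (.leaf ((nat_lit 2350), [nat_lit 3]))))
 (.node (nat_lit 2357) (.node (nat_lit 2356) (.leaf ((nat_lit 2350), [nat_lit 4])) (.leaf ((nat_lit 2350), [nat_lit 5]))) (.node (nat_lit 2358) (.leaf ((nat_lit 2350), [nat_lit 6])) (.leaf ((nat_lit 2351), [nat_lit 1])))))
 (.node (nat_lit 2362) (.node (nat_lit 2360) (.leaf ((nat_lit 2351), [nat_lit 2])) (.node (nat_lit 2361) (.leaf ((nat_lit 2351), [nat_lit 3])) (.leaf ((nat_lit 2351), [nat_lit 4]))))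
 (.node (nat_lit 2364) (.node (nat_lit 2363) (.leaf ((nat_lit 2351), [nat_lit 5])) (.leaf ((nat_lit 2352), [nat_lit 2]))) (.node (nat_lit 2365) (.leaf ((nat_lit 2352), [nat_lit 3])) (.leaf ((nat_lit 2352), [nat_lit 4])))))))))
 (.node (nat_lit 2422) (.node (nat_lit 2394) (.node (nat_lit 2380) (.node (nat_lit 2373) (.node (nat_lit 2369) (.node (nat_lit 2367) (.leaf ((nat_lit 2352), [nat_lit 5])) (.node (nat_lit 2368) (.leaf ((nat_lit 2352), [nat_lit 6])) (.leaf ((nat_lit 2353), [nat_lit 3]))))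
 (.node (nat_lit 2371) (.node (nat_lit 2370) (.leaf ((nat_lit 2353), [nat_lit 4])) (.leaf ((nat_lit 2353), [nat_lit 5]))) (.node (nat_lit 2372) (.leaf ((nat_lit 2354), [nat_lit 4])) (.leaf ((nat_lit 2354), [nat_lit 5])))))
 (.node (nat_lit 2376) (.node (nat_lit 2374) (.leaf ((nat_lit 2354), [nat_lit 6])) (.node (nat_lit 2375) (.leaf ((nat_lit 2355), [nat_lit 0])) (.leaf ((nat_lit 2355), [nat_lit 1]))))
 (.node (nat_lit 2378) (.node (nat_lit 2377) (.leaf ((nat_lit 2355), [nat_lit 2])) (.leaf ((nat_lit 2355), [nat_lit 5]))) (.node (nat_lit 2379) (.leaf ((nat_lit 2355), [nat_lit 6])) (.leaf ((nat_lit 2356), [nat_lit 1]))))))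
 (.node (nat_lit 2387) (.node (nat_lit 2383) (.node (nat_lit 2381) (.leaf ((nat_lit 2356), [nat_lit 3])) (.node (nat_lit 2382) (.leaf ((nat_lit 2356), [nat_lit 4])) (.leaf ((nat_lit 2356), [nat_lit 6]))))
 (.node (nat_lit 2385) (.node (nat_lit 2384) (.leaf ((nat_lit 2357), [nat_lit 0])) (.leaf ((nat_lit 2357), [nat_lit 2]))) (.node (nat_lit 2386) (.leaf ((nat_lit 2358), [nat_lit 2])) (.leaf ((nat_lit 2358), [nat_lit 3])))))
 (.node (nat_lit 2390) (.node (nat_lit 2388) (.leaf ((nat_lit 2358), [nat_lit 4])) (.node (nat_lit 2389) (.leaf ((nat_lit 2358), [nat_lit 5])) (.leaf ((nat_lit 2359), [nat_lit 3]))))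
 (.node (nat_lit 2392) (.node (nat_lit 2391) (.leaf ((nat_lit 2359), [nat_lit 4])) (.leaf ((nat_lit 2359), [nat_lit 5]))) (.node (nat_lit 2393) (.leaf ((nat_lit 2359), [nat_lit 6])) (.leaf ((nat_lit 2360), [nat_lit 4])))))))
 (.node (nat_lit 2408) (.node (nat_lit 2401) (.node (nat_lit 2397) (.node (nat_lit 2395) (.leaf ((nat_lit 2360), [nat_lit 5])) (.node (nat_lit 2396) (.leaf ((nat_lit 2361), [nat_lit 0])) (.leaf ((nat_lit 2361), [nat_lit 1]))))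
 (.node (nat_lit 2399) (.node (nat_lit 2398) (.leaf ((nat_lit 2361), [nat_lit 2])) (.leaf ((nat_lit 2361), [nat_lit 5]))) (.node (nat_lit 2400) (.leaf ((nat_lit 2362), [nat_lit 1])) (.leaf ((nat_lit 2362), [nat_lit 3])))))
 (.node (nat_lit 2404) (.node (nat_lit 2402) (.leaf ((nat_lit 2362), [nat_lit 4])) (.node (nat_lit 2403) (.leaf ((nat_lit 2363), [nat_lit 3])) (.leaf ((nat_lit 2363), [nat_lit 4]))))
 (.node (nat_lit 2406) (.node (nat_lit 2405) (.leaf ((nat_lit 2364), [nat_lit 4])) (.leaf ((nat_lit 2364), [nat_lit 5]))) (.node (nat_lit 2407) (.leaf ((nat_lit 2364), [nat_lit 6])) (.leaf ((nat_lit 2365), [nat_lit 0]))))))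
 (.node (nat_lit 2415) (.node (nat_lit 2411) (.node (nat_lit 2409) (.leaf ((nat_lit 2365), [nat_lit 5])) (.node (nat_lit 2410) (.leaf ((nat_lit 2365), [nat_lit 6])) (.leaf ((nat_lit 2366), [nat_lit 3]))))
 (.node (nat_lit 2413) (.node (nat_lit 2412) (.leaf ((nat_lit 2366), [nat_lit 4])) (.leaf ((nat_lit 2367), [nat_lit 0]))) (.node (nat_lit 2414) (.leaf ((nat_lit 2367), [nat_lit 2])) (.leaf ((nat_lit 2368), [nat_lit 5])))))
 (.node (nat_lit 2418) (.node (nat_lit 2416) (.leaf ((nat_lit 2369), [nat_lit 0])) (.node (nat_lit 2417) (.leaf ((nat_lit 2369), [nat_lit 5])) (.leaf ((nat_lit 2370), [nat_lit 3]))))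
 (.node (nat_lit 2420) (.node (nat_lit 2419) (.leaf ((nat_lit 2370), [nat_lit 4])) (.leaf ((nat_lit 2372), [nat_lit 1]))) (.node (nat_lit 2421) (.leaf ((nat_lit 2372), [nat_lit 3])) (.leaf ((nat_lit 2372), [nat_lit 6]))))))))
 (.node (nat_lit 2450) (.node (nat_lit 2436) (.node (nat_lit 2429) (.node (nat_lit 2425) (.node (nat_lit 2423) (.leaf ((nat_lit 2373), [nat_lit 0])) (.node (nat_lit 2424) (.leaf ((nat_lit 2373), [nat_lit 2])) (.leaf ((nat_lit 2374), [nat_lit 1]))))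
 (.node (nat_lit 2427) (.node (nat_lit 2426) (.leaf ((nat_lit 2374), [nat_lit 2])) (.leaf ((nat_lit 2374), [nat_lit 5]))) (.node (nat_lit 2428) (.leaf ((nat_lit 2375), [nat_lit 5])) (.leaf ((nat_lit 2376), [nat_lit 6])))))
 (.node (nat_lit 2432) (.node (nat_lit 2430) (.leaf ((nat_lit 2377), [nat_lit 1])) (.node (nat_lit 2431) (.leaf ((nat_lit 2377), [nat_lit 2])) (.leaf ((nat_lit 2378), [nat_lit 3]))))
 (.node (nat_lit 2434) (.node (nat_lit 2433) (.leaf ((nat_lit 2378), [nat_lit 5])) (.leaf ((nat_lit 2379), [nat_lit 3]))) (.node (nat_lit 2435) (.leaf ((nat_lit 2379), [nat_lit 4])) (.leaf ((nat_lit 2381), [nat_lit 1]))))))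
 (.node (nat_lit 2443) (.node (nat_lit 2439) (.node (nat_lit 2437) (.leaf ((nat_lit 2381), [nat_lit 2])) (.node (nat_lit 2438) (.leaf ((nat_lit 2381), [nat_lit 3])) (.leaf ((nat_lit 2381), [nat_lit 6]))))
 (.node (nat_lit 2441) (.node (nat_lit 2440) (.leaf ((nat_lit 2382), [nat_lit 1])) (.leaf ((nat_lit 2382), [nat_lit 2]))) (.node (nat_lit 2442) (.leaf ((nat_lit 2385), [nat_lit 3])) (.leaf ((nat_lit 2385), [nat_lit 4])))))
 (.node (nat_lit 2446) (.node (nat_lit 2444) (.leaf ((nat_lit 2385), [nat_lit 6])) (.node (nat_lit 2445) (.leaf ((nat_lit 2386), [nat_lit 4])) (.leaf ((nat_lit 2386), [nat_lit 5]))))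
 (.node (nat_lit 2448) (.node (nat_lit 2447) (.leaf ((nat_lit 2387), [nat_lit 0])) (.leaf ((nat_lit 2389), [nat_lit 5]))) (.node (nat_lit 2449) (.leaf ((nat_lit 2389), [nat_lit 6])) (.leaf ((nat_lit 2390), [nat_lit 0])))))))
 (.node (nat_lit 2464) (.node (nat_lit 2457) (.node (nat_lit 2453) (.node (nat_lit 2451) (.leaf ((nat_lit 2390), [nat_lit 5])) (.node (nat_lit 2452) (.leaf ((nat_lit 2390), [nat_lit 6])) (.leaf ((nat_lit 2391), [nat_lit 4]))))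
 (.node (nat_lit 2455) (.node (nat_lit 2454) (.leaf ((nat_lit 2393), [nat_lit 0])) (.leaf ((nat_lit 2394), [nat_lit 1]))) (.node (nat_lit 2456) (.leaf ((nat_lit 2394), [nat_lit 3])) (.leaf ((nat_lit 2395), [nat_lit 2])))))
 (.node (nat_lit 2460) (.node (nat_lit 2458) (.leaf ((nat_lit 2395), [nat_lit 4])) (.node (nat_lit 2459) (.leaf ((nat_lit 2395), [nat_lit 5])) (.leaf ((nat_lit 2398), [nat_lit 2]))))
 (.node (nat_lit 2462) (.node (nat_lit 2461) (.leaf ((nat_lit 2398), [nat_lit 6])) (.leaf ((nat_lit 2401), [nat_lit 2]))) (.node (nat_lit 2463) (.leaf ((nat_lit 2401), [nat_lit 3])) (.leaf ((nat_lit 2403), [nat_lit 0]))))))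
 (.node (nat_lit 2471) (.node (nat_lit 2467) (.node (nat_lit 2465) (.leaf ((nat_lit 2403), [nat_lit 5])) (.node (nat_lit 2466) (.leaf ((nat_lit 2405), [nat_lit 3])) (.leaf ((nat_lit 2406), [nat_lit 2]))))
 (.node (nat_lit 2469) (.node (nat_lit 2468) (.leaf ((nat_lit 2407), [nat_lit 5])) (.leaf ((nat_lit 2408), [nat_lit 2]))) (.node (nat_lit 2470) (.leaf ((nat_lit 2411), [nat_lit 2])) (.leaf ((nat_lit 2414), [nat_lit 3])))))
 (.node (nat_lit 2474) (.node (nat_lit 2472) (.leaf ((nat_lit 2416), [nat_lit 1])) (.node (nat_lit 2473) (.leaf ((nat_lit 2419), [nat_lit 3])) (.leaf ((nat_lit 2421), [nat_lit 1]))))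
 (.node (nat_lit 2476) (.node (nat_lit 2475) (.leaf ((nat_lit 2421), [nat_lit 2])) (.leaf ((nat_lit 2429), [nat_lit 2]))) (.node (nat_lit 2477) (.leaf ((nat_lit 2434), [nat_lit 3])) (.leaf ((nat_lit 2441), [nat_lit 6])))))))))))))
noncomputable def bI : List ℕ := [(nat_lit 3676), (nat_lit 3539), (nat_lit 864), (nat_lit 925), (nat_lit 3475), (nat_lit 3801), (nat_lit 169), (nat_lit 882), (nat_lit 2063), (nat_lit 1918), (nat_lit 3112), (nat_lit 3345), (nat_lit 2502), (nat_lit 2176), (nat_lit 3856), (nat_lit 3640), (nat_lit 1165), (nat_lit 1178), (nat_lit 592), (nat_lit 508), (nat_lit 590), (nat_lit 575), (nat_lit 470), (nat_lit 523), (nat_lit 504), (nat_lit 537), (nat_lit 560), (nat_lit 551), (nat_lit 564), (nat_lit 515),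
 (nat_lit 1194), (nat_lit 1205), (nat_lit 1125), (nat_lit 1134), (nat_lit 1113), (nat_lit 1179), (nat_lit 1124), (nat_lit 1181), (nat_lit 574), (nat_lit 491), (nat_lit 562), (nat_lit 566), (nat_lit 1206), (nat_lit 1150), (nat_lit 1202), (nat_lit 1173), (nat_lit 1171), (nat_lit 1135), (nat_lit 320), (nat_lit 305), (nat_lit 3096), (nat_lit 3337), (nat_lit 932), (nat_lit 958), (nat_lit 3677), (nat_lit 3537), (nat_lit 3797), (nat_lit 3641), (nat_lit 2488), (nat_lit 2101),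
 (nat_lit 3574), (nat_lit 3489), (nat_lit 2172), (nat_lit 2602), (nat_lit 532), (nat_lit 525), (nat_lit 1144), (nat_lit 1216), (nat_lit 1184), (nat_lit 1208), (nat_lit 1158), (nat_lit 1195), (nat_lit 1157), (nat_lit 1148), (nat_lit 1119), (nat_lit 1213), (nat_lit 1110), (nat_lit 1198), (nat_lit 511), (nat_lit 544), (nat_lit 3830), (nat_lit 3561), (nat_lit 2679), (nat_lit 2154), (nat_lit 3287), (nat_lit 2999), (nat_lit 2642), (nat_lit 2123), (nat_lit 149), (nat_lit 9),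
 (nat_lit 3650), (nat_lit 3532), (nat_lit 959), (nat_lit 940), (nat_lit 3495), (nat_lit 3625), (nat_lit 2195), (nat_lit 2645), (nat_lit 2977), (nat_lit 3278), (nat_lit 1908), (nat_lit 2198), (nat_lit 3562), (nat_lit 3795), (nat_lit 3498), (nat_lit 3695), (nat_lit 863), (nat_lit 924), (nat_lit 3584), (nat_lit 3673), (nat_lit 454), (nat_lit 905), (nat_lit 477), (nat_lit 492), (nat_lit 591), (nat_lit 578), (nat_lit 530), (nat_lit 495), (nat_lit 1174), (nat_lit 1225),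
 (nat_lit 1138), (nat_lit 1214), (nat_lit 549), (nat_lit 487), (nat_lit 543), (nat_lit 554), (nat_lit 485), (nat_lit 482), (nat_lit 483), (nat_lit 552), (nat_lit 1230), (nat_lit 1196), (nat_lit 503), (nat_lit 540), (nat_lit 587), (nat_lit 531), (nat_lit 502), (nat_lit 584), (nat_lit 469), (nat_lit 526), (nat_lit 1201), (nat_lit 1187), (nat_lit 536), (nat_lit 528), (nat_lit 1879), (nat_lit 2486), (nat_lit 3347), (nat_lit 3114), (nat_lit 2196), (nat_lit 2658),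
 (nat_lit 3638), (nat_lit 3704), (nat_lit 3381), (nat_lit 3207), (nat_lit 321), (nat_lit 900), (nat_lit 3568), (nat_lit 3798), (nat_lit 884), (nat_lit 300), (nat_lit 3703), (nat_lit 3487), (nat_lit 2592), (nat_lit 2126), (nat_lit 3655), (nat_lit 3491), (nat_lit 2495), (nat_lit 2169), (nat_lit 890), (nat_lit 308), (nat_lit 3566), (nat_lit 3850), (nat_lit 930), (nat_lit 941), (nat_lit 3460), (nat_lit 3826), (nat_lit 1220), (nat_lit 1146), (nat_lit 1170), (nat_lit 1145),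
 (nat_lit 579), (nat_lit 499), (nat_lit 1114), (nat_lit 1154), (nat_lit 1106), (nat_lit 1167), (nat_lit 488), (nat_lit 498), (nat_lit 1209), (nat_lit 1211), (nat_lit 1164), (nat_lit 1186), (nat_lit 153), (nat_lit 141), (nat_lit 3464), (nat_lit 3827), (nat_lit 1592), (nat_lit 938), (nat_lit 3592), (nat_lit 3682), (nat_lit 3714), (nat_lit 3559), (nat_lit 2680), (nat_lit 2174), (nat_lit 3355), (nat_lit 3126), (nat_lit 2120), (nat_lit 2501), (nat_lit 1109), (nat_lit 1130),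
 (nat_lit 518), (nat_lit 509), (nat_lit 1177), (nat_lit 1175), (nat_lit 1141), (nat_lit 1192), (nat_lit 1189), (nat_lit 1123), (nat_lit 1122), (nat_lit 1188), (nat_lit 519), (nat_lit 538), (nat_lit 1143), (nat_lit 1117), (nat_lit 557), (nat_lit 517), (nat_lit 466), (nat_lit 576), (nat_lit 1224), (nat_lit 1218), (nat_lit 563), (nat_lit 570), (nat_lit 506), (nat_lit 580), (nat_lit 1232), (nat_lit 1204), (nat_lit 474), (nat_lit 589), (nat_lit 569), (nat_lit 555),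
 (nat_lit 3544), (nat_lit 3660), (nat_lit 899), (nat_lit 319), (nat_lit 3467), (nat_lit 3643), (nat_lit 907), (nat_lit 457), (nat_lit 2192), (nat_lit 2644), (nat_lit 3252), (nat_lit 3409), (nat_lit 1911), (nat_lit 2068), (nat_lit 3325), (nat_lit 3069), (nat_lit 2130), (nat_lit 2210), (nat_lit 3804), (nat_lit 3500), (nat_lit 1776), (nat_lit 1858), (nat_lit 3446), (nat_lit 3534), (nat_lit 3586), (nat_lit 3672), (nat_lit 885), (nat_lit 301), (nat_lit 3121), (nat_lit 3351),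
 (nat_lit 867), (nat_lit 927), (nat_lit 524), (nat_lit 541), (nat_lit 1222), (nat_lit 1233), (nat_lit 480), (nat_lit 489), (nat_lit 559), (nat_lit 565), (nat_lit 522), (nat_lit 556), (nat_lit 475), (nat_lit 586), (nat_lit 1219), (nat_lit 1226), (nat_lit 490), (nat_lit 496), (nat_lit 1207), (nat_lit 1156), (nat_lit 1190), (nat_lit 1155), (nat_lit 514), (nat_lit 548), (nat_lit 1108), (nat_lit 1131), (nat_lit 1107), (nat_lit 1197), (nat_lit 520), (nat_lit 473),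
 (nat_lit 1160), (nat_lit 1151), (nat_lit 1227), (nat_lit 1129), (nat_lit 3605), (nat_lit 3664), (nat_lit 2516), (nat_lit 2611), (nat_lit 3597), (nat_lit 3471), (nat_lit 2673), (nat_lit 2072), (nat_lit 880), (nat_lit 164), (nat_lit 3349), (nat_lit 3116), (nat_lit 895), (nat_lit 313), (nat_lit 3651), (nat_lit 3527), (nat_lit 1115), (nat_lit 1153), (nat_lit 479), (nat_lit 500), (nat_lit 1128), (nat_lit 1137), (nat_lit 1203), (nat_lit 1152), (nat_lit 1169), (nat_lit 1133),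
 (nat_lit 1132), (nat_lit 1168), (nat_lit 494), (nat_lit 568), (nat_lit 1120), (nat_lit 1111), (nat_lit 1240), (nat_lit 937), (nat_lit 3588), (nat_lit 3653), (nat_lit 165), (nat_lit 317), (nat_lit 3343), (nat_lit 3108), (nat_lit 3387), (nat_lit 3217), (nat_lit 2640), (nat_lit 2094), (nat_lit 3394), (nat_lit 3225), (nat_lit 2646), (nat_lit 2509), (nat_lit 3799), (nat_lit 3484), (nat_lit 891), (nat_lit 309), (nat_lit 3587), (nat_lit 3654), (nat_lit 862), (nat_lit 923),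
 (nat_lit 1568), (nat_lit 1823), (nat_lit 3397), (nat_lit 3230), (nat_lit 2643), (nat_lit 2147), (nat_lit 3506), (nat_lit 3700), (nat_lit 585), (nat_lit 497), (nat_lit 467), (nat_lit 546), (nat_lit 1185), (nat_lit 1199), (nat_lit 510), (nat_lit 516), (nat_lit 561), (nat_lit 577), (nat_lit 1228), (nat_lit 1231), (nat_lit 468), (nat_lit 535), (nat_lit 534), (nat_lit 583), (nat_lit 1212), (nat_lit 1142), (nat_lit 571), (nat_lit 478), (nat_lit 593), (nat_lit 545),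
 (nat_lit 476), (nat_lit 581), (nat_lit 481), (nat_lit 486), (nat_lit 553), (nat_lit 588), (nat_lit 547), (nat_lit 513), (nat_lit 1229), (nat_lit 1172), (nat_lit 3249), (nat_lit 3406), (nat_lit 304), (nat_lit 887), (nat_lit 3554), (nat_lit 3656), (nat_lit 322), (nat_lit 901), (nat_lit 2668), (nat_lit 2150), (nat_lit 3596), (nat_lit 3421), (nat_lit 1773), (nat_lit 1855), (nat_lit 3536), (nat_lit 3699), (nat_lit 876), (nat_lit 160), (nat_lit 3590), (nat_lit 3685),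
 (nat_lit 865), (nat_lit 316), (nat_lit 3400), (nat_lit 3236), (nat_lit 3675), (nat_lit 3644), (nat_lit 2211), (nat_lit 2491), (nat_lit 3614), (nat_lit 3425), (nat_lit 2596), (nat_lit 2099), (nat_lit 1159), (nat_lit 1112), (nat_lit 1139), (nat_lit 1126), (nat_lit 1147), (nat_lit 1215), (nat_lit 521), (nat_lit 529), (nat_lit 533), (nat_lit 507), (nat_lit 1166), (nat_lit 1127), (nat_lit 1140), (nat_lit 1193), (nat_lit 1176), (nat_lit 1183), (nat_lit 3541), (nat_lit 3691),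
 (nat_lit 2091), (nat_lit 2205), (nat_lit 3392), (nat_lit 3223), (nat_lit 2654), (nat_lit 2517), (nat_lit 942), (nat_lit 936), (nat_lit 3824), (nat_lit 3456), (nat_lit 168), (nat_lit 861), (nat_lit 3601), (nat_lit 3831), (nat_lit 484), (nat_lit 567), (nat_lit 1121), (nat_lit 1182), (nat_lit 1163), (nat_lit 1221), (nat_lit 1217), (nat_lit 1210), (nat_lit 1118), (nat_lit 1136), (nat_lit 1162), (nat_lit 1149), (nat_lit 1116), (nat_lit 1223), (nat_lit 573), (nat_lit 501),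
 (nat_lit 512), (nat_lit 471), (nat_lit 550), (nat_lit 558), (nat_lit 493), (nat_lit 539), (nat_lit 1200), (nat_lit 1191), (nat_lit 1180), (nat_lit 1161), (nat_lit 542), (nat_lit 472), (nat_lit 572), (nat_lit 582), (nat_lit 505), (nat_lit 527), (nat_lit 1867), (nat_lit 1799), (nat_lit 3522), (nat_lit 3462), (nat_lit 2493), (nat_lit 2144), (nat_lit 3570), (nat_lit 3680), (nat_lit 3600), (nat_lit 3796), (nat_lit 312), (nat_lit 894), (nat_lit 3174), (nat_lit 3364),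
 (nat_lit 898), (nat_lit 318), (nat_lit 3251), (nat_lit 3408), (nat_lit 2163), (nat_lit 2054), (nat_lit 1072), (nat_lit 1035), (nat_lit 981), (nat_lit 996), (nat_lit 645), (nat_lit 726), (nat_lit 612), (nat_lit 706), (nat_lit 3363), (nat_lit 3173), (nat_lit 3123), (nat_lit 3119), (nat_lit 651), (nat_lit 636), (nat_lit 713), (nat_lit 675), (nat_lit 2973), (nat_lit 3275), (nat_lit 3318), (nat_lit 3051), (nat_lit 2137), (nat_lit 2481), (nat_lit 3706), (nat_lit 3429),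
 (nat_lit 614), (nat_lit 705), (nat_lit 670), (nat_lit 709), (nat_lit 1052), (nat_lit 998), (nat_lit 1007), (nat_lit 1024), (nat_lit 2179), (nat_lit 2559), (nat_lit 3442), (nat_lit 3547), (nat_lit 3453), (nat_lit 3465), (nat_lit 3482), (nat_lit 3598), (nat_lit 622), (nat_lit 724), (nat_lit 605), (nat_lit 730), (nat_lit 3048), (nat_lit 3316), (nat_lit 3439), (nat_lit 3496), (nat_lit 633), (nat_lit 703), (nat_lit 672), (nat_lit 687), (nat_lit 646), (nat_lit 683),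
 (nat_lit 631), (nat_lit 710), (nat_lit 3286), (nat_lit 2998), (nat_lit 1829), (nat_lit 1599), (nat_lit 654), (nat_lit 665), (nat_lit 690), (nat_lit 681), (nat_lit 3373), (nat_lit 3191), (nat_lit 1838), (nat_lit 1746), (nat_lit 3642), (nat_lit 3772), (nat_lit 3023), (nat_lit 3298), (nat_lit 686), (nat_lit 676), (nat_lit 652), (nat_lit 637), (nat_lit 3403), (nat_lit 3240), (nat_lit 3311), (nat_lit 3043), (nat_lit 613), (nat_lit 707), (nat_lit 644), (nat_lit 693),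
 (nat_lit 1042), (nat_lit 1092), (nat_lit 1018), (nat_lit 1029), (nat_lit 2519), (nat_lit 2050), (nat_lit 3493), (nat_lit 3603), (nat_lit 1748), (nat_lit 1840), (nat_lit 3708), (nat_lit 3573), (nat_lit 630), (nat_lit 623), (nat_lit 660), (nat_lit 643), (nat_lit 615), (nat_lit 634), (nat_lit 647), (nat_lit 673), (nat_lit 2970), (nat_lit 3273), (nat_lit 3478), (nat_lit 3542), (nat_lit 664), (nat_lit 699), (nat_lit 603), (nat_lit 721), (nat_lit 3494), (nat_lit 3553),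
 (nat_lit 2975), (nat_lit 3241), (nat_lit 3221), (nat_lit 3391), (nat_lit 2114), (nat_lit 2052), (nat_lit 1088), (nat_lit 1060), (nat_lit 1074), (nat_lit 990), (nat_lit 1020), (nat_lit 976), (nat_lit 987), (nat_lit 1077), (nat_lit 3194), (nat_lit 3375), (nat_lit 3206), (nat_lit 3380), (nat_lit 1738), (nat_lit 1835), (nat_lit 3485), (nat_lit 3690), (nat_lit 641), (nat_lit 685), (nat_lit 677), (nat_lit 727), (nat_lit 3602), (nat_lit 3502), (nat_lit 1303), (nat_lit 1817),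
 (nat_lit 1056), (nat_lit 977), (nat_lit 1040), (nat_lit 1067), (nat_lit 1076), (nat_lit 1084), (nat_lit 971), (nat_lit 1058), (nat_lit 3361), (nat_lit 3171), (nat_lit 3376), (nat_lit 3197), (nat_lit 3631), (nat_lit 3515), (nat_lit 3416), (nat_lit 3263), (nat_lit 1033), (nat_lit 1047), (nat_lit 1023), (nat_lit 994), (nat_lit 696), (nat_lit 625), (nat_lit 679), (nat_lit 648), (nat_lit 3285), (nat_lit 2996), (nat_lit 1830), (nat_lit 1729), (nat_lit 1091), (nat_lit 1050),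
 (nat_lit 1016), (nat_lit 1026), (nat_lit 1827), (nat_lit 1593), (nat_lit 3580), (nat_lit 3550), (nat_lit 3377), (nat_lit 3198), (nat_lit 3683), (nat_lit 3599), (nat_lit 974), (nat_lit 1073), (nat_lit 984), (nat_lit 1081), (nat_lit 3290), (nat_lit 3003), (nat_lit 3360), (nat_lit 3168), (nat_lit 1012), (nat_lit 1097), (nat_lit 978), (nat_lit 1062), (nat_lit 1041), (nat_lit 1004), (nat_lit 1055), (nat_lit 1071), (nat_lit 1876), (nat_lit 2182), (nat_lit 3216), (nat_lit 3386),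
 (nat_lit 610), (nat_lit 661), (nat_lit 680), (nat_lit 691), (nat_lit 3188), (nat_lit 3371), (nat_lit 2133), (nat_lit 1900), (nat_lit 3684), (nat_lit 3435), (nat_lit 3341), (nat_lit 3103), (nat_lit 1083), (nat_lit 1001), (nat_lit 1037), (nat_lit 1043), (nat_lit 985), (nat_lit 1096), (nat_lit 973), (nat_lit 1086), (nat_lit 3183), (nat_lit 3369), (nat_lit 3279), (nat_lit 2978), (nat_lit 3219), (nat_lit 3389), (nat_lit 2127), (nat_lit 2206), (nat_lit 1090), (nat_lit 992),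
 (nat_lit 1011), (nat_lit 999), (nat_lit 1750), (nat_lit 1841), (nat_lit 2990), (nat_lit 3282), (nat_lit 632), (nat_lit 689), (nat_lit 692), (nat_lit 653), (nat_lit 1022), (nat_lit 991), (nat_lit 1030), (nat_lit 1046), (nat_lit 3129), (nat_lit 3357), (nat_lit 3543), (nat_lit 3659), (nat_lit 1897), (nat_lit 2520), (nat_lit 3577), (nat_lit 3422), (nat_lit 638), (nat_lit 720), (nat_lit 628), (nat_lit 718), (nat_lit 1014), (nat_lit 1002), (nat_lit 1038), (nat_lit 1065),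
 (nat_lit 3323), (nat_lit 3067), (nat_lit 3610), (nat_lit 3551), (nat_lit 1009), (nat_lit 1094), (nat_lit 979), (nat_lit 1068), (nat_lit 3399), (nat_lit 3235), (nat_lit 3300), (nat_lit 3026), (nat_lit 3045), (nat_lit 3313), (nat_lit 2111), (nat_lit 2075), (nat_lit 1082), (nat_lit 1005), (nat_lit 988), (nat_lit 1059), (nat_lit 640), (nat_lit 616), (nat_lit 698), (nat_lit 667), (nat_lit 3520), (nat_lit 3479), (nat_lit 1845), (nat_lit 1756), (nat_lit 3310), (nat_lit 3039),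
 (nat_lit 3082), (nat_lit 3333), (nat_lit 1021), (nat_lit 1063), (nat_lit 1078), (nat_lit 1048), (nat_lit 3518), (nat_lit 3426), (nat_lit 3472), (nat_lit 3668), (nat_lit 989), (nat_lit 1093), (nat_lit 972), (nat_lit 1087), (nat_lit 1054), (nat_lit 1025), (nat_lit 1044), (nat_lit 1051), (nat_lit 1820), (nat_lit 1309), (nat_lit 3411), (nat_lit 3255), (nat_lit 1095), (nat_lit 1070), (nat_lit 995), (nat_lit 1006), (nat_lit 1884), (nat_lit 2208), (nat_lit 3595), (nat_lit 3725),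
 (nat_lit 3317), (nat_lit 3049), (nat_lit 3591), (nat_lit 3612), (nat_lit 980), (nat_lit 1069), (nat_lit 1008), (nat_lit 1061), (nat_lit 3697), (nat_lit 3626), (nat_lit 2992), (nat_lit 3283), (nat_lit 1039), (nat_lit 1064), (nat_lit 1015), (nat_lit 1003), (nat_lit 642), (nat_lit 688), (nat_lit 621), (nat_lit 716), (nat_lit 3424), (nat_lit 3575), (nat_lit 1863), (nat_lit 1792), (nat_lit 3413), (nat_lit 3258), (nat_lit 2159), (nat_lit 1873), (nat_lit 1036), (nat_lit 983),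
 (nat_lit 1031), (nat_lit 1049), (nat_lit 1028), (nat_lit 1066), (nat_lit 970), (nat_lit 1080), (nat_lit 3473), (nat_lit 3546), (nat_lit 3289), (nat_lit 3002), (nat_lit 982), (nat_lit 1000), (nat_lit 1019), (nat_lit 1010), (nat_lit 3306), (nat_lit 3032), (nat_lit 3483), (nat_lit 3563), (nat_lit 1892), (nat_lit 2510), (nat_lit 3384), (nat_lit 3211), (nat_lit 697), (nat_lit 662), (nat_lit 671), (nat_lit 682), (nat_lit 702), (nat_lit 723), (nat_lit 604), (nat_lit 704),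
 (nat_lit 3398), (nat_lit 3233), (nat_lit 3035), (nat_lit 3309), (nat_lit 3047), (nat_lit 3315), (nat_lit 2156), (nat_lit 2538), (nat_lit 1053), (nat_lit 1089), (nat_lit 1013), (nat_lit 1034), (nat_lit 1896), (nat_lit 2202), (nat_lit 3578), (nat_lit 3571), (nat_lit 655), (nat_lit 650), (nat_lit 663), (nat_lit 639), (nat_lit 657), (nat_lit 609), (nat_lit 715), (nat_lit 620), (nat_lit 3021), (nat_lit 3070), (nat_lit 3186), (nat_lit 3370), (nat_lit 3053), (nat_lit 3244),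
 (nat_lit 3436), (nat_lit 3658), (nat_lit 607), (nat_lit 722), (nat_lit 617), (nat_lit 719), (nat_lit 1085), (nat_lit 1045), (nat_lit 1075), (nat_lit 997), (nat_lit 2066), (nat_lit 2186), (nat_lit 3229), (nat_lit 3396), (nat_lit 629), (nat_lit 712), (nat_lit 694), (nat_lit 678), (nat_lit 3481), (nat_lit 3636), (nat_lit 2151), (nat_lit 1894), (nat_lit 3628), (nat_lit 3582), (nat_lit 2968), (nat_lit 3081), (nat_lit 700), (nat_lit 669), (nat_lit 659), (nat_lit 627),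
 (nat_lit 3438), (nat_lit 3771), (nat_lit 3238), (nat_lit 3050), (nat_lit 656), (nat_lit 635), (nat_lit 714), (nat_lit 674), (nat_lit 619), (nat_lit 717), (nat_lit 626), (nat_lit 708), (nat_lit 2969), (nat_lit 3272), (nat_lit 2197), (nat_lit 1887), (nat_lit 993), (nat_lit 1057), (nat_lit 1027), (nat_lit 986), (nat_lit 2056), (nat_lit 2109), (nat_lit 3054), (nat_lit 3320), (nat_lit 3084), (nat_lit 3118), (nat_lit 3378), (nat_lit 3199), (nat_lit 649), (nat_lit 729),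
 (nat_lit 611), (nat_lit 725), (nat_lit 658), (nat_lit 624), (nat_lit 701), (nat_lit 666), (nat_lit 3031), (nat_lit 3305), (nat_lit 3565), (nat_lit 3440), (nat_lit 2102), (nat_lit 2083), (nat_lit 3022), (nat_lit 3297), (nat_lit 608), (nat_lit 684), (nat_lit 668), (nat_lit 711), (nat_lit 3260), (nat_lit 3414), (nat_lit 2105), (nat_lit 2527), (nat_lit 1032), (nat_lit 1079), (nat_lit 1017), (nat_lit 975), (nat_lit 618), (nat_lit 728), (nat_lit 606), (nat_lit 695),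
 (nat_lit 3374), (nat_lit 3192), (nat_lit 3469), (nat_lit 3466), (nat_lit 3040), (nat_lit 3189), (nat_lit 2220), (nat_lit 2313), (nat_lit 893), (nat_lit 311), (nat_lit 2393), (nat_lit 2395), (nat_lit 2414), (nat_lit 2473), (nat_lit 1842), (nat_lit 1751), (nat_lit 2471), (nat_lit 2476), (nat_lit 3415), (nat_lit 3261), (nat_lit 2404), (nat_lit 2407), (nat_lit 3686), (nat_lit 3509), (nat_lit 2219), (nat_lit 2299), (nat_lit 3356), (nat_lit 3128), (nat_lit 1865), (nat_lit 1796),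
 (nat_lit 2458), (nat_lit 2381), (nat_lit 2599), (nat_lit 2632), (nat_lit 2419), (nat_lit 2474), (nat_lit 2230), (nat_lit 2250), (nat_lit 3242), (nat_lit 3104), (nat_lit 2444), (nat_lit 2446), (nat_lit 3508), (nat_lit 3564), (nat_lit 2090), (nat_lit 2675), (nat_lit 2472), (nat_lit 2454), (nat_lit 1899), (nat_lit 2074), (nat_lit 2398), (nat_lit 2437), (nat_lit 595), (nat_lit 915), (nat_lit 2371), (nat_lit 2374), (nat_lit 3477), (nat_lit 3634), (nat_lit 2234), (nat_lit 2324),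
 (nat_lit 2468), (nat_lit 2434), (nat_lit 3265), (nat_lit 3417), (nat_lit 2470), (nat_lit 2447), (nat_lit 1910), (nat_lit 2588), (nat_lit 2285), (nat_lit 2262), (nat_lit 3365), (nat_lit 3175), (nat_lit 2406), (nat_lit 2354), (nat_lit 3427), (nat_lit 3621), (nat_lit 1438), (nat_lit 1821), (nat_lit 2310), (nat_lit 2323), (nat_lit 2752), (nat_lit 2768), (nat_lit 2280), (nat_lit 2236), (nat_lit 3044), (nat_lit 3312), (nat_lit 2423), (nat_lit 2402), (nat_lit 315), (nat_lit 897),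
 (nat_lit 2284), (nat_lit 2268), (nat_lit 2275), (nat_lit 2247), (nat_lit 2084), (nat_lit 2146), (nat_lit 2311), (nat_lit 2287), (nat_lit 3237), (nat_lit 3401), (nat_lit 935), (nat_lit 952), (nat_lit 2316), (nat_lit 2245), (nat_lit 3556), (nat_lit 3488), (nat_lit 2384), (nat_lit 2363), (nat_lit 2337), (nat_lit 2329), (nat_lit 3499), (nat_lit 3604), (nat_lit 2315), (nat_lit 2270), (nat_lit 2580), (nat_lit 2566), (nat_lit 2367), (nat_lit 2350), (nat_lit 3178), (nat_lit 3368),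
 (nat_lit 2238), (nat_lit 2321), (nat_lit 3257), (nat_lit 3412), (nat_lit 1854), (nat_lit 1768), (nat_lit 2322), (nat_lit 2260), (nat_lit 1824), (nat_lit 1572), (nat_lit 2336), (nat_lit 2278), (nat_lit 2450), (nat_lit 2461), (nat_lit 1861), (nat_lit 1785), (nat_lit 2366), (nat_lit 2382), (nat_lit 2672), (nat_lit 2060), (nat_lit 3243), (nat_lit 3404), (nat_lit 2428), (nat_lit 2396), (nat_lit 3008), (nat_lit 3294), (nat_lit 2253), (nat_lit 2301), (nat_lit 2707), (nat_lit 2576),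
 (nat_lit 2356), (nat_lit 2400), (nat_lit 3645), (nat_lit 3589), (nat_lit 2438), (nat_lit 2411), (nat_lit 2218), (nat_lit 2300), (nat_lit 3383), (nat_lit 3209), (nat_lit 2415), (nat_lit 2397), (nat_lit 596), (nat_lit 916), (nat_lit 3284), (nat_lit 2995), (nat_lit 2429), (nat_lit 2460), (nat_lit 2194), (nat_lit 2112), (nat_lit 2380), (nat_lit 2362), (nat_lit 2449), (nat_lit 2376), (nat_lit 889), (nat_lit 307), (nat_lit 2227), (nat_lit 2251), (nat_lit 3629), (nat_lit 3516),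
 (nat_lit 2410), (nat_lit 2388), (nat_lit 2628), (nat_lit 2633), (nat_lit 2430), (nat_lit 2418), (nat_lit 1920), (nat_lit 2185), (nat_lit 3239), (nat_lit 3402), (nat_lit 2237), (nat_lit 2252), (nat_lit 3661), (nat_lit 3492), (nat_lit 2463), (nat_lit 2375), (nat_lit 2575), (nat_lit 2567), (nat_lit 2279), (nat_lit 2272), (nat_lit 3172), (nat_lit 3362), (nat_lit 2271), (nat_lit 2294), (nat_lit 2422), (nat_lit 2386), (nat_lit 3594), (nat_lit 3428), (nat_lit 2288), (nat_lit 2264),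
 (nat_lit 879), (nat_lit 163), (nat_lit 2341), (nat_lit 2342), (nat_lit 1747), (nat_lit 1839), (nat_lit 2239), (nat_lit 2246), (nat_lit 2119), (nat_lit 2676), (nat_lit 3001), (nat_lit 3234), (nat_lit 2282), (nat_lit 2265), (nat_lit 3449), (nat_lit 3530), (nat_lit 2477), (nat_lit 2389), (nat_lit 2263), (nat_lit 2269), (nat_lit 2604), (nat_lit 2716), (nat_lit 2302), (nat_lit 2338), (nat_lit 2162), (nat_lit 2067), (nat_lit 3097), (nat_lit 3338), (nat_lit 2443), (nat_lit 2359),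
 (nat_lit 3292), (nat_lit 3005), (nat_lit 2242), (nat_lit 2325), (nat_lit 3572), (nat_lit 3576), (nat_lit 2244), (nat_lit 2333), (nat_lit 2055), (nat_lit 2171), (nat_lit 2249), (nat_lit 2317), (nat_lit 2241), (nat_lit 2334), (nat_lit 601), (nat_lit 456), (nat_lit 2383), (nat_lit 2358), (nat_lit 3548), (nat_lit 3514), (nat_lit 2203), (nat_lit 2148), (nat_lit 2344), (nat_lit 2343), (nat_lit 2191), (nat_lit 2634), (nat_lit 2295), (nat_lit 2223), (nat_lit 2235), (nat_lit 2326),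
 (nat_lit 3248), (nat_lit 3405), (nat_lit 2466), (nat_lit 2368), (nat_lit 3071), (nat_lit 3326), (nat_lit 2233), (nat_lit 2290), (nat_lit 2564), (nat_lit 2704), (nat_lit 2248), (nat_lit 2331), (nat_lit 3701), (nat_lit 3632), (nat_lit 3545), (nat_lit 3662), (nat_lit 2373), (nat_lit 2364), (nat_lit 954), (nat_lit 946), (nat_lit 2314), (nat_lit 2330), (nat_lit 2267), (nat_lit 2297), (nat_lit 3507), (nat_lit 3474), (nat_lit 2256), (nat_lit 2298), (nat_lit 2161), (nat_lit 2062),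
 (nat_lit 152), (nat_lit 12), (nat_lit 2293), (nat_lit 2274), (nat_lit 3007), (nat_lit 3293), (nat_lit 2357), (nat_lit 2352), (nat_lit 2627), (nat_lit 2595), (nat_lit 2332), (nat_lit 2229), (nat_lit 1895), (nat_lit 2173), (nat_lit 2335), (nat_lit 2307), (nat_lit 2413), (nat_lit 2353), (nat_lit 3077), (nat_lit 3329), (nat_lit 2286), (nat_lit 2259), (nat_lit 3382), (nat_lit 3208), (nat_lit 2372), (nat_lit 2455), (nat_lit 2605), (nat_lit 2574), (nat_lit 2467), (nat_lit 2435),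
 (nat_lit 3552), (nat_lit 3423), (nat_lit 3705), (nat_lit 3627), (nat_lit 2217), (nat_lit 2318), (nat_lit 598), (nat_lit 917), (nat_lit 2369), (nat_lit 2456), (nat_lit 2136), (nat_lit 2155), (nat_lit 2416), (nat_lit 2436), (nat_lit 2601), (nat_lit 2168), (nat_lit 2405), (nat_lit 2421), (nat_lit 2442), (nat_lit 2451), (nat_lit 3395), (nat_lit 3226), (nat_lit 2231), (nat_lit 2308), (nat_lit 3196), (nat_lit 3006), (nat_lit 2626), (nat_lit 2724), (nat_lit 2465), (nat_lit 2445),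
 (nat_lit 1913), (nat_lit 2113), (nat_lit 2459), (nat_lit 2452), (nat_lit 2273), (nat_lit 2261), (nat_lit 3262), (nat_lit 2980), (nat_lit 2403), (nat_lit 2424), (nat_lit 3497), (nat_lit 3593), (nat_lit 2408), (nat_lit 2432), (nat_lit 3606), (nat_lit 3569), (nat_lit 2420), (nat_lit 2394), (nat_lit 2122), (nat_lit 2184), (nat_lit 171), (nat_lit 883), (nat_lit 2390), (nat_lit 2425), (nat_lit 3288), (nat_lit 3000), (nat_lit 2221), (nat_lit 2257), (nat_lit 2448), (nat_lit 2441),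
 (nat_lit 3218), (nat_lit 3388), (nat_lit 2319), (nat_lit 2232), (nat_lit 303), (nat_lit 597), (nat_lit 2093), (nat_lit 2138), (nat_lit 2296), (nat_lit 2306), (nat_lit 3407), (nat_lit 3250), (nat_lit 2339), (nat_lit 2327), (nat_lit 3633), (nat_lit 3501), (nat_lit 2243), (nat_lit 2228), (nat_lit 2979), (nat_lit 3280), (nat_lit 2457), (nat_lit 2360), (nat_lit 2305), (nat_lit 2281), (nat_lit 2085), (nat_lit 1882), (nat_lit 2283), (nat_lit 2289), (nat_lit 1907), (nat_lit 2587),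
 (nat_lit 3004), (nat_lit 3291), (nat_lit 2412), (nat_lit 2351), (nat_lit 3476), (nat_lit 3692), (nat_lit 2222), (nat_lit 2266), (nat_lit 2309), (nat_lit 2328), (nat_lit 2610), (nat_lit 2514), (nat_lit 2303), (nat_lit 2320), (nat_lit 1877), (nat_lit 2183), (nat_lit 2255), (nat_lit 2277), (nat_lit 939), (nat_lit 1235), (nat_lit 2392), (nat_lit 2385), (nat_lit 3687), (nat_lit 3437), (nat_lit 3204), (nat_lit 3379), (nat_lit 2304), (nat_lit 2291), (nat_lit 2579), (nat_lit 2565),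
 (nat_lit 2312), (nat_lit 2292), (nat_lit 3555), (nat_lit 3657), (nat_lit 2378), (nat_lit 2365), (nat_lit 3253), (nat_lit 3410), (nat_lit 2225), (nat_lit 2240), (nat_lit 2426), (nat_lit 2401), (nat_lit 1844), (nat_lit 1754), (nat_lit 2379), (nat_lit 2440), (nat_lit 2591), (nat_lit 2631), (nat_lit 2226), (nat_lit 2340), (nat_lit 3177), (nat_lit 3367), (nat_lit 2453), (nat_lit 2361), (nat_lit 881), (nat_lit 167), (nat_lit 1857), (nat_lit 1775), (nat_lit 2370), (nat_lit 2439),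
 (nat_lit 2988), (nat_lit 3281), (nat_lit 2464), (nat_lit 2469), (nat_lit 2409), (nat_lit 2355), (nat_lit 918), (nat_lit 599), (nat_lit 2258), (nat_lit 2276), (nat_lit 3176), (nat_lit 3366), (nat_lit 3681), (nat_lit 3503), (nat_lit 2475), (nat_lit 2427), (nat_lit 1898), (nat_lit 2573), (nat_lit 2417), (nat_lit 2391), (nat_lit 3264), (nat_lit 3072), (nat_lit 2254), (nat_lit 2224), (nat_lit 3667), (nat_lit 3567), (nat_lit 2431), (nat_lit 2387), (nat_lit 2433), (nat_lit 2399),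
 (nat_lit 2678), (nat_lit 2143), (nat_lit 2377), (nat_lit 2462), (nat_lit 1916), (nat_lit 2160), (nat_lit 2873), (nat_lit 2832), (nat_lit 2020), (nat_lit 1967), (nat_lit 1795), (nat_lit 1781), (nat_lit 1687), (nat_lit 1602), (nat_lit 1728), (nat_lit 1603), (nat_lit 2989), (nat_lit 2966), (nat_lit 2021), (nat_lit 1933), (nat_lit 2639), (nat_lit 2731), (nat_lit 2790), (nat_lit 2843), (nat_lit 1697), (nat_lit 1630), (nat_lit 3358), (nat_lit 3150), (nat_lit 1701), (nat_lit 1614),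
 (nat_lit 1698), (nat_lit 1622), (nat_lit 2971), (nat_lit 2782), (nat_lit 1613), (nat_lit 1629), (nat_lit 600), (nat_lit 919), (nat_lit 1725), (nat_lit 1628), (nat_lit 2852), (nat_lit 2891), (nat_lit 1986), (nat_lit 1981), (nat_lit 1843), (nat_lit 1753), (nat_lit 2750), (nat_lit 2981), (nat_lit 1951), (nat_lit 1944), (nat_lit 2737), (nat_lit 2657), (nat_lit 1693), (nat_lit 1671), (nat_lit 2042), (nat_lit 1932), (nat_lit 3254), (nat_lit 2920), (nat_lit 1995), (nat_lit 2008),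
 (nat_lit 3137), (nat_lit 3166), (nat_lit 2887), (nat_lit 2764), (nat_lit 2014), (nat_lit 1979), (nat_lit 1307), (nat_lit 1290), (nat_lit 2047), (nat_lit 1937), (nat_lit 1927), (nat_lit 2045), (nat_lit 3138), (nat_lit 3155), (nat_lit 1719), (nat_lit 1690), (nat_lit 2953), (nat_lit 2900), (nat_lit 1272), (nat_lit 1101), (nat_lit 1709), (nat_lit 1618), (nat_lit 2671), (nat_lit 2745), (nat_lit 1945), (nat_lit 2044), (nat_lit 1684), (nat_lit 1664), (nat_lit 1308), (nat_lit 1266),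
 (nat_lit 1660), (nat_lit 1643), (nat_lit 2909), (nat_lit 2748), (nat_lit 2875), (nat_lit 3170), (nat_lit 1665), (nat_lit 1608), (nat_lit 2777), (nat_lit 2854), (nat_lit 1617), (nat_lit 1699), (nat_lit 3139), (nat_lit 3154), (nat_lit 1691), (nat_lit 1718), (nat_lit 2882), (nat_lit 2817), (nat_lit 1964), (nat_lit 1973), (nat_lit 2013), (nat_lit 1993), (nat_lit 1275), (nat_lit 1098), (nat_lit 1649), (nat_lit 1724), (nat_lit 2789), (nat_lit 3063), (nat_lit 1286), (nat_lit 964),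
 (nat_lit 2006), (nat_lit 1959), (nat_lit 2689), (nat_lit 2504), (nat_lit 2040), (nat_lit 1958), (nat_lit 2029), (nat_lit 2036), (nat_lit 2629), (nat_lit 2725), (nat_lit 2018), (nat_lit 1925), (nat_lit 2922), (nat_lit 3228), (nat_lit 1695), (nat_lit 1605), (nat_lit 921), (nat_lit 731), (nat_lit 1929), (nat_lit 1997), (nat_lit 3064), (nat_lit 2784), (nat_lit 3163), (nat_lit 3147), (nat_lit 1943), (nat_lit 2027), (nat_lit 2860), (nat_lit 2840), (nat_lit 1675), (nat_lit 1637),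
 (nat_lit 1624), (nat_lit 1634), (nat_lit 2910), (nat_lit 2803), (nat_lit 1659), (nat_lit 1726), (nat_lit 3214), (nat_lit 2958), (nat_lit 903), (nat_lit 324), (nat_lit 1703), (nat_lit 1620), (nat_lit 2827), (nat_lit 2779), (nat_lit 1702), (nat_lit 1612), (nat_lit 869), (nat_lit 929), (nat_lit 1983), (nat_lit 1961), (nat_lit 2766), (nat_lit 2814), (nat_lit 1708), (nat_lit 1696), (nat_lit 1688), (nat_lit 1653), (nat_lit 3146), (nat_lit 3164), (nat_lit 1984), (nat_lit 2026),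
 (nat_lit 2917), (nat_lit 2942), (nat_lit 2833), (nat_lit 2934), (nat_lit 1974), (nat_lit 2004), (nat_lit 3227), (nat_lit 2895), (nat_lit 2038), (nat_lit 1922), (nat_lit 2046), (nat_lit 1930), (nat_lit 1825), (nat_lit 1573), (nat_lit 1998), (nat_lit 2000), (nat_lit 2890), (nat_lit 2905), (nat_lit 2775), (nat_lit 2993), (nat_lit 1710), (nat_lit 1615), (nat_lit 2812), (nat_lit 3158), (nat_lit 1989), (nat_lit 1965), (nat_lit 1990), (nat_lit 1935), (nat_lit 2894), (nat_lit 2848),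
 (nat_lit 1712), (nat_lit 1610), (nat_lit 1741), (nat_lit 1837), (nat_lit 2845), (nat_lit 2760), (nat_lit 1666), (nat_lit 1606), (nat_lit 1287), (nat_lit 1270), (nat_lit 1644), (nat_lit 1676), (nat_lit 1721), (nat_lit 1677), (nat_lit 2956), (nat_lit 3215), (nat_lit 1645), (nat_lit 1655), (nat_lit 3167), (nat_lit 3142), (nat_lit 1928), (nat_lit 1970), (nat_lit 2984), (nat_lit 2965), (nat_lit 1632), (nat_lit 1716), (nat_lit 2808), (nat_lit 3159), (nat_lit 2874), (nat_lit 2831),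
 (nat_lit 1667), (nat_lit 1678), (nat_lit 1743), (nat_lit 1779), (nat_lit 2009), (nat_lit 1971), (nat_lit 2007), (nat_lit 2031), (nat_lit 2859), (nat_lit 2987), (nat_lit 2041), (nat_lit 1980), (nat_lit 1805), (nat_lit 968), (nat_lit 3256), (nat_lit 2885), (nat_lit 2003), (nat_lit 1962), (nat_lit 3130), (nat_lit 2767), (nat_lit 1953), (nat_lit 2035), (nat_lit 2717), (nat_lit 2607), (nat_lit 2043), (nat_lit 1948), (nat_lit 3145), (nat_lit 2813), (nat_lit 2010), (nat_lit 1923),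
 (nat_lit 2049), (nat_lit 1924), (nat_lit 1255), (nat_lit 1293), (nat_lit 2033), (nat_lit 2030), (nat_lit 2929), (nat_lit 2810), (nat_lit 1261), (nat_lit 1242), (nat_lit 1938), (nat_lit 2024), (nat_lit 3117), (nat_lit 2898), (nat_lit 1674), (nat_lit 1670), (nat_lit 1689), (nat_lit 1635), (nat_lit 3231), (nat_lit 3200), (nat_lit 1988), (nat_lit 1994), (nat_lit 2925), (nat_lit 2994), (nat_lit 1642), (nat_lit 1647), (nat_lit 2880), (nat_lit 3179), (nat_lit 1722), (nat_lit 1669),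
 (nat_lit 3259), (nat_lit 2940), (nat_lit 1306), (nat_lit 1103), (nat_lit 1641), (nat_lit 1668), (nat_lit 2705), (nat_lit 2569), (nat_lit 1663), (nat_lit 1646), (nat_lit 1720), (nat_lit 1611), (nat_lit 1237), (nat_lit 1264), (nat_lit 1955), (nat_lit 2032), (nat_lit 3062), (nat_lit 2960), (nat_lit 3203), (nat_lit 3246), (nat_lit 1956), (nat_lit 1963), (nat_lit 2635), (nat_lit 2727), (nat_lit 1706), (nat_lit 1616), (nat_lit 2002), (nat_lit 1996), (nat_lit 2961), (nat_lit 2791),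
 (nat_lit 2015), (nat_lit 2005), (nat_lit 1297), (nat_lit 1248), (nat_lit 3267), (nat_lit 2807), (nat_lit 2034), (nat_lit 1939), (nat_lit 3136), (nat_lit 3169), (nat_lit 2019), (nat_lit 1969), (nat_lit 1949), (nat_lit 1934), (nat_lit 3152), (nat_lit 2986), (nat_lit 1656), (nat_lit 1717), (nat_lit 2886), (nat_lit 3232), (nat_lit 2712), (nat_lit 2583), (nat_lit 1692), (nat_lit 1705), (nat_lit 962), (nat_lit 1755), (nat_lit 1950), (nat_lit 2037), (nat_lit 2732), (nat_lit 2647),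
 (nat_lit 1700), (nat_lit 1625), (nat_lit 944), (nat_lit 1280), (nat_lit 1707), (nat_lit 1623), (nat_lit 1658), (nat_lit 1727), (nat_lit 2939), (nat_lit 3157), (nat_lit 1621), (nat_lit 1626), (nat_lit 3148), (nat_lit 3165), (nat_lit 3213), (nat_lit 2964), (nat_lit 1680), (nat_lit 1636), (nat_lit 2893), (nat_lit 3247), (nat_lit 1940), (nat_lit 1977), (nat_lit 2001), (nat_lit 1976), (nat_lit 2736), (nat_lit 2653), (nat_lit 1682), (nat_lit 1604), (nat_lit 956), (nat_lit 1797),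
 (nat_lit 2017), (nat_lit 1926), (nat_lit 3182), (nat_lit 3013), (nat_lit 2023), (nat_lit 2028), (nat_lit 2773), (nat_lit 3132), (nat_lit 2751), (nat_lit 2982), (nat_lit 1954), (nat_lit 2039), (nat_lit 1259), (nat_lit 1813), (nat_lit 2048), (nat_lit 1960), (nat_lit 1686), (nat_lit 1652), (nat_lit 2740), (nat_lit 2665), (nat_lit 2012), (nat_lit 1999), (nat_lit 1752), (nat_lit 1740), (nat_lit 2962), (nat_lit 3144), (nat_lit 1966), (nat_lit 1972), (nat_lit 2850), (nat_lit 3245),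
 (nat_lit 1711), (nat_lit 1683), (nat_lit 2638), (nat_lit 2730), (nat_lit 1651), (nat_lit 1685), (nat_lit 3205), (nat_lit 3140), (nat_lit 1672), (nat_lit 1654), (nat_lit 1640), (nat_lit 1648), (nat_lit 2685), (nat_lit 2483), (nat_lit 1650), (nat_lit 1607), (nat_lit 1295), (nat_lit 1236), (nat_lit 2584), (nat_lit 2713), (nat_lit 1957), (nat_lit 1942), (nat_lit 1745), (nat_lit 1794), (nat_lit 1715), (nat_lit 1601), (nat_lit 1723), (nat_lit 1609), (nat_lit 2997), (nat_lit 2983),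
 (nat_lit 1987), (nat_lit 1968), (nat_lit 3268), (nat_lit 2844), (nat_lit 1244), (nat_lit 1811), (nat_lit 1992), (nat_lit 1936), (nat_lit 2581), (nat_lit 2710), (nat_lit 1975), (nat_lit 2011), (nat_lit 2016), (nat_lit 1991), (nat_lit 2839), (nat_lit 2931), (nat_lit 2022), (nat_lit 1931), (nat_lit 3014), (nat_lit 3153), (nat_lit 3135), (nat_lit 2786), (nat_lit 1673), (nat_lit 1681), (nat_lit 2687), (nat_lit 2500), (nat_lit 1952), (nat_lit 1941), (nat_lit 1985), (nat_lit 1982),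
 (nat_lit 1284), (nat_lit 1250), (nat_lit 1631), (nat_lit 1714), (nat_lit 2924), (nat_lit 3127), (nat_lit 1662), (nat_lit 1713), (nat_lit 1277), (nat_lit 953), (nat_lit 1619), (nat_lit 1627), (nat_lit 2734), (nat_lit 2651), (nat_lit 2800), (nat_lit 2915), (nat_lit 1704), (nat_lit 1633), (nat_lit 2667), (nat_lit 2742), (nat_lit 1661), (nat_lit 1638), (nat_lit 1946), (nat_lit 2025), (nat_lit 3134), (nat_lit 2778), (nat_lit 1694), (nat_lit 1657), (nat_lit 2936), (nat_lit 3156),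
 (nat_lit 1282), (nat_lit 1253), (nat_lit 1679), (nat_lit 1639), (nat_lit 3058), (nat_lit 2857), (nat_lit 1947), (nat_lit 1978), (nat_lit 0), (nat_lit 1), (nat_lit 1893), (nat_lit 2490), (nat_lit 3765), (nat_lit 3819), (nat_lit 3304), (nat_lit 3030), (nat_lit 2551), (nat_lit 2698), (nat_lit 2187), (nat_lit 2606), (nat_lit 3722), (nat_lit 3867), (nat_lit 3696), (nat_lit 3504), (nat_lit 3583), (nat_lit 3607), (nat_lit 3966), (nat_lit 3848), (nat_lit 1777), (nat_lit 1859),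
 (nat_lit 1901), (nat_lit 1871), (nat_lit 3301), (nat_lit 3027), (nat_lit 2729), (nat_lit 2637), (nat_lit 2069), (nat_lit 2347), (nat_lit 945), (nat_lit 1801), (nat_lit 3307), (nat_lit 3033), (nat_lit 3999), (nat_lit 4019), (nat_lit 1793), (nat_lit 1864), (nat_lit 877), (nat_lit 161), (nat_lit 3324), (nat_lit 3068), (nat_lit 3854), (nat_lit 3723), (nat_lit 2135), (nat_lit 2188), (nat_lit 2690), (nat_lit 2505), (nat_lit 1807), (nat_lit 1099), (nat_lit 2586), (nat_lit 1906),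
 (nat_lit 3864), (nat_lit 3971), (nat_lit 3679), (nat_lit 3430), (nat_lit 1574), (nat_lit 1274), (nat_lit 2214), (nat_lit 2076), (nat_lit 2709), (nat_lit 2578), (nat_lit 3608), (nat_lit 3759), (nat_lit 2082), (nat_lit 2497), (nat_lit 155), (nat_lit 871), (nat_lit 3332), (nat_lit 3080), (nat_lit 3817), (nat_lit 3741), (nat_lit 1732), (nat_lit 1833), (nat_lit 2959), (nat_lit 2901), (nat_lit 3609), (nat_lit 3648), (nat_lit 4024), (nat_lit 4027), (nat_lit 3857), (nat_lit 3969),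
 (nat_lit 3666), (nat_lit 3443), (nat_lit 1283), (nat_lit 1772), (nat_lit 2526), (nat_lit 2593), (nat_lit 2908), (nat_lit 3091), (nat_lit 3328), (nat_lit 3076), (nat_lit 1104), (nat_lit 1808), (nat_lit 1874), (nat_lit 2346), (nat_lit 3740), (nat_lit 3930), (nat_lit 3334), (nat_lit 3083), (nat_lit 6), (nat_lit 146), (nat_lit 2525), (nat_lit 2204), (nat_lit 4028), (nat_lit 4023), (nat_lit 3444), (nat_lit 3613), (nat_lit 2834), (nat_lit 2949), (nat_lit 2058), (nat_lit 2537),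
 (nat_lit 2089), (nat_lit 2106), (nat_lit 1759), (nat_lit 1847), (nat_lit 3447), (nat_lit 3702), (nat_lit 3918), (nat_lit 3718), (nat_lit 2216), (nat_lit 1885), (nat_lit 1872), (nat_lit 1869), (nat_lit 3616), (nat_lit 3538), (nat_lit 2919), (nat_lit 3270), (nat_lit 2967), (nat_lit 3271), (nat_lit 3958), (nat_lit 3834), (nat_lit 2656), (nat_lit 2543), (nat_lit 1238), (nat_lit 1769), (nat_lit 3302), (nat_lit 3028), (nat_lit 3060), (nat_lit 2871), (nat_lit 2518), (nat_lit 1921),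
 (nat_lit 1263), (nat_lit 1570), (nat_lit 875), (nat_lit 159), (nat_lit 2071), (nat_lit 2496), (nat_lit 3779), (nat_lit 3874), (nat_lit 3339), (nat_lit 3100), (nat_lit 2862), (nat_lit 2855), (nat_lit 2158), (nat_lit 1902), (nat_lit 3813), (nat_lit 3744), (nat_lit 3468), (nat_lit 3646), (nat_lit 1848), (nat_lit 1760), (nat_lit 2124), (nat_lit 2190), (nat_lit 3866), (nat_lit 3972), (nat_lit 3020), (nat_lit 3296), (nat_lit 1291), (nat_lit 1778), (nat_lit 1798), (nat_lit 1866),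
 (nat_lit 3222), (nat_lit 2884), (nat_lit 3342), (nat_lit 3105), (nat_lit 3094), (nat_lit 3335), (nat_lit 3906), (nat_lit 3995), (nat_lit 2489), (nat_lit 2560), (nat_lit 145), (nat_lit 5), (nat_lit 2976), (nat_lit 3277), (nat_lit 3931), (nat_lit 3745), (nat_lit 1904), (nat_lit 2512), (nat_lit 2836), (nat_lit 2865), (nat_lit 3923), (nat_lit 3729), (nat_lit 3419), (nat_lit 3693), (nat_lit 957), (nat_lit 1757), (nat_lit 1730), (nat_lit 1831), (nat_lit 3056), (nat_lit 2938),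
 (nat_lit 3078), (nat_lit 3330), (nat_lit 1786), (nat_lit 1296), (nat_lit 2149), (nat_lit 2529), (nat_lit 2485), (nat_lit 1878), (nat_lit 7), (nat_lit 147), (nat_lit 3758), (nat_lit 3619), (nat_lit 3842), (nat_lit 3868), (nat_lit 2597), (nat_lit 2086), (nat_lit 2508), (nat_lit 2691), (nat_lit 3319), (nat_lit 3052), (nat_lit 3849), (nat_lit 3967), (nat_lit 2535), (nat_lit 2550), (nat_lit 1764), (nat_lit 1578), (nat_lit 3354), (nat_lit 3125), (nat_lit 3952), (nat_lit 3809),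
 (nat_lit 2201), (nat_lit 2177), (nat_lit 866), (nat_lit 926), (nat_lit 3463), (nat_lit 3615), (nat_lit 3110), (nat_lit 2928), (nat_lit 3973), (nat_lit 3869), (nat_lit 3455), (nat_lit 3618), (nat_lit 154), (nat_lit 870), (nat_lit 2498), (nat_lit 2053), (nat_lit 3988), (nat_lit 3898), (nat_lit 3034), (nat_lit 3308), (nat_lit 2771), (nat_lit 2926), (nat_lit 2087), (nat_lit 2108), (nat_lit 2806), (nat_lit 3092), (nat_lit 3348), (nat_lit 3115), (nat_lit 960), (nat_lit 1803),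
 (nat_lit 2098), (nat_lit 2348), (nat_lit 3716), (nat_lit 3917), (nat_lit 3579), (nat_lit 3470), (nat_lit 1883), (nat_lit 1903), (nat_lit 2064), (nat_lit 2167), (nat_lit 2546), (nat_lit 2139), (nat_lit 2623), (nat_lit 2721), (nat_lit 3276), (nat_lit 2974), (nat_lit 3845), (nat_lit 3965), (nat_lit 2494), (nat_lit 2212), (nat_lit 143), (nat_lit 3), (nat_lit 3095), (nat_lit 3336), (nat_lit 4011), (nat_lit 4021), (nat_lit 2103), (nat_lit 2215), (nat_lit 1267), (nat_lit 1569),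
 (nat_lit 3450), (nat_lit 3751), (nat_lit 3106), (nat_lit 2799), (nat_lit 2542), (nat_lit 1888), (nat_lit 732), (nat_lit 922), (nat_lit 3274), (nat_lit 2972), (nat_lit 3997), (nat_lit 3913), (nat_lit 3987), (nat_lit 3896), (nat_lit 3521), (nat_lit 3441), (nat_lit 2669), (nat_lit 2743), (nat_lit 2181), (nat_lit 2140), (nat_lit 3812), (nat_lit 3776), (nat_lit 3512), (nat_lit 3585), (nat_lit 158), (nat_lit 874), (nat_lit 1439), (nat_lit 1822), (nat_lit 3523), (nat_lit 3459),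
 (nat_lit 3111), (nat_lit 2947), (nat_lit 1917), (nat_lit 2532), (nat_lit 1239), (nat_lit 1809), (nat_lit 3124), (nat_lit 3353), (nat_lit 3980), (nat_lit 3880), (nat_lit 2693), (nat_lit 2522), (nat_lit 1262), (nat_lit 1771), (nat_lit 2943), (nat_lit 2923), (nat_lit 1765), (nat_lit 1851), (nat_lit 3851), (nat_lit 3886), (nat_lit 3420), (nat_lit 3670), (nat_lit 872), (nat_lit 156), (nat_lit 2209), (nat_lit 2110), (nat_lit 3892), (nat_lit 3985), (nat_lit 3763), (nat_lit 3454),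
 (nat_lit 1870), (nat_lit 1880), (nat_lit 2152), (nat_lit 2349), (nat_lit 2955), (nat_lit 3107), (nat_lit 3350), (nat_lit 3120), (nat_lit 1846), (nat_lit 1758), (nat_lit 2078), (nat_lit 2118), (nat_lit 3993), (nat_lit 3903), (nat_lit 3418), (nat_lit 3669), (nat_lit 3352), (nat_lit 3122), (nat_lit 3841), (nat_lit 3887), (nat_lit 1763), (nat_lit 1850), (nat_lit 2820), (nat_lit 2912), (nat_lit 3526), (nat_lit 3457), (nat_lit 3814), (nat_lit 3953), (nat_lit 2199), (nat_lit 2528),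
 (nat_lit 8), (nat_lit 148), (nat_lit 2165), (nat_lit 2558), (nat_lit 2896), (nat_lit 2819), (nat_lit 3066), (nat_lit 3322), (nat_lit 4020), (nat_lit 4016), (nat_lit 2487), (nat_lit 2097), (nat_lit 157), (nat_lit 873), (nat_lit 3452), (nat_lit 3528), (nat_lit 3960), (nat_lit 3836), (nat_lit 2829), (nat_lit 3088), (nat_lit 3510), (nat_lit 3747), (nat_lit 1256), (nat_lit 1294), (nat_lit 1828), (nat_lit 1594), (nat_lit 3950), (nat_lit 3807), (nat_lit 3327), (nat_lit 3075),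
 (nat_lit 1251), (nat_lit 1770), (nat_lit 2544), (nat_lit 2590), (nat_lit 4017), (nat_lit 4029), (nat_lit 3678), (nat_lit 3505), (nat_lit 2877), (nat_lit 2822), (nat_lit 2164), (nat_lit 1890), (nat_lit 3888), (nat_lit 3721), (nat_lit 3620), (nat_lit 3451), (nat_lit 144), (nat_lit 4), (nat_lit 2660), (nat_lit 2492), (nat_lit 1818), (nat_lit 1304), (nat_lit 1288), (nat_lit 1780), (nat_lit 3448), (nat_lit 3531), (nat_lit 3061), (nat_lit 2842), (nat_lit 2142), (nat_lit 2095),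
 (nat_lit 1762), (nat_lit 1849), (nat_lit 3321), (nat_lit 3065), (nat_lit 3736), (nat_lit 3907), (nat_lit 2718), (nat_lit 2608), (nat_lit 2115), (nat_lit 2524), (nat_lit 3992), (nat_lit 3902), (nat_lit 3445), (nat_lit 3519), (nat_lit 10), (nat_lit 150), (nat_lit 1915), (nat_lit 2663), (nat_lit 3932), (nat_lit 3746), (nat_lit 3671), (nat_lit 3434), (nat_lit 3624), (nat_lit 3524), (nat_lit 3086), (nat_lit 2763), (nat_lit 2128), (nat_lit 2207), (nat_lit 1782), (nat_lit 1298),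
 (nat_lit 3299), (nat_lit 3025), (nat_lit 3884), (nat_lit 3852), (nat_lit 1853), (nat_lit 1767), (nat_lit 1868), (nat_lit 2057), (nat_lit 3647), (nat_lit 3513), (nat_lit 3994), (nat_lit 3905), (nat_lit 2116), (nat_lit 2080), (nat_lit 2941), (nat_lit 2755), (nat_lit 3433), (nat_lit 3694), (nat_lit 3724), (nat_lit 3895), (nat_lit 1836), (nat_lit 1739), (nat_lit 2), (nat_lit 142), (nat_lit 904), (nat_lit 453), (nat_lit 2131), (nat_lit 2213), (nat_lit 2776), (nat_lit 3074),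
 (nat_lit 3762), (nat_lit 3431), (nat_lit 1761), (nat_lit 1273), (nat_lit 2548), (nat_lit 1912), (nat_lit 3840), (nat_lit 3963), (nat_lit 3649), (nat_lit 3540), (nat_lit 4038), (nat_lit 4078), (nat_lit 4077), (nat_lit 4057), (nat_lit 803), (nat_lit 793), (nat_lit 769), (nat_lit 805), (nat_lit 3340), (nat_lit 3102), (nat_lit 3560), (nat_lit 3637), (nat_lit 847), (nat_lit 849), (nat_lit 783), (nat_lit 857), (nat_lit 446), (nat_lit 432), (nat_lit 381), (nat_lit 452),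
 (nat_lit 2523), (nat_lit 2193), (nat_lit 1852), (nat_lit 1766), (nat_lit 785), (nat_lit 752), (nat_lit 833), (nat_lit 735), (nat_lit 2081), (nat_lit 2104), (nat_lit 934), (nat_lit 1800), (nat_lit 328), (nat_lit 419), (nat_lit 337), (nat_lit 424), (nat_lit 4040), (nat_lit 4082), (nat_lit 4069), (nat_lit 4039), (nat_lit 430), (nat_lit 344), (nat_lit 340), (nat_lit 408), (nat_lit 3689), (nat_lit 3525), (nat_lit 3635), (nat_lit 3549), (nat_lit 2609), (nat_lit 2513),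
 (nat_lit 2121), (nat_lit 2641), (nat_lit 786), (nat_lit 782), (nat_lit 756), (nat_lit 762), (nat_lit 910), (nat_lit 462), (nat_lit 2096), (nat_lit 2178), (nat_lit 416), (nat_lit 385), (nat_lit 357), (nat_lit 346), (nat_lit 403), (nat_lit 449), (nat_lit 441), (nat_lit 411), (nat_lit 2692), (nat_lit 2511), (nat_lit 2589), (nat_lit 2613), (nat_lit 750), (nat_lit 766), (nat_lit 851), (nat_lit 741), (nat_lit 1891), (nat_lit 2153), (nat_lit 458), (nat_lit 166),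
 (nat_lit 4054), (nat_lit 4070), (nat_lit 4036), (nat_lit 4061), (nat_lit 796), (nat_lit 789), (nat_lit 740), (nat_lit 813), (nat_lit 3109), (nat_lit 3344), (nat_lit 3750), (nat_lit 3517), (nat_lit 830), (nat_lit 827), (nat_lit 764), (nat_lit 860), (nat_lit 2598), (nat_lit 2619), (nat_lit 1832), (nat_lit 1731), (nat_lit 842), (nat_lit 749), (nat_lit 753), (nat_lit 820), (nat_lit 892), (nat_lit 310), (nat_lit 1914), (nat_lit 1919), (nat_lit 429), (nat_lit 342),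
 (nat_lit 417), (nat_lit 349), (nat_lit 334), (nat_lit 421), (nat_lit 331), (nat_lit 382), (nat_lit 4086), (nat_lit 4083), (nat_lit 4079), (nat_lit 4084), (nat_lit 372), (nat_lit 347), (nat_lit 379), (nat_lit 404), (nat_lit 3749), (nat_lit 3511), (nat_lit 3803), (nat_lit 3748), (nat_lit 380), (nat_lit 353), (nat_lit 370), (nat_lit 389), (nat_lit 3385), (nat_lit 3212), (nat_lit 3665), (nat_lit 3432), (nat_lit 365), (nat_lit 450), (nat_lit 325), (nat_lit 425),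
 (nat_lit 4034), (nat_lit 4081), (nat_lit 4052), (nat_lit 4049), (nat_lit 2065), (nat_lit 1875), (nat_lit 912), (nat_lit 464), (nat_lit 332), (nat_lit 393), (nat_lit 375), (nat_lit 443), (nat_lit 1856), (nat_lit 1774), (nat_lit 2189), (nat_lit 2615), (nat_lit 814), (nat_lit 744), (nat_lit 817), (nat_lit 760), (nat_lit 3220), (nat_lit 3390), (nat_lit 3800), (nat_lit 3622), (nat_lit 826), (nat_lit 816), (nat_lit 823), (nat_lit 858), (nat_lit 4094), (nat_lit 4068),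
 (nat_lit 4051), (nat_lit 4035), (nat_lit 758), (nat_lit 811), (nat_lit 751), (nat_lit 844), (nat_lit 778), (nat_lit 747), (nat_lit 825), (nat_lit 737), (nat_lit 162), (nat_lit 878), (nat_lit 1595), (nat_lit 1571), (nat_lit 413), (nat_lit 409), (nat_lit 391), (nat_lit 418), (nat_lit 2117), (nat_lit 2618), (nat_lit 2515), (nat_lit 2549), (nat_lit 2070), (nat_lit 2479), (nat_lit 888), (nat_lit 306), (nat_lit 356), (nat_lit 399), (nat_lit 378), (nat_lit 386),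
 (nat_lit 2553), (nat_lit 2107), (nat_lit 2614), (nat_lit 2620), (nat_lit 801), (nat_lit 780), (nat_lit 809), (nat_lit 798), (nat_lit 402), (nat_lit 351), (nat_lit 336), (nat_lit 395), (nat_lit 3480), (nat_lit 3805), (nat_lit 3113), (nat_lit 3346), (nat_lit 345), (nat_lit 439), (nat_lit 326), (nat_lit 383), (nat_lit 4091), (nat_lit 4059), (nat_lit 4048), (nat_lit 4090), (nat_lit 822), (nat_lit 757), (nat_lit 792), (nat_lit 743), (nat_lit 170), (nat_lit 459),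
 (nat_lit 2200), (nat_lit 2129), (nat_lit 436), (nat_lit 438), (nat_lit 420), (nat_lit 412), (nat_lit 2746), (nat_lit 2769), (nat_lit 2681), (nat_lit 2180), (nat_lit 3490), (nat_lit 3581), (nat_lit 3802), (nat_lit 3623), (nat_lit 824), (nat_lit 843), (nat_lit 846), (nat_lit 855), (nat_lit 4033), (nat_lit 4065), (nat_lit 4093), (nat_lit 4085), (nat_lit 771), (nat_lit 755), (nat_lit 787), (nat_lit 832), (nat_lit 2145), (nat_lit 2554), (nat_lit 2612), (nat_lit 2059),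
 (nat_lit 435), (nat_lit 397), (nat_lit 406), (nat_lit 445), (nat_lit 2077), (nat_lit 2073), (nat_lit 933), (nat_lit 948), (nat_lit 839), (nat_lit 736), (nat_lit 776), (nat_lit 748), (nat_lit 818), (nat_lit 774), (nat_lit 802), (nat_lit 779), (nat_lit 4050), (nat_lit 4043), (nat_lit 4046), (nat_lit 4073), (nat_lit 859), (nat_lit 835), (nat_lit 808), (nat_lit 838), (nat_lit 3529), (nat_lit 3663), (nat_lit 3224), (nat_lit 3393), (nat_lit 791), (nat_lit 781),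
 (nat_lit 815), (nat_lit 738), (nat_lit 2166), (nat_lit 2600), (nat_lit 2545), (nat_lit 2092), (nat_lit 355), (nat_lit 442), (nat_lit 338), (nat_lit 394), (nat_lit 460), (nat_lit 908), (nat_lit 2132), (nat_lit 2125), (nat_lit 4062), (nat_lit 4037), (nat_lit 4053), (nat_lit 4042), (nat_lit 343), (nat_lit 422), (nat_lit 327), (nat_lit 368), (nat_lit 3331), (nat_lit 3079), (nat_lit 3190), (nat_lit 3372), (nat_lit 405), (nat_lit 350), (nat_lit 373), (nat_lit 423),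
 (nat_lit 768), (nat_lit 812), (nat_lit 772), (nat_lit 790), (nat_lit 4063), (nat_lit 4076), (nat_lit 4041), (nat_lit 4056), (nat_lit 856), (nat_lit 853), (nat_lit 829), (nat_lit 854), (nat_lit 3533), (nat_lit 3828), (nat_lit 3046), (nat_lit 3314), (nat_lit 2157), (nat_lit 2648), (nat_lit 2714), (nat_lit 2594), (nat_lit 428), (nat_lit 407), (nat_lit 444), (nat_lit 434), (nat_lit 1881), (nat_lit 1886), (nat_lit 11), (nat_lit 151), (nat_lit 795), (nat_lit 742),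
 (nat_lit 836), (nat_lit 754), (nat_lit 4074), (nat_lit 4055), (nat_lit 4060), (nat_lit 4072), (nat_lit 363), (nat_lit 377), (nat_lit 333), (nat_lit 348), (nat_lit 3029), (nat_lit 3303), (nat_lit 3674), (nat_lit 3486), (nat_lit 427), (nat_lit 330), (nat_lit 371), (nat_lit 431), (nat_lit 794), (nat_lit 799), (nat_lit 807), (nat_lit 759), (nat_lit 2715), (nat_lit 2603), (nat_lit 1909), (nat_lit 2051), (nat_lit 414), (nat_lit 387), (nat_lit 376), (nat_lit 400),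
 (nat_lit 906), (nat_lit 455), (nat_lit 1819), (nat_lit 1305), (nat_lit 358), (nat_lit 366), (nat_lit 415), (nat_lit 392), (nat_lit 1791), (nat_lit 1862), (nat_lit 461), (nat_lit 909), (nat_lit 777), (nat_lit 761), (nat_lit 763), (nat_lit 767), (nat_lit 1889), (nat_lit 2061), (nat_lit 2677), (nat_lit 2141), (nat_lit 3630), (nat_lit 3557), (nat_lit 3617), (nat_lit 3698), (nat_lit 396), (nat_lit 360), (nat_lit 364), (nat_lit 401), (nat_lit 4045), (nat_lit 4071),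
 (nat_lit 4032), (nat_lit 4064), (nat_lit 339), (nat_lit 426), (nat_lit 329), (nat_lit 361), (nat_lit 947), (nat_lit 931), (nat_lit 1834), (nat_lit 1737), (nat_lit 745), (nat_lit 765), (nat_lit 850), (nat_lit 733), (nat_lit 2674), (nat_lit 2088), (nat_lit 2536), (nat_lit 2170), (nat_lit 451), (nat_lit 440), (nat_lit 374), (nat_lit 410), (nat_lit 852), (nat_lit 845), (nat_lit 848), (nat_lit 800), (nat_lit 3639), (nat_lit 3558), (nat_lit 3688), (nat_lit 3461),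
 (nat_lit 819), (nat_lit 788), (nat_lit 804), (nat_lit 841), (nat_lit 4058), (nat_lit 4087), (nat_lit 4080), (nat_lit 4089), (nat_lit 3829), (nat_lit 3652), (nat_lit 3535), (nat_lit 3760), (nat_lit 433), (nat_lit 390), (nat_lit 367), (nat_lit 352), (nat_lit 4044), (nat_lit 4066), (nat_lit 4067), (nat_lit 4092), (nat_lit 359), (nat_lit 388), (nat_lit 335), (nat_lit 341), (nat_lit 384), (nat_lit 369), (nat_lit 398), (nat_lit 362), (nat_lit 2506), (nat_lit 2100),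
 (nat_lit 896), (nat_lit 314), (nat_lit 775), (nat_lit 797), (nat_lit 806), (nat_lit 773), (nat_lit 2079), (nat_lit 2521), (nat_lit 2616), (nat_lit 2622), (nat_lit 834), (nat_lit 821), (nat_lit 828), (nat_lit 840), (nat_lit 3781), (nat_lit 3611), (nat_lit 3458), (nat_lit 3825), (nat_lit 837), (nat_lit 746), (nat_lit 770), (nat_lit 810), (nat_lit 4075), (nat_lit 4088), (nat_lit 4047), (nat_lit 4095), (nat_lit 302), (nat_lit 886), (nat_lit 2175), (nat_lit 2530),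
 (nat_lit 784), (nat_lit 739), (nat_lit 831), (nat_lit 734), (nat_lit 1905), (nat_lit 2585), (nat_lit 2134), (nat_lit 2547), (nat_lit 447), (nat_lit 448), (nat_lit 437), (nat_lit 354), (nat_lit 3099), (nat_lit 1468), (nat_lit 2946), (nat_lit 1504), (nat_lit 1315), (nat_lit 2759), (nat_lit 1356), (nat_lit 2787), (nat_lit 2719), (nat_lit 1420), (nat_lit 2617), (nat_lit 1350), (nat_lit 1431), (nat_lit 3991), (nat_lit 1417), (nat_lit 3901), (nat_lit 3942), (nat_lit 1554),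
 (nat_lit 3784), (nat_lit 1440), (nat_lit 1348), (nat_lit 3038), (nat_lit 1412), (nat_lit 2937), (nat_lit 1749), (nat_lit 1447), (nat_lit 1258), (nat_lit 1498), (nat_lit 1511), (nat_lit 2711), (nat_lit 1562), (nat_lit 2582), (nat_lit 1433), (nat_lit 3878), (nat_lit 1367), (nat_lit 3979), (nat_lit 2805), (nat_lit 1548), (nat_lit 3266), (nat_lit 1557), (nat_lit 1404), (nat_lit 1582), (nat_lit 1362), (nat_lit 955), (nat_lit 2652), (nat_lit 1402), (nat_lit 2735), (nat_lit 1329),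
 (nat_lit 1328), (nat_lit 2870), (nat_lit 1341), (nat_lit 3059), (nat_lit 2571), (nat_lit 1493), (nat_lit 2570), (nat_lit 1478), (nat_lit 1521), (nat_lit 2916), (nat_lit 1487), (nat_lit 3180), (nat_lit 3710), (nat_lit 1494), (nat_lit 3871), (nat_lit 1462), (nat_lit 1376), (nat_lit 2772), (nat_lit 1316), (nat_lit 3098), (nat_lit 2858), (nat_lit 1473), (nat_lit 2906), (nat_lit 1454), (nat_lit 1466), (nat_lit 2630), (nat_lit 1553), (nat_lit 2726), (nat_lit 3862), (nat_lit 1491),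
 (nat_lit 3912), (nat_lit 1506), (nat_lit 1381), (nat_lit 3914), (nat_lit 1421), (nat_lit 3712), (nat_lit 3018), (nat_lit 1515), (nat_lit 2954), (nat_lit 1537), (nat_lit 1339), (nat_lit 1576), (nat_lit 1385), (nat_lit 1742), (nat_lit 2830), (nat_lit 1427), (nat_lit 2869), (nat_lit 1351), (nat_lit 3713), (nat_lit 1522), (nat_lit 3915), (nat_lit 1441), (nat_lit 1360), (nat_lit 2883), (nat_lit 1355), (nat_lit 3041), (nat_lit 913), (nat_lit 1474), (nat_lit 465), (nat_lit 1480),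
 (nat_lit 1565), (nat_lit 2780), (nat_lit 1500), (nat_lit 2796), (nat_lit 3195), (nat_lit 1530), (nat_lit 2798), (nat_lit 1545), (nat_lit 1336), (nat_lit 2659), (nat_lit 1321), (nat_lit 2738), (nat_lit 3181), (nat_lit 1432), (nat_lit 2911), (nat_lit 1325), (nat_lit 1413), (nat_lit 3922), (nat_lit 1392), (nat_lit 3728), (nat_lit 1528), (nat_lit 2841), (nat_lit 1472), (nat_lit 3036), (nat_lit 3924), (nat_lit 1436), (nat_lit 3730), (nat_lit 1389), (nat_lit 1378), (nat_lit 2701),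
 (nat_lit 1319), (nat_lit 2556), (nat_lit 966), (nat_lit 1406), (nat_lit 1580), (nat_lit 1391), (nat_lit 1516), (nat_lit 2541), (nat_lit 1496), (nat_lit 2482), (nat_lit 2708), (nat_lit 1387), (nat_lit 2577), (nat_lit 1344), (nat_lit 1452), (nat_lit 3753), (nat_lit 1518), (nat_lit 3933), (nat_lit 2935), (nat_lit 1445), (nat_lit 2948), (nat_lit 1486), (nat_lit 2749), (nat_lit 1397), (nat_lit 2757), (nat_lit 1357), (nat_lit 1555), (nat_lit 3073), (nat_lit 1566), (nat_lit 3010),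
 (nat_lit 3977), (nat_lit 1426), (nat_lit 3876), (nat_lit 1340), (nat_lit 1411), (nat_lit 2804), (nat_lit 1312), (nat_lit 2876), (nat_lit 3269), (nat_lit 1347), (nat_lit 2918), (nat_lit 1327), (nat_lit 1533), (nat_lit 3909), (nat_lit 1450), (nat_lit 3726), (nat_lit 2872), (nat_lit 1538), (nat_lit 2754), (nat_lit 1497), (nat_lit 1470), (nat_lit 1269), (nat_lit 1485), (nat_lit 1598), (nat_lit 2728), (nat_lit 1317), (nat_lit 2636), (nat_lit 1373), (nat_lit 1558), (nat_lit 3860),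
 (nat_lit 1444), (nat_lit 3970), (nat_lit 2930), (nat_lit 1509), (nat_lit 2811), (nat_lit 1561), (nat_lit 1477), (nat_lit 1597), (nat_lit 1519), (nat_lit 1246), (nat_lit 2345), (nat_lit 1338), (nat_lit 2682), (nat_lit 1379), (nat_lit 1527), (nat_lit 3087), (nat_lit 1513), (nat_lit 2828), (nat_lit 3790), (nat_lit 1375), (nat_lit 3946), (nat_lit 1407), (nat_lit 1386), (nat_lit 2932), (nat_lit 1318), (nat_lit 2952), (nat_lit 1552), (nat_lit 2480), (nat_lit 1532), (nat_lit 2684),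
 (nat_lit 2907), (nat_lit 1377), (nat_lit 3090), (nat_lit 1354), (nat_lit 1458), (nat_lit 3777), (nat_lit 1514), (nat_lit 3735), (nat_lit 2801), (nat_lit 1464), (nat_lit 2881), (nat_lit 1451), (nat_lit 1523), (nat_lit 3024), (nat_lit 1488), (nat_lit 3012), (nat_lit 3921), (nat_lit 1369), (nat_lit 3727), (nat_lit 1435), (nat_lit 1416), (nat_lit 2706), (nat_lit 1313), (nat_lit 2572), (nat_lit 1744), (nat_lit 1423), (nat_lit 1279), (nat_lit 1430), (nat_lit 3944), (nat_lit 1446),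
 (nat_lit 3787), (nat_lit 1499), (nat_lit 1508), (nat_lit 3184), (nat_lit 1482), (nat_lit 3143), (nat_lit 2531), (nat_lit 1560), (nat_lit 2694), (nat_lit 1479), (nat_lit 1361), (nat_lit 3193), (nat_lit 1374), (nat_lit 2878), (nat_lit 2957), (nat_lit 1425), (nat_lit 2761), (nat_lit 1310), (nat_lit 1428), (nat_lit 1588), (nat_lit 1408), (nat_lit 1271), (nat_lit 3009), (nat_lit 1492), (nat_lit 3295), (nat_lit 1556), (nat_lit 1434), (nat_lit 3897), (nat_lit 1372), (nat_lit 3775),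
 (nat_lit 1465), (nat_lit 2902), (nat_lit 1502), (nat_lit 2888), (nat_lit 969), (nat_lit 1490), (nat_lit 1806), (nat_lit 1463), (nat_lit 1332), (nat_lit 2699), (nat_lit 1363), (nat_lit 2552), (nat_lit 3792), (nat_lit 1534), (nat_lit 3948), (nat_lit 1459), (nat_lit 1400), (nat_lit 3976), (nat_lit 1359), (nat_lit 3875), (nat_lit 3359), (nat_lit 1349), (nat_lit 3161), (nat_lit 1346), (nat_lit 1382), (nat_lit 2507), (nat_lit 1333), (nat_lit 2534), (nat_lit 3057), (nat_lit 1564),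
 (nat_lit 2950), (nat_lit 1526), (nat_lit 1384), (nat_lit 3793), (nat_lit 1409), (nat_lit 3709), (nat_lit 3141), (nat_lit 1365), (nat_lit 3185), (nat_lit 1324), (nat_lit 1353), (nat_lit 2484), (nat_lit 1388), (nat_lit 2562), (nat_lit 2802), (nat_lit 1549), (nat_lit 3101), (nat_lit 1531), (nat_lit 1520), (nat_lit 2540), (nat_lit 1456), (nat_lit 2697), (nat_lit 1816), (nat_lit 1495), (nat_lit 1281), (nat_lit 1517), (nat_lit 1368), (nat_lit 3037), (nat_lit 1323), (nat_lit 2903),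
 (nat_lit 3982), (nat_lit 1559), (nat_lit 3883), (nat_lit 1481), (nat_lit 2809), (nat_lit 1398), (nat_lit 2756), (nat_lit 1311), (nat_lit 1393), (nat_lit 1249), (nat_lit 1418), (nat_lit 1596), (nat_lit 3017), (nat_lit 1467), (nat_lit 2823), (nat_lit 1536), (nat_lit 1401), (nat_lit 3743), (nat_lit 1437), (nat_lit 3858), (nat_lit 3794), (nat_lit 1469), (nat_lit 3863), (nat_lit 1550), (nat_lit 1460), (nat_lit 3160), (nat_lit 1546), (nat_lit 3202), (nat_lit 2739), (nat_lit 1535),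
 (nat_lit 2662), (nat_lit 1455), (nat_lit 1334), (nat_lit 2762), (nat_lit 1415), (nat_lit 3085), (nat_lit 1453), (nat_lit 950), (nat_lit 1505), (nat_lit 1802), (nat_lit 2733), (nat_lit 1567), (nat_lit 2649), (nat_lit 1503), (nat_lit 1542), (nat_lit 3756), (nat_lit 1449), (nat_lit 3785), (nat_lit 2866), (nat_lit 1370), (nat_lit 3201), (nat_lit 1364), (nat_lit 1424), (nat_lit 3210), (nat_lit 1366), (nat_lit 3149), (nat_lit 3773), (nat_lit 1419), (nat_lit 3733), (nat_lit 1403),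
 (nat_lit 1524), (nat_lit 3011), (nat_lit 1489), (nat_lit 3055), (nat_lit 2539), (nat_lit 1380), (nat_lit 2696), (nat_lit 1352), (nat_lit 2774), (nat_lit 1461), (nat_lit 3133), (nat_lit 1547), (nat_lit 1475), (nat_lit 3926), (nat_lit 1484), (nat_lit 3734), (nat_lit 2722), (nat_lit 1331), (nat_lit 2624), (nat_lit 1343), (nat_lit 1540), (nat_lit 2792), (nat_lit 1442), (nat_lit 2797), (nat_lit 1600), (nat_lit 1383), (nat_lit 1260), (nat_lit 1345), (nat_lit 1429), (nat_lit 3015),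
 (nat_lit 1320), (nat_lit 2793), (nat_lit 3757), (nat_lit 1337), (nat_lit 3934), (nat_lit 1371), (nat_lit 1529), (nat_lit 2944), (nat_lit 1512), (nat_lit 3162), (nat_lit 920), (nat_lit 1358), (nat_lit 602), (nat_lit 1399), (nat_lit 1414), (nat_lit 2783), (nat_lit 1314), (nat_lit 2846), (nat_lit 3788), (nat_lit 1396), (nat_lit 3910), (nat_lit 1326), (nat_lit 1543), (nat_lit 3016), (nat_lit 1551), (nat_lit 2794), (nat_lit 3187), (nat_lit 1510), (nat_lit 3151), (nat_lit 1483),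
 (nat_lit 1471), (nat_lit 3908), (nat_lit 1501), (nat_lit 3881), (nat_lit 3089), (nat_lit 1322), (nat_lit 2913), (nat_lit 1410), (nat_lit 1541), (nat_lit 2703), (nat_lit 1448), (nat_lit 2561), (nat_lit 1394), (nat_lit 2770), (nat_lit 1395), (nat_lit 3131), (nat_lit 3742), (nat_lit 1405), (nat_lit 3754), (nat_lit 1422), (nat_lit 1507), (nat_lit 3093), (nat_lit 1544), (nat_lit 2837), (nat_lit 2568), (nat_lit 1330), (nat_lit 2661), (nat_lit 1390), (nat_lit 1476), (nat_lit 1584),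
 (nat_lit 1457), (nat_lit 1577), (nat_lit 2765), (nat_lit 1525), (nat_lit 2864), (nat_lit 1563), (nat_lit 1539), (nat_lit 3925), (nat_lit 1443), (nat_lit 3731), (nat_lit 3042), (nat_lit 1335), (nat_lit 2927), (nat_lit 1342), (nat_lit 1591), (nat_lit 1102), (nat_lit 2838), (nat_lit 2863), (nat_lit 1860), (nat_lit 1783), (nat_lit 2655), (nat_lit 2664), (nat_lit 32), (nat_lit 102), (nat_lit 15), (nat_lit 126), (nat_lit 201), (nat_lit 174), (nat_lit 262), (nat_lit 190),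
 (nat_lit 272), (nat_lit 263), (nat_lit 246), (nat_lit 268), (nat_lit 277), (nat_lit 207), (nat_lit 193), (nat_lit 275), (nat_lit 3833), (nat_lit 3957), (nat_lit 3929), (nat_lit 3739), (nat_lit 3936), (nat_lit 3764), (nat_lit 3873), (nat_lit 3975), (nat_lit 294), (nat_lit 283), (nat_lit 284), (nat_lit 291), (nat_lit 234), (nat_lit 226), (nat_lit 218), (nat_lit 293), (nat_lit 4025), (nat_lit 4012), (nat_lit 3715), (nat_lit 3916), (nat_lit 3983), (nat_lit 3885),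
 (nat_lit 3810), (nat_lit 3732), (nat_lit 1300), (nat_lit 1105), (nat_lit 2853), (nat_lit 2904), (nat_lit 1735), (nat_lit 1100), (nat_lit 2781), (nat_lit 2758), (nat_lit 55), (nat_lit 130), (nat_lit 21), (nat_lit 87), (nat_lit 224), (nat_lit 180), (nat_lit 260), (nat_lit 215), (nat_lit 95), (nat_lit 18), (nat_lit 77), (nat_lit 45), (nat_lit 203), (nat_lit 278), (nat_lit 177), (nat_lit 188), (nat_lit 2851), (nat_lit 2849), (nat_lit 1734), (nat_lit 1790),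
 (nat_lit 2625), (nat_lit 2723), (nat_lit 902), (nat_lit 323), (nat_lit 3838), (nat_lit 3889), (nat_lit 4022), (nat_lit 4004), (nat_lit 3752), (nat_lit 3711), (nat_lit 3832), (nat_lit 3956), (nat_lit 43), (nat_lit 136), (nat_lit 78), (nat_lit 135), (nat_lit 140), (nat_lit 91), (nat_lit 20), (nat_lit 67), (nat_lit 3808), (nat_lit 3951), (nat_lit 4018), (nat_lit 4014), (nat_lit 3755), (nat_lit 3707), (nat_lit 3961), (nat_lit 3837), (nat_lit 101), (nat_lit 113),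
 (nat_lit 120), (nat_lit 93), (nat_lit 83), (nat_lit 139), (nat_lit 48), (nat_lit 26), (nat_lit 61), (nat_lit 39), (nat_lit 29), (nat_lit 109), (nat_lit 178), (nat_lit 265), (nat_lit 197), (nat_lit 222), (nat_lit 2868), (nat_lit 2985), (nat_lit 1252), (nat_lit 1812), (nat_lit 2666), (nat_lit 2741), (nat_lit 911), (nat_lit 463), (nat_lit 49), (nat_lit 122), (nat_lit 100), (nat_lit 35), (nat_lit 104), (nat_lit 125), (nat_lit 70), (nat_lit 111),
 (nat_lit 3893), (nat_lit 3986), (nat_lit 3823), (nat_lit 3859), (nat_lit 3968), (nat_lit 3853), (nat_lit 3835), (nat_lit 3959), (nat_lit 2747), (nat_lit 2933), (nat_lit 1814), (nat_lit 1265), (nat_lit 2889), (nat_lit 2835), (nat_lit 1788), (nat_lit 1585), (nat_lit 198), (nat_lit 235), (nat_lit 191), (nat_lit 247), (nat_lit 53), (nat_lit 33), (nat_lit 64), (nat_lit 37), (nat_lit 2753), (nat_lit 2795), (nat_lit 1268), (nat_lit 1815), (nat_lit 2856), (nat_lit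 3019),
 (nat_lit 1583), (nat_lit 1234), (nat_lit 231), (nat_lit 192), (nat_lit 204), (nat_lit 221), (nat_lit 60), (nat_lit 75), (nat_lit 25), (nat_lit 98), (nat_lit 76), (nat_lit 68), (nat_lit 57), (nat_lit 90), (nat_lit 80), (nat_lit 127), (nat_lit 121), (nat_lit 47), (nat_lit 3811), (nat_lit 3890), (nat_lit 3870), (nat_lit 3822), (nat_lit 3767), (nat_lit 3894), (nat_lit 3940), (nat_lit 3778), (nat_lit 3879), (nat_lit 3818), (nat_lit 3791), (nat_lit 3947),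
 (nat_lit 4010), (nat_lit 4002), (nat_lit 3761), (nat_lit 3935), (nat_lit 244), (nat_lit 281), (nat_lit 253), (nat_lit 179), (nat_lit 238), (nat_lit 202), (nat_lit 206), (nat_lit 254), (nat_lit 271), (nat_lit 230), (nat_lit 237), (nat_lit 172), (nat_lit 13), (nat_lit 137), (nat_lit 71), (nat_lit 129), (nat_lit 961), (nat_lit 1804), (nat_lit 2621), (nat_lit 2720), (nat_lit 1590), (nat_lit 1276), (nat_lit 2861), (nat_lit 2951), (nat_lit 288), (nat_lit 259),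
 (nat_lit 279), (nat_lit 173), (nat_lit 14), (nat_lit 118), (nat_lit 96), (nat_lit 99), (nat_lit 594), (nat_lit 914), (nat_lit 2744), (nat_lit 2670), (nat_lit 1278), (nat_lit 1289), (nat_lit 2899), (nat_lit 2867), (nat_lit 3877), (nat_lit 3978), (nat_lit 3844), (nat_lit 3770), (nat_lit 3990), (nat_lit 3900), (nat_lit 3911), (nat_lit 3996), (nat_lit 285), (nat_lit 239), (nat_lit 287), (nat_lit 185), (nat_lit 257), (nat_lit 267), (nat_lit 229), (nat_lit 269),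
 (nat_lit 3984), (nat_lit 3891), (nat_lit 3938), (nat_lit 3768), (nat_lit 3717), (nat_lit 3821), (nat_lit 3847), (nat_lit 3865), (nat_lit 280), (nat_lit 225), (nat_lit 298), (nat_lit 223), (nat_lit 219), (nat_lit 228), (nat_lit 232), (nat_lit 292), (nat_lit 46), (nat_lit 42), (nat_lit 23), (nat_lit 110), (nat_lit 290), (nat_lit 182), (nat_lit 282), (nat_lit 211), (nat_lit 2879), (nat_lit 2821), (nat_lit 1243), (nat_lit 1587), (nat_lit 2686), (nat_lit 2499),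
 (nat_lit 1787), (nat_lit 951), (nat_lit 27), (nat_lit 62), (nat_lit 17), (nat_lit 105), (nat_lit 264), (nat_lit 176), (nat_lit 242), (nat_lit 186), (nat_lit 2945), (nat_lit 2815), (nat_lit 1301), (nat_lit 1245), (nat_lit 2557), (nat_lit 2702), (nat_lit 928), (nat_lit 868), (nat_lit 4000), (nat_lit 4030), (nat_lit 3769), (nat_lit 3861), (nat_lit 3846), (nat_lit 3904), (nat_lit 4013), (nat_lit 4005), (nat_lit 251), (nat_lit 210), (nat_lit 248), (nat_lit 240),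
 (nat_lit 196), (nat_lit 209), (nat_lit 276), (nat_lit 274), (nat_lit 51), (nat_lit 115), (nat_lit 132), (nat_lit 84), (nat_lit 116), (nat_lit 69), (nat_lit 31), (nat_lit 124), (nat_lit 3962), (nat_lit 3839), (nat_lit 3919), (nat_lit 3719), (nat_lit 3899), (nat_lit 3989), (nat_lit 3949), (nat_lit 3806), (nat_lit 1733), (nat_lit 1789), (nat_lit 2892), (nat_lit 2816), (nat_lit 1285), (nat_lit 963), (nat_lit 2533), (nat_lit 2695), (nat_lit 58), (nat_lit 44),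
 (nat_lit 56), (nat_lit 30), (nat_lit 249), (nat_lit 216), (nat_lit 205), (nat_lit 220), (nat_lit 1810), (nat_lit 1241), (nat_lit 2825), (nat_lit 2991), (nat_lit 965), (nat_lit 1579), (nat_lit 2478), (nat_lit 2683), (nat_lit 94), (nat_lit 19), (nat_lit 85), (nat_lit 40), (nat_lit 199), (nat_lit 236), (nat_lit 258), (nat_lit 217), (nat_lit 119), (nat_lit 66), (nat_lit 108), (nat_lit 88), (nat_lit 50), (nat_lit 86), (nat_lit 81), (nat_lit 54),
 (nat_lit 3766), (nat_lit 3937), (nat_lit 3941), (nat_lit 3783), (nat_lit 4006), (nat_lit 4009), (nat_lit 3815), (nat_lit 3780), (nat_lit 255), (nat_lit 183), (nat_lit 195), (nat_lit 233), (nat_lit 65), (nat_lit 74), (nat_lit 24), (nat_lit 72), (nat_lit 949), (nat_lit 1302), (nat_lit 2503), (nat_lit 2688), (nat_lit 1736), (nat_lit 1589), (nat_lit 2847), (nat_lit 2826), (nat_lit 3943), (nat_lit 3786), (nat_lit 3820), (nat_lit 3955), (nat_lit 3882), (nat_lit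 3981),
 (nat_lit 3737), (nat_lit 3927), (nat_lit 82), (nat_lit 59), (nat_lit 133), (nat_lit 73), (nat_lit 89), (nat_lit 114), (nat_lit 63), (nat_lit 117), (nat_lit 3789), (nat_lit 3945), (nat_lit 3738), (nat_lit 3928), (nat_lit 3816), (nat_lit 3954), (nat_lit 4008), (nat_lit 4015), (nat_lit 38), (nat_lit 92), (nat_lit 112), (nat_lit 107), (nat_lit 138), (nat_lit 128), (nat_lit 97), (nat_lit 106), (nat_lit 200), (nat_lit 194), (nat_lit 184), (nat_lit 213),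
 (nat_lit 134), (nat_lit 34), (nat_lit 36), (nat_lit 41), (nat_lit 943), (nat_lit 1575), (nat_lit 2555), (nat_lit 2700), (nat_lit 1784), (nat_lit 1247), (nat_lit 2963), (nat_lit 2897), (nat_lit 2650), (nat_lit 2563), (nat_lit 1586), (nat_lit 1826), (nat_lit 2914), (nat_lit 2818), (nat_lit 1292), (nat_lit 1254), (nat_lit 299), (nat_lit 181), (nat_lit 256), (nat_lit 212), (nat_lit 52), (nat_lit 103), (nat_lit 22), (nat_lit 79), (nat_lit 286), (nat_lit 227),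
 (nat_lit 266), (nat_lit 189), (nat_lit 295), (nat_lit 261), (nat_lit 270), (nat_lit 289), (nat_lit 3998), (nat_lit 4003), (nat_lit 3774), (nat_lit 3939), (nat_lit 3720), (nat_lit 3920), (nat_lit 3872), (nat_lit 3974), (nat_lit 245), (nat_lit 208), (nat_lit 252), (nat_lit 214), (nat_lit 273), (nat_lit 243), (nat_lit 297), (nat_lit 241), (nat_lit 3964), (nat_lit 3843), (nat_lit 4026), (nat_lit 4001), (nat_lit 3855), (nat_lit 3782), (nat_lit 4031), (nat_lit 4007),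
 (nat_lit 2785), (nat_lit 2788), (nat_lit 1581), (nat_lit 967), (nat_lit 2921), (nat_lit 2824), (nat_lit 1299), (nat_lit 1257), (nat_lit 296), (nat_lit 175), (nat_lit 250), (nat_lit 187), (nat_lit 28), (nat_lit 131), (nat_lit 16), (nat_lit 123)]
theorem bw : band (allL bI fun i => Nat.ble (Nat.succ i) 4096) (band (incr (fun w => keyB 819 (aL.map Lev.b) (apL (nat_lit 10) (nat_lit 1023) aT w)) (bI.map bWT.get) 0) (Nat.ble (chainOrd 819 aL) (bI.map bWT.get).length)) = true := by decide +kernel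
theorem bn_0 : allR 0 603 (nodeD 7 2 24 (nat_lit 10) (nat_lit 1023) (fL.map Lev.b) fT aT mA (topN fL) [nat_lit 1, nat_lit 2, nat_lit 3, nat_lit 4, nat_lit 6, nat_lit 7, nat_lit 9, nat_lit 14, nat_lit 21] bWT bPA) = true := by decide +kernel
theorem bn_1 : allR 603 621 (nodeD 7 2 24 (nat_lit 10) (nat_lit 1023) (fL.map Lev.b) fT aT mA (topN fL) [nat_lit 1, nat_lit 2, nat_lit 3, nat_lit 4, nat_lit 6, nat_lit 7, nat_lit 9, nat_lit 14, nat_lit 21] bWT bPA) = true := by decide +kernel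
theorem bn_2 : allR 1224 765 (nodeD 7 2 24 (nat_lit 10) (nat_lit 1023) (fL.map Lev.b) fT aT mA (topN fL) [nat_lit 1, nat_lit 2, nat_lit 3, nat_lit 4, nat_lit 6, nat_lit 7, nat_lit 9, nat_lit 14, nat_lit 21] bWT bPA) = true := by decide +kernel
theorem bn_3 : allR 1989 2007 (nodeD 7 2 24 (nat_lit 10) (nat_lit 1023) (fL.map Lev.b) fT aT mA (topN fL) [nat_lit 1, nat_lit 2, nat_lit 3, nat_lit 4, nat_lit 6, nat_lit 7, nat_lit 9, nat_lit 14, nat_lit 21] bWT bPA) = true := by decide +kernel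
theorem bn_4 : allR 3996 100 (nodeD 7 2 24 (nat_lit 10) (nat_lit 1023) (fL.map Lev.b) fT aT mA (topN fL) [nat_lit 1, nat_lit 2, nat_lit 3, nat_lit 4, nat_lit 6, nat_lit 7, nat_lit 9, nat_lit 14, nat_lit 21] bWT bPA) = true := by decide +kernel
theorem bn : allR 0 4096 (nodeD 7 2 24 (nat_lit 10) (nat_lit 1023) (fL.map Lev.b) fT aT mA (topN fL) [nat_lit 1, nat_lit 2, nat_lit 3, nat_lit 4, nat_lit 6, nat_lit 7, nat_lit 9, nat_lit 14, nat_lit 21] bWT bPA) = true := (allR_add (allR_add (allR_add (allR_add bn_0 bn_1) bn_2) bn_3) bn_4)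
theorem s2 {G : Type*} [Group G] [Finite G] {X : Type*} [MulAction G X] {pt : ℕ → X} (C : Ch G 819 (nat_lit 10) (nat_lit 1023) pt fT fL) {φ} (hφ : MatA 7 2 24 mA C.lets.e (topN fL) φ) {g : G} {j : ℕ} (h : g ^ 2 ^ j = 1) : orderOf g ∈ [nat_lit 1, nat_lit 2, nat_lit 3, nat_lit 4, nat_lit 6, nat_lit 7, nat_lit 9, nat_lit 14, nat_lit 21] ∨ NZ φ g := by
  obtain ⟨N, D, -⟩ := (C.gen (lets_words C.lets aE aw) achain asd atc)
  have hi : ¬ 2 ∣ N.index := fun ⟨c, e⟩ => by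
    have := C.index D
    rw [e, show chainOrd 819 aL = 4096 by decide +kernel, show chainOrd 819 fL = 211341312 by decide +kernel] at this
    omega
  obtain ⟨c, hc⟩ := exists_conj_le Nat.prime_two N hi (A := zpowers g) (by
    obtain ⟨i, -, e⟩ := (Nat.dvd_prime_pow Nat.prime_two).1 (orderOf_dvd_of_pow_eq_one h)
    exact IsPGroup.of_card ((Nat.card_zpowers g).trans e))
  exact C.forest hφ D bw bn (hc g (mem_zpowers g))

end H8.T3
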